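import Cfsg.Agent.Lib.BNPair2

/-! Counting in groups with a (B,N)-pair: sizes of double cosets, coset factorization in the Weyl group. -/

set_option autoImplicit false

namespace Cfsg.Agent.Lib.BNCount

open Cfsg Cfsg.Agent.Lib.BNPair

variable {G : Type*} [Group G] {P : Cfsg.BNPair G}

/-- The size of the product of double cosets. -/
theorem card_Cw_mul [Finite G] {x w : W P} (hx : x ∈ Sb P) (hle : len P w ≤ len P (x * w)) :
    Nat.card (Cw P x) * Nat.card (Cw P w) = Nat.card (Cw P (x * w)) * Nat.card P.B := by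
  classical
  have : Fintype (Cw P (x * w)) := Fintype.ofFinite _
  let f : (Cw P x) × (Cw P w) → Cw P (x * w) := fun p => ⟨p.1.1 * p.2.1, typeI hx hle p.1.2 p.2.2⟩
  have h1 : Nat.card ((Cw P x) × (Cw P w)) = Nat.card (Σ y : Cw P (x * w), {p // f p = y}) :=
    Nat.card_congr (Equiv.sigmaFiberEquiv f).symm
  rw [← Nat.card_prod, h1, Nat.card_sigma]
  have hfib : ∀ y : Cw P (x * w), Nat.card {p // f p = y} = Nat.card P.B := by
    intro y
    obtain ⟨s, hsS, hsx⟩ := id hx
    obtain ⟨m, hm⟩ := exists_rep w
    have hy0 : ∀ z : G, z ∈ Cw P (x * w) → z ∈ C P ((s * m : P.N) : G) := by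
      intro z hz
      rw [← hsx, ← hm, ← map_mul] at hz
      exact mem_Cw_mk.1 hz
    have hy := hy0 y y.2
    obtain ⟨b, hb, b', hb', ey⟩ := hy
    have hsC : ∀ t ∈ P.B, b * (s : G) * t ∈ Cw P x := by
      intro t ht
      rw [← hsx]
      exact mem_Cw_mk.2 ⟨b, hb, t, ht, rfl⟩
    have hmC : ∀ t ∈ P.B, t⁻¹ * (m : G) * b' ∈ Cw P w := by
      intro t ht
      rw [← hm]
      exact mem_Cw_mk.2 ⟨t⁻¹, P.B.inv_mem ht, b', hb', rfl⟩
    symm
    refine Nat.card_congr ⟨fun t => ⟨(⟨b * (s : G) * t.1, hsC t.1 t.2⟩, ⟨t.1⁻¹ * (m : G) * b', hmC t.1 t.2⟩), ?_⟩,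
      fun p => ⟨(s : G)⁻¹ * b⁻¹ * p.1.1.1, ?_⟩, ?_, ?_⟩
    · apply Subtype.ext
      show b * (s : G) * t.1 * (t.1⁻¹ * (m : G) * b') = y
      rw [ey]
      push_cast
      group
    · -- the element is in B
      obtain ⟨⟨⟨a, ha⟩, ⟨g, hg⟩⟩, hp⟩ := p
      have e : a * g = y := congrArg Subtype.val hp
      show (s : G)⁻¹ * b⁻¹ * a ∈ P.B
      -- c = a⁻¹ b s
      set c := a⁻¹ * b * (s : G) with hc
      suffices hcB : c ∈ P.B by
        have := P.B.inv_mem hcB
        have e2 : c⁻¹ = (s : G)⁻¹ * b⁻¹ * a := by rw [hc]; group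
        rwa [e2] at this
      have hcm : c * (m : G) ∈ Cw P w := by
        have e2 : c * (m : G) = g * b'⁻¹ := by
          have : g = a⁻¹ * y := by rw [← e]; group
          rw [this, ey, hc]
          push_cast
          group
        rw [e2]
        exact mul_mem_Cw_right (P.B.inv_mem hb') hg
      have hainv : a⁻¹ ∈ Cw P x := by
        have h2 := inv_mem_Cw ha
        rwa [Sb_inv hx] at h2
      have hab : a⁻¹ * b ∈ Cw P x := mul_mem_Cw_right hb hainv
      have hsinC : (s : G) ∈ Cw P x := by rw [← hsx]; exact rep_mem_Cw s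
      have h3 := lemma1r hx hsinC hab
      rw [Sb_mul_self hx] at h3
      rcases h3 with h3 | h3
      · exact mem_Cw_one.1 h3
      · exfalso
        have hmw : (m : G) ∈ Cw P w := by rw [← hm]; exact rep_mem_Cw m
        have h4 := typeI hx hle h3 hmw
        have h5 := eq_of_mem_Cw h4 hcm
        have h6 : x = 1 := by
          have : x * w = 1 * w := by rw [one_mul]; exact h5
          exact mul_right_cancel this
        exact Sb_ne_one hx h6
    · intro t
      apply Subtype.ext
      show (s : G)⁻¹ * b⁻¹ * (b * (s : G) * t.1) = t.1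
      group
    · rintro ⟨⟨⟨a, ha⟩, ⟨g, hg⟩⟩, hp⟩
      have e : a * g = y := congrArg Subtype.val hp
      apply Subtype.ext
      apply Prod.ext
      · apply Subtype.ext
        show b * (s : G) * ((s : G)⁻¹ * b⁻¹ * a) = a
        group
      · apply Subtype.ext
        show ((s : G)⁻¹ * b⁻¹ * a)⁻¹ * (m : G) * b' = g
        have : g = a⁻¹ * y := by rw [← e]; group
        rw [this, ey]
        push_cast
        group
  simp only [hfib, Finset.sum_const, Finset.card_univ, smul_eq_mul, Nat.card_eq_fintype_card]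

/-- Sizes of double cosets in terms of the length. -/
theorem card_Cw_pow [Finite G] {q : ℕ} (hq : ∀ x ∈ Sb P, Nat.card (Cw P x) = q * Nat.card P.B) :
    ∀ (k : ℕ) (w : W P), len P w = k → Nat.card (Cw P w) = q ^ k * Nat.card P.B := by
  have hB : 0 < Nat.card P.B := Nat.card_pos
  intro k
  induction k with
  | zero =>
    intro w hw
    rw [len_eq_zero] at hw
    subst hw
    have : Cw P (1 : W P) = (P.B : Set G) := by
      ext g
      exact mem_Cw_one
    simp only [pow_zero, one_mul]
    rw [this]
    rfl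
  | succ k ih =>
    intro w hw
    have hw1 : w ≠ 1 := by
      rintro rfl
      rw [len_one] at hw
      omega
    obtain ⟨x, hx, hlen⟩ := exists_left_letter hw1
    have e : x * (x * w) = w := by rw [← mul_assoc, Sb_mul_self hx, one_mul]
    have h1 := card_Cw_mul (w := x * w) hx (by rw [e]; omega)
    rw [e, hq x hx, ih (x * w) (by omega)] at h1
    have h2 : (q * Nat.card P.B) * (q ^ k * Nat.card P.B) = (q ^ (k + 1) * Nat.card P.B) * Nat.card P.B := by
      rw [pow_succ]; ring
    rw [h2] at h1
    exact (Nat.eq_of_mul_eq_mul_right hB h1).symm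

/-- The class of an element. -/
theorem exists_Cw (g : G) : ∃ w : W P, g ∈ Cw P w := by
  obtain ⟨n, hn, hg⟩ := exists_mem_C (P := P) g
  exact ⟨mk P ⟨n, hn⟩, mem_Cw_mk.2 hg⟩

/-- `G` is the disjoint union of the double cosets. -/
theorem card_eq_sum [Finite G] [Fintype (W P)] : Nat.card G = ∑ w : W P, Nat.card (Cw P w) := by
  classical
  let cls : G → W P := fun g => Classical.choose (exists_Cw (P := P) g)
  have hcls : ∀ g, g ∈ Cw P (cls g) := fun g => Classical.choose_spec (exists_Cw (P := P) g)
  have h1 : Nat.card G = Nat.card (Σ w : W P, {g // cls g = w}) :=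
    Nat.card_congr (Equiv.sigmaFiberEquiv cls).symm
  rw [h1, Nat.card_sigma]
  apply Finset.sum_congr rfl
  intro w _
  refine Nat.card_congr ⟨fun g => ⟨g.1, by have h := hcls g.1; rwa [g.2] at h⟩, fun g => ⟨g.1, eq_of_mem_Cw (hcls g.1) g.2⟩, ?_, ?_⟩
  · intro g; rfl
  · intro g; rfl

/-- The order formula. -/
theorem card_G_eq [Finite G] [Fintype (W P)] {q : ℕ} (hq : ∀ x ∈ Sb P, Nat.card (Cw P x) = q * Nat.card P.B) :
    Nat.card G = Nat.card P.B * ∑ w : W P, q ^ len P w := by
  rw [card_eq_sum (P := P), Finset.mul_sum]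
  apply Finset.sum_congr rfl
  intro w _
  rw [card_Cw_pow hq _ w rfl, mul_comm]

/-! ### Exchange on the right -/

theorem eraseIdx_reverse {α : Type*} (L : List α) (i : ℕ) (hi : i < L.length) :
    L.reverse.eraseIdx i = (L.eraseIdx (L.length - 1 - i)).reverse := by
  induction L generalizing i with
  | nil => simp at hi
  | cons a M ih =>
    simp only [List.length_cons] at hi ⊢
    rw [List.reverse_cons]
    by_cases h : i < M.length
    · rw [List.eraseIdx_append_of_lt_length (by simpa using h), ih i h]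
      have e : M.length + 1 - 1 - i = (M.length - 1 - i) + 1 := by omega
      rw [e]
      simp
    · have e : i = M.length := by omega
      subst e
      rw [List.eraseIdx_append_of_length_le (by simp)]
      simp

theorem exchange_right {L : List (W P)} (hL : ∀ x ∈ L, x ∈ Sb P) (hred : L.length = len P L.prod)
    {x : W P} (hx : x ∈ Sb P) (hlt : len P (L.prod * x) < len P L.prod) :
    ∃ i : Fin L.length, L.prod * x = (L.eraseIdx i).prod := by
  have hL' : ∀ y ∈ L.reverse, y ∈ Sb P := by simpa using hL
  have e1 : L.reverse.prod = L.prod⁻¹ := (prod_inv_eq_reverse hL).symm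
  have e2 : x * L.prod⁻¹ = (L.prod * x)⁻¹ := by simp [Sb_inv hx]
  have h1 : L.reverse.length = len P L.reverse.prod := by
    rw [e1, len_inv]; simpa using hred
  have h2 : len P (x * L.reverse.prod) < len P L.reverse.prod := by
    rw [e1, e2, len_inv, len_inv]; exact hlt
  obtain ⟨i, hi⟩ := exchange L.reverse hL' h1 x hx h2
  rw [e1, e2] at hi
  have hi2 : i.1 < L.length := by simpa using i.2
  refine ⟨⟨L.length - 1 - i.1, by omega⟩, ?_⟩
  have hsub : ∀ y ∈ (L.eraseIdx (L.length - 1 - i.1)), y ∈ Sb P := fun y hy =>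
    hL y (List.mem_of_mem_eraseIdx hy)
  have e3 := eraseIdx_reverse L i.1 hi2
  rw [e3, ← prod_inv_eq_reverse hsub] at hi
  exact inv_injective hi

/-! ### Factorization -/

theorem exists_word_in {J : Set (W P)} (hJ : J ⊆ Sb P) {u : W P} (hu : u ∈ Subgroup.closure J) :
    ∃ L : List (W P), (∀ x ∈ L, x ∈ J) ∧ L.prod = u := by
  induction hu using Subgroup.closure_induction with
  | mem x hx => exact ⟨[x], by simpa using hx, by simp⟩
  | one => exact ⟨[], by simp, rfl⟩
  | mul a b _ _ ha hb =>
    obtain ⟨A, hA, rfl⟩ := ha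
    obtain ⟨B, hB, rfl⟩ := hb
    refine ⟨A ++ B, ?_, by simp⟩
    intro x hx
    rcases List.mem_append.mp hx with h | h
    · exact hA x h
    · exact hB x h
  | inv a _ ha =>
    obtain ⟨A, hA, rfl⟩ := ha
    refine ⟨A.reverse, by simpa using hA, ?_⟩
    exact (prod_inv_eq_reverse fun x hx => hJ (hA x hx)).symm

theorem exists_reduced_in {J : Set (W P)} (hJ : J ⊆ Sb P) {u : W P} (hu : u ∈ Subgroup.closure J) :
    ∃ L : List (W P), (∀ x ∈ L, x ∈ J) ∧ L.prod = u ∧ L.length = len P u := by
  obtain ⟨L, hL, rfl⟩ := exists_word_in hJ hu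
  obtain ⟨L', h1, h2, h3⟩ := exists_reduced_sublist L (fun x hx => hJ (hL x hx))
  refine ⟨L', fun x hx => hL x (h1.subset hx), h2, ?_⟩
  rw [← h2]
  exact h3

/-- Length is additive on minimal coset representatives. -/
theorem additive {J : Set (W P)} (hJ : J ⊆ Sb P) {v : W P} (hmin : ∀ u ∈ Subgroup.closure J, len P v ≤ len P (v * u)) :
    ∀ (M : List (W P)), (∀ x ∈ M, x ∈ J) → M.length = len P M.prod → len P (v * M.prod) = len P v + M.length := by
  intro M
  induction M using List.reverseRecOn with
  | nil => simp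
  | append_singleton M t ih =>
    intro hL hred
    have ht : t ∈ J := hL t (by simp)
    have ht' : t ∈ Sb P := hJ ht
    have hM : ∀ y ∈ M, y ∈ J := fun y hy => hL y (by simp [hy])
    have hM' : ∀ y ∈ M, y ∈ Sb P := fun y hy => hJ (hM y hy)
    simp only [List.length_append, List.length_cons, List.length_nil, List.prod_append,
        List.prod_cons, List.prod_nil, mul_one] at hred ⊢
    have hlenM : M.length = len P M.prod := by
      have h1 : len P M.prod ≤ M.length := len_prod_le hM'
      have h2 : len P (M.prod * t) ≤ len P M.prod + 1 := len_mul_le_right ht'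
      omega
    have IH := ih hM hlenM
    rcases len_mul_cases_right (w := v * M.prod) ht' with hc | hc
    · rw [← mul_assoc, hc, IH]
      omega
    · exfalso
      obtain ⟨R, hR, rfl, hRl⟩ := exists_reduced v
      have hA : ∀ y ∈ R ++ M, y ∈ Sb P := by
        intro y hy
        rcases List.mem_append.mp hy with h | h
        · exact hR y h
        · exact hM' y h
      have hredA : (R ++ M).length = len P (R ++ M).prod := by
        simp only [List.length_append, List.prod_append]
        rw [IH, hRl]
      obtain ⟨i, hi⟩ := exchange_right hA hredA ht' (by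
        simp only [List.prod_append]
        omega)
      simp only [List.prod_append] at hi
      by_cases h : i.1 < R.length
      · rw [List.eraseIdx_append_of_lt_length h, List.prod_append] at hi
        have hu : M.prod * t * M.prod⁻¹ ∈ Subgroup.closure J := by
          have hMm : M.prod ∈ Subgroup.closure J := by
            apply Subgroup.list_prod_mem
            intro y hy
            exact Subgroup.subset_closure (hM y hy)
          exact Subgroup.mul_mem _ (Subgroup.mul_mem _ hMm (Subgroup.subset_closure ht)) (Subgroup.inv_mem _ hMm)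
        have h2 := hmin _ hu
        have e : R.prod * (M.prod * t * M.prod⁻¹) = (R.eraseIdx i.1).prod := by
          have : R.prod * (M.prod * t * M.prod⁻¹) = (R.prod * M.prod * t) * M.prod⁻¹ := by group
          rw [this, hi]
          group
        rw [e] at h2
        have h3 : len P (R.eraseIdx i.1).prod ≤ (R.eraseIdx i.1).length :=
          len_prod_le (fun y hy => hR y (List.mem_of_mem_eraseIdx hy))
        rw [List.length_eraseIdx_of_lt h] at h3
        omega
      · rw [List.eraseIdx_append_of_length_le (by omega), List.prod_append] at hi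
        have e : M.prod * t = (M.eraseIdx (i.1 - R.length)).prod := by
          have : R.prod * (M.prod * t) = R.prod * (M.eraseIdx (i.1 - R.length)).prod := by
            rw [← hi]; group
          exact mul_left_cancel this
        have h3 : len P (M.eraseIdx (i.1 - R.length)).prod ≤ (M.eraseIdx (i.1 - R.length)).length :=
          len_prod_le (fun y hy => hM' y (List.mem_of_mem_eraseIdx hy))
        have h4 : (M.eraseIdx (i.1 - R.length)).length ≤ M.length := by
          rw [List.length_eraseIdx]
          split_ifs <;> omega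
        rw [← e] at h3
        omega

open Classical in
/-- The length generating function of a subgroup of the Weyl group. -/
noncomputable def pS (P : Cfsg.BNPair G) [Fintype (W P)] (q : ℕ) (K : Subgroup (W P)) : ℕ :=
  ∑ w ∈ Finset.univ.filter (· ∈ K), q ^ len P w

theorem pS_top [Fintype (W P)] (q : ℕ) : pS P q ⊤ = ∑ w : W P, q ^ len P w := by
  unfold pS
  congr 1
  ext w
  simp

theorem pS_bot [Fintype (W P)] (q : ℕ) : pS P q ⊥ = 1 := by
  classical
  unfold pS
  have : (Finset.univ.filter (· ∈ (⊥ : Subgroup (W P)))) = {1} := by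
    ext w
    simp
  rw [this, Finset.sum_singleton, len_one, pow_zero]

/-- Factorization of length generating functions. -/
theorem pS_factor [Fintype (W P)] (q : ℕ) {J : Set (W P)} (hJ : J ⊆ Sb P) {H : Subgroup (W P)}
    (hKH : Subgroup.closure J ≤ H) {A : Type*} (α : W P → A) (O : Finset A) (f : A → ℕ)
    (h1 : ∀ w ∈ H, α w ∈ O)
    (h2 : ∀ w ∈ H, ∀ u ∈ Subgroup.closure J, α (w * u) = α w)
    (h3 : ∀ w ∈ H, ∀ w' ∈ H, α w = α w' → w⁻¹ * w' ∈ Subgroup.closure J)
    (h4 : ∀ w ∈ H, f (α w) ≤ len P w)
    (h5 : ∀ a ∈ O, ∃ v ∈ H, α v = a ∧ len P v ≤ f a) :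
    pS P q H = (∑ a ∈ O, q ^ f a) * pS P q (Subgroup.closure J) := by
  classical
  have hch : ∀ a : A, ∃ v : W P, a ∈ O → (v ∈ H ∧ α v = a ∧ len P v ≤ f a) := by
    intro a
    by_cases ha : a ∈ O
    · obtain ⟨v, hv⟩ := h5 a ha
      exact ⟨v, fun _ => hv⟩
    · exact ⟨1, fun h => absurd h ha⟩
  choose v hv using hch
  have hlen : ∀ a ∈ O, len P (v a) = f a := by
    intro a ha
    obtain ⟨h6, h7, h8⟩ := hv a ha
    have h9 := h4 _ h6
    rw [h7] at h9
    omega
  have hadd : ∀ a ∈ O, ∀ u ∈ Subgroup.closure J, len P (v a * u) = f a + len P u := by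
    intro a ha u hu
    obtain ⟨h6, h7, h8⟩ := hv a ha
    have hmin : ∀ u ∈ Subgroup.closure J, len P (v a) ≤ len P (v a * u) := by
      intro u hu
      have h9 := h4 _ (H.mul_mem h6 (hKH hu))
      rw [h2 _ h6 _ hu, h7] at h9
      rw [hlen a ha]
      exact h9
    obtain ⟨M, hM, rfl, hMl⟩ := exists_reduced_in hJ hu
    rw [additive hJ hmin M hM hMl, hlen a ha, hMl]
  unfold pS
  rw [Finset.sum_mul_sum, ← Finset.sum_product']
  refine Finset.sum_nbij' (fun w => (α w, (v (α w))⁻¹ * w)) (fun p => v p.1 * p.2) ?_ ?_ ?_ ?_ ?_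
  · intro w hw
    have hw' : w ∈ H := by simpa using hw
    have hαw := h1 w hw'
    obtain ⟨h6, h7, _⟩ := hv _ hαw
    simp only [Finset.mem_product, Finset.mem_filter, Finset.mem_univ, true_and]
    refine ⟨hαw, h3 _ h6 _ hw' h7⟩
  · rintro ⟨a, u⟩ hp
    simp only [Finset.mem_product, Finset.mem_filter, Finset.mem_univ, true_and] at hp
    simp only [Finset.mem_filter, Finset.mem_univ, true_and]
    exact H.mul_mem (hv a hp.1).1 (hKH hp.2)
  · intro w hw
    simp
  · rintro ⟨a, u⟩ hp
    simp only [Finset.mem_product, Finset.mem_filter, Finset.mem_univ, true_and] at hp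
    have e : α (v a * u) = a := by
      rw [h2 _ (hv a hp.1).1 _ hp.2, (hv a hp.1).2.1]
    simp [e]
  · intro w hw
    have hw' : w ∈ H := by simpa using hw
    have hαw := h1 w hw'
    obtain ⟨h6, h7, _⟩ := hv _ hαw
    have hu := h3 _ h6 _ hw' h7
    have e := hadd _ hαw _ hu
    rw [mul_inv_cancel_left] at e
    simp only []
    rw [e, pow_add]

end Cfsg.Agent.Lib.BNCount
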