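import Mathlib
import Cfsg.Prelude.Def_LieExceptional

set_option autoImplicit false

/-!
Theory of (B,N)-pairs (Tits systems) following Bourbaki IV §2: Bruhat decomposition, length function on the Weyl group,
exchange, parabolic subgroups.
-/

namespace Cfsg.Agent.Lib.BNPair

open Cfsg

variable {G : Type*} [Group G] (P : Cfsg.BNPair G)

/-- the double coset `B n B`. -/
def C (n : G) : Set G := {g | ∃ x ∈ P.B, ∃ y ∈ P.B, g = x * n * y}

variable {P}

lemma mem_C_iff {n g : G} : g ∈ C P n ↔ ∃ x ∈ P.B, ∃ y ∈ P.B, g = x * n * y := Iff.rfl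

lemma self_mem_C (n : G) : n ∈ C P n := ⟨1, P.B.one_mem, 1, P.B.one_mem, by simp⟩

lemma mul_mem_C_left {n g b : G} (hb : b ∈ P.B) (hg : g ∈ C P n) : b * g ∈ C P n := by
  obtain ⟨x, hx, y, hy, rfl⟩ := hg
  exact ⟨b * x, P.B.mul_mem hb hx, y, hy, by group⟩

lemma mul_mem_C_right {n g b : G} (hb : b ∈ P.B) (hg : g ∈ C P n) : g * b ∈ C P n := by
  obtain ⟨x, hx, y, hy, rfl⟩ := hg
  exact ⟨x, hx, y * b, P.B.mul_mem hy hb, by group⟩

lemma C_eq_of_mem {n g : G} (hg : g ∈ C P n) : C P g = C P n := by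
  obtain ⟨x, hx, y, hy, rfl⟩ := hg
  ext h
  constructor
  · rintro ⟨u, hu, v, hv, rfl⟩
    exact ⟨u * x, P.B.mul_mem hu hx, y * v, P.B.mul_mem hy hv, by group⟩
  · rintro ⟨u, hu, v, hv, rfl⟩
    exact ⟨u * x⁻¹, P.B.mul_mem hu (P.B.inv_mem hx), y⁻¹ * v, P.B.mul_mem (P.B.inv_mem hy) hv, by group⟩

lemma C_eq_of_mem_both {n m g : G} (h1 : g ∈ C P n) (h2 : g ∈ C P m) : C P n = C P m := by
  rw [← C_eq_of_mem h1, C_eq_of_mem h2]

lemma inv_mem_C {n g : G} (hg : g ∈ C P n) : g⁻¹ ∈ C P n⁻¹ := by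
  obtain ⟨x, hx, y, hy, rfl⟩ := hg
  exact ⟨y⁻¹, P.B.inv_mem hy, x⁻¹, P.B.inv_mem hx, by group⟩

lemma C_mul_right {n b : G} (hb : b ∈ P.B) : C P (n * b) = C P n :=
  C_eq_of_mem (mul_mem_C_right hb (self_mem_C n))

lemma C_mul_left {n b : G} (hb : b ∈ P.B) : C P (b * n) = C P n :=
  C_eq_of_mem (mul_mem_C_left hb (self_mem_C n))

lemma C_one : C P (1 : G) = (P.B : Set G) := by
  ext g
  constructor
  · rintro ⟨x, hx, y, hy, rfl⟩
    simpa using P.B.mul_mem hx hy
  · intro hg
    exact ⟨g, hg, 1, P.B.one_mem, by simp⟩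

lemma C_eq_doubleCoset (n : G) : DoubleCoset.doubleCoset n (P.B : Set G) P.B = C P n := by
  ext g
  simp only [DoubleCoset.mem_doubleCoset]
  rfl

lemma mem_closure_S_N {n : G} (hn : n ∈ Subgroup.closure P.S) : n ∈ P.N :=
  (Subgroup.closure_le P.N).2 P.subset hn

lemma S_mem_N {s : G} (hs : s ∈ P.S) : s ∈ P.N := P.subset hs

lemma sq_mem_B {s : G} (hs : s ∈ P.S) : s * s ∈ P.B := P.sq_mem s hs

lemma C_inv_S {s : G} (hs : s ∈ P.S) : C P s⁻¹ = C P s := by
  have : s⁻¹ = s * (s * s)⁻¹ := by group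
  rw [this]
  exact C_mul_right (P.B.inv_mem (sq_mem_B hs))

/-- the extended axiom (T3). -/
lemma T3 {s n a g : G} (hs : s ∈ P.S) (hn : n ∈ P.N) (ha : a ∈ C P s) (hg : g ∈ C P n) :
    a * g ∈ C P (s * n) ∪ C P n := by
  obtain ⟨x, hx, y, hy, rfl⟩ := ha
  obtain ⟨u, hu, v, hv, rfl⟩ := hg
  have h := P.mul_mem_union s hs n hn (y * u) (P.B.mul_mem hy hu)
  rw [C_eq_doubleCoset, C_eq_doubleCoset] at h
  have e : x * s * y * (u * n * v) = x * (s * (y * u) * n) * v := by group
  rw [e]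
  rcases h with h | h
  · exact Or.inl (mul_mem_C_right hv (mul_mem_C_left hx h))
  · exact Or.inr (mul_mem_C_right hv (mul_mem_C_left hx h))

/-- the right version of (T3). -/
lemma T3r {s n a g : G} (hs : s ∈ P.S) (hn : n ∈ P.N) (ha : a ∈ C P s) (hg : g ∈ C P n) :
    g * a ∈ C P (n * s) ∪ C P n := by
  have h1 : a⁻¹ ∈ C P s := by
    have := inv_mem_C ha
    rwa [C_inv_S hs] at this
  have h2 := T3 hs (P.N.inv_mem hn) h1 (inv_mem_C hg)
  have h3 := Set.mem_union _ _ _ |>.1 h2
  have e : g * a = (a⁻¹ * g⁻¹)⁻¹ := by group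
  rw [e]
  rcases h3 with h | h
  · left
    have := inv_mem_C h
    have e2 : (s * n⁻¹)⁻¹ = n * s⁻¹ := by group
    rw [e2] at this
    have e3 : n * s⁻¹ = n * s * (s * s)⁻¹ := by group
    rw [e3, C_mul_right (P.B.inv_mem (sq_mem_B hs))] at this
    exact this
  · right
    have := inv_mem_C h
    simpa using this

lemma S_not_mem_B {s : G} (hs : s ∈ P.S) : s ∉ P.B := by
  intro hB
  apply P.conj_ne s hs
  ext g
  constructor
  · rintro ⟨b, hb, rfl⟩
    exact P.B.mul_mem (P.B.mul_mem hB hb) hB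
  · intro hg
    exact ⟨s⁻¹ * g * s⁻¹, P.B.mul_mem (P.B.mul_mem (P.B.inv_mem hB) hg) (P.B.inv_mem hB), by group⟩

/-- axiom (T4) in the form `∃ b ∈ B, s b s ∉ B`. -/
lemma T4 {s : G} (hs : s ∈ P.S) : ∃ b ∈ P.B, s * b * s ∉ P.B := by
  by_contra hcon
  push Not at hcon
  apply P.conj_ne s hs
  have hsq := sq_mem_B hs
  ext g
  constructor
  · rintro ⟨b, hb, rfl⟩
    exact hcon b hb
  · intro hg
    -- g ∈ B; g = s (s⁻¹ g s⁻¹) s, and s⁻¹ g s⁻¹ = (s s)⁻¹ (s g s) (s s)⁻¹ ∈ B
    refine ⟨s⁻¹ * g * s⁻¹, ?_, by group⟩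
    have e : s⁻¹ * g * s⁻¹ = (s * s)⁻¹ * (s * g * s) * (s * s)⁻¹ := by group
    rw [SetLike.mem_coe, e]
    exact P.B.mul_mem (P.B.mul_mem (P.B.inv_mem hsq) (hcon g hg)) (P.B.inv_mem hsq)

/-- `C s ⊆ C s * C s`, in the form: `s` is a product of two elements of `C s`. -/
lemma exists_mul_eq_S {s : G} (hs : s ∈ P.S) : ∃ a ∈ C P s, ∃ a' ∈ C P s, a * a' = s := by
  obtain ⟨b, hb, hb'⟩ := T4 hs
  have h := T3 hs (S_mem_N hs) (mul_mem_C_right hb (self_mem_C s)) (self_mem_C s)
  have e : C P (s * s) = (P.B : Set G) := by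
    have : s * s = s * s * 1 := by simp
    rw [C_eq_of_mem (g := s * s) (n := 1)]
    · exact C_one
    · exact ⟨s * s, sq_mem_B hs, 1, P.B.one_mem, by simp⟩
  rw [e] at h
  have h2 : s * b * s ∈ C P s := by
    rcases h with h | h
    · exact absurd h hb'
    · exact h
  obtain ⟨x, hx, y, hy, hxy⟩ := h2
  -- s b s = x s y  ⟹ s = (s b) * (s y⁻¹ ...)
  refine ⟨x⁻¹ * (s * b), mul_mem_C_left (P.B.inv_mem hx) (mul_mem_C_right hb (self_mem_C s)),
    s * y⁻¹, mul_mem_C_right (P.B.inv_mem hy) (self_mem_C s), ?_⟩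
  have : s = x⁻¹ * (s * b * s) * y⁻¹ := by rw [hxy]; group
  calc x⁻¹ * (s * b) * (s * y⁻¹) = x⁻¹ * (s * b * s) * y⁻¹ := by group
    _ = s := this.symm

/-! ### The Weyl group -/

variable (P) in
/-- `H = B ⊓ N` as a subgroup of `N`. -/
def HN : Subgroup P.N := (P.B ⊓ P.N).subgroupOf P.N

lemma mem_HN {n : P.N} : n ∈ HN P ↔ (n : G) ∈ P.B := by
  simp [HN, Subgroup.mem_subgroupOf]

instance hnNormal : (HN P).Normal := by
  refine ⟨fun n hn g => ?_⟩
  rw [mem_HN] at hn ⊢
  have := P.conj_mem g g.2 n ⟨hn, n.2⟩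
  simpa using this

variable (P) in
/-- The Weyl group `N/(B ⊓ N)`. -/
abbrev W := P.N ⧸ HN P

variable (P) in
/-- The projection `N → W`. -/
def mk : P.N →* W P := QuotientGroup.mk' (HN P)

lemma mk_surjective : Function.Surjective (mk P) := QuotientGroup.mk'_surjective _

lemma mk_eq_mk_iff {n m : P.N} : mk P n = mk P m ↔ (n : G)⁻¹ * m ∈ P.B := by
  show (QuotientGroup.mk n : W P) = QuotientGroup.mk m ↔ _
  rw [QuotientGroup.eq, mem_HN]
  simp

lemma mk_eq_one_iff {n : P.N} : mk P n = 1 ↔ (n : G) ∈ P.B := by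
  rw [← map_one (mk P), mk_eq_mk_iff]
  simp only [OneMemClass.coe_one, mul_one, inv_mem_iff]

variable (P) in
/-- The double coset attached to an element of the Weyl group. -/
def Cw (w : W P) : Set G := {g | ∃ n : P.N, mk P n = w ∧ g ∈ C P (n : G)}

lemma C_eq_of_mk_eq {n m : P.N} (h : mk P n = mk P m) : C P (n : G) = C P (m : G) := by
  rw [mk_eq_mk_iff] at h
  have : (m : G) = n * ((n : G)⁻¹ * m) := by group
  rw [this, C_mul_right h]

lemma mem_Cw_mk {n : P.N} {g : G} : g ∈ Cw P (mk P n) ↔ g ∈ C P (n : G) := by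
  constructor
  · rintro ⟨m, hm, hg⟩
    rwa [C_eq_of_mk_eq hm] at hg
  · intro h
    exact ⟨n, rfl, h⟩

lemma Cw_eq_of_mk {n : P.N} {w : W P} (h : mk P n = w) : Cw P w = C P (n : G) := by
  subst h
  ext g
  exact mem_Cw_mk

lemma mem_Cw_one {g : G} : g ∈ Cw P 1 ↔ g ∈ P.B := by
  have : (1 : W P) = mk P 1 := by simp
  rw [this, mem_Cw_mk]
  simp [C_one]

lemma exists_rep (w : W P) : ∃ n : P.N, mk P n = w := mk_surjective w

lemma rep_mem_Cw (n : P.N) : (n : G) ∈ Cw P (mk P n) := mem_Cw_mk.2 (self_mem_C _)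

lemma mul_mem_Cw_left {w : W P} {g b : G} (hb : b ∈ P.B) (hg : g ∈ Cw P w) : b * g ∈ Cw P w := by
  obtain ⟨n, hn, h⟩ := hg
  exact ⟨n, hn, mul_mem_C_left hb h⟩

lemma mul_mem_Cw_right {w : W P} {g b : G} (hb : b ∈ P.B) (hg : g ∈ Cw P w) : g * b ∈ Cw P w := by
  obtain ⟨n, hn, h⟩ := hg
  exact ⟨n, hn, mul_mem_C_right hb h⟩

lemma inv_mem_Cw {w : W P} {g : G} (hg : g ∈ Cw P w) : g⁻¹ ∈ Cw P w⁻¹ := by
  obtain ⟨n, rfl, h⟩ := hg
  refine ⟨n⁻¹, by simp, ?_⟩
  simpa using inv_mem_C h

lemma Cw_eq_of_mem_both {w w' : W P} {g : G} (h : g ∈ Cw P w) (h' : g ∈ Cw P w') :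
    Cw P w = Cw P w' := by
  obtain ⟨n, rfl⟩ := exists_rep w
  obtain ⟨m, rfl⟩ := exists_rep w'
  rw [mem_Cw_mk] at h h'
  rw [Cw_eq_of_mk rfl, Cw_eq_of_mk rfl]
  exact C_eq_of_mem_both h h'

variable (P) in
/-- The distinguished generators of the Weyl group. -/
def Sb : Set (W P) := {w | ∃ s : P.N, (s : G) ∈ P.S ∧ mk P s = w}

lemma mk_mem_Sb {s : P.N} (hs : (s : G) ∈ P.S) : mk P s ∈ Sb P := ⟨s, hs, rfl⟩

lemma Sb_mul_self {x : W P} (hx : x ∈ Sb P) : x * x = 1 := by
  obtain ⟨s, hs, rfl⟩ := hx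
  rw [← map_mul, mk_eq_one_iff]
  exact sq_mem_B hs

lemma Sb_inv {x : W P} (hx : x ∈ Sb P) : x⁻¹ = x := by
  rw [inv_eq_iff_mul_eq_one]
  exact Sb_mul_self hx

lemma Sb_ne_one {x : W P} (hx : x ∈ Sb P) : x ≠ 1 := by
  obtain ⟨s, hs, rfl⟩ := hx
  rw [Ne, mk_eq_one_iff]
  exact S_not_mem_B hs

lemma prod_inv_eq_reverse {L : List (W P)} (hL : ∀ x ∈ L, x ∈ Sb P) : L.prod⁻¹ = L.reverse.prod := by
  induction L with
  | nil => simp
  | cons x L ih =>
    simp only [List.prod_cons, mul_inv_rev, List.reverse_cons, List.prod_append, List.prod_nil, mul_one]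
    rw [ih (fun y hy => hL y (by simp [hy])), Sb_inv (hL x (by simp))]

/-- every element of the Weyl group is a word in `Sb`. -/
lemma exists_word (w : W P) : ∃ L : List (W P), (∀ x ∈ L, x ∈ Sb P) ∧ L.prod = w := by
  have key : ∀ w ∈ Subgroup.closure (Sb P), ∃ L : List (W P), (∀ x ∈ L, x ∈ Sb P) ∧ L.prod = w := by
    intro w hw
    induction hw using Subgroup.closure_induction with
    | mem x hx => exact ⟨[x], by simpa using hx, by simp⟩
    | one => exact ⟨[], by simp, by simp⟩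
    | mul x y _ _ hx hy =>
      obtain ⟨L, hL, rfl⟩ := hx
      obtain ⟨M, hM, rfl⟩ := hy
      refine ⟨L ++ M, ?_, by simp⟩
      intro z hz
      rcases List.mem_append.1 hz with h | h
      · exact hL z h
      · exact hM z h
    | inv x _ hx =>
      obtain ⟨L, hL, rfl⟩ := hx
      refine ⟨L.reverse, by simpa using hL, ?_⟩
      exact (prod_inv_eq_reverse hL).symm
  apply key
  obtain ⟨n, rfl⟩ := exists_rep w
  -- preimage subgroup
  let K : Subgroup G := ((Subgroup.closure (Sb P)).comap (mk P)).map P.N.subtype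
  have hK : P.N ≤ K := by
    rw [← P.closure_sup]
    refine sup_le ?_ ?_
    · rw [Subgroup.closure_le]
      intro s hs
      refine ⟨⟨s, P.subset hs⟩, ?_, rfl⟩
      exact Subgroup.subset_closure (mk_mem_Sb hs)
    · intro h hh
      refine ⟨⟨h, hh.2⟩, ?_, rfl⟩
      have : mk P ⟨h, hh.2⟩ = 1 := mk_eq_one_iff.2 hh.1
      show mk P ⟨h, hh.2⟩ ∈ Subgroup.closure (Sb P)
      rw [this]
      exact one_mem _
  obtain ⟨m, hm, hmn⟩ := hK n.2
  have : m = n := Subtype.ext hmn
  rw [← this]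
  exact hm

variable (P) in
/-- The length function on the Weyl group. -/
noncomputable def len (w : W P) : ℕ :=
  sInf {k | ∃ L : List (W P), (∀ x ∈ L, x ∈ Sb P) ∧ L.prod = w ∧ L.length = k}

lemma exists_reduced (w : W P) :
    ∃ L : List (W P), (∀ x ∈ L, x ∈ Sb P) ∧ L.prod = w ∧ L.length = len P w := by
  have hne : {k | ∃ L : List (W P), (∀ x ∈ L, x ∈ Sb P) ∧ L.prod = w ∧ L.length = k}.Nonempty := by
    obtain ⟨L, hL, h⟩ := exists_word w
    exact ⟨_, L, hL, h, rfl⟩
  exact Nat.sInf_mem hne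

lemma len_prod_le {L : List (W P)} (hL : ∀ x ∈ L, x ∈ Sb P) : len P L.prod ≤ L.length :=
  Nat.sInf_le ⟨L, hL, rfl, rfl⟩

lemma len_one : len P 1 = 0 := by
  have := len_prod_le (P := P) (L := []) (by simp)
  simpa using this

lemma len_eq_zero {w : W P} : len P w = 0 ↔ w = 1 := by
  constructor
  · intro h
    obtain ⟨L, _, h2, h3⟩ := exists_reduced w
    rw [h] at h3
    rw [List.length_eq_zero_iff] at h3
    subst h3
    simpa using h2.symm
  · rintro rfl
    exact len_one

lemma len_mul_le {x w : W P} (hx : x ∈ Sb P) : len P (x * w) ≤ len P w + 1 := by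
  obtain ⟨L, hL, rfl, h3⟩ := exists_reduced w
  have : len P ((x :: L).prod) ≤ (x :: L).length := len_prod_le (by
    intro y hy
    rcases List.mem_cons.1 hy with rfl | h
    · exact hx
    · exact hL y h)
  simpa [h3] using this

lemma len_le_mul {x w : W P} (hx : x ∈ Sb P) : len P w ≤ len P (x * w) + 1 := by
  have := len_mul_le (w := x * w) hx
  rwa [← mul_assoc, Sb_mul_self hx, one_mul] at this

lemma len_mul_le_right {x w : W P} (hx : x ∈ Sb P) : len P (w * x) ≤ len P w + 1 := by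
  obtain ⟨L, hL, rfl, h3⟩ := exists_reduced w
  have : len P ((L ++ [x]).prod) ≤ (L ++ [x]).length := len_prod_le (by
    intro y hy
    rcases List.mem_append.1 hy with h | h
    · exact hL y h
    · simp at h; rwa [h])
  simpa [h3] using this

lemma len_le_mul_right {x w : W P} (hx : x ∈ Sb P) : len P w ≤ len P (w * x) + 1 := by
  have := len_mul_le_right (w := w * x) hx
  rwa [mul_assoc, Sb_mul_self hx, mul_one] at this

lemma len_Sb {x : W P} (hx : x ∈ Sb P) : len P x = 1 := by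
  have h1 : len P x ≤ 1 := by
    have := len_prod_le (P := P) (L := [x]) (by simpa using hx)
    simpa using this
  have h2 : len P x ≠ 0 := by
    rw [Ne, len_eq_zero]
    exact Sb_ne_one hx
  omega

/-- element `w` with positive length has a left letter decreasing the length. -/
lemma exists_left_letter {w : W P} (hw : w ≠ 1) : ∃ x ∈ Sb P, len P (x * w) + 1 = len P w := by
  obtain ⟨L, hL, rfl, h3⟩ := exists_reduced w
  cases L with
  | nil => simp at hw
  | cons x L =>
    refine ⟨x, hL x (by simp), ?_⟩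
    have hx := hL x (by simp)
    have h4 : len P (x * (x :: L).prod) ≤ L.length := by
      rw [List.prod_cons, ← mul_assoc, Sb_mul_self hx, one_mul]
      exact len_prod_le (fun y hy => hL y (by simp [hy]))
    have h5 := len_le_mul (w := (x :: L).prod) hx
    simp only [List.length_cons] at h3
    omega

lemma exists_right_letter {w : W P} (hw : w ≠ 1) : ∃ x ∈ Sb P, len P (w * x) + 1 = len P w := by
  obtain ⟨L, hL, rfl, h3⟩ := exists_reduced w
  rcases List.eq_nil_or_concat L with rfl | ⟨M, x, rfl⟩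
  · simp at hw
  · simp only [List.concat_eq_append] at hL hw h3 ⊢
    have hx : x ∈ Sb P := hL x (by simp)
    refine ⟨x, hx, ?_⟩
    have h4 : len P ((M ++ [x]).prod * x) ≤ M.length := by
      have e : (M ++ [x]).prod * x = M.prod := by
        rw [List.prod_append, List.prod_singleton, mul_assoc, Sb_mul_self hx, mul_one]
      rw [e]
      exact len_prod_le (fun y hy => hL y (by simp [hy]))
    have h5 := len_le_mul_right (w := (M ++ [x]).prod) hx
    rw [List.length_append, List.length_singleton] at h3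
    omega

/-- (T3) on the Weyl group. -/
lemma lemma1 {x w : W P} {a g : G} (hx : x ∈ Sb P) (ha : a ∈ Cw P x) (hg : g ∈ Cw P w) :
    a * g ∈ Cw P (x * w) ∪ Cw P w := by
  obtain ⟨s, hs, rfl⟩ := hx
  obtain ⟨n, rfl⟩ := exists_rep w
  rw [mem_Cw_mk] at ha hg
  have h := T3 hs n.2 ha hg
  rcases h with h | h
  · left
    rw [← map_mul, mem_Cw_mk]
    simpa using h
  · right
    rwa [mem_Cw_mk]

lemma lemma1r {x w : W P} {a g : G} (hx : x ∈ Sb P) (ha : a ∈ Cw P x) (hg : g ∈ Cw P w) :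
    g * a ∈ Cw P (w * x) ∪ Cw P w := by
  obtain ⟨s, hs, rfl⟩ := hx
  obtain ⟨n, rfl⟩ := exists_rep w
  rw [mem_Cw_mk] at ha hg
  have h := T3r hs n.2 ha hg
  rcases h with h | h
  · left
    rw [← map_mul, mem_Cw_mk]
    simpa using h
  · right
    rwa [mem_Cw_mk]

/-- Bruhat: double cosets are disjoint for distinct elements of the Weyl group. -/
theorem Cw_inj_aux (k : ℕ) : ∀ w w' : W P, min (len P w) (len P w') ≤ k →
    Cw P w = Cw P w' → w = w' := by
  induction k with
  | zero =>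
    intro w w' hk h
    have key : ∀ v v' : W P, len P v = 0 → Cw P v = Cw P v' → v = v' := by
      intro v v' hv h
      rw [len_eq_zero] at hv
      subst hv
      obtain ⟨n, rfl⟩ := exists_rep v'
      have : (n : G) ∈ Cw P 1 := by rw [h]; exact rep_mem_Cw n
      rw [mem_Cw_one] at this
      exact (mk_eq_one_iff.2 this).symm
    rcases (by omega : len P w = 0 ∨ len P w' = 0) with h0 | h0
    · exact key _ _ h0 h
    · exact (key _ _ h0 h.symm).symm
  | succ k ih =>
    have key : ∀ v v' : W P, len P v ≤ len P v' → len P v ≤ k + 1 → Cw P v = Cw P v' → v = v' := by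
      intro v v' hle hk h
      by_cases hv : v = 1
      · subst hv
        apply ih
        · rw [len_one]; simp
        · exact h
      obtain ⟨x, hx, hlen⟩ := exists_left_letter hv
      obtain ⟨sx, hsx, rfl⟩ := id hx
      obtain ⟨nv, rfl⟩ := exists_rep v
      -- sx * nv ∈ Cw (x * v)
      have h1 : (sx : G) * nv ∈ Cw P (mk P sx * mk P nv) := by
        rw [← map_mul]
        exact rep_mem_Cw (sx * nv)
      have h2 : (nv : G) ∈ Cw P v' := by rw [← h]; exact rep_mem_Cw nv
      have h3 := lemma1 hx (rep_mem_Cw sx) h2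
      rcases h3 with h3 | h3
      · have := ih _ _ (by
          have : min (len P (mk P sx * mk P nv)) (len P (mk P sx * v')) ≤ len P (mk P sx * mk P nv) := min_le_left _ _
          omega) (Cw_eq_of_mem_both h1 h3)
        exact mul_left_cancel this
      · have := ih _ _ (by
          have : min (len P (mk P sx * mk P nv)) (len P v') ≤ len P (mk P sx * mk P nv) := min_le_left _ _
          omega) (Cw_eq_of_mem_both h1 h3)
        subst this
        omega
    intro w w' hk h
    rcases le_total (len P w) (len P w') with hle | hle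
    · exact key _ _ hle (by simpa [min_eq_left hle] using hk) h
    · exact (key _ _ hle (by simpa [min_eq_right hle] using hk) h.symm).symm

theorem Cw_inj {w w' : W P} (h : Cw P w = Cw P w') : w = w' :=
  Cw_inj_aux _ w w' le_rfl h

theorem eq_of_mem_Cw {w w' : W P} {g : G} (h : g ∈ Cw P w) (h' : g ∈ Cw P w') : w = w' :=
  Cw_inj (Cw_eq_of_mem_both h h')

/-- Bourbaki's key lemma: if `l(w) ≤ l(xw)` then `C(x)C(w) ⊆ C(xw)`. -/
theorem typeI_aux (k : ℕ) : ∀ (x w : W P), x ∈ Sb P → len P w ≤ k → len P w ≤ len P (x * w) →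
    ∀ a ∈ Cw P x, ∀ g ∈ Cw P w, a * g ∈ Cw P (x * w) := by
  induction k with
  | zero =>
    intro x w hx hk _ a ha g hg
    have : w = 1 := len_eq_zero.1 (by omega)
    subst this
    rw [mem_Cw_one] at hg
    rw [mul_one]
    exact mul_mem_Cw_right hg ha
  | succ k ih =>
    intro x w hx hk hle a ha g hg
    by_cases hw : w = 1
    · subst hw
      rw [mem_Cw_one] at hg
      rw [mul_one]
      exact mul_mem_Cw_right hg ha
    obtain ⟨t, ht, htlen⟩ := exists_right_letter hw
    -- u = w * t; w = u * t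
    set u := w * t with hu
    have hw' : w = u * t := by rw [hu, mul_assoc, Sb_mul_self ht, mul_one]
    have hI : len P u ≤ len P (x * u) := by
      by_contra hcon
      push Not at hcon
      have h1 : len P (x * u * t) ≤ len P (x * u) + 1 := len_mul_le_right ht
      have h2 : x * w = x * u * t := by rw [mul_assoc, ← hw']
      rw [h2] at hle
      omega
    obtain ⟨st, hst, rfl⟩ := id ht
    obtain ⟨nu, hnu⟩ := exists_rep u
    -- g ∈ B nu st B
    have hnw : mk P (nu * st) = w := by rw [map_mul, hnu, hw']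
    have hg' : g ∈ C P ((nu * st : P.N) : G) := by
      rw [← hnw] at hg
      exact mem_Cw_mk.1 hg
    obtain ⟨b1, hb1, b2, hb2, rfl⟩ := hg'
    have h1 : a * b1 * (nu : G) ∈ Cw P (x * u) := by
      apply ih x u hx (by omega) hI (a * b1) (mul_mem_Cw_right hb1 ha)
      rw [← hnu]
      exact rep_mem_Cw nu
    have h2 := lemma1r ht (a := (st : G) * b2) (mul_mem_Cw_right hb2 (rep_mem_Cw st)) h1
    have h3 : a * (b1 * ((nu * st : P.N) : G) * b2) = a * b1 * (nu : G) * ((st : G) * b2) := by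
      push_cast
      group
    rw [h3]
    have h4 : x * u * mk P st = x * w := by rw [mul_assoc, ← hw']
    rw [h4] at h2
    rcases h2 with h2 | h2
    · exact h2
    · -- a g ∈ C(xu), and also in C(xw) ∪ C(w)
      have h5 := lemma1 hx ha (a := a) (g := b1 * ((nu * st : P.N) : G) * b2) hg
      rw [h3] at h5
      rcases h5 with h5 | h5
      · exact h5
      · exfalso
        have h6 := eq_of_mem_Cw h2 h5
        have h7 : len P (x * w) = len P u := by
          rw [← h6, ← mul_assoc, Sb_mul_self hx, one_mul]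
        omega

theorem typeI {x w : W P} (hx : x ∈ Sb P) (hle : len P w ≤ len P (x * w)) {a g : G}
    (ha : a ∈ Cw P x) (hg : g ∈ Cw P w) : a * g ∈ Cw P (x * w) :=
  typeI_aux _ x w hx le_rfl hle a ha g hg

/-- Parity: `l(xw) ≠ l(w)`. -/
theorem len_mul_ne {x w : W P} (hx : x ∈ Sb P) : len P (x * w) ≠ len P w := by
  intro h
  obtain ⟨s, hs, rfl⟩ := id hx
  obtain ⟨a, ha, a', ha', haa⟩ := exists_mul_eq_S hs
  obtain ⟨nu, hnu⟩ := exists_rep (mk P s * w)
  have hu : mk P s * (mk P s * w) = w := by rw [← mul_assoc, Sb_mul_self hx, one_mul]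
  have hnumem : (nu : G) ∈ Cw P (mk P s * w) := by rw [← hnu]; exact rep_mem_Cw nu
  -- a' * nu ∈ C(x * (x * w)) = C(w)
  have h1 : a' * nu ∈ Cw P w := by
    have := typeI hx (w := mk P s * w) (by rw [hu, h]) (mem_Cw_mk.2 ha') hnumem
    rwa [hu] at this
  -- a * (a' * nu) ∈ C(x * w)
  have h2 : a * (a' * nu) ∈ Cw P (mk P s * w) :=
    typeI hx (by omega) (mem_Cw_mk.2 ha) h1
  -- and a * (a' * nu) = s * nu ∈ C (w)
  have h3 : a * (a' * nu) ∈ Cw P w := by
    rw [← mul_assoc, haa]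
    have h4 := rep_mem_Cw (s * nu)
    rw [map_mul, hnu, hu] at h4
    exact h4
  have h5 := eq_of_mem_Cw h2 h3
  have : mk P s = 1 := by
    have : mk P s * w = 1 * w := by rw [h5, one_mul]
    exact mul_right_cancel this
  exact Sb_ne_one hx this

theorem len_mul_cases {x w : W P} (hx : x ∈ Sb P) :
    len P (x * w) = len P w + 1 ∨ len P (x * w) + 1 = len P w := by
  have h1 := len_mul_le (w := w) hx
  have h2 := len_le_mul (w := w) hx
  have h3 := len_mul_ne (w := w) hx
  omega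

theorem len_inv (w : W P) : len P w⁻¹ = len P w := by
  have key : ∀ v : W P, len P v⁻¹ ≤ len P v := by
    intro v
    obtain ⟨L, hL, rfl, h3⟩ := exists_reduced v
    have h4 : L.prod⁻¹ = L.reverse.prod := prod_inv_eq_reverse hL
    rw [h4, ← h3]
    have := len_prod_le (P := P) (L := L.reverse) (by simpa using hL)
    simpa using this
  apply le_antisymm (key w)
  simpa using key w⁻¹

theorem len_mul_cases_right {x w : W P} (hx : x ∈ Sb P) :
    len P (w * x) = len P w + 1 ∨ len P (w * x) + 1 = len P w := by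
  have h := len_mul_cases (w := w⁻¹) hx
  have e : x * w⁻¹ = (w * x)⁻¹ := by simp [Sb_inv hx]
  rw [e, len_inv, len_inv] at h
  exact h

/-- If `l(xw) < l(w)`, there are `a, b` with ... type II: `C(w) ∩ C(x)C(w) ≠ ∅`. -/
theorem typeII {x w : W P} (hx : x ∈ Sb P) (hlt : len P (x * w) < len P w) :
    ∃ a ∈ Cw P x, ∃ g ∈ Cw P w, a * g ∈ Cw P w := by
  obtain ⟨s, hs, rfl⟩ := id hx
  obtain ⟨a, ha, a', ha', haa⟩ := exists_mul_eq_S hs
  obtain ⟨nu, hnu⟩ := exists_rep (mk P s * w)
  have hu : mk P s * (mk P s * w) = w := by rw [← mul_assoc, Sb_mul_self hx, one_mul]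
  have hnumem : (nu : G) ∈ Cw P (mk P s * w) := by rw [← hnu]; exact rep_mem_Cw nu
  have h1 : a' * nu ∈ Cw P w := by
    have := typeI hx (w := mk P s * w) (by rw [hu]; omega) (mem_Cw_mk.2 ha') hnumem
    rwa [hu] at this
  refine ⟨a, mem_Cw_mk.2 ha, a' * nu, h1, ?_⟩
  rw [← mul_assoc, haa]
  have h4 := rep_mem_Cw (s * nu)
  rw [map_mul, hnu, hu] at h4
  exact h4

/-- The key step of the exchange condition. -/
theorem exchange_step {x t v : W P} (hx : x ∈ Sb P) (ht : t ∈ Sb P)
    (h1 : len P (x * v) = len P v + 1) (h3 : len P (x * (v * t)) < len P (v * t)) :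
    x * (v * t) = v := by
  obtain ⟨a, ha, g, hg, hag⟩ := typeII hx h3
  obtain ⟨st, hst, rfl⟩ := id ht
  obtain ⟨nv, rfl⟩ := exists_rep v
  have hg' : g ∈ C P ((nv * st : P.N) : G) := by
    rw [← map_mul] at hg
    exact mem_Cw_mk.1 hg
  obtain ⟨b1, hb1, b2, hb2, hgeq⟩ := hg'
  have h4 : a * b1 * (nv : G) ∈ Cw P (x * mk P nv) :=
    typeI hx (by omega) (mul_mem_Cw_right hb1 ha) (rep_mem_Cw nv)
  have h5 := lemma1r ht (a := (st : G) * b2) (mul_mem_Cw_right hb2 (rep_mem_Cw st)) h4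
  have h6 : a * g = a * b1 * (nv : G) * ((st : G) * b2) := by
    rw [hgeq]; push_cast; group
  rw [← h6] at h5
  rcases h5 with h5 | h5
  · -- v t = x v t
    have h7 := eq_of_mem_Cw hag h5
    exfalso
    have : x = 1 := by
      have h8 : 1 * (mk P nv * mk P st) = x * (mk P nv * mk P st) := by rw [one_mul, mul_assoc] at *; exact h7
      exact (mul_right_cancel h8).symm
    exact Sb_ne_one hx this
  · have h7 := eq_of_mem_Cw hag h5
    rw [h7, ← mul_assoc, Sb_mul_self hx, one_mul]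

/-- Exchange condition (left). -/
theorem exchange : ∀ (L : List (W P)), (∀ x ∈ L, x ∈ Sb P) → L.length = len P L.prod →
    ∀ x ∈ Sb P, len P (x * L.prod) < len P L.prod →
      ∃ i : Fin L.length, x * L.prod = (L.eraseIdx i).prod := by
  intro L
  induction L using List.reverseRecOn with
  | nil =>
    intro _ _ x _ h
    simp [len_one] at h
  | append_singleton M t ih =>
    intro hL hred x hx hlt
    have ht : t ∈ Sb P := hL t (by simp)
    have hM : ∀ y ∈ M, y ∈ Sb P := fun y hy => hL y (by simp [hy])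
    have hlenM : M.length = len P M.prod := by
      have h1 : len P M.prod ≤ M.length := len_prod_le hM
      have h2 : len P (M.prod * t) ≤ len P M.prod + 1 := len_mul_le_right ht
      simp only [List.length_append, List.length_cons, List.length_nil, List.prod_append,
        List.prod_cons, List.prod_nil, mul_one] at hred
      omega
    simp only [List.prod_append, List.prod_cons, List.prod_nil, mul_one] at hlt ⊢
    have hcase := len_mul_cases (w := M.prod) hx
    rcases hcase with hcase | hcase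
    · -- last letter
      have := exchange_step hx ht hcase hlt
      refine ⟨⟨M.length, by simp⟩, ?_⟩
      rw [this]
      have : (M ++ [t]).eraseIdx M.length = M := by
        rw [List.eraseIdx_append_of_length_le le_rfl]
        simp
      rw [this]
    · obtain ⟨i, hi⟩ := ih hM hlenM x hx (by omega)
      refine ⟨⟨i.1, Nat.lt_of_lt_of_le i.2 (by simp)⟩, ?_⟩
      have : (M ++ [t]).eraseIdx i.1 = M.eraseIdx i.1 ++ [t] := by
        rw [List.eraseIdx_append_of_lt_length i.2]
      rw [this, ← mul_assoc, hi]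
      simp

/-- Deletion: every word contains a reduced subword with the same product. -/
theorem exists_reduced_sublist : ∀ (L : List (W P)), (∀ x ∈ L, x ∈ Sb P) →
    ∃ L' : List (W P), L'.Sublist L ∧ L'.prod = L.prod ∧ L'.length = len P L'.prod := by
  intro L
  induction L with
  | nil =>
    intro _
    exact ⟨[], List.Sublist.refl _, rfl, by simp [len_one]⟩
  | cons t M ih =>
    intro hL
    have ht : t ∈ Sb P := hL t (by simp)
    have hM : ∀ y ∈ M, y ∈ Sb P := fun y hy => hL y (by simp [hy])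
    obtain ⟨L', hsub, hprod, hlen⟩ := ih hM
    have hL' : ∀ y ∈ L', y ∈ Sb P := fun y hy => hM y (hsub.subset hy)
    rcases len_mul_cases (w := L'.prod) ht with hc | hc
    · refine ⟨t :: L', List.Sublist.cons_cons t hsub, by simp [hprod], ?_⟩
      simp only [List.prod_cons, List.length_cons]
      omega
    · obtain ⟨i, hi⟩ := exchange L' hL' hlen t ht (by omega)
      refine ⟨L'.eraseIdx i, ((List.eraseIdx_sublist _ _).trans hsub).cons t, ?_, ?_⟩
      · rw [← hi, hprod]; simp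
      · rw [← hi, List.length_eraseIdx_of_lt i.2]
        omega

/-- Support: if `M ≥ B` is a subgroup and `n ∈ M ∩ N`, all letters of reduced words of `n` lie in `M`. -/
theorem letters_mem (M : Subgroup G) (hM : P.B ≤ M) : ∀ (L : List (W P)), (∀ x ∈ L, x ∈ Sb P) →
    L.length = len P L.prod → ∀ n : P.N, mk P n = L.prod → (n : G) ∈ M →
      ∀ x ∈ L, ∀ s : P.N, mk P s = x → (s : G) ∈ M := by
  intro L
  induction L with
  | nil => intro _ _ _ _ _ x hx; simp at hx
  | cons t L0 ih =>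
    intro hL hred n hn hnM x hx s hs
    have ht : t ∈ Sb P := hL t (by simp)
    have hL0 : ∀ y ∈ L0, y ∈ Sb P := fun y hy => hL y (by simp [hy])
    have hlenL0 : L0.length = len P L0.prod := by
      have h1 : len P L0.prod ≤ L0.length := len_prod_le hL0
      have h2 := len_mul_le (w := L0.prod) ht
      simp only [List.length_cons, List.prod_cons] at hred
      omega
    have hinc : len P L0.prod ≤ len P (t * L0.prod) := by
      simp only [List.length_cons, List.prod_cons] at hred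
      omega
    obtain ⟨st, hst, rfl⟩ := id ht
    obtain ⟨n0, hn0⟩ := exists_rep L0.prod
    obtain ⟨a, ha, a', ha', haa⟩ := exists_mul_eq_S hst
    -- a * n0 ∈ C(w), a'⁻¹ * n0 ∈ C(w)
    have hCw : ∀ g ∈ Cw P (mk P n), g ∈ M := by
      intro g hg
      rw [mem_Cw_mk] at hg
      obtain ⟨u, hu, v, hv, rfl⟩ := hg
      exact M.mul_mem (M.mul_mem (hM hu) hnM) (hM hv)
    have hw : mk P n = mk P st * L0.prod := by rw [hn]; simp
    have h1 : a * n0 ∈ M := by
      apply hCw
      rw [hw]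
      apply typeI ht hinc (mem_Cw_mk.2 ha)
      rw [← hn0]; exact rep_mem_Cw n0
    have h2 : a'⁻¹ * n0 ∈ M := by
      apply hCw
      rw [hw]
      have : a'⁻¹ ∈ C P (st : G) := by
        have := inv_mem_C ha'
        rwa [C_inv_S hst] at this
      apply typeI ht hinc (mem_Cw_mk.2 this)
      rw [← hn0]; exact rep_mem_Cw n0
    have hstM : (st : G) ∈ M := by
      have : (st : G) = (a * n0) * (a'⁻¹ * n0)⁻¹ := by
        rw [← haa]; group
      rw [this]
      exact M.mul_mem h1 (M.inv_mem h2)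
    -- now recursion
    have hn0M : (n0 : G) ∈ M := by
      -- n0 ~ st⁻¹ n
      have : mk P n0 = mk P (st⁻¹ * n) := by
        rw [map_mul, map_inv, hn0, hw, Sb_inv ht]
        rw [← mul_assoc, Sb_mul_self ht, one_mul]
      rw [mk_eq_mk_iff] at this
      have h3 : ((n0 : G))⁻¹ * ((st⁻¹ * n : P.N) : G) ∈ M := hM this
      have h4 : ((st⁻¹ * n : P.N) : G) ∈ M := by
        push_cast
        exact M.mul_mem (M.inv_mem hstM) hnM
      have e : (n0 : G) = ((st⁻¹ * n : P.N) : G) * ((n0 : G)⁻¹ * ((st⁻¹ * n : P.N) : G))⁻¹ := by group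
      rw [e]
      exact M.mul_mem h4 (M.inv_mem h3)
    rcases List.mem_cons.1 hx with rfl | hxL0
    · -- x = t
      have := mk_eq_mk_iff.1 hs
      have h5 : (s : G)⁻¹ * st ∈ M := hM this
      have e : (s : G) = st * ((s : G)⁻¹ * st)⁻¹ := by group
      rw [e]
      exact M.mul_mem hstM (M.inv_mem h5)
    · exact ih hL0 hlenL0 n0 hn0 hn0M x hxL0 s hs

end Cfsg.Agent.Lib.BNPair

namespace Cfsg.Agent.Lib.BNPair

open Cfsg

variable {G : Type*} [Group G] {P : Cfsg.BNPair G}

/-! ### Part 2: parabolic subgroups -/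

lemma C_le_parabolic {J : Set G} {n g : G} (hn : n ∈ Subgroup.closure J) (hg : g ∈ C P n) :
    g ∈ P.parabolic J := by
  obtain ⟨x, hx, y, hy, rfl⟩ := hg
  have h1 : P.B ≤ P.parabolic J := le_sup_left
  have h2 : Subgroup.closure J ≤ P.parabolic J := le_sup_right
  exact (P.parabolic J).mul_mem ((P.parabolic J).mul_mem (h1 hx) (h2 hn)) (h1 hy)

/-- The union of double cosets over `closure J`. -/
def unionC (P : Cfsg.BNPair G) (J : Set G) : Set G := {g | ∃ n ∈ Subgroup.closure J, g ∈ C P n}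

lemma unionC_mul {J : Set G} (hJ : J ⊆ P.S) (n : G) (hn : n ∈ Subgroup.closure J) :
    (∀ x ∈ C P n, ∀ y ∈ unionC P J, x * y ∈ unionC P J) ∧
    (∀ x ∈ C P n⁻¹, ∀ y ∈ unionC P J, x * y ∈ unionC P J) := by
  induction hn using Subgroup.closure_induction with
  | mem s hs =>
    have key : ∀ x ∈ C P s, ∀ y ∈ unionC P J, x * y ∈ unionC P J := by
      rintro x hx y ⟨m, hm, hy⟩
      have hmN : m ∈ P.N := mem_closure_S_N (Subgroup.closure_mono hJ hm)
      rcases T3 (hJ hs) hmN hx hy with h | h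
      · exact ⟨s * m, Subgroup.mul_mem _ (Subgroup.subset_closure hs) hm, h⟩
      · exact ⟨m, hm, h⟩
    refine ⟨key, ?_⟩
    rw [C_inv_S (hJ hs)]
    exact key
  | one =>
    have key : ∀ x ∈ C P (1 : G), ∀ y ∈ unionC P J, x * y ∈ unionC P J := by
      rintro x hx y ⟨m, hm, hy⟩
      rw [C_one] at hx
      exact ⟨m, hm, mul_mem_C_left hx hy⟩
    exact ⟨key, by simpa using key⟩
  | mul a b _ _ ha hb =>
    constructor
    · rintro x ⟨u, hu, v, hv, rfl⟩ y hy
      have e : u * (a * b) * v * y = (u * a) * ((b * v) * y) := by group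
      rw [e]
      apply ha.1 _ (mul_mem_C_left hu (self_mem_C a))
      exact hb.1 _ (mul_mem_C_right hv (self_mem_C b)) _ hy
    · rintro x ⟨u, hu, v, hv, rfl⟩ y hy
      have e : u * (a * b)⁻¹ * v * y = (u * b⁻¹) * ((a⁻¹ * v) * y) := by group
      rw [e]
      apply hb.2 _ (mul_mem_C_left hu (self_mem_C _))
      exact ha.2 _ (mul_mem_C_right hv (self_mem_C _)) _ hy
  | inv a _ ha => exact ⟨ha.2, by simpa using ha.1⟩

/-- `unionC` as a subgroup. -/
def unionCSubgroup (J : Set G) (hJ : J ⊆ P.S) : Subgroup G where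
  carrier := unionC P J
  mul_mem' := by
    rintro a b ⟨n, hn, ha⟩ hb
    exact (unionC_mul hJ n hn).1 a ha b hb
  one_mem' := ⟨1, Subgroup.one_mem _, by rw [C_one]; exact P.B.one_mem⟩
  inv_mem' := by
    rintro a ⟨n, hn, ha⟩
    exact ⟨n⁻¹, Subgroup.inv_mem _ hn, inv_mem_C ha⟩

/-- S0310. -/
theorem mem_parabolic_iff {J : Set G} (hJ : J ⊆ P.S) {g : G} :
    g ∈ P.parabolic J ↔ ∃ n ∈ Subgroup.closure J, g ∈ C P n := by
  constructor
  · intro hg
    have : P.parabolic J ≤ unionCSubgroup J hJ := by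
      refine sup_le ?_ ?_
      · intro b hb
        exact ⟨1, Subgroup.one_mem _, by rw [C_one]; exact hb⟩
      · rw [Subgroup.closure_le]
        intro s hs
        exact ⟨s, Subgroup.subset_closure hs, self_mem_C s⟩
    exact this hg
  · rintro ⟨n, hn, hg⟩
    exact C_le_parabolic hn hg

lemma parabolic_S_eq_top : P.parabolic P.S = ⊤ := by
  have h : P.N ≤ P.parabolic P.S := by
    rw [← P.closure_sup]
    refine sup_le le_sup_right ?_
    exact inf_le_left.trans le_sup_left
  rw [eq_top_iff, ← P.sup_eq_top]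
  exact sup_le le_sup_left h

/-- S0308: Bruhat decomposition, existence. -/
theorem exists_mem_C (g : G) : ∃ n ∈ P.N, g ∈ C P n := by
  have hg : g ∈ P.parabolic P.S := by rw [parabolic_S_eq_top]; trivial
  obtain ⟨n, hn, h⟩ := (mem_parabolic_iff subset_rfl).1 hg
  exact ⟨n, mem_closure_S_N hn, h⟩

/-- Letters coming from `J`. -/
def Sbof (P : Cfsg.BNPair G) (J : Set G) : Set (W P) := {w | ∃ s : P.N, (s : G) ∈ J ∧ mk P s = w}

lemma Sbof_sub {J : Set G} (hJ : J ⊆ P.S) : Sbof P J ⊆ Sb P := by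
  rintro w ⟨s, hs, rfl⟩
  exact ⟨s, hJ hs, rfl⟩

/-- elements of `closure J` have words in `J`. -/
lemma exists_word_of_mem_closure {J : Set G} (hJ : J ⊆ P.S) {n : G}
    (hn : n ∈ Subgroup.closure J) (hnN : n ∈ P.N) :
    ∃ L : List (W P), (∀ x ∈ L, x ∈ Sbof P J) ∧ L.prod = mk P ⟨n, hnN⟩ := by
  induction hn using Subgroup.closure_induction with
  | mem s hs => exact ⟨[mk P ⟨s, hnN⟩], by simpa using ⟨⟨s, hnN⟩, hs, rfl⟩, by simp⟩
  | one => exact ⟨[], by simp, by
      have : (⟨1, hnN⟩ : P.N) = 1 := rfl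
      rw [this, map_one]; simp⟩
  | mul a b ha hb iha ihb =>
    have haN : a ∈ P.N := mem_closure_S_N (Subgroup.closure_mono hJ ha)
    have hbN : b ∈ P.N := mem_closure_S_N (Subgroup.closure_mono hJ hb)
    obtain ⟨L, hL, h1⟩ := iha haN
    obtain ⟨M, hM, h2⟩ := ihb hbN
    refine ⟨L ++ M, ?_, ?_⟩
    · intro z hz
      rcases List.mem_append.1 hz with h | h
      · exact hL z h
      · exact hM z h
    · rw [List.prod_append, h1, h2, ← map_mul]
      rfl
  | inv a ha iha =>
    have haN : a ∈ P.N := mem_closure_S_N (Subgroup.closure_mono hJ ha)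
    obtain ⟨L, hL, h1⟩ := iha haN
    refine ⟨L.reverse, by simpa using hL, ?_⟩
    rw [← prod_inv_eq_reverse (fun x hx => Sbof_sub hJ (hL x hx)), h1, ← map_inv]
    rfl

/-- `S ∩ P_J = J`. -/
theorem S_mem_parabolic {J : Set G} (hJ : J ⊆ P.S) {s : G} (hs : s ∈ P.S)
    (hsJ : s ∈ P.parabolic J) : s ∈ J := by
  obtain ⟨n, hn, hsn⟩ := (mem_parabolic_iff hJ).1 hsJ
  have hnN : n ∈ P.N := mem_closure_S_N (Subgroup.closure_mono hJ hn)
  obtain ⟨L, hL, h1⟩ := exists_word_of_mem_closure hJ hn hnN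
  have hsN := S_mem_N hs
  have h2 : mk P ⟨s, hsN⟩ = mk P ⟨n, hnN⟩ :=
    eq_of_mem_Cw (rep_mem_Cw ⟨s, hsN⟩) (mem_Cw_mk.2 hsn)
  obtain ⟨L', hsub, hprod, hlen⟩ := exists_reduced_sublist L (fun x hx => Sbof_sub hJ (hL x hx))
  rw [hprod, h1, ← h2, len_Sb (mk_mem_Sb hs)] at hlen
  obtain ⟨x, rfl⟩ := List.length_eq_one_iff.1 hlen
  have hx : x ∈ Sbof P J := hL x (hsub.subset (by simp))
  obtain ⟨t, ht, rfl⟩ := hx
  have h3 : mk P ⟨s, hsN⟩ = mk P t := by
    rw [h2, ← h1, ← hprod]; simp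
  rw [mk_eq_mk_iff] at h3
  have := P.inj s hs t (hJ ht) h3
  rw [this]
  exact ht

lemma parabolic_mono {J K : Set G} (h : J ⊆ K) : P.parabolic J ≤ P.parabolic K :=
  sup_le_sup_left (Subgroup.closure_mono h) _

lemma B_le_parabolic (J : Set G) : P.B ≤ P.parabolic J := le_sup_left

lemma subset_parabolic (J : Set G) : J ⊆ P.parabolic J := fun _ h =>
  (le_sup_right : Subgroup.closure J ≤ P.parabolic J) (Subgroup.subset_closure h)

/-- words with letters in `J` lift into `closure J`. -/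
lemma exists_lift_of_word {J : Set G} {L : List (W P)} (hL : ∀ x ∈ L, x ∈ Sbof P J) :
    ∃ m : P.N, (m : G) ∈ Subgroup.closure J ∧ mk P m = L.prod := by
  induction L with
  | nil => exact ⟨1, Subgroup.one_mem _, by simp⟩
  | cons x L ih =>
    obtain ⟨m, hm, h1⟩ := ih (fun y hy => hL y (by simp [hy]))
    obtain ⟨s, hs, rfl⟩ := hL x (by simp)
    refine ⟨s * m, ?_, by simp [h1]⟩
    push_cast
    exact Subgroup.mul_mem _ (Subgroup.subset_closure hs) hm

/-- S0311: every subgroup containing `B` is `P_J` for `J = S ∩ M`. -/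
theorem eq_parabolic_of_le (M : Subgroup G) (hM : P.B ≤ M) :
    M = P.parabolic (P.S ∩ (M : Set G)) := by
  apply le_antisymm
  · intro g hg
    obtain ⟨n, hnN, hgn⟩ := exists_mem_C (P := P) g
    have hnM : n ∈ M := by
      obtain ⟨x, hx, y, hy, rfl⟩ := hgn
      have e : n = x⁻¹ * (x * n * y) * y⁻¹ := by group
      rw [e]
      exact M.mul_mem (M.mul_mem (M.inv_mem (hM hx)) hg) (M.inv_mem (hM hy))
    obtain ⟨L, hL, hprod, hlen⟩ := exists_reduced (mk P ⟨n, hnN⟩)
    have hLJ : ∀ x ∈ L, x ∈ Sbof P (P.S ∩ (M : Set G)) := by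
      intro x hx
      obtain ⟨s, hs, rfl⟩ := hL x hx
      refine ⟨s, ⟨hs, ?_⟩, rfl⟩
      exact letters_mem M hM L hL (by rw [hprod, hlen]) ⟨n, hnN⟩ hprod.symm hnM _ hx s rfl
    obtain ⟨m, hm, hmk⟩ := exists_lift_of_word hLJ
    rw [hprod] at hmk
    have : g ∈ C P (m : G) := by
      have h := C_eq_of_mk_eq hmk
      rw [h]
      exact hgn
    exact C_le_parabolic hm this
  · refine sup_le hM ?_
    rw [Subgroup.closure_le]
    exact fun s hs => hs.2

/-- `s` is a product of elements of `C n` and inverse, for a length-decreasing left letter. -/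
lemma S_mem_mul_inv {s n : P.N} (hs : (s : G) ∈ P.S)
    (hlen : len P (mk P s * mk P n) + 1 = len P (mk P n)) :
    ∃ g1 ∈ C P (n : G), ∃ g2 ∈ C P (n : G), (s : G) = g1 * g2⁻¹ := by
  have ht : mk P s ∈ Sb P := mk_mem_Sb hs
  obtain ⟨a, ha, a', ha', haa⟩ := exists_mul_eq_S hs
  obtain ⟨n0, hn0⟩ := exists_rep (mk P s * mk P n)
  have hw : mk P s * (mk P s * mk P n) = mk P n := by
    rw [← mul_assoc, Sb_mul_self ht, one_mul]
  have h1 : a * n0 ∈ Cw P (mk P n) := by
    have := typeI ht (w := mk P s * mk P n) (by rw [hw]; omega) (mem_Cw_mk.2 ha)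
      (by rw [← hn0]; exact rep_mem_Cw n0)
    rwa [hw] at this
  have h2 : a'⁻¹ * n0 ∈ Cw P (mk P n) := by
    have h3 : a'⁻¹ ∈ C P (s : G) := by
      have := inv_mem_C ha'
      rwa [C_inv_S hs] at this
    have := typeI ht (w := mk P s * mk P n) (by rw [hw]; omega) (mem_Cw_mk.2 h3)
      (by rw [← hn0]; exact rep_mem_Cw n0)
    rwa [hw] at this
  refine ⟨_, mem_Cw_mk.1 h1, _, mem_Cw_mk.1 h2, ?_⟩
  rw [← haa]
  group

/-- S0318 (core). -/
theorem mem_sup_conj_aux (k : ℕ) : ∀ n : P.N, len P (mk P n) ≤ k →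
    (n : G) ∈ P.B ⊔ P.B.map (MulAut.conj (n : G)).toMonoidHom := by
  induction k with
  | zero =>
    intro n h
    have : mk P n = 1 := len_eq_zero.1 (by omega)
    exact (le_sup_left : P.B ≤ _) (mk_eq_one_iff.1 this)
  | succ k ih =>
    intro n h
    by_cases hn1 : mk P n = 1
    · exact (le_sup_left : P.B ≤ _) (mk_eq_one_iff.1 hn1)
    obtain ⟨x, hx, hlen⟩ := exists_left_letter hn1
    obtain ⟨s, hs, rfl⟩ := hx
    set Q := P.B ⊔ P.B.map (MulAut.conj (n : G)).toMonoidHom with hQ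
    have hBQ : P.B ≤ Q := le_sup_left
    have hconj : ∀ b ∈ P.B, (n : G) * b * (n : G)⁻¹ ∈ Q := by
      intro b hb
      apply (le_sup_right : P.B.map (MulAut.conj (n : G)).toMonoidHom ≤ Q)
      exact ⟨b, hb, by simp [MulAut.conj_apply]⟩
    have hsQ : (s : G) ∈ Q := by
      obtain ⟨g1, ⟨u, hu, v, hv, rfl⟩, g2, ⟨u', hu', v', hv', rfl⟩, h⟩ := S_mem_mul_inv hs hlen
      rw [h]
      have e : u * n * v * (u' * n * v')⁻¹ = u * ((n : G) * (v * v'⁻¹) * (n : G)⁻¹) * u'⁻¹ := by group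
      rw [e]
      exact Q.mul_mem (Q.mul_mem (hBQ hu) (hconj _ (P.B.mul_mem hv (P.B.inv_mem hv')))) (Q.inv_mem (hBQ hu'))
    -- n' = s⁻¹ n
    have hn' : len P (mk P (s⁻¹ * n)) ≤ k := by
      rw [map_mul, map_inv, Sb_inv (mk_mem_Sb hs)]
      omega
    have h1 := ih (s⁻¹ * n) hn'
    have h2 : P.B ⊔ P.B.map (MulAut.conj (((s⁻¹ * n : P.N)) : G)).toMonoidHom ≤ Q := by
      refine sup_le hBQ ?_
      rintro _ ⟨b, hb, rfl⟩
      have e : (MulAut.conj (((s⁻¹ * n : P.N)) : G)).toMonoidHom b =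
          (s : G)⁻¹ * ((n : G) * b * (n : G)⁻¹) * s := by
        show ((s⁻¹ * n : P.N) : G) * b * ((s⁻¹ * n : P.N) : G)⁻¹ = _
        push_cast
        group
      rw [e]
      exact Q.mul_mem (Q.mul_mem (Q.inv_mem hsQ) (hconj b hb)) hsQ
    have h3 := h2 h1
    have e : (n : G) = s * ((s⁻¹ * n : P.N) : G) := by push_cast; group
    rw [e]
    exact Q.mul_mem hsQ h3

theorem mem_sup_conj (n : P.N) : (n : G) ∈ P.B ⊔ P.B.map (MulAut.conj (n : G)).toMonoidHom :=
  mem_sup_conj_aux _ n le_rfl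

/-- S0318. -/
theorem sup_closure_eq {n : G} (hn : n ∈ P.N) :
    P.B ⊔ Subgroup.closure {n} = P.B ⊔ P.B.map (MulAut.conj n).toMonoidHom := by
  apply le_antisymm
  · refine sup_le le_sup_left ?_
    rw [Subgroup.closure_le, Set.singleton_subset_iff]
    exact mem_sup_conj ⟨n, hn⟩
  · refine sup_le le_sup_left ?_
    rintro _ ⟨b, hb, rfl⟩
    have h1 : n ∈ P.B ⊔ Subgroup.closure {n} :=
      (le_sup_right : Subgroup.closure {n} ≤ _) (Subgroup.subset_closure rfl)
    have h2 : b ∈ P.B ⊔ Subgroup.closure {n} := (le_sup_left : P.B ≤ _) hb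
    simp only [MulEquiv.coe_toMonoidHom, MulAut.conj_apply]
    exact Subgroup.mul_mem _ (Subgroup.mul_mem _ h1 h2) (Subgroup.inv_mem _ h1)

/-- if `n` and `B` conjugated by `n` lie in a subgroup `Q ≥ B` ... -/
lemma mem_of_conj_le {n : P.N} {Q : Subgroup G} (hBQ : P.B ≤ Q)
    (h : ∀ b ∈ P.B, (n : G) * b * (n : G)⁻¹ ∈ Q) : (n : G) ∈ Q := by
  have : P.B ⊔ P.B.map (MulAut.conj (n : G)).toMonoidHom ≤ Q := by
    refine sup_le hBQ ?_
    rintro _ ⟨b, hb, rfl⟩
    simpa [MulAut.conj_apply] using h b hb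
  exact this (mem_sup_conj n)

/-- S0312. -/
theorem normalizer_parabolic {J : Set G} (_hJ : J ⊆ P.S) :
    Subgroup.normalizer (P.parabolic J : Set G) = P.parabolic J := by
  apply le_antisymm
  · intro g hg
    obtain ⟨n, hnN, hgn⟩ := exists_mem_C (P := P) g
    obtain ⟨x, hx, y, hy, rfl⟩ := hgn
    rw [Subgroup.mem_normalizer_iff] at hg
    have hB := B_le_parabolic (P := P) J
    have hn : n ∈ P.parabolic J := by
      refine mem_of_conj_le (n := ⟨n, hnN⟩) hB ?_
      intro b hb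
      -- g (y⁻¹ b y) g⁻¹ = x n b n⁻¹ x⁻¹
      have h1 := (hg (y⁻¹ * b * y)).1 (by
        exact (P.parabolic J).mul_mem ((P.parabolic J).mul_mem (hB (P.B.inv_mem hy)) (hB hb)) (hB hy))
      have e : (n : G) * b * (n : G)⁻¹ = x⁻¹ * (x * n * y * (y⁻¹ * b * y) * (x * n * y)⁻¹) * x := by group
      simp only [] at e ⊢
      rw [e]
      exact (P.parabolic J).mul_mem ((P.parabolic J).mul_mem (hB (P.B.inv_mem hx)) h1) (hB hx)
    exact (P.parabolic J).mul_mem ((P.parabolic J).mul_mem (hB hx) hn) (hB hy)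
  · exact Subgroup.le_normalizer

/-- S0313. -/
theorem parabolic_eq_of_conj {J K : Set G} (g : G)
    (h : (P.parabolic J).map (MulAut.conj g).toMonoidHom = P.parabolic K) :
    P.parabolic J = P.parabolic K := by
  obtain ⟨n, hnN, hgn⟩ := exists_mem_C (P := P) g
  obtain ⟨x, hx, y, hy, rfl⟩ := hgn
  have hBJ := B_le_parabolic (P := P) J
  have hBK := B_le_parabolic (P := P) K
  have hconj : ∀ z ∈ P.parabolic J, (x * n * y) * z * (x * n * y)⁻¹ ∈ P.parabolic K := by
    intro z hz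
    rw [← h]
    exact ⟨z, hz, rfl⟩
  have hn : n ∈ P.parabolic K := by
    refine mem_of_conj_le (n := ⟨n, hnN⟩) hBK ?_
    intro b hb
    have h1 := hconj (y⁻¹ * b * y) ((P.parabolic J).mul_mem ((P.parabolic J).mul_mem (hBJ (P.B.inv_mem hy)) (hBJ hb)) (hBJ hy))
    have e : (n : G) * b * (n : G)⁻¹ = x⁻¹ * (x * n * y * (y⁻¹ * b * y) * (x * n * y)⁻¹) * x := by group
    simp only [] at e ⊢
    rw [e]
    exact (P.parabolic K).mul_mem ((P.parabolic K).mul_mem (hBK (P.B.inv_mem hx)) h1) (hBK hx)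
  -- y ∈ P_K too, so g ∈ P_K
  have hg : x * n * y ∈ P.parabolic K :=
    (P.parabolic K).mul_mem ((P.parabolic K).mul_mem (hBK hx) hn) (hBK hy)
  apply le_antisymm
  · intro z hz
    have h1 := hconj z hz
    have e : z = (x * n * y)⁻¹ * ((x * n * y) * z * (x * n * y)⁻¹) * (x * n * y) := by group
    rw [e]
    exact (P.parabolic K).mul_mem ((P.parabolic K).mul_mem ((P.parabolic K).inv_mem hg) h1) hg
  · intro z hz
    have h1 : (x * n * y) * z * (x * n * y)⁻¹ ∈ P.parabolic K :=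
      (P.parabolic K).mul_mem ((P.parabolic K).mul_mem hg hz) ((P.parabolic K).inv_mem hg)
    rw [← h] at h1
    obtain ⟨u, hu, hue⟩ := h1
    simp only [MulEquiv.coe_toMonoidHom, MulAut.conj_apply] at hue
    have : u = z := by
      exact mul_left_cancel (mul_right_cancel hue)
    rw [← this]
    exact hu

/-- S0314. -/
theorem parabolic_injective {J K : Set G} (hJ : J ⊆ P.S) (hK : K ⊆ P.S)
    (h : P.parabolic J = P.parabolic K) : J = K := by
  ext s
  constructor
  · intro hs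
    exact S_mem_parabolic hK (hJ hs) (h ▸ subset_parabolic J hs)
  · intro hs
    exact S_mem_parabolic hJ (hK hs) (h ▸ subset_parabolic K hs)

/-- S0315. -/
theorem parabolic_inf {J K : Set G} (hJ : J ⊆ P.S) (hK : K ⊆ P.S) :
    P.parabolic J ⊓ P.parabolic K = P.parabolic (J ∩ K) := by
  apply le_antisymm
  · have hle : P.B ≤ P.parabolic J ⊓ P.parabolic K :=
      le_inf (B_le_parabolic J) (B_le_parabolic K)
    conv_lhs => rw [eq_parabolic_of_le (P.parabolic J ⊓ P.parabolic K) hle]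
    apply parabolic_mono
    rintro s ⟨hs, hsJ, hsK⟩
    exact ⟨S_mem_parabolic hJ hs hsJ, S_mem_parabolic hK hs hsK⟩
  · exact le_inf (parabolic_mono Set.inter_subset_left) (parabolic_mono Set.inter_subset_right)

/-- S0316. -/
noncomputable def parabolicIso (P : Cfsg.BNPair G) : Set P.S ≃o {M : Subgroup G // P.B ≤ M} where
  toFun J := ⟨P.parabolic (Subtype.val '' J), B_le_parabolic _⟩
  invFun M := {s | (s : G) ∈ M.1}
  left_inv J := by
    ext s
    show (s : G) ∈ P.parabolic (Subtype.val '' J) ↔ s ∈ J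
    constructor
    · intro h
      have := S_mem_parabolic (P := P) (J := Subtype.val '' J) (by
        rintro _ ⟨t, _, rfl⟩; exact t.2) s.2 h
      obtain ⟨t, ht, e⟩ := this
      have : t = s := Subtype.ext e
      rwa [← this]
    · intro h
      exact subset_parabolic _ ⟨s, h, rfl⟩
  right_inv M := by
    apply Subtype.ext
    show P.parabolic _ = M.1
    have : (Subtype.val '' {s : P.S | (s : G) ∈ M.1}) = P.S ∩ (M.1 : Set G) := by
      ext x
      constructor
      · rintro ⟨s, hs, rfl⟩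
        exact ⟨s.2, hs⟩
      · rintro ⟨h1, h2⟩
        exact ⟨⟨x, h1⟩, h2, rfl⟩
    rw [this]
    exact (eq_parabolic_of_le M.1 M.2).symm
  map_rel_iff' := by
    intro J K
    constructor
    · intro h s hs
      have h1 : (s : G) ∈ P.parabolic (Subtype.val '' K) :=
        h (subset_parabolic _ ⟨s, hs, rfl⟩)
      obtain ⟨t, ht, e⟩ := S_mem_parabolic (P := P) (J := Subtype.val '' K) (by
        rintro _ ⟨t, _, rfl⟩; exact t.2) s.2 h1
      have : t = s := Subtype.ext e
      rwa [← this]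
    · intro h
      exact parabolic_mono (Set.image_mono h)

/-- S0317. -/
theorem S_not_mem_sup {s : G} (hs : s ∈ P.S) :
    s ∉ Subgroup.closure (P.S \ {s}) ⊔ (P.B ⊓ P.N) := by
  intro h
  have h1 : Subgroup.closure (P.S \ {s}) ⊔ (P.B ⊓ P.N) ≤ P.parabolic (P.S \ {s}) :=
    sup_le le_sup_right (inf_le_left.trans le_sup_left)
  have := S_mem_parabolic (J := P.S \ {s}) Set.sdiff_subset hs (h1 h)
  exact this.2 rfl

/-- S0321. -/
theorem exists_subgroup_iff {n : G} (hn : n ∈ P.N) (hnB : n ∉ P.B) :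
    (∃ H : Subgroup G, (H : Set G) = (P.B : Set G) ∪ C P n) ↔ ∃ s ∈ P.S, s⁻¹ * n ∈ P.B := by
  constructor
  · rintro ⟨H, hH⟩
    have hBH : P.B ≤ H := by
      intro b hb
      have : b ∈ (H : Set G) := by rw [hH]; exact Or.inl hb
      exact this
    have hnH : n ∈ H := by
      have : n ∈ (H : Set G) := by rw [hH]; exact Or.inr (self_mem_C n)
      exact this
    have hn1 : mk P ⟨n, hn⟩ ≠ 1 := by
      rw [Ne, mk_eq_one_iff]; exact hnB
    obtain ⟨L, hL, hprod, hlen⟩ := exists_reduced (mk P ⟨n, hn⟩)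
    cases L with
    | nil => simp at hprod; exact absurd hprod.symm hn1
    | cons x L =>
      obtain ⟨s, hs, rfl⟩ := hL x (by simp)
      have hsH : (s : G) ∈ H :=
        letters_mem H hBH _ hL (by rw [hprod, hlen]) ⟨n, hn⟩ hprod.symm hnH _ (by simp) s rfl
      have hs2 : (s : G) ∈ (H : Set G) := hsH
      rw [hH] at hs2
      rcases hs2 with h | h
      · exact absurd h (S_not_mem_B hs)
      · refine ⟨s, hs, ?_⟩
        have := eq_of_mem_Cw (rep_mem_Cw s) (mem_Cw_mk.2 h : (s : G) ∈ Cw P (mk P ⟨n, hn⟩))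
        exact mk_eq_mk_iff.1 this
  · rintro ⟨s, hs, hsn⟩
    refine ⟨P.parabolic {s}, ?_⟩
    have hsub : ({s} : Set G) ⊆ P.S := by simpa using hs
    have hCn : C P n = C P s := by
      have e : n = s * (s⁻¹ * n) := by group
      rw [e, C_mul_right hsn]
    ext g
    rw [SetLike.mem_coe, mem_parabolic_iff hsub, hCn]
    constructor
    · rintro ⟨m, hm, hg⟩
      have key : ∀ m ∈ Subgroup.closure ({s} : Set G), C P m = (P.B : Set G) ∨ C P m = C P s := by
        intro m hm
        have hsN := S_mem_N hs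
        have : ∀ m ∈ Subgroup.closure ({s} : Set G), ∃ hm : m ∈ P.N,
            mk P ⟨m, hm⟩ = 1 ∨ mk P ⟨m, hm⟩ = mk P ⟨s, hsN⟩ := by
          intro m hm
          induction hm using Subgroup.closure_induction with
          | mem x hx =>
            rw [Set.mem_singleton_iff] at hx
            subst hx
            exact ⟨hsN, Or.inr rfl⟩
          | one => exact ⟨P.N.one_mem, Or.inl (by
              have : (⟨1, P.N.one_mem⟩ : P.N) = 1 := rfl
              rw [this, map_one])⟩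
          | mul a b _ _ ha hb =>
            obtain ⟨ha1, ha2⟩ := ha
            obtain ⟨hb1, hb2⟩ := hb
            refine ⟨P.N.mul_mem ha1 hb1, ?_⟩
            have e : (⟨a * b, P.N.mul_mem ha1 hb1⟩ : P.N) = ⟨a, ha1⟩ * ⟨b, hb1⟩ := rfl
            rw [e, map_mul]
            have h2 := Sb_mul_self (mk_mem_Sb (P := P) (s := ⟨s, hsN⟩) hs)
            rcases ha2 with h | h <;> rcases hb2 with h' | h' <;> rw [h, h'] <;> simp [h2]
          | inv a _ ha =>
            obtain ⟨ha1, ha2⟩ := ha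
            refine ⟨P.N.inv_mem ha1, ?_⟩
            have e : (⟨a⁻¹, P.N.inv_mem ha1⟩ : P.N) = (⟨a, ha1⟩ : P.N)⁻¹ := rfl
            rw [e, map_inv]
            rcases ha2 with h | h
            · left; rw [h]; simp
            · right; rw [h, Sb_inv (mk_mem_Sb (P := P) (s := ⟨s, hsN⟩) hs)]
        obtain ⟨hmN, h⟩ := this m hm
        rcases h with h | h
        · left
          have := C_eq_of_mk_eq (n := ⟨m, hmN⟩) (m := 1) (by rw [h, map_one])
          simp only [OneMemClass.coe_one] at this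
          rw [this, C_one]
        · right
          exact C_eq_of_mk_eq (n := ⟨m, hmN⟩) (m := ⟨s, hsN⟩) h
      rcases key m hm with h | h
      · rw [h] at hg
        exact Or.inl hg
      · rw [h] at hg
        exact Or.inr hg
    · rintro (h | h)
      · exact ⟨1, Subgroup.one_mem _, by rw [C_one]; exact h⟩
      · exact ⟨s, Subgroup.subset_closure rfl, h⟩

end Cfsg.Agent.Lib.BNPair
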