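import Cfsg.Agent.Lib.BNPair

set_option autoImplicit false

/-!
(B,N)-pairs, part 3: rank one, the simplicity criterion, the Coxeter system.
-/

namespace Cfsg.Agent.Lib.BNPair2

open Cfsg Cfsg.Agent.Lib.BNPair

variable {G : Type*} [Group G] {P : Cfsg.BNPair G}

/-- For rank one: `G = B ∪ BsB`. -/
lemma mem_B_or_C_of_S_eq {s : G} (hS : P.S = {s}) (g : G) : g ∈ P.B ∨ g ∈ C P s := by
  have hs : s ∈ P.S := by rw [hS]; rfl
  have hsub : P.S ⊆ P.S := subset_rfl
  have hg : g ∈ P.parabolic P.S := by rw [parabolic_S_eq_top]; trivial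
  obtain ⟨m, hm, hgm⟩ := (mem_parabolic_iff hsub).1 hg
  have hsN := S_mem_N hs
  rw [hS] at hm
  have : ∀ m ∈ Subgroup.closure ({s} : Set G), ∃ hm : m ∈ P.N,
      mk P ⟨m, hm⟩ = 1 ∨ mk P ⟨m, hm⟩ = mk P ⟨s, hsN⟩ := by
    intro m hm
    induction hm using Subgroup.closure_induction with
    | mem x hx =>
      rw [Set.mem_singleton_iff] at hx
      subst hx
      exact ⟨hsN, Or.inr rfl⟩
    | one => exact ⟨P.N.one_mem, Or.inl (by
        have : (⟨1, P.N.one_mem⟩ : P.N) = 1 := rfl
        rw [this, map_one])⟩
    | mul a b _ _ ha hb =>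
      obtain ⟨ha1, ha2⟩ := ha
      obtain ⟨hb1, hb2⟩ := hb
      refine ⟨P.N.mul_mem ha1 hb1, ?_⟩
      have e : (⟨a * b, P.N.mul_mem ha1 hb1⟩ : P.N) = ⟨a, ha1⟩ * ⟨b, hb1⟩ := rfl
      rw [e, map_mul]
      have h2 := Sb_mul_self (mk_mem_Sb (P := P) (s := ⟨s, hsN⟩) hs)
      rcases ha2 with h | h <;> rcases hb2 with h' | h' <;> rw [h, h'] <;> simp [h2]
    | inv a _ ha =>
      obtain ⟨ha1, ha2⟩ := ha
      refine ⟨P.N.inv_mem ha1, ?_⟩
      have e : (⟨a⁻¹, P.N.inv_mem ha1⟩ : P.N) = (⟨a, ha1⟩ : P.N)⁻¹ := rfl
      rw [e, map_inv]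
      rcases ha2 with h | h
      · left; rw [h]; simp
      · right; rw [h, Sb_inv (mk_mem_Sb (P := P) (s := ⟨s, hsN⟩) hs)]
  obtain ⟨hmN, h⟩ := this m hm
  rcases h with h | h
  · left
    have := C_eq_of_mk_eq (n := ⟨m, hmN⟩) (m := 1) (by rw [h, map_one])
    simp only [OneMemClass.coe_one] at this
    rw [this, C_one] at hgm
    exact hgm
  · right
    rwa [C_eq_of_mk_eq (n := ⟨m, hmN⟩) (m := ⟨s, hsN⟩) h] at hgm

/-- S0322. -/
theorem two_transitive_of_rank_one (h : P.rank = 1) :
    MulAction.IsMultiplyPretransitive G (G ⧸ P.B) 2 := by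
  have hcard : Nat.card P.S = 1 := h
  rw [Nat.card_eq_one_iff_unique] at hcard
  obtain ⟨hsub, ⟨⟨s, hs⟩⟩⟩ := hcard
  have hS : P.S = {s} := by
    ext x
    constructor
    · intro hx
      have : (⟨x, hx⟩ : P.S) = ⟨s, hs⟩ := Subsingleton.elim _ _
      simpa using congrArg Subtype.val this
    · rintro rfl
      exact hs
  rw [MulAction.is_two_pretransitive_iff]
  -- every pair of distinct points moves to the standard pair
  have key : ∀ {a b : G ⧸ P.B}, a ≠ b → ∃ g : G, g • a = QuotientGroup.mk 1 ∧ g • b = QuotientGroup.mk s := by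
    intro a b hab
    obtain ⟨g1, rfl⟩ := QuotientGroup.mk_surjective a
    obtain ⟨g2, rfl⟩ := QuotientGroup.mk_surjective b
    have hnot : g1⁻¹ * g2 ∉ P.B := by
      intro hmem
      exact hab (QuotientGroup.eq.2 hmem)
    rcases mem_B_or_C_of_S_eq hS (g1⁻¹ * g2) with h | h
    · exact absurd h hnot
    · obtain ⟨u, hu, v, hv, huv⟩ := h
      refine ⟨u⁻¹ * g1⁻¹, ?_, ?_⟩
      · rw [MulAction.Quotient.smul_mk, QuotientGroup.eq]
        simpa using hu
      · rw [MulAction.Quotient.smul_mk, QuotientGroup.eq]
        have e : (u⁻¹ * g1⁻¹ * g2)⁻¹ * s = v⁻¹ := by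
          have : g2 = g1 * (u * s * v) := by rw [← huv]; group
          rw [this]
          group
        simp only [smul_eq_mul]
        rw [e]
        exact P.B.inv_mem hv
  intro a b c d hab hcd
  obtain ⟨g, h1, h2⟩ := key hab
  obtain ⟨g', h1', h2'⟩ := key hcd
  refine ⟨g'⁻¹ * g, ?_, ?_⟩
  · rw [mul_smul, h1, ← h1', inv_smul_smul]
  · rw [mul_smul, h2, ← h2', inv_smul_smul]

/-! ### The simplicity criterion -/

lemma len_mul_two {x y : W P} (hx : x ∈ Sb P) (hy : y ∈ Sb P) (hxy : x ≠ y) : len P (x * y) = 2 := by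
  rcases len_mul_cases (w := y) hx with h | h
  · rw [h, len_Sb hy]
  · exfalso
    rw [len_Sb hy] at h
    have h0 : len P (x * y) = 0 := by omega
    rw [len_eq_zero] at h0
    have : x = y⁻¹ := eq_inv_of_mul_eq_one_left h0
    rw [Sb_inv hy] at this
    exact hxy this

/-- Commutation of letters inside and outside a subgroup `M = K B`, `K` normal. -/
theorem commute_of_normal (K : Subgroup G) [K.Normal] (s s' : P.N)
    (hs : (s : G) ∈ P.S) (hs' : (s' : G) ∈ P.S)
    (hsM : (s : G) ∈ K ⊔ P.B) (hs'M : (s' : G) ∉ K ⊔ P.B) :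
    (s : G) * s' * (s : G)⁻¹ * (s' : G)⁻¹ ∈ P.B := by
  set M := K ⊔ P.B with hM
  have hBM : P.B ≤ M := le_sup_right
  have hKM : K ≤ M := le_sup_left
  have hx : mk P s ∈ Sb P := mk_mem_Sb hs
  have hy : mk P s' ∈ Sb P := mk_mem_Sb hs'
  have hne : mk P s ≠ mk P s' := by
    intro h
    have := P.inj s hs s' hs' (mk_eq_mk_iff.1 h)
    rw [this] at hsM
    exact hs'M hsM
  -- s = k b
  obtain ⟨k, hk, b, hb, hkb⟩ := (Subgroup.mem_sup_of_normal_left (s := K) (t := P.B)).1 hsM
  have hk' : (s' : G) * k * (s' : G)⁻¹ ∈ K := Subgroup.Normal.conj_mem ‹_› k hk s'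
  have hmem : (s' : G) * k * (s' : G)⁻¹ ∈ C P ((s' : G) * s * s') ∪ C P ((s' : G) * s) := by
    have e : (s' : G) * k * (s' : G)⁻¹ = ((s' : G) * s) * (b⁻¹ * (s' : G)⁻¹) := by
      rw [← hkb]; group
    rw [e]
    have h1 : b⁻¹ * (s' : G)⁻¹ ∈ C P (s' : G) := by
      rw [← C_inv_S hs']
      exact mul_mem_C_left (P.B.inv_mem hb) (self_mem_C _)
    exact T3r hs' (P.N.mul_mem s'.2 s.2) h1 (self_mem_C _)
  have hCM : ∀ n g : G, g ∈ C P n → g ∈ M → n ∈ M := by
    rintro n g ⟨u, hu, v, hv, rfl⟩ hg
    have e : n = u⁻¹ * (u * n * v) * v⁻¹ := by group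
    rw [e]
    exact M.mul_mem (M.mul_mem (M.inv_mem (hBM hu)) hg) (M.inv_mem (hBM hv))
  have hk'M := hKM hk'
  have hnM : (s' : G) * s * s' ∈ M := by
    rcases hmem with h | h
    · exact hCM _ _ h hk'M
    · exfalso
      have := hCM _ _ h hk'M
      apply hs'M
      have e : (s' : G) = ((s' : G) * s) * (s : G)⁻¹ := by group
      rw [e]
      exact M.mul_mem this (M.inv_mem hsM)
  -- lengths
  set x := mk P s with hxdef
  set y := mk P s' with hydef
  have hn : mk P (s' * s * s') = y * (x * y) := by simp [hxdef, hydef, mul_assoc]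
  have hlen2 := len_mul_two hx hy hne
  rcases len_mul_cases (w := x * y) hy with h3 | h1
  · exfalso
    -- [y, x, y] reduced
    have hred : ([y, x, y] : List (W P)).length = len P ([y, x, y] : List (W P)).prod := by
      simp only [List.length_cons, List.length_nil, List.prod_cons, List.prod_nil, mul_one]
      rw [h3, hlen2]
    have := letters_mem M hBM [y, x, y] (by
      intro z hz
      simp only [List.mem_cons, List.not_mem_nil, or_false] at hz
      rcases hz with rfl | rfl | rfl <;> assumption) hred (s' * s * s') (by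
      rw [hn]; simp) hnM y (by simp) s' rfl
    exact hs'M this
  · -- length one
    have hlen1 : len P (y * (x * y)) = 1 := by omega
    obtain ⟨L, hL, hprod, hlenL⟩ := exists_reduced (y * (x * y))
    rw [hlen1] at hlenL
    obtain ⟨t, rfl⟩ := List.length_eq_one_iff.1 hlenL
    have ht : t ∈ Sb P := hL t (by simp)
    have hprod' : t = y * (x * y) := by simpa using hprod
    obtain ⟨τ, hτ, hτt⟩ := id ht
    -- y x = t y
    have h2 : y * x = t * y := by
      rw [hprod', ← mul_assoc, mul_assoc y x y, mul_assoc, mul_assoc, Sb_mul_self hy]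
      simp
    -- t ≠ y
    have hty : t ≠ y := by
      intro h
      rw [h, Sb_mul_self hy] at h2
      have : x = y := by
        have h4 : y * x = y * y := by rw [h2, Sb_mul_self hy]
        exact mul_left_cancel h4
      exact hne this
    -- support argument
    have hsub2 : ({(s : G), (s' : G)} : Set G) ⊆ P.S := by
      rintro z (rfl | rfl)
      · exact hs
      · exact hs'
    have hv : mk P (s' * s) = y * x := by simp [hxdef, hydef]
    have hredT : ([t, y] : List (W P)).length = len P ([t, y] : List (W P)).prod := by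
      simp only [List.length_cons, List.length_nil, List.prod_cons, List.prod_nil, mul_one]
      rw [len_mul_two ht hy hty]
    have hτM := letters_mem (P.parabolic {(s : G), (s' : G)}) (B_le_parabolic _) [t, y] (by
      intro z hz
      simp only [List.mem_cons, List.not_mem_nil, or_false] at hz
      rcases hz with rfl | rfl <;> assumption) hredT (s' * s) (by
      rw [hv, h2]; simp) (by
      push_cast
      exact Subgroup.mul_mem _ (subset_parabolic _ (by simp)) (subset_parabolic _ (by simp)))
      t (by simp) τ hτt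
    have hτ2 := S_mem_parabolic hsub2 hτ hτM
    have htx : t = x := by
      rcases hτ2 with h | h
      · have : τ = s := Subtype.ext h
        rw [← hτt, this]
      · exfalso
        have : τ = s' := Subtype.ext h
        apply hty
        rw [← hτt, this]
    -- conclusion
    rw [htx] at h2
    have h5 : mk P (s * s' * s⁻¹ * s'⁻¹) = 1 := by
      simp only [map_mul, map_inv]
      rw [← hxdef, ← hydef, Sb_inv hx, Sb_inv hy]
      calc x * y * x * y = x * (y * x) * y := by simp only [mul_assoc]
        _ = x * (x * y) * y := by rw [h2]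
        _ = (x * x) * (y * y) := by simp only [mul_assoc]
        _ = 1 := by rw [Sb_mul_self hx, Sb_mul_self hy, one_mul]
    have := mk_eq_one_iff.1 h5
    simpa using this

/-- S0319. -/
theorem isSimpleGroup_of_irreducible [Nontrivial G] (hirr : P.Irreducible) (hsolv : Group.IsSolvable P.B)
    (hperf : commutator G = ⊤) (hcore : P.B.normalCore = ⊥) : IsSimpleGroup G := by
  refine ⟨?_⟩
  intro K hK
  set M := K ⊔ P.B with hM
  have hBM : P.B ≤ M := le_sup_right
  have hMeq := eq_parabolic_of_le M hBM
  set J := P.S ∩ (M : Set G) with hJ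
  by_cases h1 : J.Nonempty
  · by_cases h2 : (P.S \ J).Nonempty
    · exfalso
      obtain ⟨s, hsJ, s', hs'J, hcomm⟩ := hirr J Set.inter_subset_left h1 h2
      apply hcomm
      have hs's : s' ∈ P.S := hs'J.1
      have hs'M : s' ∉ M := fun h => hs'J.2 ⟨hs's, h⟩
      exact commute_of_normal K ⟨s, S_mem_N hsJ.1⟩ ⟨s', S_mem_N hs's⟩ hsJ.1 hs's hsJ.2 hs'M
    · -- J = S : M = ⊤
      right
      have hJS : J = P.S := by
        apply Set.Subset.antisymm Set.inter_subset_left
        intro s hs
        by_contra hn
        exact h2 ⟨s, hs, hn⟩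
      have hMtop : K ⊔ P.B = ⊤ := by
        have : M = ⊤ := by rw [hMeq, hJS, parabolic_S_eq_top]
        exact this
      -- G/K is solvable and perfect
      have hsurj : Function.Surjective ((QuotientGroup.mk' K).comp P.B.subtype) := by
        intro q
        obtain ⟨g, rfl⟩ := QuotientGroup.mk_surjective q
        have hg : g ∈ K ⊔ P.B := by rw [hMtop]; trivial
        obtain ⟨k, hk, b, hb, rfl⟩ := (Subgroup.mem_sup_of_normal_left (s := K) (t := P.B)).1 hg
        refine ⟨⟨b, hb⟩, ?_⟩
        simp only [MonoidHom.coe_comp, Function.comp_apply, Subgroup.subtype_apply, QuotientGroup.mk'_apply]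
        rw [QuotientGroup.eq]
        have := hK.conj_mem k hk b⁻¹
        simpa [mul_assoc] using this
      have hsol : Group.IsSolvable (G ⧸ K) := Group.isSolvable_of_surjective hsurj
      by_contra hne
      have hnt : Nontrivial (G ⧸ K) := by
        rw [QuotientGroup.nontrivial_iff]
        exact hne
      have hlt := Group.IsSolvable.commutator_lt_top_of_nontrivial (G ⧸ K)
      apply hlt.ne
      have hmk : Function.Surjective (QuotientGroup.mk' K) := QuotientGroup.mk'_surjective K
      have e : (commutator G).map (QuotientGroup.mk' K) = commutator (G ⧸ K) := by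
        rw [commutator_def, commutator_def, Subgroup.map_commutator, ← MonoidHom.range_eq_map,
          MonoidHom.range_eq_top.2 hmk]
      rw [← e, hperf, ← MonoidHom.range_eq_map, MonoidHom.range_eq_top.2 hmk]
  · -- J = ∅ : K ≤ B
    left
    have hJ0 : J = ∅ := Set.not_nonempty_iff_eq_empty.1 h1
    have hMB : M = P.B := by
      rw [hMeq, hJ0]
      show P.B ⊔ Subgroup.closure ∅ = P.B
      simp
    have hKB : K ≤ P.B := by
      have : K ≤ M := le_sup_left
      rwa [hMB] at this
    have : K ≤ P.B.normalCore := (Subgroup.normal_le_normalCore).2 hKB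
    rw [hcore] at this
    exact le_bot_iff.1 this

/-! ### The Coxeter system -/

section Cox

variable {Γ : Type*} [Group Γ]

/-- Product of the alternating word in a group. -/
def altP {A : Type*} [Group A] (a b : A) : ℕ → A
  | 0 => 1
  | (k + 1) => a * altP b a k

lemma altP_aux {A : Type*} [Group A] (a b : A) (k : ℕ) : a * (b * a) ^ k = (a * b) ^ k * a := by
  induction k with
  | zero => simp
  | succ k ih => rw [pow_succ, ← mul_assoc, ih, pow_succ]; simp only [mul_assoc]

lemma altP_mul_inv {A : Type*} [Group A] {a b : A} (ha : a * a = 1) (hb : b * b = 1) (k : ℕ) :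
    altP a b k * (altP b a k)⁻¹ = (a * b) ^ k := by
  have hbi : b⁻¹ = b := inv_eq_of_mul_eq_one_left hb
  have hai : a⁻¹ = a := inv_eq_of_mul_eq_one_left ha
  induction k generalizing a b with
  | zero => simp [altP]
  | succ k ih =>
    have := ih hb ha hai hbi
    calc altP a b (k + 1) * (altP b a (k + 1))⁻¹
        = a * (altP b a k * (altP a b k)⁻¹) * b⁻¹ := by
          simp only [altP, mul_inv_rev, mul_assoc]
      _ = a * (b * a) ^ k * b := by rw [this, hbi]
      _ = (a * b) ^ (k + 1) := by
          rw [altP_aux, pow_succ, mul_assoc]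

/-- The alternating word `u v u ...` with `k` letters. -/
def alt (u v : W P) : ℕ → List (W P)
  | 0 => []
  | (k + 1) => u :: alt v u k

lemma alt_succ (u v : W P) (k : ℕ) : alt u v (k + 1) = u :: alt v u k := rfl

lemma alt_length (u v : W P) (k : ℕ) : (alt u v k).length = k := by
  induction k generalizing u v with
  | zero => rfl
  | succ k ih => simp [alt_succ, ih]

lemma alt_mem {u v : W P} (hu : u ∈ Sb P) (hv : v ∈ Sb P) (k : ℕ) : ∀ x ∈ alt u v k, x ∈ Sb P := by
  induction k generalizing u v with
  | zero => simp [alt]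
  | succ k ih =>
    intro x hx
    rw [alt_succ] at hx
    rcases List.mem_cons.1 hx with rfl | h
    · exact hu
    · exact ih hv hu x h

lemma alt_prod (u v : W P) (k : ℕ) : (alt u v k).prod = altP u v k := by
  induction k generalizing u v with
  | zero => rfl
  | succ k ih => simp [alt_succ, altP, ih]

lemma alt_map_prod (f : W P → Γ) (u v : W P) (k : ℕ) :
    ((alt u v k).map f).prod = altP (f u) (f v) k := by
  induction k generalizing u v with
  | zero => rfl
  | succ k ih => simp [alt_succ, altP, ih]

lemma alt_concat (u v : W P) (k : ℕ) : ∃ z, alt u v (k + 1) = alt u v k ++ [z] := by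
  induction k generalizing u v with
  | zero => exact ⟨u, rfl⟩
  | succ k ih =>
    obtain ⟨z, hz⟩ := ih v u
    refine ⟨z, ?_⟩
    rw [alt_succ, hz, alt_succ]
    rfl

/-- Reduced words. -/
def IsRed (L : List (W P)) : Prop := (∀ x ∈ L, x ∈ Sb P) ∧ L.length = len P L.prod

lemma IsRed.mem {L : List (W P)} (h : IsRed L) {x : W P} (hx : x ∈ L) : x ∈ Sb P := h.1 x hx

lemma IsRed.tail {x : W P} {L : List (W P)} (h : IsRed (x :: L)) : IsRed L := by
  have hx := h.mem (x := x) (by simp)
  refine ⟨fun y hy => h.1 y (by simp [hy]), ?_⟩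
  have h1 : len P L.prod ≤ L.length := len_prod_le (fun y hy => h.1 y (by simp [hy]))
  have h2 := len_mul_le (w := L.prod) hx
  have h3 := h.2
  simp only [List.length_cons, List.prod_cons] at h3
  omega

lemma IsRed.init {z : W P} {L : List (W P)} (h : IsRed (L ++ [z])) : IsRed L := by
  have hz := h.mem (x := z) (by simp)
  refine ⟨fun y hy => h.1 y (by simp [hy]), ?_⟩
  have h1 : len P L.prod ≤ L.length := len_prod_le (fun y hy => h.1 y (by simp [hy]))
  have h2 := len_mul_le_right (w := L.prod) hz
  have h3 := h.2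
  rw [List.length_append, List.length_singleton, List.prod_append, List.prod_singleton] at h3
  omega

lemma IsRed.length_eq {L L' : List (W P)} (h : IsRed L) (h' : IsRed L') (e : L.prod = L'.prod) :
    L.length = L'.length := by
  rw [h.2, h'.2, e]

section Tits

variable (f : W P → Γ) (hf : ∀ x ∈ Sb P, f x * f x = 1)
  (hrel : ∀ x ∈ Sb P, ∀ y ∈ Sb P, ∀ q : ℕ, (x * y) ^ q = 1 → (f x * f y) ^ q = 1)

/-- The value of `f` on a word. -/
def fw (L : List (W P)) : Γ := (L.map f).prod

lemma fw_cons (x : W P) (L : List (W P)) : fw f (x :: L) = f x * fw f L := by simp [fw]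

lemma fw_append (L M : List (W P)) : fw f (L ++ M) = fw f L * fw f M := by simp [fw]

lemma fw_eq_of_prod_eq_first (q : ℕ)
    (IH : ∀ L L' : List (W P), L.length < q → IsRed L → IsRed L' → L.prod = L'.prod → fw f L = fw f L')
    {v : W P} {A B : List (W P)} (hA : IsRed (v :: A)) (hB : IsRed (v :: B))
    (hq : (v :: A).length ≤ q) (e : (v :: A).prod = (v :: B).prod) : fw f (v :: A) = fw f (v :: B) := by
  rw [fw_cons, fw_cons, IH A B (by simp at hq; omega) hA.tail hB.tail
    (by simpa using e)]

lemma tits_step (q : ℕ)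
    (IH : ∀ L L' : List (W P), L.length < q → IsRed L → IsRed L' → L.prod = L'.prod → fw f L = fw f L')
    (U' : List (W P)) (z v : W P) (V1 : List (W P)) (hv : v ∈ Sb P) (hlen : (U' ++ [z]).length = q)
    (hU : IsRed (U' ++ [z])) (hV : IsRed (v :: V1)) (e : (U' ++ [z]).prod = (v :: V1).prod) :
    fw f (U' ++ [z]) = fw f (v :: V1) ∨
      (fw f (v :: U') = fw f (v :: V1) ∧ IsRed (v :: U') ∧ (v :: U').prod = (U' ++ [z]).prod) := by
  set w := (U' ++ [z]).prod with hw
  have hvw : v * w = V1.prod := by
    rw [e, List.prod_cons, ← mul_assoc, Sb_mul_self hv, one_mul]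
  have hwv : v * (v * w) = w := by rw [← mul_assoc, Sb_mul_self hv, one_mul]
  have hlenV : (v :: V1).length = (U' ++ [z]).length := (hV.length_eq hU e.symm)
  have hlenw : (U' ++ [z]).length = len P w := hU.2
  have hlt : len P (v * w) < len P w := by
    rw [hvw]
    have h1 : len P V1.prod ≤ V1.length := len_prod_le (fun y hy => hV.1 y (by simp [hy]))
    simp only [List.length_cons] at hlenV
    omega
  obtain ⟨i, hi⟩ := exchange (U' ++ [z]) hU.1 hU.2 v hv hlt
  rw [← hw] at hi
  have hU' := hU.init
  have hzS : z ∈ Sb P := hU.1 z (by simp)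
  by_cases hil : i.1 < U'.length
  · left
    rw [List.eraseIdx_append_of_lt_length hil] at hi
    set T' := v :: U'.eraseIdx i.1 with hT'
    have hTprod : (T' ++ [z]).prod = w := by
      rw [hT', List.cons_append, List.prod_cons, ← hi, hwv]
    have hTmem : ∀ y ∈ T' ++ [z], y ∈ Sb P := by
      intro y hy
      rcases List.mem_append.1 hy with h | h
      · rcases List.mem_cons.1 h with rfl | h
        · exact hv
        · exact hU.1 y (List.mem_append.2 (Or.inl (List.mem_of_mem_eraseIdx h)))
      · simp at h; rw [h]; exact hzS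
    have hTlen : (T' ++ [z]).length = q := by
      rw [hT']
      simp only [List.length_append, List.length_cons, List.length_nil, List.length_eraseIdx_of_lt hil]
      simp only [List.length_append, List.length_cons, List.length_nil] at hlen
      omega
    have hTred : IsRed (T' ++ [z]) := ⟨hTmem, by rw [hTlen, hTprod, ← hlen, hlenw]⟩
    have h1 : fw f (U' ++ [z]) = fw f (T' ++ [z]) := by
      have hprod' : U'.prod = T'.prod := by
        have h2 : U'.prod * z = T'.prod * z := by
          have h3 := hTprod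
          rw [List.prod_append, List.prod_singleton] at h3
          have h4 : w = U'.prod * z := by rw [hw, List.prod_append, List.prod_singleton]
          rw [h3, h4]
        exact mul_right_cancel h2
      rw [fw_append, fw_append, IH U' T' (by
        simp only [List.length_append, List.length_cons, List.length_nil] at hlen; omega)
        hU' hTred.init hprod']
    have h2 : fw f (T' ++ [z]) = fw f (v :: V1) := by
      have : T' ++ [z] = v :: (U'.eraseIdx i.1 ++ [z]) := by rw [hT']; rfl
      rw [this]
      apply fw_eq_of_prod_eq_first f q IH (this ▸ hTred) hV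
      · rw [← this, hTlen]
      · rw [← this, hTprod, ← e]
    rw [h1, h2]
  · right
    have hi2 : i.1 = U'.length := by
      have := i.2
      simp only [List.length_append, List.length_cons, List.length_nil] at this
      omega
    have herase : (U' ++ [z]).eraseIdx i.1 = U' := by
      rw [hi2, List.eraseIdx_append_of_length_le le_rfl]
      simp
    rw [herase] at hi
    have hprod : (v :: U').prod = w := by
      rw [List.prod_cons, ← hi, hwv]
    have hTred : IsRed (v :: U') := by
      refine ⟨?_, ?_⟩
      · intro y hy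
        rcases List.mem_cons.1 hy with rfl | h
        · exact hv
        · exact hU'.1 y h
      · rw [hprod, ← hlenw]
        simp
    refine ⟨?_, hTred, hprod⟩
    apply fw_eq_of_prod_eq_first f q IH hTred hV
    · simp only [List.length_cons]
      simp only [List.length_append, List.length_cons, List.length_nil] at hlen
      omega
    · rw [hprod, ← e]

include hf hrel in
lemma tits_inner (q : ℕ)
    (IH : ∀ L L' : List (W P), L.length < q → IsRed L → IsRed L' → L.prod = L'.prod → fw f L = fw f L')
    (d : ℕ) : ∀ (a : ℕ) (u v : W P) (U0 V1 : List (W P)), U0.length = d → u ∈ Sb P → v ∈ Sb P →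
      (alt u v (a + 1) ++ U0).length = q →
      IsRed (alt u v (a + 1) ++ U0) → IsRed (v :: V1) → (alt u v (a + 1) ++ U0).prod = (v :: V1).prod →
      fw f (alt u v (a + 1) ++ U0) = fw f (v :: V1) := by
  induction d with
  | zero =>
    intro a u v U0 V1 hd hu hv hlen hU hV e
    have : U0 = [] := List.length_eq_zero_iff.1 hd
    subst this
    rw [List.append_nil] at hlen hU e ⊢
    obtain ⟨z, hz⟩ := alt_concat u v a
    rw [hz] at hlen hU e ⊢
    rcases tits_step f q IH _ z v V1 hv hlen hU hV e with h | ⟨h1, h2, h3⟩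
    · exact h
    · rw [← h1]
      -- T = alt v u (a+1)
      have hT : v :: alt u v a = alt v u (a + 1) := rfl
      rw [hT] at h3 ⊢
      rw [← hz] at h3 ⊢
      rw [alt_prod, alt_prod] at h3
      have hW : (v * u) ^ (a + 1) = 1 := by
        rw [← altP_mul_inv (Sb_mul_self hv) (Sb_mul_self hu), h3]
        simp
      have hG := hrel v hv u hu (a + 1) hW
      have hG2 := altP_mul_inv (hf v hv) (hf u hu) (a + 1)
      rw [hG, mul_inv_eq_one] at hG2
      simp only [fw, alt_map_prod]
      exact hG2.symm
  | succ d ih =>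
    intro a u v U0 V1 hd hu hv hlen hU hV e
    obtain ⟨U1, z, rfl⟩ : ∃ U1 z, U0 = U1 ++ [z] := by
      rcases List.eq_nil_or_concat U0 with rfl | ⟨U1, z, rfl⟩
      · simp at hd
      · exact ⟨U1, z, by simp⟩
    have hd1 : U1.length = d := by simpa using hd
    rw [← List.append_assoc] at hlen hU e ⊢
    rcases tits_step f q IH _ z v V1 hv hlen hU hV e with h | ⟨h1, h2, h3⟩
    · exact h
    · rw [← h1]
      have hT : v :: (alt u v (a + 1) ++ U1) = alt v u (a + 1 + 1) ++ U1 := rfl
      rw [hT] at h2 h3 ⊢
      have hUc : alt u v (a + 1) ++ U1 ++ [z] = u :: (alt v u a ++ (U1 ++ [z])) := by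
        rw [alt_succ]; simp
      rw [hUc] at hU h3 ⊢
      symm
      apply ih (a + 1) v u U1 _ hd1 hv hu _ h2 hU h3
      simp only [List.length_append, alt_length, List.length_cons, List.length_nil] at hlen ⊢
      omega

include hf hrel in
theorem tits_word (q : ℕ) : ∀ L L' : List (W P), L.length = q → IsRed L → IsRed L' →
    L.prod = L'.prod → fw f L = fw f L' := by
  induction q using Nat.strong_induction_on with
  | _ q IHq =>
    intro L L' hq hL hL' e
    have IH : ∀ L L' : List (W P), L.length < q → IsRed L → IsRed L' → L.prod = L'.prod → fw f L = fw f L' := by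
      intro L L' h
      exact IHq _ h L L' rfl
    cases L with
    | nil =>
      have h0 : L'.length = 0 := by
        have := hL.length_eq hL' e
        simpa using this.symm
      rw [List.length_eq_zero_iff.1 h0]
    | cons x A =>
      cases L' with
      | nil =>
        have := hL.length_eq hL' e
        simp at this
      | cons y B =>
        by_cases hxy : x = y
        · subst hxy
          exact fw_eq_of_prod_eq_first f q IH hL hL' (by rw [hq]) e
        · exact tits_inner f hf hrel q IH A.length 0 x y A B rfl (hL.1 x (by simp)) (hL'.1 y (by simp))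
            hq hL hL' e

/-- The map on the Weyl group induced by `f`. -/
noncomputable def psi (w : W P) : Γ := fw f (Classical.choose (exists_reduced w))

lemma isRed_choose (w : W P) : IsRed (Classical.choose (exists_reduced w)) := by
  obtain ⟨h1, h2, h3⟩ := Classical.choose_spec (exists_reduced w)
  exact ⟨h1, by rw [h3, h2]⟩

lemma prod_choose (w : W P) : (Classical.choose (exists_reduced w)).prod = w :=
  (Classical.choose_spec (exists_reduced w)).2.1

include hf hrel in
lemma psi_eq {L : List (W P)} (hL : IsRed L) : psi f L.prod = fw f L :=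
  tits_word f hf hrel _ _ _ rfl (isRed_choose _) hL (prod_choose _)

include hf hrel in
lemma psi_mul_Sb {x : W P} (hx : x ∈ Sb P) (w : W P) : psi f (x * w) = f x * psi f w := by
  have hred_of : ∀ (v : W P), len P v + 1 = len P (x * v) → psi f (x * v) = f x * psi f v := by
    intro v hv
    obtain ⟨L, hL1, rfl, hL3⟩ := exists_reduced v
    have hLred : IsRed L := ⟨hL1, hL3⟩
    have hcons : IsRed (x :: L) := by
      refine ⟨?_, ?_⟩
      · intro y hy
        rcases List.mem_cons.1 hy with rfl | h
        · exact hx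
        · exact hL1 y h
      · simp only [List.length_cons, List.prod_cons]
        omega
    have := psi_eq f hf hrel hcons
    rw [List.prod_cons] at this
    rw [this, fw_cons, psi_eq f hf hrel hLred]
  rcases len_mul_cases (w := w) hx with h | h
  · exact hred_of w h.symm
  · have hw : x * (x * w) = w := by rw [← mul_assoc, Sb_mul_self hx, one_mul]
    have := hred_of (x * w) (by rw [hw]; exact h)
    rw [hw] at this
    rw [this, ← mul_assoc, hf x hx, one_mul]

include hf hrel in
lemma psi_one : psi f (1 : W P) = 1 := by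
  have := psi_eq f hf hrel (L := []) ⟨by simp, by simp [len_one]⟩
  simpa [fw] using this

include hf hrel in
lemma psi_prod (L : List (W P)) (hL : ∀ x ∈ L, x ∈ Sb P) (w : W P) :
    psi f (L.prod * w) = fw f L * psi f w := by
  induction L with
  | nil => simp [fw]
  | cons x L ih =>
    rw [List.prod_cons, mul_assoc, psi_mul_Sb f hf hrel (hL x (by simp)), fw_cons, mul_assoc,
      ih (fun y hy => hL y (by simp [hy]))]

/-- `psi` as a homomorphism. -/
noncomputable def psiHom : W P →* Γ where
  toFun := psi f
  map_one' := psi_one f hf hrel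
  map_mul' a b := by
    obtain ⟨L, hL, rfl⟩ := exists_word a
    rw [psi_prod f hf hrel L hL b]
    have := psi_prod f hf hrel L hL 1
    rw [mul_one, psi_one f hf hrel, mul_one] at this
    rw [this]

end Tits

/-- The embedding of `S` in the Weyl group. -/
def eS (P : Cfsg.BNPair G) (s : P.S) : W P := mk P ⟨s.1, S_mem_N s.2⟩

lemma eS_mem (s : P.S) : eS P s ∈ Sb P := ⟨_, s.2, rfl⟩

lemma eS_injective : Function.Injective (eS P) := by
  intro s t h
  exact Subtype.ext (P.inj _ s.2 _ t.2 (mk_eq_mk_iff.1 h))

lemma Sb_eq_eS {x : W P} (hx : x ∈ Sb P) : ∃ s, eS P s = x := by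
  obtain ⟨s, hs, rfl⟩ := hx
  exact ⟨⟨s, hs⟩, rfl⟩

/-- The Coxeter matrix of a (B,N)-pair. -/
noncomputable def coxMatrix (P : Cfsg.BNPair G) : CoxeterMatrix P.S where
  M := Matrix.of fun i j => orderOf (eS P i * eS P j)
  isSymm := by
    ext i j
    simp only [Matrix.transpose_apply, Matrix.of_apply]
    have : eS P j * eS P i = (eS P i * eS P j)⁻¹ := by
      rw [mul_inv_rev, Sb_inv (eS_mem i), Sb_inv (eS_mem j)]
    rw [this, orderOf_inv]
  diagonal i := by
    simp [Sb_mul_self (eS_mem i)]
  off_diagonal i j hij := by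
    simp only [Matrix.of_apply, ne_eq, orderOf_eq_one_iff]
    intro h
    apply hij
    apply eS_injective
    have : eS P i = (eS P j)⁻¹ := eq_inv_of_mul_eq_one_left h
    rwa [Sb_inv (eS_mem j)] at this

lemma coxMatrix_apply (i j : P.S) : (coxMatrix P) i j = orderOf (eS P i * eS P j) := rfl

/-- The map from `W` to the Coxeter group. -/
noncomputable def fCox (P : Cfsg.BNPair G) (x : W P) : (coxMatrix P).Group :=
  Function.extend (eS P) (coxMatrix P).simple (fun _ => 1) x

lemma fCox_eS (i : P.S) : fCox P (eS P i) = (coxMatrix P).simple i :=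
  eS_injective.extend_apply _ _ _

lemma fCox_self {x : W P} (hx : x ∈ Sb P) : fCox P x * fCox P x = 1 := by
  obtain ⟨i, rfl⟩ := Sb_eq_eS hx
  rw [fCox_eS]
  exact (coxMatrix P).toCoxeterSystem.simple_mul_simple_self i

lemma fCox_rel {x : W P} (hx : x ∈ Sb P) {y : W P} (hy : y ∈ Sb P) (q : ℕ) (h : (x * y) ^ q = 1) :
    (fCox P x * fCox P y) ^ q = 1 := by
  obtain ⟨i, rfl⟩ := Sb_eq_eS hx
  obtain ⟨j, rfl⟩ := Sb_eq_eS hy
  rw [fCox_eS, fCox_eS]
  obtain ⟨c, rfl⟩ := orderOf_dvd_of_pow_eq_one h
  rw [pow_mul, ← coxMatrix_apply]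
  have := (coxMatrix P).toCoxeterSystem.simple_mul_simple_pow i j
  simp only [CoxeterMatrix.toCoxeterSystem_simple] at this
  rw [this, one_pow]

/-- `W → Coxeter group`. -/
noncomputable def psiCox (P : Cfsg.BNPair G) : W P →* (coxMatrix P).Group :=
  psiHom (fCox P) (fun _ hx => fCox_self hx) (fun _ hx _ hy q h => fCox_rel hx hy q h)

lemma psiCox_eS (i : P.S) : psiCox P (eS P i) = (coxMatrix P).simple i := by
  have hred : IsRed [eS P i] := ⟨by simpa using eS_mem i, by simp [len_Sb (eS_mem i)]⟩
  have := psi_eq (fCox P) (fun _ hx => fCox_self hx) (fun _ hx _ hy q h => fCox_rel hx hy q h) hred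
  simp only [List.prod_singleton] at this
  show psi (fCox P) (eS P i) = _
  rw [this]
  simp [fw, fCox_eS]

lemma isLiftable_eS : (coxMatrix P).IsLiftable (eS P) := by
  intro i j
  rw [coxMatrix_apply]
  exact pow_orderOf_eq_one _

/-- Coxeter group → `W`. -/
noncomputable def phiCox (P : Cfsg.BNPair G) : (coxMatrix P).Group →* W P :=
  (coxMatrix P).toCoxeterSystem.lift ⟨eS P, isLiftable_eS⟩

lemma phiCox_simple (i : P.S) : phiCox P ((coxMatrix P).simple i) = eS P i :=
  (coxMatrix P).toCoxeterSystem.lift_apply_simple isLiftable_eS i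

/-- The isomorphism. -/
noncomputable def coxEquiv (P : Cfsg.BNPair G) : W P ≃* (coxMatrix P).Group :=
  MonoidHom.toMulEquiv (psiCox P) (phiCox P)
    (by
      refine MonoidHom.ext fun w => ?_
      obtain ⟨L, hL, rfl⟩ := exists_word w
      induction L with
      | nil => simp
      | cons x L ih =>
        have h := ih (fun y hy => hL y (by simp [hy]))
        obtain ⟨i, rfl⟩ := Sb_eq_eS (hL x (by simp))
        simp only [MonoidHom.coe_comp, Function.comp_apply, MonoidHom.id_apply] at h ⊢
        rw [List.prod_cons, map_mul, map_mul, psiCox_eS, phiCox_simple, h])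
    (by
      apply (coxMatrix P).toCoxeterSystem.ext_simple
      intro i
      simp only [CoxeterMatrix.toCoxeterSystem_simple, MonoidHom.coe_comp, Function.comp_apply,
        MonoidHom.id_apply]
      rw [phiCox_simple, psiCox_eS])

/-- S0320. -/
theorem exists_coxeterSystem (P : Cfsg.BNPair G) :
    ∃ (M : CoxeterMatrix P.S) (cs : CoxeterSystem M (W P)),
      ∀ s : P.S, cs.simple s = mk P ⟨(s : G), P.subset s.2⟩ :=
  ⟨coxMatrix P, ⟨coxEquiv P⟩, fun s => phiCox_simple s⟩

end Cox

end Cfsg.Agent.Lib.BNPair2
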