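import Cfsg.Agent.Lib.BlockE10
import Cfsg.Agent.Lib.CharGal

/-! Arithmetic-geometric mean arguments on Galois-stable subsets of a group. -/

set_option autoImplicit false

namespace Cfsg.Agent.Lib.BlockPair

open Cfsg Cfsg.Agent.Lib.IrrBasic Cfsg.Agent.Lib
open Cfsg.Agent.Lib.CharBasic Cfsg.Agent.Lib.CharOrth Cfsg.Agent.Lib.CharAlg
open scoped ComplexConjugate
open Polynomial

universe u

section AM
variable {G : Type u} [Group G] [Fintype G]

theorem am_gm_subset {χ : G → ℂ} (hχ : IsCharacter G χ) (e : ℕ) (he : e ≠ 0) (S : Finset G)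
    (hS : ∀ g ∈ S, ∀ m : ℕ, m.Coprime (Nat.card G) → g ^ m ∈ S) :
    ((S.filter (fun g => χ g ≠ 0)).card : ℝ) ≤ ∑ g ∈ S, ‖χ g‖ ^ e := by
  classical
  have : NeZero (Nat.card G) := ⟨Nat.card_pos.ne'⟩
  obtain ⟨ξ, Γ, _, k, hξ, hk, ⟨γ₀, hγ₀⟩, hint, hne, -, -⟩ := CharGal.norm_package (Nat.card G)
  obtain ⟨n, ρ, rfl⟩ := id hχ
  have hpoint : ∀ g, ρ.character g ≠ 0 →
      (Fintype.card Γ : ℝ) ≤ ∑ γ, ‖ρ.character (g ^ k γ)‖ ^ e := by
    intro g h0
    obtain ⟨x, hx⟩ := CharGal.exists_poly_char ξ hξ ρ g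
    have hx1 : aeval ξ x = ρ.character g := by simpa using hx 1
    obtain ⟨z, hz⟩ := hint x (by rw [hx1]; exact IsCharacter.isIntegral hχ g)
    have hne' := hne x (by rw [hx1]; exact h0)
    have hpos : ∀ γ, 0 < ‖aeval (ξ ^ k γ) x‖ ^ e := by
      intro γ
      have := norm_pos_iff.mpr (hne' γ)
      positivity
    have hz0 : z ≠ 0 := by
      rintro rfl
      rw [Int.cast_zero] at hz
      obtain ⟨γ, _, hγ⟩ := Finset.prod_eq_zero_iff.mp hz
      exact hne' γ hγ
    have hz1 : (1 : ℝ) ≤ ‖(z : ℂ)‖ := by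
      rw [Complex.norm_intCast]
      exact_mod_cast Int.one_le_abs hz0
    have hprod : (1 : ℝ) ≤ ∏ γ, ‖aeval (ξ ^ k γ) x‖ ^ e := by
      rw [Finset.prod_pow, ← norm_prod, hz]
      exact one_le_pow₀ hz1
    have hlog : 0 ≤ ∑ γ, Real.log (‖aeval (ξ ^ k γ) x‖ ^ e) := by
      rw [← Real.log_prod (fun γ _ => (hpos γ).ne')]
      exact Real.log_nonneg hprod
    have hsum : ∑ γ, Real.log (‖aeval (ξ ^ k γ) x‖ ^ e) ≤
        ∑ γ, (‖aeval (ξ ^ k γ) x‖ ^ e - 1) :=
      Finset.sum_le_sum (fun γ _ => Real.log_le_sub_one_of_pos (hpos γ))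
    rw [Finset.sum_sub_distrib] at hsum
    simp only [Finset.sum_const, Finset.card_univ, nsmul_eq_mul, mul_one] at hsum
    simp only [← hx]
    linarith
  have hperm : ∀ γ, ∑ g ∈ S, ‖ρ.character (g ^ k γ)‖ ^ e = ∑ g ∈ S, ‖ρ.character g‖ ^ e := by
    intro γ
    have hcop : Nat.Coprime (Nat.card G) (k γ) := (hk γ).symm
    have hinj : Function.Injective (fun g : G => g ^ k γ) := (powCoprime hcop).injective
    have him : S.image (fun g : G => g ^ k γ) = S := by
      apply Finset.eq_of_subset_of_card_le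
      · intro y hy
        obtain ⟨g, hg, rfl⟩ := Finset.mem_image.mp hy
        exact hS g hg _ (hk γ)
      · rw [Finset.card_image_of_injective _ hinj]
    conv_rhs => rw [← him]
    rw [Finset.sum_image (fun a _ b _ h => hinj h)]
  have hΓ : 0 < (Fintype.card Γ : ℝ) := by
    have : 0 < Fintype.card Γ := Fintype.card_pos_iff.mpr ⟨γ₀⟩
    exact_mod_cast this
  have h1 : ((S.filter (fun g => ρ.character g ≠ 0)).card : ℝ) * (Fintype.card Γ : ℝ) ≤
      ∑ g ∈ S.filter (fun g => ρ.character g ≠ 0), ∑ γ, ‖ρ.character (g ^ k γ)‖ ^ e := by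
    rw [← nsmul_eq_mul, ← Finset.sum_const]
    exact Finset.sum_le_sum fun g hg => hpoint g (Finset.mem_filter.mp hg).2
  have h2 : ∑ g ∈ S.filter (fun g => ρ.character g ≠ 0), ∑ γ, ‖ρ.character (g ^ k γ)‖ ^ e ≤
      ∑ g ∈ S, ∑ γ, ‖ρ.character (g ^ k γ)‖ ^ e := by
    apply Finset.sum_le_sum_of_subset_of_nonneg (Finset.filter_subset _ _)
    intro g _ _
    positivity
  have h3 : ∑ g ∈ S, ∑ γ, ‖ρ.character (g ^ k γ)‖ ^ e =
      (∑ g ∈ S, ‖ρ.character g‖ ^ e) * (Fintype.card Γ : ℝ) := by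
    rw [Finset.sum_comm]
    simp only [hperm]
    simp [mul_comm]
  have h4 := h1.trans (h2.trans h3.le)
  exact le_of_mul_le_mul_right h4 hΓ

/-- Elements with coprime powers: the set outside a subgroup is stable. -/
theorem pow_coprime_mem_iff (H : Subgroup G) {g : G} {m : ℕ} (hm : m.Coprime (Nat.card G)) :
    g ^ m ∈ H ↔ g ∈ H := by
  constructor
  · intro h
    obtain ⟨j, hj⟩ := exists_pow_eq_self_of_coprime (n := m) (x := g)
      (Nat.Coprime.coprime_dvd_right (orderOf_dvd_natCard g) hm)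
    rw [← hj]
    exact H.pow_mem h _
  · intro h
    exact H.pow_mem h _

/-- A sum form of the mean inequality over the complement of a subgroup. -/
theorem am_gm_compl {χ : G → ℂ} (hχ : IsCharacter G χ) (e : ℕ) (he : e ≠ 0) (H : Subgroup G)
    [DecidablePred (· ∈ H)] :
    (((Finset.univ.filter (fun g : G => g ∉ H)).filter (fun g => χ g ≠ 0)).card : ℝ) ≤
      ∑ g ∈ Finset.univ.filter (fun g : G => g ∉ H), ‖χ g‖ ^ e := by
  apply am_gm_subset hχ e he
  intro g hg m hm
  simp only [Finset.mem_filter, Finset.mem_univ, true_and] at hg ⊢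
  rwa [pow_coprime_mem_iff H hm]

end AM

section AM2
variable {G : Type u} [Group G] [Fintype G]

theorem s4989_aux (H : Subgroup G) (χ : IrrCharacter G) :
    (Nat.card ↥H : ℝ)⁻¹ * ∑ᶠ h : ↥H, ‖(χ : G → ℂ) h‖ ^ 2 ≤
      1 + (Set.ncard ({x : G | (χ : G → ℂ) x = 0} \ (H : Set G)) : ℝ) / (Nat.card ↥H : ℝ) := by
  classical
  haveI : Fintype H := Fintype.ofFinite H
  rw [finsum_eq_sum_of_fintype]
  have hc : IsCharacter G (χ : G → ℂ) := IsIrrCharacter.isCharacter χ.2
  have h1 := am_gm_compl hc 2 (by norm_num) H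
  have h2 := CharGal.sum_norm_sq_irr χ.2
  have h3 : ∑ g : G, ‖(χ : G → ℂ) g‖ ^ 2 = ∑ h : H, ‖(χ : G → ℂ) h‖ ^ 2 +
      ∑ g ∈ Finset.univ.filter (fun g : G => g ∉ H), ‖(χ : G → ℂ) g‖ ^ 2 := by
    rw [← Finset.sum_filter_add_sum_filter_not Finset.univ (fun g : G => g ∈ H)]
    congr 1
    refine Finset.sum_bij (fun g hg => ⟨g, (Finset.mem_filter.mp hg).2⟩) ?_ ?_ ?_ ?_
    · intros; simp
    · intro a _ b _ h; exact congrArg Subtype.val h
    · intro b _; exact ⟨b.1, by simp, rfl⟩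
    · intros; rfl
  have hcard : (Finset.univ.filter (fun g : G => g ∉ H)).card + Nat.card H = Nat.card G := by
    have h5 := Finset.card_filter_add_card_filter_not (s := (Finset.univ : Finset G)) (fun g : G => g ∈ H)
    have h6 : (Finset.univ.filter (fun g : G => g ∈ H)).card = Nat.card H := by
      rw [Nat.card_eq_fintype_card]
      exact (Fintype.card_subtype _).symm
    rw [Finset.card_univ, h6, ← Nat.card_eq_fintype_card] at h5
    omega
  have hV : ((Finset.univ.filter (fun g : G => g ∉ H)).filter (fun g => (χ : G → ℂ) g ≠ 0)).card +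
      Set.ncard ({x : G | (χ : G → ℂ) x = 0} \ (H : Set G)) = (Finset.univ.filter (fun g : G => g ∉ H)).card := by
    have h7 : Set.ncard ({x : G | (χ : G → ℂ) x = 0} \ (H : Set G)) =
        ((Finset.univ.filter (fun g : G => g ∉ H)).filter (fun g => ¬ (χ : G → ℂ) g ≠ 0)).card := by
      rw [← Set.ncard_coe_finset]
      congr 1
      ext x
      simp [and_comm]
    rw [h7]
    exact Finset.card_filter_add_card_filter_not _
  have hH : (0 : ℝ) < (Nat.card H : ℝ) := by exact_mod_cast Nat.card_pos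
  have h8 : ∑ h : H, ‖(χ : G → ℂ) h‖ ^ 2 ≤ (Nat.card H : ℝ) +
      (Set.ncard ({x : G | (χ : G → ℂ) x = 0} \ (H : Set G)) : ℝ) := by
    have e1 : ((Finset.univ.filter (fun g : G => g ∉ H)).card : ℝ) + (Nat.card H : ℝ) = (Nat.card G : ℝ) := by
      exact_mod_cast hcard
    have e2 : (((Finset.univ.filter (fun g : G => g ∉ H)).filter (fun g => (χ : G → ℂ) g ≠ 0)).card : ℝ) +
      (Set.ncard ({x : G | (χ : G → ℂ) x = 0} \ (H : Set G)) : ℝ) = ((Finset.univ.filter (fun g : G => g ∉ H)).card : ℝ) := by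
      exact_mod_cast hV
    linarith
  rw [inv_mul_le_iff₀ hH]
  calc _ ≤ _ := h8
    _ = _ := by field_simp


theorem norm_val_sq (χ : G → ℂ) (g : G) : χ g * conj (χ g) = ((‖χ g‖ ^ 2 : ℝ) : ℂ) := by
  rw [Complex.mul_conj, Complex.normSq_eq_norm_sq]

theorem s4574_aux [DecidableEq G] (χ : G → ℂ) (hχ : IsIrrCharacter G χ) :
    (charDegree χ ^ 2 - 1) * (Finset.univ.filter (fun g : G => ‖χ g‖ = (charDegree χ : ℝ))).card ≤
      (Finset.univ.filter (fun g : G => χ g = 0)).card ∧
    ((∀ g : G, ‖χ g‖ = 0 ∨ ‖χ g‖ = 1 ∨ ‖χ g‖ = (charDegree χ : ℝ)) →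
      (charDegree χ ^ 2 - 1) * (Finset.univ.filter (fun g : G => ‖χ g‖ = (charDegree χ : ℝ))).card =
        (Finset.univ.filter (fun g : G => χ g = 0)).card) := by
  classical
  have hc : IsCharacter G χ := IsIrrCharacter.isCharacter hχ
  have hd : (χ 1) = (charDegree χ : ℂ) := by
    have := charDegree_eq ⟨χ, hχ⟩
    have h2 := val_one ⟨χ, hχ⟩
    simp only at this h2
    rw [h2, this]
  have hdn : ‖χ 1‖ = (charDegree χ : ℝ) := by rw [hd]; simp
  have hd0 : 0 < charDegree χ := by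
    have := dim_ne_zero ⟨χ, hχ⟩
    rw [charDegree_eq ⟨χ, hχ⟩]
    exact Nat.pos_of_ne_zero this
  obtain ⟨Z, hZ⟩ : ∃ Z : Finset G, Z = Finset.univ.filter (fun g : G => ‖χ g‖ = (charDegree χ : ℝ)) := ⟨_, rfl⟩
  obtain ⟨V, hV⟩ : ∃ V : Finset G, V = Finset.univ.filter (fun g : G => χ g = 0) := ⟨_, rfl⟩
  obtain ⟨S, hS⟩ : ∃ S : Finset G, S = Finset.univ.filter (fun g : G => ¬ ‖χ g‖ = (charDegree χ : ℝ)) := ⟨_, rfl⟩
  rw [← hZ, ← hV]
  -- stability
  have hstab : ∀ g ∈ S, ∀ m : ℕ, m.Coprime (Nat.card G) → g ^ m ∈ S := by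
    intro g hg m hm
    rw [hS] at hg ⊢
    simp only [Finset.mem_filter, Finset.mem_univ, true_and] at hg ⊢
    intro hgm
    apply hg
    obtain ⟨n, ρ, hρ, rfl⟩ := id hχ
    have hfin : (Module.finrank ℂ (Fin n → ℂ) : ℝ) = (charDegree ρ.character : ℝ) := by
      have h1 := hd
      rw [Representation.character] at h1
      simp only [map_one, LinearMap.trace_one] at h1
      have h3 : ((Module.finrank ℂ (Fin n → ℂ) : ℕ) : ℂ) = (charDegree ρ.character : ℂ) := h1
      exact_mod_cast h3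
    rw [← hfin] at hgm ⊢
    obtain ⟨ω, hω⟩ := (norm_character_eq_iff ρ _).mp hgm
    obtain ⟨j, hj⟩ := exists_pow_eq_self_of_coprime (n := m) (x := g)
      (Nat.Coprime.coprime_dvd_right (orderOf_dvd_natCard g) hm)
    refine (norm_character_eq_iff ρ _).mpr ⟨ω ^ j, ?_⟩
    rw [← hj, map_pow, hω]
    change (ω • (1 : Module.End ℂ (Fin n → ℂ))) ^ j = ω ^ j • (1 : Module.End ℂ (Fin n → ℂ))
    rw [_root_.smul_pow, one_pow]
  have h1 := am_gm_subset hc 2 (by norm_num) S hstab
  have h2 := CharGal.sum_norm_sq_irr hχ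
  have hsum : ∑ g : G, ‖χ g‖ ^ 2 = (Z.card : ℝ) * (charDegree χ : ℝ) ^ 2 + ∑ g ∈ S, ‖χ g‖ ^ 2 := by
    rw [← Finset.sum_filter_add_sum_filter_not Finset.univ (fun g : G => ‖χ g‖ = (charDegree χ : ℝ))]
    rw [← hZ, ← hS]
    congr 1
    rw [Finset.sum_congr rfl (g := fun _ => (charDegree χ : ℝ) ^ 2)]
    · simp
    · intro g hg
      rw [hZ] at hg
      rw [(Finset.mem_filter.mp hg).2]
  have hcard : S.card + Z.card = Nat.card G := by
    have h5 := Finset.card_filter_add_card_filter_not (s := (Finset.univ : Finset G))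
      (fun g : G => ‖χ g‖ = (charDegree χ : ℝ))
    rw [Finset.card_univ, ← hZ, ← hS, ← Nat.card_eq_fintype_card] at h5
    omega
  have hVS : (S.filter (fun g => χ g ≠ 0)).card + V.card = S.card := by
    have h6 : V = S.filter (fun g => ¬ χ g ≠ 0) := by
      ext g
      rw [hV, hS]
      simp only [Finset.mem_filter, Finset.mem_univ, true_and, not_not]
      constructor
      · intro h
        refine ⟨?_, h⟩
        rw [h]
        simp only [norm_zero]
        have : (0 : ℝ) < (charDegree χ : ℝ) := by exact_mod_cast hd0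
        exact this.ne
      · exact fun h => h.2
    rw [h6]
    exact Finset.card_filter_add_card_filter_not _
  have e1 : (S.card : ℝ) + (Z.card : ℝ) = (Nat.card G : ℝ) := by exact_mod_cast hcard
  have e2 : (((S.filter (fun g => χ g ≠ 0)).card : ℕ) : ℝ) + (V.card : ℝ) = (S.card : ℝ) := by
    exact_mod_cast hVS
  have hone : 1 ≤ charDegree χ ^ 2 := Nat.one_le_pow _ _ hd0
  have hcast : (((charDegree χ ^ 2 - 1) * Z.card : ℕ) : ℝ) = ((charDegree χ : ℝ) ^ 2 - 1) * (Z.card : ℝ) := by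
    rw [Nat.cast_mul, Nat.cast_sub hone]
    push_cast
    ring
  constructor
  · have : (((charDegree χ ^ 2 - 1) * Z.card : ℕ) : ℝ) ≤ (V.card : ℝ) := by
      rw [hcast]
      nlinarith
    exact_mod_cast this
  · intro hall
    have heq : ∑ g ∈ S, ‖χ g‖ ^ 2 = ((S.filter (fun g => χ g ≠ 0)).card : ℝ) := by
      rw [Finset.card_filter]
      push_cast
      apply Finset.sum_congr rfl
      intro g hg
      rw [hS] at hg
      have hg' := (Finset.mem_filter.mp hg).2
      by_cases h0 : χ g = 0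
      · simp [h0]
      · rw [if_pos h0]
        rcases hall g with h | h | h
        · exact absurd (norm_eq_zero.mp h) h0
        · rw [h]; norm_num
        · exact absurd h hg'
    have : (((charDegree χ ^ 2 - 1) * Z.card : ℕ) : ℝ) = (V.card : ℝ) := by
      rw [hcast]
      nlinarith
    exact_mod_cast this

/-- The projection formula for a normal subgroup. -/
theorem sum_normal_mul_val (N : Subgroup G) [hN : N.Normal] [Fintype N] (φ : IrrCharacter G) (x : G) :
    ∑ n : N, φ.1 (n * x) = φ.1 x * (∑ n : N, φ.1 n) / φ.1 1 := by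
  classical
  have hG : (Nat.card G : ℂ) ≠ 0 := Nat.cast_ne_zero.mpr Nat.card_pos.ne'
  have h1 : ∑ t : G, ∑ n : N, φ.1 (t * (n : G) * t⁻¹ * x) = (Nat.card G : ℂ) * ∑ n : N, φ.1 (n * x) := by
    rw [show (Nat.card G : ℂ) * ∑ n : N, φ.1 (n * x) = ∑ t : G, ∑ n : N, φ.1 (n * x) by
      simp [Finset.card_univ, Nat.card_eq_fintype_card]]
    apply Finset.sum_congr rfl
    intro t _
    exact Fintype.sum_equiv (MulAut.conjNormal t).toEquiv _ _ (fun n => by simp [MulAut.conjNormal_apply])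
  have h2 : ∑ t : G, ∑ n : N, φ.1 (t * (n : G) * t⁻¹ * x) =
      (Nat.card G : ℂ) * (φ.1 x * (∑ n : N, φ.1 n) / φ.1 1) := by
    rw [Finset.sum_comm]
    simp only [sum_conj_mul_val φ]
    have h3 : ∀ n : N, (Nat.card G : ℂ) * φ.1 n * φ.1 x / φ.1 1 = ((Nat.card G : ℂ) * φ.1 x / φ.1 1) * φ.1 n := by
      intro n
      ring
    simp only [h3]
    rw [← Finset.mul_sum]
    ring
  exact mul_left_cancel₀ hG (h1.symm.trans h2)

/-- The projection of a character to the part trivial on a normal subgroup. -/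
noncomputable def projN (N : Subgroup G) [Fintype N] (ψ : G → ℂ) (x : G) : ℂ :=
  (Nat.card N : ℂ)⁻¹ * ∑ n : N, ψ (n * x)

theorem projN_irr (N : Subgroup G) [hN : N.Normal] [Fintype N] (φ : IrrCharacter G) :
    projN N φ.1 = φ.1 ∨ projN N φ.1 = 0 := by
  classical
  have hNc : (Nat.card N : ℂ) ≠ 0 := Nat.cast_ne_zero.mpr Nat.card_pos.ne'
  have h1 := val_one_ne_zero φ
  by_cases hs : ∑ n : N, φ.1 n = 0
  · right
    funext x
    simp only [projN, Pi.zero_apply]
    rw [sum_normal_mul_val, hs]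
    simp
  · left
    have h2 : ∀ n' : N, φ.1 n' = φ.1 1 := by
      intro n'
      have h3 := sum_normal_mul_val N φ (n' : G)
      have h4 : ∑ n : N, φ.1 (n * n') = ∑ n : N, φ.1 n :=
        Fintype.sum_equiv (Equiv.mulRight n') _ _ (fun n => by simp)
      rw [h4] at h3
      field_simp at h3
      exact h3.symm
    have h6 : ∑ n : N, φ.1 n = (Nat.card N : ℂ) * φ.1 1 := by
      rw [Finset.sum_congr rfl (fun n _ => h2 n)]
      simp [Finset.card_univ, Nat.card_eq_fintype_card]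
    funext x
    simp only [projN]
    rw [sum_normal_mul_val, h6]
    field_simp

theorem isCharacter_projN (N : Subgroup G) [hN : N.Normal] [Fintype N] {ψ : G → ℂ} (hψ : IsCharacter G ψ) :
    IsCharacter G (projN N ψ) := by
  classical
  obtain ⟨m, hm⟩ := IsCharacter.exists_nat_coeff hψ
  have h1 : projN N ψ = ∑ φ : IrrCharacter G, (m φ : ℂ) • projN N φ.1 := by
    funext x
    simp only [projN, hm, Finset.sum_apply, Pi.smul_apply, smul_eq_mul]
    rw [Finset.sum_comm, Finset.mul_sum]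
    apply Finset.sum_congr rfl
    intro φ _
    rw [← Finset.mul_sum]
    ring
  rw [h1]
  refine IsCharacter.sum _ _ (fun φ _ => ?_)
  have h2 : IsCharacter G (projN N φ.1) := by
    rcases projN_irr N φ with h | h
    · rw [h]; exact IsIrrCharacter.isCharacter φ.2
    · rw [h]; exact isCharacter_zero
  have h3 := IsCharacter.nsmul h2 (m φ)
  convert h3 using 1

theorem s4996_aux (N : Subgroup G) [hN : N.Normal] [Fintype N] (χ : IrrCharacter G) :
    ¬ IsIrrCharacter ↥N (fun n : ↥N => (χ : G → ℂ) n) ↔ ∃ x : G, ∀ n : ↥N, (χ : G → ℂ) ((n : G) * x) = 0 := by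
  classical
  have hc : IsCharacter G (χ : G → ℂ) := IsIrrCharacter.isCharacter χ.2
  obtain ⟨ψ, hψd⟩ : ∃ ψ : G → ℂ, ψ = fun g => (χ : G → ℂ) g * conj ((χ : G → ℂ) g) := ⟨_, rfl⟩
  have hψc : IsCharacter G ψ := by
    rw [hψd]
    exact IsCharacter.mul hc (IsCharacter.conj hc)
  have hF := isCharacter_projN N hψc
  obtain ⟨Fr, hFr⟩ : ∃ Fr : G → ℝ, Fr = fun x => (Nat.card N : ℝ)⁻¹ * ∑ n : N, ‖(χ : G → ℂ) (n * x)‖ ^ 2 := ⟨_, rfl⟩
  have hFe : ∀ x, projN N ψ x = (Fr x : ℂ) := by
    intro x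
    simp only [projN, hψd, norm_val_sq, hFr]
    push_cast
    rfl
  have hFr0 : ∀ x, 0 ≤ Fr x := by
    intro x
    rw [hFr]
    positivity
  have hNc : (0 : ℝ) < (Nat.card N : ℝ) := by exact_mod_cast Nat.card_pos
  have hzero : ∀ x, Fr x = 0 ↔ ∀ n : N, (χ : G → ℂ) (n * x) = 0 := by
    intro x
    rw [hFr]
    simp only [mul_eq_zero, inv_eq_zero]
    constructor
    · rintro (h | h) n
      · exact absurd h hNc.ne'
      · have h1 := (Finset.sum_eq_zero_iff_of_nonneg (fun n _ => by positivity)).mp h n (Finset.mem_univ _)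
        simpa using h1
    · intro h
      right
      exact Finset.sum_eq_zero (fun n _ => by rw [h n]; simp)
  have hinner : classInner (fun n : N => (χ : G → ℂ) n) (fun n : N => (χ : G → ℂ) n) = (Fr 1 : ℂ) := by
    rw [← hFe]
    simp only [classInner, projN, hψd, mul_one]
  have hresc : IsCharacter N (fun n : N => (χ : G → ℂ) n) := IsCharacter.res hc N
  constructor
  · intro hnot
    by_contra hno
    push Not at hno
    have hall : ∀ x, Fr x ≠ 0 := by
      intro x h
      obtain ⟨n, hn⟩ := hno x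
      exact hn ((hzero x).mp h n)
    apply hnot
    apply isIrrCharacter_of_norm_one hresc
    rw [hinner]
    obtain ⟨d, hd⟩ := IsCharacter.classInner_nat hresc hresc
    rw [hinner] at hd
    have hd' : Fr 1 = (d : ℝ) := by exact_mod_cast hd
    -- the counting
    have h1 := am_gm_compl hF 1 one_ne_zero N
    have h2 : (Finset.univ.filter (fun g : G => g ∉ N)).filter (fun g => projN N ψ g ≠ 0) =
        Finset.univ.filter (fun g : G => g ∉ N) := by
      apply Finset.filter_true_of_mem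
      intro g _
      rw [hFe]
      exact_mod_cast hall g
    rw [h2] at h1
    have h3 : ∑ g ∈ Finset.univ.filter (fun g : G => g ∉ N), ‖projN N ψ g‖ ^ 1 =
        ∑ g ∈ Finset.univ.filter (fun g : G => g ∉ N), Fr g := by
      apply Finset.sum_congr rfl
      intro g _
      rw [hFe, pow_one, Complex.norm_real, Real.norm_of_nonneg (hFr0 g)]
    rw [h3] at h1
    have h4 : ∑ g : G, Fr g = (Nat.card G : ℝ) := by
      have h5 := CharGal.sum_norm_sq_irr χ.2
      rw [hFr]
      simp only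
      rw [← Finset.mul_sum, Finset.sum_comm]
      have h6 : ∀ n : N, ∑ g : G, ‖(χ : G → ℂ) (n * g)‖ ^ 2 = (Nat.card G : ℝ) := by
        intro n
        rw [← h5]
        exact Fintype.sum_equiv (Equiv.mulLeft (n : G)) _ _ (fun g => rfl)
      simp only [h6]
      simp only [Finset.sum_const, Finset.card_univ, nsmul_eq_mul, ← Nat.card_eq_fintype_card]
      field_simp
    have h7 : ∀ n' : N, Fr n' = Fr 1 := by
      intro n'
      rw [hFr]
      simp only [mul_one]
      congr 1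
      exact Fintype.sum_equiv (Equiv.mulRight n') _ _ (fun n => by simp)
    have h8 : ∑ g : G, Fr g = (Nat.card N : ℝ) * Fr 1 + ∑ g ∈ Finset.univ.filter (fun g : G => g ∉ N), Fr g := by
      rw [← Finset.sum_filter_add_sum_filter_not Finset.univ (fun g : G => g ∈ N)]
      congr 1
      rw [Finset.sum_congr rfl (g := fun _ => Fr 1)]
      · simp only [Finset.sum_const, nsmul_eq_mul]
        congr 1
        rw [Nat.card_eq_fintype_card]
        congr 1
        exact (Fintype.card_subtype _).symm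
      · intro g hg
        exact h7 ⟨g, (Finset.mem_filter.mp hg).2⟩
    have hcard : (Finset.univ.filter (fun g : G => g ∉ N)).card + Nat.card N = Nat.card G := by
      have h5 := Finset.card_filter_add_card_filter_not (s := (Finset.univ : Finset G)) (fun g : G => g ∈ N)
      have h6 : (Finset.univ.filter (fun g : G => g ∈ N)).card = Nat.card N := by
        rw [Nat.card_eq_fintype_card]
        exact (Fintype.card_subtype _).symm
      rw [Finset.card_univ, h6, ← Nat.card_eq_fintype_card] at h5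
      omega
    have e1 : ((Finset.univ.filter (fun g : G => g ∉ N)).card : ℝ) + (Nat.card N : ℝ) = (Nat.card G : ℝ) := by
      exact_mod_cast hcard
    have h9 : Fr 1 ≤ 1 := by
      have : (Nat.card N : ℝ) * Fr 1 ≤ (Nat.card N : ℝ) * 1 := by linarith
      exact le_of_mul_le_mul_left this hNc
    have h10 : d ≠ 0 := by
      rintro rfl
      apply hall 1
      simpa using hd'
    have h11 : d = 1 := by
      have : (d : ℝ) ≤ 1 := by rw [← hd']; exact h9
      have h12 : d ≤ 1 := by exact_mod_cast this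
      omega
    rw [hd', h11]
    simp
  · rintro ⟨x, hx⟩ hirr
    have h1 : Fr 1 = 1 := by
      have h2 := classInner_irr_self hirr
      rw [hinner] at h2
      exact_mod_cast h2
    have h3 : projN N ψ 1 = 1 := by rw [hFe, h1]; simp
    obtain ⟨lam, hlam⟩ := CharLin.exists_hom_of_linear hF h3
    have h4 : projN N ψ x = 0 := by
      rw [hFe, (hzero x).mpr hx]
      simp
    rw [hlam] at h4
    exact Units.ne_zero _ h4

theorem s4969_aux (g : G) (N : ℝ) (hN : 0 < N) :
    ∑ᶠ χ : IrrCharacter G, (if N ≤ ‖(χ : G → ℂ) 1‖ then ‖(χ : G → ℂ) g‖ / ‖(χ : G → ℂ) 1‖ else 0) ≤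
      Real.sqrt ((Nat.card (ConjClasses G) : ℝ) * (Nat.card ↥(Subgroup.centralizer ({g} : Set G)) : ℝ)) / N := by
  classical
  rw [finsum_eq_sum_of_fintype]
  have h1 : ∑ χ : IrrCharacter G, (if N ≤ ‖(χ : G → ℂ) 1‖ then ‖(χ : G → ℂ) g‖ / ‖(χ : G → ℂ) 1‖ else 0) ≤
      ∑ χ : IrrCharacter G, ‖(χ : G → ℂ) g‖ / N := by
    apply Finset.sum_le_sum
    intro χ _
    split_ifs with h
    · exact div_le_div_of_nonneg_left (norm_nonneg _) hN h
    · positivity
  refine h1.trans ?_
  rw [← Finset.sum_div]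
  apply div_le_div_of_nonneg_right _ hN.le
  apply Real.le_sqrt_of_sq_le
  have h2 := sq_sum_le_card_mul_sum_sq (s := (Finset.univ : Finset (IrrCharacter G)))
    (f := fun χ : IrrCharacter G => ‖(χ : G → ℂ) g‖)
  refine h2.trans (le_of_eq ?_)
  have h3 := sum_irr_val_mul_conj g g
  rw [if_pos (IsConj.refl g)] at h3
  simp only [norm_val_sq] at h3
  have h4 : ∑ χ : IrrCharacter G, ‖(χ : G → ℂ) g‖ ^ 2 = (Nat.card ↥(Subgroup.centralizer ({g} : Set G)) : ℝ) := by
    exact_mod_cast h3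
  rw [h4, Finset.card_univ, ← Nat.card_eq_fintype_card, CharOrth.card_irr]




end AM2

end Cfsg.Agent.Lib.BlockPair
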