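import Mathlib
/-!
Maximality of point stabilisers from the sizes of suborbits.
-/
set_option autoImplicit false
set_option linter.unusedSimpArgs false
set_option linter.unusedVariables false
set_option linter.style.haveILetI false

namespace Cfsg.Agent.Lib.BlockCrit

variable {G X ι : Type*} [Group G] [MulAction G X] [DecidableEq X] [DecidableEq ι]

/-- orbit-stabiliser for a subgroup -/
theorem card_eq_mul (K : Subgroup G) (x : X) (s : Finset X)
    (h1 : ∀ g ∈ K, g • x ∈ s) (h2 : ∀ y ∈ s, ∃ g ∈ K, g • x = y) :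
    Nat.card K = s.card * Nat.card (K ⊓ MulAction.stabilizer G x : Subgroup G) := by
  classical
  have horb : (MulAction.orbit K x) = (s : Set X) := by
    ext y
    simp only [MulAction.mem_orbit_iff, Finset.mem_coe]
    constructor
    · rintro ⟨g, rfl⟩
      exact h1 g g.2
    · intro hy
      obtain ⟨g, hg, rfl⟩ := h2 y hy
      exact ⟨⟨g, hg⟩, rfl⟩
  have hcard := Nat.card_congr (MulAction.orbitProdStabilizerEquivGroup K x)
  rw [Nat.card_prod, horb] at hcard
  rw [← hcard]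
  congr 1
  · simp
  · apply Nat.card_congr
    exact {
      toFun := fun g => ⟨g.1.1, g.1.2, (MulAction.mem_stabilizer_iff.1 g.2 : _)⟩
      invFun := fun g => ⟨⟨g.1, g.2.1⟩, MulAction.mem_stabilizer_iff.2 (MulAction.mem_stabilizer_iff.1 g.2.2)⟩
      left_inv := fun g => rfl
      right_inv := fun g => rfl }

/-- A point stabiliser is maximal when the suborbits (given as fibres of a function `f` on the finite orbit `F`)
have no proper subfamily containing the trivial suborbit whose total size divides the degree. -/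
theorem isCoatom_stabilizer [Finite G] (x : X) (F : Finset X) (hxF : x ∈ F) (hinv : ∀ g : G, ∀ a ∈ F, g • a ∈ F)
    (htr : ∀ a ∈ F, ∃ g : G, g • x = a) (f : X → ι) (T : Finset ι) (hT : ∀ a ∈ F, f a ∈ T)
    (hsub : ∀ a ∈ F, ∀ c ∈ F, f a = f c → ∃ h ∈ MulAction.stabilizer G x, h • a = c)
    (hsurj : ∀ t ∈ T, ∃ a ∈ F, f a = t)
    (hfx : ∀ a ∈ F, f a = f x → a = x)
    (c : ι → ℕ) (hc : ∀ t ∈ T, (F.filter (fun a => f a = t)).card = c t)
    (hdiv : ∀ S ⊆ T, f x ∈ S → (∑ t ∈ S, c t) ∣ F.card → S = {f x} ∨ S = T)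
    (hnt : ∃ a ∈ F, a ≠ x) : IsCoatom (MulAction.stabilizer G x) := by
  classical
  constructor
  · intro htop
    obtain ⟨a, ha, hne⟩ := hnt
    obtain ⟨g, rfl⟩ := htr a ha
    have : g ∈ MulAction.stabilizer G x := by rw [htop]; trivial
    exact hne this
  intro K hK
  obtain ⟨hle, hnle⟩ := SetLike.lt_iff_le_and_exists.1 hK
  obtain ⟨k₀, hk₀, hk₀n⟩ := hnle
  -- the block
  let Δ : Finset X := F.filter (fun a => ∃ k ∈ K, k • x = a)
  have hΔmem : ∀ a, a ∈ Δ ↔ a ∈ F ∧ ∃ k ∈ K, k • x = a := by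
    intro a; simp [Δ]
  -- block sets
  let S : Finset ι := T.filter (fun t => ∃ a ∈ Δ, f a = t)
  have hΔS : ∀ a ∈ F, a ∈ Δ ↔ f a ∈ S := by
    intro a ha
    constructor
    · intro h
      exact Finset.mem_filter.2 ⟨hT a ha, a, h, rfl⟩
    · intro h
      obtain ⟨-, b, hb, hfb⟩ := Finset.mem_filter.1 h
      obtain ⟨hbF, k, hk, rfl⟩ := (hΔmem b).1 hb
      obtain ⟨h', hh', hhb⟩ := hsub _ hbF a ha hfb
      refine (hΔmem a).2 ⟨ha, h' * k, K.mul_mem (hle hh') hk, ?_⟩
      rw [mul_smul, hhb]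
  have hxΔ : x ∈ Δ := (hΔmem x).2 ⟨hxF, 1, K.one_mem, one_smul _ _⟩
  have hfxS : f x ∈ S := (hΔS x hxF).1 hxΔ
  have hST : S ⊆ T := Finset.filter_subset _ _
  -- sizes
  have hΔcard : Δ.card = ∑ t ∈ S, c t := by
    have h1 : Δ = F.filter (fun a => f a ∈ S) := by
      apply Finset.ext
      intro a
      constructor
      · intro h
        have haF := ((hΔmem a).1 h).1
        exact Finset.mem_filter.2 ⟨haF, (hΔS a haF).1 h⟩
      · intro h
        obtain ⟨haF, h'⟩ := Finset.mem_filter.1 h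
        exact (hΔS a haF).2 h'
    rw [h1, Finset.card_eq_sum_card_fiberwise (f := f) (t := S)]
    · apply Finset.sum_congr rfl
      intro t ht
      rw [← hc t (hST ht)]
      congr 1
      ext a
      simp only [Finset.mem_filter]
      constructor
      · rintro ⟨⟨h1, h2⟩, h3⟩
        exact ⟨h1, h3⟩
      · rintro ⟨h1, h3⟩
        exact ⟨⟨h1, h3 ▸ ht⟩, h3⟩
    · intro a ha
      have := Finset.mem_filter.1 (Finset.mem_coe.1 ha)
      exact Finset.mem_coe.2 this.2
  -- divisibility, by orbit-stabiliser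
  have hdvd : Δ.card ∣ F.card := by
    have h1 := card_eq_mul (⊤ : Subgroup G) x F (fun g _ => hinv g x hxF)
      (fun y hy => by obtain ⟨g, hg⟩ := htr y hy; exact ⟨g, trivial, hg⟩)
    have h2 := card_eq_mul K x Δ (fun g hg => (hΔmem _).2 ⟨hinv g x hxF, g, hg, rfl⟩)
      (fun y hy => by obtain ⟨-, k, hk, h⟩ := (hΔmem y).1 hy; exact ⟨k, hk, h⟩)
    rw [top_inf_eq] at h1
    rw [inf_eq_right.2 hle] at h2
    have h3 : Nat.card K ∣ Nat.card (⊤ : Subgroup G) := Subgroup.card_dvd_of_le le_top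
    rw [h1, h2] at h3
    have hpos : 0 < Nat.card (MulAction.stabilizer G x) := Nat.card_pos
    exact Nat.dvd_of_mul_dvd_mul_right hpos h3
  rcases hdiv S hST hfxS (by rw [← hΔcard]; exact hdvd) with hS | hS
  · -- the block is trivial
    exfalso
    apply hk₀n
    have h1 : k₀ • x ∈ Δ := (hΔmem _).2 ⟨hinv _ _ hxF, k₀, hk₀, rfl⟩
    have h2 : f (k₀ • x) ∈ S := (hΔS _ (hinv _ _ hxF)).1 h1
    rw [hS, Finset.mem_singleton] at h2
    exact hfx _ (hinv _ _ hxF) h2
  · -- the block is everything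
    rw [eq_top_iff]
    intro g _
    have h1 : g • x ∈ Δ := by
      rw [hΔS _ (hinv _ _ hxF), hS]
      exact hT _ (hinv _ _ hxF)
    obtain ⟨-, k, hk, hkg⟩ := (hΔmem _).1 h1
    have hmem : k⁻¹ * g ∈ MulAction.stabilizer G x := by
      show (k⁻¹ * g) • x = x
      rw [mul_smul, ← hkg, inv_smul_smul]
    have := K.mul_mem hk (hle hmem)
    simpa using this

end Cfsg.Agent.Lib.BlockCrit
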