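import Cfsg.Agent.Lib.BlockKn4

/-! Sums of squared degrees of principal blocks under normal subgroups. -/

set_option autoImplicit false

namespace Cfsg.Agent.Lib.BlockPair

open Cfsg Cfsg.Agent.Lib.IrrBasic Cfsg.Agent.Lib.LocRing Cfsg.Agent.Lib.CyclicWords Cfsg.Agent.Lib
open Cfsg.Agent.Lib.BlockCore Cfsg.Agent.Lib.BlockOrth Cfsg.Agent.Lib.BlockBrauer
open Cfsg.Agent.Lib.BlockFixed Cfsg.Agent.Lib.BlockDefect Cfsg.Agent.Lib.BlockInduce
open Cfsg.Agent.Lib.BlockMain Cfsg.Agent.Lib.BlockMain2 Cfsg.Agent.Lib.BlockMain3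
open Cfsg.Agent.Lib.BlockMain4 Cfsg.Agent.Lib.BlockNorm Cfsg.Agent.Lib.BlockQuot Cfsg.Agent.Lib.BlockInfl
open Cfsg.Agent.Lib.BlockOku Cfsg.Agent.Lib.BlockInd Cfsg.Agent.Lib.BlockFrob Cfsg.Agent.Lib.BlockFirst
open Cfsg.Agent.Lib.BlockFirst2 Cfsg.Agent.Lib.BlockFirst3 Cfsg.Agent.Lib.BlockHeight Cfsg.Agent.Lib.BlockCentral
open Cfsg.Agent.Lib.BlockCanon Cfsg.Agent.Lib.BlockCover Cfsg.Agent.Lib.BlockCount Cfsg.Agent.Lib.BlockReg
open Cfsg.Agent.Lib.BlockReg2 Cfsg.Agent.Lib.BlockRank Cfsg.Agent.Lib.BlockSub Cfsg.Agent.Lib.BlockSec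
open Cfsg.Agent.Lib.BlockMaj Cfsg.Agent.Lib.BlockFeit
open scoped ComplexConjugate
open MonoidAlgebra Relation

universe u


section E2
variable {G : Type u} [Group G] [Fintype G] {M : Ideal AlgInt} {p : ℕ} [M.IsPrime] [Fact p.Prime]

theorem degree_eq_sum_mult (H : Subgroup G) [Fintype H] [Fintype (IrrCharacter H)] (χ : IrrCharacter G)
    (a : IrrCharacter H → ℕ) (ha : ∀ θ, classInner (fun n : H => χ.1 n) θ.1 = a θ) :
    charDegree χ.1 = ∑ θ, a θ * charDegree θ.1 := by
  classical
  have hcl : IsClassFunction H (fun n : H => χ.1 n) := by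
    intro x t
    simp only [Subgroup.coe_mul, Subgroup.coe_inv]
    exact val_conj χ _ _
  have h1 := congrFun (CharOrth.classFun_eq_sum (fun n : H => χ.1 n) hcl) 1
  simp only [Finset.sum_apply, Pi.smul_apply, smul_eq_mul, Subgroup.coe_one] at h1
  have h2 : ((charDegree χ.1 : ℕ) : ℂ) = ((∑ θ, a θ * charDegree θ.1 : ℕ) : ℂ) := by
    rw [charDegree_eq, ← val_one, h1]
    push_cast
    refine Finset.sum_congr ?_ fun θ _ => ?_
    · ext; simp
    · rw [charDegree_eq, ← val_one]
      have := ha θ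
      convert congrArg (· * θ.1 1) this using 1
  exact_mod_cast h2

theorem sum_mult_degree (H : Subgroup G) [Fintype H] [Fintype (IrrCharacter G)] (θ : IrrCharacter H)
    (a : IrrCharacter G → ℕ) (ha : ∀ χ : IrrCharacter G, classInner (fun n : H => χ.1 n) θ.1 = a χ) :
    ∑ χ, a χ * charDegree χ.1 = H.index * charDegree θ.1 := by
  classical
  have hcardH : (Nat.card H : ℂ) ≠ 0 := by
    exact_mod_cast Nat.card_pos.ne'
  have key : ∀ h : H, ∑ χ : IrrCharacter G, χ.1 h * χ.1 1 = if h = 1 then (Nat.card G : ℂ) else 0 := by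
    intro h
    have h1 := sum_irr_val_mul_conj (G := G) (h : G) 1
    have h2 : ∀ χ : IrrCharacter G, χ.1 h * (starRingEnd ℂ) (χ.1 1) = χ.1 h * χ.1 1 := by
      intro χ
      rw [val_one]
      simp
    simp only [h2] at h1
    have h3 : Nat.card (Subgroup.centralizer ({(1 : G)} : Set G)) = Nat.card G := by
      have : Subgroup.centralizer ({(1 : G)} : Set G) = ⊤ := by
        ext x
        simp [Subgroup.mem_centralizer_singleton_iff]
      rw [this]
      simp
    rw [h3] at h1
    have h4 : IsConj (h : G) 1 ↔ h = 1 := by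
      rw [isConj_comm, isConj_one_right]
      exact ⟨fun h5 => Subtype.ext h5, fun h5 => by rw [h5]; rfl⟩
    by_cases h5 : h = 1
    · rw [if_pos h5]
      rw [if_pos (h4.mpr h5)] at h1
      exact h1
    · rw [if_neg h5]
      rw [if_neg (fun h6 => h5 (h4.mp h6))] at h1
      exact h1
  have h2 : ((∑ χ, a χ * charDegree χ.1 : ℕ) : ℂ) = ((H.index * charDegree θ.1 : ℕ) : ℂ) := by
    push_cast
    have h3 : ∀ χ : IrrCharacter G, (a χ : ℂ) * (charDegree χ.1 : ℂ) =
        (Nat.card H : ℂ)⁻¹ * ∑ h : H, (starRingEnd ℂ) (θ.1 h) * (χ.1 h * χ.1 1) := by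
      intro χ
      rw [← ha χ, charDegree_eq, ← val_one, classInner, mul_assoc, Finset.sum_mul]
      congr 1
      refine Finset.sum_congr rfl fun h _ => ?_
      ring
    simp only [h3]
    rw [← Finset.mul_sum, Finset.sum_comm]
    simp only [← Finset.mul_sum, key]
    rw [Finset.sum_eq_single (1 : H)]
    · rw [if_pos rfl, charDegree_eq, ← val_one θ]
      have h4 : (starRingEnd ℂ) (θ.1 1) = θ.1 1 := by
        rw [val_one]
        simp
      rw [h4]
      have h5 : (Nat.card H : ℂ) * (H.index : ℂ) = (Nat.card G : ℂ) := by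
        exact_mod_cast Subgroup.card_mul_index H
      rw [← h5]
      field_simp
    · intro h _ hne
      rw [if_neg hne, mul_zero]
    · simp
  exact_mod_cast h2

theorem s4708 (hM : IsPModular p M) (H : Subgroup G) [hH : H.Normal] [Fintype H] :
    (∑ᶠ θ ∈ principalBlock M H, charDegree (θ : H → ℂ) ^ 2) ≤ (∑ᶠ χ ∈ principalBlock M G, charDegree (χ : G → ℂ) ^ 2) ∧
      (∑ᶠ χ ∈ principalBlock M G, charDegree (χ : G → ℂ) ^ 2) ≤
        H.index * ∑ᶠ θ ∈ principalBlock M H, charDegree (θ : H → ℂ) ^ 2 := by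
  classical
  have := Fintype.ofFinite (IrrCharacter G)
  have := Fintype.ofFinite (IrrCharacter H)
  have hA : IsPBlock M (principalBlock M H) := isPBlock_principal
  have hB : IsPBlock M (principalBlock M G) := isPBlock_principal
  have hone : classInner (fun n : H => (oneIrr G).1 n) (oneIrr H).1 ≠ 0 := by
    have h1 := classInner_irr (oneIrr H) (oneIrr H)
    rw [if_pos rfl] at h1
    have h2 : (fun n : H => (oneIrr G).1 n) = (oneIrr H).1 := rfl
    rw [h2, h1]
    exact one_ne_zero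
  have hcov : ∃ χ ∈ principalBlock M G, ∃ θ ∈ principalBlock M H, classInner (fun n : H => χ.1 n) θ.1 ≠ 0 :=
    ⟨oneIrr G, oneIrr_mem, oneIrr H, oneIrr_mem, hone⟩
  choose a ha using fun (χ : IrrCharacter G) (θ : IrrCharacter H) =>
    CharAlg.IsCharacter.classInner_irr_nat (CharAlg.IsCharacter.res (CharBasic.IsIrrCharacter.isCharacter χ.2) H) θ.2
  have ha' : ∀ χ θ, classInner (fun n : H => χ.1 n) θ.1 = a χ θ := ha
  have hdeg : ∀ χ : IrrCharacter G, charDegree χ.1 = ∑ θ, a χ θ * charDegree θ.1 :=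
    fun χ => degree_eq_sum_mult H χ (a χ) (ha' χ)
  have hsum : ∀ θ : IrrCharacter H, ∑ χ, a χ θ * charDegree χ.1 = H.index * charDegree θ.1 :=
    fun θ => sum_mult_degree H θ (fun χ => a χ θ) (fun χ => ha' χ θ)
  -- constituents of the principal block lie in the principal block
  have hf1 : ∀ χ ∈ principalBlock M G, ∀ θ, a χ θ ≠ 0 → θ ∈ principalBlock M H := by
    intro χ hχ θ hθ
    have h1 : classInner (fun n : H => χ.1 n) θ.1 ≠ 0 := by
      rw [ha']
      exact_mod_cast hθ
    have h1' : oneIrr G ∈ principalBlock M G := oneIrr_mem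
    have h1'' : oneIrr H ∈ principalBlock M H := oneIrr_mem
    obtain ⟨t, θ', hθ', h2⟩ := covers_conj H hM hB hA h1' hχ h1'' hone h1
    rw [h2]
    have hθ'' : SameBlock M (oneIrr H).1 θ'.1 := hθ'
    have h3 : SameBlock M (conjIrr H t (oneIrr H)).1 (conjIrr H t θ').1 := sameBlock_conjIrr H t hθ''
    rw [conjIrr_oneIrr] at h3
    exact h3
  have hf2 : ∀ θ ∈ principalBlock M H, ∃ χ ∈ principalBlock M G, a χ θ ≠ 0 := by
    intro θ hθ
    obtain ⟨χ, hχ, h1⟩ := s4432 H hM hB hA hcov hθ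
    refine ⟨χ, hχ, ?_⟩
    rw [ha'] at h1
    intro h2
    rw [h2] at h1
    simp at h1
  obtain ⟨m, hm⟩ : ∃ m : IrrCharacter H → ℕ, m = fun θ => ∑ χ, if χ ∈ principalBlock M G then a χ θ * charDegree χ.1 else 0 :=
    ⟨_, rfl⟩
  have hSG : (∑ᶠ χ ∈ principalBlock M G, charDegree (χ : G → ℂ) ^ 2) =
      ∑ θ, if θ ∈ principalBlock M H then charDegree θ.1 * m θ else 0 := by
    rw [finsum_mem_eq_sum_ite]
    have h1 : ∀ χ : IrrCharacter G, (if χ ∈ principalBlock M G then charDegree χ.1 ^ 2 else 0) =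
        ∑ θ, if χ ∈ principalBlock M G then charDegree θ.1 * (a χ θ * charDegree χ.1) else 0 := by
      intro χ
      split_ifs
      · have h2 : charDegree χ.1 ^ 2 = (∑ θ, a χ θ * charDegree θ.1) * charDegree χ.1 := by
          rw [sq]
          exact congrArg (· * charDegree χ.1) (hdeg χ)
        rw [h2, Finset.sum_mul]
        refine Finset.sum_congr rfl fun θ _ => ?_
        ring
      · simp
    simp only [h1]
    rw [Finset.sum_comm]
    refine Finset.sum_congr rfl fun θ _ => ?_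
    by_cases hθ : θ ∈ principalBlock M H
    · rw [if_pos hθ, hm, Finset.mul_sum]
      refine Finset.sum_congr rfl fun χ _ => ?_
      split_ifs
      · rfl
      · simp
    · rw [if_neg hθ]
      refine Finset.sum_eq_zero fun χ _ => ?_
      split_ifs with hχ
      · have : a χ θ = 0 := by
          by_contra h2
          exact hθ (hf1 χ hχ θ h2)
        rw [this]
        simp
      · rfl
  have hSH : (∑ᶠ θ ∈ principalBlock M H, charDegree (θ : H → ℂ) ^ 2) =
      ∑ θ, if θ ∈ principalBlock M H then charDegree θ.1 ^ 2 else 0 := finsum_mem_eq_sum_ite _ _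
  rw [hSG, hSH]
  constructor
  · refine Finset.sum_le_sum fun θ _ => ?_
    split_ifs with hθ
    · rw [sq]
      apply Nat.mul_le_mul_left
      obtain ⟨χ, hχ, hne⟩ := hf2 θ hθ
      have h1 : a χ θ * charDegree θ.1 ≤ charDegree χ.1 := by
        rw [hdeg χ]
        exact Finset.single_le_sum (f := fun θ' => a χ θ' * charDegree θ'.1) (fun _ _ => Nat.zero_le _) (Finset.mem_univ θ)
      have h2 : a χ θ * charDegree χ.1 ≤ m θ := by
        rw [hm]
        have := Finset.single_le_sum (f := fun χ' => if χ' ∈ principalBlock M G then a χ' θ * charDegree χ'.1 else 0)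
          (fun _ _ => Nat.zero_le _) (Finset.mem_univ χ)
        simpa [hχ] using this
      have h3 : 1 ≤ a χ θ := Nat.one_le_iff_ne_zero.mpr hne
      calc charDegree θ.1 ≤ a χ θ * charDegree θ.1 := Nat.le_mul_of_pos_left _ h3
        _ ≤ charDegree χ.1 := h1
        _ ≤ a χ θ * charDegree χ.1 := Nat.le_mul_of_pos_left _ h3
        _ ≤ m θ := h2
    · exact le_refl _
  · rw [Finset.mul_sum]
    refine Finset.sum_le_sum fun θ _ => ?_
    split_ifs with hθ
    · have h1 : m θ ≤ H.index * charDegree θ.1 := by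
        rw [hm, ← hsum θ]
        refine Finset.sum_le_sum fun χ _ => ?_
        split_ifs
        · exact le_refl _
        · exact Nat.zero_le _
      calc charDegree θ.1 * m θ ≤ charDegree θ.1 * (H.index * charDegree θ.1) := Nat.mul_le_mul_left _ h1
        _ = H.index * charDegree θ.1 ^ 2 := by ring
    · simp

end E2

end Cfsg.Agent.Lib.BlockPair
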