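import Cfsg.Agent.Lib.BlockAM
import Cfsg.Agent.Lib.BlockInfl
import Cfsg.Agent.Lib.CharClifford

/-! Irreducible characters nonzero on exactly two conjugacy classes (Gagola). -/

set_option autoImplicit false

namespace Cfsg.Agent.Lib.BlockPair

open Cfsg Cfsg.Agent.Lib.IrrBasic Cfsg.Agent.Lib
open Cfsg.Agent.Lib.CharBasic Cfsg.Agent.Lib.CharOrth Cfsg.Agent.Lib.CharAlg Cfsg.Agent.Lib.BlockInfl
open scoped ComplexConjugate

universe u

section Two
variable {G : Type u} [Group G] [Fintype G]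

theorem two_exists (χ : IrrCharacter G)
    (hχ : Nat.card {C : ConjClasses G // ∃ g ∈ C.carrier, χ.1 g ≠ 0} = 2) :
    ∃ x : G, x ≠ 1 ∧ ∀ g, χ.1 g ≠ 0 ↔ (g = 1 ∨ IsConj x g) := by
  classical
  have h1 := val_one_ne_zero χ
  have hc₁ : ∃ g ∈ (ConjClasses.mk (1 : G)).carrier, χ.1 g ≠ 0 :=
    ⟨1, ConjClasses.mem_carrier_mk, h1⟩
  obtain ⟨y, hy, hu⟩ := (Nat.card_eq_two_iff' (⟨_, hc₁⟩ : {C : ConjClasses G // ∃ g ∈ C.carrier, χ.1 g ≠ 0})).mp hχ
  obtain ⟨C, x, hx, hxne⟩ := y
  have hxC : ConjClasses.mk x = C := ConjClasses.mem_carrier_iff_mk_eq.mp hx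
  refine ⟨x, ?_, fun g => ⟨fun hg => ?_, ?_⟩⟩
  · rintro rfl
    apply hy
    apply Subtype.ext
    exact hxC.symm
  · by_cases hg1 : g = 1
    · exact Or.inl hg1
    · right
      have hmem : ∃ t ∈ (ConjClasses.mk g).carrier, χ.1 t ≠ 0 := ⟨g, ConjClasses.mem_carrier_mk, hg⟩
      have hne : (⟨_, hmem⟩ : {C : ConjClasses G // ∃ g ∈ C.carrier, χ.1 g ≠ 0}) ≠ ⟨_, hc₁⟩ := by
        intro h
        have h2 : ConjClasses.mk g = ConjClasses.mk 1 := congrArg Subtype.val h
        rw [ConjClasses.mk_eq_mk_iff_isConj, isConj_one_left] at h2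
        exact hg1 h2
      have h3 := hu _ hne
      have h4 : ConjClasses.mk g = C := congrArg Subtype.val h3
      rw [← hxC, ConjClasses.mk_eq_mk_iff_isConj] at h4
      exact h4.symm
  · rintro (rfl | hg)
    · exact h1
    · rw [isConj_iff] at hg
      obtain ⟨t, rfl⟩ := hg
      rwa [val_conj]

/-- Sum of a function supported on the support of `χ`. -/
theorem two_sum {χ : IrrCharacter G} {x : G} (hx : x ≠ 1) (hs : ∀ g, χ.1 g ≠ 0 ↔ (g = 1 ∨ IsConj x g))
    (f : G → ℂ) (hf : ∀ g, χ.1 g = 0 → f g = 0) (hfc : ∀ g, IsConj x g → f g = f x) :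
    ∑ g, f g = f 1 + ((Subgroup.centralizer ({x} : Set G)).index : ℂ) * f x := by
  classical
  have h0 : ¬ IsConj x 1 := fun h => hx (isConj_one_left.mp h)
  have h1 : ∀ g, f g = (if g = 1 then f 1 else 0) + (if IsConj x g then f x else 0) := by
    intro g
    by_cases hg : g = 1
    · subst hg
      rw [if_pos rfl, if_neg h0, add_zero]
    · by_cases hc : IsConj x g
      · rw [if_neg hg, if_pos hc, zero_add, hfc g hc]
      · have h2 : χ.1 g = 0 := by
          by_contra h3
          rcases (hs g).mp h3 with h4 | h4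
          · exact hg h4
          · exact hc h4
        rw [if_neg hg, if_neg hc, add_zero, hf g h2]
  rw [Finset.sum_congr rfl (fun g _ => h1 g), Finset.sum_add_distrib]
  simp only [Finset.sum_ite_eq', Finset.mem_univ, if_true]
  congr 1
  rw [← card_class_eq_index x, ← Finset.sum_filter, Finset.sum_const, nsmul_eq_mul]
  congr!

theorem two_ne_one (hG : 2 < Nat.card G) {χ : IrrCharacter G} {x : G} (hx : x ≠ 1)
    (hs : ∀ g, χ.1 g ≠ 0 ↔ (g = 1 ∨ IsConj x g)) : χ ≠ BlockMain4.oneIrr G := by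
  classical
  intro h
  have hall : ∀ g, g = 1 ∨ IsConj x g := fun g => (hs g).mp (by rw [h]; exact one_ne_zero)
  have h1 := two_sum hx hs (fun _ => (1 : ℂ)) (fun g hg => by rw [h] at hg; exact absurd hg one_ne_zero) (fun _ _ => rfl)
  simp only [Finset.sum_const, Finset.card_univ, nsmul_eq_mul, mul_one] at h1
  have h2 : (Fintype.card G : ℕ) = 1 + (Subgroup.centralizer ({x} : Set G)).index := by exact_mod_cast h1
  have h3 : (Subgroup.centralizer ({x} : Set G)).index ∣ Nat.card G := Subgroup.index_dvd_card _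
  rw [Nat.card_eq_fintype_card, h2] at h3
  rw [Nat.card_eq_fintype_card, h2] at hG
  have h4 : (Subgroup.centralizer ({x} : Set G)).index ∣ 1 := (Nat.dvd_add_left (dvd_refl _)).mp h3
  have h5 := Nat.dvd_one.mp h4
  omega

/-- The basic relation between the two values. -/
theorem two_sum_zero (hG : 2 < Nat.card G) {χ : IrrCharacter G} {x : G} (hx : x ≠ 1)
    (hs : ∀ g, χ.1 g ≠ 0 ↔ (g = 1 ∨ IsConj x g)) :
    χ.1 1 + ((Subgroup.centralizer ({x} : Set G)).index : ℂ) * χ.1 x = 0 := by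
  classical
  have h1 := classInner_irr χ (BlockMain4.oneIrr G)
  rw [if_neg (two_ne_one hG hx hs)] at h1
  have hG0 : (Nat.card G : ℂ) ≠ 0 := Nat.cast_ne_zero.mpr Nat.card_pos.ne'
  simp only [classInner] at h1
  have h2 : ∑ g, χ.1 g * conj ((BlockMain4.oneIrr G).1 g) = 0 := by
    rcases mul_eq_zero.mp h1 with h | h
    · exact absurd (inv_eq_zero.mp h) hG0
    · exact h
  have h3 : ∑ g, χ.1 g = 0 := by
    rw [← h2]
    refine Finset.sum_congr rfl fun g _ => ?_
    simp [BlockMain4.oneIrr]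
  rw [two_sum hx hs χ.1 (fun g hg => hg) (fun g hg => by
    rw [isConj_iff] at hg
    obtain ⟨t, rfl⟩ := hg
    rw [val_conj])] at h3
  exact h3

theorem val_one_real (χ : IrrCharacter G) : conj (χ.1 1) = χ.1 1 := by
  rw [val_one]
  simp

theorem val_conj_eq {χ : IrrCharacter G} {x g : G} (h : IsConj x g) : χ.1 g = χ.1 x := by
  rw [isConj_iff] at h
  obtain ⟨t, rfl⟩ := h
  rw [val_conj]

theorem two_kernel (hG : 2 < Nat.card G) {χ : IrrCharacter G} {x : G} (hx : x ≠ 1)
    (hs : ∀ g, χ.1 g ≠ 0 ↔ (g = 1 ∨ IsConj x g)) (ψ : IrrCharacter G) (hψ : ψ ≠ χ) :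
    ψ.1 x = ψ.1 1 := by
  classical
  have h0 := two_sum_zero hG hx hs
  have h1 := classInner_irr ψ χ
  rw [if_neg hψ] at h1
  have hG0 : (Nat.card G : ℂ) ≠ 0 := Nat.cast_ne_zero.mpr Nat.card_pos.ne'
  simp only [classInner] at h1
  have h2 : ∑ g, ψ.1 g * conj (χ.1 g) = 0 := by
    rcases mul_eq_zero.mp h1 with h | h
    · exact absurd (inv_eq_zero.mp h) hG0
    · exact h
  rw [two_sum hx hs (fun g => ψ.1 g * conj (χ.1 g)) (fun g hg => by simp [hg]) (fun g hg => by
    rw [val_conj_eq hg, val_conj_eq hg])] at h2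
  have h3 := congrArg (starRingEnd ℂ) h0
  simp only [map_add, map_mul, map_natCast, map_zero, val_one_real] at h3
  rw [val_one_real] at h2
  have h4 : (χ.1 1) * (ψ.1 1 - ψ.1 x) = 0 := by
    linear_combination h2 - ψ.1 x * h3
  rcases mul_eq_zero.mp h4 with h | h
  · exact absurd h (val_one_ne_zero χ)
  · exact (sub_eq_zero.mp h).symm

/-- The support of `χ`, as a normal subgroup. -/
noncomputable def suppN (χ : IrrCharacter G) : Subgroup G :=
  ⨅ ψ : {ψ : IrrCharacter G // ψ ≠ χ}, (rep ψ.1).ker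

theorem mem_suppN (χ : IrrCharacter G) (g : G) : g ∈ suppN χ ↔ ∀ ψ : IrrCharacter G, ψ ≠ χ → ψ.1 g = ψ.1 1 := by
  simp only [suppN, Subgroup.mem_iInf, MonoidHom.mem_ker, val_eq_one_iff_rep]
  exact ⟨fun h ψ hψ => h ⟨ψ, hψ⟩, fun h ψ => h ψ.1 ψ.2⟩

instance suppN_normal (χ : IrrCharacter G) : (suppN χ).Normal := by
  refine Subgroup.normal_iInf_normal fun ψ => ?_
  exact MonoidHom.normal_ker _

theorem two_main (hG : 2 < Nat.card G) {χ : IrrCharacter G} {x : G} (hx : x ≠ 1)
    (hs : ∀ g, χ.1 g ≠ 0 ↔ (g = 1 ∨ IsConj x g)) (g : G) : g ∈ suppN χ ↔ χ.1 g ≠ 0 := by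
  classical
  rw [mem_suppN]
  constructor
  · intro h
    by_cases hg : g = 1
    · rw [hg]
      exact val_one_ne_zero χ
    · intro h0
      have h1 := sum_irr_val_mul_conj g 1
      rw [if_neg (fun h2 => hg (isConj_one_left.mp h2))] at h1
      have h2 : ∑ ψ : IrrCharacter G, ψ.1 g * conj (ψ.1 1) = ∑ ψ : IrrCharacter G, (if ψ = χ then 0 else ψ.1 1 * conj (ψ.1 1)) := by
        refine Finset.sum_congr rfl fun ψ _ => ?_
        by_cases hψ : ψ = χ
        · rw [if_pos hψ, hψ, h0, zero_mul]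
        · rw [if_neg hψ, h ψ hψ]
      rw [h2] at h1
      have h3 := sum_irr_val_mul_conj (1 : G) 1
      rw [if_pos (IsConj.refl 1)] at h3
      have h4 : ∑ ψ : IrrCharacter G, ψ.1 1 * conj (ψ.1 1) =
          χ.1 1 * conj (χ.1 1) + ∑ ψ : IrrCharacter G, (if ψ = χ then 0 else ψ.1 1 * conj (ψ.1 1)) := by
        rw [← Finset.add_sum_erase _ _ (Finset.mem_univ χ)]
        congr 1
        rw [← Finset.add_sum_erase (Finset.univ) (fun ψ : IrrCharacter G => if ψ = χ then 0 else ψ.1 1 * conj (ψ.1 1)) (Finset.mem_univ χ)]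
        rw [if_pos rfl, zero_add]
        refine Finset.sum_congr rfl fun ψ hψ => ?_
        rw [if_neg (Finset.ne_of_mem_erase hψ)]
      rw [h1, add_zero] at h4
      rw [h4] at h3
      -- compare with the norm formula
      have h5 := two_sum hx hs (fun t => χ.1 t * conj (χ.1 t)) (fun t ht => by simp [ht]) (fun t ht => by
        rw [val_conj_eq ht])
      have h6 := classInner_irr_self χ.2
      simp only [classInner] at h6
      have hG0 : (Nat.card G : ℂ) ≠ 0 := Nat.cast_ne_zero.mpr Nat.card_pos.ne'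
      have h7 : ∑ t, χ.1 t * conj (χ.1 t) = (Nat.card G : ℂ) := by
        field_simp at h6
        exact h6
      have h8 : (Nat.card ↥(Subgroup.centralizer ({(1 : G)} : Set G)) : ℂ) = (Nat.card G : ℂ) := by
        have : Subgroup.centralizer ({(1 : G)} : Set G) = ⊤ := by
          ext t
          simp [Subgroup.mem_centralizer_iff]
        rw [this]
        simp
      rw [h8] at h3
      rw [h7, ← h3] at h5
      have h9 : ((Subgroup.centralizer ({x} : Set G)).index : ℂ) * (χ.1 x * conj (χ.1 x)) = 0 := by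
        linear_combination -h5
      have hk : ((Subgroup.centralizer ({x} : Set G)).index : ℂ) ≠ 0 :=
        Nat.cast_ne_zero.mpr Subgroup.index_ne_zero_of_finite
      have hx0 : χ.1 x ≠ 0 := (hs x).mpr (Or.inr (IsConj.refl x))
      have h10 : χ.1 x * conj (χ.1 x) ≠ 0 := mul_ne_zero hx0 ((map_ne_zero _).mpr hx0)
      exact (mul_ne_zero hk h10) h9
  · intro h ψ hψ
    rcases (hs g).mp h with rfl | hc
    · rfl
    · rw [val_conj_eq hc]
      exact two_kernel hG hx hs ψ hψ

theorem two_faithful (hG : 2 < Nat.card G) {χ : IrrCharacter G} {x : G} (hx : x ≠ 1)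
    (hs : ∀ g, χ.1 g ≠ 0 ↔ (g = 1 ∨ IsConj x g)) (g : G) (hg : χ.1 g = χ.1 1) : g = 1 := by
  by_contra hg1
  have h1 : χ.1 g ≠ 0 := by
    rw [hg]
    exact val_one_ne_zero χ
  have h2 := (hs g).mp h1
  rcases h2 with h2 | h2
  · exact hg1 h2
  · have h3 := val_conj_eq (χ := χ) h2
    have h0 := two_sum_zero hG hx hs
    rw [← h3, hg, val_one] at h0
    have h4 : ((dim χ : ℂ)) * (1 + ((Subgroup.centralizer ({x} : Set G)).index : ℂ)) = 0 := by
      linear_combination h0
    have h5 : ((dim χ * (1 + (Subgroup.centralizer ({x} : Set G)).index) : ℕ) : ℂ) = 0 := by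
      push_cast
      exact h4
    have h6 : dim χ * (1 + (Subgroup.centralizer ({x} : Set G)).index) = 0 := by exact_mod_cast h5
    have h7 := dim_ne_zero χ
    simp only [mul_eq_zero] at h6
    omega

theorem two_unique_faithful (hG : 2 < Nat.card G) {χ : IrrCharacter G} {x : G} (hx : x ≠ 1)
    (hs : ∀ g, χ.1 g ≠ 0 ↔ (g = 1 ∨ IsConj x g)) (ψ : IrrCharacter G)
    (hψ : ∀ g : G, ψ.1 g = ψ.1 1 → g = 1) : ψ = χ := by
  by_contra h
  exact hx (hψ x (two_kernel hG hx hs ψ h))

theorem s4836_aux (hG : 2 < Nat.card G) (χ : IrrCharacter G)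
    (hχ : Nat.card {C : ConjClasses G // ∃ g ∈ C.carrier, χ.1 g ≠ 0} = 2) :
    (∀ g : G, χ.1 g = χ.1 1 → g = 1) ∧ (∀ ψ : IrrCharacter G, (∀ g : G, ψ.1 g = ψ.1 1 → g = 1) → ψ = χ) ∧
      (∀ ψ : IrrCharacter G, Nat.card {C : ConjClasses G // ∃ g ∈ C.carrier, ψ.1 g ≠ 0} = 2 → ψ = χ) := by
  obtain ⟨x, hx, hs⟩ := two_exists χ hχ
  refine ⟨two_faithful hG hx hs, two_unique_faithful hG hx hs, fun ψ hψ => ?_⟩
  obtain ⟨y, hy, hs'⟩ := two_exists ψ hψ
  exact two_unique_faithful hG hx hs ψ (two_faithful hG hy hs')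

theorem two_all_conj (hG : 2 < Nat.card G) {χ : IrrCharacter G} {x : G} (hx : x ≠ 1)
    (hs : ∀ g, χ.1 g ≠ 0 ↔ (g = 1 ∨ IsConj x g)) {g : G} (hg : g ∈ suppN χ) (h1 : g ≠ 1) : IsConj x g := by
  have h2 := (two_main hG hx hs g).mp hg
  rcases (hs g).mp h2 with h3 | h3
  · exact absurd h3 h1
  · exact h3

theorem two_x_mem (hG : 2 < Nat.card G) {χ : IrrCharacter G} {x : G} (hx : x ≠ 1)
    (hs : ∀ g, χ.1 g ≠ 0 ↔ (g = 1 ∨ IsConj x g)) : x ∈ suppN χ :=
  (two_main hG hx hs x).mpr ((hs x).mpr (Or.inr (IsConj.refl x)))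

theorem two_minimal (hG : 2 < Nat.card G) {χ : IrrCharacter G} {x : G} (hx : x ≠ 1)
    (hs : ∀ g, χ.1 g ≠ 0 ↔ (g = 1 ∨ IsConj x g)) (K : Subgroup G) (hK : K.Normal) (hK1 : K ≠ ⊥) :
    suppN χ ≤ K := by
  classical
  have := Fintype.ofFinite K
  have hxK : x ∈ K := by
    have hs0 : ∑ n : K, χ.1 n = 0 := by
      by_contra hs1
      apply hK1
      rw [eq_bot_iff]
      intro n' hn'
      have h3 := sum_normal_mul_val K χ n'
      have h4 : ∑ n : K, χ.1 (n * n') = ∑ n : K, χ.1 n :=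
        Fintype.sum_equiv (Equiv.mulRight (⟨n', hn'⟩ : K)) _ _ (fun n => by simp)
      rw [h4] at h3
      have h5 := val_one_ne_zero χ
      field_simp at h3
      exact Subgroup.mem_bot.mpr (two_faithful hG hx hs n' h3.symm)
    by_contra hxK
    have h1 := two_sum hx hs (fun g => if g ∈ K then χ.1 g else 0) (fun g hg => by simp [hg]) (fun g hg => by
      have h2 : g ∉ K := by
        intro h3
        rw [isConj_iff] at hg
        obtain ⟨t, rfl⟩ := hg
        apply hxK
        have h4 := hK.conj_mem _ h3 t⁻¹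
        simpa [mul_assoc] using h4
      rw [if_neg h2, if_neg hxK])
    simp only [if_neg hxK, mul_zero, add_zero, if_pos K.one_mem] at h1
    have h2 : ∑ g : G, (if g ∈ K then χ.1 g else 0) = ∑ n : K, χ.1 n := by
      rw [← Finset.sum_filter]
      refine Finset.sum_bij (fun g hg => ⟨g, (Finset.mem_filter.mp hg).2⟩) ?_ ?_ ?_ ?_
      · intros; simp
      · intro a _ b _ h; exact congrArg Subtype.val h
      · intro b _; exact ⟨b.1, by simp, rfl⟩
      · intros; rfl
    rw [h2, hs0] at h1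
    exact val_one_ne_zero χ h1.symm
  intro g hg
  by_cases h1 : g = 1
  · rw [h1]
    exact K.one_mem
  · have h2 := two_all_conj hG hx hs hg h1
    rw [isConj_iff] at h2
    obtain ⟨t, rfl⟩ := h2
    exact hK.conj_mem _ hxK t

theorem two_prime_order (hG : 2 < Nat.card G) {χ : IrrCharacter G} {x : G} (hx : x ≠ 1)
    (hs : ∀ g, χ.1 g ≠ 0 ↔ (g = 1 ∨ IsConj x g)) : (orderOf x).Prime := by
  have ho : orderOf x ≠ 1 := fun h => hx (orderOf_eq_one_iff.mp h)
  have hq := Nat.minFac_prime ho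
  have hdvd := Nat.minFac_dvd (orderOf x)
  have h1 : orderOf (x ^ (orderOf x / (orderOf x).minFac)) = (orderOf x).minFac :=
    orderOf_pow_orderOf_div (orderOf_pos x).ne' hdvd
  have h2 : x ^ (orderOf x / (orderOf x).minFac) ≠ 1 := by
    intro h3
    rw [h3, orderOf_one] at h1
    exact hq.one_lt.ne h1
  have h3 := two_all_conj hG hx hs ((suppN χ).pow_mem (two_x_mem hG hx hs) _) h2
  rw [isConj_iff] at h3
  obtain ⟨t, ht⟩ := h3
  have h4 : orderOf (t * x * t⁻¹) = orderOf x := by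
    have := (MulAut.conj t).orderOf_eq x
    simpa [MulAut.conj_apply] using this
  rw [ht, h1] at h4
  rw [← h4]
  exact hq

theorem s4835_aux (hG : 2 < Nat.card G) (χ : IrrCharacter G)
    (hχ : Nat.card {C : ConjClasses G // ∃ g ∈ C.carrier, χ.1 g ≠ 0} = 2) :
    ∃ N : Subgroup G, N.Normal ∧ N ≠ ⊥ ∧ (∀ K : Subgroup G, K.Normal → K ≠ ⊥ → N ≤ K) ∧
      (∃ p : ℕ, p.Prime ∧ IsElementaryAbelian p N) ∧
      (∀ g : G, χ.1 g ≠ 0 ↔ g ∈ N) ∧
      (∀ x ∈ N, ∀ y ∈ N, x ≠ 1 → y ≠ 1 → ∃ g : G, g * x * g⁻¹ = y) := by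
  classical
  obtain ⟨x, hx, hs⟩ := two_exists χ hχ
  have hxN := two_x_mem hG hx hs
  have htrans : ∀ a ∈ suppN χ, ∀ b ∈ suppN χ, a ≠ 1 → b ≠ 1 → ∃ g : G, g * a * g⁻¹ = b := by
    intro a ha b hb ha1 hb1
    have h1 := two_all_conj hG hx hs ha ha1
    have h2 := two_all_conj hG hx hs hb hb1
    exact isConj_iff.mp (h1.symm.trans h2)
  have hpr := two_prime_order hG hx hs
  have hpow : ∀ a ∈ suppN χ, a ^ orderOf x = 1 := by
    intro a ha
    by_cases h1 : a = 1
    · rw [h1, one_pow]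
    · have h2 := two_all_conj hG hx hs ha h1
      rw [isConj_iff] at h2
      obtain ⟨t, rfl⟩ := h2
      rw [conj_pow, pow_orderOf_eq_one]
      simp
  refine ⟨suppN χ, inferInstance, ?_, fun K hK hK1 => two_minimal hG hx hs K hK hK1,
    ⟨orderOf x, hpr, ?_, hpow⟩, fun g => (two_main hG hx hs g).symm, htrans⟩
  · intro h
    rw [h] at hxN
    exact hx (Subgroup.mem_bot.mp hxN)
  · -- commutativity
    have : Fact (orderOf x).Prime := ⟨hpr⟩
    have hp : IsPGroup (orderOf x) (suppN χ) := by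
      intro a
      refine ⟨1, Subtype.ext ?_⟩
      simpa using hpow a a.2
    have hnt : Nontrivial (suppN χ) := ⟨⟨⟨x, hxN⟩, 1, fun h => hx (congrArg Subtype.val h)⟩⟩
    have hc := hp.center_nontrivial
    obtain ⟨z, hz⟩ := exists_ne (1 : Subgroup.center (suppN χ))
    have hz1 : ((z : suppN χ) : G) ≠ 1 := by
      intro h
      apply hz
      apply Subtype.ext
      apply Subtype.ext
      exact h
    have hcomm : ∀ a b : suppN χ, a * b = b * a := by
      intro a b
      by_cases ha1 : (a : G) = 1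
      · have : a = 1 := Subtype.ext ha1
        rw [this, one_mul, mul_one]
      · obtain ⟨t, ht⟩ := htrans _ (z : suppN χ).2 _ a.2 hz1 ha1
        apply Subtype.ext
        show (a : G) * b = b * a
        rw [← ht]
        have hb' : t⁻¹ * (b : G) * t ∈ suppN χ := by
          have := (suppN_normal χ).conj_mem _ b.2 t⁻¹
          simpa using this
        have h3 := (Subgroup.mem_center_iff.mp z.2) ⟨t⁻¹ * (b : G) * t, hb'⟩
        have h4 := congrArg Subtype.val h3
        simp only [MulMemClass.coe_mul] at h4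
        calc t * ((z : suppN χ) : G) * t⁻¹ * b = t * (((z : suppN χ) : G) * (t⁻¹ * b * t)) * t⁻¹ := by group
          _ = t * ((t⁻¹ * b * t) * ((z : suppN χ) : G)) * t⁻¹ := by rw [← h4]
          _ = b * (t * ((z : suppN χ) : G) * t⁻¹) := by group
    exact ⟨⟨hcomm⟩⟩


theorem two_rep_val (ψ : IrrCharacter G) (z n : G) (hn : ψ.1 n = ψ.1 1) : ψ.1 (z * n) = ψ.1 z := by
  have h1 := (val_eq_one_iff_rep ψ n).mp hn
  rw [← rep_char_apply ψ, ← rep_char_apply ψ z]
  simp only [Representation.character]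
  rw [map_mul, h1, mul_one]

/-- Elements outside the support are conjugate to their translates by the support. -/
theorem two_coset_conj (hG : 2 < Nat.card G) {χ : IrrCharacter G} {x : G} (hx : x ≠ 1)
    (hs : ∀ g, χ.1 g ≠ 0 ↔ (g = 1 ∨ IsConj x g)) {z n : G} (hz : z ∉ suppN χ) (hn : n ∈ suppN χ) :
    IsConj (z * n) z := by
  classical
  by_contra hnc
  have h1 := sum_irr_val_mul_conj (z * n) z
  rw [if_neg hnc] at h1
  have hz0 : χ.1 z = 0 := by
    by_contra h
    exact hz ((two_main hG hx hs z).mpr h)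
  have h2 := sum_irr_val_mul_conj z z
  rw [if_pos (IsConj.refl z)] at h2
  have h3 : ∑ ψ : IrrCharacter G, ψ.1 (z * n) * conj (ψ.1 z) = ∑ ψ : IrrCharacter G, ψ.1 z * conj (ψ.1 z) := by
    refine Finset.sum_congr rfl fun ψ _ => ?_
    by_cases hψ : ψ = χ
    · rw [hψ, hz0]
      simp
    · rw [two_rep_val ψ z n ((mem_suppN χ n).mp hn ψ hψ)]
  rw [h3, h2] at h1
  have h4 : (Nat.card ↥(Subgroup.centralizer ({z} : Set G)) : ℂ) ≠ 0 := Nat.cast_ne_zero.mpr Nat.card_pos.ne'
  exact h4 h1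

theorem two_centralizer_isPGroup (hG : 2 < Nat.card G) {χ : IrrCharacter G} {x₀ : G} (hx₀ : x₀ ≠ 1)
    (hs : ∀ g, χ.1 g ≠ 0 ↔ (g = 1 ∨ IsConj x₀ g)) (p : ℕ) [hpf : Fact p.Prime] (hNp : IsPGroup p (suppN χ))
    {x : G} (hxN : x ∈ suppN χ) (hx1 : x ≠ 1) : IsPGroup p (Subgroup.centralizer ({x} : Set G)) := by
  classical
  apply IsPGroup.of_card (n := (Nat.card (Subgroup.centralizer ({x} : Set G))).primeFactorsList.length)
  apply Nat.eq_prime_pow_of_unique_prime_dvd Nat.card_pos.ne'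
  intro q hq hqd
  have : Fact q.Prime := ⟨hq⟩
  obtain ⟨y, hy⟩ := exists_prime_orderOf_dvd_card' (G := Subgroup.centralizer ({x} : Set G)) q hqd
  by_contra hqp
  have hyo : orderOf (y : G) = q := by rw [Subgroup.orderOf_coe]; exact hy
  have hyN : (y : G) ∉ suppN χ := by
    intro h
    obtain ⟨k, hk⟩ := hNp ⟨y, h⟩
    have h1 : (y : G) ^ p ^ k = 1 := by simpa using congrArg Subtype.val hk
    have h2 : q ∣ p ^ k := by
      rw [← hyo]
      exact orderOf_dvd_of_pow_eq_one h1
    exact hqp ((Nat.prime_dvd_prime_iff_eq hq hpf.out).mp (hq.dvd_of_dvd_pow h2))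
  have hconj := two_coset_conj hG hx₀ hs hyN hxN
  have hcomm : Commute (y : G) x := by
    have h1 := Subgroup.mem_centralizer_iff.mp y.2 x (Set.mem_singleton x)
    exact h1.symm
  have hxo : orderOf x ≠ 1 := fun h => hx1 (orderOf_eq_one_iff.mp h)
  have hxp : ∃ k, orderOf x = p ^ k := by
    obtain ⟨k, hk⟩ := hNp ⟨x, hxN⟩
    have h1 : x ^ p ^ k = 1 := by simpa using congrArg Subtype.val hk
    obtain ⟨j, -, hj⟩ := (Nat.dvd_prime_pow hpf.out).mp (orderOf_dvd_of_pow_eq_one h1)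
    exact ⟨j, hj⟩
  obtain ⟨j, hj⟩ := hxp
  have hcop : Nat.Coprime (orderOf (y : G)) (orderOf x) := by
    rw [hyo, hj]
    exact Nat.Coprime.pow_right _ ((Nat.coprime_primes hq hpf.out).mpr hqp)
  have h5 := hcomm.orderOf_mul_eq_mul_orderOf_of_coprime hcop
  rw [isConj_iff] at hconj
  obtain ⟨t, ht⟩ := hconj
  have h6 : orderOf (t * ((y : G) * x) * t⁻¹) = orderOf ((y : G) * x) := by
    have := (MulAut.conj t).orderOf_eq ((y : G) * x)
    simpa [MulAut.conj_apply] using this
  rw [ht, h5] at h6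
  have h7 : orderOf (y : G) * 1 = orderOf (y : G) * orderOf x := by rw [mul_one]; exact h6
  have h8 := Nat.eq_of_mul_eq_mul_left (orderOf_pos (y : G)) h7
  exact hxo h8.symm

theorem two_card_supp (hG : 2 < Nat.card G) {χ : IrrCharacter G} {x : G} (hx : x ≠ 1)
    (hs : ∀ g, χ.1 g ≠ 0 ↔ (g = 1 ∨ IsConj x g)) :
    Nat.card (suppN χ) = 1 + (Subgroup.centralizer ({x} : Set G)).index := by
  classical
  have h1 := two_sum hx hs (fun g => if g ∈ suppN χ then (1 : ℂ) else 0)
    (fun g hg => by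
      rw [if_neg]
      intro h
      exact (two_main hG hx hs g).mp h hg)
    (fun g hg => by
      have h2 : g ∈ suppN χ := (two_main hG hx hs g).mpr ((hs g).mpr (Or.inr hg))
      rw [if_pos h2, if_pos (two_x_mem hG hx hs)])
  simp only [if_pos (Subgroup.one_mem _), if_pos (two_x_mem hG hx hs), mul_one, Finset.sum_boole] at h1
  have h2 : (Finset.univ.filter (fun g : G => g ∈ suppN χ)).card = Nat.card (suppN χ) := by
    rw [Nat.card_eq_fintype_card]
    exact (Fintype.card_subtype _).symm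
  rw [h2] at h1
  exact_mod_cast h1

theorem eq_sylow_of_isPGroup_index {p : ℕ} [hpf : Fact p.Prime] (H : Subgroup G) (hH : IsPGroup p H)
    (hi : ¬ p ∣ H.index) : ∃ P : Sylow p G, (P : Subgroup G) = H := by
  obtain ⟨P, hP⟩ := hH.exists_le_sylow
  refine ⟨P, (Subgroup.eq_of_le_of_card_ge hP ?_).symm⟩
  obtain ⟨s, hs⟩ := IsPGroup.iff_card.mp P.isPGroup'
  have h1 : Nat.card P ∣ Nat.card H * H.index := by
    rw [Subgroup.card_mul_index]
    exact Subgroup.card_subgroup_dvd_card _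
  have hcop : Nat.Coprime (Nat.card P) H.index := by
    rw [hs]
    exact Nat.Coprime.pow_left _ ((Nat.Prime.coprime_iff_not_dvd hpf.out).mpr hi)
  exact Nat.le_of_dvd Nat.card_pos (hcop.dvd_of_dvd_mul_right h1)

theorem two_not_dvd_index (hG : 2 < Nat.card G) {χ : IrrCharacter G} {x : G} (hx : x ≠ 1)
    (hs : ∀ g, χ.1 g ≠ 0 ↔ (g = 1 ∨ IsConj x g)) (p : ℕ) [hpf : Fact p.Prime] (hNp : IsPGroup p (suppN χ)) :
    ¬ p ∣ (Subgroup.centralizer ({x} : Set G)).index := by
  intro h
  have h1 := two_card_supp hG hx hs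
  obtain ⟨s, hs'⟩ := IsPGroup.iff_card.mp hNp
  have hx' := two_x_mem hG hx hs
  have h2 : p ∣ Nat.card (suppN χ) := by
    have hnt : Nat.card (suppN χ) ≠ 1 := by
      intro h3
      have h4 := (Nat.card_eq_one_iff_unique.mp h3).1
      have h5 : (⟨x, hx'⟩ : suppN χ) = 1 := Subsingleton.elim _ _
      exact hx (congrArg Subtype.val h5)
    rw [hs'] at hnt ⊢
    cases s with
    | zero => simp at hnt
    | succ s => exact dvd_pow_self p (Nat.succ_ne_zero s)
  rw [h1] at h2
  have h3 := (Nat.dvd_add_left h).mp h2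
  exact hpf.out.one_lt.ne' (Nat.dvd_one.mp h3)



theorem s4837_aux (hG : 2 < Nat.card G) (χ : IrrCharacter G)
    (hχ : Nat.card {C : ConjClasses G // ∃ g ∈ C.carrier, χ.1 g ≠ 0} = 2) (p : ℕ) [hpf : Fact p.Prime]
    (N : Subgroup G) [hNn : N.Normal] [Fintype N] (hN : ∀ g : G, g ∈ N ↔ χ.1 g ≠ 0) (hNp : IsPGroup p N) :
    (∀ x ∈ N, x ≠ 1 → ∃ P : Sylow p G, Subgroup.centralizer ({x} : Set G) = P) ∧
      (∀ μ : IrrCharacter N, μ.1 ≠ (fun _ => (1 : ℂ)) → ∃ P : Sylow p G, ∀ g : G, g ∈ (P : Subgroup G) ↔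
        ∀ n n' : N, (n' : G) = g * n * g⁻¹ → μ.1 n' = μ.1 n) := by
  classical
  obtain ⟨x₀, hx₀, hs⟩ := two_exists χ hχ
  have hNe : suppN χ = N := by
    ext g
    rw [two_main hG hx₀ hs, hN]
  subst hNe
  have hcent : ∀ x ∈ suppN χ, x ≠ 1 → ∃ P : Sylow p G, Subgroup.centralizer ({x} : Set G) = P := by
    intro x hx hx1
    have hs' : ∀ g, χ.1 g ≠ 0 ↔ (g = 1 ∨ IsConj x g) := by
      intro g
      rw [hs g]
      have hc := two_all_conj hG hx₀ hs hx hx1
      exact or_congr_right ⟨fun h => hc.symm.trans h, fun h => hc.trans h⟩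
    obtain ⟨P, hP⟩ := eq_sylow_of_isPGroup_index _ (two_centralizer_isPGroup hG hx₀ hs p hNp hx hx1)
      (two_not_dvd_index hG hx1 hs' p hNp)
    exact ⟨P, hP.symm⟩
  refine ⟨hcent, fun μ hμ => ?_⟩
  obtain ⟨-, -, -, -, -, -⟩ : True ∧ True ∧ True ∧ True ∧ True ∧ True := ⟨trivial, trivial, trivial, trivial, trivial, trivial⟩
  -- commutativity of the support
  have hcomm : ∀ a b : suppN χ, a * b = b * a := by
    obtain ⟨N', h1, h2, h3, ⟨q, hq, hab⟩, h5, h6⟩ := s4835_aux hG χ hχ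
    have hNe : N' = suppN χ := by
      ext g
      rw [two_main hG hx₀ hs, h5]
    subst hNe
    exact hab.1.is_comm.comm
  have hone : ∀ ν : IrrCharacter (suppN χ), ν.1 1 = 1 := fun ν => CharLin.irr_degree_one_of_comm ν.2 hcomm
  -- μ is a constituent
  have hcon : ∀ ν : IrrCharacter (suppN χ), ν ≠ BlockMain4.oneIrr (suppN χ) →
      classInner (fun n : suppN χ => χ.1 n) ν.1 ≠ 0 := by
    intro ν hν
    have h1 := classInner_irr (BlockMain4.oneIrr (suppN χ)) ν
    rw [if_neg hν.symm] at h1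
    have hN0 : (Nat.card (suppN χ) : ℂ) ≠ 0 := Nat.cast_ne_zero.mpr Nat.card_pos.ne'
    simp only [classInner] at h1 ⊢
    have h2 : ∑ n : suppN χ, conj (ν.1 n) = 0 := by
      rcases mul_eq_zero.mp h1 with h | h
      · exact absurd (inv_eq_zero.mp h) hN0
      · rw [← h]
        refine Finset.sum_congr rfl fun n _ => ?_
        simp [BlockMain4.oneIrr]
    have h3 : ∀ n : suppN χ, χ.1 n = (if n = 1 then χ.1 1 - χ.1 x₀ else 0) + χ.1 x₀ := by
      intro n
      by_cases hn : n = 1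
      · subst hn
        simp
      · rw [if_neg hn, zero_add]
        have hn1 : (n : G) ≠ 1 := fun h => hn (Subtype.ext h)
        exact val_conj_eq (two_all_conj hG hx₀ hs n.2 hn1)
    have h4 : ∑ n : suppN χ, χ.1 n * conj (ν.1 n) = χ.1 1 - χ.1 x₀ := by
      simp_rw [h3, add_mul]
      rw [Finset.sum_add_distrib, ← Finset.mul_sum, h2, mul_zero, add_zero]
      simp [Finset.sum_ite_eq', hone ν]
    rw [h4]
    apply mul_ne_zero (inv_ne_zero hN0)
    intro h5
    have h6 := two_sum_zero hG hx₀ hs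
    have h7 : χ.1 x₀ = χ.1 1 := (sub_eq_zero.mp h5).symm
    exact hx₀ (two_faithful hG hx₀ hs x₀ h7)
  have hμ' : μ ≠ BlockMain4.oneIrr (suppN χ) := by
    intro h
    apply hμ
    rw [h]
    rfl
  -- the orbit
  have hnum : Fintype.card (IrrCharacter (suppN χ)) = Nat.card (suppN χ) := by
    have h1 := CharLin.sum_degree_sq (G := suppN χ)
    simp only [hone, one_pow, Finset.sum_const, Finset.card_univ, nsmul_eq_mul, mul_one] at h1
    exact_mod_cast h1
  have horb : (CharNormal.orbitF (suppN χ) μ.1).card = (Subgroup.centralizer ({x₀} : Set G)).index := by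
    have h1 := two_card_supp hG hx₀ hs
    have h2 : (Finset.univ.erase (BlockMain4.oneIrr (suppN χ))).card + 1 = Nat.card (suppN χ) := by
      rw [Finset.card_erase_of_mem (Finset.mem_univ _), Finset.card_univ, hnum]
      have := Nat.card_pos (α := suppN χ)
      omega
    have h3 : (CharNormal.orbitF (suppN χ) μ.1).card = (Finset.univ.erase (BlockMain4.oneIrr (suppN χ))).card := by
      symm
      refine Finset.card_bij (fun ν _ => ν.1) ?_ ?_ ?_
      · intro ν hν
        have h4 := Finset.ne_of_mem_erase hν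
        obtain ⟨t, rfl⟩ := BlockNorm.constituents_conj (suppN χ) χ μ ν (hcon μ hμ') (hcon ν h4)
        rw [CharNormal.mem_orbitF]
        refine ⟨t, ?_⟩
        funext n
        rw [BlockNorm.conjIrr_apply']
        rfl
      · intro a _ b _ h
        exact Subtype.ext h
      · intro ψ hψ
        obtain ⟨t, rfl⟩ := (CharNormal.mem_orbitF (suppN χ) μ.1 ψ).mp hψ
        refine ⟨BlockNorm.conjIrr (suppN χ) t μ, Finset.mem_erase.mpr ⟨?_, Finset.mem_univ _⟩, ?_⟩
        · intro h
          apply hμ'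
          have h4 := congrArg (BlockNorm.conjIrr (suppN χ) t⁻¹) h
          rw [BlockNorm.conjIrr_inv_conjIrr, BlockNorm.conjIrr_oneIrr] at h4
          exact h4
        · funext n
          rw [BlockNorm.conjIrr_apply']
          rfl
    rw [h3]
    omega
  obtain ⟨T, hTd⟩ : ∃ T : Subgroup G, T = CharClifford.inertia (suppN χ) μ.1 := ⟨_, rfl⟩
  have hTi : T.index = (Subgroup.centralizer ({x₀} : Set G)).index := by
    rw [← horb, CharClifford.card_orbit_eq_index (suppN χ) T (θ := μ.1)]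
    intro g
    rw [hTd]
    exact CharClifford.mem_inertia _ _ _
  have hTc : Nat.card T = Nat.card (Subgroup.centralizer ({x₀} : Set G)) := by
    have h1 := Subgroup.card_mul_index T
    have h2 := Subgroup.card_mul_index (Subgroup.centralizer ({x₀} : Set G))
    rw [hTi] at h1
    have hi : 0 < (Subgroup.centralizer ({x₀} : Set G)).index := Nat.pos_of_ne_zero Subgroup.index_ne_zero_of_finite
    exact Nat.eq_of_mul_eq_mul_right hi (h1.trans h2.symm)
  have hTp : IsPGroup p T := by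
    obtain ⟨r, hr⟩ := IsPGroup.iff_card.mp (two_centralizer_isPGroup hG hx₀ hs p hNp (two_x_mem hG hx₀ hs) hx₀)
    exact IsPGroup.of_card (n := r) (by rw [hTc, hr])
  obtain ⟨P, hP⟩ := eq_sylow_of_isPGroup_index T hTp (by
    rw [hTi]
    exact two_not_dvd_index hG hx₀ hs p hNp)
  refine ⟨P, fun g => ?_⟩
  rw [hP, hTd, CharClifford.mem_inertia]
  constructor
  · intro h n n' hn'
    rw [← h n]
    exact congrArg μ.1 (Subtype.ext hn')
  · intro h n
    exact h n _ rfl



theorem two_centralizer_quot (hG : 2 < Nat.card G) {χ : IrrCharacter G} {x : G} (hx : x ≠ 1)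
    (hs : ∀ g, χ.1 g ≠ 0 ↔ (g = 1 ∨ IsConj x g)) {z : G} (hz : z ∉ suppN χ) :
    Nat.card (Subgroup.centralizer ({z} : Set G)) =
      Nat.card (Subgroup.centralizer ({(z : G ⧸ suppN χ)} : Set (G ⧸ suppN χ))) := by
  classical
  have hz0 : χ.1 z = 0 := by
    by_contra h
    exact hz ((two_main hG hx hs z).mpr h)
  have h1 := sum_irr_val_mul_conj z z
  rw [if_pos (IsConj.refl z)] at h1
  have h2 := sum_irr_val_mul_conj (z : G ⧸ suppN χ) (z : G ⧸ suppN χ)
  rw [if_pos (IsConj.refl _)] at h2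
  have h3 : ∑ ψ : IrrCharacter G, ψ.1 z * conj (ψ.1 z) =
      ∑ ξ : IrrCharacter (G ⧸ suppN χ), ξ.1 (z : G ⧸ suppN χ) * conj (ξ.1 (z : G ⧸ suppN χ)) := by
    rw [← Finset.add_sum_erase _ _ (Finset.mem_univ χ), hz0]
    simp only [zero_mul, zero_add]
    symm
    refine Finset.sum_bij (fun ξ _ => BlockNorm.inflIrr (suppN χ) ξ) ?_ ?_ ?_ ?_
    · intro ξ _
      refine Finset.mem_erase.mpr ⟨?_, Finset.mem_univ _⟩
      intro h
      apply hx
      apply two_faithful hG hx hs
      rw [← h, BlockNorm.inflIrr_apply, BlockNorm.inflIrr_apply]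
      have h4 : (x : G ⧸ suppN χ) = ((1 : G) : G ⧸ suppN χ) :=
        (QuotientGroup.eq_one_iff x).mpr (two_x_mem hG hx hs)
      exact congrArg ξ.1 h4
    · intro ξ _ ξ' _ h
      apply Subtype.ext
      funext q
      obtain ⟨g, rfl⟩ := QuotientGroup.mk_surjective q
      have h4 := congrFun (congrArg Subtype.val h) g
      exact h4
    · intro ψ hψ
      have hne := Finset.ne_of_mem_erase hψ
      obtain ⟨ξ, hξ⟩ := BlockNorm.exists_deflate (suppN χ) ψ (fun n hn => (mem_suppN χ n).mp hn ψ hne)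
      exact ⟨ξ, Finset.mem_univ _, Subtype.ext hξ.symm⟩
    · intro ξ _
      rfl
  rw [h3, h2] at h1
  exact_mod_cast h1.symm

theorem two_cent_bound (hG : 2 < Nat.card G) {χ : IrrCharacter G} {x : G} (hx : x ≠ 1)
    (hs : ∀ g, χ.1 g ≠ 0 ↔ (g = 1 ∨ IsConj x g)) (p : ℕ) [hpf : Fact p.Prime] (hNp : IsPGroup p (suppN χ))
    (P : Sylow p G) (z : (P : Subgroup G)) (hz : (z : G) ∉ suppN χ) :
    Nat.card (Subgroup.centralizer ({z} : Set (P : Subgroup G))) * Nat.card (suppN χ) ≤ Nat.card (P : Subgroup G) := by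
  classical
  have h1 := two_centralizer_quot hG hx hs hz
  have h2 : Nat.card (Subgroup.centralizer ({((z : G) : G ⧸ suppN χ)} : Set (G ⧸ suppN χ))) ∣
      Nat.card (G ⧸ suppN χ) := Subgroup.card_subgroup_dvd_card _
  rw [← h1] at h2
  have h3 : Nat.card (Subgroup.centralizer ({z} : Set (P : Subgroup G))) ∣
      Nat.card (Subgroup.centralizer ({(z : G)} : Set G)) := by
    have h4 : (Subgroup.centralizer ({z} : Set (P : Subgroup G))).map (P : Subgroup G).subtype ≤
        Subgroup.centralizer ({(z : G)} : Set G) := by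
      rintro _ ⟨u, hu, rfl⟩
      have hu' : u ∈ Subgroup.centralizer ({z} : Set (P : Subgroup G)) := hu
      rw [Subgroup.mem_centralizer_singleton_iff] at hu' ⊢
      exact congrArg Subtype.val hu'
    have h5 := Subgroup.card_dvd_of_le h4
    rwa [Subgroup.card_map_of_injective (Subgroup.subtype_injective _)] at h5
  have h6 := h3.trans h2
  have hP : IsPGroup p (Subgroup.centralizer ({z} : Set (P : Subgroup G))) :=
    IsPGroup.to_subgroup P.isPGroup' _
  obtain ⟨a, ha⟩ := IsPGroup.iff_card.mp hP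
  obtain ⟨b, hb⟩ := IsPGroup.iff_card.mp hNp
  have h7 : Nat.card (suppN χ) * Nat.card (G ⧸ suppN χ) = Nat.card G := by
    rw [mul_comm]
    exact Subgroup.card_eq_card_quotient_mul_card_subgroup _ |>.symm
  have h8 : p ^ (a + b) ∣ Nat.card G := by
    rw [pow_add, ← h7, ← ha, ← hb, mul_comm]
    exact mul_dvd_mul_left _ h6
  have h9 := Sylow.pow_dvd_card_of_pow_dvd_card P h8
  rw [pow_add, ← ha, ← hb] at h9
  exact Nat.le_of_dvd Nat.card_pos h9

theorem two_ucs_step (hG : 2 < Nat.card G) {χ : IrrCharacter G} {x : G} (hx : x ≠ 1)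
    (hs : ∀ g, χ.1 g ≠ 0 ↔ (g = 1 ∨ IsConj x g)) (p : ℕ) [hpf : Fact p.Prime] (hNp : IsPGroup p (suppN χ))
    (P : Sylow p G) (hNP : suppN χ ≤ (P : Subgroup G)) (A : Subgroup (P : Subgroup G))
    (hA : A ≤ (suppN χ).subgroupOf (P : Subgroup G)) (z : (P : Subgroup G)) (hz : (z : G) ∉ suppN χ)
    (hcomm : ∀ u : (P : Subgroup G), z * u * z⁻¹ * u⁻¹ ∈ A) : (suppN χ).subgroupOf (P : Subgroup G) ≤ A := by
  classical
  have hb := two_cent_bound hG hx hs p hNp P z hz
  obtain ⟨D, hD⟩ : ∃ D : Subgroup (P : Subgroup G), D = Subgroup.centralizer ({z} : Set (P : Subgroup G)) := ⟨_, rfl⟩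
  rw [← hD] at hb
  -- the commutator map
  have hMcard : Nat.card ((suppN χ).subgroupOf (P : Subgroup G)) = Nat.card (suppN χ) := by
    have := Subgroup.subgroupOfEquivOfLe hNP
    exact Nat.card_congr this.toEquiv
  have hF : ∀ u v : (P : Subgroup G), z * u * z⁻¹ * u⁻¹ = z * v * z⁻¹ * v⁻¹ ↔ (QuotientGroup.leftRel D).r u v := by
    intro u v
    rw [QuotientGroup.leftRel_apply, hD, Subgroup.mem_centralizer_singleton_iff]
    constructor
    · intro h
      have h2 : u * z⁻¹ * u⁻¹ = v * z⁻¹ * v⁻¹ := by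
        have h3 : z * u * z⁻¹ * u⁻¹ = z * v * z⁻¹ * v⁻¹ := h
        have h4 : z * (u * z⁻¹ * u⁻¹) = z * (v * z⁻¹ * v⁻¹) := by
          simpa [mul_assoc] using h3
        exact mul_left_cancel h4
      have h3 : u * z * u⁻¹ = v * z * v⁻¹ := by
        have := congrArg (fun a => a⁻¹) h2
        simpa [mul_assoc] using this
      calc u⁻¹ * v * z = u⁻¹ * (v * z * v⁻¹) * v := by group
        _ = u⁻¹ * (u * z * u⁻¹) * v := by rw [h3]
        _ = z * (u⁻¹ * v) := by group
    · intro h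
      have h3 : u * z * u⁻¹ = v * z * v⁻¹ := by
        calc u * z * u⁻¹ = u * (z * (u⁻¹ * v)) * v⁻¹ := by group
          _ = u * (u⁻¹ * v * z) * v⁻¹ := by rw [h]
          _ = v * z * v⁻¹ := by group
      have h2 : u * z⁻¹ * u⁻¹ = v * z⁻¹ * v⁻¹ := by
        have := congrArg (fun a => a⁻¹) h3
        simpa [mul_assoc] using this
      change z * u * z⁻¹ * u⁻¹ = z * v * z⁻¹ * v⁻¹
      calc z * u * z⁻¹ * u⁻¹ = z * (u * z⁻¹ * u⁻¹) := by group
        _ = z * (v * z⁻¹ * v⁻¹) := by rw [h2]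
        _ = z * v * z⁻¹ * v⁻¹ := by group
  let f : (P : Subgroup G) ⧸ D → (suppN χ).subgroupOf (P : Subgroup G) := fun q =>
    Quotient.liftOn' q (fun u => ⟨z * u * z⁻¹ * u⁻¹, hA (hcomm u)⟩)
      (fun u v h => Subtype.ext ((hF u v).mpr h))
  have hfinj : Function.Injective f := by
    intro q q'
    induction q using Quotient.inductionOn' with
    | h u =>
      induction q' using Quotient.inductionOn' with
      | h v =>
        intro h
        exact Quotient.sound' ((hF u v).mp (congrArg Subtype.val h))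
  have hcard : Nat.card ((suppN χ).subgroupOf (P : Subgroup G)) ≤ Nat.card ((P : Subgroup G) ⧸ D) := by
    rw [hMcard]
    have h1 := Subgroup.card_mul_index D
    change Nat.card (suppN χ) ≤ D.index
    rw [← h1] at hb
    exact Nat.le_of_mul_le_mul_left hb Nat.card_pos
  have hbij := hfinj.bijective_of_nat_card_le hcard
  intro n hn
  obtain ⟨q, hq⟩ := hbij.2 ⟨n, hn⟩
  induction q using Quotient.inductionOn' with
  | h u =>
    have h1 : z * u * z⁻¹ * u⁻¹ = n := congrArg Subtype.val hq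
    rw [← h1]
    exact hcomm u

theorem s4838_aux (hG : 2 < Nat.card G) (χ : IrrCharacter G)
    (hχ : Nat.card {C : ConjClasses G // ∃ g ∈ C.carrier, χ.1 g ≠ 0} = 2) (p : ℕ) [hpf : Fact p.Prime]
    (N : Subgroup G) [hNn : N.Normal] (hN : ∀ g : G, g ∈ N ↔ χ.1 g ≠ 0) (hNp : IsPGroup p N)
    (hN1 : N ≠ ⊥) (P : Sylow p G) :
    (∀ x : G, x ∉ N → Nat.card (Subgroup.centralizer ({x} : Set G)) =
        Nat.card (Subgroup.centralizer ({(x : G ⧸ N)} : Set (G ⧸ N)))) ∧
      ((Subgroup.center ↥(P : Subgroup G)).map (P : Subgroup G).subtype ≤ N ∧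
        ((Subgroup.center ↥(P : Subgroup G)).map (P : Subgroup G).subtype = N ↔ (P : Subgroup G).Normal)) ∧
      (∃ i : ℕ, Subgroup.upperCentralSeries ↥(P : Subgroup G) i = N.subgroupOf (P : Subgroup G)) := by
  classical
  obtain ⟨x₀, hx₀, hs⟩ := two_exists χ hχ
  have hNe : suppN χ = N := by
    ext g
    rw [two_main hG hx₀ hs, hN]
  subst hNe
  have hNP : suppN χ ≤ (P : Subgroup G) :=
    (H1Core.le_pCore hNn hNp).trans (H1Core.pCore_le_sylow p P)
  have hNcard : 1 < Nat.card (suppN χ) := by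
    rcases Nat.lt_or_ge 1 (Nat.card (suppN χ)) with h | h
    · exact h
    · exfalso
      apply hN1
      have h2 := Nat.card_pos (α := suppN χ)
      have h3 : Nat.card (suppN χ) = 1 := by omega
      exact Subgroup.eq_bot_of_card_eq _ h3
  have hZ : (Subgroup.center ↥(P : Subgroup G)).map (P : Subgroup G).subtype ≤ suppN χ := by
    rintro _ ⟨z, hz, rfl⟩
    by_contra hcon
    have hb := two_cent_bound hG hx₀ hs p hNp P z hcon
    have h1 : Subgroup.centralizer ({z} : Set (P : Subgroup G)) = ⊤ := by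
      rw [eq_top_iff]
      intro u _
      rw [Subgroup.mem_centralizer_singleton_iff]
      exact ((Subgroup.mem_center_iff.mp hz) u).symm ▸ rfl
    rw [h1, Subgroup.card_top] at hb
    have hpos := Nat.card_pos (α := (P : Subgroup G))
    nlinarith
  refine ⟨fun z hz => two_centralizer_quot hG hx₀ hs hz, ⟨hZ, ?_, ?_⟩, ?_⟩
  · -- forward direction
    intro hEq
    have hcent : ∀ y ∈ suppN χ, y ≠ 1 → Subgroup.centralizer ({y} : Set G) = P := by
      intro y hy hy1
      have hs' : ∀ g, χ.1 g ≠ 0 ↔ (g = 1 ∨ IsConj y g) := by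
        intro g
        rw [hs g]
        have hc := two_all_conj hG hx₀ hs hy hy1
        exact or_congr_right ⟨fun h => hc.symm.trans h, fun h => hc.trans h⟩
      obtain ⟨Q, hQ⟩ := eq_sylow_of_isPGroup_index _ (two_centralizer_isPGroup hG hx₀ hs p hNp hy hy1)
        (two_not_dvd_index hG hy1 hs' p hNp)
      have hle : (P : Subgroup G) ≤ Subgroup.centralizer ({y} : Set G) := by
        intro u hu
        rw [Subgroup.mem_centralizer_singleton_iff]
        rw [← hEq] at hy
        obtain ⟨z, hz, rfl⟩ := hy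
        have := (Subgroup.mem_center_iff.mp hz) ⟨u, hu⟩
        exact congrArg Subtype.val this
      rw [← hQ] at hle ⊢
      have hcard : Nat.card (P : Subgroup G) = Nat.card (Q : Subgroup G) := by
        rw [Sylow.card_eq_multiplicity P, Sylow.card_eq_multiplicity Q]
      exact congrArg _ (Sylow.ext (Subgroup.eq_of_le_of_card_ge hle hcard.ge)).symm
    refine ⟨fun u hu g => ?_⟩
    have hx₀m := two_x_mem hG hx₀ hs
    have hy := (inferInstance : (suppN χ).Normal).conj_mem x₀ hx₀m g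
    have hy1 : g * x₀ * g⁻¹ ≠ 1 := by
      intro h
      apply hx₀
      have := congrArg (fun a => g⁻¹ * a * g) h
      simpa [mul_assoc] using this
    rw [← hcent _ hy hy1, Subgroup.mem_centralizer_singleton_iff]
    have h2 : u * x₀ = x₀ * u := by
      have h3 : u ∈ Subgroup.centralizer ({x₀} : Set G) := by
        rw [hcent x₀ hx₀m hx₀]
        exact hu
      exact (Subgroup.mem_centralizer_singleton_iff.mp h3)
    calc g * u * g⁻¹ * (g * x₀ * g⁻¹) = g * (u * x₀) * g⁻¹ := by group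
      _ = g * (x₀ * u) * g⁻¹ := by rw [h2]
      _ = g * x₀ * g⁻¹ * (g * u * g⁻¹) := by group
  · intro hPn
    refine le_antisymm hZ ?_
    apply two_minimal hG hx₀ hs
    · refine ⟨?_⟩
      rintro _ ⟨z, hz, rfl⟩ g
      have hgz : g * (z : G) * g⁻¹ ∈ (P : Subgroup G) := hPn.conj_mem _ z.2 g
      refine ⟨⟨_, hgz⟩, ?_, rfl⟩
      refine Subgroup.mem_center_iff.mpr ?_
      rintro ⟨u, hu⟩
      apply Subtype.ext
      have hgu : g⁻¹ * u * g ∈ (P : Subgroup G) := by
        have := hPn.conj_mem _ hu g⁻¹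
        simpa using this
      have h3 := congrArg Subtype.val ((Subgroup.mem_center_iff.mp hz) ⟨_, hgu⟩)
      have h4 : g⁻¹ * u * g * (z : G) = z * (g⁻¹ * u * g) := h3
      change u * (g * (z : G) * g⁻¹) = g * (z : G) * g⁻¹ * u
      calc u * (g * (z : G) * g⁻¹) = g * (g⁻¹ * u * g * (z : G)) * g⁻¹ := by group
        _ = g * (z * (g⁻¹ * u * g)) * g⁻¹ := by rw [h4]
        _ = g * (z : G) * g⁻¹ * u := by group
    · intro hbot
      have hPnt : Nontrivial (P : Subgroup G) := by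
        exact (Subgroup.nontrivial_iff_ne_bot _).mpr (fun h => hN1 (by
          rw [eq_bot_iff, ← h]; exact hNP))
      have := P.isPGroup'.center_nontrivial
      have hb2 : Subgroup.center (P : Subgroup G) = ⊥ := by
        rw [eq_bot_iff]
        intro z hz
        have h5 : (z : G) ∈ (Subgroup.center ↥(P : Subgroup G)).map (P : Subgroup G).subtype := ⟨z, hz, rfl⟩
        rw [hbot] at h5
        exact Subgroup.mem_bot.mpr (Subtype.ext (Subgroup.mem_bot.mp h5))
      have hnt := (Subgroup.nontrivial_iff_ne_bot _).mp (inferInstance : Nontrivial (Subgroup.center (P : Subgroup G)))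
      exact hnt hb2
  · -- upper central series
    have hnil : ∃ i, (suppN χ).subgroupOf (P : Subgroup G) ≤ Subgroup.upperCentralSeries ↥(P : Subgroup G) i := by
      have : Group.IsNilpotent (P : Subgroup G) := P.isPGroup'.isNilpotent
      obtain ⟨n, hn⟩ := Group.IsNilpotent.nilpotent (P : Subgroup G)
      exact ⟨n, by rw [hn]; exact le_top⟩
    classical
    refine ⟨Nat.find hnil, le_antisymm ?_ (Nat.find_spec hnil)⟩
    have hle : ∀ j, j ≤ Nat.find hnil → Subgroup.upperCentralSeries ↥(P : Subgroup G) j ≤ (suppN χ).subgroupOf (P : Subgroup G) := by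
      intro j
      induction j with
      | zero =>
        intro _
        simp [Subgroup.upperCentralSeries_zero]
      | succ j ih =>
        intro hj
        have hih := ih (Nat.le_of_succ_le hj)
        have hnot := Nat.find_min hnil (Nat.lt_of_succ_le hj)
        intro z hz
        by_contra hzM
        apply hnot
        exact two_ucs_step hG hx₀ hs p hNp P hNP _ hih z (fun hzz => hzM (Subgroup.mem_subgroupOf.mpr hzz))
          (fun u => (Subgroup.mem_upperCentralSeries_succ_iff.mp hz) u)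
    exact hle _ le_rfl

end Two

end Cfsg.Agent.Lib.BlockPair
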