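import Cfsg.Agent.Lib.FGSBasic
import Cfsg.Agent.Lib.H1SZ
import Cfsg.Agent.Lib.H1Cop
import Cfsg.Agent.Lib.Comp2

set_option autoImplicit false

/-! Misc tools: π-decomposition of elements, Schur–Zassenhaus inside `N ⊔ H`, TI Sylow helpers. -/

namespace Cfsg.Agent.Lib.FGS3

open Subgroup
open scoped Pointwise

theorem nat_split (π : Set ℕ) (n : ℕ) (hn : n ≠ 0) :
    ∃ A B : ℕ, A * B = n ∧ A.Coprime B ∧ (∀ r : ℕ, r.Prime → r ∣ A → r ∈ π) ∧ (∀ r : ℕ, r.Prime → r ∣ B → r ∉ π) := by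
  classical
  induction n using Nat.recOnPosPrimePosCoprime with
  | prime_pow p k hp hk =>
    by_cases hpπ : p ∈ π
    · refine ⟨p ^ k, 1, by simp, by simp, ?_, ?_⟩
      · intro r hr hd
        rw [(Nat.prime_dvd_prime_iff_eq hr hp).1 (hr.dvd_of_dvd_pow hd)]
        exact hpπ
      · intro r hr hd
        exact absurd (Nat.dvd_one.1 hd) hr.one_lt.ne'
    · refine ⟨1, p ^ k, by simp, by simp, ?_, ?_⟩
      · intro r hr hd
        exact absurd (Nat.dvd_one.1 hd) hr.one_lt.ne'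
      · intro r hr hd
        rw [(Nat.prime_dvd_prime_iff_eq hr hp).1 (hr.dvd_of_dvd_pow hd)]
        exact hpπ
  | zero => exact absurd rfl hn
  | one =>
    refine ⟨1, 1, rfl, by simp, ?_, ?_⟩
    · intro r hr hd
      exact absurd (Nat.dvd_one.1 hd) hr.one_lt.ne'
    · intro r hr hd
      exact absurd (Nat.dvd_one.1 hd) hr.one_lt.ne'
  | coprime a b ha hb hab iha ihb =>
    obtain ⟨A₁, B₁, h1, h2, h3, h4⟩ := iha (by omega)
    obtain ⟨A₂, B₂, h5, h6, h7, h8⟩ := ihb (by omega)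
    have hA₁a : A₁ ∣ a := ⟨B₁, h1.symm⟩
    have hB₁a : B₁ ∣ a := ⟨A₁, by rw [← h1, mul_comm]⟩
    have hA₂b : A₂ ∣ b := ⟨B₂, h5.symm⟩
    have hB₂b : B₂ ∣ b := ⟨A₂, by rw [← h5, mul_comm]⟩
    refine ⟨A₁ * A₂, B₁ * B₂, ?_, ?_, ?_, ?_⟩
    · rw [← h1, ← h5]
      ring
    · apply Nat.Coprime.mul_left
      · apply Nat.Coprime.mul_right h2
        exact Nat.Coprime.coprime_dvd_left hA₁a (Nat.Coprime.coprime_dvd_right hB₂b hab)
      · apply Nat.Coprime.mul_right
        · exact Nat.Coprime.coprime_dvd_left hA₂b (Nat.Coprime.coprime_dvd_right hB₁a hab.symm)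
        · exact h6
    · intro r hr hd
      rcases (Nat.Prime.dvd_mul hr).1 hd with h | h
      · exact h3 r hr h
      · exact h7 r hr h
    · intro r hr hd
      rcases (Nat.Prime.dvd_mul hr).1 hd with h | h
      · exact h4 r hr h
      · exact h8 r hr h

variable {G : Type*} [Group G]

/-- The `π`-decomposition of an element of a finite group. -/
theorem exists_pi_decomp [Finite G] (π : Set ℕ) (g : G) :
    ∃ a b : G, a ∈ zpowers g ∧ b ∈ zpowers g ∧ a * b = g ∧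
      (∀ r : ℕ, r.Prime → r ∣ orderOf a → r ∈ π) ∧ (∀ r : ℕ, r.Prime → r ∣ orderOf b → r ∉ π) := by
  obtain ⟨A, B, h1, h2, h3, h4⟩ := nat_split π (orderOf g) (orderOf_pos g).ne'
  obtain ⟨x, y, hxy⟩ := Lib.FGSBasic.exists_zpow_bezout g h2.symm
  refine ⟨(g ^ B) ^ x, (g ^ A) ^ y, ?_, ?_, hxy, ?_, ?_⟩
  · exact Subgroup.zpow_mem _ (Subgroup.pow_mem _ (Subgroup.mem_zpowers g) _) _
  · exact Subgroup.zpow_mem _ (Subgroup.pow_mem _ (Subgroup.mem_zpowers g) _) _
  · intro r hr hd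
    apply h3 r hr
    apply hd.trans
    apply orderOf_dvd_of_pow_eq_one
    rw [← zpow_natCast, zpow_comm, zpow_natCast, ← pow_mul, mul_comm, h1, pow_orderOf_eq_one, one_zpow]
  · intro r hr hd
    apply h4 r hr
    apply hd.trans
    apply orderOf_dvd_of_pow_eq_one
    rw [← zpow_natCast, zpow_comm, zpow_natCast, ← pow_mul, h1, pow_orderOf_eq_one, one_zpow]

/-- Lift of a `π`-element of a quotient to a `π`-element of the group. -/
theorem exists_lift_pi [Finite G] (N : Subgroup G) [N.Normal] (π : Set ℕ) (y : G ⧸ N)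
    (hy : ∀ r : ℕ, r.Prime → r ∣ orderOf y → r ∈ π) :
    ∃ x : G, (x : G ⧸ N) = y ∧ (∀ r : ℕ, r.Prime → r ∣ orderOf x → r ∈ π) := by
  obtain ⟨g, rfl⟩ := QuotientGroup.mk_surjective y
  obtain ⟨a, b, -, hb, hab, ha, hb'⟩ := exists_pi_decomp π g
  refine ⟨a, ?_, ha⟩
  have h1 : ((b : G) : G ⧸ N) = 1 := by
    rw [← orderOf_eq_one_iff]
    by_contra hne
    obtain ⟨r, hr, hd⟩ := Nat.exists_prime_and_dvd hne
    have h2 : orderOf ((b : G) : G ⧸ N) ∣ orderOf b := orderOf_map_dvd (QuotientGroup.mk' N) b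
    have h3 : orderOf ((b : G) : G ⧸ N) ∣ orderOf ((g : G) : G ⧸ N) := by
      obtain ⟨z, rfl⟩ := Subgroup.mem_zpowers_iff.1 hb
      rw [QuotientGroup.mk_zpow]
      exact orderOf_dvd_of_mem_zpowers (Subgroup.zpow_mem_zpowers _ _)
    exact hb' r hr (hd.trans h2) (hy r hr (hd.trans h3))
  rw [← hab, QuotientGroup.mk_mul, h1, mul_one]

/-- Schur–Zassenhaus conjugacy inside `N ⊔ H`. -/
theorem sz_conj_in_sup {G : Type*} [Group G] [Finite G] (N H K : Subgroup G) [N.Normal]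
    (hc : (Nat.card N).Coprime (Nat.card H)) (hs : Group.IsSolvable N ∨ Group.IsSolvable H)
    (hKL : K ≤ N ⊔ H) (hK : Nat.card K = Nat.card H) :
    ∃ n ∈ N, MulAut.conj n • H = K := by
  set L : Subgroup G := N ⊔ H with hL
  have hHL : H ≤ L := le_sup_right
  have hNL : N ≤ L := le_sup_left
  have hcardL : Nat.card L = Nat.card N * Nat.card H := by
    have h1 : H ≤ normalizer (N : Set G) := by
      rw [normalizer_eq_top_iff.2 (inferInstance : N.Normal)]
      exact le_top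
    exact Lib.H1Cop.card_sup_of_coprime h1 hc.symm
  have h1 : Nat.card (N.subgroupOf L) = Nat.card N := Lib.Comp2.card_subgroupOf_of_le hNL
  have h2 : Nat.card (H.subgroupOf L) = Nat.card H := Lib.Comp2.card_subgroupOf_of_le hHL
  have h3 : Nat.card (K.subgroupOf L) = Nat.card K := Lib.Comp2.card_subgroupOf_of_le hKL
  have hs' : Group.IsSolvable (N.subgroupOf L) ∨ Group.IsSolvable (H.subgroupOf L) := by
    rcases hs with hs | hs
    · left
      haveI := hs
      exact Group.isSolvable_of_isSolvable_injective (f := (Subgroup.subgroupOfEquivOfLe hNL).toMonoidHom) (Subgroup.subgroupOfEquivOfLe hNL).injective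
    · right
      haveI := hs
      exact Group.isSolvable_of_isSolvable_injective (f := (Subgroup.subgroupOfEquivOfLe hHL).toMonoidHom) (Subgroup.subgroupOfEquivOfLe hHL).injective
  obtain ⟨n, hn, hne⟩ := Lib.H1SZ.sz_conj_mem (N.subgroupOf L) (H.subgroupOf L) (K.subgroupOf L) hs'
    (by rw [h1, h2]; exact hc) (by rw [h1, h2, hcardL]) (by rw [h3, h2]; exact hK)
  refine ⟨n, hn, ?_⟩
  apply Subgroup.eq_of_le_of_card_ge
  · intro x hx
    rw [Lib.FGSBasic.mem_conj_smul_iff] at hx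
    have h4 : ((n : G)⁻¹ * x * n) ∈ L := hHL hx
    have h5 : (⟨(n : G)⁻¹ * x * n, h4⟩ : L) ∈ H.subgroupOf L := hx
    have h6 : (n * ⟨(n : G)⁻¹ * x * n, h4⟩ * n⁻¹ : L) ∈ K.subgroupOf L := by
      rw [← hne, Lib.FGSBasic.mem_conj_smul_iff]
      simpa [mul_assoc] using h5
    have h7 : ((n * ⟨(n : G)⁻¹ * x * n, h4⟩ * n⁻¹ : L) : G) ∈ K := h6
    simpa [mul_assoc] using h7
  · have h8 : Nat.card ↥(MulAut.conj (n : G) • H) = Nat.card H := by
      exact Nat.card_congr (Subgroup.equivSMul (MulAut.conj (n : G)) H).symm.toEquiv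
    rw [h8, hK]

/-- TI for one Sylow subgroup passes to all Sylow subgroups, in element form. -/
theorem ti_of_sylow [Finite G] {p : ℕ} [Fact p.Prime] (P : Sylow p G)
    (hTI : ∀ g : G, g ∉ Subgroup.normalizer ((P : Subgroup G) : Set G) → (P : Subgroup G) ⊓ (MulAut.conj g • (P : Subgroup G)) = ⊥)
    (T : Sylow p G) {x h : G} (hxT : x ∈ (T : Subgroup G)) (hx1 : x ≠ 1) (hh : h⁻¹ * x * h ∈ (T : Subgroup G)) :
    h ∈ Subgroup.normalizer ((T : Subgroup G) : Set G) := by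
  obtain ⟨g, rfl⟩ := MulAction.exists_smul_eq G P T
  have hy : g⁻¹ * x * g ∈ (P : Subgroup G) := (Lib.FGSBasic.mem_smul_sylow_iff P g x).1 hxT
  have hy1 : g⁻¹ * x * g ≠ 1 := by
    intro h1
    apply hx1
    have : x = g * (g⁻¹ * x * g) * g⁻¹ := by group
    rw [this, h1]
    group
  have hw : g⁻¹ * (h⁻¹ * x * h) * g ∈ (P : Subgroup G) := (Lib.FGSBasic.mem_smul_sylow_iff P g _).1 hh
  have hw2 : g⁻¹ * h * g ∈ Subgroup.normalizer ((P : Subgroup G) : Set G) := by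
    by_contra hc
    have h1 := hTI _ hc
    have h2 : g⁻¹ * x * g ∈ (P : Subgroup G) ⊓ (MulAut.conj (g⁻¹ * h * g) • (P : Subgroup G)) := by
      refine Subgroup.mem_inf.2 ⟨hy, ?_⟩
      rw [Lib.FGSBasic.mem_conj_smul_iff]
      have e : (g⁻¹ * h * g)⁻¹ * (g⁻¹ * x * g) * (g⁻¹ * h * g) = g⁻¹ * (h⁻¹ * x * h) * g := by group
      rw [e]
      exact hw
    rw [h1, Subgroup.mem_bot] at h2
    exact hy1 h2
  have hw3 : (g⁻¹ * h * g) • P = P := Sylow.smul_eq_iff_mem_normalizer.2 hw2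
  have h3 : h • (g • P) = g • P := by
    rw [smul_smul]
    have e : h * g = g * (g⁻¹ * h * g) := by group
    rw [e, ← smul_smul, hw3]
  exact Sylow.smul_eq_iff_mem_normalizer.1 h3

end Cfsg.Agent.Lib.FGS3
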