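import Cfsg.Agent.Lib.CharCyc
import Cfsg.Agent.Lib.CharGall
import Cfsg.Agent.Lib.FGS3

/-!
# Glauberman correspondence: fusion in cosets, eigen-decomposition, the prime-order core.
-/

set_option autoImplicit false
set_option linter.unusedVariables false
set_option linter.unusedSectionVars false
set_option linter.style.longLine false

open Cfsg Module
open scoped ComplexConjugate
open Cfsg.Agent.Lib.CharBasic Cfsg.Agent.Lib.CharOrth Cfsg.Agent.Lib.CharAlg Cfsg.Agent.Lib.CharInd
open Cfsg.Agent.Lib.CharPerm Cfsg.Agent.Lib.CharGall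

namespace Cfsg.Agent.Lib.CharGlaub

universe u v

section Fusion

variable {L : Type u} [Group L] [Fintype L] (K : Subgroup L) [hK : K.Normal]

/-- Powers of an element of a coset. -/
theorem coset_pow (n y : L) (hn : n ∈ K) (m : ℕ) : ∃ n' ∈ K, (n * y) ^ m = n' * y ^ m := by
  induction m with
  | zero => exact ⟨1, K.one_mem, by simp⟩
  | succ m ih =>
    obtain ⟨n', hn', h⟩ := ih
    refine ⟨n' * (y ^ m * n * y⁻¹ ^ m), K.mul_mem hn' ?_, ?_⟩
    · have := hK.conj_mem n hn (y ^ m)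
      simpa using this
    · rw [pow_succ, h, pow_succ]
      simp only [inv_pow]
      group

variable {K}

/-- The elements of a coset are conjugate into `C y`. -/
theorem exists_fusion [Fintype K] (y : L)
    (hcop : (Nat.card (Subgroup.zpowers y)).Coprime (Nat.card K)) (n : L) (hn : n ∈ K) :
    ∃ x ∈ K, ∃ c ∈ K, Commute c y ∧ n * y = x * (c * y) * x⁻¹ := by
  classical
  set o := orderOf y with ho
  have hoc : Nat.card (Subgroup.zpowers y) = o := Nat.card_zpowers y
  rw [hoc] at hcop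
  have hK0 : Nat.card K ≠ 0 := Nat.card_pos.ne'
  have ho0 : o ≠ 0 := (orderOf_pos y).ne'
  obtain ⟨m, hm1, hm2⟩ : ∃ m : ℕ, m ≡ 1 [MOD o] ∧ m ≡ 0 [MOD Nat.card K] := by
    let c := Nat.chineseRemainder hcop 1 0
    exact ⟨c.1, c.2.1, c.2.2⟩
  have hKm : Nat.card K ∣ m := (Nat.modEq_zero_iff_dvd).mp hm2
  have hkill : ∀ k ∈ K, k ^ m = 1 := by
    intro k hk
    obtain ⟨t, ht⟩ := hKm
    rw [ht, pow_mul]
    have : (⟨k, hk⟩ : K) ^ Nat.card K = 1 := pow_card_eq_one'
    have h2 : k ^ Nat.card K = 1 := Subtype.ext_iff.mp this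
    rw [h2, one_pow]
  have hym : y ^ m = y := by
    have h1 : y ^ m = y ^ (m % o) := by rw [pow_mod_orderOf]
    have h2 : y ^ 1 = y ^ (1 % o) := by rw [pow_mod_orderOf]
    have h3 : m % o = 1 % o := hm1
    rw [h1, h3, ← h2, pow_one]
  set z := n * y with hz
  set u := z ^ m with hu
  obtain ⟨n₁, hn₁, hu1⟩ := coset_pow K n y hn m
  rw [hym] at hu1
  have hu1' : u = n₁ * y := hu1
  -- `u ^ o = 1`
  obtain ⟨n₂, hn₂, hzo⟩ := coset_pow K n y hn o
  have hyo : y ^ o = 1 := pow_orderOf_eq_one y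
  rw [hyo, mul_one] at hzo
  have huo : u ^ o = 1 := by
    rw [hu, ← pow_mul, mul_comm, pow_mul, hz, hzo]
    exact hkill n₂ hn₂
  -- order of `u`
  have hdisj : ∀ d : ℕ, y ^ d ∈ K → y ^ d = 1 := by
    intro d hd
    have h1 : y ^ d ∈ K ⊓ Subgroup.zpowers y := ⟨hd, Subgroup.npow_mem_zpowers y d⟩
    have h2 : K ⊓ Subgroup.zpowers y = ⊥ := by
      apply Subgroup.inf_eq_bot_of_coprime
      rw [hoc]
      exact hcop.symm
    rw [h2] at h1
    simpa using h1
  have hou : orderOf u = o := by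
    apply Nat.dvd_antisymm (orderOf_dvd_of_pow_eq_one huo)
    rw [ho]
    apply orderOf_dvd_of_pow_eq_one
    obtain ⟨n₃, hn₃, h3⟩ := coset_pow K n₁ y hn₁ (orderOf u)
    have h4 : (n₁ * y) ^ orderOf u = 1 := by
      rw [← hu1']; exact pow_orderOf_eq_one u
    rw [h3] at h4
    apply hdisj
    have : y ^ orderOf u = n₃⁻¹ := eq_inv_of_mul_eq_one_right h4
    rw [this]
    exact K.inv_mem hn₃
  -- conjugacy
  have hsolv : Group.IsSolvable K ∨ Group.IsSolvable (Subgroup.zpowers y) := by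
    right
    apply isSolvable_of_comm
    letI := IsCyclic.commGroup (α := Subgroup.zpowers y)
    exact fun a b => mul_comm a b
  obtain ⟨x, hx, hxe⟩ := Cfsg.Agent.Lib.FGS3.sz_conj_in_sup K (Subgroup.zpowers y) (Subgroup.zpowers u)
    (by rw [hoc]; exact hcop.symm) hsolv
    (by
      rw [Subgroup.zpowers_le]
      rw [hu1']
      exact Subgroup.mul_mem _ (Subgroup.mem_sup_left hn₁) (Subgroup.mem_sup_right (Subgroup.mem_zpowers y)))
    (by rw [Nat.card_zpowers, Nat.card_zpowers, hou])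
  have hxy : x * y * x⁻¹ ∈ Subgroup.zpowers u := by
    rw [← hxe]
    exact ⟨y, Subgroup.mem_zpowers y, rfl⟩
  obtain ⟨i, hi⟩ := Subgroup.mem_zpowers_iff.mp hxy
  have hxyu : x * y * x⁻¹ = u := by
    -- compare modulo `K`
    have h1 : ∀ w : L, ∃ w' ∈ K, x * w * x⁻¹ = w' * w := by
      intro w
      refine ⟨x * (w * x⁻¹ * w⁻¹), K.mul_mem hx ?_, by group⟩
      exact hK.conj_mem _ (K.inv_mem hx) w
    have hq : (QuotientGroup.mk (x * y * x⁻¹) : L ⧸ K) = QuotientGroup.mk y := by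
      obtain ⟨w', hw', h2⟩ := h1 y
      rw [h2, QuotientGroup.eq]
      simpa [mul_assoc] using hK.conj_mem _ (K.inv_mem hw') y⁻¹
    have hq2 : (QuotientGroup.mk u : L ⧸ K) = QuotientGroup.mk y := by
      rw [hu1', QuotientGroup.eq]
      simpa [mul_assoc] using hK.conj_mem _ (K.inv_mem hn₁) y⁻¹
    have hq3 : (QuotientGroup.mk (u ^ i) : L ⧸ K) = QuotientGroup.mk y := by
      rw [hi]; exact hq
    have hq4 : (QuotientGroup.mk (u ^ (i - 1)) : L ⧸ K) = 1 := by
      rw [zpow_sub, QuotientGroup.mk_mul, hq3, zpow_one, QuotientGroup.mk_inv, hq2]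
      simp
    have hq5 : u ^ (i - 1) ∈ K := (QuotientGroup.eq_one_iff _).mp hq4
    have hq6 : u ^ (i - 1) = 1 := by
      -- `u ^ (i-1)` has order dividing `o`, lies in `K`.
      have h5 : u ^ (i - 1) ∈ K ⊓ Subgroup.zpowers u := ⟨hq5, Subgroup.zpow_mem_zpowers u _⟩
      have h6 : K ⊓ Subgroup.zpowers u = ⊥ := by
        apply Subgroup.inf_eq_bot_of_coprime
        rw [Nat.card_zpowers, hou]
        exact hcop.symm
      rw [h6] at h5
      simpa using h5
    rw [← hi]
    have : u ^ i = u ^ (i - 1) * u := by rw [zpow_sub_one, inv_mul_cancel_right]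
    rw [this, hq6, one_mul]
  -- the `K`-part
  set v := u⁻¹ * z with hv
  have hvK : v ∈ K := by
    have h2 : v = y⁻¹ * n₁⁻¹ * (n * y) := by rw [hv, hu1', hz]; group
    have h3 : v = y⁻¹ * (n₁⁻¹ * n) * y := by rw [h2]; group
    rw [h3]
    have := hK.conj_mem _ (K.mul_mem (K.inv_mem hn₁) hn) y⁻¹
    simpa using this
  have huv : Commute u v := by
    have h1 : Commute u z := (Commute.refl z).pow_left m
    exact (Commute.refl u).inv_right.mul_right h1
  refine ⟨x, hx, x⁻¹ * v * x, ?_, ?_, ?_⟩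
  · exact by
      have := hK.conj_mem _ hvK x⁻¹
      simpa using this
  · -- commutes with `y`
    show x⁻¹ * v * x * y = y * (x⁻¹ * v * x)
    have h1 : y = x⁻¹ * u * x := by rw [← hxyu]; group
    rw [h1]
    have h2 : v * u = u * v := huv.eq.symm
    calc x⁻¹ * v * x * (x⁻¹ * u * x) = x⁻¹ * (v * u) * x := by group
      _ = x⁻¹ * (u * v) * x := by rw [h2]
      _ = _ := by group
  · have h1 : z = u * v := by rw [hv]; group
    calc z = u * v := h1
      _ = v * u := huv.eq
      _ = _ := by rw [← hxyu]; group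

end Fusion


section Fusion2

variable {L : Type u} [Group L] [Fintype L] {K : Subgroup L} [hK : K.Normal]

open Classical in
theorem fusion_sum [Fintype K] (y : L)
    (hcop : (Nat.card (Subgroup.zpowers y)).Coprime (Nat.card K))
    (C : Subgroup L) [Fintype C] (hC : C = K ⊓ Subgroup.centralizer {y})
    (h : L → ℂ) (hh : ∀ g z, h (z * g * z⁻¹) = h g) :
    (Nat.card C : ℂ) * ∑ n : K, h (n * y) = (Nat.card K : ℂ) * ∑ c : C, h (c * y) := by
  have hCK : ∀ c ∈ C, c ∈ K := by
    intro c hc; rw [hC] at hc; exact hc.1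
  have hCy : ∀ c ∈ C, Commute c y := by
    intro c hc
    rw [hC] at hc
    exact (Subgroup.mem_centralizer_singleton_iff.mp hc.2)
  have hmem : ∀ k ∈ K, Commute k y → k ∈ C := by
    intro k hk hc
    rw [hC]
    exact ⟨hk, Subgroup.mem_centralizer_singleton_iff.mpr hc⟩
  have hcop' := hcop
  rw [Nat.card_zpowers] at hcop'
  obtain ⟨m, hm1, hm2⟩ : ∃ m : ℕ, m ≡ 1 [MOD orderOf y] ∧ m ≡ 0 [MOD Nat.card K] := by
    let c := Nat.chineseRemainder hcop' 1 0
    exact ⟨c.1, c.2.1, c.2.2⟩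
  have hKm : Nat.card K ∣ m := (Nat.modEq_zero_iff_dvd).mp hm2
  have hkill : ∀ k ∈ K, k ^ m = 1 := by
    intro k hk
    obtain ⟨t, ht⟩ := hKm
    rw [ht, pow_mul]
    have : (⟨k, hk⟩ : K) ^ Nat.card K = 1 := pow_card_eq_one'
    have h2 : k ^ Nat.card K = 1 := Subtype.ext_iff.mp this
    rw [h2, one_pow]
  have hym : y ^ m = y := by
    have h1 : y ^ m = y ^ (m % orderOf y) := by rw [pow_mod_orderOf]
    have h2 : y ^ 1 = y ^ (1 % orderOf y) := by rw [pow_mod_orderOf]
    have h3 : m % orderOf y = 1 % orderOf y := hm1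
    rw [h1, h3, ← h2, pow_one]
  have hcm : ∀ c ∈ C, (c * y) ^ m = y := by
    intro c hc
    rw [(hCy c hc).mul_pow, hkill c (hCK c hc), hym, one_mul]
  let F : K × C → K := fun p => ⟨(p.1 : L) * ((p.2 : L) * y) * (p.1 : L)⁻¹ * y⁻¹, by
    have h1 : (p.1 : L) * ((p.2 : L) * y) * (p.1 : L)⁻¹ * y⁻¹ = (p.1 : L) * p.2 * (y * (p.1 : L)⁻¹ * y⁻¹) := by group
    rw [h1]
    exact K.mul_mem (K.mul_mem p.1.2 (hCK _ p.2.2)) (hK.conj_mem _ (K.inv_mem p.1.2) y)⟩
  have hF : ∀ p : K × C, ((F p : K) : L) * y = (p.1 : L) * ((p.2 : L) * y) * (p.1 : L)⁻¹ := by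
    intro p
    show (p.1 : L) * ((p.2 : L) * y) * (p.1 : L)⁻¹ * y⁻¹ * y = _
    group
  have hfib : ∀ n : K, (Finset.univ.filter (fun p : K × C => F p = n)).card = Nat.card C := by
    intro n
    obtain ⟨x₀, hx₀, c₀, hc₀K, hc₀y, hn⟩ := exists_fusion y hcop (n : L) n.2
    have hc₀ := hmem c₀ hc₀K hc₀y
    let φ : C → K × C := fun z => (⟨x₀ * z, K.mul_mem hx₀ (hCK _ z.2)⟩,
      ⟨(z : L)⁻¹ * c₀ * z, C.mul_mem (C.mul_mem (C.inv_mem z.2) hc₀) z.2⟩)
    have hφ : Function.Injective φ := by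
      intro a b hab
      have h1 := congrArg (fun p : K × C => ((p.1 : K) : L)) hab
      apply Subtype.ext
      exact mul_left_cancel h1
    have hfiber : Finset.univ.filter (fun p : K × C => F p = n) = Finset.univ.image φ := by
      ext ⟨x, c⟩
      simp only [Finset.mem_filter, Finset.mem_univ, true_and, Finset.mem_image]
      constructor
      · intro hFp
        have h1 : (x : L) * ((c : L) * y) * (x : L)⁻¹ = x₀ * (c₀ * y) * x₀⁻¹ := by
          rw [← hF (x, c), hFp, hn]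
        have h2 : (x : L) * y * (x : L)⁻¹ = x₀ * y * x₀⁻¹ := by
          have h3 := congrArg (fun w => w ^ m) h1
          simp only [conj_pow] at h3
          rwa [hcm c c.2, hcm c₀ hc₀] at h3
        have hz : x₀⁻¹ * x ∈ C := by
          apply hmem _ (K.mul_mem (K.inv_mem hx₀) x.2)
          show x₀⁻¹ * x * y = y * (x₀⁻¹ * x)
          have h3 : (x : L) * y = x₀ * y * x₀⁻¹ * x := by rw [← h2]; group
          calc x₀⁻¹ * x * y = x₀⁻¹ * ((x : L) * y) := by group
            _ = x₀⁻¹ * (x₀ * y * x₀⁻¹ * x) := by rw [h3]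
            _ = _ := by group
        refine ⟨⟨_, hz⟩, ?_⟩
        have hzc : Commute (x₀⁻¹ * x) y := hCy _ hz
        apply Prod.ext
        · apply Subtype.ext
          show x₀ * (x₀⁻¹ * x) = x
          group
        · apply Subtype.ext
          show (x₀⁻¹ * x : L)⁻¹ * c₀ * (x₀⁻¹ * x) = c
          -- `z c z⁻¹ = c₀`
          set z : L := x₀⁻¹ * x with hzdef
          have hx : (x : L) = x₀ * z := by rw [hzdef]; group
          rw [hx] at h1
          have h4 : z * ((c : L) * y) * z⁻¹ = c₀ * y := by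
            have h5 : x₀ * (z * ((c : L) * y) * z⁻¹) * x₀⁻¹ = x₀ * (c₀ * y) * x₀⁻¹ := by
              rw [← h1]; group
            have h6 := congrArg (fun w => x₀⁻¹ * w * x₀) h5
            simpa [mul_assoc] using h6
          have h7 : z * (c : L) * z⁻¹ * y = c₀ * y := by
            rw [← h4]
            have : y * z⁻¹ = z⁻¹ * y := (hzc.inv_left).eq.symm
            calc z * (c : L) * z⁻¹ * y = z * c * (z⁻¹ * y) := by group
              _ = z * c * (y * z⁻¹) := by rw [this]
              _ = _ := by group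
          have h8 : z * (c : L) * z⁻¹ = c₀ := mul_right_cancel h7
          rw [← h8]
          group
      · rintro ⟨z, hz⟩
        rw [← hz]
        apply Subtype.ext
        show x₀ * z * ((z : L)⁻¹ * c₀ * z * y) * (x₀ * z)⁻¹ * y⁻¹ = n
        have hzc : Commute (z : L) y := hCy _ z.2
        have h1 : (n : L) = x₀ * (c₀ * y) * x₀⁻¹ * y⁻¹ := by rw [← hn]; group
        rw [h1]
        have h2 : (z : L) * y = y * z := hzc.eq
        calc x₀ * z * ((z : L)⁻¹ * c₀ * z * y) * (x₀ * z)⁻¹ * y⁻¹ = x₀ * (c₀ * ((z : L) * y) * (z : L)⁻¹) * x₀⁻¹ * y⁻¹ := by group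
          _ = x₀ * (c₀ * (y * z) * (z : L)⁻¹) * x₀⁻¹ * y⁻¹ := by rw [h2]
          _ = _ := by group
    rw [hfiber, Finset.card_image_of_injective _ hφ, Finset.card_univ, Nat.card_eq_fintype_card]
  have hleft : ∑ p : K × C, h ((F p : L) * y) = (Nat.card C : ℂ) * ∑ n : K, h (n * y) := by
    have h1 : ∑ p : K × C, h ((F p : L) * y) = ∑ n : K, ∑ p ∈ Finset.univ.filter (fun p : K × C => F p = n), h ((F p : L) * y) :=
      (Finset.sum_fiberwise Finset.univ F _).symm
    rw [h1, Finset.mul_sum]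
    apply Finset.sum_congr rfl
    intro n _
    have h2 : ∀ p ∈ Finset.univ.filter (fun p : K × C => F p = n), h ((F p : L) * y) = h ((n : L) * y) := by
      intro p hp
      rw [(Finset.mem_filter.mp hp).2]
    rw [Finset.sum_congr rfl h2, Finset.sum_const, hfib n, nsmul_eq_mul]
  have hright : ∑ p : K × C, h ((F p : L) * y) = (Nat.card K : ℂ) * ∑ c : C, h (c * y) := by
    rw [Fintype.sum_prod_type]
    have h2 : ∀ x : K, ∑ c : C, h ((F (x, c) : L) * y) = ∑ c : C, h (c * y) := by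
      intro x
      apply Finset.sum_congr rfl
      intro c _
      rw [hF (x, c)]
      exact hh _ _
    rw [Finset.sum_congr rfl (fun x _ => h2 x), Finset.sum_const, Finset.card_univ, nsmul_eq_mul, Nat.card_eq_fintype_card]
  rw [← hleft, hright]

end Fusion2


section CosetInner

variable {L : Type u} [Group L] [Fintype L] {K : Subgroup L} [hK : K.Normal]

theorem coset_inner [Fintype K] (y : L)
    (hcop : (Nat.card (Subgroup.zpowers y)).Coprime (Nat.card K))
    (C : Subgroup L) [Fintype C] (hC : C = K ⊓ Subgroup.centralizer {y})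
    {χ ψ : L → ℂ} (hχ : IsIrrCharacter L χ) (hχK : IsIrrCharacter K (fun n : K => χ n))
    (hψ : IsIrrCharacter L ψ) :
    (ψ = χ → classInner (fun c : C => ψ (c * y)) (fun c : C => χ (c * y)) = 1) ∧
      (classInner (fun n : K => ψ n) (fun n : K => χ n) = 0 →
        classInner (fun c : C => ψ (c * y)) (fun c : C => χ (c * y)) = 0) := by
  have hcls : ∀ (a : L → ℂ), IsClassFunction L a → ∀ g z, a (z * g * z⁻¹) = a g := fun a ha g z => ha g z
  have hh : ∀ g z, (fun g => ψ g * conj (χ g)) (z * g * z⁻¹) = (fun g => ψ g * conj (χ g)) g := by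
    intro g z
    show ψ (z * g * z⁻¹) * conj (χ (z * g * z⁻¹)) = ψ g * conj (χ g)
    rw [hcls ψ (classFunction_of_isIrrCharacter hψ), hcls χ (classFunction_of_isIrrCharacter hχ)]
  have hf := fusion_sum y hcop C hC (fun g => ψ g * conj (χ g)) hh
  have hs := s0868 K χ hχ hχK ψ hψ _ rfl
  have hC0 : (Nat.card C : ℂ) ≠ 0 := by exact_mod_cast Nat.card_pos.ne'
  have hK0 : (Nat.card K : ℂ) ≠ 0 := by exact_mod_cast Nat.card_pos.ne'
  have key : classInner (fun c : C => ψ (c * y)) (fun c : C => χ (c * y)) =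
      (Nat.card K : ℂ)⁻¹ * ∑ n : K, ψ ((n : L) * y) * conj (χ ((n : L) * y)) := by
    simp only [classInner]
    field_simp
    linear_combination -hf
  constructor
  · intro h
    rw [key]
    have h1 := congrFun (hs.2.2 h) y
    exact h1
  · intro h
    rw [key]
    have h1 := congrFun (hs.2.1 h) y
    exact h1

end CosetInner

section Eigen

variable {V : Type v} [AddCommGroup V] [Module ℂ V] [FiniteDimensional ℂ V]

theorem trace_restrict_idem (e A : V →ₗ[ℂ] V) (he : e ∘ₗ e = e) (hAe : A ∘ₗ e = e ∘ₗ A)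
    (hW : ∀ v ∈ LinearMap.range e, A v ∈ LinearMap.range e) :
    LinearMap.trace ℂ (LinearMap.range e) (A.restrict hW) = LinearMap.trace ℂ V (A ∘ₗ e) := by
  have h1 : A ∘ₗ e = (A ∘ₗ (LinearMap.range e).subtype) ∘ₗ e.rangeRestrict := by
    refine LinearMap.ext fun v => ?_
    rfl
  rw [h1, LinearMap.trace_comp_comm']
  congr 1
  refine LinearMap.ext fun w => ?_
  apply Subtype.ext
  obtain ⟨v, hv⟩ := w.2
  show A w = e (A w)
  have h2 : e (w : V) = w := by
    rw [← hv]
    exact LinearMap.congr_fun he v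
  have h3 : A (e w) = e (A w) := LinearMap.congr_fun hAe w
  rw [← h3, h2]

theorem sum_pow_eq_zero_of_ne {w : ℂ} {n : ℕ} (hw : w ^ n = 1) (h1 : w ≠ 1) : ∑ k ∈ Finset.range n, w ^ k = 0 := by
  have h2 := mul_neg_geom_sum w n
  rw [hw, sub_self] at h2
  have h3 : 1 - w ≠ 0 := sub_ne_zero.mpr (Ne.symm h1)
  exact (mul_eq_zero.mp h2).resolve_left h3

theorem eigen_decomp {C : Type u} [Group C] [Fintype C] (r : Representation ℂ C V) (T : V →ₗ[ℂ] V)
    (hT : ∀ c, T ∘ₗ r c = r c ∘ₗ T) (n : ℕ) (hn : n ≠ 0) (hTn : T ^ n = 1) (ζ : ℂ) (hζ : IsPrimitiveRoot ζ n) :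
    ∃ χ : Fin n → C → ℂ, (∀ j, IsCharacter C (χ j)) ∧
      ∀ (k : ℕ) (c : C), LinearMap.trace ℂ V (r c ∘ₗ T ^ k) = ∑ j : Fin n, ζ ^ ((j : ℕ) * k) * χ j c := by
  classical
  have hζ0 : ζ ≠ 0 := hζ.ne_zero hn
  have hn0 : (n : ℂ) ≠ 0 := by exact_mod_cast hn
  let e : Fin n → (V →ₗ[ℂ] V) := fun j => (n : ℂ)⁻¹ • ∑ k ∈ Finset.range n, ((ζ ^ (j : ℕ))⁻¹) ^ k • T ^ k
  have hTe : ∀ j, T ∘ₗ e j = ζ ^ (j : ℕ) • e j := by
    intro j
    set w := (ζ ^ (j : ℕ))⁻¹ with hw
    have hwn : w ^ n = 1 := by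
      rw [hw, inv_pow, ← pow_mul, mul_comm, pow_mul, hζ.pow_eq_one, one_pow, inv_one]
    have hww : ζ ^ (j : ℕ) * w = 1 := by
      rw [hw]; exact mul_inv_cancel₀ (pow_ne_zero _ hζ0)
    have hshift : ∑ k ∈ Finset.range n, w ^ (k + 1) • T ^ (k + 1) = ∑ k ∈ Finset.range n, w ^ k • T ^ k := by
      have h1 := Finset.sum_range_succ (fun k => w ^ k • T ^ k) n
      have h2 := Finset.sum_range_succ' (fun k => w ^ k • T ^ k) n
      rw [h1] at h2
      simp only [hwn, hTn, pow_zero, one_smul] at h2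
      exact (add_right_cancel h2).symm
    show T * ((n : ℂ)⁻¹ • ∑ k ∈ Finset.range n, w ^ k • T ^ k) = ζ ^ (j : ℕ) • ((n : ℂ)⁻¹ • ∑ k ∈ Finset.range n, w ^ k • T ^ k)
    rw [mul_smul_comm, Finset.mul_sum, smul_comm]
    congr 1
    rw [← hshift, Finset.smul_sum]
    apply Finset.sum_congr rfl
    intro k _
    have hc : ζ ^ (j : ℕ) * w ^ (k + 1) = w ^ k := by
      calc _ = (ζ ^ (j : ℕ) * w) * w ^ k := by ring
        _ = _ := by rw [hww, one_mul]
    rw [mul_smul_comm, smul_smul, hc, pow_succ' T]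
  have hTke : ∀ j (k : ℕ), T ^ k * e j = ζ ^ ((j : ℕ) * k) • e j := by
    intro j k
    induction k with
    | zero => simp
    | succ k ih =>
      have h1 : T * e j = ζ ^ (j : ℕ) • e j := hTe j
      rw [pow_succ, mul_assoc, h1, mul_smul_comm, ih, smul_smul, mul_add, mul_one, pow_add, mul_comm]
  have hsum : ∑ j, e j = 1 := by
    have h1 : ∑ j, e j = (n : ℂ)⁻¹ • ∑ k ∈ Finset.range n, (∑ j : Fin n, ((ζ ^ (j : ℕ))⁻¹) ^ k) • T ^ k := by
      simp only [e, ← Finset.smul_sum, Finset.sum_smul]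
      rw [Finset.sum_comm]
    rw [h1]
    have h2 : ∀ k ∈ Finset.range n, (∑ j : Fin n, ((ζ ^ (j : ℕ))⁻¹) ^ k) • T ^ k = if k = 0 then (n : ℂ) • (1 : V →ₗ[ℂ] V) else 0 := by
      intro k hk
      by_cases hk0 : k = 0
      · subst hk0
        simp
      · rw [if_neg hk0]
        have h3 : ∑ j : Fin n, ((ζ ^ (j : ℕ))⁻¹) ^ k = ∑ j ∈ Finset.range n, ((ζ ^ k)⁻¹) ^ j := by
          rw [← Fin.sum_univ_eq_sum_range (fun j => ((ζ ^ k)⁻¹) ^ j) n]
          apply Finset.sum_congr rfl
          intro j _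
          rw [inv_pow, inv_pow, ← pow_mul, ← pow_mul, mul_comm]
        have h4 : ((ζ ^ k)⁻¹) ^ n = 1 := by
          rw [inv_pow, ← pow_mul, mul_comm, pow_mul, hζ.pow_eq_one, one_pow, inv_one]
        have h5 : (ζ ^ k)⁻¹ ≠ 1 := by
          intro h6
          have h7 : ζ ^ k = 1 := by rwa [inv_eq_one] at h6
          have h8 := hζ.dvd_of_pow_eq_one k h7
          have h9 : k < n := Finset.mem_range.mp hk
          exact hk0 (Nat.eq_zero_of_dvd_of_lt h8 h9)
        rw [h3, sum_pow_eq_zero_of_ne h4 h5, zero_smul]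
    rw [Finset.sum_congr rfl h2, Finset.sum_ite_eq']
    rw [if_pos (Finset.mem_range.mpr (Nat.pos_of_ne_zero hn)), smul_smul, inv_mul_cancel₀ hn0, one_smul]
  have hidem : ∀ j, e j ∘ₗ e j = e j := by
    intro j
    show e j * e j = e j
    have h1 : e j * e j = (n : ℂ)⁻¹ • ∑ k ∈ Finset.range n, ((ζ ^ (j : ℕ))⁻¹) ^ k • (T ^ k * e j) := by
      show ((n : ℂ)⁻¹ • ∑ k ∈ Finset.range n, ((ζ ^ (j : ℕ))⁻¹) ^ k • T ^ k) * e j = _
      rw [smul_mul_assoc, Finset.sum_mul]
      simp only [smul_mul_assoc]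
    rw [h1]
    have h2 : ∀ k ∈ Finset.range n, ((ζ ^ (j : ℕ))⁻¹) ^ k • (T ^ k * e j) = e j := by
      intro k _
      rw [hTke, smul_smul, inv_pow, ← pow_mul, inv_mul_cancel₀ (pow_ne_zero _ hζ0), one_smul]
    rw [Finset.sum_congr rfl h2, Finset.sum_const, Finset.card_range, ← Nat.cast_smul_eq_nsmul ℂ, smul_smul, inv_mul_cancel₀ hn0, one_smul]
  have hcomm : ∀ j c, r c ∘ₗ e j = e j ∘ₗ r c := by
    intro j c
    have hTk : ∀ k : ℕ, r c * T ^ k = T ^ k * r c := by
      intro k
      induction k with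
      | zero => simp
      | succ k ih =>
        have h3 : T * r c = r c * T := hT c
        rw [pow_succ, ← mul_assoc, ih, mul_assoc, ← h3, ← mul_assoc]
    show r c * e j = e j * r c
    show r c * ((n : ℂ)⁻¹ • ∑ k ∈ Finset.range n, ((ζ ^ (j : ℕ))⁻¹) ^ k • T ^ k) = ((n : ℂ)⁻¹ • ∑ k ∈ Finset.range n, ((ζ ^ (j : ℕ))⁻¹) ^ k • T ^ k) * r c
    rw [mul_smul_comm, smul_mul_assoc, Finset.mul_sum, Finset.sum_mul]
    congr 1
    apply Finset.sum_congr rfl
    intro k _
    rw [mul_smul_comm, smul_mul_assoc, hTk]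
  have hinv : ∀ j c, ∀ v ∈ LinearMap.range (e j), r c v ∈ LinearMap.range (e j) := by
    rintro j c _ ⟨v, rfl⟩
    exact ⟨r c v, (LinearMap.congr_fun (hcomm j c) v).symm⟩
  let U : ∀ j, Subrepresentation r := fun j => ⟨LinearMap.range (e j), fun c v hv => hinv j c v hv⟩
  refine ⟨fun j => (U j).toRepresentation.character, fun j => isCharacter_character _, ?_⟩
  intro k c
  have hUj : ∀ j, (U j).toRepresentation.character c = LinearMap.trace ℂ V (r c ∘ₗ e j) := by
    intro j
    exact trace_restrict_idem (e j) (r c) (hidem j) (hcomm j c) (hinv j c)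
  simp only [hUj]
  have h1 : r c ∘ₗ T ^ k = ∑ j, (r c ∘ₗ (T ^ k * e j)) := by
    show r c * T ^ k = ∑ j, (r c * (T ^ k * e j))
    rw [← Finset.mul_sum, ← Finset.mul_sum, hsum, mul_one]
  rw [h1, map_sum]
  apply Finset.sum_congr rfl
  intro j _
  rw [hTke, LinearMap.comp_smul, map_smul, smul_eq_mul]

end Eigen


section Comb

variable {ι : Type*} [Fintype ι] [DecidableEq ι]

/-- The deviation of an integer vector. -/
def devQ (a : ι → ℤ) : ℤ := (Fintype.card ι : ℤ) * ∑ j, a j ^ 2 - (∑ j, a j) ^ 2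

theorem two_devQ (a : ι → ℤ) : 2 * devQ a = ∑ i, ∑ j, (a i - a j) ^ 2 := by
  have h1 : ∀ i j, (a i - a j) ^ 2 = a i ^ 2 - 2 * (a i * a j) + a j ^ 2 := fun i j => by ring
  simp only [h1, Finset.sum_add_distrib, Finset.sum_sub_distrib, Finset.sum_const, Finset.card_univ, nsmul_eq_mul,
    ← Finset.mul_sum]
  simp only [devQ, Finset.sum_mul_sum, sq (∑ j, a j), ← Finset.mul_sum, Finset.sum_const, Finset.card_univ, nsmul_eq_mul]
  ring

theorem devQ_nonneg (a : ι → ℤ) : 0 ≤ devQ a := by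
  have h := two_devQ a
  have h2 : 0 ≤ ∑ i, ∑ j, (a i - a j) ^ 2 :=
    Finset.sum_nonneg fun i _ => Finset.sum_nonneg fun j _ => sq_nonneg _
  linarith

theorem devQ_eq_zero (a : ι → ℤ) (h : devQ a = 0) (i j : ι) : a i = a j := by
  have h1 := two_devQ a
  rw [h, mul_zero] at h1
  have h2 := (Finset.sum_eq_zero_iff_of_nonneg (fun i _ => Finset.sum_nonneg fun j _ => sq_nonneg (a i - a j))).mp h1.symm i (Finset.mem_univ _)
  have h3 := (Finset.sum_eq_zero_iff_of_nonneg (fun j _ => sq_nonneg (a i - a j))).mp h2 j (Finset.mem_univ _)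
  have h4 : a i - a j = 0 := by
    exact pow_eq_zero_iff (two_ne_zero) |>.mp h3
  linarith

theorem devQ_struct (a : ι → ℤ) (hne : ∃ i j, a i ≠ a j) :
    (Fintype.card ι : ℤ) - 1 ≤ devQ a ∧ (devQ a = (Fintype.card ι : ℤ) - 1 →
      ∃ (t : ι) (ε b : ℤ), (ε = 1 ∨ ε = -1) ∧ ∀ j, a j = b + if j = t then ε else 0) := by
  classical
  obtain ⟨i₁, i₂, hi⟩ := hne
  have hnon : (Finset.univ : Finset ι).Nonempty := ⟨i₁, Finset.mem_univ _⟩
  obtain ⟨i₀, -, hmin⟩ := Finset.exists_min_image Finset.univ a hnon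
  set m := a i₀ with hm
  have hmin' : ∀ j, m ≤ a j := fun j => hmin j (Finset.mem_univ _)
  let u : ι → ℤ := fun j => if m < a j then 1 else 0
  set S : Finset ι := Finset.univ.filter (fun j => m < a j) with hS
  set r : ℤ := (S.card : ℤ) with hr
  set p : ℤ := (Fintype.card ι : ℤ) with hp
  have hsu : ∑ j, u j = r := by
    simp only [u, Finset.sum_boole, hr, hS]
  have hsu2 : ∑ j, u j ^ 2 = r := by
    rw [← hsu]
    apply Finset.sum_congr rfl
    intro j _
    simp only [u]
    split_ifs <;> norm_num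
  have hdu : devQ u = p * r - r ^ 2 := by
    simp only [devQ, hsu, hsu2, hp]
  have hr1 : 1 ≤ r := by
    have h0 : 0 < S.card := by
      rw [Finset.card_pos]
      by_cases h1 : m < a i₁
      · exact ⟨i₁, by simp [hS, h1]⟩
      · have h2 : a i₁ = m := le_antisymm (not_lt.mp h1) (hmin' _)
        have h3 : m < a i₂ := lt_of_le_of_ne (hmin' _) (by rw [← h2]; exact hi)
        exact ⟨i₂, by simp [hS, h3]⟩
    rw [hr]
    exact_mod_cast h0
  have hrp : r ≤ p - 1 := by
    have h0 : S.card < Fintype.card ι := by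
      apply Finset.card_lt_univ_of_notMem (x := i₀)
      simp [hS, hm]
    rw [hr, hp]
    have : (S.card : ℤ) < (Fintype.card ι : ℤ) := by exact_mod_cast h0
    linarith
  have hpt : ∀ i j, (u i - u j) ^ 2 ≤ (a i - a j) ^ 2 := by
    intro i j
    by_cases h1 : m < a i <;> by_cases h2 : m < a j <;> simp only [u, h1, h2, if_true, if_false] <;> try positivity
    · have : a j = m := le_antisymm (not_lt.mp h2) (hmin' _)
      nlinarith
    · have : a i = m := le_antisymm (not_lt.mp h1) (hmin' _)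
      nlinarith
  have hle : devQ u ≤ devQ a := by
    have h1 := two_devQ u
    have h2 := two_devQ a
    have h3 : ∑ i, ∑ j, (u i - u j) ^ 2 ≤ ∑ i, ∑ j, (a i - a j) ^ 2 :=
      Finset.sum_le_sum fun i _ => Finset.sum_le_sum fun j _ => hpt i j
    linarith
  have hprod : 0 ≤ (r - 1) * (p - 1 - r) := mul_nonneg (by linarith) (by linarith)
  have hge : p - 1 ≤ devQ u := by
    rw [hdu]
    nlinarith
  refine ⟨le_trans hge hle, fun heq => ?_⟩
  have hdeq : devQ u = p - 1 := le_antisymm (by linarith) hge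
  have h0 : ∑ i, ∑ j, ((a i - a j) ^ 2 - (u i - u j) ^ 2) = 0 := by
    have h1 := two_devQ u
    have h2 := two_devQ a
    simp only [Finset.sum_sub_distrib]
    rw [← h1, ← h2, heq, hdeq]
    ring
  have hall : ∀ i j, (a i - a j) ^ 2 = (u i - u j) ^ 2 := by
    intro i j
    have h2 := (Finset.sum_eq_zero_iff_of_nonneg (fun i _ => Finset.sum_nonneg fun j _ => sub_nonneg.mpr (hpt i j))).mp h0 i (Finset.mem_univ _)
    have h3 := (Finset.sum_eq_zero_iff_of_nonneg (fun j _ => sub_nonneg.mpr (hpt i j))).mp h2 j (Finset.mem_univ _)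
    linarith
  have htop : ∀ i, m < a i → a i = m + 1 := by
    intro i hi
    have h1 := hall i i₀
    have h2 : u i = 1 := by simp [u, hi]
    have h3 : u i₀ = 0 := by simp [u, hm]
    rw [h2, h3] at h1
    have h4 : a i - m = 1 := by
      have h5 : 0 < a i - m := by linarith
      nlinarith
    linarith
  have hbot : ∀ i, ¬ m < a i → a i = m := fun i hi => le_antisymm (not_lt.mp hi) (hmin' _)
  have hcase : r = 1 ∨ r = p - 1 := by
    have h1 : (r - 1) * (p - 1 - r) = 0 := by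
      have : devQ u = p * r - r ^ 2 := hdu
      nlinarith
    rcases mul_eq_zero.mp h1 with h | h
    · left; linarith
    · right; linarith
  rcases hcase with h | h
  · have hc : S.card = 1 := by
      rw [hr] at h
      exact_mod_cast h
    obtain ⟨t, ht⟩ := Finset.card_eq_one.mp hc
    refine ⟨t, 1, m, Or.inl rfl, fun j => ?_⟩
    by_cases hj : j = t
    · subst hj
      have : m < a j := by
        have h5 : j ∈ S := by rw [ht]; simp
        exact (Finset.mem_filter.mp h5).2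
      rw [if_pos rfl]
      exact htop j this
    · rw [if_neg hj, add_zero]
      apply hbot
      intro h5
      have h6 : j ∈ S := Finset.mem_filter.mpr ⟨Finset.mem_univ _, h5⟩
      rw [ht] at h6
      exact hj (Finset.mem_singleton.mp h6)
  · have hc : (Sᶜ).card = 1 := by
      have h5 := Finset.card_add_card_compl S
      have h6 : (S.card : ℤ) + ((Sᶜ).card : ℤ) = p := by
        rw [hp]
        exact_mod_cast h5
      have h7 : ((Sᶜ).card : ℤ) = 1 := by linarith
      exact_mod_cast h7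
    obtain ⟨t, ht⟩ := Finset.card_eq_one.mp hc
    refine ⟨t, -1, m + 1, Or.inr rfl, fun j => ?_⟩
    by_cases hj : j = t
    · subst hj
      rw [if_pos rfl]
      have h5 : j ∈ Sᶜ := by rw [ht]; simp
      have h6 : ¬ m < a j := by
        intro h7
        exact (Finset.mem_compl.mp h5) (Finset.mem_filter.mpr ⟨Finset.mem_univ _, h7⟩)
      rw [hbot j h6]
      ring
    · rw [if_neg hj, add_zero]
      apply htop
      by_contra h5
      have h6 : j ∈ Sᶜ := Finset.mem_compl.mpr fun h7 => h5 (Finset.mem_filter.mp h7).2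
      rw [ht] at h6
      exact hj (Finset.mem_singleton.mp h6)

end Comb

section Parseval

variable {G : Type u} [Group G] [Fintype G]

/-- Parseval for combinations of irreducible characters. -/
theorem parseval (c : IrrCharacter G → ℂ) :
    classInner (∑ β : IrrCharacter G, c β • (β : G → ℂ)) (∑ β : IrrCharacter G, c β • (β : G → ℂ)) =
      ∑ β : IrrCharacter G, c β * conj (c β) := by
  classical
  rw [classInner_sum_left]
  apply Finset.sum_congr rfl
  intro β _
  rw [classInner_smul_left, classInner_sum_right]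
  rw [Finset.sum_eq_single β]
  · rw [classInner_smul_right, classInner_irr_self β.2, mul_one]
  · intro β' _ hne
    rw [classInner_smul_right, classInner_irr β.2 β'.2, if_neg, mul_zero]
    intro h
    exact hne (Subtype.ext h.symm)
  · simp

/-- The discrete Parseval identity at a primitive root. -/
theorem discrete_parseval {p : ℕ} (hp : p ≠ 0) {ζ : ℂ} (hζ : IsPrimitiveRoot ζ p) (a : Fin p → ℂ) :
    ∑ k ∈ Finset.range p, (∑ j : Fin p, ζ ^ ((j : ℕ) * k) * a j) * conj (∑ j : Fin p, ζ ^ ((j : ℕ) * k) * a j) =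
      (p : ℂ) * ∑ j : Fin p, a j * conj (a j) := by
  classical
  have hζ0 : ζ ≠ 0 := hζ.ne_zero hp
  have hnorm : ζ * conj ζ = 1 := by
    rw [Complex.mul_conj, Complex.normSq_eq_norm_sq, hζ.norm'_eq_one hp]
    simp
  simp only [map_sum, map_mul, map_pow, Finset.sum_mul, Finset.mul_sum]
  have h1 : ∀ k ∈ Finset.range p, ∑ i : Fin p, ∑ j : Fin p, ζ ^ ((j : ℕ) * k) * a j * (conj ζ ^ ((i : ℕ) * k) * conj (a i)) =
      ∑ i : Fin p, ∑ j : Fin p, (ζ ^ (j : ℕ) * conj ζ ^ (i : ℕ)) ^ k * (a j * conj (a i)) := by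
    intro k _
    apply Finset.sum_congr rfl
    intro i _
    apply Finset.sum_congr rfl
    intro j _
    rw [mul_pow, ← pow_mul, ← pow_mul]
    ring
  rw [Finset.sum_congr rfl h1, Finset.sum_comm]
  apply Finset.sum_congr rfl
  intro i _
  rw [Finset.sum_comm]
  rw [Finset.sum_eq_single i]
  · have h2 : ∀ k ∈ Finset.range p, (ζ ^ (i : ℕ) * conj ζ ^ (i : ℕ)) ^ k * (a i * conj (a i)) = a i * conj (a i) := by
      intro k _
      rw [← mul_pow, hnorm]
      simp
    rw [Finset.sum_congr rfl h2, Finset.sum_const, Finset.card_range, nsmul_eq_mul]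
  · intro j _ hj
    rw [← Finset.sum_mul]
    have h3 : (ζ ^ (j : ℕ) * conj ζ ^ (i : ℕ)) ^ p = 1 := by
      rw [mul_pow, ← pow_mul, ← pow_mul, mul_comm (j : ℕ), mul_comm (i : ℕ), pow_mul, pow_mul, hζ.pow_eq_one]
      have : conj ζ ^ p = 1 := by
        rw [← map_pow, hζ.pow_eq_one, map_one]
      rw [this]
      simp
    have h4 : ζ ^ (j : ℕ) * conj ζ ^ (i : ℕ) ≠ 1 := by
      intro h5
      have h6 : conj ζ = ζ⁻¹ := by
        field_simp
        rw [mul_comm]
        exact hnorm.symm ▸ rfl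
      rw [h6, inv_pow] at h5
      have h7 : ζ ^ (j : ℕ) = ζ ^ (i : ℕ) := by
        field_simp at h5
        exact h5
      exact hj (Fin.ext (hζ.pow_inj j.2 i.2 h7))
    rw [sum_pow_eq_zero_of_ne h3 h4, zero_mul]
  · simp

end Parseval


section Core

variable {L : Type u} [Group L] [Fintype L] {K : Subgroup L} [hK : K.Normal]

theorem centralizer_pow_eq {x : L} {p k : ℕ} (hx : orderOf x = p) (hp : p.Prime) (hk : ¬ p ∣ k) :
    Subgroup.centralizer {x ^ k} = Subgroup.centralizer {x} := by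
  have hc : Nat.Coprime k p := (Nat.Prime.coprime_iff_not_dvd hp).mpr hk |>.symm
  ext g
  simp only [Subgroup.mem_centralizer_singleton_iff]
  constructor
  · intro h
    have h1 : Commute g (x ^ k) := h
    obtain ⟨l, -, hl⟩ := Nat.exists_mul_mod_eq_one_of_coprime hc hp.one_lt
    have h2 : x = (x ^ k) ^ l := by
      rw [← pow_mul]
      have : x ^ (k * l) = x ^ (k * l % p) := by rw [← hx, pow_mod_orderOf]
      rw [this, hl, pow_one]
    have h3 : Commute g x := by
      rw [h2]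
      exact h1.pow_right l
    exact h3
  · intro h
    have h1 : Commute g x := h
    exact h1.pow_right k

theorem coeff_inner {G : Type u} [Group G] [Fintype G] (c : IrrCharacter G → ℂ) (β' : IrrCharacter G) :
    classInner (∑ β : IrrCharacter G, c β • (β : G → ℂ)) (β' : G → ℂ) = c β' := by
  classical
  rw [classInner_sum_left, Finset.sum_eq_single β']
  · rw [classInner_smul_left, classInner_irr_self β'.2, mul_one]
  · intro β _ hne
    rw [classInner_smul_left, classInner_irr β.2 β'.2, if_neg, mul_zero]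
    intro h
    exact hne (Subtype.ext h)
  · simp

theorem devQ_of_const {ι : Type*} [Fintype ι] [DecidableEq ι] (a : ι → ℤ) (h : ∀ i j, a i = a j) : devQ a = 0 := by
  have h1 := two_devQ a
  have h2 : ∑ i, ∑ j, (a i - a j) ^ 2 = 0 :=
    Finset.sum_eq_zero fun i _ => Finset.sum_eq_zero fun j _ => by rw [h i j]; simp
  rw [h2] at h1
  linarith

open Classical in
theorem core_prime [Fintype K] (x : L) (p : ℕ) (hp : p.Prime) (hx : orderOf x = p) (hcop : ¬ p ∣ Nat.card K)
    (C : Subgroup L) [Fintype C] (hC : C = K ⊓ Subgroup.centralizer {x})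
    {χ : L → ℂ} (hχ : IsIrrCharacter L χ) (hχK : IsIrrCharacter K (fun n : K => χ n)) :
    ∃ (β : IrrCharacter C) (ε : ℤ) (ω : ℂ), (ε = 1 ∨ ε = -1) ∧ ω ^ p = 1 ∧
      (∀ c : C, χ ((c : L) * x) = (ε : ℂ) * ω * (β : C → ℂ) c) ∧
      ∀ β' : IrrCharacter C, ∃ b : ℤ,
        classInner (fun c : C => χ c) (β' : C → ℂ) = ((p * b + if β' = β then ε else 0 : ℤ) : ℂ) := by
  obtain ⟨n, r, hr, rfl⟩ := id hχ
  have hp0 : p ≠ 0 := hp.ne_zero
  have hCc : ∀ c : C, Commute (c : L) x := by
    have h0 : ∀ g ∈ C, Commute g x := by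
      intro g hg
      rw [hC] at hg
      exact Subgroup.mem_centralizer_singleton_iff.mp hg.2
    exact fun c => h0 c c.2
  let T : (Fin n → ℂ) →ₗ[ℂ] (Fin n → ℂ) := r x
  let rC : Representation ℂ C (Fin n → ℂ) := r.comp C.subtype
  have hT : ∀ c, T ∘ₗ rC c = rC c ∘ₗ T := by
    intro c
    show r x * r c = r c * r x
    rw [← map_mul, ← map_mul, (hCc c).eq]
  have hTn : T ^ p = 1 := by
    show (r x) ^ p = 1
    rw [← map_pow, ← hx, pow_orderOf_eq_one, map_one]
  let ζ : ℂ := Complex.exp (2 * Real.pi * Complex.I / p)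
  have hζ : IsPrimitiveRoot ζ p := Complex.isPrimitiveRoot_exp p hp0
  obtain ⟨X, hX, hXt⟩ := eigen_decomp rC T hT p hp0 hTn ζ hζ
  have hval : ∀ (k : ℕ) (c : C), r.character ((c : L) * x ^ k) = ∑ j : Fin p, ζ ^ ((j : ℕ) * k) * X j c := by
    intro k c
    rw [← hXt k c]
    show LinearMap.trace ℂ _ (r ((c : L) * x ^ k)) = LinearMap.trace ℂ _ (r c * (r x) ^ k)
    rw [map_mul, map_pow]
  choose a ha using fun j => IsCharacter.exists_nat_coeff (hX j)
  let A : IrrCharacter C → Fin p → ℤ := fun β j => (a j β : ℤ)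
  let cf : ℕ → IrrCharacter C → ℂ := fun k β => ∑ j : Fin p, ζ ^ ((j : ℕ) * k) * ((A β j : ℤ) : ℂ)
  have hf : ∀ k : ℕ, (fun c : C => r.character ((c : L) * x ^ k)) = ∑ β : IrrCharacter C, cf k β • (β : C → ℂ) := by
    intro k
    funext c
    rw [hval k c]
    simp only [Finset.sum_apply, Pi.smul_apply, smul_eq_mul, cf, Finset.sum_mul]
    rw [Finset.sum_comm]
    apply Finset.sum_congr rfl
    intro j _
    rw [congrFun (ha j) c]
    simp only [Finset.sum_apply, Pi.smul_apply, smul_eq_mul, Finset.mul_sum, A]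
    apply Finset.sum_congr rfl
    intro β _
    push_cast
    ring
  have hnorm1 : ∀ k ∈ (Finset.range p).erase 0, ∑ β : IrrCharacter C, cf k β * conj (cf k β) = 1 := by
    intro k hk
    have hk0 : k ≠ 0 := (Finset.mem_erase.mp hk).1
    have hkp : k < p := Finset.mem_range.mp (Finset.mem_erase.mp hk).2
    have hkd : ¬ p ∣ k := fun h => hk0 (Nat.eq_zero_of_dvd_of_lt h hkp)
    rw [← parseval, ← hf k]
    have hcop' : (Nat.card (Subgroup.zpowers (x ^ k))).Coprime (Nat.card K) := by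
      rw [Nat.card_zpowers]
      have h1 : orderOf (x ^ k) ∣ p := by
        rw [← hx]
        exact orderOf_pow_dvd k
      rcases (Nat.dvd_prime hp).mp h1 with h2 | h2
      · rw [h2]
        exact Nat.coprime_one_left _
      · rw [h2]
        exact (Nat.Prime.coprime_iff_not_dvd hp).mpr hcop
    have hC' : C = K ⊓ Subgroup.centralizer {x ^ k} := by
      rw [centralizer_pow_eq hx hp hkd]
      exact hC
    exact (coset_inner (x ^ k) hcop' C hC' hχ hχK hχ).1 rfl
  have hsum0 : ∑ k ∈ Finset.range p, ∑ β : IrrCharacter C, cf k β * conj (cf k β) =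
      ∑ β : IrrCharacter C, (p : ℂ) * ∑ j : Fin p, ((A β j : ℤ) : ℂ) * conj ((A β j : ℤ) : ℂ) := by
    rw [Finset.sum_comm]
    apply Finset.sum_congr rfl
    intro β _
    exact discrete_parseval hp0 hζ (fun j => ((A β j : ℤ) : ℂ))
  have hcf0 : ∀ β, cf 0 β = ((∑ j, A β j : ℤ) : ℂ) := by
    intro β
    simp only [cf, mul_zero, pow_zero, one_mul]
    push_cast
    rfl
  have hsplit : ∑ k ∈ Finset.range p, ∑ β : IrrCharacter C, cf k β * conj (cf k β) =
      ∑ β : IrrCharacter C, ((∑ j, A β j : ℤ) : ℂ) ^ 2 + ((p : ℂ) - 1) := by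
    rw [← Finset.add_sum_erase _ _ (Finset.mem_range.mpr hp.pos), Finset.sum_congr rfl hnorm1, Finset.sum_const,
      Finset.card_erase_of_mem (Finset.mem_range.mpr hp.pos), Finset.card_range, nsmul_eq_mul, mul_one]
    congr 1
    · apply Finset.sum_congr rfl
      intro β _
      rw [hcf0, map_intCast, sq]
    · rw [Nat.cast_sub hp.one_lt.le]
      simp
  have hQ : ∑ β : IrrCharacter C, devQ (A β) = (p : ℤ) - 1 := by
    have h1 : ((∑ β : IrrCharacter C, devQ (A β) : ℤ) : ℂ) = (((p : ℤ) - 1 : ℤ) : ℂ) := by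
      push_cast
      simp only [devQ, Fintype.card_fin]
      push_cast
      have h2 := hsplit.symm.trans hsum0
      simp only [map_intCast, ← sq] at h2
      push_cast at h2
      rw [Finset.sum_sub_distrib]
      linear_combination -h2
    exact_mod_cast h1
  have hp1 : (1 : ℤ) ≤ (p : ℤ) - 1 := by
    have := hp.two_le
    have h2 : (2 : ℤ) ≤ (p : ℤ) := by exact_mod_cast this
    linarith
  -- a nonconstant coordinate
  obtain ⟨β₀, hβ₀⟩ : ∃ β, ∃ i j, A β i ≠ A β j := by
    by_contra hno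
    push Not at hno
    have h1 : ∑ β : IrrCharacter C, devQ (A β) = 0 :=
      Finset.sum_eq_zero fun β _ => devQ_of_const _ (hno β)
    rw [h1] at hQ
    linarith
  have hs := devQ_struct (A β₀) hβ₀
  rw [Fintype.card_fin] at hs
  have hrest := Finset.add_sum_erase (Finset.univ : Finset (IrrCharacter C)) (fun β => devQ (A β)) (Finset.mem_univ β₀)
  have hrest0 : 0 ≤ ∑ β ∈ (Finset.univ : Finset (IrrCharacter C)).erase β₀, devQ (A β) :=
    Finset.sum_nonneg fun β _ => devQ_nonneg _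
  have hQ0 : devQ (A β₀) = (p : ℤ) - 1 := by
    have := hs.1
    linarith
  have hrestz : ∑ β ∈ (Finset.univ : Finset (IrrCharacter C)).erase β₀, devQ (A β) = 0 := by
    linarith
  have hother : ∀ β, β ≠ β₀ → ∀ i j, A β i = A β j := by
    intro β hβ i j
    have h1 := (Finset.sum_eq_zero_iff_of_nonneg (fun β _ => devQ_nonneg (A β))).mp hrestz β (Finset.mem_erase.mpr ⟨hβ, Finset.mem_univ _⟩)
    exact devQ_eq_zero _ h1 i j
  obtain ⟨t, ε, b, hε, hab⟩ := hs.2 hQ0
  have hgeom : ∑ j : Fin p, ζ ^ (j : ℕ) = 0 := by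
    rw [Fin.sum_univ_eq_sum_range (fun j => ζ ^ j) p]
    exact hζ.geom_sum_eq_zero hp.one_lt
  let j₀ : Fin p := ⟨0, hp.pos⟩
  have hcf1 : ∀ β, cf 1 β = if β = β₀ then (ε : ℂ) * ζ ^ (t : ℕ) else 0 := by
    intro β
    by_cases hβ : β = β₀
    · subst hβ
      rw [if_pos rfl]
      simp only [cf, mul_one]
      have h1 : ∀ j : Fin p, ζ ^ (j : ℕ) * ((A β j : ℤ) : ℂ) = (b : ℂ) * ζ ^ (j : ℕ) + if j = t then (ε : ℂ) * ζ ^ (t : ℕ) else 0 := by
        intro j
        rw [hab j]
        by_cases hj : j = t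
        · subst hj
          simp
          ring
        · simp [hj]
          ring
      rw [Finset.sum_congr rfl (fun j _ => h1 j), Finset.sum_add_distrib, ← Finset.mul_sum, hgeom, mul_zero, zero_add,
        Finset.sum_ite_eq', if_pos (Finset.mem_univ _)]
    · rw [if_neg hβ]
      simp only [cf, mul_one]
      have h1 : ∀ j : Fin p, ζ ^ (j : ℕ) * ((A β j : ℤ) : ℂ) = ((A β j₀ : ℤ) : ℂ) * ζ ^ (j : ℕ) := by
        intro j
        rw [hother β hβ j j₀]
        ring
      rw [Finset.sum_congr rfl (fun j _ => h1 j), ← Finset.mul_sum, hgeom, mul_zero]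
  refine ⟨β₀, ε, ζ ^ (t : ℕ), hε, ?_, ?_, ?_⟩
  · rw [← pow_mul, mul_comm, pow_mul, hζ.pow_eq_one, one_pow]
  · intro c
    have h1 := congrFun (hf 1) c
    simp only [pow_one] at h1
    rw [h1]
    simp only [Finset.sum_apply, Pi.smul_apply, smul_eq_mul, hcf1]
    rw [Finset.sum_eq_single β₀]
    · rw [if_pos rfl]
    · intro β _ hβ
      rw [if_neg hβ, zero_mul]
    · simp
  · intro β'
    have h0 : (fun c : C => r.character (c : L)) = ∑ β : IrrCharacter C, cf 0 β • (β : C → ℂ) := by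
      have := hf 0
      simpa using this
    rw [h0, coeff_inner, hcf0]
    by_cases hβ : β' = β₀
    · subst hβ
      refine ⟨b, ?_⟩
      rw [if_pos rfl]
      congr 1
      have h1 : ∀ j, A β' j = b + if j = t then ε else 0 := hab
      rw [Finset.sum_congr rfl (fun j _ => h1 j), Finset.sum_add_distrib, Finset.sum_const, Finset.sum_ite_eq',
        if_pos (Finset.mem_univ _), Finset.card_univ, Fintype.card_fin]
      simp
    · refine ⟨A β' j₀, ?_⟩
      rw [if_neg hβ, add_zero]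
      congr 1
      rw [Finset.sum_congr rfl (fun j _ => hother β' hβ j j₀), Finset.sum_const, Finset.card_univ, Fintype.card_fin]
      simp

end Core

end Cfsg.Agent.Lib.CharGlaub
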