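import Cfsg.Agent.Lib.CharGlaub

/-!
# Glauberman correspondence: abstract operator groups.
-/

set_option autoImplicit false
set_option linter.unusedVariables false
set_option linter.unusedSectionVars false
set_option linter.style.longLine false

open Cfsg Module
open scoped ComplexConjugate
open Cfsg.Agent.Lib.CharBasic Cfsg.Agent.Lib.CharOrth Cfsg.Agent.Lib.CharAlg Cfsg.Agent.Lib.CharInd
open Cfsg.Agent.Lib.CharPerm Cfsg.Agent.Lib.CharGall Cfsg.Agent.Lib.CharGlaub

namespace Cfsg.Agent.Lib.CharGlaub2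

universe u v

section Fix

variable {G : Type u} [Group G]

/-- The fixed points of a group of automorphisms. -/
def FixS (T : Subgroup (MulAut G)) : Subgroup G where
  carrier := {g | ∀ a ∈ T, a g = g}
  one_mem' := fun a _ => map_one a
  mul_mem' := fun {x y} hx hy a ha => by rw [map_mul, hx a ha, hy a ha]
  inv_mem' := fun {x} hx a ha => by rw [map_inv, hx a ha]

theorem mem_FixS {T : Subgroup (MulAut G)} {g : G} : g ∈ FixS T ↔ ∀ a ∈ T, a g = g := Iff.rfl

variable [Finite G]

theorem exists_fixed_of_invariant {p : ℕ} [hp : Fact p.Prime] {T : Subgroup (MulAut G)} (hT : IsPGroup p T)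
    (X : Set G) (hinv : ∀ a ∈ T, ∀ x ∈ X, a x ∈ X) (hcard : ¬ p ∣ Nat.card X) :
    ∃ x ∈ X, ∀ a ∈ T, a x = x := by
  let S : SubMulAction T G := ⟨X, fun a x hx => hinv a a.2 x hx⟩
  have hc : ¬ p ∣ Nat.card S := hcard
  obtain ⟨x, hx⟩ := IsPGroup.nonempty_fixed_point_of_prime_not_dvd_card (α := S) hT hc
  refine ⟨x, x.2, fun a ha => ?_⟩
  have h1 := hx ⟨a, ha⟩
  exact congrArg Subtype.val h1

theorem exists_fixed_in_class {p : ℕ} [hp : Fact p.Prime] {T : Subgroup (MulAut G)} (hT : IsPGroup p T)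
    (hcop : ¬ p ∣ Nat.card G) (g : G) (hg : ∀ a ∈ T, IsConj g (a g)) :
    ∃ d, IsConj g d ∧ ∀ a ∈ T, a d = d := by
  classical
  let X : Set G := {h | IsConj g h}
  have hinv : ∀ a ∈ T, ∀ x ∈ X, a x ∈ X := by
    intro a ha x hx
    have h1 : IsConj (a g) (a x) := (isConj_iff.mp hx).elim fun c hc => by
      rw [isConj_iff]
      exact ⟨a c, by rw [← hc]; simp⟩
    exact (hg a ha).trans h1
  have hcard : ¬ p ∣ Nat.card X := by
    intro h
    apply hcop
    refine h.trans ?_
    have h1 : X = MulAction.orbit (ConjAct G) g := by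
      rw [ConjAct.orbit_eq_carrier_conjClasses]
      ext y
      show IsConj g y ↔ y ∈ (ConjClasses.mk g).carrier
      rw [ConjClasses.mem_carrier_iff_mk_eq, ConjClasses.mk_eq_mk_iff_isConj, isConj_comm]
    rw [h1]
    have h2 : Nat.card (MulAction.orbit (ConjAct G) g) = (MulAction.stabilizer (ConjAct G) g).index := by
      rw [MulAction.index_stabilizer, Nat.card_coe_set_eq]
    rw [h2]
    exact Subgroup.index_dvd_card (MulAction.stabilizer (ConjAct G) g)
  obtain ⟨x, hx, hfix⟩ := exists_fixed_of_invariant hT X hinv hcard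
  exact ⟨x, hx, hfix⟩

theorem conj_by_fixed {p : ℕ} [hp : Fact p.Prime] {T : Subgroup (MulAut G)} (hT : IsPGroup p T)
    (hcop : ¬ p ∣ Nat.card G) (x y : G) (hx : ∀ a ∈ T, a x = x) (hy : ∀ a ∈ T, a y = y) (h : IsConj x y) :
    ∃ d, (∀ a ∈ T, a d = d) ∧ d * x * d⁻¹ = y := by
  classical
  obtain ⟨c, hc⟩ := isConj_iff.mp h
  let X : Set G := {d | d * x * d⁻¹ = y}
  have hinv : ∀ a ∈ T, ∀ d ∈ X, a d ∈ X := by
    intro a ha d hd
    have h1 : a d * x * (a d)⁻¹ = a (d * x * d⁻¹) := by
      simp [hx a ha]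
    show a d * x * (a d)⁻¹ = y
    rw [h1, hd, hy a ha]
  have hcard : ¬ p ∣ Nat.card X := by
    intro h2
    apply hcop
    refine h2.trans ?_
    let e : Subgroup.centralizer ({x} : Set G) ≃ X :=
      { toFun := fun z => ⟨c * z, by
          have hz : (z : G) * x = x * z := (Subgroup.mem_centralizer_singleton_iff.mp z.2)
          show c * z * x * (c * z)⁻¹ = y
          rw [← hc]
          calc c * z * x * (c * z)⁻¹ = c * ((z : G) * x) * (z : G)⁻¹ * c⁻¹ := by group
            _ = c * (x * z) * (z : G)⁻¹ * c⁻¹ := by rw [hz]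
            _ = _ := by group⟩
        invFun := fun d => ⟨c⁻¹ * d, by
          have hd : (d : G) * x * (d : G)⁻¹ = y := d.2
          rw [Subgroup.mem_centralizer_singleton_iff]
          have h3 : (d : G) * x = y * d := by rw [← hd]; group
          have h4 : c * x = y * c := by rw [← hc]; group
          have h5 : c⁻¹ * y = x * c⁻¹ := by
            calc c⁻¹ * y = c⁻¹ * (y * c) * c⁻¹ := by group
              _ = c⁻¹ * (c * x) * c⁻¹ := by rw [h4]
              _ = _ := by group
          calc c⁻¹ * d * x = c⁻¹ * ((d : G) * x) := by group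
            _ = c⁻¹ * (y * d) := by rw [h3]
            _ = (c⁻¹ * y) * d := by group
            _ = (x * c⁻¹) * d := by rw [h5]
            _ = _ := by group⟩
        left_inv := fun z => by
          apply Subtype.ext
          show c⁻¹ * (c * z) = z
          group
        right_inv := fun d => by
          apply Subtype.ext
          show c * (c⁻¹ * d) = d
          group }
    rw [← Nat.card_congr e]
    exact Subgroup.card_subgroup_dvd_card _
  obtain ⟨d, hd, hfix⟩ := exists_fixed_of_invariant hT X hinv hcard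
  exact ⟨d, hfix, hd⟩

end Fix

section GCorr

variable {C : Type u} [Group C] [Fintype C]

open Classical in
/-- `f` has multiplicity `≡ ε` at `β` and `≡ 0` elsewhere, modulo `p`. -/
def GCorr (p : ℕ) (f : C → ℂ) (β : IrrCharacter C) (ε : ℤ) : Prop :=
  ∀ β' : IrrCharacter C, ∃ b : ℤ, classInner f (β' : C → ℂ) = (((p : ℤ) * b + if β' = β then ε else 0 : ℤ) : ℂ)

theorem GCorr.unique {p : ℕ} (hp : p.Prime) {f : C → ℂ} {β β' : IrrCharacter C} {ε ε' : ℤ} (h : GCorr p f β ε)
    (h' : GCorr p f β' ε') (hε : ε = 1 ∨ ε = -1) : β = β' := by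
  classical
  by_contra hne
  obtain ⟨b, hb⟩ := h β
  obtain ⟨b', hb'⟩ := h' β
  rw [if_pos rfl] at hb
  rw [if_neg hne] at hb'
  rw [hb] at hb'
  have h1 : (p : ℤ) * b + ε = (p : ℤ) * b' + 0 := by exact_mod_cast hb'
  have h2 : (p : ℤ) ∣ ε := ⟨b' - b, by linarith⟩
  have h3 : (p : ℤ) ∣ 1 := by
    rcases hε with rfl | rfl
    · exact h2
    · simpa using h2
  have h4 : p ∣ 1 := by exact_mod_cast h3
  exact hp.one_lt.ne' (Nat.dvd_one.mp h4)

end GCorr


section SemiD

variable {G : Type u} [Group G] [Fintype G] (t : MulAut G)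

/-- The semidirect product with the cyclic group generated by `t`. -/
abbrev LL : Type u := SemidirectProduct G (Subgroup.zpowers t) (Subgroup.zpowers t).subtype

instance : Finite (Subgroup.zpowers t) := inferInstance

noncomputable instance : Fintype (LL t) :=
  haveI : Finite (LL t) := Finite.of_equiv _ (SemidirectProduct.equivProd (N := G) (G := Subgroup.zpowers t) (φ := (Subgroup.zpowers t).subtype)).symm
  Fintype.ofFinite _

/-- The copy of `G` in `LL t`. -/
abbrev KK : Subgroup (LL t) := (SemidirectProduct.inl : G →* LL t).range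

instance : (KK t).Normal := by
  show (SemidirectProduct.inl : G →* LL t).range.Normal
  rw [SemidirectProduct.range_inl_eq_ker_rightHom]
  infer_instance

/-- The generator. -/
noncomputable def xx : LL t := SemidirectProduct.inr ⟨t, Subgroup.mem_zpowers t⟩

/-- `G ≃* KK t`. -/
noncomputable def eK : G ≃* KK t := MonoidHom.ofInjective SemidirectProduct.inl_injective

theorem eK_apply (g : G) : ((eK t g : KK t) : LL t) = SemidirectProduct.inl g := rfl

theorem conj_xx (g : G) : xx t * SemidirectProduct.inl g * (xx t)⁻¹ = SemidirectProduct.inl (t g) := by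
  have := SemidirectProduct.inl_aut (N := G) (G := Subgroup.zpowers t) (φ := (Subgroup.zpowers t).subtype) ⟨t, Subgroup.mem_zpowers t⟩ g
  rw [xx, ← map_inv]
  exact this.symm

theorem orderOf_xx : orderOf (xx t) = orderOf t := by
  rw [xx, orderOf_injective _ SemidirectProduct.inr_injective]
  exact Subgroup.orderOf_mk t _

theorem quot_cyclic : IsCyclic (LL t ⧸ KK t) := by
  let f : Subgroup.zpowers t →* LL t ⧸ KK t := (QuotientGroup.mk' (KK t)).comp SemidirectProduct.inr
  have hf : Function.Surjective f := by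
    intro q
    obtain ⟨l, rfl⟩ := QuotientGroup.mk_surjective q
    refine ⟨l.right, ?_⟩
    show ((SemidirectProduct.inr l.right : LL t) : LL t ⧸ KK t) = l
    rw [QuotientGroup.eq]
    refine ⟨(((l.right)⁻¹ : Subgroup.zpowers t) : MulAut G) l.left, ?_⟩
    have h1 : SemidirectProduct.inl l.left * SemidirectProduct.inr l.right = l := SemidirectProduct.inl_left_mul_inr_right l
    have h3 := SemidirectProduct.inl_aut (N := G) (G := Subgroup.zpowers t) (φ := (Subgroup.zpowers t).subtype) (l.right)⁻¹ l.left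
    calc _ = SemidirectProduct.inr (l.right)⁻¹ * SemidirectProduct.inl l.left * SemidirectProduct.inr ((l.right)⁻¹)⁻¹ := h3
      _ = (SemidirectProduct.inr l.right)⁻¹ * (SemidirectProduct.inl l.left * SemidirectProduct.inr l.right) := by
          simp [map_inv, mul_assoc]
      _ = _ := by rw [h1]
  exact isCyclic_of_surjective f hf

theorem inv_zpowers {χ : G → ℂ} (h : χ ∘ t = χ) (a : MulAut G) (ha : a ∈ Subgroup.zpowers t) (g : G) : χ (a g) = χ g := by
  obtain ⟨n, rfl⟩ := Subgroup.mem_zpowers_iff.mp ha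
  clear ha
  induction n using Int.induction_on generalizing g with
  | zero => simp
  | succ n ih =>
    rw [zpow_add_one]
    show χ ((t ^ (n : ℤ)) (t g)) = χ g
    rw [ih, ← Function.comp_apply (f := χ) (g := t), h]
  | pred n ih =>
    rw [zpow_sub_one]
    show χ ((t ^ (-(n : ℤ))) (t⁻¹ g)) = χ g
    rw [ih]
    have h1 := congrFun h (t⁻¹ g)
    simp only [Function.comp_apply] at h1
    rw [← h1]
    congr 1
    show t (t.symm g) = g
    exact t.apply_symm_apply g

/-- Extensions to the semidirect product. -/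
theorem exists_ext {χ : G → ℂ} (hχ : IsIrrCharacter G χ) (h : χ ∘ t = χ) :
    ∃ χh : LL t → ℂ, IsIrrCharacter (LL t) χh ∧ ∀ g : G, χh (SemidirectProduct.inl g) = χ g := by
  let θ : KK t → ℂ := χ ∘ (eK t).symm
  have hθ : IsIrrCharacter (KK t) θ := IsIrrCharacter.comp_surjective hχ (eK t).symm.toMonoidHom (eK t).symm.surjective
  have hθe : ∀ g : G, θ (eK t g) = χ g := by
    intro g
    show χ ((eK t).symm (eK t g)) = χ g
    rw [MulEquiv.symm_apply_apply]
  have hinv : ∀ (l : LL t) (n : KK t), θ ⟨l * n * l⁻¹, (inferInstance : (KK t).Normal).conj_mem n n.2 l⟩ = θ n := by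
    intro l n
    obtain ⟨g, hg⟩ := (eK t).surjective n
    subst hg
    have h1 : l = SemidirectProduct.inl l.left * SemidirectProduct.inr l.right := (SemidirectProduct.inl_left_mul_inr_right l).symm
    have h2 : (⟨l * (eK t g : KK t) * l⁻¹, (inferInstance : (KK t).Normal).conj_mem _ (eK t g).2 l⟩ : KK t) =
        eK t (l.left * ((l.right : MulAut G) g) * (l.left)⁻¹) := by
      apply Subtype.ext
      show l * SemidirectProduct.inl g * l⁻¹ = SemidirectProduct.inl (l.left * ((l.right : MulAut G) g) * (l.left)⁻¹)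
      conv_lhs => rw [h1]
      have h3 := SemidirectProduct.inl_aut (N := G) (G := Subgroup.zpowers t) (φ := (Subgroup.zpowers t).subtype) l.right g
      simp only [map_mul, map_inv, mul_inv_rev]
      have h4 : ((SemidirectProduct.inr l.right : LL t) * SemidirectProduct.inl g * (SemidirectProduct.inr l.right)⁻¹) = SemidirectProduct.inl ((l.right : MulAut G) g) := by
        rw [← map_inv]
        exact h3.symm
      rw [← h4]
      group
    rw [h2, hθe, hθe]
    have h5 := classFunction_of_isIrrCharacter hχ ((l.right : MulAut G) g) l.left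
    rw [h5]
    exact inv_zpowers t h _ l.right.2 g
  obtain ⟨χh, h1, h2⟩ := CharExt.char_ext_of_cyclic (N := KK t) hθ hinv (quot_cyclic t)
  refine ⟨χh, h1, fun g => ?_⟩
  have := h2 (eK t g)
  rw [hθe] at this
  exact this

end SemiD


section CoreAbs

variable {G : Type u} [Group G] [Fintype G] {C : Type u} [Group C] [Fintype C]

/-- Invariance under a group of automorphisms. -/
def InvC (A : Subgroup (MulAut G)) (χ : G → ℂ) : Prop := ∀ a ∈ A, ∀ g, χ (a g) = χ g

/-- The classes stable under a group of automorphisms. -/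
def FC (T : Subgroup (MulAut G)) : Type u :=
  {K : ConjClasses G // ∀ a ∈ T, ∀ g, ConjClasses.mk g = K → ConjClasses.mk (a g) = K}

/-- The Glauberman correspondence as a statement. -/
structure GlaubProp (p : ℕ) (A : Subgroup (MulAut G)) (ι : C →* G) : Prop where
  a : ∀ χ : IrrCharacter G, InvC A (χ : G → ℂ) → ∃ (β : IrrCharacter C) (ε : ℤ), (ε = 1 ∨ ε = -1) ∧ GCorr p ((χ : G → ℂ) ∘ ι) β ε
  b : ∀ χ ψ : IrrCharacter G, InvC A (χ : G → ℂ) → InvC A (ψ : G → ℂ) → ∀ (β : IrrCharacter C) (ε ε' : ℤ), (ε = 1 ∨ ε = -1) → (ε' = 1 ∨ ε' = -1) →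
    GCorr p ((χ : G → ℂ) ∘ ι) β ε → GCorr p ((ψ : G → ℂ) ∘ ι) β ε' → χ = ψ
  c : ∀ β : IrrCharacter C, ∃ χ : IrrCharacter G, InvC A (χ : G → ℂ) ∧ ∃ ε : ℤ, (ε = 1 ∨ ε = -1) ∧ GCorr p ((χ : G → ℂ) ∘ ι) β ε

theorem card_irr_eq (H : Type u) [Group H] [Fintype H] : Nat.card (IrrCharacter H) = Nat.card (ConjClasses H) := by
  have h := card_fixed_classes_aut (MulEquiv.refl H)
  have h1 : Nat.card {K : ConjClasses H // ConjClasses.map (MulEquiv.refl H).toMonoidHom K = K} = Nat.card (ConjClasses H) := by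
    apply Nat.card_congr
    apply Equiv.subtypeUnivEquiv
    intro K
    obtain ⟨c, rfl⟩ := ConjClasses.exists_rep K
    rfl
  have h2 : Nat.card {χ : IrrCharacter H // (χ : H → ℂ) ∘ (MulEquiv.refl H) = (χ : H → ℂ)} = Nat.card (IrrCharacter H) := by
    apply Nat.card_congr
    apply Equiv.subtypeUnivEquiv
    intro χ
    rfl
  rw [← h2, ← h, h1]

theorem card_FC_of_pgroup {p : ℕ} [hp : Fact p.Prime] {T : Subgroup (MulAut G)} (hT : IsPGroup p T)
    (hcop : ¬ p ∣ Nat.card G) (ι : C →* G) (hι : Function.Injective ι) (hr : ∀ g, g ∈ ι.range ↔ ∀ a ∈ T, a g = g) :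
    Nat.card (FC T) = Nat.card (ConjClasses C) := by
  have hfix : ∀ c : C, ∀ a ∈ T, a (ι c) = ι c := fun c => (hr (ι c)).mp ⟨c, rfl⟩
  have hconj : ∀ a : MulAut G, ∀ x y : G, IsConj x y → IsConj (a x) (a y) := by
    intro a x y h
    obtain ⟨c, hc⟩ := isConj_iff.mp h
    rw [isConj_iff]
    exact ⟨a c, by rw [← hc]; simp⟩
  let f : ConjClasses C → FC T := fun K => ⟨ConjClasses.map ι K, by
    obtain ⟨c, rfl⟩ := ConjClasses.exists_rep K
    intro a ha g hg
    have h1 : IsConj g (ι c) := ConjClasses.mk_eq_mk_iff_isConj.mp hg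
    have h2 := hconj a _ _ h1
    rw [hfix c a ha] at h2
    exact ConjClasses.mk_eq_mk_iff_isConj.mpr h2⟩
  have hf : Function.Bijective f := by
    constructor
    · intro K K' h
      obtain ⟨c, rfl⟩ := ConjClasses.exists_rep K
      obtain ⟨c', rfl⟩ := ConjClasses.exists_rep K'
      have h1 : ConjClasses.mk (ι c) = ConjClasses.mk (ι c') := congrArg Subtype.val h
      have h2 := ConjClasses.mk_eq_mk_iff_isConj.mp h1
      obtain ⟨d, hd, hd2⟩ := conj_by_fixed hT hcop _ _ (hfix c) (hfix c') h2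
      obtain ⟨d', rfl⟩ := (hr d).mpr hd
      rw [ConjClasses.mk_eq_mk_iff_isConj, isConj_iff]
      refine ⟨d', hι ?_⟩
      simpa using hd2
    · rintro ⟨K, hK⟩
      obtain ⟨g, rfl⟩ := ConjClasses.exists_rep K
      have h1 : ∀ a ∈ T, IsConj g (a g) := by
        intro a ha
        exact ConjClasses.mk_eq_mk_iff_isConj.mp (hK a ha g rfl).symm
      obtain ⟨d, hd, hd2⟩ := exists_fixed_in_class hT hcop g h1
      obtain ⟨c, rfl⟩ := (hr d).mpr hd2
      refine ⟨ConjClasses.mk c, Subtype.ext ?_⟩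
      show ConjClasses.mk (ι c) = ConjClasses.mk g
      exact ConjClasses.mk_eq_mk_iff_isConj.mpr hd.symm
  exact (Nat.card_congr (Equiv.ofBijective f hf)).symm

theorem invC_zpowers_iff (t : MulAut G) (χ : G → ℂ) : InvC (Subgroup.zpowers t) χ ↔ χ ∘ t = χ := by
  constructor
  · intro h
    funext g
    exact h t (Subgroup.mem_zpowers t) g
  · intro h a ha g
    exact inv_zpowers t h a ha g

theorem fc_zpowers_iff (t : MulAut G) (K : ConjClasses G) :
    (∀ a ∈ Subgroup.zpowers t, ∀ g, ConjClasses.mk g = K → ConjClasses.mk (a g) = K) ↔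
      ConjClasses.map (t : G ≃* G).toMonoidHom K = K := by
  constructor
  · intro h
    obtain ⟨g, rfl⟩ := ConjClasses.exists_rep K
    exact h t (Subgroup.mem_zpowers t) g rfl
  · intro h a ha g hg
    have ha' : a ∈ Submonoid.powers t := mem_powers_iff_mem_zpowers.mpr ha
    obtain ⟨n, rfl⟩ := ha'
    clear ha
    induction n generalizing g with
    | zero => simpa using hg
    | succ n ih =>
      have h1 : ConjClasses.mk ((t ^ n) g) = K := ih g hg
      show ConjClasses.mk ((t ^ (n + 1)) g) = K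
      rw [pow_succ']
      show ConjClasses.mk (t ((t ^ n) g)) = K
      conv_rhs => rw [← h]
      rw [← h1]
      rfl

open Classical in
theorem core_abs (t : MulAut G) (p : ℕ) (hp : p.Prime) (ht : orderOf t = p) (hcop : ¬ p ∣ Nat.card G) (ι : C →* G)
    (hι : Function.Injective ι) (hr : ∀ g, g ∈ ι.range ↔ t g = g) : GlaubProp p (Subgroup.zpowers t) ι := by
  haveI : Fact p.Prime := ⟨hp⟩
  letI : Fintype (KK t) := Fintype.ofFinite _
  let x : LL t := xx t
  have hxo : orderOf x = p := (orderOf_xx t).trans ht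
  have hK : Nat.card (KK t) = Nat.card G := (Nat.card_congr (eK t).toEquiv).symm
  let CL : Subgroup (LL t) := KK t ⊓ Subgroup.centralizer {x}
  letI : Fintype CL := Fintype.ofFinite _
  have hfixι : ∀ c, t (ι c) = ι c := fun c => (hr (ι c)).mp ⟨c, rfl⟩
  let φ : C →* CL :=
    { toFun := fun c => ⟨SemidirectProduct.inl (ι c), Subgroup.mem_inf.mpr ⟨⟨ι c, rfl⟩, Subgroup.mem_centralizer_singleton_iff.mpr (by
        have h1 := conj_xx t (ι c)
        rw [hfixι] at h1
        show SemidirectProduct.inl (ι c) * xx t = xx t * SemidirectProduct.inl (ι c)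
        conv_lhs => rw [← h1]
        group)⟩⟩
      map_one' := by
        apply Subtype.ext
        simp
      map_mul' := fun a b => by
        apply Subtype.ext
        simp }
  have hφ : Function.Bijective φ := by
    constructor
    · intro a b h
      have h1 : (SemidirectProduct.inl (ι a) : LL t) = SemidirectProduct.inl (ι b) := congrArg Subtype.val h
      exact hι (SemidirectProduct.inl_injective h1)
    · rintro ⟨l, ⟨g, rfl⟩, hl⟩
      have h1 : Commute (SemidirectProduct.inl g : LL t) x := Subgroup.mem_centralizer_singleton_iff.mp hl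
      have h2 := conj_xx t g
      have h3 : t g = g := by
        apply SemidirectProduct.inl_injective (φ := (Subgroup.zpowers t).subtype)
        rw [← h2]
        show x * SemidirectProduct.inl g * x⁻¹ = _
        rw [← h1.eq]
        group
      obtain ⟨c, rfl⟩ := (hr g).mpr h3
      exact ⟨c, Subtype.ext rfl⟩
  let eC : C ≃* CL := MulEquiv.ofBijective φ hφ
  have heC : ∀ c : C, ((eC c : CL) : LL t) = SemidirectProduct.inl (ι c) := fun c => rfl
  let bT : IrrCharacter CL → IrrCharacter C := fun β =>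
    ⟨(β : CL → ℂ) ∘ eC, IsIrrCharacter.comp_surjective β.2 eC.toMonoidHom eC.surjective⟩
  let bI : IrrCharacter C → IrrCharacter CL := fun β =>
    ⟨(β : C → ℂ) ∘ eC.symm, IsIrrCharacter.comp_surjective β.2 eC.symm.toMonoidHom eC.symm.surjective⟩
  have hbTI : ∀ β, bT (bI β) = β := by
    intro β
    apply Subtype.ext
    funext c
    show (β : C → ℂ) (eC.symm (eC c)) = _
    rw [MulEquiv.symm_apply_apply]
  have hbIT : ∀ β, bI (bT β) = β := by
    intro β
    apply Subtype.ext
    funext c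
    show (β : CL → ℂ) (eC (eC.symm c)) = _
    rw [MulEquiv.apply_symm_apply]
  have key : ∀ χ : IrrCharacter G, InvC (Subgroup.zpowers t) (χ : G → ℂ) →
      ∃ (χh : LL t → ℂ) (β : IrrCharacter CL) (ε : ℤ) (ω : ℂ), IsIrrCharacter (LL t) χh ∧
        (∀ g, χh (SemidirectProduct.inl g) = (χ : G → ℂ) g) ∧ (ε = 1 ∨ ε = -1) ∧ ω ^ p = 1 ∧
        (∀ c : CL, χh ((c : LL t) * x) = (ε : ℂ) * ω * (β : CL → ℂ) c) ∧ GCorr p ((χ : G → ℂ) ∘ ι) (bT β) ε := by
    intro χ hχ
    obtain ⟨χh, hχh, hext⟩ := exists_ext t χ.2 ((invC_zpowers_iff t _).mp hχ)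
    have hχK : IsIrrCharacter (KK t) (fun n : KK t => χh n) := by
      have h1 : (fun n : KK t => χh n) = (χ : G → ℂ) ∘ (eK t).symm := by
        funext n
        obtain ⟨g, rfl⟩ := (eK t).surjective n
        show χh (SemidirectProduct.inl g) = (χ : G → ℂ) ((eK t).symm (eK t g))
        rw [MulEquiv.symm_apply_apply, hext]
      rw [h1]
      exact IsIrrCharacter.comp_surjective χ.2 (eK t).symm.toMonoidHom (eK t).symm.surjective
    obtain ⟨β, ε, ω, hε, hω, hf, hm⟩ := core_prime (K := KK t) x p hp hxo (by rwa [hK]) CL rfl hχh hχK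
    refine ⟨χh, β, ε, ω, hχh, hext, hε, hω, hf, ?_⟩
    intro β'
    obtain ⟨b, hb⟩ := hm (bI β')
    refine ⟨b, ?_⟩
    have h1 : ((χ : G → ℂ) ∘ ι) = (fun c : CL => χh c) ∘ eC := by
      funext c
      show (χ : G → ℂ) (ι c) = χh (eC c : CL)
      rw [heC, hext]
    have h2 : (β' : C → ℂ) = (bI β' : CL → ℂ) ∘ eC := by
      funext c
      show _ = (β' : C → ℂ) (eC.symm (eC c))
      rw [MulEquiv.symm_apply_apply]
    rw [h1, h2, CharNormal.classInner_comp_equiv eC, hb]
    congr 2
    have h3 : (bI β' = β) ↔ (β' = bT β) := by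
      constructor
      · intro h
        rw [← h, hbTI]
      · intro h
        rw [h, hbIT]
    simp only [h3]
  have hbinj : ∀ χ ψ : IrrCharacter G, InvC (Subgroup.zpowers t) (χ : G → ℂ) → InvC (Subgroup.zpowers t) (ψ : G → ℂ) →
      ∀ (β : IrrCharacter C) (ε ε' : ℤ), (ε = 1 ∨ ε = -1) → (ε' = 1 ∨ ε' = -1) →
      GCorr p ((χ : G → ℂ) ∘ ι) β ε → GCorr p ((ψ : G → ℂ) ∘ ι) β ε' → χ = ψ := by
    intro χ ψ hχ hψ β ε ε' hε hε' h1 h2
    by_contra hne
    obtain ⟨χh, β₁, ε₁, ω₁, hχh, hext₁, hε₁, hω₁, hf₁, hg₁⟩ := key χ hχ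
    obtain ⟨ψh, β₂, ε₂, ω₂, hψh, hext₂, hε₂, hω₂, hf₂, hg₂⟩ := key ψ hψ
    have e1 : β = bT β₁ := h1.unique hp hg₁ hε
    have e2 : β = bT β₂ := h2.unique hp hg₂ hε'
    have e3 : β₁ = β₂ := by
      have := e1.symm.trans e2
      rw [← hbIT β₁, this, hbIT]
    subst e3
    have hχK : IsIrrCharacter (KK t) (fun n : KK t => χh n) := by
      have h1 : (fun n : KK t => χh n) = (χ : G → ℂ) ∘ (eK t).symm := by
        funext n
        obtain ⟨g, rfl⟩ := (eK t).surjective n
        show χh (SemidirectProduct.inl g) = (χ : G → ℂ) ((eK t).symm (eK t g))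
        rw [MulEquiv.symm_apply_apply, hext₁]
      rw [h1]
      exact IsIrrCharacter.comp_surjective χ.2 (eK t).symm.toMonoidHom (eK t).symm.surjective
    have hcopx : (Nat.card (Subgroup.zpowers x)).Coprime (Nat.card (KK t)) := by
      rw [Nat.card_zpowers, hxo, hK]
      exact (Nat.Prime.coprime_iff_not_dvd hp).mpr hcop
    have h3 := (coset_inner (K := KK t) x hcopx CL rfl hχh hχK hψh).2 (by
      have h4 : (ψ : G → ℂ) = (fun n : KK t => ψh n) ∘ (eK t) := by
        funext g
        show _ = ψh (SemidirectProduct.inl g)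
        rw [hext₂]
      have h5 : (χ : G → ℂ) = (fun n : KK t => χh n) ∘ (eK t) := by
        funext g
        show _ = χh (SemidirectProduct.inl g)
        rw [hext₁]
      rw [← CharNormal.classInner_comp_equiv (eK t), ← h4, ← h5, classInner_irr ψ.2 χ.2, if_neg]
      intro h6
      exact hne (Subtype.ext h6.symm))
    have h7 : (fun c : CL => ψh ((c : LL t) * x)) = ((ε₂ : ℂ) * ω₂) • (β₁ : CL → ℂ) := by
      funext c
      simp [hf₂ c]
    have h8 : (fun c : CL => χh ((c : LL t) * x)) = ((ε₁ : ℂ) * ω₁) • (β₁ : CL → ℂ) := by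
      funext c
      simp [hf₁ c]
    rw [h7, h8, classInner_smul_left, classInner_smul_right, classInner_irr_self β₁.2, mul_one] at h3
    have hω₁0 : ω₁ ≠ 0 := by
      intro h
      rw [h, zero_pow hp.ne_zero] at hω₁
      exact zero_ne_one hω₁
    have hω₂0 : ω₂ ≠ 0 := by
      intro h
      rw [h, zero_pow hp.ne_zero] at hω₂
      exact zero_ne_one hω₂
    have hε₁0 : (ε₁ : ℂ) ≠ 0 := by
      rcases hε₁ with rfl | rfl <;> norm_num
    have hε₂0 : (ε₂ : ℂ) ≠ 0 := by
      rcases hε₂ with rfl | rfl <;> norm_num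
    have h9 : conj ((ε₁ : ℂ) * ω₁) ≠ 0 := by
      rw [Ne, map_eq_zero]
      exact mul_ne_zero hε₁0 hω₁0
    exact (mul_ne_zero (mul_ne_zero hε₂0 hω₂0) h9) h3
  refine ⟨?_, hbinj, ?_⟩
  · intro χ hχ
    obtain ⟨χh, β, ε, ω, -, -, hε, -, -, h⟩ := key χ hχ
    exact ⟨bT β, ε, hε, h⟩
  · -- counting
    have hT : IsPGroup p (Subgroup.zpowers t) := by
      apply IsPGroup.of_card (n := 1)
      rw [Nat.card_zpowers, ht, pow_one]
    have hcl : Nat.card (FC (Subgroup.zpowers t)) = Nat.card (ConjClasses C) :=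
      card_FC_of_pgroup hT hcop ι hι (by
        intro g
        rw [hr g]
        constructor
        · intro h a ha
          obtain ⟨n, rfl⟩ := mem_powers_iff_mem_zpowers.mpr ha
          clear ha
          induction n with
          | zero => simp
          | succ n ih =>
            show (t ^ (n + 1)) g = g
            rw [pow_succ']
            show t ((t ^ n) g) = g
            have h1 : (t ^ n) g = g := ih
            rw [h1, h]
        · intro h
          exact h t (Subgroup.mem_zpowers t))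
    let S := {χ : IrrCharacter G // InvC (Subgroup.zpowers t) (χ : G → ℂ)}
    have hS : Nat.card S = Nat.card (FC (Subgroup.zpowers t)) := by
      have h1 := card_fixed_classes_aut (t : G ≃* G)
      have h2 : Nat.card S = Nat.card {χ : IrrCharacter G // (χ : G → ℂ) ∘ t = (χ : G → ℂ)} := by
        apply Nat.card_congr
        apply Equiv.subtypeEquivRight
        intro χ
        exact invC_zpowers_iff t _
      have h3 : Nat.card (FC (Subgroup.zpowers t)) = Nat.card {K : ConjClasses G // ConjClasses.map (t : G ≃* G).toMonoidHom K = K} := by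
        apply Nat.card_congr
        apply Equiv.subtypeEquivRight
        intro K
        exact fc_zpowers_iff t K
      rw [h2, h3, h1]
    have hex : ∀ χ : S, ∃ β : IrrCharacter C, ∃ ε : ℤ, (ε = 1 ∨ ε = -1) ∧ GCorr p ((χ.1 : G → ℂ) ∘ ι) β ε := by
      intro χ
      obtain ⟨χh, β, ε, ω, -, -, hε, -, -, h⟩ := key χ.1 χ.2
      exact ⟨bT β, ε, hε, h⟩
    choose Φ hΦ using hex
    have hΦinj : Function.Injective Φ := by
      intro χ ψ h
      obtain ⟨ε, hε, h1⟩ := hΦ χ
      obtain ⟨ε', hε', h2⟩ := hΦ ψ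
      rw [← h] at h2
      exact Subtype.ext (hbinj χ.1 ψ.1 χ.2 ψ.2 (Φ χ) ε ε' hε hε' h1 h2)
    have hΦbij : Function.Bijective Φ := by
      apply hΦinj.bijective_of_nat_card_le
      rw [hS, hcl, card_irr_eq]
    intro β
    obtain ⟨χ, rfl⟩ := hΦbij.2 β
    exact ⟨χ.1, χ.2, hΦ χ⟩

end CoreAbs


section Step

variable {G : Type u} [Group G] [Fintype G]

/-- Restriction of automorphisms to fixed points of a normal subgroup. -/
def resAut (A T : Subgroup (MulAut G)) (hT : ∀ a ∈ A, ∀ τ ∈ T, a * τ * a⁻¹ ∈ T) : A →* MulAut (FixS T) where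
  toFun a :=
    { toFun := fun d => ⟨(a : MulAut G) d, by
        intro τ hτ
        have h1 : (a : MulAut G)⁻¹ * τ * ((a : MulAut G)⁻¹)⁻¹ ∈ T := hT _ (A.inv_mem a.2) τ hτ
        have h2 := d.2 _ h1
        have h3 : τ ((a : MulAut G) d) = (a : MulAut G) (((a : MulAut G)⁻¹ * τ * ((a : MulAut G)⁻¹)⁻¹) d) := by
          simp [MulAut.mul_apply]
        rw [h3, h2]⟩
      invFun := fun d => ⟨((a : MulAut G)⁻¹) d, by
        intro τ hτ
        have h1 : (a : MulAut G) * τ * (a : MulAut G)⁻¹ ∈ T := hT _ a.2 τ hτ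
        have h2 := d.2 _ h1
        have h3 : τ (((a : MulAut G)⁻¹) d) = ((a : MulAut G)⁻¹) (((a : MulAut G) * τ * (a : MulAut G)⁻¹) d) := by
          simp [MulAut.mul_apply]
        rw [h3, h2]⟩
      left_inv := fun d => by
        apply Subtype.ext
        simp
      right_inv := fun d => by
        apply Subtype.ext
        simp
      map_mul' := fun x y => by
        apply Subtype.ext
        simp }
  map_one' := by
    ext d
    simp
  map_mul' := fun x y => by
    ext d
    simp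

theorem resAut_apply (A T : Subgroup (MulAut G)) (hT : ∀ a ∈ A, ∀ τ ∈ T, a * τ * a⁻¹ ∈ T) (a : A) (d : FixS T) :
    ((resAut A T hT a d : FixS T) : G) = (a : MulAut G) d := rfl

variable {C D : Type u} [Group C] [Fintype C] [Group D] [Fintype D]

open Classical in
theorem gcorr_equiv {p : ℕ} {f : D → ℂ} {β : IrrCharacter D} {ε : ℤ} (h : GCorr p f β ε) (e : D ≃* D) :
    GCorr p (f ∘ e) ⟨(β : D → ℂ) ∘ e, IsIrrCharacter.comp_surjective β.2 e.toMonoidHom e.surjective⟩ ε := by
  intro β'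
  let β'' : IrrCharacter D := ⟨(β' : D → ℂ) ∘ e.symm, IsIrrCharacter.comp_surjective β'.2 e.symm.toMonoidHom e.symm.surjective⟩
  obtain ⟨b, hb⟩ := h β''
  refine ⟨b, ?_⟩
  have h1 : (β' : D → ℂ) = (β'' : D → ℂ) ∘ e := by
    funext d
    show _ = (β' : D → ℂ) (e.symm (e d))
    rw [MulEquiv.symm_apply_apply]
  rw [h1, CharNormal.classInner_comp_equiv e, hb]
  congr 2
  have h3 : (β'' = β) ↔ (β' = ⟨(β : D → ℂ) ∘ e, IsIrrCharacter.comp_surjective β.2 e.toMonoidHom e.surjective⟩) := by
    constructor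
    · intro h
      rw [← h]
      apply Subtype.ext
      exact h1
    · intro h
      apply Subtype.ext
      funext d
      show (β' : D → ℂ) (e.symm d) = _
      rw [h]
      show (β : D → ℂ) (e (e.symm d)) = _
      rw [MulEquiv.apply_symm_apply]
  simp only [h3]

open Classical in
theorem gcorr_comp {p : ℕ} {f : D → ℂ} (hf : IsClassFunction D f) {β₀ : IrrCharacter D} {ε₀ : ℤ} (h₀ : GCorr p f β₀ ε₀)
    (ι : C →* D) {β : IrrCharacter C} {ε₁ : ℤ} (h₁ : GCorr p ((β₀ : D → ℂ) ∘ ι) β ε₁) :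
    GCorr p (f ∘ ι) β (ε₀ * ε₁) := by
  intro β'
  have hn : ∀ β'' : IrrCharacter D, ∃ n : ℕ, classInner ((β'' : D → ℂ) ∘ ι) (β' : C → ℂ) = n := by
    intro β''
    exact IsCharacter.classInner_irr_nat (IsCharacter.comp (IsIrrCharacter.isCharacter β''.2) ι) β'.2
  choose n hn using hn
  choose b hb using h₀
  obtain ⟨b₁, hb₁⟩ := h₁ β'
  have h2 : f ∘ ι = ∑ β'' : IrrCharacter D, classInner f (β'' : D → ℂ) • ((β'' : D → ℂ) ∘ ι) := by
    funext c
    have h3 := congrFun (classFun_eq_sum f hf) (ι c)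
    simp only [Finset.sum_apply, Pi.smul_apply, smul_eq_mul, Function.comp_apply] at h3 ⊢
    exact h3
  refine ⟨∑ β'' : IrrCharacter D, b β'' * (n β'' : ℤ) + ε₀ * b₁, ?_⟩
  rw [h2, classInner_sum_left]
  simp only [classInner_smul_left, hn, hb]
  have h4 : ((n β₀ : ℕ) : ℂ) = (((p : ℤ) * b₁ + if β' = β then ε₁ else 0 : ℤ) : ℂ) := by
    rw [← hn, hb₁]
  have h5 : ∑ β'' : IrrCharacter D, (((p : ℤ) * b β'' + if β'' = β₀ then ε₀ else 0 : ℤ) : ℂ) * ((n β'' : ℕ) : ℂ) =
      (p : ℂ) * ∑ β'' : IrrCharacter D, ((b β'' : ℤ) : ℂ) * ((n β'' : ℕ) : ℂ) + (ε₀ : ℂ) * ((n β₀ : ℕ) : ℂ) := by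
    have h6 : ∀ β'' : IrrCharacter D, (((p : ℤ) * b β'' + if β'' = β₀ then ε₀ else 0 : ℤ) : ℂ) * ((n β'' : ℕ) : ℂ) =
        (p : ℂ) * (((b β'' : ℤ) : ℂ) * ((n β'' : ℕ) : ℂ)) + if β'' = β₀ then (ε₀ : ℂ) * ((n β₀ : ℕ) : ℂ) else 0 := by
      intro β''
      by_cases hβ : β'' = β₀
      · subst hβ
        simp
        ring
      · simp [hβ]
        ring
    rw [Finset.sum_congr rfl (fun β'' _ => h6 β''), Finset.sum_add_distrib, ← Finset.mul_sum, Finset.sum_ite_eq',
      if_pos (Finset.mem_univ _)]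
  rw [h5, h4]
  by_cases hβ : β' = β
  · simp only [hβ, if_true]
    push_cast
    ring
  · simp only [hβ, if_false]
    push_cast
    ring

theorem IsSignMul {a b : ℤ} (ha : a = 1 ∨ a = -1) (hb : b = 1 ∨ b = -1) : a * b = 1 ∨ a * b = -1 := by
  rcases ha with rfl | rfl <;> rcases hb with rfl | rfl <;> simp

/-- The composition step. -/
theorem glaub_step {p : ℕ} (hp : p.Prime) (A T : Subgroup (MulAut G)) (hTA : T ≤ A) (hT : ∀ a ∈ A, ∀ τ ∈ T, a * τ * a⁻¹ ∈ T)
    [Fintype (FixS T)] (h₁ : GlaubProp p T (FixS T).subtype) (ι' : C →* FixS T)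
    (h₂ : GlaubProp p (resAut A T hT).range ι') : GlaubProp p A ((FixS T).subtype.comp ι') := by
  classical
  let ιD := (FixS T).subtype
  have hcomp : ∀ χ : IrrCharacter G, (χ : G → ℂ) ∘ (ιD.comp ι') = ((χ : G → ℂ) ∘ ιD) ∘ ι' := fun χ => rfl
  have hcl : ∀ χ : IrrCharacter G, IsClassFunction (FixS T) ((χ : G → ℂ) ∘ ιD) := by
    intro χ
    exact classFunction_of_isCharacter (IsCharacter.comp (IsIrrCharacter.isCharacter χ.2) ιD)
  have hT' : ∀ χ : IrrCharacter G, InvC A (χ : G → ℂ) → InvC T (χ : G → ℂ) := fun χ h a ha => h a (hTA ha)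
  -- equivariance of the correspondence
  have hequiv : ∀ χ : IrrCharacter G, InvC A (χ : G → ℂ) → ∀ (β₀ : IrrCharacter (FixS T)) (ε₀ : ℤ), (ε₀ = 1 ∨ ε₀ = -1) →
      GCorr p ((χ : G → ℂ) ∘ ιD) β₀ ε₀ → InvC (resAut A T hT).range (β₀ : FixS T → ℂ) := by
    intro χ hχ β₀ ε₀ hε₀ h
    rintro _ ⟨a, rfl⟩ d
    have h2 := gcorr_equiv h (resAut A T hT a)
    have h3 : ((χ : G → ℂ) ∘ ιD) ∘ (resAut A T hT a) = (χ : G → ℂ) ∘ ιD := by
      funext d
      exact hχ a a.2 d
    rw [h3] at h2
    have h4 := h2.unique hp h hε₀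
    exact congrFun (congrArg Subtype.val h4) d
  have hfac : ∀ χ : IrrCharacter G, InvC A (χ : G → ℂ) → ∃ (β₀ : IrrCharacter (FixS T)) (ε₀ ε₁ : ℤ) (β₁ : IrrCharacter C),
      (ε₀ = 1 ∨ ε₀ = -1) ∧ (ε₁ = 1 ∨ ε₁ = -1) ∧ GCorr p ((χ : G → ℂ) ∘ ιD) β₀ ε₀ ∧
        InvC (resAut A T hT).range (β₀ : FixS T → ℂ) ∧ GCorr p ((β₀ : FixS T → ℂ) ∘ ι') β₁ ε₁ ∧
        GCorr p ((χ : G → ℂ) ∘ (ιD.comp ι')) β₁ (ε₀ * ε₁) := by
    intro χ hχ
    obtain ⟨β₀, ε₀, hε₀, h0⟩ := h₁.a χ (hT' χ hχ)
    have hinv := hequiv χ hχ β₀ ε₀ hε₀ h0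
    obtain ⟨β₁, ε₁, hε₁, h2⟩ := h₂.a β₀ hinv
    exact ⟨β₀, ε₀, ε₁, β₁, hε₀, hε₁, h0, hinv, h2, gcorr_comp (hcl χ) h0 ι' h2⟩
  refine ⟨?_, ?_, ?_⟩
  · intro χ hχ
    obtain ⟨β₀, ε₀, ε₁, β₁, hε₀, hε₁, -, -, -, h⟩ := hfac χ hχ
    exact ⟨β₁, ε₀ * ε₁, IsSignMul hε₀ hε₁, h⟩
  · intro χ ψ hχ hψ β ε ε' hε hε' h h'
    obtain ⟨β₀, ε₀, ε₁, β₁, hε₀, hε₁, h0, hinv, h2, h3⟩ := hfac χ hχ
    obtain ⟨β₀', ε₀', ε₁', β₁', hε₀', hε₁', h0', hinv', h2', h3'⟩ := hfac ψ hψ
    have e1 : β = β₁ := h.unique hp h3 hε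
    have e2 : β = β₁' := h'.unique hp h3' hε'
    subst e1
    subst e2
    have e3 : β₀ = β₀' := h₂.b β₀ β₀' hinv hinv' β ε₁ ε₁' hε₁ hε₁' h2 h2'
    subst e3
    exact h₁.b χ ψ (hT' χ hχ) (hT' ψ hψ) β₀ ε₀ ε₀' hε₀ hε₀' h0 h0'
  · intro β
    obtain ⟨β₀, hinv, ε₁, hε₁, h2⟩ := h₂.c β
    obtain ⟨χ, hχT, ε₀, hε₀, h0⟩ := h₁.c β₀
    have hχA : InvC A (χ : G → ℂ) := by
      intro a ha g
      let a' : A := ⟨a, ha⟩
      let χa : IrrCharacter G := ⟨(χ : G → ℂ) ∘ a, IsIrrCharacter.comp_surjective χ.2 (a : G ≃* G).toMonoidHom a.surjective⟩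
      have hχaT : InvC T (χa : G → ℂ) := by
        intro τ hτ g
        show (χ : G → ℂ) (a (τ g)) = (χ : G → ℂ) (a g)
        have h3 : a (τ g) = (a * τ * a⁻¹) (a g) := by simp [MulAut.mul_apply]
        rw [h3]
        exact hχT _ (hT a ha τ hτ) _
      have h4 := gcorr_equiv h0 (resAut A T hT a')
      have h5 : ((χ : G → ℂ) ∘ ιD) ∘ (resAut A T hT a') = (χa : G → ℂ) ∘ ιD := rfl
      rw [h5] at h4
      have h6 : (⟨(β₀ : FixS T → ℂ) ∘ (resAut A T hT a'), IsIrrCharacter.comp_surjective β₀.2 (resAut A T hT a').toMonoidHom (resAut A T hT a').surjective⟩ : IrrCharacter (FixS T)) = β₀ := by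
        apply Subtype.ext
        funext d
        exact hinv _ ⟨a', rfl⟩ d
      rw [h6] at h4
      have h7 := h₁.b χa χ hχaT hχT β₀ ε₀ ε₀ hε₀ hε₀ h4 h0
      exact congrFun (congrArg Subtype.val h7) g
    exact ⟨χ, hχA, ε₀ * ε₁, IsSignMul hε₀ hε₁, gcorr_comp (hcl χ) h0 ι' h2⟩

end Step


section PGroup

theorem glaub_trivial {G C : Type u} [Group G] [Fintype G] [Group C] [Fintype C] (p : ℕ) (hp : p.Prime) (A : Subgroup (MulAut G))
    (hA : ∀ a ∈ A, ∀ g, a g = g) (ι : C →* G) (hι : Function.Bijective ι) : GlaubProp p A ι := by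
  classical
  let e : C ≃* G := MulEquiv.ofBijective ι hι
  have hbχ : ∀ χ : IrrCharacter G, GCorr p ((χ : G → ℂ) ∘ ι) ⟨(χ : G → ℂ) ∘ ι, IsIrrCharacter.comp_surjective χ.2 ι hι.2⟩ 1 := by
    intro χ β'
    refine ⟨0, ?_⟩
    rw [classInner_irr (IsIrrCharacter.comp_surjective χ.2 ι hι.2) β'.2]
    by_cases h : β' = ⟨(χ : G → ℂ) ∘ ι, IsIrrCharacter.comp_surjective χ.2 ι hι.2⟩
    · rw [if_pos h, if_pos (congrArg Subtype.val h).symm]
      simp
    · rw [if_neg h, if_neg]
      · simp
      · intro h2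
        exact h (Subtype.ext h2.symm)
  refine ⟨?_, ?_, ?_⟩
  · intro χ _
    exact ⟨_, 1, Or.inl rfl, hbχ χ⟩
  · intro χ ψ _ _ β ε ε' hε hε' h h'
    have e1 := h.unique hp (hbχ χ) hε
    have e2 := h'.unique hp (hbχ ψ) hε'
    have e3 := e1.symm.trans e2
    have e4 : (χ : G → ℂ) ∘ ι = (ψ : G → ℂ) ∘ ι := congrArg Subtype.val e3
    apply Subtype.ext
    funext g
    obtain ⟨c, rfl⟩ := hι.2 g
    exact congrFun e4 c
  · intro β
    let χ : IrrCharacter G := ⟨(β : C → ℂ) ∘ e.symm, IsIrrCharacter.comp_surjective β.2 e.symm.toMonoidHom e.symm.surjective⟩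
    have h1 : (⟨(χ : G → ℂ) ∘ ι, IsIrrCharacter.comp_surjective χ.2 ι hι.2⟩ : IrrCharacter C) = β := by
      apply Subtype.ext
      funext c
      show (β : C → ℂ) (e.symm (e c)) = _
      rw [MulEquiv.symm_apply_apply]
    have h2 := hbχ χ
    rw [h1] at h2
    exact ⟨χ, fun a ha g => by rw [hA a ha g], 1, Or.inl rfl, h2⟩

theorem glaub_pgroup {p : ℕ} (hp : p.Prime) (n : ℕ) :
    ∀ (G : Type u) [Group G] [Fintype G] (A : Subgroup (MulAut G)), Nat.card A ≤ n → IsPGroup p A →
      (Nat.card G).Coprime (Nat.card A) → ∀ (C : Type u) [Group C] [Fintype C] (ι : C →* G), Function.Injective ι →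
      (∀ g, g ∈ ι.range ↔ ∀ a ∈ A, a g = g) → GlaubProp p A ι := by
  haveI : Fact p.Prime := ⟨hp⟩
  induction n with
  | zero =>
    intro G _ _ A hA
    have := Nat.card_pos (α := A)
    omega
  | succ n ih =>
    intro G _ _ A hA hpA hcop C _ _ ι hι hr
    by_cases hbot : A = ⊥
    · subst hbot
      have h1 : ∀ a ∈ (⊥ : Subgroup (MulAut G)), ∀ g, a g = g := by
        intro a ha g
        rw [Subgroup.mem_bot.mp ha]
        rfl
      refine glaub_trivial p hp ⊥ h1 ι ⟨hι, fun g => ?_⟩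
      obtain ⟨c, hc⟩ := (hr g).mpr (fun a ha => h1 a ha g)
      exact ⟨c, hc⟩
    · haveI : Nontrivial A := (Subgroup.nontrivial_iff_ne_bot A).mpr hbot
      haveI : Nontrivial (Subgroup.center A) := hpA.center_nontrivial
      have hZ : IsPGroup p (Subgroup.center A) := hpA.to_subgroup _
      have hd : p ∣ Nat.card (Subgroup.center A) := by
        obtain ⟨k, hk⟩ := IsPGroup.iff_card.mp hZ
        rw [hk]
        have hk0 : k ≠ 0 := by
          rintro rfl
          rw [pow_zero] at hk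
          have := (Nat.card_eq_one_iff_unique.mp hk).1
          exact not_subsingleton _ this
        exact dvd_pow_self p hk0
      obtain ⟨z, hz⟩ := exists_prime_orderOf_dvd_card' p hd
      let t : MulAut G := ((z : A) : MulAut G)
      have ht : orderOf t = p := by
        rw [← hz, ← Subgroup.orderOf_coe z, ← Subgroup.orderOf_coe (z : A)]
      have htA : t ∈ A := (z : A).2
      have hcomm : ∀ a ∈ A, Commute a t := by
        intro a ha
        have h1 := Subgroup.mem_center_iff.mp z.2 ⟨a, ha⟩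
        exact congrArg Subtype.val h1
      let T : Subgroup (MulAut G) := Subgroup.zpowers t
      have hTA : T ≤ A := (Subgroup.zpowers_le).mpr htA
      have hTn : ∀ a ∈ A, ∀ τ ∈ T, a * τ * a⁻¹ ∈ T := by
        intro a ha τ hτ
        obtain ⟨k, rfl⟩ := Subgroup.mem_zpowers_iff.mp hτ
        have h1 : Commute a (t ^ k) := (hcomm a ha).zpow_right k
        rw [h1.eq, mul_inv_cancel_right]
        exact hτ
      have hpd : p ∣ Nat.card A := by
        rw [← ht, ← Subgroup.orderOf_mk t htA]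
        exact orderOf_dvd_natCard _
      have hcop' : ¬ p ∣ Nat.card G := by
        intro h
        have := Nat.dvd_gcd h hpd
        rw [hcop] at this
        exact hp.one_lt.ne' (Nat.dvd_one.mp this)
      letI : Fintype (FixS T) := Fintype.ofFinite _
      have hfixT : ∀ g : G, g ∈ FixS T ↔ t g = g := by
        intro g
        constructor
        · intro h
          exact h t (Subgroup.mem_zpowers t)
        · intro h a ha
          obtain ⟨k, rfl⟩ := mem_powers_iff_mem_zpowers.mpr ha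
          clear ha
          induction k with
          | zero => simp
          | succ k ih =>
            show (t ^ (k + 1)) g = g
            rw [pow_succ']
            show t ((t ^ k) g) = g
            have h1 : (t ^ k) g = g := ih
            rw [h1, h]
      have h₁ : GlaubProp p T (FixS T).subtype := core_abs t p hp ht hcop' _ Subtype.val_injective (by
        intro g
        rw [Subgroup.range_subtype]
        exact hfixT g)
      let φ := resAut A T hTn
      have hφs : Function.Surjective φ.rangeRestrict := φ.rangeRestrict_surjective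
      have hpA' : IsPGroup p φ.range := hpA.of_surjective _ hφs
      have hcard : Nat.card φ.range < Nat.card A := by
        by_contra h
        have h2 : Nat.card A ≤ Nat.card φ.range := not_lt.mp h
        have h3 := (hφs.bijective_of_nat_card_le h2).1
        have h4 : φ.rangeRestrict ⟨t, htA⟩ = φ.rangeRestrict 1 := by
          rw [map_one]
          apply Subtype.ext
          show φ ⟨t, htA⟩ = 1
          ext d
          show t d = d
          exact (hfixT d).mp d.2
        have h5 := h3 h4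
        have h6 : t = 1 := congrArg Subtype.val h5
        rw [h6, orderOf_one] at ht
        exact hp.one_lt.ne ht
      have hcop2 : (Nat.card (FixS T)).Coprime (Nat.card φ.range) := by
        have h1 : Nat.card (FixS T) ∣ Nat.card G := Subgroup.card_subgroup_dvd_card _
        have h2 : Nat.card φ.range ∣ Nat.card A := by
          rw [← Subgroup.index_ker]
          exact Subgroup.index_dvd_card _
        exact Nat.Coprime.coprime_dvd_left h1 (Nat.Coprime.coprime_dvd_right h2 hcop)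
      let ι' : C →* FixS T := ι.codRestrict (FixS T) (fun c a ha => (hr (ι c)).mp ⟨c, rfl⟩ a (hTA ha))
      have hι' : Function.Injective ι' := by
        intro a b h
        exact hι (congrArg Subtype.val h)
      have hr' : ∀ d, d ∈ ι'.range ↔ ∀ b ∈ φ.range, b d = d := by
        intro d
        constructor
        · rintro ⟨c, rfl⟩ _ ⟨a, rfl⟩
          apply Subtype.ext
          exact (hr (ι c)).mp ⟨c, rfl⟩ a a.2
        · intro h
          have h1 : (d : G) ∈ ι.range := by
            rw [hr]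
            intro a ha
            have h2 := h _ ⟨⟨a, ha⟩, rfl⟩
            exact congrArg Subtype.val h2
          obtain ⟨c, hc⟩ := h1
          exact ⟨c, Subtype.ext hc⟩
      have h₂ := ih (FixS T) φ.range (by omega) hpA' hcop2 C ι' hι' hr'
      have h₃ := glaub_step hp A T hTA hTn h₁ ι' h₂
      have e : (FixS T).subtype.comp ι' = ι := MonoidHom.ext fun c => rfl
      rwa [e] at h₃

end PGroup

end Cfsg.Agent.Lib.CharGlaub2
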