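import Cfsg.Agent.Lib.CharGlaub2

/-!
# Glauberman correspondence: operators inside an ambient group.
-/

set_option autoImplicit false
set_option linter.unusedVariables false
set_option linter.unusedSectionVars false
set_option linter.style.longLine false

open Cfsg Module
open scoped ComplexConjugate
open Cfsg.Agent.Lib.CharBasic Cfsg.Agent.Lib.CharOrth Cfsg.Agent.Lib.CharAlg Cfsg.Agent.Lib.CharInd
open Cfsg.Agent.Lib.CharPerm Cfsg.Agent.Lib.CharGall Cfsg.Agent.Lib.CharGlaub Cfsg.Agent.Lib.CharGlaub2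

namespace Cfsg.Agent.Lib.CharGlaub3

universe u v

section Ambient

variable {Γ : Type u} [Group Γ]

/-- Conjugation by a subgroup normalising `G`. -/
def conjHom (G S : Subgroup Γ) (hnorm : ∀ s ∈ S, ∀ g ∈ G, s * g * s⁻¹ ∈ G) : S →* MulAut G where
  toFun s :=
    { toFun := fun g => ⟨s * g * (s : Γ)⁻¹, hnorm s s.2 g g.2⟩
      invFun := fun g => ⟨(s : Γ)⁻¹ * g * ((s : Γ)⁻¹)⁻¹, hnorm _ (S.inv_mem s.2) g g.2⟩
      left_inv := fun g => by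
        apply Subtype.ext
        show (s : Γ)⁻¹ * (s * g * (s : Γ)⁻¹) * ((s : Γ)⁻¹)⁻¹ = g
        group
      right_inv := fun g => by
        apply Subtype.ext
        show (s : Γ) * ((s : Γ)⁻¹ * g * ((s : Γ)⁻¹)⁻¹) * (s : Γ)⁻¹ = g
        group
      map_mul' := fun x y => by
        apply Subtype.ext
        show (s : Γ) * (x * y) * (s : Γ)⁻¹ = (s * x * (s : Γ)⁻¹) * (s * y * (s : Γ)⁻¹)
        group }
  map_one' := by
    ext g
    show (1 : Γ) * g * 1⁻¹ = g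
    group
  map_mul' := fun x y => by
    ext g
    show ((x : Γ) * y) * g * ((x : Γ) * y)⁻¹ = x * (y * g * (y : Γ)⁻¹) * (x : Γ)⁻¹
    group

theorem conjHom_apply (G S : Subgroup Γ) (hnorm : ∀ s ∈ S, ∀ g ∈ G, s * g * s⁻¹ ∈ G) (s : S) (g : G) :
    ((conjHom G S hnorm s g : G) : Γ) = s * g * (s : Γ)⁻¹ := rfl

theorem invC_conjHom (G S : Subgroup Γ) [Fintype G] (hnorm : ∀ s ∈ S, ∀ g ∈ G, s * g * s⁻¹ ∈ G) (χ : G → ℂ) :
    InvC (conjHom G S hnorm).range χ ↔ ∀ s ∈ S, ∀ g g' : G, (g' : Γ) = s * g * s⁻¹ → χ g' = χ g := by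
  constructor
  · intro h s hs g g' hg'
    have h1 := h _ ⟨⟨s, hs⟩, rfl⟩ g
    have h2 : conjHom G S hnorm ⟨s, hs⟩ g = g' := Subtype.ext hg'.symm
    rw [h2] at h1
    exact h1
  · rintro h _ ⟨s, rfl⟩ g
    exact h s s.2 g _ rfl

end Ambient

section Mult

variable {C : Type u} [Group C] [Fintype C]

theorem gcorr_pmult {p : ℕ} (hp : p.Prime) {f : C → ℂ} (hf : IsCharacter C f) {β : IrrCharacter C} {ε : ℤ}
    (h : GCorr p f β ε) (hε : ε = 1 ∨ ε = -1) :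
    (∃ m : ℕ, classInner f (β : C → ℂ) = m ∧ ¬ p ∣ m) ∧
      ∀ (β' : IrrCharacter C) (m : ℕ), classInner f (β' : C → ℂ) = m → ¬ p ∣ m → β' = β ∧ ((m : ℤ) ≡ ε [ZMOD p]) := by
  classical
  have hpε : ¬ (p : ℤ) ∣ ε := by
    intro h2
    have h3 : (p : ℤ) ∣ 1 := by
      rcases hε with rfl | rfl
      · exact h2
      · simpa using h2
    have h4 : p ∣ 1 := by exact_mod_cast h3
    exact hp.one_lt.ne' (Nat.dvd_one.mp h4)
  constructor
  · obtain ⟨m, hm⟩ := IsCharacter.classInner_irr_nat hf β.2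
    refine ⟨m, hm, fun hd => ?_⟩
    obtain ⟨b, hb⟩ := h β
    rw [if_pos rfl, hm] at hb
    have h1 : (m : ℤ) = (p : ℤ) * b + ε := by exact_mod_cast hb
    apply hpε
    have h2 : (p : ℤ) ∣ (m : ℤ) := by exact_mod_cast hd
    have h3 : ε = (m : ℤ) - (p : ℤ) * b := by linarith
    rw [h3]
    exact dvd_sub h2 (dvd_mul_right _ _)
  · intro β' m hm hd
    obtain ⟨b, hb⟩ := h β'
    rw [hm] at hb
    by_cases hβ : β' = β
    · refine ⟨hβ, ?_⟩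
      rw [if_pos hβ] at hb
      have h1 : (m : ℤ) = (p : ℤ) * b + ε := by exact_mod_cast hb
      rw [h1, Int.modEq_iff_dvd]
      exact ⟨-b, by ring⟩
    · exfalso
      rw [if_neg hβ] at hb
      have h1 : (m : ℤ) = (p : ℤ) * b + 0 := by exact_mod_cast hb
      apply hd
      have h2 : (p : ℤ) ∣ (m : ℤ) := ⟨b, by linarith⟩
      exact_mod_cast h2

end Mult

section S4444

theorem s4444 {Γ : Type u} [Group Γ] [Fintype Γ] (G S : Subgroup Γ) [Fintype G] (hnorm : ∀ s ∈ S, ∀ g ∈ G, s * g * s⁻¹ ∈ G) (hcop : (Nat.card G).Coprime (Nat.card S)) (p : ℕ) (hp : p.Prime) (hS : IsPGroup p S) (C : Subgroup Γ) [Fintype C] (hC : C = G ⊓ Subgroup.centralizer (S : Set Γ)) (hCG : C ≤ G) : (∀ χ : Cfsg.IrrCharacter G, (∀ s ∈ S, ∀ g g' : G, (g' : Γ) = s * g * s⁻¹ → (χ : G → ℂ) g' = (χ : G → ℂ) g) → ∃! β : Cfsg.IrrCharacter C, ∃ m : ℕ, Cfsg.classInner (fun c : C => (χ : G → ℂ) ⟨c, hCG c.2⟩)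 (β : C → ℂ) = (m : ℂ) ∧ ¬ p ∣ m) ∧ (∀ χ : Cfsg.IrrCharacter G, (∀ s ∈ S, ∀ g g' : G, (g' : Γ) = s * g * s⁻¹ → (χ : G → ℂ) g' = (χ : G → ℂ) g) → ∀ β : Cfsg.IrrCharacter C, ∀ m : ℕ, Cfsg.classInner (fun c : C => (χ : G → ℂ) ⟨c, hCG c.2⟩) (β : C → ℂ) = (m : ℂ) → ¬ p ∣ m → ((m : ℤ) ≡ 1 [ZMOD p] ∨ (m : ℤ) ≡ -1 [ZMOD p])) ∧ (∀ χ χ' : Cfsg.IrrCharacter G, (∀ s ∈ S, ∀ g g' : G, (g' : Γ) = s * g * s⁻¹ → (χ : G → ℂ) g' = (χ : G → ℂ) g) → (∀ s ∈ S, ∀ g g' : G, (g' : Γ) = s * g * s⁻¹ → (χ' : G → ℂ) g' = (χ' : G → ℂ) g) → ∀ β : Cfsg.IrrCharacter C, ∀ m m' : ℕ, Cfsg.classInner (fun c : C => (χ : G → ℂ) ⟨c, hCG c.2⟩) (β : C → ℂ) = (m : ℂ) → ¬ p ∣ m → Cfsg.classInner (fun c : C => (χ' : G → ℂ) ⟨c, hCG c.2⟩) (β : C → ℂ) = (m' : ℂ) → ¬ p ∣ m' → χ = χ') ∧ (∀ β : Cfsg.IrrCharacter C, ∃ χ : Cfsg.IrrCharacter G, (∀ s ∈ S, ∀ g g' : G, (g' : Γ) = s * g * s⁻¹ → (χ : G → ℂ) g' = (χ : G → ℂ) g)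 ∧ ∃ m : ℕ, Cfsg.classInner (fun c : C => (χ : G → ℂ) ⟨c, hCG c.2⟩) (β : C → ℂ) = (m : ℂ) ∧ ¬ p ∣ m) := by
  classical
  haveI : Fact p.Prime := ⟨hp⟩
  let φ := conjHom G S hnorm
  let ι : C →* G := Subgroup.inclusion hCG
  have hι : Function.Injective ι := Subgroup.inclusion_injective hCG
  have hpA : IsPGroup p φ.range := hS.of_surjective _ φ.rangeRestrict_surjective
  have hcop2 : (Nat.card G).Coprime (Nat.card φ.range) := by
    have h2 : Nat.card φ.range ∣ Nat.card S := by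
      rw [← Subgroup.index_ker]
      exact Subgroup.index_dvd_card _
    exact Nat.Coprime.coprime_dvd_right h2 hcop
  have hr : ∀ g, g ∈ ι.range ↔ ∀ a ∈ φ.range, a g = g := by
    intro g
    constructor
    · rintro ⟨c, rfl⟩ _ ⟨s, rfl⟩
      apply Subtype.ext
      show (s : Γ) * c * (s : Γ)⁻¹ = c
      have h1 : (c : Γ) ∈ G ⊓ Subgroup.centralizer (S : Set Γ) := by
        rw [← hC]
        exact c.2
      have h2 := Subgroup.mem_centralizer_iff.mp h1.2 s s.2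
      rw [h2]
      group
    · intro h
      have h1 : (g : Γ) ∈ C := by
        rw [hC]
        refine ⟨g.2, Subgroup.mem_centralizer_iff.mpr fun s hs => ?_⟩
        have h2 := congrArg Subtype.val (h _ ⟨⟨s, hs⟩, rfl⟩)
        have h3 : (s : Γ) * g * s⁻¹ = g := h2
        calc s * (g : Γ) = (s * g * s⁻¹) * s := by group
          _ = _ := by rw [h3]
      exact ⟨⟨g, h1⟩, Subtype.ext rfl⟩
  have hG := glaub_pgroup hp (Nat.card φ.range) G φ.range le_rfl hpA hcop2 C ι hι hr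
  have hcomp : ∀ χ : IrrCharacter G, (fun c : C => (χ : G → ℂ) ⟨c, hCG c.2⟩) = (χ : G → ℂ) ∘ ι := fun χ => rfl
  have hchar : ∀ χ : IrrCharacter G, IsCharacter C ((χ : G → ℂ) ∘ ι) := fun χ => IsCharacter.comp (IsIrrCharacter.isCharacter χ.2) ι
  refine ⟨?_, ?_, ?_, ?_⟩
  · intro χ hχ
    obtain ⟨β, ε, hε, h⟩ := hG.a χ ((invC_conjHom G S hnorm _).mpr hχ)
    have h1 := gcorr_pmult hp (hchar χ) h hε
    refine ⟨β, h1.1, ?_⟩
    rintro β' ⟨m, hm, hd⟩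
    exact (h1.2 β' m hm hd).1
  · intro χ hχ β m hm hd
    obtain ⟨β₀, ε, hε, h⟩ := hG.a χ ((invC_conjHom G S hnorm _).mpr hχ)
    have h1 := gcorr_pmult hp (hchar χ) h hε
    have h2 := (h1.2 β m hm hd).2
    rcases hε with rfl | rfl
    · exact Or.inl h2
    · exact Or.inr h2
  · intro χ χ' hχ hχ' β m m' hm hd hm' hd'
    have iχ := (invC_conjHom G S hnorm _).mpr hχ
    have iχ' := (invC_conjHom G S hnorm _).mpr hχ'
    obtain ⟨β₀, ε, hε, h⟩ := hG.a χ iχ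
    obtain ⟨β₀', ε', hε', h'⟩ := hG.a χ' iχ'
    have h1 := ((gcorr_pmult hp (hchar χ) h hε).2 β m hm hd).1
    have h2 := ((gcorr_pmult hp (hchar χ') h' hε').2 β m' hm' hd').1
    subst h1
    subst h2
    exact hG.b χ χ' iχ iχ' β ε ε' hε hε' h h'
  · intro β
    obtain ⟨χ, hχ, ε, hε, h⟩ := hG.c β
    exact ⟨χ, (invC_conjHom G S hnorm _).mp hχ, (gcorr_pmult hp (hchar χ) h hε).1⟩

end S4444

end Cfsg.Agent.Lib.CharGlaub3
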