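import Cfsg.Agent.Lib.CharGlaub3
import Cfsg.Agent.Lib.CharBrauer2

/-!
# Glauberman correspondence: Adams operations and cyclic operator groups.
-/

set_option autoImplicit false
set_option linter.unusedVariables false
set_option linter.unusedSectionVars false
set_option linter.style.longLine false

open Cfsg Module
open scoped ComplexConjugate
open Cfsg.Agent.Lib.CharBasic Cfsg.Agent.Lib.CharOrth Cfsg.Agent.Lib.CharAlg Cfsg.Agent.Lib.CharInd
open Cfsg.Agent.Lib.CharPerm Cfsg.Agent.Lib.CharGall Cfsg.Agent.Lib.CharGlaub Cfsg.Agent.Lib.CharGlaub2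
open Cfsg.Agent.Lib.CharGlaub3 Cfsg.Agent.Lib.CharBrauer Cfsg.Agent.Lib.CharBrauer2 Cfsg.Agent.Lib.CharExt
open Cfsg.Agent.Lib.CharLin Cfsg.Agent.Lib.CharMisc2 Cfsg.Agent.Lib.CharGal

namespace Cfsg.Agent.Lib.CharGlaub4

universe u v

section Adams

variable {L : Type u} [Group L] [Fintype L]

theorem ind_pow (E : Subgroup L) (lam : E →* ℂˣ) (k : ℕ) (hk : k.Coprime (Nat.card L)) (g : L) :
    indFun E (fun e => ((lam e : ℂˣ) : ℂ)) (g ^ k) = indFun E (fun e => (((lam ^ k) e : ℂˣ) : ℂ)) g := by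
  classical
  have hmem : ∀ y : L, y ^ k ∈ E → y ∈ E := by
    intro y hy
    have h1 : (powCoprime hk.symm) y ∈ (E.map (MulEquiv.refl L).toMonoidHom) ∨ True := Or.inr trivial
    obtain ⟨l, hl⟩ : ∃ l : ℕ, (k * l) % Nat.card L = 1 % Nat.card L := by
      by_cases h2 : Nat.card L = 1
      · exact ⟨0, by rw [h2]; simp [Nat.mod_one]⟩
      · have h3 : 1 < Nat.card L := by
          have := Nat.card_pos (α := L)
          omega
        obtain ⟨l, -, hl⟩ := Nat.exists_mul_mod_eq_one_of_coprime hk h3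
        exact ⟨l, by rw [hl, Nat.mod_eq_of_lt h3]⟩
    have h4 : y = (y ^ k) ^ l := by
      rw [← pow_mul]
      have h5 : y ^ (k * l) = y ^ ((k * l) % Nat.card L) := (pow_mod_natCard y _).symm
      have h6 : y ^ (1 % Nat.card L) = y := by
        rw [pow_mod_natCard, pow_one]
      rw [h5, hl, h6]
    rw [h4]
    exact E.pow_mem hy l
  simp only [indFun]
  congr 1
  apply Finset.sum_congr rfl
  intro x _
  have h1 : x⁻¹ * g ^ k * x = (x⁻¹ * g * x) ^ k := by
    have := conj_pow (a := x⁻¹) (b := g) (i := k)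
    simpa using this.symm
  rw [h1]
  set y := x⁻¹ * g * x with hy
  by_cases hyE : y ∈ E
  · have hyk : y ^ k ∈ E := E.pow_mem hyE k
    have e1 := extendByZero_of_mem E (fun e => ((lam e : ℂˣ) : ℂ)) hyk
    have e2 := extendByZero_of_mem E (fun e => (((lam ^ k) e : ℂˣ) : ℂ)) hyE
    rw [e1, e2]
    have e3 : (⟨y ^ k, hyk⟩ : E) = (⟨y, hyE⟩ : E) ^ k := Subtype.ext rfl
    rw [e3, map_pow]
    rfl
  · have hyk : y ^ k ∉ E := fun h => hyE (hmem y h)
    rw [extendByZero_of_not_mem E _ hyk, extendByZero_of_not_mem E _ hyE]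

/-- Adams operations on irreducible characters. -/
theorem adams {χ : L → ℂ} (hχ : IsIrrCharacter L χ) (k : ℕ) (hk : k.Coprime (Nat.card L)) :
    IsIrrCharacter L (fun g => χ (g ^ k)) := by
  classical
  obtain ⟨l, hl, he⟩ := brauer_induction (IsIrrCharacter.isCharacter hχ)
  have hgen : IsGeneralizedCharacter L (fun g => χ (g ^ k)) := by
    rw [he]
    clear he hl
    induction l with
    | nil =>
      convert IsGeneralizedCharacter.ofChar (isCharacter_zero (G := L)) using 1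
      funext g
      simp
    | cons t l ih =>
      have h1 : (fun g : L => ((t :: l).map (fun t : (E : Subgroup L) × ((E →* ℂˣ) × ℤ) => (t.2.2 : ℂ) • indFun t.1 (fun e => ((t.2.1 e : ℂˣ) : ℂ)))).sum (g ^ k)) =
          ((t.2.2 : ℂ) • indFun t.1 (fun e => (((t.2.1 ^ k) e : ℂˣ) : ℂ))) +
            (fun g : L => (l.map (fun t : (E : Subgroup L) × ((E →* ℂˣ) × ℤ) => (t.2.2 : ℂ) • indFun t.1 (fun e => ((t.2.1 e : ℂˣ) : ℂ)))).sum (g ^ k)) := by
        funext g
        simp only [List.map_cons, List.sum_cons, Pi.add_apply, Pi.smul_apply, smul_eq_mul]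
        rw [ind_pow _ _ k hk]
      rw [h1]
      refine IsGeneralizedCharacter.add (IsGeneralizedCharacter.zsmul (IsGeneralizedCharacter.ofChar ?_) _) ih
      have := Fintype.ofFinite t.1
      exact IsCharacter.ind t.1 (IsIrrCharacter.isCharacter (isIrrCharacter_of_hom (t.2.1 ^ k)))
  have hnorm : classInner (fun g => χ (g ^ k)) (fun g => χ (g ^ k)) = 1 := by
    rw [← classInner_irr_self hχ]
    simp only [classInner]
    congr 1
    exact Equiv.sum_comp (powCoprime hk.symm) (fun g => χ g * conj (χ g))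
  rcases exists_irr_of_gen_norm_one hgen hnorm with h | h
  · exact h
  · exfalso
    obtain ⟨n, hn, h1⟩ := IsIrrCharacter.map_one_pos h
    obtain ⟨m, hm, h2⟩ := IsIrrCharacter.map_one_pos hχ
    have h3 : (-(fun g => χ (g ^ k))) 1 = -χ 1 := by simp
    rw [h3, h2] at h1
    have h4 : ((n + m : ℕ) : ℂ) = 0 := by
      push_cast
      rw [← h1]
      ring
    have h5 : n + m = 0 := by exact_mod_cast h4
    omega

end Adams


section CyclicCore

variable {L : Type u} [Group L] [Fintype L] {K : Subgroup L} [hK : K.Normal] [Fintype K]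

theorem pow_eq_of_modEq_one {k' : ℕ} (hk1 : k' ≡ 1 [MOD Nat.card K]) (g : L) (hg : g ∈ K) : g ^ k' = g := by
  have h1 : (⟨g, hg⟩ : K) ^ k' = (⟨g, hg⟩ : K) := by
    have h2 : (⟨g, hg⟩ : K) ^ k' = (⟨g, hg⟩ : K) ^ (k' % Nat.card K) := (pow_mod_natCard _ _).symm
    have h3 : (⟨g, hg⟩ : K) ^ (1 % Nat.card K) = (⟨g, hg⟩ : K) := by
      rw [pow_mod_natCard, pow_one]
    have h4 : k' % Nat.card K = 1 % Nat.card K := hk1
    rw [h2, h4, h3]
  exact congrArg Subtype.val h1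

theorem card_L_eq (s : L) (hcop : (orderOf s).Coprime (Nat.card K)) (htop : K ⊔ Subgroup.zpowers s = ⊤) :
    Nat.card L = Nat.card K * orderOf s := by
  have h1 : Subgroup.zpowers s ≤ Subgroup.normalizer (K : Set L) := by
    rw [Subgroup.normalizer_eq_top_iff.mpr hK]
    exact le_top
  have h2 := Cfsg.Agent.Lib.H1Cop.card_sup_of_coprime (K := K) h1 (by rw [Nat.card_zpowers]; exact hcop)
  rw [htop, Nat.card_zpowers] at h2
  rw [← h2]
  exact (Nat.card_congr Subgroup.topEquiv.toEquiv).symm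

theorem adams_fix (s : L) (hcop : (orderOf s).Coprime (Nat.card K)) (htop : K ⊔ Subgroup.zpowers s = ⊤)
    {χ : L → ℂ} (hχ : IsIrrCharacter L χ) (hχK : IsIrrCharacter K (fun n : K => χ n))
    (hdet : (detOrder χ).Coprime (orderOf s)) (k' : ℕ) (hk1 : k' ≡ 1 [MOD Nat.card K]) (hkc : k'.Coprime (orderOf s)) :
    ∀ g, χ (g ^ k') = χ g := by
  classical
  have hkK : k'.Coprime (Nat.card K) := by
    have h1 := Nat.ModEq.gcd_eq hk1
    rw [Nat.Coprime, h1]
    simp
  have hkL : k'.Coprime (Nat.card L) := by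
    rw [card_L_eq s hcop htop]
    exact Nat.Coprime.mul_right hkK hkc
  have hψ := adams hχ k' hkL
  obtain ⟨d, ρ, hρ, hρe⟩ := hχK
  have hV : Nontrivial (Fin d → ℂ) := ((isIrreducible_iff ρ).mp hρ).1
  have he1 : ∀ n : K, χ (K.subtype n) = ρ.character n := fun n => (congrFun hρe n).symm
  have he2 : ∀ n : K, (fun g => χ (g ^ k')) (K.subtype n) = ρ.character n := by
    intro n
    show χ ((n : L) ^ k') = _
    rw [pow_eq_of_modEq_one hk1 _ n.2]
    exact he1 n
  obtain ⟨τ₁, h1, h1c⟩ := exists_rep_of_char_ext K ρ K.subtype (IsIrrCharacter.isCharacter hχ) he1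
  obtain ⟨τ₂, h2, h2c⟩ := exists_rep_of_char_ext K ρ K.subtype (IsIrrCharacter.isCharacter hψ) he2
  obtain ⟨β, hβK, hβ⟩ := exists_scalar_of_two_ext K ρ hρ τ₂ τ₁ h2 h1
  have hdetχ : detChar χ = fun g => LinearMap.det (τ₁ g) := by
    rw [← h1c, detChar_rep]
  have hfr : finrank ℂ (Fin d → ℂ) = d := by simp
  have hdn : d.Coprime (orderOf s) := by
    have h3 := Cfsg.Agent.Lib.CharInt.finrank_dvd_card ρ hρ
    rw [hfr] at h3
    exact Nat.Coprime.coprime_dvd_left h3 hcop.symm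
  -- the cyclic group
  let A := Subgroup.zpowers s
  have hAcomm : ∀ x y : A, (x : L) * y = y * x := by
    rintro ⟨x, hx⟩ ⟨y, hy⟩
    obtain ⟨i, rfl⟩ := Subgroup.mem_zpowers_iff.mp hx
    obtain ⟨j, rfl⟩ := Subgroup.mem_zpowers_iff.mp hy
    exact (Commute.refl s).zpow_zpow i j
  have hAn : ∀ x ∈ A, x ^ orderOf s = 1 := by
    intro x hx
    obtain ⟨i, rfl⟩ := Subgroup.mem_zpowers_iff.mp hx
    rw [← zpow_natCast, ← zpow_mul, mul_comm, zpow_mul, zpow_natCast, pow_orderOf_eq_one, one_zpow]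
  have hD1 : ∀ x ∈ A, LinearMap.det (τ₁ x) = 1 := by
    intro x hx
    have h3 : LinearMap.det (τ₁ x) ^ orderOf s = 1 := by
      rw [← map_pow, ← map_pow, hAn x hx, map_one, map_one]
    have h4 : LinearMap.det (τ₁ x) ^ detOrder χ = 1 := by
      have h5 := congrFun (pow_orderOf_eq_one (detChar χ)) x
      have h6 : detChar χ ^ orderOf (detChar χ) = detChar χ ^ detOrder χ := rfl
      rw [h6, Pi.pow_apply, hdetχ] at h5
      exact h5
    have h5 := pow_gcd_eq_one.mpr ⟨h4, h3⟩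
    rw [Nat.Coprime.gcd_eq_one hdet, pow_one] at h5
    exact h5
  let r₁ : Representation ℂ A (Fin d → ℂ) :=
    { toFun := fun x => τ₁ ((x : L) ^ k')
      map_one' := by simp
      map_mul' := fun x y => by
        have h3 : Commute (x : L) y := hAcomm x y
        show τ₁ (((x : L) * y) ^ k') = _
        rw [h3.mul_pow, map_mul] }
  let r₂ : Representation ℂ A (Fin d → ℂ) := τ₂.comp A.subtype
  have hchars : r₁.character = r₂.character := by
    funext x
    show LinearMap.trace ℂ _ (τ₁ ((x : L) ^ k')) = LinearMap.trace ℂ _ (τ₂ x)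
    have h3 := congrFun h1c ((x : L) ^ k')
    have h4 := congrFun h2c (x : L)
    exact h3.trans h4.symm
  have hdets : ∀ x : A, LinearMap.det (r₁ x) = LinearMap.det (r₂ x) := by
    intro x
    have h3 := detChar_rep r₁
    have h4 := detChar_rep r₂
    rw [hchars, h4] at h3
    exact (congrFun h3 x).symm
  have hβA : ∀ x ∈ A, β x = 1 := by
    intro x hx
    have h3 := hdets ⟨x, hx⟩
    have h4 : LinearMap.det (r₁ ⟨x, hx⟩) = 1 := hD1 _ (A.pow_mem hx k')
    have h5 : LinearMap.det (r₂ ⟨x, hx⟩) = ((β x : ℂˣ) : ℂ) ^ d := by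
      show LinearMap.det (τ₂ x) = _
      rw [hβ x, LinearMap.det_smul, hfr, hD1 x hx, mul_one]
    rw [h4, h5] at h3
    have h6 : (β x) ^ d = 1 := by
      apply Units.ext
      rw [Units.val_pow_eq_pow_val, Units.val_one]
      exact h3.symm
    have h7 : (β x) ^ orderOf s = 1 := by
      rw [← map_pow, hAn x hx, map_one]
    have h8 := pow_gcd_eq_one.mpr ⟨h6, h7⟩
    rw [Nat.Coprime.gcd_eq_one hdn, pow_one] at h8
    exact h8
  have hβ1 : ∀ g, β g = 1 := by
    have h3 : K ⊔ A ≤ β.ker := by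
      apply sup_le
      · intro n hn
        exact hβK ⟨n, hn⟩
      · intro x hx
        exact hβA x hx
    rw [htop] at h3
    intro g
    exact h3 (Subgroup.mem_top g)
  intro g
  have h3 := congrFun h2c g
  have h4 := congrFun h1c g
  show χ (g ^ k') = χ g
  rw [← h3, ← h4]
  show LinearMap.trace ℂ _ (τ₂ g) = LinearMap.trace ℂ _ (τ₁ g)
  rw [hβ g, hβ1 g]
  simp

end CyclicCore


section CyclicCore2

variable {L : Type u} [Group L] [Fintype L] {K : Subgroup L} [hK : K.Normal] [Fintype K]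

theorem gen_fix (s : L) (hcop : (orderOf s).Coprime (Nat.card K)) (htop : K ⊔ Subgroup.zpowers s = ⊤)
    {χ : L → ℂ} (hχ : IsIrrCharacter L χ) (hχK : IsIrrCharacter K (fun n : K => χ n))
    (hdet : (detOrder χ).Coprime (orderOf s)) (k : ℕ) (hk : k.Coprime (orderOf s)) (c : L) (hc : c ∈ K)
    (hcs : Commute c s) : χ (c * s ^ k) = χ (c * s) := by
  obtain ⟨k', hk1, hk2⟩ : ∃ k' : ℕ, k' ≡ k [MOD orderOf s] ∧ k' ≡ 1 [MOD Nat.card K] := by
    let c := Nat.chineseRemainder hcop k 1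
    exact ⟨c.1, c.2.1, c.2.2⟩
  have hkc : k'.Coprime (orderOf s) := by
    have h1 := Nat.ModEq.gcd_eq hk1
    rw [Nat.Coprime, h1]
    exact hk
  have h1 := adams_fix s hcop htop hχ hχK hdet k' hk2 hkc (c * s)
  rw [hcs.mul_pow, pow_eq_of_modEq_one hk2 c hc] at h1
  have h2 : s ^ k' = s ^ k := pow_eq_pow_iff_modEq.mpr hk1
  rw [h2] at h1
  exact h1

theorem core_cyclic (s : L) (hcop : (orderOf s).Coprime (Nat.card K)) (htop : K ⊔ Subgroup.zpowers s = ⊤)
    (C : Subgroup L) [Fintype C] (hC : C = K ⊓ Subgroup.centralizer {s})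
    {χ : L → ℂ} (hχ : IsIrrCharacter L χ) (hχK : IsIrrCharacter K (fun n : K => χ n))
    (hdet : (detOrder χ).Coprime (orderOf s)) :
    ∃ (β : IrrCharacter C) (ε : ℤ), (ε = 1 ∨ ε = -1) ∧ (∀ c : C, χ ((c : L) * s) = (ε : ℂ) * (β : C → ℂ) c) ∧
      classInner (fun c : C => χ c) (β : C → ℂ) ≠ 0 := by
  classical
  obtain ⟨m, r, hr, rfl⟩ := id hχ
  have hn0 : orderOf s ≠ 0 := (orderOf_pos s).ne'
  haveI : NeZero (orderOf s) := ⟨hn0⟩
  obtain ⟨ξ, Γ', _, kk, hξ, hkc, -, -, -, hrat, -⟩ := norm_package (orderOf s)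
  have hCK : ∀ g ∈ C, g ∈ K := by
    intro g hg
    rw [hC] at hg
    exact hg.1
  have hCc : ∀ c : C, Commute (c : L) s := by
    have h0 : ∀ g ∈ C, Commute g s := by
      intro g hg
      rw [hC] at hg
      exact Subgroup.mem_centralizer_singleton_iff.mp hg.2
    exact fun c => h0 c c.2
  let T : (Fin m → ℂ) →ₗ[ℂ] (Fin m → ℂ) := r s
  let rC : Representation ℂ C (Fin m → ℂ) := r.comp C.subtype
  have hT : ∀ c, T ∘ₗ rC c = rC c ∘ₗ T := by
    intro c
    show r s * r c = r c * r s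
    rw [← map_mul, ← map_mul, (hCc c).eq]
  have hTn : T ^ orderOf s = 1 := by
    show (r s) ^ orderOf s = 1
    rw [← map_pow, pow_orderOf_eq_one, map_one]
  obtain ⟨X, hX, hXt⟩ := eigen_decomp rC T hT (orderOf s) hn0 hTn ξ hξ
  have hval : ∀ (k : ℕ) (c : C), r.character ((c : L) * s ^ k) = ∑ j : Fin (orderOf s), ξ ^ ((j : ℕ) * k) * X j c := by
    intro k c
    rw [← hXt k c]
    show LinearMap.trace ℂ _ (r ((c : L) * s ^ k)) = LinearMap.trace ℂ _ (r c * (r s) ^ k)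
    rw [map_mul, map_pow]
  choose a ha using fun j => IsCharacter.exists_nat_coeff (hX j)
  let cf : ℕ → IrrCharacter C → ℂ := fun k β => ∑ j : Fin (orderOf s), ξ ^ ((j : ℕ) * k) * ((a j β : ℕ) : ℂ)
  have hf : ∀ k : ℕ, (fun c : C => r.character ((c : L) * s ^ k)) = ∑ β : IrrCharacter C, cf k β • (β : C → ℂ) := by
    intro k
    funext c
    rw [hval k c]
    simp only [Finset.sum_apply, Pi.smul_apply, smul_eq_mul, cf, Finset.sum_mul]
    rw [Finset.sum_comm]
    apply Finset.sum_congr rfl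
    intro j _
    rw [congrFun (ha j) c]
    simp only [Finset.sum_apply, Pi.smul_apply, smul_eq_mul, Finset.mul_sum]
    apply Finset.sum_congr rfl
    intro β _
    ring
  have hcf : ∀ k β, cf k β = classInner (fun c : C => r.character ((c : L) * s ^ k)) (β : C → ℂ) := by
    intro k β
    rw [hf k, CharGlaub.coeff_inner]
  have hgen : ∀ k : ℕ, k.Coprime (orderOf s) → ∀ β, cf k β = cf 1 β := by
    intro k hk β
    rw [hcf, hcf]
    congr 1
    funext c
    rw [pow_one]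
    exact gen_fix s hcop htop hχ hχK hdet k hk c (hCK c c.2) (hCc c)
  let P : IrrCharacter C → Polynomial ℚ := fun β => ∑ j : Fin (orderOf s), Polynomial.C ((a j β : ℕ) : ℚ) * Polynomial.X ^ (j : ℕ)
  have hP : ∀ (k : ℕ) β, Polynomial.aeval (ξ ^ k) (P β) = cf k β := by
    intro k β
    simp only [P, cf, map_sum, map_mul, map_pow, Polynomial.aeval_C, Polynomial.aeval_X]
    apply Finset.sum_congr rfl
    intro j _
    rw [mul_comm, ← pow_mul, mul_comm k]
    simp
  have hint : ∀ β, ∃ z : ℤ, cf 1 β = (z : ℂ) := by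
    intro β
    have h1 : Polynomial.aeval ξ (P β) = cf 1 β := by
      have := hP 1 β
      rwa [pow_one] at this
    obtain ⟨q, hq⟩ := (hrat (P β)).mpr (fun γ => by
      rw [h1, hP, hgen _ (hkc γ)])
    rw [h1] at hq
    have hI : IsIntegral ℤ (cf 1 β) := by
      apply IsIntegral.sum
      intro j _
      refine IsIntegral.mul (IsIntegral.pow (hξ.isIntegral (orderOf_pos s)) _) ?_
      have := isIntegral_algebraMap (R := ℤ) (A := ℂ) (x := ((a j β : ℕ) : ℤ))
      simpa using this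
    rw [hq] at hI
    have hI2 : IsIntegral ℤ q := by
      have h3 : (q : ℂ) = algebraMap ℚ ℂ q := rfl
      rw [h3] at hI
      exact (isIntegral_algebraMap_iff (algebraMap ℚ ℂ).injective).mp hI
    obtain ⟨z, hz⟩ := IsIntegrallyClosed.isIntegral_iff.mp hI2
    refine ⟨z, ?_⟩
    rw [hq, ← hz]
    simp
  choose z hz using hint
  have hcop' : (Nat.card (Subgroup.zpowers s)).Coprime (Nat.card K) := by
    rw [Nat.card_zpowers]
    exact hcop
  have hf1 : (fun c : C => r.character ((c : L) * s)) = ∑ β : IrrCharacter C, ((z β : ℤ) : ℂ) • (β : C → ℂ) := by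
    have := hf 1
    simp only [pow_one, hz] at this
    exact this
  have hnorm : ∑ β : IrrCharacter C, ((z β : ℤ) : ℂ) * conj ((z β : ℤ) : ℂ) = 1 := by
    rw [← CharGlaub.parseval, ← hf1]
    exact (CharGlaub.coset_inner s hcop' C hC hχ hχK hχ).1 rfl
  have hQ : ∑ β : IrrCharacter C, (z β) ^ 2 = 1 := by
    have h1 : ((∑ β : IrrCharacter C, (z β) ^ 2 : ℤ) : ℂ) = ((1 : ℤ) : ℂ) := by
      push_cast
      rw [← hnorm]
      apply Finset.sum_congr rfl
      intro β _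
      rw [map_intCast, sq]
    exact_mod_cast h1
  obtain ⟨β₀, hβ₀⟩ : ∃ β, z β ≠ 0 := by
    by_contra hno
    push Not at hno
    have h1 : ∑ β : IrrCharacter C, (z β) ^ 2 = 0 := Finset.sum_eq_zero fun β _ => by rw [hno β]; simp
    rw [h1] at hQ
    exact zero_ne_one hQ
  have hrest := Finset.add_sum_erase (Finset.univ : Finset (IrrCharacter C)) (fun β => (z β) ^ 2) (Finset.mem_univ β₀)
  have hrest0 : 0 ≤ ∑ β ∈ (Finset.univ : Finset (IrrCharacter C)).erase β₀, (z β) ^ 2 :=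
    Finset.sum_nonneg fun β _ => sq_nonneg _
  have hz1 : 1 ≤ (z β₀) ^ 2 := by
    have : 0 < (z β₀) ^ 2 := by positivity
    omega
  have hz2 : (z β₀) ^ 2 = 1 := by linarith
  have hrestz : ∑ β ∈ (Finset.univ : Finset (IrrCharacter C)).erase β₀, (z β) ^ 2 = 0 := by linarith
  have hzo : ∀ β, β ≠ β₀ → z β = 0 := by
    intro β hβ
    have h1 := (Finset.sum_eq_zero_iff_of_nonneg (fun β _ => sq_nonneg (z β))).mp hrestz β (Finset.mem_erase.mpr ⟨hβ, Finset.mem_univ _⟩)
    exact pow_eq_zero_iff two_ne_zero |>.mp h1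
  have hε : z β₀ = 1 ∨ z β₀ = -1 := by
    have h1 : (z β₀ - 1) * (z β₀ + 1) = 0 := by nlinarith
    rcases mul_eq_zero.mp h1 with h | h
    · left; linarith
    · right; linarith
  refine ⟨β₀, z β₀, hε, ?_, ?_⟩
  · intro c
    have h1 := congrFun hf1 c
    simp only [Finset.sum_apply, Pi.smul_apply, smul_eq_mul] at h1
    rw [h1, Finset.sum_eq_single β₀]
    · intro β _ hβ
      rw [hzo β hβ]
      simp
    · simp
  · intro h0
    have h1 : cf 0 β₀ = 0 := by
      rw [hcf]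
      simpa using h0
    have h2 : ∑ j : Fin (orderOf s), ((a j β₀ : ℕ) : ℂ) = 0 := by
      have : cf 0 β₀ = ∑ j : Fin (orderOf s), ((a j β₀ : ℕ) : ℂ) := by
        simp [cf]
      rwa [← this]
    have h3 : ((∑ j : Fin (orderOf s), a j β₀ : ℕ) : ℂ) = 0 := by
      push_cast
      exact h2
    have h4 : ∑ j : Fin (orderOf s), a j β₀ = 0 := by exact_mod_cast h3
    have h5 : ∀ j, a j β₀ = 0 := fun j => (Finset.sum_eq_zero_iff.mp h4) j (Finset.mem_univ _)
    have h6 : cf 1 β₀ = 0 := by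
      simp [cf, h5]
    rw [hz] at h6
    exact hβ₀ (by exact_mod_cast h6)

end CyclicCore2


section Canon

variable {L : Type u} [Group L] [Fintype L]

theorem irr_degree_dvd {H : Type u} [Group H] [Fintype H] {θ : H → ℂ} (hθ : IsIrrCharacter H θ) :
    ∃ d : ℕ, θ 1 = d ∧ d ∣ Nat.card H := by
  obtain ⟨k, ρ, hρ, rfl⟩ := hθ
  exact ⟨finrank ℂ (Fin k → ℂ), Representation.char_one ρ, Cfsg.Agent.Lib.CharInt.finrank_dvd_card ρ hρ⟩

/-- Canonical extensions exist. -/
theorem exists_canonical (K : Subgroup L) [hK : K.Normal] [Fintype K] (hcop : (K.index).Coprime (Nat.card K))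
    (hcyc : IsCyclic (L ⧸ K)) {θ : K → ℂ} (hθ : IsIrrCharacter K θ)
    (hinv : ∀ (g : L) (n : K), θ ⟨g * n * g⁻¹, hK.conj_mem n n.2 g⟩ = θ n) :
    ∃ χh : L → ℂ, IsIrrCharacter L χh ∧ (∀ n : K, χh n = θ n) ∧ (detOrder χh).Coprime K.index := by
  classical
  obtain ⟨η, hη, hηK⟩ := char_ext_of_cyclic (N := K) hθ hinv hcyc
  have hdl := detChar_isLinear (IsIrrCharacter.isCharacter hθ)
  have hη1 : IsCharacter L (detChar η) ∧ detChar η 1 = 1 := detChar_isLinear (IsIrrCharacter.isCharacter hη)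
  have hηlam : ∀ n : K, detChar η n = detChar θ n := by
    intro n
    have h1 := detChar_res (N := K) (IsIrrCharacter.isCharacter hη) n
    have h2 : (fun m : K => η m) = θ := funext hηK
    rw [h2] at h1
    exact h1
  have hlinv : ∀ (g : L) (n : K), detChar θ ⟨g * n * g⁻¹, hK.conj_mem (n : L) n.2 g⟩ = detChar θ n := by
    intro g n
    rw [← hηlam, ← hηlam]
    exact classFunction_of_isCharacter hη1.1 n g
  have hord : orderOf (detChar θ) ∣ Nat.card K := by
    apply orderOf_dvd_of_pow_eq_one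
    obtain ⟨m, hm⟩ := exists_hom_of_linear hdl.1 hdl.2
    funext n
    have h1 : (m n) ^ Nat.card K = 1 := by
      rw [← map_pow, pow_card_eq_one', map_one]
    have h2 := congrArg (fun u : ℂˣ => (u : ℂ)) h1
    simp only [Units.val_pow_eq_pow_val, Units.val_one] at h2
    rw [Pi.pow_apply, hm]
    simpa using h2
  have hcopl : (K.index).Coprime (orderOf (detChar θ)) := Nat.Coprime.coprime_dvd_right hord hcop
  obtain ⟨μ, ⟨hμc, hμ1, hμK, hμo⟩, -⟩ := linear_ext_coprime (N := K) (detChar θ) hdl hlinv hcopl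
  obtain ⟨d, hd, hdvd⟩ := irr_degree_dvd hθ
  obtain ⟨χh, ⟨hχh, hχhK, hχhd⟩, -⟩ := ext_det_unique (N := K) θ hθ d hd (Nat.Coprime.coprime_dvd_right hdvd hcop)
    ⟨η, hη, hηK⟩ μ ⟨hμc, hμ1⟩ hμK
  refine ⟨χh, hχh, hχhK, ?_⟩
  show (orderOf (detChar χh)).Coprime _
  rw [hχhd, hμo]
  exact hcopl.symm

theorem fixed_classes_C (K C : Subgroup L) [hK : K.Normal] (x : L) (hcop : (Nat.card (Subgroup.zpowers x)).Coprime (Nat.card K))
    (hC : K ⊓ Subgroup.centralizer ({x} : Set L) = C) :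
    Nat.card {Q : ConjClasses K // ConjClasses.map (MulAut.conjNormal x : K ≃* K).toMonoidHom Q = Q} = Nat.card (ConjClasses C) := by
  classical
  have hCK : C ≤ K := by
    rw [← hC]
    exact inf_le_left
  have hCx : ∀ w ∈ C, x * w = w * x := by
    intro w hw
    rw [← hC] at hw
    exact (Subgroup.mem_centralizer_singleton_iff.mp hw.2).symm
  have hmem : ∀ w ∈ K, x * w = w * x → w ∈ C := by
    intro w hw hc
    rw [← hC]
    exact ⟨hw, Subgroup.mem_centralizer_singleton_iff.mpr hc.symm⟩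
  let ι : C →* K := Subgroup.inclusion hCK
  let f : ConjClasses C → {Q : ConjClasses K // ConjClasses.map (MulAut.conjNormal x : K ≃* K).toMonoidHom Q = Q} := fun Q =>
    ⟨ConjClasses.map ι Q, by
      obtain ⟨w, rfl⟩ := ConjClasses.exists_rep Q
      show ConjClasses.mk ((MulAut.conjNormal x : K ≃* K) (ι w)) = ConjClasses.mk (ι w)
      congr 1
      apply Subtype.ext
      rw [MulAut.conjNormal_apply]
      show x * (w : L) * x⁻¹ = w
      rw [hCx w w.2]
      group⟩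
  have hf : Function.Bijective f := by
    constructor
    · intro Q Q' h
      obtain ⟨w, rfl⟩ := ConjClasses.exists_rep Q
      obtain ⟨w', rfl⟩ := ConjClasses.exists_rep Q'
      have h1 : ConjClasses.mk (ι w) = ConjClasses.mk (ι w') := congrArg Subtype.val h
      obtain ⟨k, hk⟩ := isConj_iff.mp (ConjClasses.mk_eq_mk_iff_isConj.mp h1)
      have hk2 : (k : L) * w * (k : L)⁻¹ = w' := congrArg Subtype.val hk
      have hc0 : ∃ k₀ ∈ K, x * (w : L) * x⁻¹ = k₀ * w * k₀⁻¹ := by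
        refine ⟨1, K.one_mem, ?_⟩
        rw [hCx w w.2]
        group
      obtain ⟨d, hd, hdx, hd2⟩ := (Cfsg.Agent.Lib.CharCyc.glauberman_conj K x hcop w hc0).2 1 K.one_mem k k.2
        (by
          show x * (1 * (w : L) * 1⁻¹) = (1 * (w : L) * 1⁻¹) * x
          simpa using hCx w w.2)
        (by
          rw [hk2]
          exact hCx w' w'.2)
      have hdC : d ∈ C := hmem d hd hdx.symm.eq
      rw [ConjClasses.mk_eq_mk_iff_isConj, isConj_iff]
      refine ⟨⟨d, hdC⟩, Subtype.ext ?_⟩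
      rw [hk2] at hd2
      rw [← hd2]
      show d * (w : L) * d⁻¹ = _
      group
    · rintro ⟨Q, hQ⟩
      obtain ⟨c, rfl⟩ := ConjClasses.exists_rep Q
      have h3 : ConjClasses.mk ((MulAut.conjNormal x : K ≃* K) c) = ConjClasses.mk c := hQ
      obtain ⟨l, hl⟩ := isConj_iff.mp (ConjClasses.mk_eq_mk_iff_isConj.mp h3)
      have h4 : (l : L) * (x * c * x⁻¹) * (l : L)⁻¹ = c := by
        have := congrArg Subtype.val hl
        simpa [MulAut.conjNormal_apply] using this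
      have hc0 : ∃ k₀ ∈ K, x * (c : L) * x⁻¹ = k₀ * c * k₀⁻¹ := by
        refine ⟨(l : L)⁻¹, K.inv_mem l.2, ?_⟩
        conv_rhs => rw [← h4]
        group
      obtain ⟨k, hk, hkx⟩ := (Cfsg.Agent.Lib.CharCyc.glauberman_conj K x hcop c hc0).1
      have hw : (k : L) * c * k⁻¹ ∈ C := hmem _ (K.mul_mem (K.mul_mem hk c.2) (K.inv_mem hk)) hkx.eq
      refine ⟨ConjClasses.mk ⟨_, hw⟩, Subtype.ext ?_⟩
      show ConjClasses.mk (ι ⟨_, hw⟩) = ConjClasses.mk c
      rw [ConjClasses.mk_eq_mk_iff_isConj, isConj_comm, isConj_iff]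
      exact ⟨⟨k, hk⟩, Subtype.ext rfl⟩
  exact (Nat.card_congr (Equiv.ofBijective f hf)).symm

end Canon


section S4446

theorem s4446 {Γ : Type u} [Group Γ] [Fintype Γ] (G S : Subgroup Γ) [Fintype G] (hnorm : ∀ s ∈ S, ∀ g ∈ G, s * g * s⁻¹ ∈ G) (hcop : (Nat.card G).Coprime (Nat.card S)) (htop : G ⊔ S = ⊤) (hcyc : IsCyclic S) (C : Subgroup Γ) [Fintype C] (hC : C = G ⊓ Subgroup.centralizer (S : Set Γ)) (hCG : C ≤ G) : (∀ (χ : Cfsg.IrrCharacter G) (χh : Cfsg.IrrCharacter Γ), (∀ s ∈ S, ∀ g g' : G, (g' : Γ) = s * g * s⁻¹ → (χ : G → ℂ) g' = (χ : G → ℂ) g) → (∀ g : G, (χh : Γ → ℂ) g = (χ : G → ℂ) g) → (Cfsg.detOrder (χh : Γ → ℂ)).Coprime (Nat.card S) → (∃! βε : Cfsg.IrrCharacter C × ℤ, (βε.2 = 1 ∨ βε.2 = -1) ∧ ∀ c : C, ∀ s : Γ, Subgroup.zpowers s = S → (χh : Γ → ℂ) ((c : Γ) * s) = (βε.2 : ℂ) * (βε.1 : C → ℂ) c) ∧ ∀ β : Cfsg.IrrCharacter C, ∀ ε : ℤ, (ε = 1 ∨ ε = -1) → (∀ c : C, ∀ s : Γ, Subgroup.zpowers s = S → (χh : Γ → ℂ) ((c : Γ) *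 s) = (ε : ℂ) * (β : C → ℂ) c) → Cfsg.classInner (fun c : C => (χ : G → ℂ) ⟨c, hCG c.2⟩) (β : C → ℂ) ≠ 0) ∧ (∀ (χ χ' : Cfsg.IrrCharacter G) (χh χh' : Cfsg.IrrCharacter Γ), (∀ s ∈ S, ∀ g g' : G, (g' : Γ) = s * g * s⁻¹ → (χ : G → ℂ) g' = (χ : G → ℂ) g) → (∀ s ∈ S, ∀ g g' : G, (g' : Γ) = s * g * s⁻¹ → (χ' : G → ℂ) g' = (χ' : G → ℂ) g) → (∀ g : G, (χh : Γ → ℂ) g = (χ : G → ℂ) g) → (∀ g : G, (χh' : Γ → ℂ) g = (χ' : G → ℂ) g) → (Cfsg.detOrder (χh : Γ → ℂ)).Coprime (Nat.card S) → (Cfsg.detOrder (χh' : Γ → ℂ)).Coprime (Nat.card S) → ∀ β : Cfsg.IrrCharacter C, ∀ ε ε' : ℤ, (ε = 1 ∨ ε = -1) → (ε' = 1 ∨ ε' = -1) → (∀ c : C, ∀ s : Γ, Subgroup.zpowers s = S → (χh : Γ → ℂ) ((c : Γ) * s) = (ε : ℂ) * (β : C → ℂ) c) → (∀ c : C, ∀ s : Γ, Subgroup.zpowers s = S → (χh' : Γ → ℂ) ((c : Γ) * s) = (ε' : ℂ) * (β : C → ℂ) c) → χ = χ') ∧ (∀ β : Cfsg.IrrCharacter C, ∃ (χ : Cfsg.IrrCharacter G) (χh : Cfsg.IrrCharacter Γ) (ε : ℤ), (∀ s ∈ S, ∀ g g' : G, (g' : Γ)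 = s * g * s⁻¹ → (χ : G → ℂ) g' = (χ : G → ℂ) g) ∧ (∀ g : G, (χh : Γ → ℂ) g = (χ : G → ℂ) g) ∧ (Cfsg.detOrder (χh : Γ → ℂ)).Coprime (Nat.card S) ∧ (ε = 1 ∨ ε = -1) ∧ ∀ c : C, ∀ s : Γ, Subgroup.zpowers s = S → (χh : Γ → ℂ) ((c : Γ) * s) = (ε : ℂ) * (β : C → ℂ) c) := by
  classical
  obtain ⟨s₀, hs₀⟩ : ∃ s₀ : Γ, Subgroup.zpowers s₀ = S := by
    obtain ⟨g, hg⟩ := hcyc.exists_generator
    refine ⟨g, le_antisymm ((Subgroup.zpowers_le).mpr g.2) ?_⟩
    intro x hx
    obtain ⟨i, hi⟩ := Subgroup.mem_zpowers_iff.mp (hg ⟨x, hx⟩)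
    exact Subgroup.mem_zpowers_iff.mpr ⟨i, congrArg Subtype.val hi⟩
  have hs₀S : s₀ ∈ S := by
    rw [← hs₀]
    exact Subgroup.mem_zpowers s₀
  have hcard : orderOf s₀ = Nat.card S := by
    rw [← hs₀, Nat.card_zpowers]
  haveI hGn : G.Normal := by
    rw [← Subgroup.normalizer_eq_top_iff]
    apply top_le_iff.mp
    rw [← htop]
    exact sup_le Subgroup.le_normalizer (Cfsg.Agent.Lib.H1Cop.le_normalizer_of_forall (fun a ha k hk => hnorm a ha k hk))
  have hcop1 : (orderOf s₀).Coprime (Nat.card G) := by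
    rw [hcard]
    exact hcop.symm
  have htop1 : G ⊔ Subgroup.zpowers s₀ = ⊤ := by rw [hs₀]; exact htop
  have hC1 : C = G ⊓ Subgroup.centralizer {s₀} := by
    rw [hC]
    congr 1
    apply le_antisymm
    · exact Subgroup.centralizer_le (by
        intro y hy
        rw [Set.mem_singleton_iff] at hy
        rw [hy]
        exact hs₀S)
    · intro g hg
      rw [Subgroup.mem_centralizer_iff]
      intro y hy
      have hy' : y ∈ Subgroup.zpowers s₀ := by
        rw [hs₀]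
        exact hy
      obtain ⟨i, rfl⟩ := Subgroup.mem_zpowers_iff.mp hy'
      have h1 : Commute g s₀ := Subgroup.mem_centralizer_singleton_iff.mp hg
      exact (h1.zpow_right i).eq.symm
  have hCx : ∀ c : C, Commute (c : Γ) s₀ := by
    have h0 : ∀ g ∈ C, Commute g s₀ := by
      intro g hg
      rw [hC1] at hg
      exact Subgroup.mem_centralizer_singleton_iff.mp hg.2
    exact fun c => h0 c c.2
  have hcopz : (Nat.card (Subgroup.zpowers s₀)).Coprime (Nat.card G) := by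
    rw [Nat.card_zpowers]
    exact hcop1
  -- generators are coprime powers of `s₀`
  have hgen : ∀ s : Γ, Subgroup.zpowers s = S → ∃ k : ℕ, k.Coprime (orderOf s₀) ∧ s = s₀ ^ k := by
    intro s hs
    have h1 : s ∈ Subgroup.zpowers s₀ := by
      rw [hs₀, ← hs]
      exact Subgroup.mem_zpowers s
    obtain ⟨k, rfl⟩ := mem_powers_iff_mem_zpowers.mpr h1
    refine ⟨k, ?_, rfl⟩
    have h2 : orderOf (s₀ ^ k) = orderOf s₀ := by
      rw [← Nat.card_zpowers, ← Nat.card_zpowers, hs, hs₀]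
    rw [orderOf_pow] at h2
    have h3 : 0 < orderOf s₀ := orderOf_pos s₀
    have h5 : (orderOf s₀).gcd k = 1 := (Nat.div_eq_self.mp h2).resolve_left h3.ne'
    rw [Nat.coprime_comm]
    exact h5
  -- data for an extension
  have hdata : ∀ (χ : Cfsg.IrrCharacter G) (χh : Cfsg.IrrCharacter Γ), (∀ g : G, (χh : Γ → ℂ) g = (χ : G → ℂ) g) →
      (Cfsg.detOrder (χh : Γ → ℂ)).Coprime (Nat.card S) →
      ∃ (β : Cfsg.IrrCharacter C) (ε : ℤ), (ε = 1 ∨ ε = -1) ∧ (∀ c : C, ∀ s : Γ, Subgroup.zpowers s = S → (χh : Γ → ℂ) ((c : Γ) * s) = (ε : ℂ) * (β : C → ℂ) c) ∧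
        Cfsg.classInner (fun c : C => (χ : G → ℂ) ⟨c, hCG c.2⟩) (β : C → ℂ) ≠ 0 := by
    intro χ χh hext hdet
    have hχK : IsIrrCharacter G (fun n : G => (χh : Γ → ℂ) n) := by
      have : (fun n : G => (χh : Γ → ℂ) n) = (χ : G → ℂ) := funext hext
      rw [this]
      exact χ.2
    have hdet' : (Cfsg.detOrder (χh : Γ → ℂ)).Coprime (orderOf s₀) := by rw [hcard]; exact hdet
    obtain ⟨β, ε, hε, hf, hne⟩ := core_cyclic s₀ hcop1 htop1 C hC1 χh.2 hχK hdet'
    refine ⟨β, ε, hε, ?_, ?_⟩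
    · intro c s hs
      obtain ⟨k, hk, rfl⟩ := hgen s hs
      rw [gen_fix s₀ hcop1 htop1 χh.2 hχK hdet' k hk c (hCG c.2) (hCx c), hf]
    · have : (fun c : C => (χ : G → ℂ) ⟨c, hCG c.2⟩) = fun c : C => (χh : Γ → ℂ) c := by
        funext c
        exact (hext ⟨c, hCG c.2⟩).symm
      rw [this]
      exact hne
  have hpos : ∀ (β : Cfsg.IrrCharacter C), ∃ n : ℕ, 0 < n ∧ (β : C → ℂ) 1 = n := fun β => IsIrrCharacter.map_one_pos β.2
  have huniq : ∀ (β β' : Cfsg.IrrCharacter C) (ε ε' : ℤ), (ε = 1 ∨ ε = -1) → (ε' = 1 ∨ ε' = -1) →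
      (∀ c : C, (ε : ℂ) * (β : C → ℂ) c = (ε' : ℂ) * (β' : C → ℂ) c) → β = β' ∧ ε = ε' := by
    intro β β' ε ε' hε hε' h
    obtain ⟨n, hn, h1⟩ := hpos β
    obtain ⟨n', hn', h2⟩ := hpos β'
    have h3 := h 1
    rw [h1, h2] at h3
    have h4 : (ε : ℤ) * n = ε' * n' := by exact_mod_cast h3
    have hee : ε = ε' := by
      rcases hε with rfl | rfl <;> rcases hε' with rfl | rfl
      · rfl
      · exfalso
        have : (n : ℤ) + n' = 0 := by linarith
        omega
      · exfalso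
        have : (n : ℤ) + n' = 0 := by linarith
        omega
      · rfl
    subst hee
    refine ⟨?_, rfl⟩
    apply Subtype.ext
    funext c
    have h5 : (ε : ℂ) ≠ 0 := by
      rcases hε with rfl | rfl <;> norm_num
    exact mul_left_cancel₀ h5 (h c)
  have hs₀gen : Subgroup.zpowers s₀ = S := hs₀
  have hinj : ∀ (χ χ' : Cfsg.IrrCharacter G) (χh χh' : Cfsg.IrrCharacter Γ), (∀ g : G, (χh : Γ → ℂ) g = (χ : G → ℂ) g) →
      (∀ g : G, (χh' : Γ → ℂ) g = (χ' : G → ℂ) g) → ∀ β : Cfsg.IrrCharacter C, ∀ ε ε' : ℤ, (ε = 1 ∨ ε = -1) → (ε' = 1 ∨ ε' = -1) →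
      (∀ c : C, ∀ s : Γ, Subgroup.zpowers s = S → (χh : Γ → ℂ) ((c : Γ) * s) = (ε : ℂ) * (β : C → ℂ) c) →
      (∀ c : C, ∀ s : Γ, Subgroup.zpowers s = S → (χh' : Γ → ℂ) ((c : Γ) * s) = (ε' : ℂ) * (β : C → ℂ) c) → χ = χ' := by
    intro χ χ' χh χh' hext hext' β ε ε' hε hε' hf hf'
    by_contra hne
    have hχK : IsIrrCharacter G (fun n : G => (χh : Γ → ℂ) n) := by
      have : (fun n : G => (χh : Γ → ℂ) n) = (χ : G → ℂ) := funext hext
      rw [this]
      exact χ.2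
    have h3 := (Cfsg.Agent.Lib.CharGlaub.coset_inner s₀ hcopz C hC1 χh.2 hχK χh'.2).2 (by
      have h1 : (fun n : G => (χh : Γ → ℂ) n) = (χ : G → ℂ) := funext hext
      have h2 : (fun n : G => (χh' : Γ → ℂ) n) = (χ' : G → ℂ) := funext hext'
      rw [h1, h2, classInner_irr χ'.2 χ.2, if_neg]
      intro h
      exact hne (Subtype.ext h.symm))
    have h7 : (fun c : C => (χh' : Γ → ℂ) ((c : Γ) * s₀)) = (ε' : ℂ) • (β : C → ℂ) := by
      funext c
      simp [hf' c s₀ hs₀gen]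
    have h8 : (fun c : C => (χh : Γ → ℂ) ((c : Γ) * s₀)) = (ε : ℂ) • (β : C → ℂ) := by
      funext c
      simp [hf c s₀ hs₀gen]
    rw [h7, h8, classInner_smul_left, classInner_smul_right, classInner_irr_self β.2, mul_one, map_intCast] at h3
    have h9 : (ε' : ℂ) * (ε : ℂ) ≠ 0 := by
      rcases hε with rfl | rfl <;> rcases hε' with rfl | rfl <;> norm_num
    exact h9 h3
  refine ⟨?_, ?_, ?_⟩
  · intro χ χh hinv hext hdet
    obtain ⟨β, ε, hε, hf, hne⟩ := hdata χ χh hext hdet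
    constructor
    · refine ⟨(β, ε), ⟨hε, hf⟩, ?_⟩
      rintro ⟨β', ε'⟩ ⟨hε', hf'⟩
      have h1 := huniq β' β ε' ε hε' hε (fun c => by
        rw [← hf' c s₀ hs₀gen, hf c s₀ hs₀gen])
      exact Prod.ext h1.1 h1.2
    · intro β' ε' hε' hf'
      have h1 := huniq β' β ε' ε hε' hε (fun c => by
        rw [← hf' c s₀ hs₀gen, hf c s₀ hs₀gen])
      rw [h1.1]
      exact hne
  · intro χ χ' χh χh' _ _ hext hext' _ _ β ε ε' hε hε' hf hf'
    exact hinj χ χ' χh χh' hext hext' β ε ε' hε hε' hf hf'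
  · -- counting
    let α : G ≃* G := MulAut.conjNormal s₀
    let Sα := {χ : Cfsg.IrrCharacter G // (χ : G → ℂ) ∘ α = (χ : G → ℂ)}
    have hinvS : ∀ χ : Sα, ∀ s ∈ S, ∀ g g' : G, (g' : Γ) = s * g * s⁻¹ → (χ.1 : G → ℂ) g' = (χ.1 : G → ℂ) g := by
      intro χ s hs
      have hs' : s ∈ Subgroup.zpowers s₀ := by
        rw [hs₀]
        exact hs
      obtain ⟨k, rfl⟩ := mem_powers_iff_mem_zpowers.mpr hs'
      clear hs hs'
      induction k with
      | zero =>
        intro g g' h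
        have : g' = g := Subtype.ext (by simpa using h)
        rw [this]
      | succ k ih =>
        intro g g' h
        have h1 : (α g : Γ) = s₀ * g * s₀⁻¹ := rfl
        have h2 : (g' : Γ) = (s₀ ^ k) * (α g : Γ) * (s₀ ^ k)⁻¹ := by
          rw [h, h1]
          show (s₀ ^ (k + 1)) * g * (s₀ ^ (k + 1))⁻¹ = _
          rw [pow_succ]
          group
        rw [ih (α g) g' h2]
        exact congrFun χ.2 g
    have hcanon : ∀ χ : Sα, ∃ χh : Cfsg.IrrCharacter Γ, (∀ g : G, (χh : Γ → ℂ) g = (χ.1 : G → ℂ) g) ∧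
        (Cfsg.detOrder (χh : Γ → ℂ)).Coprime (Nat.card S) := by
      intro χ
      have hindex : G.index = Nat.card S := by
        have h1 := card_L_eq s₀ hcop1 htop1
        have h2 := Subgroup.card_mul_index G
        rw [h1] at h2
        have h3 : 0 < Nat.card G := Nat.card_pos
        rw [← hcard]
        exact Nat.eq_of_mul_eq_mul_left h3 h2
      have hmemsup : ∀ g : Γ, ∃ a ∈ G, ∃ b ∈ Subgroup.zpowers s₀, g = a * b := by
        intro g
        have h1 : g ∈ ((G ⊔ Subgroup.zpowers s₀ : Subgroup Γ) : Set Γ) := by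
          rw [htop1]
          exact Subgroup.mem_top g
        rw [Subgroup.normal_mul] at h1
        obtain ⟨a, ha, b, hb, rfl⟩ := Set.mem_mul.mp h1
        exact ⟨a, ha, b, hb, rfl⟩
      have hcyc' : IsCyclic (Γ ⧸ G) := by
        let f : Subgroup.zpowers s₀ →* Γ ⧸ G := (QuotientGroup.mk' G).comp (Subgroup.zpowers s₀).subtype
        have hf : Function.Surjective f := by
          intro q
          obtain ⟨g, rfl⟩ := QuotientGroup.mk_surjective q
          obtain ⟨a, ha, b, hb, rfl⟩ := hmemsup g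
          refine ⟨⟨b, hb⟩, ?_⟩
          show ((b : Γ) : Γ ⧸ G) = ((a * b : Γ) : Γ ⧸ G)
          rw [QuotientGroup.eq]
          have : b⁻¹ * (a * b) = b⁻¹ * a * (b⁻¹)⁻¹ := by group
          rw [this]
          exact hGn.conj_mem a ha b⁻¹
        exact isCyclic_of_surjective f hf
      have hinv' : ∀ (g : Γ) (n : G), (χ.1 : G → ℂ) ⟨g * n * g⁻¹, hGn.conj_mem n n.2 g⟩ = (χ.1 : G → ℂ) n := by
        intro g n
        obtain ⟨a, ha, b, hb, rfl⟩ := hmemsup g
        have hbn : b * n * b⁻¹ ∈ G := hGn.conj_mem n n.2 b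
        have h1 : (⟨a * b * n * (a * b)⁻¹, hGn.conj_mem n n.2 (a * b)⟩ : G) = (⟨a, ha⟩ : G) * ⟨b * n * b⁻¹, hbn⟩ * (⟨a, ha⟩ : G)⁻¹ := by
          apply Subtype.ext
          show a * b * n * (a * b)⁻¹ = a * (b * n * b⁻¹) * a⁻¹
          group
        rw [h1]
        have h2 := classFunction_of_isIrrCharacter χ.1.2 (⟨b * n * b⁻¹, hbn⟩ : G) ⟨a, ha⟩
        rw [h2]
        exact hinvS χ b (by rw [← hs₀]; exact hb) n _ rfl
      obtain ⟨χh, h1, h2, h3⟩ := exists_canonical G (by rw [hindex]; exact hcop.symm) hcyc' χ.1.2 hinv'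
      refine ⟨⟨χh, h1⟩, h2, ?_⟩
      rw [← hindex]
      exact h3
    have hex : ∀ χ : Sα, ∃ (β : Cfsg.IrrCharacter C) (χh : Cfsg.IrrCharacter Γ) (ε : ℤ), (∀ g : G, (χh : Γ → ℂ) g = (χ.1 : G → ℂ) g) ∧
        (Cfsg.detOrder (χh : Γ → ℂ)).Coprime (Nat.card S) ∧ (ε = 1 ∨ ε = -1) ∧
        ∀ c : C, ∀ s : Γ, Subgroup.zpowers s = S → (χh : Γ → ℂ) ((c : Γ) * s) = (ε : ℂ) * (β : C → ℂ) c := by
      intro χ
      obtain ⟨χh, h1, h2⟩ := hcanon χ
      obtain ⟨β, ε, hε, hf, -⟩ := hdata χ.1 χh h1 h2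
      exact ⟨β, χh, ε, h1, h2, hε, hf⟩
    choose Φ χH Ε h1 h2 h3 h4 using hex
    have hΦinj : Function.Injective Φ := by
      intro χ ψ h
      apply Subtype.ext
      have h5 := h4 ψ
      rw [← h] at h5
      exact hinj χ.1 ψ.1 (χH χ) (χH ψ) (h1 χ) (h1 ψ) (Φ χ) (Ε χ) (Ε ψ) (h3 χ) (h3 ψ) (h4 χ) h5
    have hcardS : Nat.card (Cfsg.IrrCharacter C) ≤ Nat.card Sα := by
      rw [CharGlaub2.card_irr_eq]
      have h5 := fixed_classes_C G C s₀ hcopz hC1.symm
      have h6 := card_fixed_classes_aut α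
      rw [← h5]
      exact h6.le
    have hΦbij := hΦinj.bijective_of_nat_card_le hcardS
    intro β
    obtain ⟨χ, rfl⟩ := hΦbij.2 β
    exact ⟨χ.1, χH χ, Ε χ, hinvS χ, h1 χ, h2 χ, h3 χ, h4 χ⟩

end S4446


section Fpf

variable {L : Type u} [Group L] [Fintype L] {K : Subgroup L} [hK : K.Normal] [Fintype K]

open Classical in
/-- The case where all nontrivial powers of `x` have the same centraliser in `K`. -/
theorem core_fpf (x : L) (n : ℕ) (hx : orderOf x = n) (hn2 : 2 ≤ n) (hcop : n.Coprime (Nat.card K))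
    (C : Subgroup L) [Fintype C] (hC : ∀ i : ℕ, 0 < i → i < n → C = K ⊓ Subgroup.centralizer {x ^ i})
    {χ : L → ℂ} (hχ : IsIrrCharacter L χ) (hχK : IsIrrCharacter K (fun n : K => χ n)) :
    ∃ (β : IrrCharacter C) (ε : ℤ) (ζ : ℂ) (t : ℕ) (m : IrrCharacter C → ℕ), IsPrimitiveRoot ζ n ∧ (ε = 1 ∨ ε = -1) ∧
      (∀ i : ℕ, 0 < i → i < n → ∀ c : C, χ ((c : L) * x ^ i) = (ε : ℂ) * ζ ^ (t * i) * (β : C → ℂ) c) ∧
      ∀ c : C, χ c = ∑ β' : IrrCharacter C, (((n : ℂ) * (m β' : ℂ)) + if β' = β then (ε : ℂ) else 0) * (β' : C → ℂ) c := by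
  obtain ⟨d, r, hr, rfl⟩ := id hχ
  have hn0 : n ≠ 0 := by omega
  have hCc : ∀ c : C, Commute (c : L) x := by
    have h0 : ∀ g ∈ C, Commute g x := by
      intro g hg
      have h1 := hg
      have hone : x ^ 1 = x := pow_one x
      rw [hC 1 (by omega) (by omega), hone] at h1
      exact Subgroup.mem_centralizer_singleton_iff.mp h1.2
    exact fun c => h0 c c.2
  let T : (Fin d → ℂ) →ₗ[ℂ] (Fin d → ℂ) := r x
  let rC : Representation ℂ C (Fin d → ℂ) := r.comp C.subtype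
  have hT : ∀ c, T ∘ₗ rC c = rC c ∘ₗ T := by
    intro c
    show r x * r c = r c * r x
    rw [← map_mul, ← map_mul, (hCc c).eq]
  have hTn : T ^ n = 1 := by
    show (r x) ^ n = 1
    rw [← map_pow, ← hx, pow_orderOf_eq_one, map_one]
  let ζ : ℂ := Complex.exp (2 * Real.pi * Complex.I / n)
  have hζ : IsPrimitiveRoot ζ n := Complex.isPrimitiveRoot_exp n hn0
  obtain ⟨X, hX, hXt⟩ := eigen_decomp rC T hT n hn0 hTn ζ hζ
  have hval : ∀ (k : ℕ) (c : C), r.character ((c : L) * x ^ k) = ∑ j : Fin n, ζ ^ ((j : ℕ) * k) * X j c := by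
    intro k c
    rw [← hXt k c]
    show LinearMap.trace ℂ _ (r ((c : L) * x ^ k)) = LinearMap.trace ℂ _ (r c * (r x) ^ k)
    rw [map_mul, map_pow]
  choose a ha using fun j => IsCharacter.exists_nat_coeff (hX j)
  let A : IrrCharacter C → Fin n → ℤ := fun β j => (a j β : ℤ)
  let cf : ℕ → IrrCharacter C → ℂ := fun k β => ∑ j : Fin n, ζ ^ ((j : ℕ) * k) * ((A β j : ℤ) : ℂ)
  have hf : ∀ k : ℕ, (fun c : C => r.character ((c : L) * x ^ k)) = ∑ β : IrrCharacter C, cf k β • (β : C → ℂ) := by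
    intro k
    funext c
    rw [hval k c]
    simp only [Finset.sum_apply, Pi.smul_apply, smul_eq_mul, cf, Finset.sum_mul]
    rw [Finset.sum_comm]
    apply Finset.sum_congr rfl
    intro j _
    rw [congrFun (ha j) c]
    simp only [Finset.sum_apply, Pi.smul_apply, smul_eq_mul, Finset.mul_sum, A]
    apply Finset.sum_congr rfl
    intro β _
    push_cast
    ring
  have hnorm1 : ∀ k ∈ (Finset.range n).erase 0, ∑ β : IrrCharacter C, cf k β * conj (cf k β) = 1 := by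
    intro k hk
    have hk0 : k ≠ 0 := (Finset.mem_erase.mp hk).1
    have hkp : k < n := Finset.mem_range.mp (Finset.mem_erase.mp hk).2
    rw [← CharGlaub.parseval, ← hf k]
    have hcop' : (Nat.card (Subgroup.zpowers (x ^ k))).Coprime (Nat.card K) := by
      rw [Nat.card_zpowers]
      have h1 : orderOf (x ^ k) ∣ n := by
        rw [← hx]
        exact orderOf_pow_dvd k
      exact Nat.Coprime.coprime_dvd_left h1 hcop
    exact (CharGlaub.coset_inner (x ^ k) hcop' C (hC k (Nat.pos_of_ne_zero hk0) hkp) hχ hχK hχ).1 rfl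
  have hsum0 : ∑ k ∈ Finset.range n, ∑ β : IrrCharacter C, cf k β * conj (cf k β) =
      ∑ β : IrrCharacter C, (n : ℂ) * ∑ j : Fin n, ((A β j : ℤ) : ℂ) * conj ((A β j : ℤ) : ℂ) := by
    rw [Finset.sum_comm]
    apply Finset.sum_congr rfl
    intro β _
    exact CharGlaub.discrete_parseval hn0 hζ (fun j => ((A β j : ℤ) : ℂ))
  have hcf0 : ∀ β, cf 0 β = ((∑ j, A β j : ℤ) : ℂ) := by
    intro β
    simp only [cf, mul_zero, pow_zero, one_mul]
    push_cast
    rfl
  have hnpos : 0 < n := by omega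
  have hsplit : ∑ k ∈ Finset.range n, ∑ β : IrrCharacter C, cf k β * conj (cf k β) =
      ∑ β : IrrCharacter C, ((∑ j, A β j : ℤ) : ℂ) ^ 2 + ((n : ℂ) - 1) := by
    rw [← Finset.add_sum_erase _ _ (Finset.mem_range.mpr hnpos), Finset.sum_congr rfl hnorm1, Finset.sum_const,
      Finset.card_erase_of_mem (Finset.mem_range.mpr hnpos), Finset.card_range, nsmul_eq_mul, mul_one]
    congr 1
    · apply Finset.sum_congr rfl
      intro β _
      rw [hcf0, map_intCast, sq]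
    · rw [Nat.cast_sub (by omega)]
      simp
  have hQ : ∑ β : IrrCharacter C, CharGlaub.devQ (A β) = (n : ℤ) - 1 := by
    have h1 : ((∑ β : IrrCharacter C, CharGlaub.devQ (A β) : ℤ) : ℂ) = (((n : ℤ) - 1 : ℤ) : ℂ) := by
      push_cast
      simp only [CharGlaub.devQ, Fintype.card_fin]
      push_cast
      have h2 := hsplit.symm.trans hsum0
      simp only [map_intCast, ← sq] at h2
      push_cast at h2
      rw [Finset.sum_sub_distrib]
      linear_combination -h2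
    exact_mod_cast h1
  have hp1 : (1 : ℤ) ≤ (n : ℤ) - 1 := by
    have h2 : (2 : ℤ) ≤ (n : ℤ) := by exact_mod_cast hn2
    linarith
  obtain ⟨β₀, hβ₀⟩ : ∃ β, ∃ i j, A β i ≠ A β j := by
    by_contra hno
    push Not at hno
    have h1 : ∑ β : IrrCharacter C, CharGlaub.devQ (A β) = 0 :=
      Finset.sum_eq_zero fun β _ => CharGlaub.devQ_of_const _ (hno β)
    rw [h1] at hQ
    linarith
  have hs := CharGlaub.devQ_struct (A β₀) hβ₀
  rw [Fintype.card_fin] at hs
  have hrest := Finset.add_sum_erase (Finset.univ : Finset (IrrCharacter C)) (fun β => CharGlaub.devQ (A β)) (Finset.mem_univ β₀)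
  have hrest0 : 0 ≤ ∑ β ∈ (Finset.univ : Finset (IrrCharacter C)).erase β₀, CharGlaub.devQ (A β) :=
    Finset.sum_nonneg fun β _ => CharGlaub.devQ_nonneg _
  have hQ0 : CharGlaub.devQ (A β₀) = (n : ℤ) - 1 := by
    have := hs.1
    linarith
  have hrestz : ∑ β ∈ (Finset.univ : Finset (IrrCharacter C)).erase β₀, CharGlaub.devQ (A β) = 0 := by
    linarith
  have hother : ∀ β, β ≠ β₀ → ∀ i j, A β i = A β j := by
    intro β hβ i j
    have h1 := (Finset.sum_eq_zero_iff_of_nonneg (fun β _ => CharGlaub.devQ_nonneg (A β))).mp hrestz β (Finset.mem_erase.mpr ⟨hβ, Finset.mem_univ _⟩)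
    exact CharGlaub.devQ_eq_zero _ h1 i j
  obtain ⟨t, ε, b, hε, hab⟩ := hs.2 hQ0
  have hgeom : ∀ i : ℕ, 0 < i → i < n → ∑ j : Fin n, ζ ^ ((j : ℕ) * i) = 0 := by
    intro i hi hin
    have h1 : ∑ j : Fin n, ζ ^ ((j : ℕ) * i) = ∑ j ∈ Finset.range n, (ζ ^ i) ^ j := by
      rw [← Fin.sum_univ_eq_sum_range (fun j => (ζ ^ i) ^ j) n]
      apply Finset.sum_congr rfl
      intro j _
      rw [← pow_mul, mul_comm]
    rw [h1]
    apply CharGlaub.sum_pow_eq_zero_of_ne
    · rw [← pow_mul, mul_comm, pow_mul, hζ.pow_eq_one, one_pow]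
    · intro h
      have := hζ.dvd_of_pow_eq_one i h
      exact absurd (Nat.le_of_dvd hi this) (by omega)
  let j₀ : Fin n := ⟨0, hnpos⟩
  have hcf1 : ∀ (i : ℕ), 0 < i → i < n → ∀ β, cf i β = if β = β₀ then (ε : ℂ) * ζ ^ ((t : ℕ) * i) else 0 := by
    intro i hi hin β
    by_cases hβ : β = β₀
    · subst hβ
      rw [if_pos rfl]
      simp only [cf]
      have h1 : ∀ j : Fin n, ζ ^ ((j : ℕ) * i) * ((A β j : ℤ) : ℂ) = (b : ℂ) * ζ ^ ((j : ℕ) * i) + if j = t then (ε : ℂ) * ζ ^ ((t : ℕ) * i) else 0 := by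
        intro j
        rw [hab j]
        by_cases hj : j = t
        · subst hj
          simp
          ring
        · simp [hj]
          ring
      rw [Finset.sum_congr rfl (fun j _ => h1 j), Finset.sum_add_distrib, ← Finset.mul_sum, hgeom i hi hin, mul_zero, zero_add,
        Finset.sum_ite_eq', if_pos (Finset.mem_univ _)]
    · rw [if_neg hβ]
      simp only [cf]
      have h1 : ∀ j : Fin n, ζ ^ ((j : ℕ) * i) * ((A β j : ℤ) : ℂ) = ((A β j₀ : ℤ) : ℂ) * ζ ^ ((j : ℕ) * i) := by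
        intro j
        rw [hother β hβ j j₀]
        ring
      rw [Finset.sum_congr rfl (fun j _ => h1 j), ← Finset.mul_sum, hgeom i hi hin, mul_zero]
  -- natural number coefficients
  obtain ⟨j₁, hj₁⟩ : ∃ j₁ : Fin n, j₁ ≠ t := by
    by_cases h : (t : ℕ) = 0
    · exact ⟨⟨1, by omega⟩, fun h2 => by
        have := congrArg (fun z : Fin n => (z : ℕ)) h2
        simp at this
        omega⟩
    · exact ⟨⟨0, hnpos⟩, fun h2 => by
        have := congrArg (fun z : Fin n => (z : ℕ)) h2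
        simp at this
        omega⟩
  have hbeq : b = (a j₁ β₀ : ℤ) := by
    have := hab j₁
    rw [if_neg hj₁, add_zero] at this
    exact this.symm
  let m : IrrCharacter C → ℕ := fun β => if β = β₀ then a j₁ β₀ else a j₀ β
  refine ⟨β₀, ε, ζ, t, m, hζ, hε, ?_, ?_⟩
  · intro i hi hin c
    have h1 := congrFun (hf i) c
    rw [h1]
    simp only [Finset.sum_apply, Pi.smul_apply, smul_eq_mul, hcf1 i hi hin]
    rw [Finset.sum_eq_single β₀]
    · rw [if_pos rfl]
    · intro β _ hβ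
      rw [if_neg hβ, zero_mul]
    · simp
  · intro c
    have h1 := congrFun (hf 0) c
    simp only [pow_zero, mul_one] at h1
    rw [h1]
    simp only [Finset.sum_apply, Pi.smul_apply, smul_eq_mul]
    apply Finset.sum_congr rfl
    intro β _
    congr 1
    rw [hcf0]
    by_cases hβ : β = β₀
    · subst hβ
      have h2 : ∀ j, A β j = b + if j = t then ε else 0 := hab
      rw [Finset.sum_congr rfl (fun j _ => h2 j), Finset.sum_add_distrib, Finset.sum_const, Finset.sum_ite_eq',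
        if_pos (Finset.mem_univ _), Finset.card_univ, Fintype.card_fin, if_pos rfl]
      simp only [m, if_true, hbeq]
      push_cast
      simp
    · rw [if_neg hβ, add_zero]
      rw [Finset.sum_congr rfl (fun j _ => hother β hβ j j₀), Finset.sum_const, Finset.card_univ, Fintype.card_fin]
      simp only [m, if_neg hβ, A]
      push_cast
      simp

end Fpf

end Cfsg.Agent.Lib.CharGlaub4
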