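import Cfsg.Agent.Lib.CharGlaub4

/-!
# Glauberman correspondence: fixed-point-free cyclic operator groups.
-/

set_option autoImplicit false
set_option linter.unusedVariables false
set_option linter.unusedSectionVars false
set_option linter.style.longLine false

open Cfsg Module
open scoped ComplexConjugate
open Cfsg.Agent.Lib.CharBasic Cfsg.Agent.Lib.CharOrth Cfsg.Agent.Lib.CharAlg Cfsg.Agent.Lib.CharInd
open Cfsg.Agent.Lib.CharPerm Cfsg.Agent.Lib.CharGall Cfsg.Agent.Lib.CharGlaub Cfsg.Agent.Lib.CharGlaub2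
open Cfsg.Agent.Lib.CharGlaub3 Cfsg.Agent.Lib.CharBrauer Cfsg.Agent.Lib.CharBrauer2 Cfsg.Agent.Lib.CharExt
open Cfsg.Agent.Lib.CharLin Cfsg.Agent.Lib.CharMisc2 Cfsg.Agent.Lib.CharGal Cfsg.Agent.Lib.CharGlaub4

namespace Cfsg.Agent.Lib.CharGlaub5

universe u v

section S4451

theorem charDegree_of_nat {G : Type u} [Group G] {f : G → ℂ} {n : ℕ} (h : f 1 = n) : charDegree f = n := by
  unfold charDegree
  rw [h]
  simp

set_option maxHeartbeats 2000000 in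
open Classical in
theorem s4451 {Γ : Type u} [Group Γ] [Fintype Γ] (G S : Subgroup Γ) [Fintype G] (hnorm : ∀ s ∈ S, ∀ g ∈ G, s * g * s⁻¹ ∈ G) (hcop : (Nat.card G).Coprime (Nat.card S)) (htop : G ⊔ S = ⊤) (hcyc : IsCyclic S) (C : Subgroup Γ) [Fintype C] (hC : C = G ⊓ Subgroup.centralizer (S : Set Γ)) (hCG : C ≤ G) (hfpf : ∀ x ∈ S, x ≠ 1 → G ⊓ Subgroup.centralizer ({x} : Set Γ) = C) (χ : Cfsg.IrrCharacter G) (hinv : (∀ s ∈ S, ∀ g g' : G, (g' : Γ) = s * g * s⁻¹ → (χ : G → ℂ) g' = (χ : G → ℂ) g)) (χh : Cfsg.IrrCharacter Γ) (hext : (∀ g : G, (χh : Γ → ℂ) g = (χ : G → ℂ) g)) (hdet : (Cfsg.detOrder (χh : Γ → ℂ)).Coprime (Nat.card S)) (β : Cfsg.IrrCharacter C) (ε₀ : ℤ) (hε₀ : ε₀ = 1 ∨ ε₀ = -1) (hβ : ∀ c : C, ∀ s : Γ, Subgroup.zpowers s = S → (χh : Γ → ℂ) ((c : Γ) * s) = (ε₀ : ℂ) * (β : C → ℂ) c) : ∃ ε : ℤ, (ε = 1 ∨ ε = -1) ∧ (∃ μ : S → ℂ, Cfsg.IsCharacter S μ ∧ μ 1 = 1 ∧ (∀ x : S,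 μ x * μ x = 1) ∧ ∀ c : C, ∀ x : S, x ≠ 1 → (χh : Γ → ℂ) ((c : Γ) * x) = (ε : ℂ) * (β : C → ℂ) c * μ x) ∧ (∃ ϑ : C → ℂ, Cfsg.IsCharacter C ϑ ∧ (fun c : C => (χ : G → ℂ) ⟨c, hCG c.2⟩) = fun c => (Nat.card S : ℂ) * ϑ c + (ε : ℂ) * (β : C → ℂ) c) ∧ (Nat.card S : ℤ) ∣ (Cfsg.charDegree (χ : G → ℂ) : ℤ) - ε * (Cfsg.charDegree (β : C → ℂ) : ℤ) := by
  obtain ⟨s₀, hs₀⟩ : ∃ s₀ : Γ, Subgroup.zpowers s₀ = S := by
    obtain ⟨g, hg⟩ := hcyc.exists_generator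
    refine ⟨g, le_antisymm ((Subgroup.zpowers_le).mpr g.2) ?_⟩
    intro x hx
    obtain ⟨i, hi⟩ := Subgroup.mem_zpowers_iff.mp (hg ⟨x, hx⟩)
    exact Subgroup.mem_zpowers_iff.mpr ⟨i, congrArg Subtype.val hi⟩
  have hs₀S : s₀ ∈ S := by
    rw [← hs₀]
    exact Subgroup.mem_zpowers s₀
  have hcard : orderOf s₀ = Nat.card S := by
    rw [← hs₀, Nat.card_zpowers]
  haveI hGn : G.Normal := by
    rw [← Subgroup.normalizer_eq_top_iff]
    apply top_le_iff.mp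
    rw [← htop]
    exact sup_le Subgroup.le_normalizer (Cfsg.Agent.Lib.H1Cop.le_normalizer_of_forall (fun a ha k hk => hnorm a ha k hk))
  have hcop1 : (Nat.card S).Coprime (Nat.card G) := hcop.symm
  have hχK : IsIrrCharacter G (fun n : G => (χh : Γ → ℂ) n) := by
    have h1 : (fun n : G => (χh : Γ → ℂ) n) = (χ : G → ℂ) := funext hext
    rw [h1]
    exact χ.2
  obtain ⟨b₁, hb₁, hb₁'⟩ := IsIrrCharacter.map_one_pos β.2
  have hb₁0 : (β : C → ℂ) 1 ≠ 0 := by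
    rw [hb₁']
    exact_mod_cast hb₁.ne'
  have hdegβ : charDegree (β : C → ℂ) = b₁ := charDegree_of_nat hb₁'
  obtain ⟨a₁, ha₁, ha₁'⟩ := IsIrrCharacter.map_one_pos χ.2
  have hdegχ : charDegree (χ : G → ℂ) = a₁ := charDegree_of_nat ha₁'
  have hCGc : ∀ c : C, (χ : G → ℂ) ⟨c, hCG c.2⟩ = (χh : Γ → ℂ) c := fun c => (hext ⟨c, hCG c.2⟩).symm
  have hS_mem : ∀ x : S, ∃ i : ℕ, i < Nat.card S ∧ (x : Γ) = s₀ ^ i := by
    intro x
    have h1 : (x : Γ) ∈ Subgroup.zpowers s₀ := by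
      rw [hs₀]
      exact x.2
    obtain ⟨k, hk⟩ := mem_powers_iff_mem_zpowers.mpr h1
    refine ⟨k % orderOf s₀, ?_, ?_⟩
    · rw [← hcard]
      exact Nat.mod_lt _ (orderOf_pos s₀)
    · rw [pow_mod_orderOf]
      exact hk.symm
  by_cases hn1 : Nat.card S = 1
  · -- trivial `S`
    have hs1 : s₀ = 1 := by
      rw [← orderOf_eq_one_iff, hcard, hn1]
    have hchi : ∀ c : C, (χh : Γ → ℂ) c = (ε₀ : ℂ) * (β : C → ℂ) c := by
      intro c
      have := hβ c s₀ hs₀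
      rwa [hs1, mul_one] at this
    have hε₁ : ε₀ = 1 := by
      have h1 := hchi 1
      have h2 : (χh : Γ → ℂ) ((1 : C) : Γ) = (a₁ : ℂ) := by
        rw [Subgroup.coe_one]
        have h3 := hext 1
        rw [Subgroup.coe_one] at h3
        rw [h3, ha₁']
      rw [h2, hb₁'] at h1
      rcases hε₀ with h | h
      · exact h
      · exfalso
        rw [h] at h1
        have h3 : ((a₁ + b₁ : ℕ) : ℂ) = 0 := by
          push_cast
          rw [h1]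
          push_cast
          ring
        have h4 : a₁ + b₁ = 0 := by exact_mod_cast h3
        omega
    have hS1 : ∀ x : S, x = 1 := by
      intro x
      obtain ⟨i, hi, hx⟩ := hS_mem x
      apply Subtype.ext
      rw [hx, hs1, one_pow, Subgroup.coe_one]
    refine ⟨1, Or.inl rfl, ⟨fun _ => 1, ?_, rfl, fun _ => by norm_num, fun c x hx => absurd (hS1 x) hx⟩, ⟨0, ?_, ?_⟩, ?_⟩
    · exact IsIrrCharacter.isCharacter (isIrrCharacter_of_hom (1 : S →* ℂˣ))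
    · simpa using isCharacter_zero
    · funext c
      rw [hCGc, hchi, hε₁, hn1]
      simp
    · rw [hn1]
      simp
  have hn2 : 2 ≤ Nat.card S := by
    have := Nat.card_pos (α := S)
    omega
  -- general case
  have hCi : ∀ i : ℕ, 0 < i → i < Nat.card S → C = G ⊓ Subgroup.centralizer {s₀ ^ i} := by
    intro i hi hin
    refine (hfpf (s₀ ^ i) (S.pow_mem hs₀S i) ?_).symm
    intro h
    have := orderOf_dvd_of_pow_eq_one h
    rw [hcard] at this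
    have := Nat.le_of_dvd hi this
    omega
  obtain ⟨β₀, ε, ζ, t, m, hζ, hε, h1, h2⟩ := core_fpf (K := G) s₀ (Nat.card S) hcard hn2 hcop1 C hCi χh.2 hχK
  have hεc : (ε : ℂ) * (ε : ℂ) = 1 := by
    rcases hε with h | h <;> rw [h] <;> norm_num
  have hε₀c : (ε₀ : ℂ) * (ε₀ : ℂ) = 1 := by
    rcases hε₀ with h | h <;> rw [h] <;> norm_num
  have hεn : ‖(ε : ℂ)‖ = 1 := by
    rcases hε with h | h <;> rw [h] <;> norm_num
  have hε₀n : ‖(ε₀ : ℂ)‖ = 1 := by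
    rcases hε₀ with h | h <;> rw [h] <;> norm_num
  have hn0 : Nat.card S ≠ 0 := by omega
  have hcomp : ∀ c : C, (ε : ℂ) * ζ ^ t * (β₀ : C → ℂ) c = (ε₀ : ℂ) * (β : C → ℂ) c := by
    intro c
    have h3 := h1 1 (by omega) (by omega) c
    have h4 := hβ c s₀ hs₀
    rw [pow_one, h4, mul_one] at h3
    exact h3.symm
  have hζn : ‖ζ‖ = 1 := hζ.norm'_eq_one hn0
  obtain ⟨b₀, hb₀, hb₀'⟩ := IsIrrCharacter.map_one_pos β₀.2
  have hb01 : b₀ = b₁ := by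
    have h3 := congrArg norm (hcomp 1)
    rw [norm_mul, norm_mul, norm_mul, hεn, hε₀n, norm_pow, hζn, hb₀', hb₁'] at h3
    simp only [one_pow, one_mul, Complex.norm_natCast] at h3
    exact_mod_cast h3
  have hκ : ζ ^ t = (ε : ℂ) * (ε₀ : ℂ) := by
    have h3 := hcomp 1
    rw [hb₀', hb₁', hb01] at h3
    have hb : (b₁ : ℂ) ≠ 0 := by exact_mod_cast hb₁.ne'
    have h4 : (ε : ℂ) * ζ ^ t = (ε₀ : ℂ) := mul_right_cancel₀ hb h3
    calc ζ ^ t = (ε : ℂ) * (ε : ℂ) * ζ ^ t := by rw [hεc, one_mul]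
      _ = (ε : ℂ) * ((ε : ℂ) * ζ ^ t) := by ring
      _ = (ε : ℂ) * (ε₀ : ℂ) := by rw [h4]
  have hββ : β₀ = β := by
    apply Subtype.ext
    funext c
    have h3 := hcomp c
    rw [hκ] at h3
    have h4 : (ε : ℂ) * ((ε : ℂ) * (ε₀ : ℂ)) * (β₀ : C → ℂ) c = (ε₀ : ℂ) * (β₀ : C → ℂ) c := by
      calc (ε : ℂ) * ((ε : ℂ) * (ε₀ : ℂ)) * (β₀ : C → ℂ) c = ((ε : ℂ) * (ε : ℂ)) * ((ε₀ : ℂ) * (β₀ : C → ℂ) c) := by ring
        _ = _ := by rw [hεc, one_mul]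
    rw [h4] at h3
    have h5 : (ε₀ : ℂ) ≠ 0 := by
      intro h
      rw [h] at hε₀n
      simp at hε₀n
    exact mul_left_cancel₀ h5 h3
  subst hββ
  let κ : ℂ := ζ ^ t
  have hκ2 : κ * κ = 1 := by
    show ζ ^ t * ζ ^ t = 1
    rw [hκ]
    calc (ε : ℂ) * (ε₀ : ℂ) * ((ε : ℂ) * (ε₀ : ℂ)) = ((ε : ℂ) * (ε : ℂ)) * ((ε₀ : ℂ) * (ε₀ : ℂ)) := by ring
      _ = 1 := by rw [hεc, hε₀c, one_mul]
  have hκ0 : κ ≠ 0 := by
    intro h
    rw [h, zero_mul] at hκ2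
    exact zero_ne_one hκ2
  have hκn : κ ^ Nat.card S = 1 := by
    show (ζ ^ t) ^ Nat.card S = 1
    rw [← pow_mul, mul_comm, pow_mul, hζ.pow_eq_one, one_pow]
  let g₀ : S := ⟨s₀, hs₀S⟩
  have hg₀ : ∀ x : S, x ∈ Subgroup.zpowers g₀ := by
    intro x
    obtain ⟨i, hi, hx⟩ := hS_mem x
    refine Subgroup.mem_zpowers_iff.mpr ⟨(i : ℤ), ?_⟩
    apply Subtype.ext
    rw [hx]
    simp [g₀]
  have hg₀ord : orderOf g₀ = Nat.card S := by
    rw [← hcard]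
    exact Subgroup.orderOf_mk s₀ hs₀S
  let κu : ℂˣ := Units.mk0 κ hκ0
  have hκu : orderOf κu ∣ orderOf g₀ := by
    rw [hg₀ord]
    apply orderOf_dvd_of_pow_eq_one
    apply Units.ext
    rw [Units.val_pow_eq_pow_val, Units.val_mk0, Units.val_one]
    exact hκn
  let lam : S →* ℂˣ := monoidHomOfForallMemZpowers hg₀ hκu
  have hlamg : lam g₀ = κu := monoidHomOfForallMemZpowers_apply_gen hg₀ hκu
  have hlam : ∀ i : ℕ, (lam (g₀ ^ i) : ℂ) = κ ^ i := by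
    intro i
    rw [map_pow, hlamg]
    simp [κu]
  have hxpow : ∀ x : S, ∃ i : ℕ, i < Nat.card S ∧ x = g₀ ^ i := by
    intro x
    obtain ⟨i, hi, hx⟩ := hS_mem x
    refine ⟨i, hi, ?_⟩
    apply Subtype.ext
    rw [hx]
    simp [g₀]
  refine ⟨ε, hε, ⟨fun x => (lam x : ℂ), IsIrrCharacter.isCharacter (isIrrCharacter_of_hom lam), by simp, ?_, ?_⟩, ⟨∑ β' : IrrCharacter C, (m β' : ℂ) • (β' : C → ℂ), ?_, ?_⟩, ?_⟩
  · intro x
    obtain ⟨i, hi, rfl⟩ := hxpow x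
    show (lam (g₀ ^ i) : ℂ) * (lam (g₀ ^ i) : ℂ) = 1
    rw [hlam, ← mul_pow, hκ2, one_pow]
  · intro c x hx
    obtain ⟨i, hi, rfl⟩ := hxpow x
    have hi0 : 0 < i := by
      rcases Nat.eq_zero_or_pos i with h | h
      · exfalso
        rw [h, pow_zero] at hx
        exact hx rfl
      · exact h
    have h3 := h1 i hi0 hi c
    have h4 : ((g₀ ^ i : S) : Γ) = s₀ ^ i := by simp [g₀]
    rw [h4, h3]
    show _ = (ε : ℂ) * (β₀ : C → ℂ) c * (lam (g₀ ^ i) : ℂ)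
    rw [hlam, pow_mul]
    show (ε : ℂ) * κ ^ i * _ = _
    ring
  · apply IsCharacter.sum
    intro β' _
    exact IsCharacter.nsmul (IsIrrCharacter.isCharacter β'.2) _
  · funext c
    rw [hCGc, h2 c]
    simp only [add_mul, Finset.sum_add_distrib, Finset.sum_apply, Pi.smul_apply, smul_eq_mul, ite_mul, zero_mul, Finset.sum_ite_eq', Finset.mem_univ, if_true, Finset.mul_sum]
    congr 1
    apply Finset.sum_congr rfl
    intro x _
    ring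
  · -- degrees
    have h3 := h2 1
    have h4 : (χh : Γ → ℂ) ((1 : C) : Γ) = (a₁ : ℂ) := by
      rw [Subgroup.coe_one]
      have h5 := hext 1
      rw [Subgroup.coe_one] at h5
      rw [h5, ha₁']
    rw [h4] at h3
    have hϑ : IsCharacter C (∑ β' : IrrCharacter C, (m β' : ℂ) • (β' : C → ℂ)) := by
      apply IsCharacter.sum
      intro β' _
      exact IsCharacter.nsmul (IsIrrCharacter.isCharacter β'.2) _
    obtain ⟨k, hk⟩ := IsCharacter.map_one_nat hϑ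
    have h5 : (a₁ : ℂ) = (Nat.card S : ℂ) * (k : ℂ) + (ε : ℂ) * (b₁ : ℂ) := by
      rw [h3, ← hk]
      simp only [add_mul, Finset.sum_add_distrib, Finset.sum_apply, Pi.smul_apply, smul_eq_mul, ite_mul, zero_mul, Finset.sum_ite_eq', Finset.mem_univ, if_true, Finset.mul_sum]
      rw [hb₀', ← hb01]
      congr 1
      apply Finset.sum_congr rfl
      intro x _
      ring
    rw [hdegχ, hdegβ]
    refine ⟨(k : ℤ), ?_⟩
    have h6 : ((a₁ : ℤ) : ℂ) = (((Nat.card S : ℤ) * (k : ℤ) + ε * (b₁ : ℤ) : ℤ) : ℂ) := by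
      push_cast
      exact_mod_cast h5
    have h7 : (a₁ : ℤ) = (Nat.card S : ℤ) * (k : ℤ) + ε * (b₁ : ℤ) := by exact_mod_cast h6
    rw [h7]
    ring

end S4451

end Cfsg.Agent.Lib.CharGlaub5
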