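import Cfsg.Agent.Lib.Glaub

set_option autoImplicit false
set_option linter.unusedSectionVars false
set_option linter.unusedVariables false
set_option linter.style.longLine false

universe u

namespace Cfsg.Agent.Lib.Glaub

open Cfsg Cfsg.Agent.Lib.IrrBasic Cfsg.Agent.Lib
open Cfsg.Agent.Lib.CharBasic Cfsg.Agent.Lib.CharOrth Cfsg.Agent.Lib.CharAlg Cfsg.Agent.Lib.BlockInfl
open scoped ComplexConjugate

theorem exists_normal_pgroup {X : Type u} [Group X] [Finite X] [Group.IsSolvable X] [Nontrivial X] :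
    ∃ p : ℕ, p.Prime ∧ ∃ E : Subgroup X, E.Normal ∧ E ≠ ⊥ ∧ IsPGroup p E := by
  classical
  obtain ⟨n, hn⟩ := (isSolvable_def X).mp inferInstance
  have hex : ∃ n, derivedSeries X n = ⊥ := ⟨n, hn⟩
  have hm := Nat.find_spec hex
  have hm0 : Nat.find hex ≠ 0 := by
    intro h
    rw [h, derivedSeries_zero] at hm
    exact top_ne_bot hm
  obtain ⟨k, hk⟩ := Nat.exists_eq_succ_of_ne_zero hm0
  have hD : derivedSeries X k ≠ ⊥ := Nat.find_min hex (by omega)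
  have hD2 : derivedSeries X (k + 1) = ⊥ := by
    rw [← hm, hk]
  have hcomm : ∀ x ∈ derivedSeries X k, ∀ y ∈ derivedSeries X k, x * y = y * x := by
    intro x hx y hy
    have h1 : x * y * x⁻¹ * y⁻¹ ∈ derivedSeries X (k + 1) := by
      rw [derivedSeries_succ]
      exact Subgroup.commutator_mem_commutator hx hy
    rw [hD2, Subgroup.mem_bot] at h1
    calc x * y = (x * y * x⁻¹ * y⁻¹) * (y * x) := by group
      _ = y * x := by rw [h1, one_mul]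
  have hNt : Nontrivial (derivedSeries X k) := (Subgroup.nontrivial_iff_ne_bot _).mpr hD
  obtain ⟨p, hp, hdvd⟩ : ∃ p : ℕ, p.Prime ∧ p ∣ Nat.card (derivedSeries X k) :=
    ⟨_, Nat.minFac_prime (Finite.one_lt_card).ne', Nat.minFac_dvd _⟩
  haveI : Fact p.Prime := ⟨hp⟩
  obtain ⟨x, hx⟩ := exists_prime_orderOf_dvd_card' (G := derivedSeries X k) p hdvd
  have hx1 : (x : X) ≠ 1 := by
    intro h
    have : x = 1 := Subtype.ext h
    rw [this, orderOf_one] at hx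
    exact hp.one_lt.ne hx
  have hxp : (x : X) ^ p = 1 := by
    rw [← hx, ← Subgroup.orderOf_coe]
    exact pow_orderOf_eq_one _
  let E : Subgroup X :=
    { carrier := {y | y ∈ derivedSeries X k ∧ y ^ p = 1}
      one_mem' := ⟨Subgroup.one_mem _, one_pow _⟩
      mul_mem' := fun {a b} ha hb => by
        refine ⟨Subgroup.mul_mem _ ha.1 hb.1, ?_⟩
        have h1 : Commute a b := hcomm a ha.1 b hb.1
        rw [h1.mul_pow, ha.2, hb.2, one_mul]
      inv_mem' := fun {a} ha => ⟨Subgroup.inv_mem _ ha.1, by rw [inv_pow, ha.2, inv_one]⟩ }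
  refine ⟨p, hp, E, ⟨?_⟩, ?_, ?_⟩
  · intro y hy g
    refine ⟨(derivedSeries_normal X k).conj_mem y hy.1 g, ?_⟩
    rw [conj_pow, hy.2]
    simp
  · intro h
    have h1 : (x : X) ∈ E := ⟨x.2, hxp⟩
    rw [h, Subgroup.mem_bot] at h1
    exact hx1 h1
  · intro y
    exact ⟨1, Subtype.ext (by
      rw [pow_one]
      exact y.2.2)⟩

section G2
variable {Γ : Type u} [Group Γ] [Finite Γ]

theorem exists_fixed_in {p : ℕ} [Fact p.Prime] (P G : Subgroup Γ) (hP : IsPGroup p P)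
    (hn : ∀ u ∈ P, ∀ g ∈ G, u * g * u⁻¹ ∈ G) (X : Set G)
    (hX : ∀ u : P, ∀ y ∈ X, (⟨u * y * (u : Γ)⁻¹, hn _ u.2 _ y.2⟩ : G) ∈ X) (hc : ¬ p ∣ Nat.card X) :
    ∃ y ∈ X, ∀ u ∈ P, u * (y : Γ) * u⁻¹ = y := by
  classical
  letI inst : MulAction P X :=
    { smul := fun u y => ⟨⟨u * (y : G) * (u : Γ)⁻¹, hn _ u.2 _ y.1.2⟩, hX u y y.2⟩
      one_smul := fun y => by
        apply Subtype.ext
        apply Subtype.ext
        change ((1 : P) : Γ) * (y : G) * ((1 : P) : Γ)⁻¹ = _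
        simp
      mul_smul := fun a b y => by
        apply Subtype.ext
        apply Subtype.ext
        change ((a * b : P) : Γ) * (y : G) * ((a * b : P) : Γ)⁻¹ = (a : Γ) * ((b : Γ) * (y : G) * (b : Γ)⁻¹) * (a : Γ)⁻¹
        push_cast
        group }
  obtain ⟨y, hy⟩ := hP.nonempty_fixed_point_of_prime_not_dvd_card X hc
  refine ⟨y, y.2, fun u hu => ?_⟩
  have h1 := hy ⟨u, hu⟩
  have h2 := congrArg (fun z : X => ((z : G) : Γ)) h1
  exact h2

variable {p : ℕ} [hpf : Fact p.Prime] (P G G₁ : Subgroup Γ) [Fintype G] [Fintype G₁]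

theorem conj_descend (hP : IsPGroup p P) (hn : ∀ u ∈ P, ∀ g ∈ G, u * g * u⁻¹ ∈ G)
    (hp : ¬ p ∣ Nat.card G) (hG₁ : G₁ = G ⊓ Subgroup.centralizer (P : Set Γ)) (hle : G₁ ≤ G)
    (c c' : G₁) (h : IsConj (Subgroup.inclusion hle c) (Subgroup.inclusion hle c')) : IsConj c c' := by
  classical
  obtain ⟨t₀, ht₀⟩ := isConj_iff.mp h
  have ht₀' : (t₀ : Γ) * c * (t₀ : Γ)⁻¹ = c' := congrArg Subtype.val ht₀
  have hcP : ∀ (x : G₁), ∀ u ∈ P, u * (x : Γ) * u⁻¹ = x := by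
    intro x u hu
    have h1 : (x : Γ) ∈ G ⊓ Subgroup.centralizer (P : Set Γ) := hG₁ ▸ x.2
    have h2 := (Subgroup.mem_centralizer_iff.mp h1.2) u hu
    rw [h2]; group
  let X : Set G := {t | (t : Γ) * c * (t : Γ)⁻¹ = c'}
  have hXc : Nat.card X = Nat.card (Subgroup.centralizer ({Subgroup.inclusion hle c} : Set G)) := by
    refine Nat.card_congr (Equiv.ofBijective (fun z : Subgroup.centralizer ({Subgroup.inclusion hle c} : Set G) =>
      (⟨t₀ * z, ?_⟩ : X)) ⟨?_, ?_⟩).symm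
    · have hz : (z : G) * Subgroup.inclusion hle c = Subgroup.inclusion hle c * z :=
        (Subgroup.mem_centralizer_singleton_iff.mp z.2).trans rfl
      have hz' : ((z : G) : Γ) * c = c * ((z : G) : Γ) := congrArg Subtype.val hz
      change (((t₀ * z : G)) : Γ) * c * ((t₀ * z : G) : Γ)⁻¹ = c'
      push_cast
      calc (t₀ : Γ) * (z : G) * c * ((t₀ : Γ) * (z : G))⁻¹ = t₀ * (((z : G) : Γ) * c) * ((z : G) : Γ)⁻¹ * (t₀ : Γ)⁻¹ := by group
        _ = t₀ * (c * ((z : G) : Γ)) * ((z : G) : Γ)⁻¹ * (t₀ : Γ)⁻¹ := by rw [hz']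
        _ = (t₀ : Γ) * c * (t₀ : Γ)⁻¹ := by group
        _ = c' := ht₀'
    · intro a b hab
      have h1 : t₀ * (a : G) = t₀ * (b : G) := congrArg Subtype.val hab
      exact Subtype.ext (mul_left_cancel h1)
    · rintro ⟨t, ht⟩
      have ht' : (t : Γ) * c * (t : Γ)⁻¹ = c' := ht
      have hz : t₀⁻¹ * t ∈ Subgroup.centralizer ({Subgroup.inclusion hle c} : Set G) := by
        rw [Subgroup.mem_centralizer_singleton_iff]
        apply Subtype.ext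
        change (((t₀⁻¹ * t : G)) : Γ) * c = c * ((t₀⁻¹ * t : G) : Γ)
        push_cast
        have h3 : (t₀ : Γ)⁻¹ * c' * (t₀ : Γ) = c := by rw [← ht₀']; group
        calc (t₀ : Γ)⁻¹ * t * c = (t₀ : Γ)⁻¹ * ((t : Γ) * c * (t : Γ)⁻¹) * t := by group
          _ = (t₀ : Γ)⁻¹ * c' * t := by rw [ht']
          _ = ((t₀ : Γ)⁻¹ * c' * (t₀ : Γ)) * ((t₀ : Γ)⁻¹ * t) := by group
          _ = c * ((t₀ : Γ)⁻¹ * t) := by rw [h3]
      refine ⟨⟨_, hz⟩, Subtype.ext ?_⟩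
      change t₀ * (t₀⁻¹ * t) = t
      group
  have hcX : ¬ p ∣ Nat.card X := by
    rw [hXc]
    exact fun h2 => hp (h2.trans (Subgroup.card_subgroup_dvd_card _))
  obtain ⟨t, ht, hfix⟩ := exists_fixed_in P G hP hn X (by
      intro u y hy
      have hy' : (y : Γ) * c * (y : Γ)⁻¹ = c' := hy
      change (u : Γ) * (y : Γ) * (u : Γ)⁻¹ * c * ((u : Γ) * (y : Γ) * (u : Γ)⁻¹)⁻¹ = c'
      have h1 := hcP c u u.2
      have h2 := hcP c' u u.2
      calc (u : Γ) * (y : Γ) * (u : Γ)⁻¹ * c * ((u : Γ) * (y : Γ) * (u : Γ)⁻¹)⁻¹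
          = (u : Γ) * y * ((u : Γ)⁻¹ * c * (u : Γ)) * (y : Γ)⁻¹ * (u : Γ)⁻¹ := by group
        _ = (u : Γ) * y * c * (y : Γ)⁻¹ * (u : Γ)⁻¹ := by
            have h3 : (u : Γ)⁻¹ * c * (u : Γ) = c := by
              conv_lhs => rw [← h1]
              group
            rw [h3]
        _ = (u : Γ) * ((y : Γ) * c * (y : Γ)⁻¹) * (u : Γ)⁻¹ := by group
        _ = c' := by rw [hy', h2]) hcX
  have htG₁ : (t : Γ) ∈ G₁ := by
    rw [hG₁]
    refine ⟨t.2, Subgroup.mem_centralizer_iff.mpr fun u hu => ?_⟩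
    have h3 := hfix u hu
    calc u * (t : Γ) = (u * (t : Γ) * u⁻¹) * u := by group
      _ = (t : Γ) * u := by rw [h3]
  refine isConj_iff.mpr ⟨⟨t, htG₁⟩, Subtype.ext ?_⟩
  exact ht

theorem exists_fixed_conj (hP : IsPGroup p P) (hn : ∀ u ∈ P, ∀ g ∈ G, u * g * u⁻¹ ∈ G)
    (hp : ¬ p ∣ Nat.card G) (hG₁ : G₁ = G ⊓ Subgroup.centralizer (P : Set Γ)) (hle : G₁ ≤ G) (g : G)
    (hinv : ∀ u : P, IsConj g ⟨u * g * (u : Γ)⁻¹, hn _ u.2 _ g.2⟩) :
    ∃ c : G₁, IsConj g (Subgroup.inclusion hle c) := by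
  classical
  let X : Set G := {y | IsConj g y}
  have hXc : Nat.card X = (Subgroup.centralizer ({g} : Set G)).index := by
    rw [← card_class_eq_index g, Nat.card_eq_fintype_card]
    exact Fintype.card_of_subtype _ (fun x => by simp [X])
  have hcX : ¬ p ∣ Nat.card X := by
    rw [hXc]
    exact fun h2 => hp (h2.trans (Subgroup.index_dvd_card _))
  obtain ⟨y, hy, hfix⟩ := exists_fixed_in P G hP hn X (by
      intro u y hy
      have hy' : IsConj g y := hy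
      obtain ⟨t, ht⟩ := isConj_iff.mp hy'
      have h3 := hinv u
      refine h3.trans ?_
      refine isConj_iff.mpr ⟨⟨(u : Γ) * t * (u : Γ)⁻¹, hn _ u.2 _ t.2⟩, Subtype.ext ?_⟩
      have ht' : (t : Γ) * g * (t : Γ)⁻¹ = y := congrArg Subtype.val ht
      change ((u : Γ) * t * (u : Γ)⁻¹) * ((u : Γ) * g * (u : Γ)⁻¹) * ((u : Γ) * t * (u : Γ)⁻¹)⁻¹ = (u : Γ) * y * (u : Γ)⁻¹
      rw [← ht']
      group) hcX
  have hyG₁ : (y : Γ) ∈ G₁ := by
    rw [hG₁]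
    refine ⟨y.2, Subgroup.mem_centralizer_iff.mpr fun u hu => ?_⟩
    have h3 := hfix u hu
    calc u * (y : Γ) = (u * (y : Γ) * u⁻¹) * u := by group
      _ = (y : Γ) * u := by rw [h3]
  exact ⟨⟨y, hyG₁⟩, hy⟩

/-- `S`-invariant classes. -/
def ClInv (S G : Subgroup Γ) : Type u :=
  {K : ConjClasses G // ∀ s ∈ S, ∀ g g' : G, (g' : Γ) = s * g * s⁻¹ → ConjClasses.mk g = K → ConjClasses.mk g' = K}

theorem card_clInv (S : Subgroup Γ) (hPS : P ≤ S) (hS : ∀ s ∈ S, ∀ g ∈ G, s * g * s⁻¹ ∈ G)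
    (hS₁ : ∀ s ∈ S, ∀ g ∈ G₁, s * g * s⁻¹ ∈ G₁)
    (hP : IsPGroup p P) (hp : ¬ p ∣ Nat.card G) (hG₁ : G₁ = G ⊓ Subgroup.centralizer (P : Set Γ)) (hle : G₁ ≤ G) :
    Nat.card (ClInv S G₁) = Nat.card (ClInv S G) := by
  classical
  have hn : ∀ u ∈ P, ∀ g ∈ G, u * g * u⁻¹ ∈ G := fun u hu => hS u (hPS hu)
  let i : G₁ →* G := Subgroup.inclusion hle
  have hdesc := conj_descend P G G₁ (p := p) hP hn hp hG₁ hle
  have hprop : ∀ K : ClInv S G₁, ∀ s ∈ S, ∀ g g' : G, (g' : Γ) = s * g * s⁻¹ → ConjClasses.mk g = ConjClasses.map i K.1 →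
      ConjClasses.mk g' = ConjClasses.map i K.1 := by
    rintro ⟨K₁, hK₁⟩ s hs g g' hg' hgK
    obtain ⟨c, rfl⟩ := ConjClasses.exists_rep K₁
    change ConjClasses.mk g = ConjClasses.mk (i c) at hgK
    change ConjClasses.mk g' = ConjClasses.mk (i c)
    rw [ConjClasses.mk_eq_mk_iff_isConj] at hgK ⊢
    obtain ⟨t, ht⟩ := isConj_iff.mp hgK
    have ht' : (t : Γ) * g * (t : Γ)⁻¹ = c := congrArg Subtype.val ht
    let c' : G₁ := ⟨s * c * s⁻¹, hS₁ s hs _ c.2⟩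
    have h1 : ConjClasses.mk c' = ConjClasses.mk c := hK₁ s hs c c' rfl rfl
    rw [ConjClasses.mk_eq_mk_iff_isConj] at h1
    have h2 : IsConj (i c') (i c) := MonoidHom.map_isConj i h1
    refine IsConj.trans ?_ h2
    refine isConj_iff.mpr ⟨⟨s * t * s⁻¹, hS s hs _ t.2⟩, Subtype.ext ?_⟩
    change (s * t * s⁻¹) * (g' : Γ) * (s * t * s⁻¹)⁻¹ = s * c * s⁻¹
    rw [hg', ← ht']
    group
  let f : ClInv S G₁ → ClInv S G := fun K => ⟨ConjClasses.map i K.1, hprop K⟩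
  have hinj : Function.Injective f := by
    rintro ⟨K, hK⟩ ⟨K', hK'⟩ h
    have h1 : ConjClasses.map i K = ConjClasses.map i K' := congrArg Subtype.val h
    obtain ⟨c, rfl⟩ := ConjClasses.exists_rep K
    obtain ⟨c', rfl⟩ := ConjClasses.exists_rep K'
    have h2 : ConjClasses.mk (i c) = ConjClasses.mk (i c') := h1
    rw [ConjClasses.mk_eq_mk_iff_isConj] at h2
    apply Subtype.ext
    exact ConjClasses.mk_eq_mk_iff_isConj.mpr (hdesc c c' h2)
  have hsurj : Function.Surjective f := by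
    rintro ⟨K, hK⟩
    obtain ⟨g, rfl⟩ := ConjClasses.exists_rep K
    obtain ⟨c, hc⟩ := exists_fixed_conj P G G₁ (p := p) hP hn hp hG₁ hle g (fun u => by
      have h1 := hK u (hPS u.2) g ⟨u * g * (u : Γ)⁻¹, hn _ u.2 _ g.2⟩ rfl rfl
      exact (ConjClasses.mk_eq_mk_iff_isConj.mp h1).symm)
    have hgc : ConjClasses.mk g = ConjClasses.mk (i c) := ConjClasses.mk_eq_mk_iff_isConj.mpr hc
    refine ⟨⟨ConjClasses.mk c, ?_⟩, Subtype.ext hgc.symm⟩
    intro s hs x x' hx' hxc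
    rw [ConjClasses.mk_eq_mk_iff_isConj] at hxc ⊢
    apply hdesc
    apply ConjClasses.mk_eq_mk_iff_isConj.mp
    have h1 : ConjClasses.mk (i x) = ConjClasses.mk g := by
      rw [hgc]
      exact ConjClasses.mk_eq_mk_iff_isConj.mpr (MonoidHom.map_isConj i hxc)
    have h2 := hK s hs (i x) (i x') hx' h1
    rw [h2, hgc]
  exact Nat.card_congr (Equiv.ofBijective f ⟨hinj, hsurj⟩)

/-- The main induction. -/
theorem card_inv_eq (S : Subgroup Γ) [Group.IsSolvable S] : ∀ (n : ℕ) (G : Subgroup Γ) [Fintype G], Nat.card G = n →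
    (∀ s ∈ S, ∀ g ∈ G, s * g * s⁻¹ ∈ G) → (Nat.card G).Coprime (Nat.card S) →
    Nat.card {χ : IrrCharacter G // InvBy S G χ} = Nat.card (ClInv S G) := by
  classical
  intro n
  induction n using Nat.strong_induction_on with
  | _ n ih =>
  intro G _ hGn hS hcop
  by_cases htriv : ∀ s ∈ S, ∀ g ∈ G, s * g * s⁻¹ = g
  · have h1 : ∀ χ : IrrCharacter G, InvBy S G χ := by
      intro χ s hs g g' hg
      refine congrArg χ.1 (Subtype.ext ?_)
      rw [hg, htriv s hs g g.2]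
    have h2 : ∀ K : ConjClasses G, ∀ s ∈ S, ∀ g g' : G, (g' : Γ) = s * g * s⁻¹ → ConjClasses.mk g = K → ConjClasses.mk g' = K := by
      intro K s hs g g' hg hK
      have h3 : g' = g := Subtype.ext (by rw [hg, htriv s hs g g.2])
      rw [h3, hK]
    rw [Nat.card_congr (Equiv.subtypeUnivEquiv h1), card_irr]
    exact (Nat.card_congr (Equiv.subtypeUnivEquiv h2)).symm
  -- the kernel of the action
  let K' : Subgroup S :=
    { carrier := {x | ∀ g ∈ G, (x : Γ) * g * (x : Γ)⁻¹ = g}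
      one_mem' := fun g _ => by simp
      mul_mem' := fun {a b} ha hb g hg => by
        change ((a : Γ) * (b : Γ)) * g * ((a : Γ) * (b : Γ))⁻¹ = g
        calc ((a : Γ) * (b : Γ)) * g * ((a : Γ) * (b : Γ))⁻¹ = (a : Γ) * ((b : Γ) * g * (b : Γ)⁻¹) * (a : Γ)⁻¹ := by group
          _ = g := by rw [hb g hg, ha g hg]
      inv_mem' := fun {a} ha g hg => by
        have h1 := ha g hg
        change (a : Γ)⁻¹ * g * ((a : Γ)⁻¹)⁻¹ = g
        calc (a : Γ)⁻¹ * g * ((a : Γ)⁻¹)⁻¹ = (a : Γ)⁻¹ * ((a : Γ) * g * (a : Γ)⁻¹) * ((a : Γ)⁻¹)⁻¹ := by rw [h1]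
          _ = g := by group }
  have hK'mem : ∀ x : S, x ∈ K' ↔ ∀ g ∈ G, (x : Γ) * g * (x : Γ)⁻¹ = g := fun x => Iff.rfl
  haveI hK'n : K'.Normal := by
    refine ⟨fun x hx s g hg => ?_⟩
    have h0 : (s : Γ)⁻¹ * g * ((s : Γ)⁻¹)⁻¹ ∈ G := hS _ (S.inv_mem s.2) g hg
    have h1 := hx _ h0
    change (s : Γ) * x * (s : Γ)⁻¹ * g * ((s : Γ) * x * (s : Γ)⁻¹)⁻¹ = g
    calc (s : Γ) * x * (s : Γ)⁻¹ * g * ((s : Γ) * x * (s : Γ)⁻¹)⁻¹
        = (s : Γ) * ((x : Γ) * ((s : Γ)⁻¹ * g * ((s : Γ)⁻¹)⁻¹) * (x : Γ)⁻¹) * (s : Γ)⁻¹ := by group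
      _ = (s : Γ) * ((s : Γ)⁻¹ * g * ((s : Γ)⁻¹)⁻¹) * (s : Γ)⁻¹ := by rw [h1]
      _ = g := by group
  have hK'top : K' ≠ ⊤ := by
    intro h
    apply htriv
    intro s hs g hg
    have h1 : (⟨s, hs⟩ : S) ∈ K' := by rw [h]; trivial
    exact h1 g hg
  haveI : Nontrivial (S ⧸ K') := QuotientGroup.nontrivial_iff.mpr hK'top
  obtain ⟨p, hp, E, hEn, hEb, hEp⟩ := exists_normal_pgroup (X := S ⧸ K')
  haveI : Fact p.Prime := ⟨hp⟩
  -- the preimage
  let B : Subgroup S := E.comap (QuotientGroup.mk' K')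
  have hBn : B.Normal := hEn.comap _
  have hfmem : ∀ y : B, QuotientGroup.mk' K' (y : S) ∈ E := fun y => y.2
  let fB : B →* E := MonoidHom.codRestrict ((QuotientGroup.mk' K').comp B.subtype) E hfmem
  have hfB : Function.Surjective fB := by
    rintro ⟨e, he⟩
    obtain ⟨x, rfl⟩ := QuotientGroup.mk_surjective e
    exact ⟨⟨x, he⟩, Subtype.ext rfl⟩
  obtain ⟨P₀⟩ : Nonempty (Sylow p B) := inferInstance
  have hP₀top : (P₀.mapSurjective hfB : Subgroup E) = ⊤ := by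
    exact ((P₀.mapSurjective hfB).is_maximal' (hEp.to_subgroup ⊤) le_top).symm
  have hstar : ∀ y : B, ∃ u ∈ (P₀ : Subgroup B), ∀ g ∈ G, (y : Γ) * g * ((y : S) : Γ)⁻¹ = ((u : B) : Γ) * g * ((u : B) : Γ)⁻¹ := by
    intro y
    have h1 : fB y ∈ (P₀.mapSurjective hfB : Subgroup E) := by rw [hP₀top]; trivial
    obtain ⟨u, hu, hue⟩ := h1
    refine ⟨u, hu, fun g hg => ?_⟩
    have h2 : ((u : S) : S ⧸ K') = ((y : S) : S ⧸ K') := congrArg Subtype.val hue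
    have h3 : (y : S)⁻¹ * (u : S) ∈ K' := by
      rw [← QuotientGroup.eq]
      exact h2.symm
    have h4 := h3 g hg
    have h5 : ((y : S) : Γ)⁻¹ * ((u : S) : Γ) * g * (((y : S) : Γ)⁻¹ * ((u : S) : Γ))⁻¹ = g := h4
    calc ((y : S) : Γ) * g * ((y : S) : Γ)⁻¹
        = ((y : S) : Γ) * (((y : S) : Γ)⁻¹ * ((u : S) : Γ) * g * (((y : S) : Γ)⁻¹ * ((u : S) : Γ))⁻¹) * ((y : S) : Γ)⁻¹ := by rw [h5]
      _ = ((u : B) : Γ) * g * ((u : B) : Γ)⁻¹ := by
          push_cast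
          group
  let P : Subgroup Γ := ((P₀ : Subgroup B).map B.subtype).map S.subtype
  have hPmem : ∀ x : Γ, x ∈ P ↔ ∃ u : B, u ∈ (P₀ : Subgroup B) ∧ ((u : S) : Γ) = x := by
    intro x
    constructor
    · rintro ⟨y, ⟨u, hu, rfl⟩, rfl⟩
      exact ⟨u, hu, rfl⟩
    · rintro ⟨u, hu, rfl⟩
      exact ⟨u, ⟨u, hu, rfl⟩, rfl⟩
  have hPS : P ≤ S := Subgroup.map_subtype_le _
  have hPp : IsPGroup p P := (P₀.isPGroup'.map B.subtype).map S.subtype
  obtain ⟨G₁, hG₁⟩ : ∃ G₁ : Subgroup Γ, G₁ = G ⊓ Subgroup.centralizer (P : Set Γ) := ⟨_, rfl⟩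
  haveI : Fintype G₁ := Fintype.ofFinite _
  have hle : G₁ ≤ G := hG₁ ▸ inf_le_left
  have hn : ∀ u ∈ P, ∀ g ∈ G, u * g * u⁻¹ ∈ G := fun u hu => hS u (hPS hu)
  -- nontrivial action of `P`
  obtain ⟨u₁, hu₁P, g₁, hg₁G, hne₁⟩ : ∃ u ∈ P, ∃ g ∈ G, u * g * u⁻¹ ≠ g := by
    obtain ⟨e, he⟩ := Subgroup.ne_bot_iff_exists_ne_one.mp hEb
    have h1 : e ∈ (P₀.mapSurjective hfB : Subgroup E) := by rw [hP₀top]; trivial
    obtain ⟨u, hu, hue⟩ := h1
    have hu1 : ((u : S) : S ⧸ K') ≠ 1 := by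
      intro h
      apply he
      apply Subtype.ext
      rw [← hue]
      exact h
    have hu2 : (u : S) ∉ K' := fun h => hu1 ((QuotientGroup.eq_one_iff _).mpr h)
    rw [hK'mem] at hu2
    push Not at hu2
    obtain ⟨g, hg, hne⟩ := hu2
    exact ⟨((u : S) : Γ), (hPmem _).mpr ⟨u, hu, rfl⟩, g, hg, hne⟩
  have hg₁notin : g₁ ∉ G₁ := by
    intro h
    rw [hG₁] at h
    have h2 := (Subgroup.mem_centralizer_iff.mp h.2) u₁ hu₁P
    apply hne₁
    rw [h2]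
    group
  have hu₁ne : u₁ ≠ 1 := by
    rintro rfl
    apply hne₁
    group
  have hpS : p ∣ Nat.card S := by
    obtain ⟨k, hk⟩ := IsPGroup.iff_orderOf.mp hPp ⟨u₁, hu₁P⟩
    have hk0 : k ≠ 0 := by
      rintro rfl
      rw [pow_zero, orderOf_eq_one_iff] at hk
      exact hu₁ne (congrArg Subtype.val hk)
    have h1 : p ∣ orderOf (⟨u₁, hPS hu₁P⟩ : S) := by
      have h2 : orderOf (⟨u₁, hPS hu₁P⟩ : S) = orderOf (⟨u₁, hu₁P⟩ : P) := by
        rw [Subgroup.orderOf_mk, Subgroup.orderOf_mk]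
      rw [h2, hk]
      exact dvd_pow_self p hk0
    exact h1.trans (orderOf_dvd_natCard _)
  have hpG : ¬ p ∣ Nat.card G := by
    intro h
    have h3 := Nat.dvd_gcd h hpS
    rw [hcop.gcd_eq_one] at h3
    exact hp.one_lt.ne' (Nat.dvd_one.mp h3)
  have hG₁lt : Nat.card G₁ < n := by
    rw [← hGn]
    refine lt_of_le_of_ne (Nat.le_of_dvd Nat.card_pos (Subgroup.card_dvd_of_le hle)) ?_
    intro h
    have h2 := Subgroup.eq_of_le_of_card_ge hle h.ge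
    rw [h2] at hg₁notin
    exact hg₁notin hg₁G
  have hcentG₁ : ∀ g ∈ G₁, ∀ u ∈ P, u * g * u⁻¹ = g := by
    intro g hg u hu
    rw [hG₁] at hg
    have h2 := (Subgroup.mem_centralizer_iff.mp hg.2) u hu
    rw [h2]
    group
  have hS₁ : ∀ s ∈ S, ∀ g ∈ G₁, s * g * s⁻¹ ∈ G₁ := by
    intro s hs g hg
    have hgG : g ∈ G := hle hg
    rw [hG₁]
    refine ⟨hS s hs g hgG, Subgroup.mem_centralizer_iff.mpr fun u hu => ?_⟩
    obtain ⟨u₀, hu₀, rfl⟩ := (hPmem u).mp hu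
    have hy : (⟨s, hs⟩ : S)⁻¹ * (u₀ : S) * (⟨s, hs⟩ : S)⁻¹⁻¹ ∈ B := hBn.conj_mem _ u₀.2 _
    obtain ⟨v, hv, hvg⟩ := hstar ⟨_, hy⟩
    have h1 := hvg g hgG
    have h2 := hcentG₁ g hg _ ((hPmem _).mpr ⟨v, hv, rfl⟩)
    rw [h2] at h1
    have h3 : (s⁻¹ * ((u₀ : S) : Γ) * s) * g * (s⁻¹ * ((u₀ : S) : Γ) * s)⁻¹ = g := by
      have h4 := h1
      push_cast at h4
      simpa using h4
    calc ((u₀ : S) : Γ) * (s * g * s⁻¹)
        = s * ((s⁻¹ * ((u₀ : S) : Γ) * s) * g * (s⁻¹ * ((u₀ : S) : Γ) * s)⁻¹) * s⁻¹ * ((u₀ : S) : Γ) := by group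
      _ = s * g * s⁻¹ * ((u₀ : S) : Γ) := by rw [h3]
  have hcopP : (Nat.card G).Coprime (Nat.card P) :=
    Nat.Coprime.coprime_dvd_right (Subgroup.card_dvd_of_le (H := P.subgroupOf S) (K := ⊤) le_top |>.trans (by
      rw [Subgroup.card_top])
      |> fun h => (by
        have h5 : Nat.card (P.subgroupOf S) = Nat.card P := Nat.card_congr (Subgroup.subgroupOfEquivOfLe hPS).toEquiv
        rwa [h5] at h)) hcop
  have hcorr := corr_all P hPp G G₁ hn hcopP hG₁ hle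
  have hIH := ih _ hG₁lt G₁ rfl hS₁ (Nat.Coprime.coprime_dvd_left (Subgroup.card_dvd_of_le hle) hcop)
  have hPB : ∀ χ : IrrCharacter G, InvBy P G χ → ∀ y : B, ∀ g g' : G,
      (g' : Γ) = ((y : S) : Γ) * g * ((y : S) : Γ)⁻¹ → χ.1 g' = χ.1 g := by
    intro χ hχ y g g' hg
    obtain ⟨v, hv, hvg⟩ := hstar y
    refine hχ _ ((hPmem _).mpr ⟨v, hv, rfl⟩) g g' ?_
    rw [hg, hvg g g.2]
  have hcompat : ∀ (s : Γ) (hs : s ∈ S) (b : G₁), Subgroup.inclusion hle (conjE G₁ s (hS₁ s hs) b) =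
      conjE G s (hS s hs) (Subgroup.inclusion hle b) := fun s hs b => Subtype.ext rfl
  have hA : ∀ (χ : IrrCharacter G) (b : IrrCharacter G₁), InvBy S G χ → Rel p (Subgroup.inclusion hle) χ b → InvBy S G₁ b := by
    intro χ b hχ hr s hs g g' hg
    obtain ⟨b', -, hu⟩ := hcorr.exU χ (fun u hu => hχ u (hPS hu))
    have hpull : pullI (conjE G s (hS s hs)) χ = χ := by
      apply Subtype.ext
      funext x
      exact hχ s hs x _ rfl
    have hr2 := (rel_pull p (conjE G s (hS s hs)) (conjE G₁ s (hS₁ s hs)) _ _ (hcompat s hs) χ b).mpr hr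
    rw [hpull] at hr2
    have h3 : pullI (conjE G₁ s (hS₁ s hs)) b = b := (hu _ hr2).trans (hu _ hr).symm
    have h4 : g' = conjE G₁ s (hS₁ s hs) g := Subtype.ext hg
    rw [h4]
    exact congrFun (congrArg Subtype.val h3) g
  have hB' : ∀ (χ : IrrCharacter G) (b : IrrCharacter G₁), InvBy P G χ → InvBy S G₁ b → Rel p (Subgroup.inclusion hle) χ b → InvBy S G χ := by
    intro χ b hχ hb hr s hs g g' hg
    have hbp : pullI (conjE G₁ s (hS₁ s hs)) b = b := by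
      apply Subtype.ext
      funext x
      exact hb s hs x _ rfl
    have hr2 := (rel_pull p (conjE G s (hS s hs)) (conjE G₁ s (hS₁ s hs)) _ _ (hcompat s hs) χ b).mpr hr
    rw [hbp] at hr2
    have hQ : InvBy P G (pullI (conjE G s (hS s hs)) χ) := by
      intro u hu x x' hx
      obtain ⟨u₀, hu₀, rfl⟩ := (hPmem u).mp hu
      have hy : (⟨s, hs⟩ : S) * (u₀ : S) * (⟨s, hs⟩ : S)⁻¹ ∈ B := hBn.conj_mem _ u₀.2 _
      refine hPB χ hχ ⟨_, hy⟩ _ _ ?_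
      change s * (x' : Γ) * s⁻¹ = (s * ((u₀ : S) : Γ) * s⁻¹) * (s * (x : Γ) * s⁻¹) * (s * ((u₀ : S) : Γ) * s⁻¹)⁻¹
      rw [hx]
      group
    have h5 := hcorr.inj _ hQ χ hχ b hr2 hr
    have h6 : g' = conjE G s (hS s hs) g := Subtype.ext hg
    rw [h6]
    exact congrFun (congrArg Subtype.val h5) g
  have hcardIrr : Nat.card {χ : IrrCharacter G // InvBy S G χ} = Nat.card {b : IrrCharacter G₁ // InvBy S G₁ b} := by
    have hex : ∀ χ : {χ : IrrCharacter G // InvBy S G χ}, ∃ b : {b : IrrCharacter G₁ // InvBy S G₁ b},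
        Rel p (Subgroup.inclusion hle) χ.1 b.1 := by
      intro χ
      obtain ⟨b, hb, -⟩ := hcorr.exU χ.1 (fun u hu => χ.2 u (hPS hu))
      exact ⟨⟨b, hA _ _ χ.2 hb⟩, hb⟩
    choose F hF using hex
    refine Nat.card_congr (Equiv.ofBijective F ⟨?_, ?_⟩)
    · intro a b h
      apply Subtype.ext
      refine hcorr.inj _ (fun u hu => a.2 u (hPS hu)) _ (fun u hu => b.2 u (hPS hu)) (F a).1 (hF a) ?_
      rw [h]
      exact hF b
    · intro b
      obtain ⟨χ, hχ, hr⟩ := hcorr.surj b.1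
      have hχS := hB' χ b.1 hχ b.2 hr
      refine ⟨⟨χ, hχS⟩, Subtype.ext ?_⟩
      obtain ⟨b', -, hu⟩ := hcorr.exU χ hχ
      exact (hu _ (hF ⟨χ, hχS⟩)).trans (hu _ hr).symm
  rw [hcardIrr, hIH]
  exact card_clInv P G G₁ S hPS hS hS₁ hPp hpG hG₁ hle

end G2

end Cfsg.Agent.Lib.Glaub
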