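import Cfsg.Agent.Lib.CharGlaub5
import Cfsg.Agent.Lib.Glaub2
import Cfsg.Agent.Lib.CharProj
import Cfsg.Agent.Lib.CharAbQ
import Cfsg.Agent.Lib.CharClifford

/-!
# Counting irreducible characters of degree prime to a complement.
-/

set_option autoImplicit false
set_option linter.unusedVariables false
set_option linter.unusedSectionVars false
set_option linter.style.longLine false

open Cfsg Module
open scoped ComplexConjugate
open Cfsg.Agent.Lib.CharBasic Cfsg.Agent.Lib.CharOrth Cfsg.Agent.Lib.CharAlg Cfsg.Agent.Lib.CharInd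
open Cfsg.Agent.Lib.CharPerm Cfsg.Agent.Lib.CharGall Cfsg.Agent.Lib.CharGlaub Cfsg.Agent.Lib.CharGlaub2
open Cfsg.Agent.Lib.CharGlaub3 Cfsg.Agent.Lib.CharExt Cfsg.Agent.Lib.CharNormal Cfsg.Agent.Lib.CharClifford
open Cfsg.Agent.Lib.CharLin Cfsg.Agent.Lib.CharMisc2 Cfsg.Agent.Lib.CharGal Cfsg.Agent.Lib.CharGlaub4
open Cfsg.Agent.Lib.CharGlaub5 Cfsg.Agent.Lib.CharMisc Cfsg.Agent.Lib.CharProj Cfsg.Agent.Lib.CharAbQ

namespace Cfsg.Agent.Lib.CharGlaub6

universe u v

section Ext

variable {L : Type u} [Group L] [Fintype L]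

/-- Coprime invariant characters extend. -/
theorem exists_ext_coprime (K : Subgroup L) [hK : K.Normal] [Fintype K] (hcop : (K.index).Coprime (Nat.card K))
    {θ : K → ℂ} (hθ : IsIrrCharacter K θ)
    (hinv : ∀ (g : L) (n : K), θ ⟨g * n * g⁻¹, hK.conj_mem n n.2 g⟩ = θ n) :
    ∃ χ : L → ℂ, IsIrrCharacter L χ ∧ ∀ n : K, χ n = θ n := by
  classical
  have hdl := detChar_isLinear (IsIrrCharacter.isCharacter hθ)
  have hlinv : ∀ (g : L) (n : K), detChar θ ⟨g * n * g⁻¹, hK.conj_mem (n : L) n.2 g⟩ = detChar θ n := by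
    intro g n
    obtain ⟨k, ρ, hρ, rfl⟩ := id hθ
    let σ : Representation ℂ K (Fin k → ℂ) := ρ.comp (MulAut.conjNormal g : K ≃* K).toMonoidHom
    have h1 : σ.character = ρ.character := by
      funext m
      exact hinv g m
    have h2 := detChar_rep σ
    rw [h1, detChar_rep ρ] at h2
    have h3 := congrFun h2 n
    rw [detChar_rep ρ]
    exact h3.symm
  have hord : orderOf (detChar θ) ∣ Nat.card K := by
    apply orderOf_dvd_of_pow_eq_one
    obtain ⟨m, hm⟩ := exists_hom_of_linear hdl.1 hdl.2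
    funext n
    have h1 : (m n) ^ Nat.card K = 1 := by
      rw [← map_pow, pow_card_eq_one', map_one]
    have h2 := congrArg (fun u : ℂˣ => (u : ℂ)) h1
    simp only [Units.val_pow_eq_pow_val, Units.val_one] at h2
    rw [Pi.pow_apply, hm]
    simpa using h2
  have hcopl : (K.index).Coprime (orderOf (detChar θ)) := Nat.Coprime.coprime_dvd_right hord hcop
  obtain ⟨μ, ⟨hμc, hμ1, hμK, hμo⟩, -⟩ := linear_ext_coprime (N := K) (detChar θ) hdl hlinv hcopl
  obtain ⟨d, hd, hdvd⟩ := irr_degree_dvd hθ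
  exact char_ext_of_det (N := K) hθ hinv d hd (Nat.Coprime.coprime_dvd_right hdvd hcop) ⟨hμc, hμ1⟩ hμK

/-- A character whose restriction to a normal subgroup is irreducible is irreducible. -/
theorem irr_of_res_irr (K : Subgroup L) [K.Normal] [Fintype K] {f : L → ℂ} (hf : IsCharacter L f)
    (hfK : IsIrrCharacter K (fun n : K => f n)) : IsIrrCharacter L f := by
  obtain ⟨k, ρ, hρ, hρc⟩ := hfK
  obtain ⟨τ, hτ, hτc⟩ := exists_rep_of_char_ext K ρ K.subtype hf (fun n => (congrFun hρc n).symm)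
  rw [← hτc]
  exact isIrrCharacter_character τ (isIrreducible_of_rep_ext K ρ hρ τ hτ)

/-- Two extensions of an irreducible character differ by a linear character. -/
theorem ext_diff (K : Subgroup L) [K.Normal] [Fintype K] {χ χ' : L → ℂ} (hχ : IsCharacter L χ) (hχ' : IsCharacter L χ')
    (hK : IsIrrCharacter K (fun n : K => χ n)) (h : ∀ n : K, χ n = χ' n) :
    ∃ β : L →* ℂˣ, (∀ n : K, β n = 1) ∧ ∀ g, χ g = β g * χ' g := by
  obtain ⟨k, ρ, hρ, hρc⟩ := hK
  obtain ⟨τ₁, h1, h1c⟩ := exists_rep_of_char_ext K ρ K.subtype hχ (fun n => (congrFun hρc n).symm)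
  obtain ⟨τ₂, h2, h2c⟩ := exists_rep_of_char_ext K ρ K.subtype hχ' (fun n => by
    show χ' n = _
    rw [← h n]
    exact (congrFun hρc n).symm)
  obtain ⟨β, hβ1, hβ⟩ := exists_scalar_of_two_ext K ρ hρ τ₁ τ₂ h1 h2
  refine ⟨β, hβ1, fun g => ?_⟩
  rw [← h1c, ← h2c]
  show LinearMap.trace ℂ _ (τ₁ g) = _ * LinearMap.trace ℂ _ (τ₂ g)
  rw [hβ g, map_smul, smul_eq_mul]

end Ext

section Count

variable {L : Type u} [Group L] [Fintype L]

open Classical in
theorem card_coprime_irr (K H : Subgroup L) [hK : K.Normal] [Fintype K] (htop : K ⊔ H = ⊤)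
    (hcop : (Nat.card K).Coprime (Nat.card H)) :
    Nat.card {χ : IrrCharacter L // (charDegree (χ : L → ℂ)).Coprime (Nat.card H)} =
      Nat.card {θ : IrrCharacter K // Cfsg.Agent.Lib.Glaub.InvBy H K θ} * Nat.card (H →* ℂˣ) := by
  have hinf : K ⊓ H = ⊥ := Subgroup.inf_eq_bot_of_coprime hcop
  have hdec : ∀ g : L, ∃ k ∈ K, ∃ h ∈ H, g = k * h := by
    intro g
    have h1 : g ∈ ((K ⊔ H : Subgroup L) : Set L) := by
      rw [htop]
      exact Subgroup.mem_top g
    rw [Subgroup.normal_mul] at h1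
    obtain ⟨k, hk, h, hh, rfl⟩ := Set.mem_mul.mp h1
    exact ⟨k, hk, h, hh, rfl⟩
  let f : H →* L ⧸ K := (QuotientGroup.mk' K).comp H.subtype
  have hfb : Function.Bijective f := by
    constructor
    · rw [injective_iff_map_eq_one]
      intro h hh
      have h1 : (h : L) ∈ K := (QuotientGroup.eq_one_iff (h : L)).mp hh
      have h2 : (h : L) ∈ K ⊓ H := ⟨h1, h.2⟩
      rw [hinf, Subgroup.mem_bot] at h2
      exact Subtype.ext h2
    · intro q
      obtain ⟨g, rfl⟩ := QuotientGroup.mk'_surjective K q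
      obtain ⟨k, hk, h, hh, rfl⟩ := hdec g
      refine ⟨⟨h, hh⟩, ?_⟩
      show QuotientGroup.mk' K h = _
      rw [map_mul]
      have h3 : QuotientGroup.mk' K k = 1 := (QuotientGroup.eq_one_iff k).mpr hk
      rw [h3, one_mul]
  let e : H ≃* L ⧸ K := MulEquiv.ofBijective f hfb
  let p : L →* H := e.symm.toMonoidHom.comp (QuotientGroup.mk' K)
  have hpK : ∀ k ∈ K, p k = 1 := by
    intro k hk
    show e.symm (QuotientGroup.mk' K k) = 1
    have h3 : QuotientGroup.mk' K k = 1 := (QuotientGroup.eq_one_iff k).mpr hk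
    rw [h3, map_one]
  have hpH : ∀ h : H, p h = h := by
    intro h
    show e.symm (f h) = h
    exact e.symm_apply_apply h
  have hpd : ∀ g : L, ∃ k ∈ K, g = k * (p g : L) := by
    intro g
    obtain ⟨k, hk, h, hh, rfl⟩ := hdec g
    refine ⟨k, hk, ?_⟩
    rw [map_mul, hpK k hk, one_mul, hpH ⟨h, hh⟩]
  have hindex : K.index = Nat.card H := by
    rw [Subgroup.index]
    exact (Nat.card_congr e.toEquiv).symm
  have hcopi : K.index.Coprime (Nat.card K) := by
    rw [hindex]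
    exact hcop.symm
  have hinvG : ∀ θ : IrrCharacter K, Cfsg.Agent.Lib.Glaub.InvBy H K θ → ∀ (g : L) (n : K), θ.1 ⟨g * n * g⁻¹, hK.conj_mem n n.2 g⟩ = θ.1 n := by
    intro θ hθ g n
    obtain ⟨k, hk, h, hh, rfl⟩ := hdec g
    have hcl := classFunction_of_isIrrCharacter θ.2
    let n' : K := ⟨h * n * h⁻¹, hK.conj_mem n n.2 h⟩
    have h1 : θ.1 n' = θ.1 n := hθ h hh n n' rfl
    have h2 : θ.1 ⟨k * h * n * (k * h)⁻¹, hK.conj_mem n n.2 (k * h)⟩ = θ.1 n' := by
      have h3 := hcl n' ⟨k, hk⟩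
      rw [← h3]
      refine congrArg θ.1 (Subtype.ext ?_)
      show k * h * n * (k * h)⁻¹ = k * (h * n * h⁻¹) * k⁻¹
      group
    rw [h2, h1]
  have hex : ∀ θ : {θ : IrrCharacter K // Cfsg.Agent.Lib.Glaub.InvBy H K θ}, ∃ χ : L → ℂ, IsIrrCharacter L χ ∧ ∀ n : K, χ n = θ.1.1 n :=
    fun θ => exists_ext_coprime K hcopi θ.1.2 (hinvG θ.1 θ.2)
  choose ext hext1 hext2 using hex
  let F : {θ : IrrCharacter K // Cfsg.Agent.Lib.Glaub.InvBy H K θ} × (H →* ℂˣ) → L → ℂ :=
    fun x g => ext x.1 g * ((x.2 (p g) : ℂˣ) : ℂ)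
  have hFc : ∀ x, IsCharacter L (F x) := by
    intro x
    have h1 := IsIrrCharacter.isCharacter (isIrrCharacter_of_hom (x.2.comp p))
    exact IsCharacter.mul (IsIrrCharacter.isCharacter (hext1 x.1)) h1
  have hFK : ∀ x (n : K), F x n = x.1.1.1 n := by
    intro x n
    show ext x.1 n * ((x.2 (p n) : ℂˣ) : ℂ) = _
    rw [hext2, hpK n n.2, map_one, Units.val_one, mul_one]
  have hFirr : ∀ x, IsIrrCharacter L (F x) := by
    intro x
    refine irr_of_res_irr K (hFc x) ?_
    have h1 : (fun n : K => F x n) = x.1.1.1 := funext (hFK x)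
    rw [h1]
    exact x.1.1.2
  have hFdeg : ∀ x, (charDegree (F x)).Coprime (Nat.card H) := by
    intro x
    obtain ⟨d, hd, hdvd⟩ := irr_degree_dvd x.1.1.2
    have h1 : F x 1 = d := by
      have h2 := hFK x 1
      rw [Subgroup.coe_one] at h2
      rw [h2, hd]
    rw [charDegree_of_nat h1]
    exact Nat.Coprime.coprime_dvd_left hdvd hcop
  let Φ : {θ : IrrCharacter K // Cfsg.Agent.Lib.Glaub.InvBy H K θ} × (H →* ℂˣ) → {χ : IrrCharacter L // (charDegree (χ : L → ℂ)).Coprime (Nat.card H)} :=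
    fun x => ⟨⟨F x, hFirr x⟩, hFdeg x⟩
  have hΦ : Function.Bijective Φ := by
    constructor
    · rintro ⟨θ, γ⟩ ⟨θ', γ'⟩ hxy
      have h0 : F (θ, γ) = F (θ', γ') := congrArg (fun z => z.1.1) hxy
      have h1 : θ = θ' := by
        apply Subtype.ext
        apply Subtype.ext
        funext n
        have h2 := hFK (θ, γ) n
        have h3 := hFK (θ', γ') n
        rw [h0, h3] at h2
        exact h2.symm
      subst h1
      have h2 : γ = γ' := by
        apply MonoidHom.ext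
        intro h
        apply Units.ext
        have hχK : IsIrrCharacter K (fun n : K => ext θ n) := by
          have h3 : (fun n : K => ext θ n) = θ.1.1 := funext (hext2 θ)
          rw [h3]
          exact θ.1.2
        have h4 := (s0868 K (ext θ) (hext1 θ) hχK (ext θ) (hext1 θ) _ rfl).2.2 rfl
        have h5 := congrFun h4 (h : L)
        have h6 : ∃ n : K, ext θ ((n : L) * h) ≠ 0 := by
          by_contra hcon
          push Not at hcon
          rw [Finset.sum_eq_zero (fun n _ => by rw [hcon n, zero_mul]), mul_zero] at h5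
          exact zero_ne_one h5
        obtain ⟨n, hn⟩ := h6
        have h7 := congrFun h0 ((n : L) * h)
        have h8 : p ((n : L) * h) = h := by
          rw [map_mul, hpK n n.2, one_mul, hpH h]
        simp only [F] at h7
        rw [h8] at h7
        exact mul_left_cancel₀ hn h7
      rw [h2]
    · rintro ⟨⟨χ, hχ⟩, hdeg⟩
      have hχc := IsIrrCharacter.isCharacter hχ
      obtain ⟨d, hd0, hd⟩ := IsIrrCharacter.map_one_pos hχ
      have hdeg' : d.Coprime (Nat.card H) := by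
        have h1 : charDegree χ = d := charDegree_of_nat hd
        have h2 : (charDegree χ).Coprime (Nat.card H) := hdeg
        rwa [h1] at h2
      obtain ⟨θ₀, hθ₀, hc⟩ := exists_constituent (IsCharacter.res hχc K) (by
        show χ ((1 : K) : L) ≠ 0
        rw [Subgroup.coe_one, hd]
        exact_mod_cast hd0.ne')
      have hdegf := clifford_degree K hχ hθ₀ hc
      obtain ⟨e, he⟩ := IsCharacter.classInner_irr_nat (IsCharacter.res hχc K) hθ₀
      obtain ⟨b, hb0, hb⟩ := IsIrrCharacter.map_one_pos hθ₀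
      have he' : classInner (fun n : K => χ n) θ₀ = e := he
      rw [he', hd, hb] at hdegf
      have hdf : d = e * (orbitF K θ₀).card * b := by exact_mod_cast hdegf
      have hT : ∀ g : L, g ∈ inertia K θ₀ ↔ ∀ h : K, θ₀ ⟨g * h * g⁻¹, hK.conj_mem h h.2 g⟩ = θ₀ h := fun g => mem_inertia K θ₀ g
      have hcard := card_orbit_eq_index K (inertia K θ₀) hT
      have hle : K ≤ inertia K θ₀ := le_inertia K (classFunction_of_isIrrCharacter hθ₀)
      have htdvd : (orbitF K θ₀).card ∣ Nat.card H := by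
        rw [hcard, ← hindex]
        exact Subgroup.index_dvd_of_le hle
      have ht1 : (orbitF K θ₀).card = 1 := by
        refine Nat.Coprime.eq_one_of_dvd (Nat.Coprime.coprime_dvd_left ?_ hdeg') htdvd
        rw [hdf]
        exact Dvd.dvd.mul_right (Dvd.intro_left e rfl) b
      have hTtop : inertia K θ₀ = ⊤ := by
        rw [← Subgroup.index_eq_one, ← hcard, ht1]
      have hinv0 : ∀ (g : L) (n : K), θ₀ ⟨g * n * g⁻¹, hK.conj_mem n n.2 g⟩ = θ₀ n := by
        intro g n
        have h1 : g ∈ inertia K θ₀ := by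
          rw [hTtop]
          exact Subgroup.mem_top g
        exact (hT g).mp h1 n
      obtain ⟨e', he'0, he'i, he'res⟩ := res_eq_smul_of_inv (K := L) (L := K) hθ₀ hinv0 hχ hc
      have hedvd := mult_dvd_index_inv K hθ₀ hinv0 hχ e' he'i he'0
      have he'd : e' ∣ d := by
        have h1 := congrFun he'res 1
        simp only [Subgroup.coe_one, Pi.smul_apply, smul_eq_mul] at h1
        rw [hd, hb] at h1
        have h2 : d = e' * b := by exact_mod_cast h1
        rw [h2]
        exact Dvd.intro b rfl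
      have he'1 : e' = 1 := by
        refine Nat.Coprime.eq_one_of_dvd (Nat.Coprime.coprime_dvd_left he'd hdeg') ?_
        rwa [← hindex]
      have hres : ∀ n : K, χ n = θ₀ n := by
        intro n
        have h1 := congrFun he'res n
        rw [he'1] at h1
        simpa using h1
      let θ : {θ : IrrCharacter K // Cfsg.Agent.Lib.Glaub.InvBy H K θ} := ⟨⟨θ₀, hθ₀⟩, by
        intro s hs g g' hg'
        have h1 : g' = ⟨s * g * s⁻¹, hK.conj_mem g g.2 s⟩ := Subtype.ext hg'
        rw [h1]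
        exact hinv0 s g⟩
      have hresirr : IsIrrCharacter K (fun n : K => χ n) := by
        have h1 : (fun n : K => χ n) = θ₀ := funext hres
        rw [h1]
        exact hθ₀
      obtain ⟨β, hβ1, hβ⟩ := ext_diff K hχc (IsIrrCharacter.isCharacter (hext1 θ)) hresirr (fun n => by
        rw [hres, hext2])
      refine ⟨(θ, β.comp H.subtype), ?_⟩
      apply Subtype.ext
      apply Subtype.ext
      funext g
      show ext θ g * ((β (p g : L) : ℂˣ) : ℂ) = χ g
      obtain ⟨k, hk, hg⟩ := hpd g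
      have h1 : β g = β (p g : L) := by
        conv_lhs => rw [hg]
        rw [map_mul, hβ1 ⟨k, hk⟩, one_mul]
      rw [hβ g, h1, mul_comm]
  rw [← Nat.card_prod]
  exact (Nat.card_congr (Equiv.ofBijective Φ hΦ)).symm

end Count

section Conj

variable {G : Type u} [Group G] [Finite G]

theorem conj_glauberman {A K : Subgroup G} (hAK : A ≤ Subgroup.normalizer (K : Set G))
    (hcop : (Nat.card A).Coprime (Nat.card K)) (hsolv : Group.IsSolvable A ∨ Group.IsSolvable K)
    (X : Set G) (hne : X.Nonempty)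
    (htrans : ∀ x ∈ X, ∀ y ∈ X, ∃ k ∈ K, k * x * k⁻¹ = y)
    (hinvK : ∀ k ∈ K, ∀ x ∈ X, k * x * k⁻¹ ∈ X) (hinvA : ∀ a ∈ A, ∀ x ∈ X, a * x * a⁻¹ ∈ X) :
    (∃ x ∈ X, ∀ a ∈ A, a * x * a⁻¹ = x) ∧
      ∀ x ∈ X, ∀ y ∈ X, (∀ a ∈ A, a * x * a⁻¹ = x) → (∀ a ∈ A, a * y * a⁻¹ = y) →
        ∃ c ∈ K ⊓ Subgroup.centralizer (A : Set G), c * x * c⁻¹ = y := by
  letI inst : MulAction G G := MulAction.compHom G (MulAut.conj : G →* MulAut G)
  exact Cfsg.Agent.Lib.H1Cop.glauberman (Y := G) hAK hcop hsolv X hne htrans hinvK hinvA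

theorem glaub_class {A K : Subgroup G} [hK : K.Normal] (hcop : (Nat.card A).Coprime (Nat.card K))
    (hsolv : Group.IsSolvable A ∨ Group.IsSolvable K) (c : G)
    (hc : ∀ a ∈ A, ∃ k ∈ K, a * c * a⁻¹ = k * c * k⁻¹) :
    (∃ k ∈ K, ∀ a ∈ A, a * (k * c * k⁻¹) * a⁻¹ = k * c * k⁻¹) ∧
      ∀ k ∈ K, ∀ l ∈ K, (∀ a ∈ A, a * (k * c * k⁻¹) * a⁻¹ = k * c * k⁻¹) → (∀ a ∈ A, a * (l * c * l⁻¹) * a⁻¹ = l * c * l⁻¹) →
        ∃ d ∈ K ⊓ Subgroup.centralizer (A : Set G), d * (k * c * k⁻¹) * d⁻¹ = l * c * l⁻¹ := by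
  have hAK : A ≤ Subgroup.normalizer (K : Set G) := by
    rw [Subgroup.normalizer_eq_top_iff.mpr hK]
    exact le_top
  let X : Set G := {y | ∃ k ∈ K, y = k * c * k⁻¹}
  have hne : X.Nonempty := ⟨c, 1, K.one_mem, by group⟩
  have htrans : ∀ x ∈ X, ∀ y ∈ X, ∃ k ∈ K, k * x * k⁻¹ = y := by
    rintro x ⟨k, hk, rfl⟩ y ⟨l, hl, rfl⟩
    refine ⟨l * k⁻¹, K.mul_mem hl (K.inv_mem hk), ?_⟩
    group
  have hinvK : ∀ k ∈ K, ∀ x ∈ X, k * x * k⁻¹ ∈ X := by
    rintro k hk x ⟨l, hl, rfl⟩
    refine ⟨k * l, K.mul_mem hk hl, ?_⟩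
    group
  have hinvA : ∀ a ∈ A, ∀ x ∈ X, a * x * a⁻¹ ∈ X := by
    rintro a ha x ⟨l, hl, rfl⟩
    obtain ⟨k, hk, h1⟩ := hc a ha
    refine ⟨(a * l * a⁻¹) * k, K.mul_mem (hK.conj_mem l hl a) hk, ?_⟩
    calc a * (l * c * l⁻¹) * a⁻¹ = (a * l * a⁻¹) * (a * c * a⁻¹) * (a * l * a⁻¹)⁻¹ := by group
      _ = _ := by
        rw [h1]
        group
  obtain ⟨h1, h2⟩ := conj_glauberman hAK hcop hsolv X hne htrans hinvK hinvA
  constructor
  · obtain ⟨x, ⟨k, hk, rfl⟩, hx⟩ := h1
    exact ⟨k, hk, hx⟩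
  · intro k hk l hl hk' hl'
    exact h2 _ ⟨k, hk, rfl⟩ _ ⟨l, hl, rfl⟩ hk' hl'

end Conj

section Main

variable {G : Type u} [Group G] [Finite G]

theorem s4452_aux (K H : Subgroup G) [hK : K.Normal] (hKH : K ⊔ H = ⊤) (hcop : (Nat.card K).Coprime (Nat.card H))
    (hsolv : Group.IsSolvable H) (Nr : Subgroup G) (hNr : Nr = Subgroup.normalizer (H : Set G)) :
    Nat.card {χ : IrrCharacter G // (charDegree (χ : G → ℂ)).Coprime (Nat.card H)} =
      Nat.card {η : IrrCharacter Nr // (charDegree (η : Nr → ℂ)).Coprime (Nat.card H)} := by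
  classical
  haveI : Fintype G := Fintype.ofFinite G
  haveI : Fintype K := Fintype.ofFinite K
  haveI : Fintype H := Fintype.ofFinite H
  haveI : Fintype Nr := Fintype.ofFinite Nr
  haveI := hsolv
  have hHN : H ≤ Nr := by
    rw [hNr]
    exact Subgroup.le_normalizer
  have hinf : K ⊓ H = ⊥ := Subgroup.inf_eq_bot_of_coprime hcop
  obtain ⟨K', hK'⟩ : ∃ K' : Subgroup Nr, K' = K.subgroupOf Nr := ⟨_, rfl⟩
  obtain ⟨H', hH'⟩ : ∃ H' : Subgroup Nr, H' = H.subgroupOf Nr := ⟨_, rfl⟩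
  haveI hK'n : K'.Normal := by
    rw [hK']
    infer_instance
  haveI : Fintype K' := Fintype.ofFinite K'
  have hK'mem : ∀ x : Nr, x ∈ K' ↔ (x : G) ∈ K := by
    intro x
    rw [hK', Subgroup.mem_subgroupOf]
  have hH'mem : ∀ x : Nr, x ∈ H' ↔ (x : G) ∈ H := by
    intro x
    rw [hH', Subgroup.mem_subgroupOf]
  have hcomm : ∀ k ∈ K, k ∈ Nr → ∀ h ∈ H, k * h * k⁻¹ = h := by
    intro k hk hkN h hh
    rw [hNr] at hkN
    have h1 : k * h * k⁻¹ ∈ H := (Subgroup.mem_normalizer_iff.mp hkN h).mp hh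
    have h2 : k * h * k⁻¹ * h⁻¹ ∈ H := H.mul_mem h1 (H.inv_mem hh)
    have h3 : k * h * k⁻¹ * h⁻¹ ∈ K := by
      have h4 : k * h * k⁻¹ * h⁻¹ = k * (h * k⁻¹ * h⁻¹) := by group
      rw [h4]
      exact K.mul_mem hk (hK.conj_mem _ (K.inv_mem hk) h)
    have h5 : k * h * k⁻¹ * h⁻¹ ∈ K ⊓ H := ⟨h3, h2⟩
    rw [hinf, Subgroup.mem_bot] at h5
    exact mul_inv_eq_one.mp h5
  have hcomm' : ∀ k ∈ K, k ∈ Nr → ∀ s ∈ H, s * k * s⁻¹ = k := by
    intro k hk hkN s hs
    have h5 := hcomm k hk hkN s⁻¹ (H.inv_mem hs)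
    have h6 : k * s⁻¹ * k⁻¹ = s⁻¹ := h5
    calc s * k * s⁻¹ = s * (k * s⁻¹ * k⁻¹) * k := by group
      _ = k := by
        rw [h6]
        group
  have hcN : Subgroup.centralizer (H : Set G) ≤ Nr := by
    rw [hNr]
    apply Cfsg.Agent.Lib.H1Cop.le_normalizer_of_forall
    intro a ha k hk
    have h1 := Subgroup.mem_centralizer_iff.mp ha k hk
    rw [← h1]
    group
    exact hk
  have hH'card : Nat.card H' = Nat.card H := by
    rw [hH']
    exact Nat.card_congr (Subgroup.subgroupOfEquivOfLe hHN).toEquiv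
  have hK'card : Nat.card K' ∣ Nat.card K := by
    let φ : K' →* K :=
      { toFun := fun x => ⟨((x : Nr) : G), (hK'mem x).mp x.2⟩
        map_one' := rfl
        map_mul' := fun _ _ => rfl }
    refine Subgroup.card_dvd_of_injective φ ?_
    intro x y hxy
    apply Subtype.ext
    apply Subtype.ext
    have h := congrArg (fun z : K => (z : G)) hxy
    exact h
  have hcop' : (Nat.card K').Coprime (Nat.card H') := by
    rw [hH'card]
    exact Nat.Coprime.coprime_dvd_left hK'card hcop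
  have htop' : K' ⊔ H' = ⊤ := by
    rw [eq_top_iff]
    intro x _
    have h1 : (x : G) ∈ ((K ⊔ H : Subgroup G) : Set G) := by
      rw [hKH]
      exact Subgroup.mem_top _
    rw [Subgroup.normal_mul] at h1
    obtain ⟨k, hk, h, hh, hx⟩ := Set.mem_mul.mp h1
    have hkN : k ∈ Nr := by
      have h2 : k = (x : G) * h⁻¹ := by
        rw [← hx]
        group
      rw [h2]
      exact Nr.mul_mem x.2 (Nr.inv_mem (hHN hh))
    have h3 : x = (⟨k, hkN⟩ : Nr) * (⟨h, hHN hh⟩ : Nr) := Subtype.ext hx.symm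
    rw [h3]
    exact Subgroup.mul_mem_sup ((hK'mem _).mpr hk) ((hH'mem _).mpr hh)
  have e1 := card_coprime_irr K H hKH hcop
  have e2 := card_coprime_irr K' H' htop' hcop'
  rw [hH'card] at e2
  rw [e1, e2]
  congr 1
  · -- invariant characters
    have ha : Nat.card {θ : IrrCharacter K' // Cfsg.Agent.Lib.Glaub.InvBy H' K' θ} = Nat.card (IrrCharacter K') := by
      apply Nat.card_congr
      apply Equiv.subtypeUnivEquiv
      intro θ s hs g g' hg'
      have h1 : g' = g := by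
        apply Subtype.ext
        apply Subtype.ext
        have h2 : (((g' : K') : Nr) : G) = (s : G) * ((g : K') : Nr) * (s : G)⁻¹ := congrArg Subtype.val hg'
        rw [h2]
        exact hcomm' _ ((hK'mem _).mp g.2) ((g : K') : Nr).2 (s : G) ((hH'mem _).mp hs)
      rw [h1]
    rw [ha, card_irr_eq K']
    have hnorm : ∀ s ∈ H, ∀ g ∈ K, s * g * s⁻¹ ∈ K := fun s _ g hg => hK.conj_mem g hg s
    rw [Cfsg.Agent.Lib.Glaub.card_inv_eq H _ K rfl hnorm hcop]
    -- classes
    let ι : K' →* K :=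
      { toFun := fun x => ⟨((x : Nr) : G), (hK'mem x).mp x.2⟩
        map_one' := rfl
        map_mul' := fun _ _ => rfl }
    have hιc : ∀ (c : K'), ∀ s ∈ H, s * ((ι c : K) : G) * s⁻¹ = ((ι c : K) : G) := by
      intro c s hs
      exact hcomm' ((ι c : K) : G) (ι c).2 (c : Nr).2 s hs
    have hsolv' : Group.IsSolvable H ∨ Group.IsSolvable K := Or.inl hsolv
    let fd : ConjClasses K' → Cfsg.Agent.Lib.Glaub.ClInv H K := fun Q =>
      ⟨ConjClasses.map ι Q, by
        obtain ⟨c, rfl⟩ := ConjClasses.exists_rep Q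
        intro s hs g g' hg' hgc
        have h1 : ConjClasses.mk g = ConjClasses.mk (ι c) := hgc
        have h2 := ConjClasses.mk_eq_mk_iff_isConj.mp h1
        obtain ⟨x, hx⟩ := isConj_iff.mp h2.symm
        have h3 : (x : G) * ((ι c : K) : G) * (x : G)⁻¹ = g := congrArg Subtype.val hx
        show ConjClasses.mk g' = ConjClasses.mk (ι c)
        rw [ConjClasses.mk_eq_mk_iff_isConj, isConj_comm, isConj_iff]
        refine ⟨⟨s * x * s⁻¹, hK.conj_mem x x.2 s⟩, Subtype.ext ?_⟩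
        show s * x * s⁻¹ * ((ι c : K) : G) * (s * x * s⁻¹)⁻¹ = g'
        rw [hg', ← h3]
        calc s * x * s⁻¹ * ((ι c : K) : G) * (s * x * s⁻¹)⁻¹ = s * x * s⁻¹ * (s * ((ι c : K) : G) * s⁻¹) * (s * x * s⁻¹)⁻¹ := by
              rw [hιc c s hs]
          _ = _ := by group⟩
    have hfd : Function.Bijective fd := by
      constructor
      · intro Q Q' h
        obtain ⟨c, rfl⟩ := ConjClasses.exists_rep Q
        obtain ⟨c', rfl⟩ := ConjClasses.exists_rep Q'
        have h1 : ConjClasses.mk (ι c) = ConjClasses.mk (ι c') := congrArg Subtype.val h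
        obtain ⟨k, hk⟩ := isConj_iff.mp (ConjClasses.mk_eq_mk_iff_isConj.mp h1)
        have hk2 : (k : G) * ((ι c : K) : G) * (k : G)⁻¹ = ((ι c' : K) : G) := congrArg Subtype.val hk
        have hcinv : ∀ a ∈ H, ∃ k ∈ K, a * ((ι c : K) : G) * a⁻¹ = k * ((ι c : K) : G) * k⁻¹ := by
          intro a ha
          refine ⟨1, K.one_mem, ?_⟩
          rw [hιc c a ha]
          group
        obtain ⟨d, ⟨hdK, hdC⟩, hd⟩ := (glaub_class (A := H) (K := K) hcop.symm hsolv' _ hcinv).2 1 K.one_mem k k.2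
          (by
            intro a ha
            have h2 := hιc c a ha
            simpa using h2)
          (by
            intro a ha
            rw [hk2]
            exact hιc c' a ha)
        have hdN : d ∈ Nr := hcN hdC
        rw [ConjClasses.mk_eq_mk_iff_isConj, isConj_iff]
        refine ⟨⟨⟨d, hdN⟩, (hK'mem _).mpr hdK⟩, ?_⟩
        apply Subtype.ext
        apply Subtype.ext
        show d * ((ι c : K) : G) * d⁻¹ = ((ι c' : K) : G)
        rw [← hk2]
        simpa using hd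
      · rintro ⟨Q, hQ⟩
        obtain ⟨g, rfl⟩ := ConjClasses.exists_rep Q
        have hcinv : ∀ a ∈ H, ∃ k ∈ K, a * (g : G) * a⁻¹ = k * (g : G) * k⁻¹ := by
          intro a ha
          have h1 := hQ a ha g ⟨a * g * a⁻¹, hK.conj_mem g g.2 a⟩ rfl rfl
          obtain ⟨l, hl⟩ := isConj_iff.mp (ConjClasses.mk_eq_mk_iff_isConj.mp h1).symm
          have h2 : (l : G) * (g : G) * (l : G)⁻¹ = a * g * a⁻¹ := congrArg Subtype.val hl
          exact ⟨l, l.2, h2.symm⟩
        obtain ⟨k, hk, hkc⟩ := (glaub_class (A := H) (K := K) hcop.symm hsolv' _ hcinv).1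
        have hwK : k * (g : G) * k⁻¹ ∈ K := hK.conj_mem g g.2 k
        have hwN : k * (g : G) * k⁻¹ ∈ Nr := by
          apply hcN
          rw [Subgroup.mem_centralizer_iff]
          intro a ha
          exact mul_inv_eq_iff_eq_mul.mp (hkc a ha)
        refine ⟨ConjClasses.mk ⟨⟨_, hwN⟩, (hK'mem _).mpr hwK⟩, Subtype.ext ?_⟩
        show ConjClasses.mk (ι ⟨⟨_, hwN⟩, (hK'mem _).mpr hwK⟩) = ConjClasses.mk g
        rw [ConjClasses.mk_eq_mk_iff_isConj, isConj_comm, isConj_iff]
        exact ⟨⟨k, hk⟩, Subtype.ext rfl⟩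
    exact (Nat.card_congr (Equiv.ofBijective fd hfd)).symm
  · -- linear characters
    have hiso : H' ≃* H := by
      rw [hH']
      exact Subgroup.subgroupOfEquivOfLe hHN
    exact Nat.card_congr
      { toFun := fun γ => γ.comp hiso.toMonoidHom
        invFun := fun γ => γ.comp hiso.symm.toMonoidHom
        left_inv := fun γ => by
          ext x
          simp
        right_inv := fun γ => by
          ext x
          simp }

end Main

end Cfsg.Agent.Lib.CharGlaub6
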