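import Cfsg.Agent.Lib.CharGlaub6

/-!
# Glauberman's lemma for irreducible characters.
-/

set_option autoImplicit false
set_option linter.unusedVariables false
set_option linter.unusedSectionVars false
set_option linter.style.longLine false

open Cfsg Module
open scoped ComplexConjugate commutatorElement
open Cfsg.Agent.Lib.CharBasic Cfsg.Agent.Lib.CharOrth Cfsg.Agent.Lib.CharAlg Cfsg.Agent.Lib.CharInd
open Cfsg.Agent.Lib.CharPerm Cfsg.Agent.Lib.CharGall Cfsg.Agent.Lib.CharGlaub Cfsg.Agent.Lib.CharGlaub2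
open Cfsg.Agent.Lib.CharGlaub3 Cfsg.Agent.Lib.CharExt Cfsg.Agent.Lib.CharNormal Cfsg.Agent.Lib.CharClifford
open Cfsg.Agent.Lib.CharLin Cfsg.Agent.Lib.CharMisc2 Cfsg.Agent.Lib.CharGal Cfsg.Agent.Lib.CharGlaub4
open Cfsg.Agent.Lib.CharGlaub5 Cfsg.Agent.Lib.CharMisc Cfsg.Agent.Lib.CharProj Cfsg.Agent.Lib.CharAbQ
open Cfsg.Agent.Lib.CharGlaub6 Cfsg.Agent.Lib.CharBrauer

namespace Cfsg.Agent.Lib.CharGlaub7

universe u v

section PermG

/-- Glauberman's lemma for two groups permuting a set. -/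
theorem perm_glauberman {Y : Type*} [Finite Y] {A K : Type*} [Group A] [Group K]
    (α : A →* Equiv.Perm Y) (κ : K →* Equiv.Perm Y)
    (hnorm : ∀ a k, ∃ k', α a * κ k * (α a)⁻¹ = κ k')
    (hcop : (Nat.card α.range).Coprime (Nat.card κ.range))
    (hsolv : Group.IsSolvable α.range ∨ Group.IsSolvable κ.range)
    (X : Set Y) (hne : X.Nonempty)
    (htrans : ∀ x ∈ X, ∀ y ∈ X, ∃ k, κ k x = y)
    (hinvK : ∀ k, ∀ x ∈ X, κ k x ∈ X) (hinvA : ∀ a, ∀ x ∈ X, α a x ∈ X) :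
    ∃ x ∈ X, ∀ a, α a x = x := by
  have hAK : α.range ≤ Subgroup.normalizer (κ.range : Set (Equiv.Perm Y)) := by
    apply Cfsg.Agent.Lib.H1Cop.le_normalizer_of_forall
    rintro _ ⟨a, rfl⟩ _ ⟨k, rfl⟩
    obtain ⟨k', hk'⟩ := hnorm a k
    exact ⟨k', hk'.symm⟩
  obtain ⟨⟨x, hx, hfix⟩, -⟩ := Cfsg.Agent.Lib.H1Cop.glauberman (G := Equiv.Perm Y) (A := α.range) (K := κ.range) (Y := Y) hAK hcop hsolv X hne
    (by
      intro x hx y hy
      obtain ⟨k, hk⟩ := htrans x hx y hy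
      exact ⟨κ k, ⟨k, rfl⟩, hk⟩)
    (by
      rintro _ ⟨k, rfl⟩ x hx
      exact hinvK k x hx)
    (by
      rintro _ ⟨a, rfl⟩ x hx
      exact hinvA a x hx)
  exact ⟨x, hx, fun a => hfix _ ⟨a, rfl⟩⟩

variable {N A : Type u} [Group N] [Group A]

/-- Action on irreducible characters through automorphisms. -/
noncomputable def irrPermFun {N A : Type*} [Group N] [Group A] (φ : A →* MulAut N) (a : A) (θ : IrrCharacter N) : IrrCharacter N :=
  ⟨fun n => θ.1 (φ a⁻¹ n), IsIrrCharacter.comp_surjective θ.2 (φ a⁻¹ : N ≃* N).toMonoidHom (MulEquiv.surjective _)⟩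

noncomputable def irrPerm {N A : Type*} [Group N] [Group A] (φ : A →* MulAut N) : A →* Equiv.Perm (IrrCharacter N) where
  toFun a :=
    { toFun := irrPermFun φ a
      invFun := irrPermFun φ a⁻¹
      left_inv := fun θ => by
        apply Subtype.ext
        funext n
        show θ.1 (φ a⁻¹ (φ a⁻¹⁻¹ n)) = θ.1 n
        rw [inv_inv, ← MulAut.mul_apply, ← map_mul, inv_mul_cancel, map_one, MulAut.one_apply]
      right_inv := fun θ => by
        apply Subtype.ext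
        funext n
        show θ.1 (φ a⁻¹⁻¹ (φ a⁻¹ n)) = θ.1 n
        rw [inv_inv, ← MulAut.mul_apply, ← map_mul, mul_inv_cancel, map_one, MulAut.one_apply] }
  map_one' := by
    apply Equiv.ext
    intro θ
    apply Subtype.ext
    funext n
    show θ.1 (φ 1⁻¹ n) = θ.1 n
    rw [inv_one, map_one, MulAut.one_apply]
  map_mul' := fun a b => by
    apply Equiv.ext
    intro θ
    apply Subtype.ext
    funext n
    show θ.1 (φ (a * b)⁻¹ n) = θ.1 (φ b⁻¹ (φ a⁻¹ n))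
    rw [mul_inv_rev, map_mul, MulAut.mul_apply]

theorem irrPerm_apply {N A : Type*} [Group N] [Group A] (φ : A →* MulAut N) (a : A) (θ : IrrCharacter N) (n : N) :
    (irrPerm φ a θ).1 n = θ.1 (φ a⁻¹ n) := rfl

end PermG

section S4447

variable {Γ : Type u} [Group Γ] [Fintype Γ]

theorem card_range_dvd_index {X Y : Type*} [Group X] [Finite X] [Group Y] (f : X →* Y) (M : Subgroup X) (h : ∀ m ∈ M, f m = 1) :
    Nat.card f.range ∣ M.index := by
  rw [← Subgroup.index_ker]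
  apply Subgroup.index_dvd_of_le
  intro m hm
  exact h m hm

theorem card_range_dvd_card {X Y : Type*} [Group X] [Finite X] [Group Y] (f : X →* Y) :
    Nat.card f.range ∣ Nat.card X := by
  rw [← Subgroup.index_ker]
  exact Subgroup.index_dvd_card _

set_option maxHeartbeats 1000000 in
theorem s4447 (G S N : Subgroup Γ) [Fintype G] [Fintype N] (hnorm : ∀ s ∈ S, ∀ g ∈ G, s * g * s⁻¹ ∈ G) (hNG : N ≤ G) [hNn : (N.subgroupOf G).Normal] (hNS : ∀ s ∈ S, ∀ n ∈ N, s * n * s⁻¹ ∈ N) (hcop : (N.relIndex G).Coprime (Nat.card S)) (hsolv : Group.IsSolvable S ∨ Group.IsSolvable (G ⧸ N.subgroupOf G)) (χ : Cfsg.IrrCharacter G) (hinv : (∀ s ∈ S, ∀ g g' : G, (g' : Γ) = s * g * s⁻¹ → (χ : G → ℂ) g' = (χ : G → ℂ) g)) : ∃ θ : Cfsg.IrrCharacter N, Cfsg.classInner (fun n : N => (χ : G → ℂ) ⟨n, hNG n.2⟩) (θ : N → ℂ) ≠ 0 ∧ (∀ s ∈ S, ∀ g g' : N, (g' : Γ) = s * g * s⁻¹ → (θ : N → ℂ) g' = (θ : N → ℂ) g) := by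
  classical
  have hGN : ∀ g ∈ G, ∀ n ∈ N, g * n * g⁻¹ ∈ N := by
    intro g hg n hn
    have h1 := hNn.conj_mem ⟨n, hNG hn⟩ (Subgroup.mem_subgroupOf.mpr hn) ⟨g, hg⟩
    exact Subgroup.mem_subgroupOf.mp h1
  let α := irrPerm (Cfsg.Agent.Lib.CharGlaub3.conjHom N S hNS)
  let κ := irrPerm (Cfsg.Agent.Lib.CharGlaub3.conjHom N G hGN)
  have hαv : ∀ (s : S) (θ : IrrCharacter N) (n : N) (n' : N), (n' : Γ) = (s : Γ)⁻¹ * n * s → (α s θ).1 n = θ.1 n' := by
    intro s θ n n' h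
    show θ.1 (Cfsg.Agent.Lib.CharGlaub3.conjHom N S hNS s⁻¹ n) = θ.1 n'
    refine congrArg θ.1 (Subtype.ext ?_)
    rw [h, Cfsg.Agent.Lib.CharGlaub3.conjHom_apply]
    simp
  have hκv : ∀ (s : G) (θ : IrrCharacter N) (n : N) (n' : N), (n' : Γ) = (s : Γ)⁻¹ * n * s → (κ s θ).1 n = θ.1 n' := by
    intro s θ n n' h
    show θ.1 (Cfsg.Agent.Lib.CharGlaub3.conjHom N G hGN s⁻¹ n) = θ.1 n'
    refine congrArg θ.1 (Subtype.ext ?_)
    rw [h, Cfsg.Agent.Lib.CharGlaub3.conjHom_apply]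
    simp
  have hκN : ∀ g ∈ N.subgroupOf G, κ g = 1 := by
    intro g hg
    apply Equiv.ext
    intro θ
    apply Subtype.ext
    funext n
    have hg' : (g : Γ) ∈ N := Subgroup.mem_subgroupOf.mp hg
    have hcl := classFunction_of_isIrrCharacter θ.2 n ⟨(g : Γ)⁻¹, N.inv_mem hg'⟩
    rw [hκv g θ n ⟨(g : Γ)⁻¹ * n * g, by
      have h1 := N.mul_mem (N.mul_mem (N.inv_mem hg') n.2) hg'
      exact h1⟩ rfl]
    show _ = θ.1 n
    rw [← hcl]
    refine congrArg θ.1 (Subtype.ext ?_)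
    simp
  have hcop' : (Nat.card α.range).Coprime (Nat.card κ.range) := by
    have h1 : Nat.card κ.range ∣ N.relIndex G := card_range_dvd_index κ _ hκN
    have h2 : Nat.card α.range ∣ Nat.card S := card_range_dvd_card α
    exact Nat.Coprime.coprime_dvd_left h2 (Nat.Coprime.coprime_dvd_right h1 hcop.symm)
  have hsolv' : Group.IsSolvable α.range ∨ Group.IsSolvable κ.range := by
    rcases hsolv with h | h
    · left
      haveI := h
      exact solvable_of_surjective α.rangeRestrict_surjective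
    · right
      haveI := h
      let f : G ⧸ N.subgroupOf G →* κ.range := QuotientGroup.lift (N.subgroupOf G) κ.rangeRestrict (by
        intro g hg
        apply Subtype.ext
        exact hκN g hg)
      apply solvable_of_surjective (f := f)
      rintro ⟨_, g, rfl⟩
      exact ⟨QuotientGroup.mk g, rfl⟩
  have hn : ∀ a k, ∃ k', α a * κ k * (α a)⁻¹ = κ k' := by
    intro a k
    refine ⟨⟨(a : Γ) * k * (a : Γ)⁻¹, hnorm a a.2 k k.2⟩, ?_⟩
    apply Equiv.ext
    intro θ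
    apply Subtype.ext
    funext n
    rw [← map_inv]
    show θ.1 (Cfsg.Agent.Lib.CharGlaub3.conjHom N S hNS a⁻¹⁻¹ (Cfsg.Agent.Lib.CharGlaub3.conjHom N G hGN k⁻¹ (Cfsg.Agent.Lib.CharGlaub3.conjHom N S hNS a⁻¹ n))) = θ.1 (Cfsg.Agent.Lib.CharGlaub3.conjHom N G hGN _ n)
    refine congrArg θ.1 (Subtype.ext ?_)
    simp only [Cfsg.Agent.Lib.CharGlaub3.conjHom_apply]
    simp only [Subgroup.coe_inv, inv_inv, mul_inv_rev]
    group
  -- constituents
  let χN : N → ℂ := fun n : N => (χ : G → ℂ) ⟨n, hNG n.2⟩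
  have hχN : IsCharacter N χN := IsCharacter.comp (IsIrrCharacter.isCharacter χ.2) (Subgroup.inclusion hNG)
  let X : Set (IrrCharacter N) := {θ | classInner χN θ.1 ≠ 0}
  have hne : X.Nonempty := by
    obtain ⟨ψ, hψ, hc⟩ := exists_constituent hχN (by
      show (χ : G → ℂ) ⟨((1 : N) : Γ), hNG (1 : N).2⟩ ≠ 0
      exact IsIrrCharacter.ne_zero χ.2)
    exact ⟨⟨ψ, hψ⟩, hc⟩
  have hcg := classFunction_of_isIrrCharacter χ.2
  have hinvK : ∀ k, ∀ x ∈ X, κ k x ∈ X := by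
    intro k x hx
    show classInner χN (κ k x).1 ≠ 0
    have h1 := classInner_comp_equiv (Cfsg.Agent.Lib.CharGlaub3.conjHom N G hGN k⁻¹ : N ≃* N) χN x.1
    have h2 : χN ∘ (Cfsg.Agent.Lib.CharGlaub3.conjHom N G hGN k⁻¹ : N ≃* N) = χN := by
      funext n
      show (χ : G → ℂ) ⟨(k : Γ)⁻¹ * n * ((k : Γ)⁻¹)⁻¹, _⟩ = (χ : G → ℂ) ⟨n, _⟩
      have h3 := hcg ⟨n, hNG n.2⟩ k⁻¹
      rw [← h3]
      exact congrArg χ.1 (Subtype.ext rfl)
    rw [h2] at h1
    have h4 : (κ k x).1 = x.1 ∘ (Cfsg.Agent.Lib.CharGlaub3.conjHom N G hGN k⁻¹ : N ≃* N) := rfl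
    rw [h4, h1]
    exact hx
  have hinvA : ∀ a, ∀ x ∈ X, α a x ∈ X := by
    intro k x hx
    show classInner χN (α k x).1 ≠ 0
    have h1 := classInner_comp_equiv (Cfsg.Agent.Lib.CharGlaub3.conjHom N S hNS k⁻¹ : N ≃* N) χN x.1
    have h2 : χN ∘ (Cfsg.Agent.Lib.CharGlaub3.conjHom N S hNS k⁻¹ : N ≃* N) = χN := by
      funext n
      show (χ : G → ℂ) ⟨(k : Γ)⁻¹ * n * ((k : Γ)⁻¹)⁻¹, _⟩ = (χ : G → ℂ) ⟨n, _⟩
      exact hinv _ (S.inv_mem k.2) _ _ rfl
    rw [h2] at h1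
    have h4 : (α k x).1 = x.1 ∘ (Cfsg.Agent.Lib.CharGlaub3.conjHom N S hNS k⁻¹ : N ≃* N) := rfl
    rw [h4, h1]
    exact hx
  have htrans : ∀ x ∈ X, ∀ y ∈ X, ∃ k, κ k x = y := by
    intro x hx y hy
    let N' : Subgroup G := N.subgroupOf G
    haveI : Fintype N' := Fintype.ofFinite _
    let e : N' ≃* N := Subgroup.subgroupOfEquivOfLe hNG
    have hχ' : (fun n : N' => (χ : G → ℂ) n) = χN ∘ e := rfl
    have hirr : ∀ z : IrrCharacter N, IsIrrCharacter N' (z.1 ∘ e) := fun z =>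
      IsIrrCharacter.comp_surjective z.2 e.toMonoidHom e.surjective
    have hin : ∀ z : IrrCharacter N, z ∈ X → classInner (fun n : N' => (χ : G → ℂ) n) (z.1 ∘ e) ≠ 0 := by
      intro z hz
      rw [hχ', classInner_comp_equiv e]
      exact hz
    obtain ⟨g, hg⟩ := clifford_conj N' χ.2 (hirr x) (hirr y) (hin x hx) (hin y hy)
    refine ⟨g⁻¹, ?_⟩
    apply Subtype.ext
    funext n
    have h1 := congrFun hg (e.symm n)
    have h2 : (y.1 ∘ e) (e.symm n) = y.1 n := by simp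
    rw [h2] at h1
    rw [h1]
    show x.1 (Cfsg.Agent.Lib.CharGlaub3.conjHom N G hGN g⁻¹⁻¹ n) = x.1 (e _)
    refine congrArg x.1 (Subtype.ext ?_)
    rw [Cfsg.Agent.Lib.CharGlaub3.conjHom_apply]
    show _ = ((g : G) : Γ) * ((e.symm n : N') : G) * ((g : G) : Γ)⁻¹
    have h3 : (((e.symm n : N') : G) : Γ) = n := by
      have h4 : e (e.symm n) = n := e.apply_symm_apply n
      exact congrArg Subtype.val h4
    rw [h3]
    simp
  obtain ⟨x, hx, hfix⟩ := perm_glauberman α κ hn hcop' hsolv' X hne htrans hinvK hinvA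
  refine ⟨x, hx, ?_⟩
  intro s hs g g' hg'
  have h1 := hfix ⟨s, hs⟩
  have h2 := congrFun (congrArg Subtype.val h1) g'
  rw [← h2]
  exact (hαv ⟨s, hs⟩ x g' g (by
    rw [hg']
    show (g : Γ) = s⁻¹ * (s * g * s⁻¹) * s
    group)).symm ▸ rfl

end S4447

section StepInv

variable {Γ : Type u} [Group Γ] [Fintype Γ]

theorem irr_mul_hom {Y : Type*} [Group Y] [Fintype Y] {χ : Y → ℂ} (hχ : IsIrrCharacter Y χ) (β : Y →* ℂˣ) :
    IsIrrCharacter Y (fun g => χ g * ((β g : ℂˣ) : ℂ)) := by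
  have hc : IsCharacter Y (fun g => χ g * ((β g : ℂˣ) : ℂ)) :=
    IsCharacter.mul (IsIrrCharacter.isCharacter hχ) (IsIrrCharacter.isCharacter (isIrrCharacter_of_hom β))
  apply isIrrCharacter_of_norm_one hc
  have h1 : ∀ g, ((β g : ℂˣ) : ℂ) * conj ((β g : ℂˣ) : ℂ) = 1 := by
    intro g
    have h2 : ((β g : ℂˣ) : ℂ) ^ (orderOf g) = 1 := by
      have h5 : (β g) ^ orderOf g = 1 := by rw [← map_pow, pow_orderOf_eq_one, map_one]
      have h6 := congrArg Units.val h5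
      rw [Units.val_pow_eq_pow_val, Units.val_one] at h6
      exact h6
    have h3 : ‖((β g : ℂˣ) : ℂ)‖ = 1 := Complex.norm_eq_one_of_pow_eq_one h2 (orderOf_pos g).ne'
    rw [Complex.mul_conj, Complex.normSq_eq_norm_sq, h3]
    simp
  have h4 := classInner_irr_self hχ
  rw [← h4]
  simp only [classInner]
  congr 1
  apply Finset.sum_congr rfl
  intro g _
  rw [map_mul]
  calc _ = χ g * conj (χ g) * (((β g : ℂˣ) : ℂ) * conj ((β g : ℂˣ) : ℂ)) := by ring
    _ = _ := by rw [h1, mul_one]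

theorem irr_linear_of_comm_ker {Y : Type u} [Group Y] [Fintype Y] {β : Y → ℂ} (hβ : IsIrrCharacter Y β) (M : Subgroup Y)
    (hM : ∀ m ∈ M, β m = β 1) (hab : ∀ a b : Y, a * b * a⁻¹ * b⁻¹ ∈ M) : β 1 = 1 := by
  obtain ⟨k, r, hr, rfl⟩ := hβ
  have hker : ∀ m ∈ M, r m = LinearMap.id := by
    intro m hm
    apply (character_eq_finrank_iff r m).mp
    rw [hM m hm]
    exact Representation.char_one r
  have hcomm : ∀ a b : Y, r a * r b = r b * r a := by
    intro a b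
    have h1 := hker _ (hab a b)
    have h2 : r (a * b) = r (b * a) := by
      have h3 : a * b = (a * b * a⁻¹ * b⁻¹) * (b * a) := by group
      rw [h3, map_mul (r), h1]
      rfl
    rw [← map_mul, ← map_mul, h2]
  have hscal : ∀ a ∈ (⊤ : Subgroup Y), ∃ c : ℂ, r a = c • LinearMap.id := by
    intro a _
    exact schur r hr (r a) (fun g v => by
      have h1 := congrArg (fun T : Module.End ℂ _ => T v) (hcomm a g)
      exact h1)
  have h1 := finrank_dvd_index_of_scalar r hr ⊤ hscal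
  rw [Subgroup.index_top, Nat.dvd_one] at h1
  rw [Representation.char_one, h1]
  simp

/-- Twisting irreducible characters by linear characters of a quotient. -/
noncomputable def twistPerm {Y : Type*} [Group Y] [Fintype Y] (M : Subgroup Y) [M.Normal] : (Y ⧸ M →* ℂˣ) →* Equiv.Perm (IrrCharacter Y) where
  toFun l :=
    { toFun := fun χ => ⟨fun g => χ.1 g * (((l.comp (QuotientGroup.mk' M)) g : ℂˣ) : ℂ), irr_mul_hom χ.2 _⟩
      invFun := fun χ => ⟨fun g => χ.1 g * ((((l⁻¹).comp (QuotientGroup.mk' M)) g : ℂˣ) : ℂ), irr_mul_hom χ.2 _⟩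
      left_inv := fun χ => by
        apply Subtype.ext
        funext g
        show χ.1 g * ((l (QuotientGroup.mk' M g) : ℂˣ) : ℂ) * (((l (QuotientGroup.mk' M g))⁻¹ : ℂˣ) : ℂ) = χ.1 g
        rw [mul_assoc, Units.mul_inv, mul_one]
      right_inv := fun χ => by
        apply Subtype.ext
        funext g
        show χ.1 g * (((l (QuotientGroup.mk' M g))⁻¹ : ℂˣ) : ℂ) * ((l (QuotientGroup.mk' M g) : ℂˣ) : ℂ) = χ.1 g
        rw [mul_assoc, Units.inv_mul, mul_one] }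
  map_one' := by
    apply Equiv.ext
    intro χ
    apply Subtype.ext
    funext g
    show χ.1 g * (((1 : ℂˣ) : ℂˣ) : ℂ) = χ.1 g
    simp
  map_mul' := fun a b => by
    apply Equiv.ext
    intro χ
    apply Subtype.ext
    funext g
    show χ.1 g * (((a (QuotientGroup.mk' M g) * b (QuotientGroup.mk' M g)) : ℂˣ) : ℂ) = χ.1 g * ((b (QuotientGroup.mk' M g) : ℂˣ) : ℂ) * ((a (QuotientGroup.mk' M g) : ℂˣ) : ℂ)
    rw [Units.val_mul]
    ring

theorem twistPerm_apply {Y : Type*} [Group Y] [Fintype Y] (M : Subgroup Y) [M.Normal] (l : Y ⧸ M →* ℂˣ) (χ : IrrCharacter Y) (g : Y) :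
    (twistPerm M l χ).1 g = χ.1 g * ((l (QuotientGroup.mk' M g) : ℂˣ) : ℂ) := rfl

open Cfsg.Agent.Lib.Glaub in
set_option maxHeartbeats 2000000 in
/-- The abelian step: `θ` is invariant under `G` and `S`, and `G/N` is abelian. -/
theorem step_inv (S G N : Subgroup Γ) [Fintype G] [Fintype N] (hNG : N ≤ G)
    (hNn : ∀ g ∈ G, ∀ x ∈ N, g * x * g⁻¹ ∈ N) (hab : ∀ a ∈ G, ∀ b ∈ G, a * b * a⁻¹ * b⁻¹ ∈ N)
    (hSG : ∀ s ∈ S, ∀ g ∈ G, s * g * s⁻¹ ∈ G) (hSN : ∀ s ∈ S, ∀ x ∈ N, s * x * s⁻¹ ∈ N)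
    (hcop : (N.relIndex S).Coprime (N.relIndex G)) (θ : IrrCharacter N)
    (hθS : InvBy S N θ) (hθG : InvBy G N θ) :
    ∃ χ : IrrCharacter G, classInner (fun n : N => χ.1 ⟨n, hNG n.2⟩) θ.1 ≠ 0 ∧ InvBy S G χ := by
  classical
  let N' : Subgroup G := N.subgroupOf G
  haveI : Fintype N' := Fintype.ofFinite _
  haveI hN' : N'.Normal := ⟨fun n hn g => hNn g g.2 n hn⟩
  let e : N' ≃* N := Subgroup.subgroupOfEquivOfLe hNG
  have heval : ∀ n : N', ((e n : N) : Γ) = ((n : G) : Γ) := fun n => rfl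
  let φ := Cfsg.Agent.Lib.CharGlaub3.conjHom G S hSG
  let α := irrPerm φ
  let κ := twistPerm N'
  have hαv : ∀ (s : S) (χ : IrrCharacter G) (g g' : G), (g' : Γ) = (s : Γ)⁻¹ * g * s → (α s χ).1 g = χ.1 g' := by
    intro s χ g g' h
    show χ.1 (Cfsg.Agent.Lib.CharGlaub3.conjHom G S hSG s⁻¹ g) = χ.1 g'
    refine congrArg χ.1 (Subtype.ext ?_)
    rw [h, Cfsg.Agent.Lib.CharGlaub3.conjHom_apply]
    simp
  have hαN : ∀ s ∈ N.subgroupOf S, α s = 1 := by
    intro s hs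
    apply Equiv.ext
    intro χ
    apply Subtype.ext
    funext g
    have hs' : (s : Γ) ∈ N := Subgroup.mem_subgroupOf.mp hs
    have hsG : (s : Γ)⁻¹ ∈ G := G.inv_mem (hNG hs')
    have hcl := classFunction_of_isIrrCharacter χ.2 g ⟨(s : Γ)⁻¹, hsG⟩
    rw [hαv s χ g ⟨(s : Γ)⁻¹ * g * s, by
      have h1 := G.mul_mem (G.mul_mem hsG g.2) (hNG hs')
      exact h1⟩ rfl]
    show _ = χ.1 g
    rw [← hcl]
    refine congrArg χ.1 (Subtype.ext ?_)
    simp
  have hκN : ∀ (l : G ⧸ N' →* ℂˣ) (n : G), n ∈ N' → (l (QuotientGroup.mk' N' n)) = 1 := by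
    intro l n hn
    have h1 : QuotientGroup.mk' N' n = 1 := (QuotientGroup.eq_one_iff n).mpr hn
    rw [h1, map_one]
  have hcop' : (Nat.card α.range).Coprime (Nat.card κ.range) := by
    have h1 : Nat.card α.range ∣ N.relIndex S := card_range_dvd_index α _ hαN
    apply Nat.Coprime.coprime_dvd_left h1
    by_contra hcon
    obtain ⟨r, hr, hr1, hr2⟩ := Nat.Prime.not_coprime_iff_dvd.mp hcon
    obtain ⟨z, hz⟩ := exists_prime_orderOf_dvd_card' r hr2 (hp := ⟨hr⟩)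
    obtain ⟨⟨_, l, rfl⟩, rfl⟩ : ∃ z' : κ.range, z' = z := ⟨z, rfl⟩
    have hlb : l ^ (N.relIndex G) = 1 := by
      apply MonoidHom.ext
      intro q
      show (l q) ^ (N.relIndex G) = 1
      rw [← map_pow]
      have h2 : q ^ (N.relIndex G) = 1 := by
        have h3 : Nat.card (G ⧸ N') = N.relIndex G := rfl
        rw [← h3]
        exact pow_card_eq_one'
      rw [h2, map_one]
    have h4 : orderOf (⟨κ l, l, rfl⟩ : κ.range) ∣ N.relIndex G := by
      apply orderOf_dvd_of_pow_eq_one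
      apply Subtype.ext
      show (κ l) ^ (N.relIndex G) = 1
      rw [← map_pow, hlb, map_one]
    rw [hz] at h4
    exact Nat.not_coprime_of_dvd_of_dvd hr.one_lt hr1 h4 hcop
  have hsolv' : Group.IsSolvable α.range ∨ Group.IsSolvable κ.range :=
    Or.inr (Group.isSolvable_of_surjective κ.rangeRestrict_surjective)
  have hn : ∀ a k, ∃ k', α a * κ k * (α a)⁻¹ = κ k' := by
    intro s l
    have hpres : N' ≤ N'.comap (Cfsg.Agent.Lib.CharGlaub3.conjHom G S hSG s⁻¹ : G ≃* G).toMonoidHom := by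
      intro n hn
      have h1 : ((n : G) : Γ) ∈ N := Subgroup.mem_subgroupOf.mp hn
      exact Subgroup.mem_subgroupOf.mpr (hSN _ (S.inv_mem s.2) _ h1)
    refine ⟨l.comp (QuotientGroup.map N' N' (Cfsg.Agent.Lib.CharGlaub3.conjHom G S hSG s⁻¹ : G ≃* G).toMonoidHom hpres), ?_⟩
    apply Equiv.ext
    intro χ
    apply Subtype.ext
    funext g
    rw [← map_inv]
    show χ.1 (Cfsg.Agent.Lib.CharGlaub3.conjHom G S hSG s⁻¹⁻¹ (Cfsg.Agent.Lib.CharGlaub3.conjHom G S hSG s⁻¹ g)) * _ = χ.1 g * _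
    congr 1
    refine congrArg χ.1 (Subtype.ext ?_)
    simp only [Cfsg.Agent.Lib.CharGlaub3.conjHom_apply]
    simp only [Subgroup.coe_inv, inv_inv]
    group
  -- the set of characters over `θ`
  let χN : IrrCharacter G → N → ℂ := fun χ n => χ.1 ⟨n, hNG n.2⟩
  let X : Set (IrrCharacter G) := {χ | classInner (χN χ) θ.1 ≠ 0}
  let θ' : N' → ℂ := θ.1 ∘ e
  have hθ' : IsIrrCharacter N' θ' := IsIrrCharacter.comp_surjective θ.2 e.toMonoidHom e.surjective
  have hres : ∀ χ : IrrCharacter G, classInner (fun n : N' => χ.1 n) θ' = classInner (χN χ) θ.1 := by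
    intro χ
    exact classInner_comp_equiv e (χN χ) θ.1
  have hne : X.Nonempty := by
    obtain ⟨χ, hχ⟩ := Cfsg.Agent.Lib.BlockNorm.exists_cover N' ⟨θ', hθ'⟩
    refine ⟨χ, ?_⟩
    show classInner (χN χ) θ.1 ≠ 0
    rw [← hres]
    exact hχ
  have hinvK : ∀ k, ∀ x ∈ X, κ k x ∈ X := by
    intro l χ hχ
    show classInner (χN (κ l χ)) θ.1 ≠ 0
    have h1 : χN (κ l χ) = χN χ := by
      funext n
      show χ.1 _ * _ = _
      have h2 : (l.comp (QuotientGroup.mk' N')) ⟨n, hNG n.2⟩ = 1 := hκN l ⟨n, hNG n.2⟩ (Subgroup.mem_subgroupOf.mpr n.2)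
      rw [h2]
      simp [χN]
    rw [h1]
    exact hχ
  have hinvA : ∀ a, ∀ x ∈ X, α a x ∈ X := by
    intro s χ hχ
    show classInner (χN (α s χ)) θ.1 ≠ 0
    let c : N ≃* N := Cfsg.Agent.Lib.CharGlaub3.conjHom N S hSN s⁻¹
    have h1 : χN (α s χ) = χN χ ∘ c := by
      funext n
      exact hαv s χ ⟨n, hNG n.2⟩ _ (by
        show (s : Γ)⁻¹ * n * ((s : Γ)⁻¹)⁻¹ = (s : Γ)⁻¹ * n * s
        rw [inv_inv])
    have h2 : θ.1 ∘ c = θ.1 := by
      funext n
      exact hθS _ (S.inv_mem s.2) _ _ rfl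
    have h3 := classInner_comp_equiv c (χN χ) θ.1
    rw [h2] at h3
    rw [h1, h3]
    exact hχ
  have hinv0 : ∀ (g : G) (n : N'), θ' ⟨g * n * g⁻¹, hN'.conj_mem n n.2 g⟩ = θ' n := by
    intro g n
    exact hθG g g.2 (e n) _ rfl
  have htrans : ∀ x ∈ X, ∀ y ∈ X, ∃ k, κ k x = y := by
    intro x hx y hy
    have hcx : classInner (fun n : N' => x.1 n) θ' ≠ 0 := by
      rw [hres]
      exact hx
    have hcy : classInner (fun n : N' => y.1 n) θ' ≠ 0 := by
      rw [hres]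
      exact hy
    obtain ⟨ex, hex0, -, hexr⟩ := res_eq_smul_of_inv (K := G) (L := N') hθ' hinv0 x.2 hcx
    obtain ⟨ey, hey0, -, heyr⟩ := res_eq_smul_of_inv (K := G) (L := N') hθ' hinv0 y.2 hcy
    let one : N' → ℂ := fun _ => 1
    have hone : IsIrrCharacter N' one := by
      have h1 := isIrrCharacter_of_hom (1 : N' →* ℂˣ)
      simpa using h1
    let ω : G → ℂ := indFun N' one
    have hωcl : IsClassFunction G ω := classFunction_of_isCharacter (IsCharacter.ind N' (IsIrrCharacter.isCharacter hone))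
    have hxcl := classFunction_of_isIrrCharacter x.2
    have hycl := classFunction_of_isIrrCharacter y.2
    have h1 : indFun N' (fun n : N' => x.1 n) = fun g => ω g * x.1 g := by
      have h2 := indFun_mul_class N' one x.1 hxcl
      have h3 : (fun h : N' => one h * x.1 h) = fun n : N' => x.1 n := by
        funext h
        exact one_mul _
      rw [h3] at h2
      exact h2
    have hA : classInner (fun g => ω g * x.1 g) y.1 ≠ 0 := by
      rw [← h1, frobenius N' _ y.1 hycl, hexr, heyr, classInner_smul_left, classInner_smul_right, classInner_irr_self hθ']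
      simp only [map_natCast, mul_one]
      exact mul_ne_zero (by exact_mod_cast hex0) (by exact_mod_cast hey0)
    have hexp : (fun g => ω g * x.1 g) = ∑ β : IrrCharacter G, classInner ω β.1 • (fun g => β.1 g * x.1 g) := by
      funext g
      have h2 := congrFun (classFun_eq_sum ω hωcl) g
      simp only [Finset.sum_apply, Pi.smul_apply, smul_eq_mul] at h2 ⊢
      rw [h2, Finset.sum_mul]
      apply Finset.sum_congr rfl
      intro β _
      ring
    rw [hexp, classInner_sum_left] at hA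
    obtain ⟨β, -, hβ⟩ := Finset.exists_ne_zero_of_sum_ne_zero hA
    rw [classInner_smul_left] at hβ
    have hβ1 : classInner ω β.1 ≠ 0 := left_ne_zero_of_mul hβ
    have hβ2 : classInner (fun g => β.1 g * x.1 g) y.1 ≠ 0 := right_ne_zero_of_mul hβ
    have hβcl := classFunction_of_isIrrCharacter β.2
    have hβ3 : classInner (fun n : N' => β.1 n) one ≠ 0 := by
      have h2 := frobenius N' one β.1 hβcl
      intro h3
      apply hβ1
      show classInner (indFun N' one) β.1 = 0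
      rw [h2, ← classInner_conj_symm, h3, map_zero]
    have honeinv : ∀ (g : G) (n : N'), one ⟨g * n * g⁻¹, hN'.conj_mem n n.2 g⟩ = one n := fun g n => rfl
    obtain ⟨f, hf0, -, hfr⟩ := res_eq_smul_of_inv (K := G) (L := N') hone honeinv β.2 hβ3
    have hβker : ∀ n ∈ N', β.1 n = β.1 1 := by
      intro n hn
      have h2 := congrFun hfr ⟨n, hn⟩
      have h3 := congrFun hfr 1
      simp only [Pi.smul_apply, one, smul_eq_mul, Subgroup.coe_one] at h2 h3
      rw [h2, h3]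
    have hβlin : β.1 1 = 1 := irr_linear_of_comm_ker β.2 N' hβker (fun a b => Subgroup.mem_subgroupOf.mpr (hab a a.2 b b.2))
    obtain ⟨b, hb⟩ := exists_hom_of_linear (IsIrrCharacter.isCharacter β.2) hβlin
    have hbN : ∀ n ∈ N', b n = 1 := by
      intro n hn
      apply Units.ext
      exact (congrFun hb n).symm.trans ((hβker n hn).trans hβlin)
    let l : G ⧸ N' →* ℂˣ := QuotientGroup.lift N' b hbN
    refine ⟨l, ?_⟩
    by_contra hcon
    apply hβ2
    have h2 : (fun g => β.1 g * x.1 g) = (κ l x).1 := by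
      funext g
      show _ = x.1 g * ((b g : ℂˣ) : ℂ)
      rw [congrFun hb g, mul_comm]
    rw [h2, classInner_irr (κ l x).2 y.2, if_neg]
    intro h3
    exact hcon (Subtype.ext h3)
  obtain ⟨χ, hχ, hfix⟩ := perm_glauberman α κ hn hcop' hsolv' X hne htrans hinvK hinvA
  refine ⟨χ, hχ, ?_⟩
  intro s hs g g' hg'
  have h1 := hfix ⟨s, hs⟩
  have h2 := congrFun (congrArg Subtype.val h1) g'
  rw [← h2]
  exact (hαv ⟨s, hs⟩ χ g' g (by
    rw [hg']
    show (g : Γ) = s⁻¹ * (s * g * s⁻¹) * s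
    group)).symm ▸ rfl

end StepInv

section StepAb

variable {Γ : Type u} [Group Γ] [Fintype Γ]

theorem indFun_aut {Y : Type*} [Group Y] [Fintype Y] (T : Subgroup Y) (ψ : T → ℂ) (f : Y ≃* Y)
    (hT : ∀ y, f y ∈ T ↔ y ∈ T) (hψ : ∀ t : T, ψ ⟨f t, (hT t).mpr t.2⟩ = ψ t) (g : Y) :
    indFun T ψ (f g) = indFun T ψ g := by
  classical
  rw [indFun_apply, indFun_apply]
  congr 1
  rw [← Equiv.sum_comp f.toEquiv]
  apply Finset.sum_congr rfl
  intro x _
  have h : (f x)⁻¹ * f g * f x = f (x⁻¹ * g * x) := by simp [map_mul, map_inv]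
  show extendByZero T ψ ((f x)⁻¹ * f g * f x) = _
  rw [h]
  by_cases hy : x⁻¹ * g * x ∈ T
  · rw [extendByZero_of_mem T ψ ((hT _).mpr hy), extendByZero_of_mem T ψ hy]
    exact hψ ⟨_, hy⟩
  · rw [extendByZero_of_not_mem T ψ (mt (hT _).mp hy), extendByZero_of_not_mem T ψ hy]

open Cfsg.Agent.Lib.Glaub in
set_option maxHeartbeats 2000000 in
/-- The abelian step with the Clifford correspondence. -/
theorem step_ab (S : Subgroup Γ) : ∀ (m : ℕ) (G N : Subgroup Γ) [Fintype G] [Fintype N] (hNG : N ≤ G), N.relIndex G = m →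
    (∀ g ∈ G, ∀ x ∈ N, g * x * g⁻¹ ∈ N) → (∀ a ∈ G, ∀ b ∈ G, a * b * a⁻¹ * b⁻¹ ∈ N) →
    (∀ s ∈ S, ∀ g ∈ G, s * g * s⁻¹ ∈ G) → (∀ s ∈ S, ∀ x ∈ N, s * x * s⁻¹ ∈ N) →
    (N.relIndex S).Coprime (N.relIndex G) → ∀ θ : IrrCharacter N, InvBy S N θ →
    ∃ χ : IrrCharacter G, classInner (fun n : N => χ.1 ⟨n, hNG n.2⟩) θ.1 ≠ 0 ∧ InvBy S G χ := by
  classical
  intro m
  induction m using Nat.strong_induction_on with
  | _ m ih =>
  intro G N _ _ hNG hm hNn hab hSG hSN hcop θ hθS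
  by_cases hinv : InvBy G N θ
  · exact step_inv S G N hNG hNn hab hSG hSN hcop θ hθS hinv
  let N' : Subgroup G := N.subgroupOf G
  haveI : Fintype N' := Fintype.ofFinite _
  haveI hN' : N'.Normal := ⟨fun n hn g => hNn g g.2 n hn⟩
  let e : N' ≃* N := Subgroup.subgroupOfEquivOfLe hNG
  let θ' : N' → ℂ := θ.1 ∘ e
  have hθ' : IsIrrCharacter N' θ' := IsIrrCharacter.comp_surjective θ.2 e.toMonoidHom e.surjective
  let T' : Subgroup G := inertia N' θ'
  let T : Subgroup Γ := T'.map G.subtype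
  have hTG : T ≤ G := by
    rintro _ ⟨y, -, rfl⟩
    exact y.2
  have hT'T : ∀ y : G, y ∈ T' ↔ (y : Γ) ∈ T := by
    intro y
    constructor
    · intro h
      exact Subgroup.mem_map_of_mem _ h
    · rintro ⟨z, hz, hzy⟩
      have h1 : z = y := Subtype.ext hzy
      rwa [← h1]
  have hHT : N' ≤ T' := le_inertia N' (classFunction_of_isIrrCharacter hθ')
  have hNT : N ≤ T := by
    intro x hx
    have h1 : (⟨x, hNG hx⟩ : G) ∈ N' := Subgroup.mem_subgroupOf.mpr hx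
    exact (hT'T ⟨x, hNG hx⟩).mp (hHT h1)
  -- membership in the inertia group in ambient terms
  have hTmem : ∀ y : G, y ∈ T' ↔ ∀ x x' : N, (x' : Γ) = y * x * (y : Γ)⁻¹ → θ.1 x' = θ.1 x := by
    intro y
    constructor
    · intro h x x' hx'
      have h1 := (mem_inertia N' θ' y).mp h (e.symm x)
      have h2 : ((e.symm x : N') : G) = ⟨x, hNG x.2⟩ := by
        apply Subtype.ext
        have h4 : e (e.symm x) = x := e.apply_symm_apply x
        exact congrArg (fun z : N => (z : Γ)) h4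
      have h3 : θ' (e.symm x) = θ.1 x := by
        show θ.1 (e (e.symm x)) = _
        rw [e.apply_symm_apply]
      rw [h3] at h1
      rw [← h1]
      refine congrArg θ.1 (Subtype.ext ?_)
      rw [hx']
      show _ = (y : Γ) * (((e.symm x : N') : G) : Γ) * (y : Γ)⁻¹
      rw [h2]
    · intro h
      rw [mem_inertia]
      intro x
      exact h (e x) (e _) rfl
  have hTne : T ≠ G := by
    intro hTG'
    apply hinv
    intro g hg x x' hx'
    have h1 : (⟨g, hg⟩ : G) ∈ T' := (hT'T _).mpr (by rw [hTG']; exact hg)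
    exact (hTmem _).mp h1 x x' hx'
  have hmul := Subgroup.relIndex_mul_relIndex N T G hNT hTG
  have hne1 : T.relIndex G ≠ 1 := by
    intro h
    rw [Subgroup.relIndex_eq_one] at h
    exact hTne (le_antisymm hTG h)
  have hm0 : N.relIndex G ≠ 0 := Subgroup.index_ne_zero_of_finite
  have hne0 : T.relIndex G ≠ 0 := by
    intro h
    rw [h, mul_zero] at hmul
    exact hm0 hmul.symm
  have hlt : N.relIndex T < m := by
    rw [← hm, ← hmul]
    have h2 : 2 ≤ T.relIndex G := by omega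
    have h3 : 0 < N.relIndex T := by
      rcases Nat.eq_zero_or_pos (N.relIndex T) with h | h
      · rw [h, zero_mul] at hmul
        exact absurd hmul.symm hm0
      · exact h
    nlinarith
  haveI : Fintype T := Fintype.ofFinite _
  have hSGT : ∀ s ∈ S, ∀ g ∈ T, s * g * s⁻¹ ∈ T := by
    intro s hs g hg
    have hgG : g ∈ G := hTG hg
    have hmemG : s * g * s⁻¹ ∈ G := hSG s hs g hgG
    refine (hT'T ⟨_, hmemG⟩).mp ((hTmem _).mpr ?_)
    intro x x' hx'
    have hg' : (⟨g, hgG⟩ : G) ∈ T' := (hT'T _).mpr hg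
    have h1 := (hTmem _).mp hg'
    -- s⁻¹ x s
    let w : N := ⟨s⁻¹ * x * s⁻¹⁻¹, hSN _ (S.inv_mem hs) _ x.2⟩
    have hw : θ.1 w = θ.1 x := hθS _ (S.inv_mem hs) x w rfl
    let w' : N := ⟨g * w * g⁻¹, hNn g hgG _ w.2⟩
    have hw' : θ.1 w' = θ.1 w := h1 w w' rfl
    have hx'' : θ.1 x' = θ.1 w' := by
      apply hθS s hs w' x'
      rw [hx']
      show _ = s * (g * (s⁻¹ * x * s⁻¹⁻¹) * g⁻¹) * s⁻¹
      show s * g * s⁻¹ * (x : Γ) * (s * g * s⁻¹)⁻¹ = _
      group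
    rw [hx'', hw', hw]
  have hdvd : N.relIndex T ∣ N.relIndex G := Dvd.intro _ hmul
  obtain ⟨ψ, hψc, hψS⟩ := ih _ hlt T N hNT rfl (fun g hg => hNn g (hTG hg)) (fun a ha b hb => hab a (hTG ha) b (hTG hb))
    hSGT hSN (Nat.Coprime.coprime_dvd_right hdvd hcop) θ hθS
  -- Clifford correspondence
  let eT : T' ≃* T := Subgroup.equivMapOfInjective T' G.subtype G.subtype_injective
  have heT : ∀ t : T', ((eT t : T) : Γ) = ((t : G) : Γ) := fun t => rfl
  let ψ' : T' → ℂ := ψ.1 ∘ eT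
  have hψ' : IsIrrCharacter T' ψ' := IsIrrCharacter.comp_surjective ψ.2 eT.toMonoidHom eT.surjective
  have hresψ : resTo N' T' hHT ψ' = (fun n : N => ψ.1 ⟨n, hNT n.2⟩) ∘ e := by
    funext n
    show ψ.1 (eT ⟨n, hHT n.2⟩) = ψ.1 ⟨(e n : Γ), hNT (e n).2⟩
    exact congrArg ψ.1 (Subtype.ext rfl)
  have hc : classInner (resTo N' T' hHT ψ') θ' ≠ 0 := by
    rw [hresψ]
    show classInner ((fun n : N => ψ.1 ⟨n, hNT n.2⟩) ∘ e) (θ.1 ∘ e) ≠ 0
    rw [classInner_comp_equiv e]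
    exact hψc
  obtain ⟨hirr, hmult⟩ := clifford_main N' T' hHT hθ' (fun g => mem_inertia N' θ' g) hψ' hc
  refine ⟨⟨indFun T' ψ', hirr⟩, ?_, ?_⟩
  · have h1 : classInner (fun n : N' => indFun T' ψ' n) θ' = classInner (fun n : N => indFun T' ψ' ⟨n, hNG n.2⟩) θ.1 :=
      classInner_comp_equiv e (fun n : N => indFun T' ψ' ⟨n, hNG n.2⟩) θ.1
    show classInner (fun n : N => indFun T' ψ' ⟨n, hNG n.2⟩) θ.1 ≠ 0
    rw [← h1, hmult]
    exact hc
  · intro s hs g g' hg'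
    let f : G ≃* G := Cfsg.Agent.Lib.CharGlaub3.conjHom G S hSG ⟨s, hs⟩
    have hfv : ∀ y : G, ((f y : G) : Γ) = s * y * s⁻¹ := fun y => rfl
    have hTf : ∀ y, f y ∈ T' ↔ y ∈ T' := by
      intro y
      rw [hT'T, hT'T, hfv]
      constructor
      · intro h
        have h1 := hSGT s⁻¹ (S.inv_mem hs) _ h
        have h2 : s⁻¹ * (s * (y : Γ) * s⁻¹) * s⁻¹⁻¹ = y := by group
        rwa [h2] at h1
      · exact hSGT s hs _
    have h1 := indFun_aut T' ψ' f hTf (by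
      intro t
      show ψ.1 (eT _) = ψ.1 (eT t)
      exact hψS s hs (eT t) _ rfl) g
    have h2 : f g = g' := Subtype.ext hg'.symm
    rw [h2] at h1
    exact h1

theorem over_trans (N D G : Subgroup Γ) [Fintype N] [Fintype D] [Fintype G] (hND : N ≤ D) (hDG : D ≤ G) (hNG : N ≤ G)
    (χ : IrrCharacter G) (ψ : IrrCharacter D) (θ : IrrCharacter N)
    (h1 : classInner (fun x : D => χ.1 ⟨x, hDG x.2⟩) ψ.1 ≠ 0) (h2 : classInner (fun n : N => ψ.1 ⟨n, hND n.2⟩) θ.1 ≠ 0) :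
    classInner (fun n : N => χ.1 ⟨n, hNG n.2⟩) θ.1 ≠ 0 := by
  classical
  have hα : IsCharacter D (fun x : D => χ.1 ⟨x, hDG x.2⟩) := IsCharacter.comp (IsIrrCharacter.isCharacter χ.2) (Subgroup.inclusion hDG)
  have hβ := IsCharacter.sub_constituent hα ψ.2 h1
  have hβN : IsCharacter N (fun n : N => ((fun x : D => χ.1 ⟨x, hDG x.2⟩) - ψ.1) ⟨n, hND n.2⟩) := IsCharacter.comp hβ (Subgroup.inclusion hND)
  have hψN : IsCharacter N (fun n : N => ψ.1 ⟨n, hND n.2⟩) := IsCharacter.comp (IsIrrCharacter.isCharacter ψ.2) (Subgroup.inclusion hND)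
  obtain ⟨a, ha⟩ := IsCharacter.classInner_irr_nat hβN θ.2
  obtain ⟨b, hb⟩ := IsCharacter.classInner_irr_nat hψN θ.2
  have hsum : (fun n : N => χ.1 ⟨n, hNG n.2⟩) = (fun n : N => ((fun x : D => χ.1 ⟨x, hDG x.2⟩) - ψ.1) ⟨n, hND n.2⟩) + (fun n : N => ψ.1 ⟨n, hND n.2⟩) := by
    funext n
    simp
  rw [hsum, classInner_add_left, ha, hb]
  have hb0 : b ≠ 0 := by
    rintro rfl
    apply h2
    rw [hb]
    simp
  intro h
  have h3 : ((a + b : ℕ) : ℂ) = 0 := by
    push_cast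
    exact h
  have h4 : a + b = 0 := by exact_mod_cast h3
  omega

theorem conj_D (G N : Subgroup Γ) (x : Γ) (hG : ∀ g ∈ G, x * g * x⁻¹ ∈ G) (hN : ∀ n ∈ N, x * n * x⁻¹ ∈ N) :
    ∀ d ∈ ⁅G, G⁆ ⊔ N, x * d * x⁻¹ ∈ ⁅G, G⁆ ⊔ N := by
  intro d hd
  let c : Γ →* Γ := (MulAut.conj x).toMonoidHom
  have hc : ∀ y, c y = x * y * x⁻¹ := fun y => rfl
  have h1 : (⁅G, G⁆ ⊔ N).map c ≤ ⁅G, G⁆ ⊔ N := by
    rw [Subgroup.map_sup, Subgroup.map_commutator]
    have hGm : G.map c ≤ G := by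
      rintro _ ⟨g, hg, rfl⟩
      exact hG g hg
    have hNm : N.map c ≤ N := by
      rintro _ ⟨g, hg, rfl⟩
      exact hN g hg
    exact sup_le_sup (Subgroup.commutator_mono hGm hGm) hNm
  exact h1 (Subgroup.mem_map_of_mem c hd)

open Cfsg.Agent.Lib.Glaub in
set_option maxHeartbeats 2000000 in
/-- The general solvable case. -/
theorem step_solv (S : Subgroup Γ) : ∀ (m : ℕ) (G N : Subgroup Γ) [Fintype G] [Fintype N] (hNG : N ≤ G) [(N.subgroupOf G).Normal], N.relIndex G = m →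
    Group.IsSolvable (G ⧸ N.subgroupOf G) →
    (∀ s ∈ S, ∀ g ∈ G, s * g * s⁻¹ ∈ G) → (∀ s ∈ S, ∀ x ∈ N, s * x * s⁻¹ ∈ N) →
    (N.relIndex S).Coprime (N.relIndex G) → ∀ θ : IrrCharacter N, InvBy S N θ →
    ∃ χ : IrrCharacter G, classInner (fun n : N => χ.1 ⟨n, hNG n.2⟩) θ.1 ≠ 0 ∧ InvBy S G χ := by
  classical
  intro m
  induction m using Nat.strong_induction_on with
  | _ m ih =>
  intro G N _ _ hNG hNnorm hm hsolv hSG hSN hcop θ hθS
  have hNn : ∀ g ∈ G, ∀ x ∈ N, g * x * g⁻¹ ∈ N := by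
    intro g hg n hn
    have h1 := hNnorm.conj_mem ⟨n, hNG hn⟩ (Subgroup.mem_subgroupOf.mpr hn) ⟨g, hg⟩
    exact Subgroup.mem_subgroupOf.mp h1
  by_cases hGN : G ≤ N
  · have hGeq : G = N := le_antisymm hGN hNG
    subst hGeq
    refine ⟨θ, ?_, hθS⟩
    have h1 : (fun n : G => θ.1 ⟨n, hNG n.2⟩) = θ.1 := rfl
    rw [h1, classInner_irr_self θ.2]
    exact one_ne_zero
  obtain ⟨D, hD⟩ : ∃ D : Subgroup Γ, D = ⁅G, G⁆ ⊔ N := ⟨_, rfl⟩
  have hDG : D ≤ G := by
    rw [hD]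
    refine sup_le (Subgroup.commutator_le.mpr fun a ha b hb => ?_) hNG
    rw [commutatorElement_def]
    exact G.mul_mem (G.mul_mem (G.mul_mem ha hb) (G.inv_mem ha)) (G.inv_mem hb)
  have hND : N ≤ D := by
    rw [hD]
    exact le_sup_right
  have hDn : ∀ g ∈ G, ∀ x ∈ D, g * x * g⁻¹ ∈ D := by
    intro g hg x hx
    rw [hD] at hx ⊢
    exact conj_D G N g (fun y hy => G.mul_mem (G.mul_mem hg hy) (G.inv_mem hg)) (hNn g hg) x hx
  have hSD : ∀ s ∈ S, ∀ x ∈ D, s * x * s⁻¹ ∈ D := by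
    intro s hs x hx
    rw [hD] at hx ⊢
    exact conj_D G N s (hSG s hs) (hSN s hs) x hx
  have hDab : ∀ a ∈ G, ∀ b ∈ G, a * b * a⁻¹ * b⁻¹ ∈ D := by
    intro a ha b hb
    rw [hD]
    exact Subgroup.mem_sup_left (Subgroup.commutator_mem_commutator ha hb)
  have hDne : D ≠ G := by
    intro hDG'
    obtain ⟨g₁, hg₁, hg₁N⟩ := Set.not_subset.mp hGN
    haveI : Nontrivial (G ⧸ N.subgroupOf G) := by
      refine ⟨⟨QuotientGroup.mk ⟨g₁, hg₁⟩, 1, ?_⟩⟩
      intro h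
      exact hg₁N (Subgroup.mem_subgroupOf.mp ((QuotientGroup.eq_one_iff _).mp h))
    have hlt := Group.IsSolvable.commutator_lt_top_of_nontrivial (G := G ⧸ N.subgroupOf G)
    obtain ⟨q, -, hq⟩ := SetLike.exists_of_lt hlt
    obtain ⟨g₀, rfl⟩ := QuotientGroup.mk_surjective q
    apply hq
    let D'' : Subgroup Γ := ((commutator (G ⧸ N.subgroupOf G)).comap (QuotientGroup.mk' (N.subgroupOf G))).map G.subtype
    have hle : ⁅G, G⁆ ⊔ N ≤ D'' := by
      apply sup_le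
      · rw [Subgroup.commutator_le]
        intro a ha b hb
        refine ⟨⁅(⟨a, ha⟩ : G), (⟨b, hb⟩ : G)⁆, ?_, rfl⟩
        show QuotientGroup.mk' (N.subgroupOf G) ⁅(⟨a, ha⟩ : G), (⟨b, hb⟩ : G)⁆ ∈ commutator _
        rw [map_commutatorElement, commutator_def]
        exact Subgroup.commutator_mem_commutator (Subgroup.mem_top _) (Subgroup.mem_top _)
      · intro x hx
        refine ⟨⟨x, hNG hx⟩, ?_, rfl⟩
        show QuotientGroup.mk' (N.subgroupOf G) ⟨x, hNG hx⟩ ∈ commutator _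
        have h1 : QuotientGroup.mk' (N.subgroupOf G) ⟨x, hNG hx⟩ = 1 := (QuotientGroup.eq_one_iff _).mpr (Subgroup.mem_subgroupOf.mpr hx)
        rw [h1]
        exact Subgroup.one_mem _
    have hg₀ : (g₀ : Γ) ∈ D'' := by
      apply hle
      rw [← hD, hDG']
      exact g₀.2
    obtain ⟨z, hz, hzg⟩ := hg₀
    have h1 : z = g₀ := Subtype.ext hzg
    rw [h1] at hz
    exact hz
  have hmul := Subgroup.relIndex_mul_relIndex N D G hND hDG
  have hne1 : D.relIndex G ≠ 1 := by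
    intro h
    rw [Subgroup.relIndex_eq_one] at h
    exact hDne (le_antisymm hDG h)
  have hm0 : N.relIndex G ≠ 0 := Subgroup.index_ne_zero_of_finite
  have hne0 : D.relIndex G ≠ 0 := by
    intro h
    rw [h, mul_zero] at hmul
    exact hm0 hmul.symm
  have hlt : N.relIndex D < m := by
    rw [← hm, ← hmul]
    have h2 : 2 ≤ D.relIndex G := by omega
    have h3 : 0 < N.relIndex D := by
      rcases Nat.eq_zero_or_pos (N.relIndex D) with h | h
      · rw [h, zero_mul] at hmul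
        exact absurd hmul.symm hm0
      · exact h
    nlinarith
  haveI : Fintype D := Fintype.ofFinite _
  haveI hNDn : (N.subgroupOf D).Normal := ⟨fun n hn g => Subgroup.mem_subgroupOf.mpr (hNn g (hDG g.2) n (Subgroup.mem_subgroupOf.mp hn))⟩
  have hsolvD : Group.IsSolvable (D ⧸ N.subgroupOf D) := by
    haveI := hsolv
    let f : D ⧸ N.subgroupOf D →* G ⧸ N.subgroupOf G := QuotientGroup.map _ _ (Subgroup.inclusion hDG) (by
      intro x hx
      exact Subgroup.mem_subgroupOf.mpr (Subgroup.mem_subgroupOf.mp hx))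
    have hf : Function.Injective f := by
      rw [injective_iff_map_eq_one]
      intro q hq
      obtain ⟨d, rfl⟩ := QuotientGroup.mk_surjective q
      have h1 : QuotientGroup.mk (Subgroup.inclusion hDG d) = (1 : G ⧸ N.subgroupOf G) := hq
      have h2 := Subgroup.mem_subgroupOf.mp ((QuotientGroup.eq_one_iff _).mp h1)
      exact (QuotientGroup.eq_one_iff _).mpr (Subgroup.mem_subgroupOf.mpr h2)
    exact solvable_of_solvable_injective hf
  have hdvd : N.relIndex D ∣ N.relIndex G := Dvd.intro _ hmul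
  obtain ⟨ψ, hψc, hψS⟩ := ih _ hlt D N hND rfl hsolvD hSD hSN (Nat.Coprime.coprime_dvd_right hdvd hcop) θ hθS
  have hdvd2 : D.relIndex G ∣ N.relIndex G := Dvd.intro_left _ hmul
  have hcopD : (D.relIndex S).Coprime (D.relIndex G) :=
    Nat.Coprime.coprime_dvd_left (Subgroup.relIndex_dvd_of_le_left S hND) (Nat.Coprime.coprime_dvd_right hdvd2 hcop)
  obtain ⟨χ, hχc, hχS⟩ := step_ab S _ G D hDG rfl hDn hDab hSG hSD hcopD ψ hψS
  exact ⟨χ, over_trans N D G hND hDG hNG χ ψ θ hχc hψc, hχS⟩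

end StepAb

end Cfsg.Agent.Lib.CharGlaub7
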