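import Cfsg.Agent.Lib.Glaub2
import Cfsg.Agent.Lib.BlockE2

set_option autoImplicit false
set_option linter.unusedSectionVars false
set_option linter.unusedVariables false
set_option linter.style.longLine false

universe u

namespace Cfsg.Agent.Lib.Glaub

open Cfsg Cfsg.Agent.Lib.IrrBasic Cfsg.Agent.Lib
open Cfsg.Agent.Lib.CharBasic Cfsg.Agent.Lib.CharOrth Cfsg.Agent.Lib.CharAlg Cfsg.Agent.Lib.BlockInfl
open scoped ComplexConjugate

section R
variable {Γ : Type u} [Group Γ] [Finite Γ]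

/-- The reduction step for solvable actions. -/
theorem exists_reduction (S : Subgroup Γ) [Group.IsSolvable S] (G : Subgroup Γ)
    (hS : ∀ s ∈ S, ∀ g ∈ G, s * g * s⁻¹ ∈ G) (hcop : (Nat.card G).Coprime (Nat.card S))
    (htriv : ¬ ∀ s ∈ S, ∀ g ∈ G, s * g * s⁻¹ = g) :
    ∃ (p : ℕ) (_ : Fact p.Prime) (P : Subgroup Γ), P ≤ S ∧ IsPGroup p P ∧ ¬ p ∣ Nat.card G ∧
      (∃ u ∈ P, ∃ g ∈ G, u * g * u⁻¹ ≠ g) ∧
      (∀ s ∈ S, ∀ u ∈ P, ∃ v ∈ P, ∀ g ∈ G, (s * u * s⁻¹) * g * (s * u * s⁻¹)⁻¹ = v * g * v⁻¹) := by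
  classical
  let K' : Subgroup S :=
    { carrier := {x | ∀ g ∈ G, (x : Γ) * g * (x : Γ)⁻¹ = g}
      one_mem' := fun g _ => by simp
      mul_mem' := fun {a b} ha hb g hg => by
        change ((a : Γ) * (b : Γ)) * g * ((a : Γ) * (b : Γ))⁻¹ = g
        calc ((a : Γ) * (b : Γ)) * g * ((a : Γ) * (b : Γ))⁻¹ = (a : Γ) * ((b : Γ) * g * (b : Γ)⁻¹) * (a : Γ)⁻¹ := by group
          _ = g := by rw [hb g hg, ha g hg]
      inv_mem' := fun {a} ha g hg => by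
        have h1 := ha g hg
        change (a : Γ)⁻¹ * g * ((a : Γ)⁻¹)⁻¹ = g
        calc (a : Γ)⁻¹ * g * ((a : Γ)⁻¹)⁻¹ = (a : Γ)⁻¹ * ((a : Γ) * g * (a : Γ)⁻¹) * ((a : Γ)⁻¹)⁻¹ := by rw [h1]
          _ = g := by group }
  have hK'mem : ∀ x : S, x ∈ K' ↔ ∀ g ∈ G, (x : Γ) * g * (x : Γ)⁻¹ = g := fun x => Iff.rfl
  haveI hK'n : K'.Normal := by
    refine ⟨fun x hx s g hg => ?_⟩
    have h0 : (s : Γ)⁻¹ * g * ((s : Γ)⁻¹)⁻¹ ∈ G := hS _ (S.inv_mem s.2) g hg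
    have h1 := hx _ h0
    change (s : Γ) * x * (s : Γ)⁻¹ * g * ((s : Γ) * x * (s : Γ)⁻¹)⁻¹ = g
    calc (s : Γ) * x * (s : Γ)⁻¹ * g * ((s : Γ) * x * (s : Γ)⁻¹)⁻¹
        = (s : Γ) * ((x : Γ) * ((s : Γ)⁻¹ * g * ((s : Γ)⁻¹)⁻¹) * (x : Γ)⁻¹) * (s : Γ)⁻¹ := by group
      _ = (s : Γ) * ((s : Γ)⁻¹ * g * ((s : Γ)⁻¹)⁻¹) * (s : Γ)⁻¹ := by rw [h1]
      _ = g := by group
  have hK'top : K' ≠ ⊤ := by
    intro h
    apply htriv
    intro s hs g hg
    have h1 : (⟨s, hs⟩ : S) ∈ K' := by rw [h]; trivial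
    exact h1 g hg
  haveI : Nontrivial (S ⧸ K') := QuotientGroup.nontrivial_iff.mpr hK'top
  obtain ⟨p, hp, E, hEn, hEb, hEp⟩ := exists_normal_pgroup (X := S ⧸ K')
  haveI : Fact p.Prime := ⟨hp⟩
  let B : Subgroup S := E.comap (QuotientGroup.mk' K')
  have hBn : B.Normal := hEn.comap _
  have hfmem : ∀ y : B, QuotientGroup.mk' K' (y : S) ∈ E := fun y => y.2
  let fB : B →* E := MonoidHom.codRestrict ((QuotientGroup.mk' K').comp B.subtype) E hfmem
  have hfB : Function.Surjective fB := by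
    rintro ⟨e, he⟩
    obtain ⟨x, rfl⟩ := QuotientGroup.mk_surjective e
    exact ⟨⟨x, he⟩, Subtype.ext rfl⟩
  obtain ⟨P₀⟩ : Nonempty (Sylow p B) := inferInstance
  have hP₀top : (P₀.mapSurjective hfB : Subgroup E) = ⊤ := by
    exact ((P₀.mapSurjective hfB).is_maximal' (hEp.to_subgroup ⊤) le_top).symm
  have hstar : ∀ y : B, ∃ u ∈ (P₀ : Subgroup B), ∀ g ∈ G, (y : Γ) * g * ((y : S) : Γ)⁻¹ = ((u : B) : Γ) * g * ((u : B) : Γ)⁻¹ := by
    intro y
    have h1 : fB y ∈ (P₀.mapSurjective hfB : Subgroup E) := by rw [hP₀top]; trivial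
    obtain ⟨u, hu, hue⟩ := h1
    refine ⟨u, hu, fun g hg => ?_⟩
    have h2 : ((u : S) : S ⧸ K') = ((y : S) : S ⧸ K') := congrArg Subtype.val hue
    have h3 : (y : S)⁻¹ * (u : S) ∈ K' := by
      rw [← QuotientGroup.eq]
      exact h2.symm
    have h4 := h3 g hg
    have h5 : ((y : S) : Γ)⁻¹ * ((u : S) : Γ) * g * (((y : S) : Γ)⁻¹ * ((u : S) : Γ))⁻¹ = g := h4
    calc ((y : S) : Γ) * g * ((y : S) : Γ)⁻¹
        = ((y : S) : Γ) * (((y : S) : Γ)⁻¹ * ((u : S) : Γ) * g * (((y : S) : Γ)⁻¹ * ((u : S) : Γ))⁻¹) * ((y : S) : Γ)⁻¹ := by rw [h5]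
      _ = ((u : B) : Γ) * g * ((u : B) : Γ)⁻¹ := by
          push_cast
          group
  let P : Subgroup Γ := ((P₀ : Subgroup B).map B.subtype).map S.subtype
  have hPmem : ∀ x : Γ, x ∈ P ↔ ∃ u : B, u ∈ (P₀ : Subgroup B) ∧ ((u : S) : Γ) = x := by
    intro x
    constructor
    · rintro ⟨y, ⟨u, hu, rfl⟩, rfl⟩
      exact ⟨u, hu, rfl⟩
    · rintro ⟨u, hu, rfl⟩
      exact ⟨u, ⟨u, hu, rfl⟩, rfl⟩
  have hPS : P ≤ S := Subgroup.map_subtype_le _
  have hPp : IsPGroup p P := (P₀.isPGroup'.map B.subtype).map S.subtype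
  obtain ⟨u₁, hu₁P, g₁, hg₁G, hne₁⟩ : ∃ u ∈ P, ∃ g ∈ G, u * g * u⁻¹ ≠ g := by
    obtain ⟨e, he⟩ := Subgroup.ne_bot_iff_exists_ne_one.mp hEb
    have h1 : e ∈ (P₀.mapSurjective hfB : Subgroup E) := by rw [hP₀top]; trivial
    obtain ⟨u, hu, hue⟩ := h1
    have hu1 : ((u : S) : S ⧸ K') ≠ 1 := by
      intro h
      apply he
      apply Subtype.ext
      rw [← hue]
      exact h
    have hu2 : (u : S) ∉ K' := fun h => hu1 ((QuotientGroup.eq_one_iff _).mpr h)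
    rw [hK'mem] at hu2
    push Not at hu2
    obtain ⟨g, hg, hne⟩ := hu2
    exact ⟨((u : S) : Γ), (hPmem _).mpr ⟨u, hu, rfl⟩, g, hg, hne⟩
  have hu₁ne : u₁ ≠ 1 := by
    rintro rfl
    apply hne₁
    group
  have hpS : p ∣ Nat.card S := by
    obtain ⟨k, hk⟩ := IsPGroup.iff_orderOf.mp hPp ⟨u₁, hu₁P⟩
    have hk0 : k ≠ 0 := by
      rintro rfl
      rw [pow_zero, orderOf_eq_one_iff] at hk
      exact hu₁ne (congrArg Subtype.val hk)
    have h1 : p ∣ orderOf (⟨u₁, hPS hu₁P⟩ : S) := by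
      have h2 : orderOf (⟨u₁, hPS hu₁P⟩ : S) = orderOf (⟨u₁, hu₁P⟩ : P) := by
        rw [Subgroup.orderOf_mk, Subgroup.orderOf_mk]
      rw [h2, hk]
      exact dvd_pow_self p hk0
    exact h1.trans (orderOf_dvd_natCard _)
  have hpG : ¬ p ∣ Nat.card G := by
    intro h
    have h3 := Nat.dvd_gcd h hpS
    rw [hcop.gcd_eq_one] at h3
    exact hp.one_lt.ne' (Nat.dvd_one.mp h3)
  refine ⟨p, inferInstance, P, hPS, hPp, hpG, ⟨u₁, hu₁P, g₁, hg₁G, hne₁⟩, ?_⟩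
  intro s hs u hu
  obtain ⟨u₀, hu₀, rfl⟩ := (hPmem u).mp hu
  have hy : (⟨s, hs⟩ : S) * (u₀ : S) * (⟨s, hs⟩ : S)⁻¹ ∈ B := hBn.conj_mem _ u₀.2 _
  obtain ⟨v, hv, hvg⟩ := hstar ⟨_, hy⟩
  exact ⟨((v : S) : Γ), (hPmem _).mpr ⟨v, hv, rfl⟩, hvg⟩

variable {p : ℕ} [hpf : Fact p.Prime] (P A A₁ : Subgroup Γ) [Fintype A] [Fintype A₁]

theorem card_modEq_fixed (hP : IsPGroup p P) (hn : ∀ u ∈ P, ∀ g ∈ A, u * g * u⁻¹ ∈ A)
    (hA₁ : ∀ x, x ∈ A₁ ↔ x ∈ A ∧ ∀ u ∈ P, u * x * u⁻¹ = x) (hle : A₁ ≤ A) (X : Set A)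
    (hX : ∀ u : P, ∀ y ∈ X, (⟨u * y * (u : Γ)⁻¹, hn _ u.2 _ y.2⟩ : A) ∈ X) :
    Nat.card X ≡ Nat.card {a : A₁ // Subgroup.inclusion hle a ∈ X} [MOD p] := by
  classical
  letI inst : MulAction P X :=
    { smul := fun u y => ⟨⟨u * (y : A) * (u : Γ)⁻¹, hn _ u.2 _ y.1.2⟩, hX u y y.2⟩
      one_smul := fun y => by
        apply Subtype.ext
        apply Subtype.ext
        change ((1 : P) : Γ) * (y : A) * ((1 : P) : Γ)⁻¹ = _
        simp
      mul_smul := fun a b y => by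
        apply Subtype.ext
        apply Subtype.ext
        change ((a * b : P) : Γ) * (y : A) * ((a * b : P) : Γ)⁻¹ = (a : Γ) * ((b : Γ) * (y : A) * (b : Γ)⁻¹) * (a : Γ)⁻¹
        push_cast
        group }
  have h1 := hP.card_modEq_card_fixedPoints X
  have h2 : Nat.card (MulAction.fixedPoints P X) = Nat.card {a : A₁ // Subgroup.inclusion hle a ∈ X} := by
    refine Nat.card_congr ⟨fun y => ⟨⟨((y : X) : A), (hA₁ _).mpr ⟨((y : X) : A).2, fun u hu => ?_⟩⟩, ?_⟩,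
      fun a => ⟨⟨Subgroup.inclusion hle a.1, a.2⟩, ?_⟩, ?_, ?_⟩
    · have h3 := y.2 ⟨u, hu⟩
      exact congrArg (fun z : X => ((z : A) : Γ)) h3
    · exact (y : X).2
    · intro u
      apply Subtype.ext
      apply Subtype.ext
      exact ((hA₁ _).mp a.1.2).2 u u.2
    · intro y; rfl
    · intro a; rfl
  rwa [h2] at h1

theorem sum_conj_fixed {M : Ideal AlgInt} (hM : IsPModular p M) (hP : IsPGroup p P)
    (hn : ∀ u ∈ P, ∀ g ∈ A, u * g * u⁻¹ ∈ A)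
    (hA₁ : ∀ x, x ∈ A₁ ↔ x ∈ A ∧ ∀ u ∈ P, u * x * u⁻¹ = x) (hle : A₁ ≤ A) (F : A → ℂ)
    (hF : ∀ u : P, ∀ a : A, F ⟨u * a * (u : Γ)⁻¹, hn _ u.2 _ a.2⟩ = F a)
    (hloc : ∀ a, MemLocalRing M (F a)) :
    MemLocalIdeal M (∑ a : A, F a - ∑ a : A₁, F (Subgroup.inclusion hle a)) := by
  classical
  haveI : M.IsPrime := hM.2.1.isPrime
  let T : Finset ℂ := Finset.univ.image F
  have h1 : ∑ a : A, F a = ∑ z ∈ T, ((Finset.univ.filter (fun a : A => F a = z)).card : ℂ) * z := by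
    rw [← Finset.sum_fiberwise_of_maps_to (s := Finset.univ) (t := T) (g := F) (fun a _ => Finset.mem_image_of_mem _ (Finset.mem_univ a))]
    refine Finset.sum_congr rfl fun z _ => ?_
    rw [Finset.sum_congr rfl (g := fun _ => z) (fun a ha => (Finset.mem_filter.mp ha).2)]
    simp
  have h2 : ∑ a : A₁, F (Subgroup.inclusion hle a) =
      ∑ z ∈ T, ((Finset.univ.filter (fun a : A₁ => F (Subgroup.inclusion hle a) = z)).card : ℂ) * z := by
    rw [← Finset.sum_fiberwise_of_maps_to (s := Finset.univ) (t := T) (g := fun a : A₁ => F (Subgroup.inclusion hle a))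
      (fun a _ => Finset.mem_image_of_mem _ (Finset.mem_univ _))]
    refine Finset.sum_congr rfl fun z _ => ?_
    rw [Finset.sum_congr rfl (g := fun _ => z) (fun a ha => (Finset.mem_filter.mp ha).2)]
    simp
  rw [h1, h2, ← Finset.sum_sub_distrib]
  refine BlockOku.memLocalIdeal_finset_sum _ _ fun z hz => ?_
  rw [← sub_mul]
  have hzloc : MemLocalRing M z := by
    obtain ⟨a, -, rfl⟩ := Finset.mem_image.mp hz
    exact hloc a
  refine LocRing.memLocalIdeal_mul_right ?_ hzloc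
  have h3 := card_modEq_fixed P A A₁ (p := p) hP hn hA₁ hle {a | F a = z} (by
    intro u y hy
    change F _ = z
    rw [hF]
    exact hy)
  have h4 : Nat.card ({a | F a = z} : Set A) = (Finset.univ.filter (fun a : A => F a = z)).card := by
    rw [Nat.card_eq_fintype_card]
    exact Fintype.card_of_subtype _ (fun x => by simp)
  have h5 : Nat.card {a : A₁ // Subgroup.inclusion hle a ∈ ({a | F a = z} : Set A)} =
      (Finset.univ.filter (fun a : A₁ => F (Subgroup.inclusion hle a) = z)).card := by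
    rw [Nat.card_eq_fintype_card]
    exact Fintype.card_of_subtype _ (fun x => by simp)
  rw [h4, h5] at h3
  have h6 : (p : ℤ) ∣ (((Finset.univ.filter (fun a : A => F a = z)).card : ℕ) : ℤ) -
      (((Finset.univ.filter (fun a : A₁ => F (Subgroup.inclusion hle a) = z)).card : ℕ) : ℤ) := by
    exact (Nat.modEq_iff_dvd.mp h3.symm)
  have h7 := BlockMaj.memLocalIdeal_of_dvd hM h6
  push_cast at h7
  exact h7

end R

section Mult
variable {A : Type u} [Group A] [Fintype A]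

theorem mult_dvd_degree (N : Subgroup A) [hN : N.Normal] [Fintype N] (χ : IrrCharacter A) (θ : IrrCharacter N) (m : ℕ)
    (hm : classInner (fun n : N => χ.1 n) θ.1 = m) (h0 : m ≠ 0) : m ∣ charDegree χ.1 := by
  classical
  have hnat : ∀ θ' : IrrCharacter N, ∃ n : ℕ, classInner (fun n : N => χ.1 n) θ'.1 = n := fun θ' =>
    IsCharacter.classInner_irr_nat (IsCharacter.res (IsIrrCharacter.isCharacter χ.2) N) θ'.2
  choose a ha using hnat
  rw [BlockPair.degree_eq_sum_mult N χ a ha]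
  refine Finset.dvd_sum fun θ' _ => ?_
  by_cases h : a θ' = 0
  · rw [h, zero_mul]
    exact dvd_zero _
  · have h1 : classInner (fun n : N => χ.1 n) θ.1 ≠ 0 := by
      rw [hm]; exact Nat.cast_ne_zero.mpr h0
    have h2 : classInner (fun n : N => χ.1 n) θ'.1 ≠ 0 := by
      rw [ha]; exact Nat.cast_ne_zero.mpr h
    obtain ⟨t, rfl⟩ := BlockNorm.constituents_conj N χ θ θ' h1 h2
    have h3 := BlockNorm.classInner_res_conjIrr N χ t θ
    rw [ha, hm] at h3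
    have h4 : a (BlockNorm.conjIrr N t θ) = m := by exact_mod_cast h3
    rw [h4]
    exact Dvd.intro _ rfl

end Mult

section M2
variable {Γ : Type u} [Group Γ] [Finite Γ]

theorem not_dvd_mult {p : ℕ} (G N : Subgroup Γ) [Fintype G] [Fintype N] (hNG : N ≤ G)
    (hNn : ∀ g ∈ G, ∀ n ∈ N, g * n * g⁻¹ ∈ N) (hp : ¬ p ∣ Nat.card G) (χ : IrrCharacter G) (θ : IrrCharacter N) (m : ℕ)
    (hm : classInner (fun n : N => χ.1 (Subgroup.inclusion hNG n)) θ.1 = m) (h0 : m ≠ 0) : ¬ p ∣ m := by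
  classical
  let N' : Subgroup G := N.subgroupOf G
  haveI : Fintype N' := Fintype.ofFinite _
  haveI hN' : N'.Normal := ⟨fun n hn g => hNn g g.2 n hn⟩
  let e : N' ≃* N := Subgroup.subgroupOfEquivOfLe hNG
  have h1 : classInner (fun n : N' => χ.1 n) (pullI e θ).1 = m := by
    rw [← hm]
    exact CharNormal.classInner_comp_equiv e (fun n : N => χ.1 (Subgroup.inclusion hNG n)) θ.1
  have h2 := mult_dvd_degree N' χ (pullI e θ) m h1 h0
  intro h3
  exact hp (h3.trans (h2.trans (BlockNorm.charDegree_dvd_card χ)))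

variable {p : ℕ} [hpf : Fact p.Prime]

/-- Compatibility of the correspondence with normal subgroups. -/
theorem compat_mult (P G G₁ N N₁ : Subgroup Γ) [Fintype G] [Fintype G₁] [Fintype N] [Fintype N₁]
    (hP : IsPGroup p P) (hnG : ∀ u ∈ P, ∀ g ∈ G, u * g * u⁻¹ ∈ G) (hnN : ∀ u ∈ P, ∀ g ∈ N, u * g * u⁻¹ ∈ N)
    (hp : ¬ p ∣ Nat.card G) (hN₁ : ∀ x, x ∈ N₁ ↔ x ∈ N ∧ ∀ u ∈ P, u * x * u⁻¹ = x)
    (hNG : N ≤ G) (hG₁G : G₁ ≤ G) (hN₁N : N₁ ≤ N) (hN₁G₁ : N₁ ≤ G₁)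
    (hG : Corr p (Subgroup.inclusion hG₁G) {χ : IrrCharacter G | InvBy P G χ})
    (hN : Corr p (Subgroup.inclusion hN₁N) {χ : IrrCharacter N | InvBy P N χ})
    (χ : IrrCharacter G) (θ : IrrCharacter N) (hχ : InvBy P G χ) (hθ : InvBy P N θ)
    (χ₁ : IrrCharacter G₁) (θ₁ : IrrCharacter N₁) (hχ₁ : Rel p (Subgroup.inclusion hG₁G) χ χ₁)
    (hθ₁ : Rel p (Subgroup.inclusion hN₁N) θ θ₁) (m m₁ : ℕ)
    (hm : classInner (fun n : N => χ.1 (Subgroup.inclusion hNG n)) θ.1 = m)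
    (hm₁ : classInner (fun n : N₁ => χ₁.1 (Subgroup.inclusion hN₁G₁ n)) θ₁.1 = m₁) :
    p ∣ m ↔ p ∣ m₁ := by
  classical
  obtain ⟨M, hM⟩ := BlockMain2.exists_isPModular (hpf.out)
  haveI : M.IsPrime := hM.2.1.isPrime
  have hpN : ¬ p ∣ Nat.card N := fun h => hp (h.trans (Subgroup.card_dvd_of_le hNG))
  have hpN₁ : ¬ p ∣ Nat.card N₁ := fun h => hpN (h.trans (Subgroup.card_dvd_of_le hN₁N))
  obtain ⟨m₂, hm₂⟩ : ∃ m₂ : ℕ, classInner (fun n : N₁ => χ.1 (Subgroup.inclusion hNG (Subgroup.inclusion hN₁N n)))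
      (fun n : N₁ => θ.1 (Subgroup.inclusion hN₁N n)) = m₂ :=
    IsCharacter.classInner_nat
      (IsCharacter.comp (IsIrrCharacter.isCharacter χ.2) ((Subgroup.inclusion hNG).comp (Subgroup.inclusion hN₁N)))
      (IsCharacter.comp (IsIrrCharacter.isCharacter θ.2) (Subgroup.inclusion hN₁N))
  -- step (a)
  have hsum := sum_conj_fixed P N N₁ (p := p) hM hP hnN hN₁ hN₁N
    (fun n => χ.1 (Subgroup.inclusion hNG n) * conj (θ.1 n))
    (by
      intro u a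
      have h1 := hχ _ u.2 (Subgroup.inclusion hNG a) (Subgroup.inclusion hNG ⟨u * a * (u : Γ)⁻¹, hnN _ u.2 _ a.2⟩) rfl
      have h2 := hθ _ u.2 a ⟨u * a * (u : Γ)⁻¹, hnN _ u.2 _ a.2⟩ rfl
      simp only [h1, h2])
    (fun a => LocRing.mem_locRing_iff.mp ((LocRing.locRing M).mul_mem
      (LocRing.mem_locRing_of_isIntegral (IsCharacter.isIntegral (IsIrrCharacter.isCharacter χ.2) _))
      (LocRing.mem_locRing_of_isIntegral (BlockMain3.isIntegral_conj' (IsCharacter.isIntegral (IsIrrCharacter.isCharacter θ.2) _)))))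
  have hsumN : ∑ a : N, χ.1 (Subgroup.inclusion hNG a) * conj (θ.1 a) = (Nat.card N : ℂ) * m := by
    rw [← hm]
    simp only [classInner]
    rw [← mul_assoc, mul_inv_cancel₀ (Nat.cast_ne_zero.mpr Nat.card_pos.ne'), one_mul]
  have hsumN₁ : ∑ a : N₁, χ.1 (Subgroup.inclusion hNG (Subgroup.inclusion hN₁N a)) * conj (θ.1 (Subgroup.inclusion hN₁N a)) =
      (Nat.card N₁ : ℂ) * m₂ := by
    rw [← hm₂]
    simp only [classInner]
    rw [← mul_assoc, mul_inv_cancel₀ (Nat.cast_ne_zero.mpr Nat.card_pos.ne'), one_mul]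
  rw [hsumN, hsumN₁] at hsum
  have hnot : ∀ n : ℕ, MemLocalIdeal M (n : ℂ) → p ∣ n := fun n hn => by
    by_contra h
    exact BlockPair.natCast_notMem_locIdeal hM h hn
  have hdvd : ∀ n : ℕ, p ∣ n → MemLocalIdeal M (n : ℂ) := fun n hn => by
    obtain ⟨t, rfl⟩ := hn
    push_cast
    exact LocRing.memLocalIdeal_mul_right (BlockMain2.memLocalIdeal_natCast hM) (LocRing.natCast_mem_locRing t)
  have hab : p ∣ m ↔ p ∣ m₂ := by
    constructor
    · intro h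
      have h1 : MemLocalIdeal M ((Nat.card N₁ : ℂ) * m₂) := by
        have h2 : MemLocalIdeal M ((Nat.card N : ℂ) * m) :=
          LocRing.memLocalIdeal_mul_left (LocRing.natCast_mem_locRing _) (hdvd m h)
        have h3 := LocRing.memLocalIdeal_sub h2 hsum
        simpa using h3
      have h2 : p ∣ Nat.card N₁ * m₂ := hnot _ (by push_cast; exact h1)
      exact ((hpf.out.dvd_mul).mp h2).resolve_left hpN₁
    · intro h
      have h1 : MemLocalIdeal M ((Nat.card N : ℂ) * m) := by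
        have h2 : MemLocalIdeal M ((Nat.card N₁ : ℂ) * m₂) :=
          LocRing.memLocalIdeal_mul_left (LocRing.natCast_mem_locRing _) (hdvd m₂ h)
        have h3 := LocRing.memLocalIdeal_add hsum h2
        simpa using h3
      have h2 : p ∣ Nat.card N * m := hnot _ (by push_cast; exact h1)
      exact ((hpf.out.dvd_mul).mp h2).resolve_left hpN
  -- step (b)
  rw [hab]
  have hnatχ := fun b : IrrCharacter G₁ => IsCharacter.classInner_irr_nat
    (IsCharacter.comp (IsIrrCharacter.isCharacter χ.2) (Subgroup.inclusion hG₁G)) b.2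
  have hnatθ := fun t : IrrCharacter N₁ => IsCharacter.classInner_irr_nat
    (IsCharacter.comp (IsIrrCharacter.isCharacter θ.2) (Subgroup.inclusion hN₁N)) t.2
  have hnatw := fun (b : IrrCharacter G₁) (t : IrrCharacter N₁) => IsCharacter.classInner_irr_nat
    (IsCharacter.comp (IsIrrCharacter.isCharacter b.2) (Subgroup.inclusion hN₁G₁)) t.2
  choose n hn using hnatχ
  choose k hk using hnatθ
  choose w hw using hnatw
  have hχexp : ∀ x : G₁, χ.1 (Subgroup.inclusion hG₁G x) = ∑ b : IrrCharacter G₁, (n b : ℂ) * b.1 x := by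
    obtain ⟨a, ha⟩ := IsCharacter.exists_nat_coeff
      (IsCharacter.comp (IsIrrCharacter.isCharacter χ.2) (Subgroup.inclusion hG₁G))
    have h1 : ∀ b, a b = n b := by
      intro b
      have h2 := hn b
      rw [ha, classInner_sum_irr] at h2
      exact_mod_cast h2
    intro x
    have h2 := congrFun ha x
    simp only [Function.comp_apply, Finset.sum_apply, Pi.smul_apply, smul_eq_mul] at h2
    rw [h2]
    exact Finset.sum_congr rfl fun b _ => by rw [h1]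
  have hθexp : ∀ x : N₁, θ.1 (Subgroup.inclusion hN₁N x) = ∑ t : IrrCharacter N₁, (k t : ℂ) * t.1 x := by
    obtain ⟨a, ha⟩ := IsCharacter.exists_nat_coeff
      (IsCharacter.comp (IsIrrCharacter.isCharacter θ.2) (Subgroup.inclusion hN₁N))
    have h1 : ∀ b, a b = k b := by
      intro b
      have h2 := hk b
      rw [ha, classInner_sum_irr] at h2
      exact_mod_cast h2
    intro x
    have h2 := congrFun ha x
    simp only [Function.comp_apply, Finset.sum_apply, Pi.smul_apply, smul_eq_mul] at h2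
    rw [h2]
    exact Finset.sum_congr rfl fun b _ => by rw [h1]
  have hm₂exp : m₂ = ∑ q : IrrCharacter G₁ × IrrCharacter N₁, n q.1 * k q.2 * w q.1 q.2 := by
    have h1 : (m₂ : ℂ) = ∑ q : IrrCharacter G₁ × IrrCharacter N₁, ((n q.1 * k q.2 * w q.1 q.2 : ℕ) : ℂ) := by
      rw [← hm₂, Fintype.sum_prod_type (f := fun q : IrrCharacter G₁ × IrrCharacter N₁ => ((n q.1 * k q.2 * w q.1 q.2 : ℕ) : ℂ))]
      have h2 : ∀ y : N₁, χ.1 (Subgroup.inclusion hNG (Subgroup.inclusion hN₁N y)) =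
          ∑ b : IrrCharacter G₁, (n b : ℂ) * b.1 (Subgroup.inclusion hN₁G₁ y) := fun y => hχexp (Subgroup.inclusion hN₁G₁ y)
      simp only [classInner, h2, hθexp]
      have h3 : ∀ (b : IrrCharacter G₁) (t : IrrCharacter N₁), ((n b * k t * w b t : ℕ) : ℂ) =
          (Nat.card N₁ : ℂ)⁻¹ * ∑ y : N₁, (n b : ℂ) * b.1 (Subgroup.inclusion hN₁G₁ y) * ((k t : ℂ) * conj (t.1 y)) := by
        intro b t
        have h4 := hw b t
        simp only [classInner, Function.comp_apply] at h4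
        push_cast
        rw [← h4, Finset.mul_sum, Finset.mul_sum, Finset.mul_sum]
        refine Finset.sum_congr rfl fun y _ => by ring
      have key : ∀ y : N₁, (∑ b : IrrCharacter G₁, (n b : ℂ) * b.1 (Subgroup.inclusion hN₁G₁ y)) *
          conj (∑ t : IrrCharacter N₁, (k t : ℂ) * t.1 y) =
          ∑ b : IrrCharacter G₁, ∑ t : IrrCharacter N₁, (n b : ℂ) * b.1 (Subgroup.inclusion hN₁G₁ y) * ((k t : ℂ) * conj (t.1 y)) := by
        intro y
        simp only [map_sum, map_mul, Complex.conj_natCast]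
        rw [Finset.sum_mul_sum]
      simp_rw [key, h3]
      rw [Finset.sum_comm, Finset.mul_sum]
      refine Finset.sum_congr rfl fun b _ => ?_
      rw [Finset.sum_comm, Finset.mul_sum]
    exact_mod_cast h1
  obtain ⟨b₀, -, hub⟩ := hG.exU χ hχ
  obtain ⟨t₀, -, hut⟩ := hN.exU θ hθ
  have hn₀ : ¬ p ∣ n χ₁ := by
    obtain ⟨a, ha, hnd⟩ := hχ₁
    have : a = n χ₁ := by
      have h2 := hn χ₁
      rw [show (fun c => χ.1 (Subgroup.inclusion hG₁G c)) = (χ.1 ∘ Subgroup.inclusion hG₁G) from rfl] at ha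
      rw [ha] at h2
      exact_mod_cast h2
    rw [← this]; exact hnd
  have hk₀ : ¬ p ∣ k θ₁ := by
    obtain ⟨a, ha, hnd⟩ := hθ₁
    have : a = k θ₁ := by
      have h2 := hk θ₁
      rw [show (fun c => θ.1 (Subgroup.inclusion hN₁N c)) = (θ.1 ∘ Subgroup.inclusion hN₁N) from rfl] at ha
      rw [ha] at h2
      exact_mod_cast h2
    rw [← this]; exact hnd
  have hw₀ : w χ₁ θ₁ = m₁ := by
    have h2 := hw χ₁ θ₁
    rw [show (fun c => χ₁.1 (Subgroup.inclusion hN₁G₁ c)) = (χ₁.1 ∘ Subgroup.inclusion hN₁G₁) from rfl] at hm₁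
    rw [hm₁] at h2
    exact_mod_cast h2.symm
  have hother : ∀ q ∈ (Finset.univ.erase (χ₁, θ₁) : Finset (IrrCharacter G₁ × IrrCharacter N₁)),
      p ∣ n q.1 * k q.2 * w q.1 q.2 := by
    intro q hq
    have hne := Finset.ne_of_mem_erase hq
    by_cases h1 : q.1 = χ₁
    · have h2 : q.2 ≠ θ₁ := fun h2 => hne (Prod.ext h1 h2)
      have h3 : p ∣ k q.2 := by
        by_contra hnd
        exact h2 ((hut _ ⟨k q.2, hk q.2, hnd⟩).trans (hut _ hθ₁).symm)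
      exact (h3.trans (Dvd.intro_left _ rfl)).trans (Dvd.intro _ rfl)
    · have h3 : p ∣ n q.1 := by
        by_contra hnd
        exact h1 ((hub _ ⟨n q.1, hn q.1, hnd⟩).trans (hub _ hχ₁).symm)
      exact (h3.trans (Dvd.intro _ rfl)).trans (Dvd.intro _ rfl)
  have hdvdr := Finset.dvd_sum hother
  rw [hm₂exp, ← Finset.add_sum_erase _ _ (Finset.mem_univ (χ₁, θ₁))]
  simp only
  rw [Nat.dvd_add_left hdvdr, hw₀]
  constructor
  · intro h
    rcases (hpf.out.dvd_mul).mp h with h2 | h2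
    · rcases (hpf.out.dvd_mul).mp h2 with h3 | h3
      · exact absurd h3 hn₀
      · exact absurd h3 hk₀
    · exact h2
  · intro h
    exact h.trans (Dvd.intro_left _ rfl)

/-- Characters invariant under a conjugation and the correspondence: right. -/
theorem rel_inv_right {A A₁ : Subgroup Γ} [Fintype A] [Fintype A₁] {hle : A₁ ≤ A} {X : Set (IrrCharacter A)}
    (hc : Corr p (Subgroup.inclusion hle) X) {χ : IrrCharacter A} (hχ : χ ∈ X) {b : IrrCharacter A₁}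
    (hr : Rel p (Subgroup.inclusion hle) χ b) {s : Γ} (hs : ∀ g ∈ A, s * g * s⁻¹ ∈ A) (hs₁ : ∀ g ∈ A₁, s * g * s⁻¹ ∈ A₁)
    (hinv : ∀ g g' : A, (g' : Γ) = s * g * s⁻¹ → χ.1 g' = χ.1 g) :
    ∀ g g' : A₁, (g' : Γ) = s * g * s⁻¹ → b.1 g' = b.1 g := by
  intro g g' hg
  obtain ⟨b', -, hu⟩ := hc.exU χ hχ
  have hcompat : ∀ x : A₁, Subgroup.inclusion hle (conjE A₁ s hs₁ x) = conjE A s hs (Subgroup.inclusion hle x) :=
    fun x => Subtype.ext rfl
  have hpull : pullI (conjE A s hs) χ = χ := by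
    apply Subtype.ext
    funext x
    exact hinv x _ rfl
  have hr2 := (rel_pull p (conjE A s hs) (conjE A₁ s hs₁) _ _ hcompat χ b).mpr hr
  rw [hpull] at hr2
  have h3 : pullI (conjE A₁ s hs₁) b = b := (hu _ hr2).trans (hu _ hr).symm
  have h4 : g' = conjE A₁ s hs₁ g := Subtype.ext hg
  rw [h4]
  exact congrFun (congrArg Subtype.val h3) g

/-- Characters invariant under a conjugation and the correspondence: left. -/
theorem rel_inv_left {A A₁ : Subgroup Γ} [Fintype A] [Fintype A₁] {hle : A₁ ≤ A} {X : Set (IrrCharacter A)}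
    (hc : Corr p (Subgroup.inclusion hle) X) {χ : IrrCharacter A} (hχ : χ ∈ X) {b : IrrCharacter A₁}
    (hr : Rel p (Subgroup.inclusion hle) χ b) {s : Γ} (hs : ∀ g ∈ A, s * g * s⁻¹ ∈ A) (hs₁ : ∀ g ∈ A₁, s * g * s⁻¹ ∈ A₁)
    (hinv : ∀ g g' : A₁, (g' : Γ) = s * g * s⁻¹ → b.1 g' = b.1 g) (hX : pullI (conjE A s hs) χ ∈ X) :
    ∀ g g' : A, (g' : Γ) = s * g * s⁻¹ → χ.1 g' = χ.1 g := by
  intro g g' hg
  have hcompat : ∀ x : A₁, Subgroup.inclusion hle (conjE A₁ s hs₁ x) = conjE A s hs (Subgroup.inclusion hle x) :=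
    fun x => Subtype.ext rfl
  have hbp : pullI (conjE A₁ s hs₁) b = b := by
    apply Subtype.ext
    funext x
    exact hinv x _ rfl
  have hr2 := (rel_pull p (conjE A s hs) (conjE A₁ s hs₁) _ _ hcompat χ b).mpr hr
  rw [hbp] at hr2
  have h5 := hc.inj _ hX χ hχ b hr2 hr
  have h6 : g' = conjE A s hs g := Subtype.ext hg
  rw [h6]
  exact congrFun (congrArg Subtype.val h5) g

end M2

section Over
variable {Γ : Type u} [Group Γ] [Finite Γ]

theorem over_inv (S : Subgroup Γ) [Group.IsSolvable S] : ∀ (n : ℕ) (G N : Subgroup Γ) [Fintype G] [Fintype N], Nat.card G = n →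
    (∀ s ∈ S, ∀ g ∈ G, s * g * s⁻¹ ∈ G) → (Nat.card G).Coprime (Nat.card S) → ∀ (hNG : N ≤ G),
    (∀ g ∈ G, ∀ n ∈ N, g * n * g⁻¹ ∈ N) → (∀ s ∈ S, ∀ n ∈ N, s * n * s⁻¹ ∈ N) →
    ∀ θ : IrrCharacter N, InvBy S N θ →
      ∃ χ : IrrCharacter G, classInner (fun n : N => χ.1 (Subgroup.inclusion hNG n)) θ.1 ≠ 0 ∧ InvBy S G χ := by
  classical
  intro n
  induction n using Nat.strong_induction_on with
  | _ n ih =>
  intro G N _ _ hGn hS hcop hNG hNn hNS θ hθ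
  by_cases htriv : ∀ s ∈ S, ∀ g ∈ G, s * g * s⁻¹ = g
  · -- trivial action: any constituent
    let N' : Subgroup G := N.subgroupOf G
    haveI : Fintype N' := Fintype.ofFinite _
    haveI hN' : N'.Normal := ⟨fun n hn g => hNn g g.2 n hn⟩
    let e : N' ≃* N := Subgroup.subgroupOfEquivOfLe hNG
    obtain ⟨χ, hχ⟩ := BlockNorm.exists_cover N' (pullI e θ)
    refine ⟨χ, ?_, ?_⟩
    · intro h0
      apply hχ
      have h1 : classInner (fun n : N' => χ.1 n) (pullI e θ).1 =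
          classInner (fun n : N => χ.1 (Subgroup.inclusion hNG n)) θ.1 :=
        CharNormal.classInner_comp_equiv e (fun n : N => χ.1 (Subgroup.inclusion hNG n)) θ.1
      rw [h1, h0]
    · intro s hs g g' hg
      refine congrArg χ.1 (Subtype.ext ?_)
      rw [hg, htriv s hs g g.2]
  obtain ⟨p, hpF, P, hPS, hPp, hpG, ⟨u₁, hu₁, g₁, hg₁, hne₁⟩, hred⟩ := exists_reduction S G hS hcop htriv
  haveI := hpF
  obtain ⟨G₁, hG₁⟩ : ∃ G₁ : Subgroup Γ, G₁ = G ⊓ Subgroup.centralizer (P : Set Γ) := ⟨_, rfl⟩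
  obtain ⟨N₁, hN₁⟩ : ∃ N₁ : Subgroup Γ, N₁ = N ⊓ Subgroup.centralizer (P : Set Γ) := ⟨_, rfl⟩
  haveI : Fintype G₁ := Fintype.ofFinite _
  haveI : Fintype N₁ := Fintype.ofFinite _
  have hle : G₁ ≤ G := hG₁ ▸ inf_le_left
  have hleN : N₁ ≤ N := hN₁ ▸ inf_le_left
  have hN₁G₁ : N₁ ≤ G₁ := by
    rw [hN₁, hG₁]
    exact inf_le_inf_right _ hNG
  have hcent : ∀ (A A₁ : Subgroup Γ), A₁ = A ⊓ Subgroup.centralizer (P : Set Γ) →
      ∀ x, x ∈ A₁ ↔ x ∈ A ∧ ∀ u ∈ P, u * x * u⁻¹ = x := by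
    intro A A₁ hA x
    rw [hA]
    constructor
    · rintro ⟨h1, h2⟩
      refine ⟨h1, fun u hu => ?_⟩
      have h3 := (Subgroup.mem_centralizer_iff.mp h2) u hu
      rw [h3]
      group
    · rintro ⟨h1, h2⟩
      refine ⟨h1, Subgroup.mem_centralizer_iff.mpr fun u hu => ?_⟩
      calc u * x = (u * x * u⁻¹) * u := by group
        _ = x * u := by rw [h2 u hu]
  have hG₁mem := hcent G G₁ hG₁
  have hN₁mem := hcent N N₁ hN₁
  have hS₁ : ∀ s ∈ S, ∀ g ∈ G₁, s * g * s⁻¹ ∈ G₁ := by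
    intro s hs g hg
    obtain ⟨h1, h2⟩ := (hG₁mem g).mp hg
    refine (hG₁mem _).mpr ⟨hS s hs g h1, fun u hu => ?_⟩
    have hs' : s⁻¹ ∈ S := S.inv_mem hs
    obtain ⟨v, hv, hve⟩ := hred s⁻¹ hs' u hu
    have h3 := hve g h1
    rw [h2 v hv] at h3
    rw [inv_inv] at h3
    calc u * (s * g * s⁻¹) * u⁻¹ = s * ((s⁻¹ * u * s) * g * (s⁻¹ * u * s)⁻¹) * s⁻¹ := by group
      _ = s * g * s⁻¹ := by rw [h3]
  have hSN₁ : ∀ s ∈ S, ∀ g ∈ N₁, s * g * s⁻¹ ∈ N₁ := by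
    intro s hs g hg
    obtain ⟨h1, h2⟩ := (hN₁mem g).mp hg
    have h3 := (hG₁mem _).mp (hS₁ s hs g (hN₁G₁ hg))
    exact (hN₁mem _).mpr ⟨hNS s hs g h1, h3.2⟩
  have hnG : ∀ u ∈ P, ∀ g ∈ G, u * g * u⁻¹ ∈ G := fun u hu => hS u (hPS hu)
  have hnN : ∀ u ∈ P, ∀ g ∈ N, u * g * u⁻¹ ∈ N := fun u hu => hNS u (hPS hu)
  have hcopP : (Nat.card G).Coprime (Nat.card P) :=
    Nat.Coprime.coprime_dvd_right (Subgroup.card_dvd_of_le hPS) hcop
  have hcopPN : (Nat.card N).Coprime (Nat.card P) :=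
    Nat.Coprime.coprime_dvd_left (Subgroup.card_dvd_of_le hNG) hcopP
  have hcorrG := corr_all P hPp G G₁ hnG hcopP hG₁ hle
  have hcorrN := corr_all P hPp N N₁ hnN hcopPN hN₁ hleN
  have hθP : InvBy P N θ := fun s hs => hθ s (hPS hs)
  obtain ⟨θ₁, hθ₁, -⟩ := hcorrN.exU θ hθP
  have hθ₁S : InvBy S N₁ θ₁ := fun s hs =>
    rel_inv_right hcorrN hθP hθ₁ (hNS s hs) (hSN₁ s hs) (hθ s hs)
  have hNn₁ : ∀ g ∈ G₁, ∀ n ∈ N₁, g * n * g⁻¹ ∈ N₁ := by
    intro g hg n hn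
    obtain ⟨h1, h2⟩ := (hG₁mem g).mp hg
    obtain ⟨h3, h4⟩ := (hN₁mem n).mp hn
    refine (hN₁mem _).mpr ⟨hNn g h1 n h3, fun u hu => ?_⟩
    calc u * (g * n * g⁻¹) * u⁻¹ = (u * g * u⁻¹) * (u * n * u⁻¹) * (u * g * u⁻¹)⁻¹ := by group
      _ = g * n * g⁻¹ := by rw [h2 u hu, h4 u hu]
  have hlt : Nat.card G₁ < n := by
    rw [← hGn]
    have hne : G₁ ≠ G := by
      intro h
      have h1 : g₁ ∈ G₁ := h ▸ hg₁
      exact hne₁ (((hG₁mem g₁).mp h1).2 u₁ hu₁)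
    exact Nat.lt_of_le_of_ne (Subgroup.card_le_of_le hle) (fun h => hne (Subgroup.eq_of_le_of_card_ge hle (le_of_eq h.symm)))
  have hcop₁ : (Nat.card G₁).Coprime (Nat.card S) :=
    Nat.Coprime.coprime_dvd_left (Subgroup.card_dvd_of_le hle) hcop
  obtain ⟨χ₁, hχ₁0, hχ₁S⟩ := ih _ hlt G₁ N₁ rfl hS₁ hcop₁ hN₁G₁ hNn₁ hSN₁ θ₁ hθ₁S
  obtain ⟨χ, hχP, hχr⟩ := hcorrG.surj χ₁
  refine ⟨χ, ?_, ?_⟩
  · obtain ⟨m₁, hm₁⟩ : ∃ m₁ : ℕ, classInner (fun n : N₁ => χ₁.1 (Subgroup.inclusion hN₁G₁ n)) θ₁.1 = m₁ :=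
      IsCharacter.classInner_irr_nat (IsCharacter.comp (IsIrrCharacter.isCharacter χ₁.2) (Subgroup.inclusion hN₁G₁)) θ₁.2
    obtain ⟨m, hm⟩ : ∃ m : ℕ, classInner (fun n : N => χ.1 (Subgroup.inclusion hNG n)) θ.1 = m :=
      IsCharacter.classInner_irr_nat (IsCharacter.comp (IsIrrCharacter.isCharacter χ.2) (Subgroup.inclusion hNG)) θ.2
    have hm₁0 : m₁ ≠ 0 := by
      rintro rfl
      exact hχ₁0 (by simpa using hm₁)
    have hpG₁ : ¬ p ∣ Nat.card G₁ := fun h => hpG (h.trans (Subgroup.card_dvd_of_le hle))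
    have h1 : ¬ p ∣ m₁ := not_dvd_mult G₁ N₁ hN₁G₁ hNn₁ hpG₁ χ₁ θ₁ m₁ hm₁ hm₁0
    have h2 : ¬ p ∣ m := fun h => h1 ((compat_mult P G G₁ N N₁ hPp hnG hnN hpG (hN₁mem) hNG hle hleN hN₁G₁ hcorrG hcorrN χ θ hχP hθP χ₁ θ₁ hχr hθ₁ m m₁ hm hm₁).mp h)
    rw [hm]
    intro h3
    have h4 : m = 0 := by exact_mod_cast h3
    exact h2 (h4 ▸ dvd_zero p)
  · intro s hs
    refine rel_inv_left hcorrG hχP hχr (hS s hs) (hS₁ s hs) (hχ₁S s hs) ?_
    -- the pull of `χ` is still `P`-invariant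
    intro u hu g g' hg
    obtain ⟨v, hv, hve⟩ := hred s hs u hu
    -- s⁻¹ u s acts on G like some v ∈ P ...
    have hs' : s⁻¹ ∈ S := S.inv_mem hs
    obtain ⟨v', hv', hve'⟩ := hred s⁻¹ hs' u hu
    change χ.1 (conjE G s (hS s hs) g') = χ.1 (conjE G s (hS s hs) g)
    refine hχP v hv _ _ ?_
    rw [conjE_coe, conjE_coe, hg]
    have h1 := hve g g.2
    calc s * (u * g * u⁻¹) * s⁻¹ = (s * u * s⁻¹) * (s * g * s⁻¹) * (s * u * s⁻¹)⁻¹ := by group
      _ = v * (s * g * s⁻¹) * v⁻¹ := hve _ (hS s hs g g.2)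

end Over

end Cfsg.Agent.Lib.Glaub
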