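import Cfsg.Agent.Lib.CharGlaub7
import Cfsg.Agent.Lib.Glaub3

/-!
# Invariant constituents: the normal subgroup form.
-/

set_option autoImplicit false
set_option linter.unusedVariables false
set_option linter.unusedSectionVars false
set_option linter.style.longLine false

open Cfsg Module
open scoped ComplexConjugate commutatorElement
open Cfsg.Agent.Lib.CharBasic Cfsg.Agent.Lib.CharOrth Cfsg.Agent.Lib.CharAlg Cfsg.Agent.Lib.CharInd
open Cfsg.Agent.Lib.CharPerm Cfsg.Agent.Lib.CharGall Cfsg.Agent.Lib.CharGlaub Cfsg.Agent.Lib.CharGlaub2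
open Cfsg.Agent.Lib.CharExt Cfsg.Agent.Lib.CharNormal Cfsg.Agent.Lib.CharClifford
open Cfsg.Agent.Lib.CharLin Cfsg.Agent.Lib.CharMisc2 Cfsg.Agent.Lib.CharGal Cfsg.Agent.Lib.CharGlaub4
open Cfsg.Agent.Lib.CharGlaub5 Cfsg.Agent.Lib.CharMisc Cfsg.Agent.Lib.CharProj Cfsg.Agent.Lib.CharAbQ
open Cfsg.Agent.Lib.CharGlaub6 Cfsg.Agent.Lib.CharBrauer Cfsg.Agent.Lib.CharGlaub7

namespace Cfsg.Agent.Lib.CharGlaub8

universe u v

section Case1

variable {Γ : Type u} [Group Γ] [Fintype Γ]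

open Cfsg.Agent.Lib.Glaub in
set_option maxHeartbeats 2000000 in
theorem case1 (G N : Subgroup Γ) [hG : G.Normal] [hN : N.Normal] [Fintype G] [Fintype N] (hNG : N ≤ G) (hcop : (G.index).Coprime (N.relIndex G))
    (hsolv : Group.IsSolvable (G ⧸ N.subgroupOf G)) (θ : Cfsg.IrrCharacter N) (hinv : ∀ (x : Γ) (n : N), (θ : N → ℂ) ⟨x * n * x⁻¹, hN.conj_mem n n.2 x⟩ = (θ : N → ℂ) n) :
    ∃ χ : Cfsg.IrrCharacter G, Cfsg.classInner (fun n : N => (χ : G → ℂ) ⟨n, hNG n.2⟩) (θ : N → ℂ) ≠ 0 ∧ ∀ (x : Γ) (g : G), (χ : G → ℂ) ⟨x * g * x⁻¹, hG.conj_mem g g.2 x⟩ = (χ : G → ℂ) g := by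
  classical
  let π : Γ →* Γ ⧸ N := QuotientGroup.mk' N
  have hπs : Function.Surjective π := QuotientGroup.mk'_surjective N
  have hπk : ∀ x, π x = 1 ↔ x ∈ N := fun x => QuotientGroup.eq_one_iff x
  let Gb : Subgroup (Γ ⧸ N) := G.map π
  haveI hGb : Gb.Normal := Subgroup.Normal.map hG π hπs
  have hkerπ : π.ker = N := QuotientGroup.ker_mk' N
  have hidx : Gb.index = G.index := by
    rw [Subgroup.index_map, hkerπ, sup_eq_left.mpr hNG, MonoidHom.range_eq_top.mpr hπs, Subgroup.index_top, mul_one]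
  have hcard : Nat.card Gb = N.relIndex G := by
    let g : G →* Γ ⧸ N := π.comp G.subtype
    have h1 : g.range = Gb := by
      rw [MonoidHom.range_comp, Subgroup.range_subtype]
    have h2 : g.ker = N.subgroupOf G := by
      ext y
      rw [MonoidHom.mem_ker, Subgroup.mem_subgroupOf]
      exact hπk y
    rw [← h1, ← Subgroup.index_ker, h2]
    rfl
  obtain ⟨Hb, hHb⟩ := Subgroup.exists_right_complement'_of_coprime (N := Gb) (by
    rw [hcard, hidx]
    exact hcop.symm)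
  obtain ⟨S, hS⟩ : ∃ S : Subgroup Γ, S = Hb.comap π := ⟨_, rfl⟩
  have hNS : N ≤ S := by
    rw [hS]
    intro x hx
    show π x ∈ Hb
    rw [(hπk x).mpr hx]
    exact Hb.one_mem
  have hrel : N.relIndex S = G.index := by
    have h1 : N = (⊥ : Subgroup (Γ ⧸ N)).comap π := by
      ext x
      rw [Subgroup.mem_comap, Subgroup.mem_bot]
      exact (hπk x).symm
    have h2 : S.map π = Hb := by
      rw [hS]
      exact Subgroup.map_comap_eq_self_of_surjective hπs Hb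
    have h3 : N.relIndex S = (⊥ : Subgroup (Γ ⧸ N)).relIndex (S.map π) := by
      conv_lhs => rw [h1]
      exact Subgroup.relIndex_comap _ _ _
    rw [h3, h2, Subgroup.relIndex_bot_left, ← hHb.symm.index_eq_card]
    exact hidx
  have hdec : ∀ x : Γ, ∃ g ∈ G, ∃ s ∈ S, x = g * s := by
    intro x
    obtain ⟨⟨⟨a, ha⟩, ⟨b, hb⟩⟩, hab⟩ := hHb.2 (π x)
    obtain ⟨g, hg, rfl⟩ := ha
    obtain ⟨s, rfl⟩ := hπs b
    have h1 : π g * π s = π x := hab
    refine ⟨g, hg, s * (g * s)⁻¹ * x, ?_, ?_⟩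
    · rw [hS]
      show π (s * (g * s)⁻¹ * x) ∈ Hb
      have h2 : π (s * (g * s)⁻¹ * x) = π s := by
        rw [map_mul, map_mul, map_inv, map_mul, h1]
        group
      rw [h2]
      exact hb
    · group
  have hSG : ∀ s ∈ S, ∀ g ∈ G, s * g * s⁻¹ ∈ G := fun s _ g hg => hG.conj_mem g hg s
  have hSN : ∀ s ∈ S, ∀ x ∈ N, s * x * s⁻¹ ∈ N := fun s _ g hg => hN.conj_mem g hg s
  have hθS : InvBy S N θ := by
    intro s hs g g' hg'
    have h1 : g' = ⟨s * g * s⁻¹, hN.conj_mem g g.2 s⟩ := Subtype.ext hg'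
    rw [h1]
    exact hinv s g
  obtain ⟨χ, hχc, hχS⟩ := Cfsg.Agent.Lib.CharGlaub7.step_solv S _ G N hNG rfl hsolv hSG hSN (by
    rw [hrel]
    exact hcop) θ hθS
  refine ⟨χ, hχc, ?_⟩
  intro x y
  obtain ⟨g, hg, s, hs, rfl⟩ := hdec x
  have hcl := classFunction_of_isIrrCharacter χ.2
  let y' : G := ⟨s * y * s⁻¹, hG.conj_mem y y.2 s⟩
  have h1 : χ.1 y' = χ.1 y := hχS s hs y y' rfl
  have h2 := hcl y' ⟨g, hg⟩
  rw [← h1, ← h2]
  refine congrArg χ.1 (Subtype.ext ?_)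
  show g * s * y * (g * s)⁻¹ = g * (s * y * s⁻¹) * g⁻¹
  group

end Case1

section Central

theorem split_num : ∀ (n a : ℕ), n ≠ 0 → ∃ n₁ n₂ : ℕ, n = n₁ * n₂ ∧ n₂.Coprime a ∧ ∀ p : ℕ, p.Prime → p ∣ n₁ → p ∣ a := by
  intro n
  induction n using Nat.strong_induction_on with
  | _ n ih =>
    intro a hn
    by_cases hc : n.Coprime a
    · refine ⟨1, n, by simp, hc, ?_⟩
      intro p hp h1
      exact absurd (Nat.dvd_one.mp h1) hp.ne_one
    · obtain ⟨p, hp, h1, h2⟩ := Nat.Prime.not_coprime_iff_dvd.mp hc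
      obtain ⟨m, rfl⟩ := h1
      have hm0 : m ≠ 0 := by
        rintro rfl
        simp at hn
      have hlt : m < p * m := by
        have := hp.two_le
        have h3 : 0 < m := Nat.pos_of_ne_zero hm0
        nlinarith
      obtain ⟨n₁, n₂, rfl, h3, h4⟩ := ih m hlt a hm0
      refine ⟨p * n₁, n₂, by ring, h3, ?_⟩
      intro r hr h5
      rcases (Nat.Prime.dvd_mul hr).mp h5 with h6 | h6
      · rw [(Nat.prime_dvd_prime_iff_eq hr hp).mp h6]
        exact h2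
      · exact h4 r hr h6

theorem proj_of_compl {X : Type*} [Group X] (M H : Subgroup X) [hM : M.Normal] (hinf : M ⊓ H = ⊥)
    (hdec : ∀ g : X, ∃ m ∈ M, ∃ h ∈ H, g = m * h) : ∃ p : X →* H, (∀ m ∈ M, p m = 1) ∧ ∀ h : H, p h = h := by
  let f : H →* X ⧸ M := (QuotientGroup.mk' M).comp H.subtype
  have hfb : Function.Bijective f := by
    constructor
    · rw [injective_iff_map_eq_one]
      intro h hh
      have h1 : (h : X) ∈ M := (QuotientGroup.eq_one_iff (h : X)).mp hh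
      have h2 : (h : X) ∈ M ⊓ H := ⟨h1, h.2⟩
      rw [hinf, Subgroup.mem_bot] at h2
      exact Subtype.ext h2
    · intro q
      obtain ⟨g, rfl⟩ := QuotientGroup.mk'_surjective M q
      obtain ⟨k, hk, h, hh, rfl⟩ := hdec g
      refine ⟨⟨h, hh⟩, ?_⟩
      show QuotientGroup.mk' M h = _
      rw [map_mul]
      have h3 : QuotientGroup.mk' M k = 1 := (QuotientGroup.eq_one_iff k).mpr hk
      rw [h3, one_mul]
  let e : H ≃* X ⧸ M := MulEquiv.ofBijective f hfb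
  refine ⟨e.symm.toMonoidHom.comp (QuotientGroup.mk' M), ?_, ?_⟩
  · intro k hk
    show e.symm (QuotientGroup.mk' M k) = 1
    have h3 : QuotientGroup.mk' M k = 1 := (QuotientGroup.eq_one_iff k).mpr hk
    rw [h3, map_one]
  · intro h
    show e.symm (f h) = h
    exact e.symm_apply_apply h

variable {A : Type u} [Group A] [Fintype A]

open Cfsg.Agent.Lib.Glaub in
set_option maxHeartbeats 4000000 in
/-- The central case. -/
theorem central_step (B C : Subgroup A) [hB : B.Normal] [Fintype B] [Fintype C] (hCB : C ≤ B)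
    (hcen : ∀ c ∈ C, ∀ x : A, x * c * x⁻¹ = c) (hcop : (B.index).Coprime (C.relIndex B))
    (hsolv : Group.IsSolvable (A ⧸ B)) (δ : C →* ℂˣ) :
    ∃ ν : IrrCharacter B, (∃ e : ℕ, e ≠ 0 ∧ ∀ c : C, ν.1 ⟨c, hCB c.2⟩ = (e : ℂ) * ((δ c : ℂˣ) : ℂ)) ∧
      ∀ (x : A) (g : B), ν.1 ⟨x * g * x⁻¹, hB.conj_mem g g.2 x⟩ = ν.1 g := by
  classical
  obtain ⟨n₁, n₂, hn, hn₂a, hn₁a⟩ := split_num (Nat.card C) B.index Nat.card_pos.ne'
  have hn₁₂ : n₁.Coprime n₂ := by
    apply Nat.coprime_of_dvd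
    intro k hk h1 h2
    exact Nat.not_coprime_of_dvd_of_dvd hk.one_lt h2 (hn₁a k hk h1) hn₂a
  have hn₁b : n₁.Coprime (C.relIndex B) := by
    apply Nat.coprime_of_dvd
    intro k hk h1 h2
    exact Nat.not_coprime_of_dvd_of_dvd hk.one_lt (hn₁a k hk h1) h2 hcop
  have hcentral : ∀ c ∈ C, ∀ x : A, x * c = c * x := by
    intro c hc x
    have h1 := hcen c hc x
    exact mul_inv_eq_iff_eq_mul.mp h1
  -- The Hall subgroup of `C`
  haveI hCsolv : Group.IsSolvable C := by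
    apply isSolvable_of_comm
    intro a b
    exact Subtype.ext (hcentral b b.2 a)
  obtain ⟨C₁', hC₁'⟩ := Cfsg.Agent.Lib.H1Hall.hall_exists (G := C) n₁ n₂ hn hn₁₂
  obtain ⟨C₁, hC₁⟩ : ∃ C₁ : Subgroup A, C₁ = C₁'.map C.subtype := ⟨_, rfl⟩
  have hC₁C : C₁ ≤ C := by
    rw [hC₁]
    rintro _ ⟨y, -, rfl⟩
    exact y.2
  have hC₁card : Nat.card C₁ = n₁ := by
    rw [hC₁, ← hC₁']
    exact Nat.card_congr (Subgroup.equivMapOfInjective C₁' C.subtype C.subtype_injective).symm.toEquiv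
  have hC₁cen : ∀ z ∈ C₁, ∀ x : A, x * z = z * x := fun z hz => hcentral z (hC₁C hz)
  have hC₁pow : ∀ z ∈ C₁, z ^ n₁ = 1 := by
    intro z hz
    have h1 : (⟨z, hz⟩ : C₁) ^ Nat.card C₁ = 1 := pow_card_eq_one'
    rw [hC₁card] at h1
    exact congrArg Subtype.val h1
  -- numbers
  have hcardB : Nat.card B = n₁ * (n₂ * C.relIndex B) := by
    have h1 : Nat.card C * C.relIndex B = Nat.card B := by
      have h2 := Subgroup.card_mul_index (C.subgroupOf B)
      have h3 : Nat.card (C.subgroupOf B) = Nat.card C := Nat.card_congr (Subgroup.subgroupOfEquivOfLe hCB).toEquiv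
      rw [h3] at h2
      exact h2
    rw [← h1, hn]
    ring
  have hcardA : Nat.card A = n₁ * (n₂ * C.relIndex B) * B.index := by
    rw [← hcardB]
    exact (Subgroup.card_mul_index B).symm
  -- complement of `C₁` in `B`
  let C₁B : Subgroup B := C₁.subgroupOf B
  haveI hC₁Bn : C₁B.Normal := ⟨fun n hn g => by
    refine Subgroup.mem_subgroupOf.mpr ?_
    have h1 : ((n : B) : A) ∈ C₁ := Subgroup.mem_subgroupOf.mp hn
    show (g : A) * n * (g : A)⁻¹ ∈ C₁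
    rw [hC₁cen n h1 g]
    simpa using h1⟩
  have hC₁Bcard : Nat.card C₁B = n₁ := by
    rw [← hC₁card]
    exact Nat.card_congr (Subgroup.subgroupOfEquivOfLe (hC₁C.trans hCB)).toEquiv
  have hC₁Bidx : C₁B.index = n₂ * C.relIndex B := by
    have h1 := Subgroup.card_mul_index C₁B
    rw [hC₁Bcard, hcardB] at h1
    have hn₁0 : 0 < n₁ := by
      rw [← hC₁card]
      exact Nat.card_pos
    exact Nat.eq_of_mul_eq_mul_left hn₁0 h1
  obtain ⟨Q', hQ'⟩ := Subgroup.exists_right_complement'_of_coprime (N := C₁B) (by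
    rw [hC₁Bcard, hC₁Bidx]
    exact Nat.Coprime.mul_right hn₁₂ hn₁b)
  obtain ⟨Q, hQ⟩ : ∃ Q : Subgroup A, Q = Q'.map B.subtype := ⟨_, rfl⟩
  have hQB : Q ≤ B := by
    rw [hQ]
    rintro _ ⟨y, -, rfl⟩
    exact y.2
  have hQmem : ∀ y : B, y ∈ Q' ↔ (y : A) ∈ Q := by
    intro y
    rw [hQ]
    constructor
    · intro h
      exact Subgroup.mem_map_of_mem _ h
    · rintro ⟨z, hz, hzy⟩
      have h1 : z = y := Subtype.ext hzy
      rwa [← h1]
  have hQcard : Nat.card Q = n₂ * C.relIndex B := by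
    rw [← hC₁Bidx, hQ'.symm.index_eq_card, hQ]
    exact Nat.card_congr (Subgroup.equivMapOfInjective Q' B.subtype B.subtype_injective).symm.toEquiv
  have hQpow : ∀ q ∈ Q, q ^ (n₂ * C.relIndex B) = 1 := by
    intro z hz
    have h1 : (⟨z, hz⟩ : Q) ^ Nat.card Q = 1 := pow_card_eq_one'
    rw [hQcard] at h1
    exact congrArg Subtype.val h1
  have hinf : C₁ ⊓ Q = ⊥ := by
    have h1 : (Nat.card C₁).Coprime (Nat.card Q) := by
      rw [hC₁card, hQcard]
      exact Nat.Coprime.mul_right hn₁₂ hn₁b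
    exact (Subgroup.disjoint_of_coprime_natCard h1).eq_bot
  have hdecB : ∀ g ∈ B, ∃ z ∈ C₁, ∃ q ∈ Q, g = z * q := by
    intro g hg
    obtain ⟨⟨⟨a, ha⟩, ⟨b, hb⟩⟩, hab⟩ := hQ'.2 ⟨g, hg⟩
    refine ⟨a, Subgroup.mem_subgroupOf.mp ha, b, (hQmem b).mp hb, ?_⟩
    exact (congrArg Subtype.val hab).symm
  -- `Q` is normal in `A`
  have hcopz : (n₂ * C.relIndex B).Coprime n₁ := (Nat.Coprime.mul_right hn₁₂ hn₁b).symm
  haveI hQn : Q.Normal := by
    constructor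
    intro q hq x
    have hyB : x * q * x⁻¹ ∈ B := hB.conj_mem q (hQB hq) x
    obtain ⟨z, hz, q', hq', hy⟩ := hdecB _ hyB
    have h1 : (x * q * x⁻¹) ^ (n₂ * C.relIndex B) = 1 := by
      rw [conj_pow, hQpow q hq]
      group
    have hcomm : Commute z q' := (hC₁cen z hz q').symm
    rw [hy, hcomm.mul_pow, hQpow q' hq', mul_one] at h1
    have h2 : z ^ n₁ = 1 := hC₁pow z hz
    have h3 : z = 1 := by
      have h4 := pow_gcd_eq_one.mpr ⟨h1, h2⟩
      rwa [Nat.Coprime.gcd_eq_one hcopz, pow_one] at h4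
    rw [hy, h3, one_mul]
    exact hq'
  -- complement of `Q` in `A`
  have hQidx : Q.index = n₁ * B.index := by
    have h1 := Subgroup.card_mul_index Q
    rw [hQcard, hcardA] at h1
    have h0 : 0 < n₂ * C.relIndex B := by
      rw [← hQcard]
      exact Nat.card_pos
    apply Nat.eq_of_mul_eq_mul_left h0
    rw [h1]
    ring
  have hcopQ : (Nat.card Q).Coprime Q.index := by
    rw [hQcard, hQidx]
    exact Nat.Coprime.mul_left (Nat.Coprime.mul_right hn₁₂.symm hn₂a) (Nat.Coprime.mul_right hn₁b.symm hcop.symm)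
  obtain ⟨S, hS⟩ := Subgroup.exists_right_complement'_of_coprime (N := Q) hcopQ
  have hScard : Nat.card S = Q.index := hS.symm.index_eq_card.symm
  have hinfS : Q ⊓ S = ⊥ := hS.disjoint.eq_bot
  have hdecA : ∀ x : A, ∃ q ∈ Q, ∃ s ∈ S, x = q * s := by
    intro x
    obtain ⟨⟨⟨a, ha⟩, ⟨b, hb⟩⟩, hab⟩ := hS.2 x
    exact ⟨a, ha, b, hb, hab.symm⟩
  -- `S` is solvable
  have hSsolv : Group.IsSolvable S := by
    haveI := hsolv
    let g : S →* A ⧸ B := (QuotientGroup.mk' B).comp S.subtype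
    haveI hk : Group.IsSolvable g.ker := by
      apply isSolvable_of_comm
      rintro ⟨a, ha⟩ ⟨b, hb⟩
      apply Subtype.ext
      apply Subtype.ext
      have haB : (a : A) ∈ B := (QuotientGroup.eq_one_iff _).mp ha
      have hbB : (b : A) ∈ B := (QuotientGroup.eq_one_iff _).mp hb
      obtain ⟨z, hz, q, hq, hza⟩ := hdecB _ haB
      obtain ⟨z', hz', q', hq', hzb⟩ := hdecB _ hbB
      have h1 : (a : A) * b * (a : A)⁻¹ * (b : A)⁻¹ ∈ Q := by
        rw [hza, hzb]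
        have h2 : z * q * (z' * q') * (z * q)⁻¹ * (z' * q')⁻¹ = q * q' * q⁻¹ * q'⁻¹ := by
          have e1 : q * z' = z' * q := hC₁cen z' hz' q
          have e2 : z * q = q * z := (hC₁cen z hz q).symm
          have e3 : q' * z = z * q' := hC₁cen z hz q'
          calc z * q * (z' * q') * (z * q)⁻¹ * (z' * q')⁻¹ = z * (q * z') * q' * q⁻¹ * z⁻¹ * q'⁻¹ * z'⁻¹ := by group
            _ = z * z' * (q * q' * q⁻¹) * z⁻¹ * q'⁻¹ * z'⁻¹ := by rw [e1]; group
            _ = _ := by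
              have e4 : (q * q' * q⁻¹) * z⁻¹ = z⁻¹ * (q * q' * q⁻¹) := (hC₁cen _ (C₁.inv_mem hz) _)
              have e5 : z * z' * z⁻¹ = z' := by
                have := hC₁cen z hz z'
                rw [← this]
                group
              have e6 : z' * (q * q' * q⁻¹) * q'⁻¹ * z'⁻¹ = q * q' * q⁻¹ * q'⁻¹ := by
                have e7 : z' * (q * q' * q⁻¹ * q'⁻¹) = (q * q' * q⁻¹ * q'⁻¹) * z' := (hC₁cen z' hz' _).symm
                calc z' * (q * q' * q⁻¹) * q'⁻¹ * z'⁻¹ = z' * (q * q' * q⁻¹ * q'⁻¹) * z'⁻¹ := by group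
                  _ = _ := by
                    rw [e7]
                    group
              calc z * z' * (q * q' * q⁻¹) * z⁻¹ * q'⁻¹ * z'⁻¹ = z * z' * ((q * q' * q⁻¹) * z⁻¹) * q'⁻¹ * z'⁻¹ := by group
                _ = (z * z' * z⁻¹) * (q * q' * q⁻¹) * q'⁻¹ * z'⁻¹ := by rw [e4]; group
                _ = _ := by rw [e5, e6]
        rw [h2]
        exact Q.mul_mem (Q.mul_mem (Q.mul_mem hq hq') (Q.inv_mem hq)) (Q.inv_mem hq')
      have h3 : (a : A) * b * (a : A)⁻¹ * (b : A)⁻¹ ∈ S :=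
        S.mul_mem (S.mul_mem (S.mul_mem a.2 b.2) (S.inv_mem a.2)) (S.inv_mem b.2)
      have h4 : (a : A) * b * (a : A)⁻¹ * (b : A)⁻¹ ∈ Q ⊓ S := ⟨h1, h3⟩
      rw [hinfS, Subgroup.mem_bot] at h4
      have h5 := mul_inv_eq_one.mp h4
      exact mul_inv_eq_iff_eq_mul.mp h5
    exact solvable_of_ker_le_range g.ker.subtype g (by simp)
  haveI := hSsolv
  -- apply the coprime theorem to `Q`
  haveI : Fintype Q := Fintype.ofFinite _
  obtain ⟨C₂, hC₂⟩ : ∃ C₂ : Subgroup A, C₂ = C ⊓ Q := ⟨_, rfl⟩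
  haveI : Fintype C₂ := Fintype.ofFinite _
  have hC₂C : C₂ ≤ C := hC₂ ▸ inf_le_left
  have hC₂Q : C₂ ≤ Q := hC₂ ▸ inf_le_right
  let δ₂ : C₂ →* ℂˣ := δ.comp (Subgroup.inclusion hC₂C)
  let θ₂ : IrrCharacter C₂ := ⟨fun z => ((δ₂ z : ℂˣ) : ℂ), isIrrCharacter_of_hom δ₂⟩
  have hθ₂ : InvBy S C₂ θ₂ := by
    intro s hs g g' hg'
    have h1 : g' = g := Subtype.ext (by
      rw [hg']
      exact hcen g (hC₂C g.2) s)
    rw [h1]
  have hcopQS : (Nat.card Q).Coprime (Nat.card S) := by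
    rw [hScard]
    exact hcopQ
  obtain ⟨χ₀, hχ₀c, hχ₀S⟩ := over_inv S _ Q C₂ rfl (fun s _ g hg => hQn.conj_mem g hg s) hcopQS hC₂Q
    (fun g _ n hn => by
      rw [hcen n (hC₂C hn) g]
      exact hn) (fun s _ n hn => by
      rw [hcen n (hC₂C hn) s]
      exact hn) θ₂ hθ₂
  -- the restriction of `χ₀` to `C₂` is a multiple of `θ₂`
  let L : Subgroup Q := C₂.subgroupOf Q
  haveI : Fintype L := Fintype.ofFinite _
  haveI hLn : L.Normal := ⟨fun n hn g => by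
    refine Subgroup.mem_subgroupOf.mpr ?_
    have h1 : ((n : Q) : A) ∈ C₂ := Subgroup.mem_subgroupOf.mp hn
    show (g : A) * n * (g : A)⁻¹ ∈ C₂
    rw [hcen _ (hC₂C h1) g]
    exact h1⟩
  let e₂ : L ≃* C₂ := Subgroup.subgroupOfEquivOfLe hC₂Q
  let θ' : L → ℂ := θ₂.1 ∘ e₂
  have hθ' : IsIrrCharacter L θ' := IsIrrCharacter.comp_surjective θ₂.2 e₂.toMonoidHom e₂.surjective
  have hinvL : ∀ (g : Q) (n : L), θ' ⟨g * n * g⁻¹, hLn.conj_mem n n.2 g⟩ = θ' n := by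
    intro g n
    refine congrArg θ' (Subtype.ext (Subtype.ext ?_))
    exact hcen _ (hC₂C (Subgroup.mem_subgroupOf.mp n.2)) g
  have hcL : classInner (fun n : L => χ₀.1 n) θ' ≠ 0 := by
    have h1 : classInner (fun n : L => χ₀.1 n) θ' = classInner (fun n : C₂ => χ₀.1 (Subgroup.inclusion hC₂Q n)) θ₂.1 :=
      classInner_comp_equiv e₂ (fun n : C₂ => χ₀.1 (Subgroup.inclusion hC₂Q n)) θ₂.1
    rw [h1]
    exact hχ₀c
  obtain ⟨e, he0, -, her⟩ := res_eq_smul_of_inv (K := Q) (L := L) hθ' hinvL χ₀.2 hcL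
  have hχ₀C₂ : ∀ w : C₂, χ₀.1 (Subgroup.inclusion hC₂Q w) = (e : ℂ) * θ₂.1 w := by
    intro w
    have h1 := congrFun her (e₂.symm w)
    have h2 : θ' (e₂.symm w) = θ₂.1 w := by
      show θ₂.1 (e₂ (e₂.symm w)) = _
      rw [e₂.apply_symm_apply]
    simp only [Pi.smul_apply, smul_eq_mul] at h1
    rw [h2] at h1
    rw [← h1]
    refine congrArg χ₀.1 (Subtype.ext ?_)
    have h4 : e₂ (e₂.symm w) = w := e₂.apply_symm_apply w
    exact (congrArg (fun z : C₂ => (z : A)) h4).symm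
  -- projections of `B`
  haveI hQ'n : Q'.Normal := ⟨fun n hn g => (hQmem _).mpr (hQn.conj_mem _ ((hQmem n).mp hn) g)⟩
  have hinfB : C₁B ⊓ Q' = ⊥ := hQ'.disjoint.eq_bot
  have hdec1 : ∀ g : B, ∃ m ∈ C₁B, ∃ h ∈ Q', g = m * h := by
    intro g
    obtain ⟨z, hz, q, hq, h⟩ := hdecB g g.2
    exact ⟨⟨z, hCB (hC₁C hz)⟩, Subgroup.mem_subgroupOf.mpr hz, ⟨q, hQB hq⟩, (hQmem _).mpr hq, Subtype.ext h⟩
  have hdec2 : ∀ g : B, ∃ m ∈ Q', ∃ h ∈ C₁B, g = m * h := by
    intro g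
    obtain ⟨z, hz, q, hq, h⟩ := hdecB g g.2
    refine ⟨⟨q, hQB hq⟩, (hQmem _).mpr hq, ⟨z, hCB (hC₁C hz)⟩, Subgroup.mem_subgroupOf.mpr hz, Subtype.ext ?_⟩
    show (g : A) = q * z
    rw [h]
    exact (hC₁cen z hz q).symm
  obtain ⟨pq, hpq1, hpq2⟩ := proj_of_compl C₁B Q' hinfB hdec1
  obtain ⟨pz, hpz1, hpz2⟩ := proj_of_compl Q' C₁B (by
    rw [inf_comm]
    exact hinfB) hdec2
  let fQ : Q' →* Q :=
    { toFun := fun y => ⟨((y : B) : A), (hQmem y).mp y.2⟩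
      map_one' := rfl
      map_mul' := fun _ _ => rfl }
  let fC : C₁B →* C :=
    { toFun := fun y => ⟨((y : B) : A), hC₁C (Subgroup.mem_subgroupOf.mp y.2)⟩
      map_one' := rfl
      map_mul' := fun _ _ => rfl }
  let pr₂ : B →* Q := fQ.comp pq
  let zc : B →* C := fC.comp pz
  -- evaluation
  have hkey : ∀ z ∈ C₁, ∀ q ∈ Q, ∀ g : B, (g : A) = z * q → ((pr₂ g : Q) : A) = q ∧ ((zc g : C) : A) = z := by
    intro z hz q hq g hg
    have hg' : g = (⟨z, hCB (hC₁C hz)⟩ : B) * (⟨q, hQB hq⟩ : B) := Subtype.ext hg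
    have hzm : (⟨z, hCB (hC₁C hz)⟩ : B) ∈ C₁B := Subgroup.mem_subgroupOf.mpr hz
    have hqm : (⟨q, hQB hq⟩ : B) ∈ Q' := (hQmem _).mpr hq
    have h1 : pq g = ⟨⟨q, hQB hq⟩, hqm⟩ := by
      rw [hg', map_mul, hpq1 _ hzm, one_mul]
      exact hpq2 ⟨⟨q, hQB hq⟩, hqm⟩
    have h2 : pz g = ⟨⟨z, hCB (hC₁C hz)⟩, hzm⟩ := by
      rw [hg', map_mul, hpz1 _ hqm, mul_one]
      exact hpz2 ⟨⟨z, hCB (hC₁C hz)⟩, hzm⟩
    constructor
    · show ((fQ (pq g) : Q) : A) = q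
      rw [h1]
      rfl
    · show ((fC (pz g) : C) : A) = z
      rw [h2]
      rfl
  have hvals : ∀ g : B, ((zc g : C) : A) ∈ C₁ ∧ ((pr₂ g : Q) : A) ∈ Q ∧ (g : A) = (zc g : C) * (pr₂ g : Q) := by
    intro g
    obtain ⟨z, hz, q, hq, hg⟩ := hdecB g g.2
    obtain ⟨h1, h2⟩ := hkey z hz q hq g hg
    rw [h1, h2]
    exact ⟨hz, hq, hg⟩
  have hpr₂s : Function.Surjective pr₂ := by
    intro q
    refine ⟨⟨q, hQB q.2⟩, Subtype.ext ?_⟩
    have h1 := (hkey 1 C₁.one_mem q q.2 ⟨q, hQB q.2⟩ (by simp)).1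
    exact h1
  refine ⟨⟨fun g => (χ₀.1 ∘ pr₂) g * (((δ.comp zc) g : ℂˣ) : ℂ), irr_mul_hom (IsIrrCharacter.comp_surjective χ₀.2 pr₂ hpr₂s) (δ.comp zc)⟩, ⟨e, he0, ?_⟩, ?_⟩
  · intro c
    let g : B := ⟨c, hCB c.2⟩
    obtain ⟨hz, hq, hg⟩ := hvals g
    have hqC : ((pr₂ g : Q) : A) ∈ C := by
      have h1 : ((pr₂ g : Q) : A) = ((zc g : C) : A)⁻¹ * c := by
        have h2 : (c : A) = (zc g : C) * (pr₂ g : Q) := hg
        rw [h2]
        group
      rw [h1]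
      exact C.mul_mem (C.inv_mem (hC₁C hz)) c.2
    have hqC₂ : ((pr₂ g : Q) : A) ∈ C₂ := by
      rw [hC₂]
      exact ⟨hqC, hq⟩
    let w : C₂ := ⟨_, hqC₂⟩
    have h1 := hχ₀C₂ w
    have h2 : Subgroup.inclusion hC₂Q w = pr₂ g := Subtype.ext rfl
    rw [h2] at h1
    show χ₀.1 (pr₂ g) * ((δ (zc g) : ℂˣ) : ℂ) = _
    rw [h1]
    have h3 : θ₂.1 w = ((δ ⟨_, hqC⟩ : ℂˣ) : ℂ) := rfl
    rw [h3]
    have h4 : c = (⟨_, hqC⟩ : C) * zc g := by
      apply Subtype.ext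
      show (c : A) = ((pr₂ g : Q) : A) * ((zc g : C) : A)
      have h5 : (c : A) = (zc g : C) * (pr₂ g : Q) := hg
      rw [h5]
      exact (hC₁cen _ hz _).symm
    conv_rhs => rw [h4, map_mul, Units.val_mul]
    ring
  · intro x g
    let g' : B := ⟨x * g * x⁻¹, hB.conj_mem g g.2 x⟩
    obtain ⟨hz, hq, hg⟩ := hvals g
    have hxq : x * ((pr₂ g : Q) : A) * x⁻¹ ∈ Q := hQn.conj_mem _ hq x
    have hg' : (g' : A) = ((zc g : C) : A) * (x * ((pr₂ g : Q) : A) * x⁻¹) := by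
      show x * (g : A) * x⁻¹ = _
      rw [hg]
      have h1 : x * ((zc g : C) : A) = ((zc g : C) : A) * x := hC₁cen _ hz x
      calc x * (((zc g : C) : A) * ((pr₂ g : Q) : A)) * x⁻¹ = (x * ((zc g : C) : A)) * ((pr₂ g : Q) : A) * x⁻¹ := by group
        _ = _ := by
          rw [h1]
          group
    obtain ⟨h1, h2⟩ := hkey _ hz _ hxq g' hg'
    have hzeq : zc g' = zc g := Subtype.ext h2
    have hqeq : χ₀.1 (pr₂ g') = χ₀.1 (pr₂ g) := by
      obtain ⟨q₀, hq₀, s, hs, hx⟩ := hdecA x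
      let q₁ : Q := ⟨s * ((pr₂ g : Q) : A) * s⁻¹, hQn.conj_mem _ hq s⟩
      have h3 : χ₀.1 q₁ = χ₀.1 (pr₂ g) := hχ₀S s hs _ q₁ rfl
      have hcl := classFunction_of_isIrrCharacter χ₀.2 q₁ ⟨q₀, hq₀⟩
      rw [← h3, ← hcl]
      refine congrArg χ₀.1 (Subtype.ext ?_)
      rw [h1, hx]
      show q₀ * s * ((pr₂ g : Q) : A) * (q₀ * s)⁻¹ = q₀ * (s * ((pr₂ g : Q) : A) * s⁻¹) * q₀⁻¹
      group
    show χ₀.1 (pr₂ g') * ((δ (zc g') : ℂˣ) : ℂ) = χ₀.1 (pr₂ g) * ((δ (zc g) : ℂˣ) : ℂ)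
    rw [hqeq, hzeq]

end Central

section Linear

variable {A : Type u} [Group A] [Fintype A]

set_option maxHeartbeats 2000000 in
/-- The invariant linear case. -/
theorem linear_step (B C : Subgroup A) [hB : B.Normal] [hC : C.Normal] [Fintype B] [Fintype C] (hCB : C ≤ B) (δ : C →* ℂˣ)
    (hδ : ∀ (x : A) (c : C), δ ⟨x * c * x⁻¹, hC.conj_mem c c.2 x⟩ = δ c) (hcop : (B.index).Coprime (C.relIndex B))
    (hsolv : Group.IsSolvable (A ⧸ B)) :
    ∃ ν : IrrCharacter B, (∃ e : ℕ, e ≠ 0 ∧ ∀ c : C, ν.1 ⟨c, hCB c.2⟩ = (e : ℂ) * ((δ c : ℂˣ) : ℂ)) ∧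
      ∀ (x : A) (g : B), ν.1 ⟨x * g * x⁻¹, hB.conj_mem g g.2 x⟩ = ν.1 g := by
  classical
  obtain ⟨K, hK⟩ : ∃ K : Subgroup A, K = δ.ker.map C.subtype := ⟨_, rfl⟩
  have hKC : K ≤ C := by
    rw [hK]
    rintro _ ⟨y, -, rfl⟩
    exact y.2
  have hKmem : ∀ c : C, (c : A) ∈ K ↔ δ c = 1 := by
    intro c
    rw [hK]
    constructor
    · rintro ⟨y, hy, hyc⟩
      have h1 : y = c := Subtype.ext hyc
      rwa [← h1]
    · intro h
      exact Subgroup.mem_map_of_mem _ h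
  haveI hKn : K.Normal := by
    constructor
    intro k hk x
    have hkC := hKC hk
    have h1 : δ ⟨k, hkC⟩ = 1 := (hKmem ⟨k, hkC⟩).mp hk
    have h2 := hδ x ⟨k, hkC⟩
    exact (hKmem ⟨x * k * x⁻¹, hC.conj_mem k hkC x⟩).mpr (h2.trans h1)
  let π : A →* A ⧸ K := QuotientGroup.mk' K
  have hπs : Function.Surjective π := QuotientGroup.mk'_surjective K
  have hπk : ∀ x, π x = 1 ↔ x ∈ K := fun x => QuotientGroup.eq_one_iff x
  have hkerπ : π.ker = K := QuotientGroup.ker_mk' K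
  haveI : Fintype (A ⧸ K) := Fintype.ofFinite _
  obtain ⟨Bb, hBb⟩ : ∃ Bb : Subgroup (A ⧸ K), Bb = B.map π := ⟨_, rfl⟩
  obtain ⟨Cb, hCb⟩ : ∃ Cb : Subgroup (A ⧸ K), Cb = C.map π := ⟨_, rfl⟩
  haveI hBbn : Bb.Normal := by
    rw [hBb]
    exact Subgroup.Normal.map hB π hπs
  haveI : Fintype Bb := Fintype.ofFinite _
  haveI : Fintype Cb := Fintype.ofFinite _
  have hCbBb : Cb ≤ Bb := by
    rw [hCb, hBb]
    exact Subgroup.map_mono hCB
  have hcen : ∀ c ∈ Cb, ∀ x : A ⧸ K, x * c * x⁻¹ = c := by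
    intro c hc x
    rw [hCb] at hc
    obtain ⟨c', hc', rfl⟩ := hc
    obtain ⟨x', rfl⟩ := hπs x
    rw [← map_inv, ← map_mul, ← map_mul]
    have h1 : π (x' * c' * x'⁻¹ * c'⁻¹) = 1 := by
      apply (hπk _).mpr
      let w : C := ⟨x' * c' * x'⁻¹, hC.conj_mem c' hc' x'⟩
      have hm : x' * c' * x'⁻¹ * c'⁻¹ ∈ C := C.mul_mem w.2 (C.inv_mem hc')
      refine (hKmem ⟨_, hm⟩).mpr ?_
      have h2 : (⟨_, hm⟩ : C) = w * (⟨c', hc'⟩ : C)⁻¹ := Subtype.ext rfl
      rw [h2, map_mul, map_inv, hδ x' ⟨c', hc'⟩, mul_inv_cancel]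
    rw [map_mul, map_inv] at h1
    exact mul_inv_eq_one.mp h1
  have hidx : Bb.index = B.index := by
    rw [hBb, Subgroup.index_map, hkerπ, sup_eq_left.mpr (hKC.trans hCB), MonoidHom.range_eq_top.mpr hπs, Subgroup.index_top, mul_one]
  have hrel : Cb.relIndex Bb = C.relIndex B := by
    have h1 : C = Cb.comap π := by
      rw [hCb, Subgroup.comap_map_eq, hkerπ, sup_eq_left.mpr hKC]
    conv_rhs => rw [h1, Subgroup.relIndex_comap, ← hBb]
  have hsolvb : Group.IsSolvable ((A ⧸ K) ⧸ Bb) := by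
    haveI := hsolv
    have hle : B ≤ Bb.comap π := by
      rw [hBb]
      exact Subgroup.le_comap_map π B
    let f : A ⧸ B →* (A ⧸ K) ⧸ Bb := QuotientGroup.map B Bb π hle
    apply Group.isSolvable_of_surjective (f := f)
    intro q
    obtain ⟨q', rfl⟩ := QuotientGroup.mk_surjective q
    obtain ⟨x, rfl⟩ := hπs q'
    exact ⟨QuotientGroup.mk x, rfl⟩
  -- the linear character on the quotient
  let fC : C →* Cb := (π.comp C.subtype).codRestrict Cb (fun c => by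
    rw [hCb]
    exact Subgroup.mem_map_of_mem π c.2)
  have hfCs : Function.Surjective fC := by
    rintro ⟨y, hy⟩
    have hy' := hy
    rw [hCb] at hy'
    obtain ⟨c, hc, rfl⟩ := hy'
    exact ⟨⟨c, hc⟩, Subtype.ext rfl⟩
  have hfCk : fC.ker ≤ δ.ker := by
    intro c hc
    have h1 : fC c = 1 := hc
    have h2 : π c = 1 := congrArg Subtype.val h1
    exact (hKmem c).mp ((hπk _).mp h2)
  let δb : Cb →* ℂˣ := fC.liftOfSurjective hfCs ⟨δ, hfCk⟩
  have hδb : ∀ c : C, δb (fC c) = δ c := fun c => fC.liftOfRightInverse_comp_apply _ _ ⟨δ, hfCk⟩ c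
  obtain ⟨νb, ⟨e, he0, hνb⟩, hνbinv⟩ := central_step Bb Cb hCbBb hcen (by
    rw [hidx, hrel]
    exact hcop) hsolvb δb
  let fB : B →* Bb := (π.comp B.subtype).codRestrict Bb (fun c => by
    rw [hBb]
    exact Subgroup.mem_map_of_mem π c.2)
  have hfBs : Function.Surjective fB := by
    rintro ⟨y, hy⟩
    have hy' := hy
    rw [hBb] at hy'
    obtain ⟨c, hc, rfl⟩ := hy'
    exact ⟨⟨c, hc⟩, Subtype.ext rfl⟩
  refine ⟨⟨νb.1 ∘ fB, IsIrrCharacter.comp_surjective νb.2 fB hfBs⟩, ⟨e, he0, ?_⟩, ?_⟩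
  · intro c
    show νb.1 (fB ⟨c, hCB c.2⟩) = _
    have h1 := hνb (fC c)
    rw [hδb] at h1
    rw [← h1]
    exact congrArg νb.1 (Subtype.ext rfl)
  · intro x g
    show νb.1 (fB _) = νb.1 (fB g)
    have h1 := hνbinv (π x) (fB g)
    rw [← h1]
    refine congrArg νb.1 (Subtype.ext ?_)
    show π (x * g * x⁻¹) = π x * π g * (π x)⁻¹
    rw [map_mul, map_mul, map_inv]

end Linear

section Descent

theorem irr_of_comp_surj {X Y : Type*} [Group X] [Group Y] [Finite X] [Finite Y] (f : X →* Y) (hf : Function.Surjective f) {χ : Y → ℂ}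
    (h : IsIrrCharacter X (χ ∘ f)) : IsIrrCharacter Y χ := by
  classical
  obtain ⟨k, r, hr, hc⟩ := h
  have hker : f.ker ≤ MonoidHom.ker r := by
    intro z hz
    have h1 : f z = 1 := hz
    have h2 : r.character z = r.character 1 := by
      rw [hc]
      show χ (f z) = χ (f 1)
      rw [h1, map_one]
    have h3 : r.character z = (finrank ℂ (Fin k → ℂ) : ℂ) := by
      rw [h2]
      exact Representation.char_one r
    have h4 := (character_eq_finrank_iff r z).mp h3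
    exact h4
  have hcong : ∀ x x', f x = f x' → r x = r x' := by
    intro x x' h
    have h1 : x⁻¹ * x' ∈ f.ker := by
      rw [MonoidHom.mem_ker, map_mul, map_inv, h, inv_mul_cancel]
    have h2 : r (x⁻¹ * x') = 1 := hker h1
    have h3 : x' = x * (x⁻¹ * x') := by group
    rw [h3, map_mul, h2, mul_one]
  let r' : Representation ℂ Y (Fin k → ℂ) :=
    { toFun := fun y => r (Function.surjInv hf y)
      map_one' := by
        rw [hcong (Function.surjInv hf 1) 1 (by rw [Function.surjInv_eq hf, map_one]), map_one]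
      map_mul' := fun a b => by
        rw [← map_mul]
        apply hcong
        rw [map_mul, Function.surjInv_eq hf, Function.surjInv_eq hf, Function.surjInv_eq hf] }
  have hr' : ∀ x, r' (f x) = r x := fun x => hcong _ _ (Function.surjInv_eq hf _)
  have hirr : r'.IsIrreducible := by
    rw [isIrreducible_iff] at hr ⊢
    refine ⟨hr.1, fun U hU => hr.2 U (fun x v hv => ?_)⟩
    rw [← hr']
    exact hU _ v hv
  have hchar : r'.character = χ := by
    funext y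
    obtain ⟨x, rfl⟩ := hf y
    show LinearMap.trace ℂ _ (r' (f x)) = _
    rw [hr']
    exact congrFun hc x
  rw [← hchar]
  exact isIrrCharacter_character r' hirr

end Descent

section Final

variable {Γ : Type u} [Group Γ] [Fintype Γ]

set_option maxHeartbeats 4000000 in
theorem case2 (G N : Subgroup Γ) [hG : G.Normal] [hN : N.Normal] [Fintype G] [Fintype N] (hNG : N ≤ G) (hcop : (G.index).Coprime (N.relIndex G))
    (hsolv : Group.IsSolvable (Γ ⧸ G)) (θ : IrrCharacter N) (hinv : ∀ (x : Γ) (n : N), (θ : N → ℂ) ⟨x * n * x⁻¹, hN.conj_mem n n.2 x⟩ = (θ : N → ℂ) n) :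
    ∃ χ : IrrCharacter G, classInner (fun n : N => (χ : G → ℂ) ⟨n, hNG n.2⟩) (θ : N → ℂ) ≠ 0 ∧ ∀ (x : Γ) (g : G), (χ : G → ℂ) ⟨x * g * x⁻¹, hG.conj_mem g g.2 x⟩ = (χ : G → ℂ) g := by
  classical
  obtain ⟨k, ρ, hρ, hθρ⟩ := θ.2
  have hV : Nontrivial (Fin k → ℂ) := ((isIrreducible_iff ρ).mp hρ).1
  have hinv' : ∀ (g : Γ) (n : N), ρ.character (cn N g n) = ρ.character n := by
    intro g n
    rw [hθρ]
    exact hinv g n
  haveI hfin : Finite (gamma N ρ) := finite_gamma N ρ hρ hinv'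
  haveI : Fintype (gamma N ρ) := Fintype.ofFinite _
  let π : gamma N ρ →* Γ := piG N ρ
  have hπs : Function.Surjective π := piG_surjective N ρ hinv'
  let τ : Representation ℂ (gamma N ρ) (Fin k → ℂ) :=
    { toFun := fun a => (((a : Γ × (Module.End ℂ (Fin k → ℂ))ˣ).2 : (Module.End ℂ (Fin k → ℂ))ˣ) : Module.End ℂ (Fin k → ℂ))
      map_one' := rfl
      map_mul' := fun _ _ => rfl }
  have hτ : ∀ (a : gamma N ρ) (n : N) (v : Fin k → ℂ), τ a (ρ n v) = ρ (cn N (π a) n) (τ a v) := fun a n v => a.2.2 n v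
  have hτinv : ∀ (a : gamma N ρ) (v : Fin k → ℂ), τ a (τ a⁻¹ v) = v := by
    intro a v
    have h1 : τ a * τ a⁻¹ = 1 := by
      rw [← map_mul, mul_inv_cancel, map_one]
    exact congrArg (fun T : Module.End ℂ (Fin k → ℂ) => T v) h1
  obtain ⟨B, hBdef⟩ : ∃ B : Subgroup (gamma N ρ), B = G.comap π := ⟨_, rfl⟩
  obtain ⟨C, hCdef⟩ : ∃ C : Subgroup (gamma N ρ), C = N.comap π := ⟨_, rfl⟩
  haveI hBn : B.Normal := by
    rw [hBdef]
    exact Subgroup.Normal.comap hG π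
  haveI hCn : C.Normal := by
    rw [hCdef]
    exact Subgroup.Normal.comap hN π
  haveI : Fintype B := Fintype.ofFinite _
  haveI : Fintype C := Fintype.ofFinite _
  have hCB : C ≤ B := by
    rw [hCdef, hBdef]
    exact Subgroup.comap_mono hNG
  have hCmem : ∀ c : gamma N ρ, c ∈ C ↔ π c ∈ N := by
    intro c
    rw [hCdef]
    rfl
  have hBmem : ∀ c : gamma N ρ, c ∈ B ↔ π c ∈ G := by
    intro c
    rw [hBdef]
    rfl
  -- the scalars
  have hu : ∀ (μ μ' : ℂ) (n : N), μ • ρ n = μ' • ρ n → μ = μ' := by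
    intro μ μ' n h
    obtain ⟨v, hv⟩ := exists_ne (0 : Fin k → ℂ)
    have h1 := congrArg (fun T : Module.End ℂ (Fin k → ℂ) => T (ρ n⁻¹ v)) h
    have h2 : ρ n (ρ n⁻¹ v) = v := by
      rw [← Module.End.mul_apply, ← map_mul, mul_inv_cancel, map_one]
      rfl
    simp only [LinearMap.smul_apply, h2] at h1
    exact smul_left_injective ℂ hv h1
  have hex : ∀ c : C, ∃ μ : ℂˣ, τ c = (μ : ℂ) • ρ ⟨π c, (hCmem c).mp c.2⟩ := by
    intro c
    obtain ⟨μ, hμ⟩ := gamma_over_N N ρ hρ (c : gamma N ρ).2 ((hCmem c).mp c.2)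
    have hμ0 : μ ≠ 0 := by
      rintro rfl
      obtain ⟨v, hv⟩ := exists_ne (0 : Fin k → ℂ)
      have h1 := hτinv c v
      have h2 : τ c = 0 := by
        show ((( (c : gamma N ρ) : Γ × (Module.End ℂ (Fin k → ℂ))ˣ).2 : (Module.End ℂ (Fin k → ℂ))ˣ) : Module.End ℂ (Fin k → ℂ)) = 0
        rw [hμ, zero_smul]
      rw [h2] at h1
      exact hv h1.symm
    exact ⟨Units.mk0 μ hμ0, hμ⟩
  choose m hm using hex
  have hmmul : ∀ a b : C, m (a * b) = m a * m b := by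
    intro a b
    apply Units.ext
    have h1 := hm (a * b)
    have h2 : τ ((a * b : C) : gamma N ρ) = τ a * τ b := map_mul τ _ _
    rw [h2, hm a, hm b] at h1
    have h3 : ((m a : ℂ) • ρ ⟨π a, (hCmem a).mp a.2⟩) * ((m b : ℂ) • ρ ⟨π b, (hCmem b).mp b.2⟩) = ((m a : ℂ) * (m b : ℂ)) • ρ ⟨π ((a * b : C) : gamma N ρ), (hCmem _).mp (a * b).2⟩ := by
      rw [smul_mul_smul_comm, ← map_mul]
      rfl
    rw [h3] at h1
    exact (hu _ _ _ h1).symm
  let mm : C →* ℂˣ := MonoidHom.mk' m hmmul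
  let δ : C →* ℂˣ := mm⁻¹
  have hδv : ∀ c : C, δ c = (m c)⁻¹ := fun c => rfl
  have hδ : ∀ (x : gamma N ρ) (c : C), δ ⟨x * c * x⁻¹, hCn.conj_mem c c.2 x⟩ = δ c := by
    intro x c
    rw [hδv, hδv]
    congr 1
    apply Units.ext
    let c' : C := ⟨x * c * x⁻¹, hCn.conj_mem c c.2 x⟩
    have h1 := hm c'
    have h2 : τ (c' : gamma N ρ) = τ x * τ c * τ x⁻¹ := by
      show τ (x * c * x⁻¹) = _
      rw [map_mul, map_mul]
    have h3 : τ x * τ c * τ x⁻¹ = (m c : ℂ) • ρ ⟨π c', (hCmem c').mp c'.2⟩ := by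
      rw [hm c]
      refine LinearMap.ext fun v => ?_
      show τ x ((m c : ℂ) • ρ ⟨π c, _⟩ (τ x⁻¹ v)) = _
      rw [map_smul, hτ, hτinv]
      have h5 : cn N (π x) ⟨π c, (hCmem c).mp c.2⟩ = ⟨π c', (hCmem c').mp c'.2⟩ := by
        apply Subtype.ext
        show π x * π c * (π x)⁻¹ = π (x * c * x⁻¹)
        rw [map_mul, map_mul, map_inv]
      rw [h5]
      rfl
    rw [h2, h3] at h1
    exact (hu _ _ _ h1).symm
  have hcop' : (B.index).Coprime (C.relIndex B) := by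
    have h1 : B.index = G.index := by
      rw [hBdef]
      exact Subgroup.index_comap_of_surjective G hπs
    have h2 : C.relIndex B = N.relIndex G := by
      rw [hCdef, Subgroup.relIndex_comap, hBdef, Subgroup.map_comap_eq_self_of_surjective hπs]
    rw [h1, h2]
    exact hcop
  have hsolv' : Group.IsSolvable (gamma N ρ ⧸ B) := by
    haveI := hsolv
    have hle : B ≤ G.comap π := by
      rw [hBdef]
    let f : gamma N ρ ⧸ B →* Γ ⧸ G := QuotientGroup.map B G π hle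
    have hf : Function.Injective f := by
      rw [injective_iff_map_eq_one]
      intro q hq
      obtain ⟨d, rfl⟩ := QuotientGroup.mk_surjective q
      have h1 : QuotientGroup.mk (π d) = (1 : Γ ⧸ G) := hq
      have h2 := (QuotientGroup.eq_one_iff _).mp h1
      exact (QuotientGroup.eq_one_iff _).mpr ((hBmem d).mpr h2)
    exact solvable_of_solvable_injective hf
  obtain ⟨ν, ⟨e, he0, hνc⟩, hνinv⟩ := linear_step B C hCB δ hδ hcop' hsolv'
  -- norm one of roots of unity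
  have hδnorm : ∀ c : C, ((δ c : ℂˣ) : ℂ) * conj ((δ c : ℂˣ) : ℂ) = 1 := by
    intro c
    have h2 : ((δ c : ℂˣ) : ℂ) ^ (orderOf c) = 1 := by
      have h5 : (δ c) ^ orderOf c = 1 := by rw [← map_pow, pow_orderOf_eq_one, map_one]
      have h6 := congrArg Units.val h5
      rw [Units.val_pow_eq_pow_val, Units.val_one] at h6
      exact h6
    have h3 : ‖((δ c : ℂˣ) : ℂ)‖ = 1 := Complex.norm_eq_one_of_pow_eq_one h2 (orderOf_pos c).ne'
    rw [Complex.mul_conj, Complex.normSq_eq_norm_sq, h3]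
    simp
  have hδnorm' : ∀ c : C, ‖((δ c : ℂˣ) : ℂ)‖ = 1 := by
    intro c
    have h2 : ((δ c : ℂˣ) : ℂ) ^ (orderOf c) = 1 := by
      have h5 : (δ c) ^ orderOf c = 1 := by rw [← map_pow, pow_orderOf_eq_one, map_one]
      have h6 := congrArg Units.val h5
      rw [Units.val_pow_eq_pow_val, Units.val_one] at h6
      exact h6
    exact Complex.norm_eq_one_of_pow_eq_one h2 (orderOf_pos c).ne'
  -- `C` acts by scalars on `ν`
  have hνmul : ∀ (c : C) (b : B), ν.1 (⟨c, hCB c.2⟩ * b) = ((δ c : ℂˣ) : ℂ) * ν.1 b := by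
    obtain ⟨d, r, hr, hνr⟩ := ν.2
    have hdeg : ((finrank ℂ (Fin d → ℂ) : ℕ) : ℂ) = (e : ℂ) := by
      have h1 := hνc 1
      have h2 : ν.1 ⟨((1 : C) : gamma N ρ), hCB (1 : C).2⟩ = ν.1 1 := rfl
      rw [h2, map_one, Units.val_one, mul_one, ← hνr, Representation.char_one] at h1
      exact h1
    have hdeg' : finrank ℂ (Fin d → ℂ) = e := by exact_mod_cast hdeg
    intro c b
    have h1 := hνc c
    rw [← hνr] at h1 ⊢
    have h2 : ‖r.character ⟨c, hCB c.2⟩‖ = (finrank ℂ (Fin d → ℂ) : ℝ) := by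
      rw [h1, norm_mul, hδnorm', mul_one, hdeg']
      simp
    obtain ⟨ω, hω⟩ := (norm_character_eq_iff r _).mp h2
    have h3 : r.character ⟨c, hCB c.2⟩ = ω * (e : ℂ) := by
      show LinearMap.trace ℂ _ (r ⟨c, hCB c.2⟩) = _
      rw [hω, map_smul, LinearMap.trace_id, smul_eq_mul, hdeg']
    have he0' : (e : ℂ) ≠ 0 := by exact_mod_cast he0
    have h4 : ω = ((δ c : ℂˣ) : ℂ) := by
      rw [h3, mul_comm ω] at h1
      have h5 : (e : ℂ) * ω = (e : ℂ) * ((δ c : ℂˣ) : ℂ) := h1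
      exact mul_left_cancel₀ he0' h5
    show LinearMap.trace ℂ _ (r (⟨c, hCB c.2⟩ * b)) = _ * LinearMap.trace ℂ _ (r b)
    rw [map_mul, hω, h4]
    rw [show ((δ c : ℂˣ) : ℂ) • (LinearMap.id : (Fin d → ℂ) →ₗ[ℂ] (Fin d → ℂ)) * r b = ((δ c : ℂˣ) : ℂ) • r b from rfl]
    rw [map_smul, smul_eq_mul]
  -- the character `T`
  let T : B → ℂ := fun b => τ.character b
  have hT : IsCharacter B T := IsCharacter.res (isCharacter_character τ) B
  let C' : Subgroup B := C.subgroupOf B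
  haveI hC'n : C'.Normal := inferInstance
  haveI : Fintype C' := Fintype.ofFinite _
  have hTC' : IsIrrCharacter C' (fun n : C' => T n) := by
    let τ' : Representation ℂ C' (Fin k → ℂ) := τ.comp (B.subtype.comp C'.subtype)
    have hτ'irr : τ'.IsIrreducible := by
      rw [isIrreducible_iff] at hρ ⊢
      refine ⟨hV, fun U hU => hρ.2 U (fun n v hv => ?_)⟩
      obtain ⟨a, ha⟩ := hπs (n : Γ)
      have haC : a ∈ C := (hCmem a).mpr (by rw [ha]; exact n.2)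
      have haB : a ∈ B := hCB haC
      have h1 := hU ⟨⟨a, haB⟩, Subgroup.mem_subgroupOf.mpr haC⟩ v hv
      have h2 : τ' ⟨⟨a, haB⟩, Subgroup.mem_subgroupOf.mpr haC⟩ = τ a := rfl
      rw [h2] at h1
      have h3 := hm ⟨a, haC⟩
      have h4 : (⟨π a, (hCmem a).mp haC⟩ : N) = n := Subtype.ext ha
      have h5 : τ a = (m ⟨a, haC⟩ : ℂ) • ρ n := by
        have h6 : τ a = τ ((⟨a, haC⟩ : C) : gamma N ρ) := rfl
        rw [h6, h3]
        congr 2
      rw [h5] at h1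
      have h7 : (m ⟨a, haC⟩ : ℂ) ≠ 0 := Units.ne_zero _
      exact (Submodule.smul_mem_iff U h7).mp h1
    exact isIrrCharacter_character τ' hτ'irr
  have hTirr : IsIrrCharacter B T := irr_of_res_irr C' hT hTC'
  have hTsum : ∀ b : B, (Nat.card C' : ℂ)⁻¹ * ∑ n : C', T ((n : B) * b) * conj (T ((n : B) * b)) = 1 := by
    intro b
    exact congrFun ((s0868 C' T hTirr hTC' T hTirr _ rfl).2.2 rfl) b
  -- the product
  let ξ : B → ℂ := fun b => T b * ν.1 b
  have hξc : IsCharacter B ξ := IsCharacter.mul hT (IsIrrCharacter.isCharacter ν.2)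
  have hC'c : (Nat.card C' : ℂ) ≠ 0 := by exact_mod_cast Nat.card_pos.ne'
  have hξnorm : classInner ξ ξ = 1 := by
    rw [← classInner_irr_self ν.2]
    simp only [classInner]
    congr 1
    have h1 : ∀ f : B → ℂ, ∑ b, f b = (Nat.card C' : ℂ)⁻¹ * ∑ b, ∑ n : C', f ((n : B) * b) := by
      intro f
      rw [Finset.sum_comm]
      have h2 : ∀ n : C', ∑ b, f ((n : B) * b) = ∑ b, f b := fun n => Equiv.sum_comp (Equiv.mulLeft (n : B)) f
      simp only [h2, Finset.sum_const, Finset.card_univ, nsmul_eq_mul]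
      rw [← Nat.card_eq_fintype_card, ← mul_assoc, inv_mul_cancel₀ hC'c, one_mul]
    rw [h1 (fun b => ξ b * conj (ξ b)), Finset.mul_sum]
    apply Finset.sum_congr rfl
    intro b _
    have h2 : ∀ n : C', ξ ((n : B) * b) * conj (ξ ((n : B) * b)) = T ((n : B) * b) * conj (T ((n : B) * b)) * (ν.1 b * conj (ν.1 b)) := by
      intro n
      have hnC : ((n : B) : gamma N ρ) ∈ C := Subgroup.mem_subgroupOf.mp n.2
      have h3 := hνmul ⟨_, hnC⟩ b
      have h4 : ν.1 ((n : B) * b) = ((δ ⟨_, hnC⟩ : ℂˣ) : ℂ) * ν.1 b := h3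
      show (T ((n : B) * b) * ν.1 ((n : B) * b)) * conj (T ((n : B) * b) * ν.1 ((n : B) * b)) = _
      rw [h4, map_mul, map_mul]
      have h5 := hδnorm ⟨_, hnC⟩
      calc _ = T ((n : B) * b) * conj (T ((n : B) * b)) * (ν.1 b * conj (ν.1 b)) * (((δ ⟨_, hnC⟩ : ℂˣ) : ℂ) * conj ((δ ⟨_, hnC⟩ : ℂˣ) : ℂ)) := by ring
        _ = _ := by rw [h5, mul_one]
    simp only [h2]
    rw [← Finset.sum_mul, ← mul_assoc, hTsum, one_mul]
  have hξirr : IsIrrCharacter B ξ := isIrrCharacter_of_norm_one hξc hξnorm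
  -- descent to `G`
  let fG : B →* G := (π.comp B.subtype).codRestrict G (fun b => (hBmem b).mp b.2)
  have hfGs : Function.Surjective fG := by
    intro g
    obtain ⟨a, ha⟩ := hπs (g : Γ)
    exact ⟨⟨a, (hBmem a).mpr (by rw [ha]; exact g.2)⟩, Subtype.ext ha⟩
  have hξker : ∀ b b' : B, fG b = fG b' → ξ b = ξ b' := by
    intro b b' h
    have h1 : π (b' : gamma N ρ) = π (b : gamma N ρ) := (congrArg Subtype.val h).symm
    let z : gamma N ρ := (b' : gamma N ρ) * (b : gamma N ρ)⁻¹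
    have hz1 : π z = 1 := by
      show π ((b' : gamma N ρ) * (b : gamma N ρ)⁻¹) = 1
      rw [map_mul, map_inv, h1, mul_inv_cancel]
    have hzC : z ∈ C := (hCmem z).mpr (by rw [hz1]; exact N.one_mem)
    have hbb : b' = (⟨z, hCB hzC⟩ : B) * b := by
      apply Subtype.ext
      show (b' : gamma N ρ) = (b' : gamma N ρ) * (b : gamma N ρ)⁻¹ * b
      group
    have h2 := hm ⟨z, hzC⟩
    have h3 : (⟨π z, (hCmem z).mp hzC⟩ : N) = 1 := Subtype.ext hz1
    have h4 : τ z = (m ⟨z, hzC⟩ : ℂ) • 1 := by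
      have h6 : τ z = τ ((⟨z, hzC⟩ : C) : gamma N ρ) := rfl
      rw [h6, h2]
      congr 1
      rw [show (⟨π ((⟨z, hzC⟩ : C) : gamma N ρ), (hCmem _).mp (⟨z, hzC⟩ : C).2⟩ : N) = 1 from h3, map_one]
    have h5 : T b' = (m ⟨z, hzC⟩ : ℂ) * T b := by
      rw [hbb]
      show LinearMap.trace ℂ _ (τ (z * b)) = _ * LinearMap.trace ℂ _ (τ b)
      rw [map_mul, h4, smul_mul_assoc, one_mul, map_smul, smul_eq_mul]
    have h7 : ν.1 b' = ((m ⟨z, hzC⟩)⁻¹ : ℂˣ) * ν.1 b := by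
      rw [hbb]
      exact hνmul ⟨z, hzC⟩ b
    show T b * ν.1 b = T b' * ν.1 b'
    rw [h5, h7]
    calc T b * ν.1 b = ((m ⟨z, hzC⟩ : ℂˣ) * (m ⟨z, hzC⟩)⁻¹ : ℂˣ) * (T b * ν.1 b) := by
          rw [mul_inv_cancel, Units.val_one, one_mul]
      _ = _ := by
        rw [Units.val_mul]
        ring
  let χf : G → ℂ := fun g => ξ (Function.surjInv hfGs g)
  have hχf : χf ∘ fG = ξ := by
    funext b
    exact hξker _ _ (Function.surjInv_eq hfGs _)
  have hχirr : IsIrrCharacter G χf := irr_of_comp_surj fG hfGs (by rw [hχf]; exact hξirr)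
  have hχv : ∀ b : B, χf (fG b) = ξ b := fun b => congrFun hχf b
  refine ⟨⟨χf, hχirr⟩, ?_, ?_⟩
  · -- over `θ`
    have h1 : (fun n : N => χf ⟨n, hNG n.2⟩) = (e : ℂ) • θ.1 := by
      funext n
      obtain ⟨a, ha⟩ := hπs (n : Γ)
      have haC : a ∈ C := (hCmem a).mpr (by rw [ha]; exact n.2)
      have h2 : (⟨n, hNG n.2⟩ : G) = fG ⟨a, hCB haC⟩ := Subtype.ext ha.symm
      rw [h2, hχv]
      show T ⟨a, hCB haC⟩ * ν.1 ⟨a, hCB haC⟩ = (e : ℂ) * θ.1 n
      have h3 := hνc ⟨a, haC⟩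
      have h4 : ν.1 ⟨a, hCB haC⟩ = (e : ℂ) * (((m ⟨a, haC⟩)⁻¹ : ℂˣ) : ℂ) := h3
      rw [h4]
      have h5 := hm ⟨a, haC⟩
      have h6 : (⟨π a, (hCmem a).mp haC⟩ : N) = n := Subtype.ext ha
      have h7 : T ⟨a, hCB haC⟩ = (m ⟨a, haC⟩ : ℂ) * θ.1 n := by
        rw [← hθρ]
        show LinearMap.trace ℂ _ (τ a) = _ * LinearMap.trace ℂ _ (ρ n)
        have h8 : τ a = τ ((⟨a, haC⟩ : C) : gamma N ρ) := rfl
        rw [h8, h5]
        rw [show (⟨π ((⟨a, haC⟩ : C) : gamma N ρ), (hCmem _).mp (⟨a, haC⟩ : C).2⟩ : N) = n from h6]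
        rw [map_smul, smul_eq_mul]
      rw [h7]
      calc (m ⟨a, haC⟩ : ℂ) * θ.1 n * ((e : ℂ) * (((m ⟨a, haC⟩)⁻¹ : ℂˣ) : ℂ)) = ((m ⟨a, haC⟩ * (m ⟨a, haC⟩)⁻¹ : ℂˣ) : ℂ) * ((e : ℂ) * θ.1 n) := by
            rw [Units.val_mul]
            ring
        _ = _ := by
          rw [mul_inv_cancel, Units.val_one, one_mul]
    show classInner (fun n : N => χf ⟨n, hNG n.2⟩) θ.1 ≠ 0
    rw [h1, classInner_smul_left, classInner_irr_self θ.2, mul_one]
    exact_mod_cast he0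
  · intro x g
    obtain ⟨b, rfl⟩ := hfGs g
    obtain ⟨a, rfl⟩ := hπs x
    let b' : B := ⟨a * b * a⁻¹, hBn.conj_mem b b.2 a⟩
    have h1 : (⟨π a * fG b * (π a)⁻¹, hG.conj_mem _ (fG b).2 (π a)⟩ : G) = fG b' := by
      apply Subtype.ext
      show π a * π b * (π a)⁻¹ = π (a * b * a⁻¹)
      rw [map_mul, map_mul, map_inv]
    show χf ⟨π a * fG b * (π a)⁻¹, hG.conj_mem _ (fG b).2 (π a)⟩ = χf (fG b)
    rw [h1, hχv, hχv]
    show T b' * ν.1 b' = T b * ν.1 b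
    have h2 : T b' = T b := classFunction_of_isCharacter (isCharacter_character τ) (b : gamma N ρ) a
    have h3 : ν.1 b' = ν.1 b := hνinv a b
    rw [h2, h3]

end Final

end Cfsg.Agent.Lib.CharGlaub8
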