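import Cfsg.Prelude.Def_ChevStructure
import Mathlib

/-! Field automorphisms of Chevalley groups. -/

set_option autoImplicit false

namespace Cfsg.Agent.Lib.ChevAut

open Cfsg.Lie Matrix

variable {D : ChevalleyDatum} {F : Type*} [Field F]

theorem xMat_map (f : F →+* F) (r : Fin D.nroots) (t : F) : (D.xMat F r t).map f = D.xMat F r (f t) := by
  ext row col
  rw [Matrix.map_apply]
  rcases col with i | s
  · rcases row with i' | u
    · simp only [ChevalleyDatum.xMat, Matrix.of_apply]
      split_ifs <;> simp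
    · simp only [ChevalleyDatum.xMat, Matrix.of_apply]
      split_ifs <;> simp
  · rcases row with i' | u
    · simp only [ChevalleyDatum.xMat, Matrix.of_apply]
      split_ifs <;> simp
    · simp only [ChevalleyDatum.xMat, Matrix.of_apply]
      split_ifs <;> simp [map_list_sum, List.map_map, Function.comp_def]

/-- The image of the group under a field automorphism. -/
theorem map_mem (f : F →+* F) {g : GL D.Idx F} (hg : g ∈ D.group F) :
    Matrix.GeneralLinearGroup.map f g ∈ D.group F := by
  unfold ChevalleyDatum.group at hg ⊢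
  induction hg using Subgroup.closure_induction with
  | mem x hx =>
    obtain ⟨r, t, h⟩ := hx
    refine Subgroup.subset_closure ⟨r, f t, ?_⟩
    rw [← xMat_map, ← h]
    rfl
  | one => simp [Subgroup.one_mem]
  | mul a b _ _ ha hb =>
    rw [map_mul]
    exact Subgroup.mul_mem _ ha hb
  | inv a _ ha =>
    rw [map_inv]
    exact Subgroup.inv_mem _ ha

/-- S1080 -/
theorem field_aut (f : F ≃+* F) :
    ∃ α : ↥(D.group F) ≃* ↥(D.group F), ∀ (g : ↥(D.group F)) (r : ℕ) (t : F), r < D.nroots →
      ((g : GL D.Idx F) : Matrix D.Idx D.Idx F) = D.x F r t → ((α g : GL D.Idx F) : Matrix D.Idx D.Idx F) = D.x F r (f t) := by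
  let φ : GL D.Idx F →* GL D.Idx F := Matrix.GeneralLinearGroup.map (f : F →+* F)
  let ψ : GL D.Idx F →* GL D.Idx F := Matrix.GeneralLinearGroup.map (f.symm : F →+* F)
  have h1 : ∀ g, φ (ψ g) = g := by
    intro g
    apply Units.ext
    ext a b
    simp [φ, ψ]
  have h2 : ∀ g, ψ (φ g) = g := by
    intro g
    apply Units.ext
    ext a b
    simp [φ, ψ]
  refine ⟨{ toFun := fun g => ⟨φ g, map_mem _ g.2⟩, invFun := fun g => ⟨ψ g, map_mem _ g.2⟩,
            left_inv := fun g => Subtype.ext (h2 g), right_inv := fun g => Subtype.ext (h1 g),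
            map_mul' := fun a b => Subtype.ext (map_mul φ _ _) }, ?_⟩
  intro g r t hr h
  show ((φ g : GL D.Idx F) : Matrix D.Idx D.Idx F) = _
  have e : ((φ g : GL D.Idx F) : Matrix D.Idx D.Idx F) = ((g : GL D.Idx F) : Matrix D.Idx D.Idx F).map f := rfl
  rw [e, h]
  simp only [ChevalleyDatum.x, hr, dif_pos]
  exact xMat_map (f : F →+* F) _ _

end Cfsg.Agent.Lib.ChevAut
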