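import Cfsg.Agent.Lib.ChevSimp2
import Cfsg.Prelude.Def_ChevAutomorphisms

/-! Generation by the fundamental root elements; homomorphisms agreeing on them. -/

set_option autoImplicit false

namespace Cfsg.Agent.Lib.ChevAut2

open Cfsg.Lie Cfsg.Agent.Lib.ChevEngine Cfsg.Agent.Lib.ChevTab Cfsg.Agent.Lib.ChevMono
  Cfsg.Agent.Lib.ChevRel Cfsg.Agent.Lib.ChevValid Cfsg.Agent.Lib.ChevGL Cfsg.Agent.Lib.ChevGrad Cfsg.Agent.Lib.ChevL2
  Cfsg.Agent.Lib.ChevU Cfsg.Agent.Lib.ChevU2 Cfsg.Agent.Lib.ChevU3 Cfsg.Agent.Lib.ChevDiag Cfsg.Agent.Lib.ChevV3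
  Cfsg.Agent.Lib.ChevH Cfsg.Agent.Lib.ChevN Cfsg.Agent.Lib.ChevN2 Cfsg.Agent.Lib.ChevN3 Cfsg.Agent.Lib.ChevBN Cfsg.Agent.Lib.ChevBN2
  Cfsg.Agent.Lib.ChevSimp2

variable {D : ChevalleyDatum} {T : Tb} {C : Tc} {X : Tc3} {F : Type*} [Field F]

section
variable (V : Valid D T) (V2 : Valid2 D T C) (V3 : Valid3 T C X)

include V3 in
/-- A subgroup with all the fundamental root elements and their negatives contains the group. -/
theorem group_le_of_simple {K : Subgroup (GL D.Idx F)} (h1 : ∀ i < T.l, ∀ t : F, xU V (T.sim i) t ∈ K)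
    (h2 : ∀ i < T.l, ∀ t : F, xU V (T.neg (T.sim i)) t ∈ K) : D.group F ≤ K := by
  have hn : ∀ i < T.l, nU V (D.simple i) (1 : F) ∈ K := by
    intro i hi
    have hi' : i < D.rank := by rw [← V.hl]; exact hi
    rw [nU_eq, V.neg_eq (V.sim_lt hi'), V.simple_eq hi']
    exact K.mul_mem (K.mul_mem (h1 i hi _) (h2 i hi _)) (h1 i hi _)
  have key : ∀ r < T.n, ∀ t : F, xU V r t ∈ K := by
    apply V3.reach V (P := fun r => ∀ t : F, xU V r t ∈ K)
    · exact h1
    · intro i hi r hr h t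
      have hi' : i < D.rank := by rw [← V.hl]; exact hi
      have hr' : r < D.nroots := by rw [← V.hn]; exact hr
      have Rr := reflFacts V.hR i hi r hr
      have he : (((T.eps i r : ℤ) : F)) * ((T.eps i r : ℤ) : F) = 1 := by
        rcases Rr.eps_pm with h7 | h7 <;> simp [h7]
      have h3 := nU_conj' V hi' hr' (((T.eps i r : ℤ) : F) * t)
      rw [← mul_assoc, he, one_mul] at h3
      rw [← h3]
      exact K.mul_mem (K.mul_mem (hn i hi) (h _)) (K.inv_mem (hn i hi))
  rw [group_eq V, Subgroup.closure_le]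
  rintro g ⟨r, t, hr, rfl⟩
  exact key r (by rw [V.hn]; exact hr) t

include V V2 V3 in
/-- Two homomorphisms out of the group agreeing on the fundamental root elements and their negatives are equal. -/
theorem hom_ext {G' : Type*} [Group G'] {f g : ↥(D.group F) →* G'}
    (h1 : ∀ i < T.l, ∀ (t : F) (y : ↥(D.group F)), (y : GL D.Idx F) = xU V (T.sim i) t → f y = g y)
    (h2 : ∀ i < T.l, ∀ (t : F) (y : ↥(D.group F)), (y : GL D.Idx F) = xU V (T.neg (T.sim i)) t → f y = g y) : f = g := by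
  have h : D.group F ≤ (MonoidHom.eqLocus f g).map (D.group F).subtype := by
    apply group_le_of_simple V V3
    · intro i hi t
      have hi' : i < D.rank := by rw [← V.hl]; exact hi
      have hm : xU V (T.sim i) t ∈ D.group F := xU_mem_group V (by rw [← V.hn]; exact sim_lt' V V2 V3 hi) t
      exact ⟨⟨_, hm⟩, h1 i hi t _ rfl, rfl⟩
    · intro i hi t
      have hm : xU V (T.neg (T.sim i)) t ∈ D.group F := xU_mem_group V (by rw [← V.hn]; exact V.neg_lt (sim_lt' V V2 V3 hi)) t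
      exact ⟨⟨_, hm⟩, h2 i hi t _ rfl, rfl⟩
  ext y
  obtain ⟨z, hz, hzy⟩ := h y.2
  have : z = y := Subtype.ext hzy
  subst this
  exact hz

include V V2 V3 in
/-- Field automorphisms commute with graph automorphisms. -/
theorem field_graph_comm (f g : ↥(D.group F) ≃* ↥(D.group F)) (hf : D.IsFieldAut f) (hg : D.IsGraphAut g) (y : ↥(D.group F)) :
    f (g y) = g (f y) := by
  obtain ⟨σ, hσ⟩ := hf
  obtain ⟨π, _, hπ⟩ := hg
  have key : (f.toMonoidHom.comp g.toMonoidHom) = (g.toMonoidHom.comp f.toMonoidHom) := by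
    apply hom_ext V V2 V3
    · intro i hi t z hz
      have hi' : i < D.rank := by rw [← V.hl]; exact hi
      have hz' : ((z : GL D.Idx F) : Matrix D.Idx D.Idx F) = D.x F (D.simple (⟨i, hi'⟩ : Fin D.rank)) t := by
        rw [hz, xU_val, V.simple_eq hi']
      set e := D.graphExp (ringChar F) i (π ⟨i, hi'⟩)
      have hπ' : (π ⟨i, hi'⟩ : Fin D.rank).1 < D.nroots ∨ True := Or.inr trivial
      have h1 := (hπ z ⟨i, hi'⟩ t).1 hz'
      have h2 := hσ (g z) _ _ (V.sim_lt (π ⟨i, hi'⟩).2) h1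
      have h3 := hσ z _ t (V.sim_lt hi') hz'
      have h4 := (hπ (f z) ⟨i, hi'⟩ (σ t)).1 h3
      apply Subtype.ext
      apply Units.ext
      show ((f (g z) : ↥(D.group F)) : GL D.Idx F).1 = ((g (f z) : ↥(D.group F)) : GL D.Idx F).1
      rw [h2, h4, map_pow]
    · intro i hi t z hz
      have hi' : i < D.rank := by rw [← V.hl]; exact hi
      have hz' : ((z : GL D.Idx F) : Matrix D.Idx D.Idx F) = D.x F (D.neg (D.simple (⟨i, hi'⟩ : Fin D.rank))) t := by
        rw [hz, xU_val, V.neg_eq (V.sim_lt hi'), V.simple_eq hi']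
      have h1 := (hπ z ⟨i, hi'⟩ t).2 hz'
      have hn : ∀ j : Fin D.rank, D.neg (D.simple j) < D.nroots := by
        intro j
        rw [V.neg_eq (V.sim_lt j.2), ← V.hn]
        exact V.neg_lt (by rw [V.hn]; exact V.sim_lt j.2)
      have h2 := hσ (g z) _ _ (hn _) h1
      have h3 := hσ z _ t (hn _) hz'
      have h4 := (hπ (f z) ⟨i, hi'⟩ (σ t)).2 h3
      apply Subtype.ext
      apply Units.ext
      show ((f (g z) : ↥(D.group F)) : GL D.Idx F).1 = ((g (f z) : ↥(D.group F)) : GL D.Idx F).1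
      rw [h2, h4, map_pow]
  exact DFunLike.congr_fun key y

end

end Cfsg.Agent.Lib.ChevAut2
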