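import Cfsg.Agent.Lib.ChevAut2

/-! Images of root elements under automorphisms respecting the fundamental root elements. -/

set_option autoImplicit false

namespace Cfsg.Agent.Lib.ChevAut3

open Cfsg.Lie Cfsg.Agent.Lib.ChevEngine Cfsg.Agent.Lib.ChevTab Cfsg.Agent.Lib.ChevMono
  Cfsg.Agent.Lib.ChevRel Cfsg.Agent.Lib.ChevValid Cfsg.Agent.Lib.ChevGL Cfsg.Agent.Lib.ChevGrad Cfsg.Agent.Lib.ChevL2
  Cfsg.Agent.Lib.ChevU Cfsg.Agent.Lib.ChevU2 Cfsg.Agent.Lib.ChevU3 Cfsg.Agent.Lib.ChevDiag Cfsg.Agent.Lib.ChevV3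
  Cfsg.Agent.Lib.ChevH Cfsg.Agent.Lib.ChevN Cfsg.Agent.Lib.ChevN2 Cfsg.Agent.Lib.ChevN3 Cfsg.Agent.Lib.ChevBN Cfsg.Agent.Lib.ChevBN2
  Cfsg.Agent.Lib.ChevSimp2 Cfsg.Agent.Lib.ChevAut2

variable {D : ChevalleyDatum} {T : Tb} {C : Tc} {X : Tc3} {F : Type*} [Field F]

section
variable (V : Valid D T) (V2 : Valid2 D T C) (V3 : Valid3 T C X)

/-- `x` as an element of the group. -/
noncomputable def xG (V : Valid D T) {r : ℕ} (hr : r < T.n) (t : F) : ↥(D.group F) :=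
  ⟨xU V r t, xU_mem_group V (by rw [← V.hn]; exact hr) t⟩

theorem xG_val {r : ℕ} (hr : r < T.n) (t : F) : ((xG V hr t : ↥(D.group F)) : GL D.Idx F) = xU V r t := rfl

include V V2 V3 in
theorem graph_root (φ : ↥(D.group F) ≃* ↥(D.group F)) (pf : ℕ → ℕ) (hpf : ∀ i < T.l, pf i < T.l)
    (h1 : ∀ i < T.l, ∀ (t : F) (y : ↥(D.group F)), (y : GL D.Idx F) = xU V (T.sim i) t → ((φ y : ↥(D.group F)) : GL D.Idx F) = xU V (T.sim (pf i)) t)
    (h2 : ∀ i < T.l, ∀ (t : F) (y : ↥(D.group F)), (y : GL D.Idx F) = xU V (T.neg (T.sim i)) t → ((φ y : ↥(D.group F)) : GL D.Idx F) = xU V (T.neg (T.sim (pf i))) t)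
    (Pm : ℕ → ℕ) (hR : ∀ i < T.l, ∀ r < T.n, Pm (T.refl i r) = T.refl (pf i) (Pm r)) (hS : ∀ i < T.l, Pm (T.sim i) = T.sim (pf i))
    (hlt : ∀ r < T.n, Pm r < T.n) :
    ∀ r < T.n, ∃ ε : F, (ε = 1 ∨ ε = -1) ∧ ∀ (t : F) (y : ↥(D.group F)), (y : GL D.Idx F) = xU V r t →
      ((φ y : ↥(D.group F)) : GL D.Idx F) = xU V (Pm r) (ε * t) := by
  apply V3.reach V
  · intro i hi
    refine ⟨1, Or.inl rfl, ?_⟩
    intro t y hy
    rw [h1 i hi t y hy, hS i hi, one_mul]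
  · intro i hi r hr ⟨ε, hε, h⟩
    have hi' : i < D.rank := by rw [← V.hl]; exact hi
    have hr' : r < D.nroots := by rw [← V.hn]; exact hr
    have hpi := hpf i hi
    have hpi' : pf i < D.rank := by rw [← V.hl]; exact hpi
    have hs := sim_lt' V V2 V3 hi
    have hsn := V.neg_lt hs
    have hps := sim_lt' V V2 V3 hpi
    have hpsn := V.neg_lt hps
    have Rr := reflFacts V.hR i hi r hr
    have Rr' := reflFacts V.hR (pf i) hpi (Pm r) (hlt r hr)
    -- the image of n_i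
    have hnG : ∃ n : ↥(D.group F), (n : GL D.Idx F) = nU V (D.simple i) (1 : F) ∧
        ((φ n : ↥(D.group F)) : GL D.Idx F) = nU V (D.simple (pf i)) (1 : F) := by
      refine ⟨xG V hs 1 * xG V hsn (-1) * xG V hs 1, ?_, ?_⟩
      · rw [nU_eq, V.neg_eq (V.sim_lt hi'), V.simple_eq hi', inv_one]
        rfl
      · rw [map_mul, map_mul, nU_eq, V.neg_eq (V.sim_lt hpi'), V.simple_eq hpi', inv_one]
        show ((φ (xG V hs 1) : ↥(D.group F)) : GL D.Idx F) * ((φ (xG V hsn (-1)) : ↥(D.group F)) : GL D.Idx F) * ((φ (xG V hs 1) : ↥(D.group F)) : GL D.Idx F) = _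
        rw [h1 i hi 1 _ rfl, h2 i hi (-1) _ rfl]
    obtain ⟨n, hn1, hn2⟩ := hnG
    refine ⟨((T.eps (pf i) (Pm r) : ℤ) : F) * ε * ((T.eps i r : ℤ) : F), ?_, ?_⟩
    · rcases Rr.eps_pm with h7 | h7 <;> rcases Rr'.eps_pm with h8 | h8 <;> rcases hε with rfl | rfl <;> simp [h7, h8]
    · intro t y hy
      have he : (((T.eps i r : ℤ) : F)) * ((T.eps i r : ℤ) : F) = 1 := by
        rcases Rr.eps_pm with h7 | h7 <;> simp [h7]
      have h3 := nU_conj' V hi' hr' (((T.eps i r : ℤ) : F) * t)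
      rw [← mul_assoc, he, one_mul] at h3
      have hy2 : y = n * xG V hr (((T.eps i r : ℤ) : F) * t) * n⁻¹ := by
        apply Subtype.ext
        rw [hy, ← h3]
        show _ = (n : GL D.Idx F) * xU V r _ * (n : GL D.Idx F)⁻¹
        rw [hn1]
      have h4 := h _ (xG V hr (((T.eps i r : ℤ) : F) * t)) rfl
      have h5 := nU_conj' V hpi' (by rw [← V.hn]; exact hlt r hr) (ε * (((T.eps i r : ℤ) : F) * t))
      rw [hy2, map_mul, map_mul, map_inv, hR i hi r hr]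
      show ((φ n : ↥(D.group F)) : GL D.Idx F) * ((φ (xG V hr (((T.eps i r : ℤ) : F) * t)) : ↥(D.group F)) : GL D.Idx F) * ((φ n : ↥(D.group F)) : GL D.Idx F)⁻¹ = _
      rw [hn2, h4, h5]
      congr 1
      ring

include V V2 V3 in
theorem graph_root' (π : Equiv.Perm (Fin D.rank)) (φ : ↥(D.group F) ≃* ↥(D.group F))
    (hφ : ∀ (g : ↥(D.group F)) (i : Fin D.rank) (t : F),
      (((g : GL D.Idx F) : Matrix D.Idx D.Idx F) = D.x F (D.simple i) t →
        ((φ g : GL D.Idx F) : Matrix D.Idx D.Idx F) = D.x F (D.simple (π i)) t) ∧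
      (((g : GL D.Idx F) : Matrix D.Idx D.Idx F) = D.x F (D.neg (D.simple i)) t →
        ((φ g : GL D.Idx F) : Matrix D.Idx D.Idx F) = D.x F (D.neg (D.simple (π i))) t))
    (hR : ∀ (i : Fin D.rank), ∀ r < T.n, D.permRoot π (T.refl i r) = T.refl (π i) (D.permRoot π r))
    (hS : ∀ (i : Fin D.rank), D.permRoot π (T.sim i) = T.sim (π i))
    (hlt : ∀ r < T.n, D.permRoot π r < T.n) (r : ℕ) (hr : r < D.nroots) :
    ∃ ε : F, (ε = 1 ∨ ε = -1) ∧ ∀ (g : ↥(D.group F)) (t : F),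
      ((g : GL D.Idx F) : Matrix D.Idx D.Idx F) = D.x F r t →
        ((φ g : GL D.Idx F) : Matrix D.Idx D.Idx F) = D.x F (D.permRoot π r) (ε * t) := by
  let pf : ℕ → ℕ := fun i => if h : i < D.rank then (π ⟨i, h⟩).1 else 0
  have hpf : ∀ (i : ℕ) (h : i < D.rank), pf i = (π ⟨i, h⟩).1 := fun i h => dif_pos h
  have key := graph_root V V2 V3 φ pf (by
      intro i hi
      have hi' : i < D.rank := by rw [← V.hl]; exact hi
      rw [hpf i hi', V.hl]
      exact (π _).2) (by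
      intro i hi t y hy
      have hi' : i < D.rank := by rw [← V.hl]; exact hi
      have h1 := (hφ y ⟨i, hi'⟩ t).1 (by rw [hy, xU_val, V.simple_eq hi'])
      rw [hpf i hi', ← V.simple_eq (π ⟨i, hi'⟩).2]
      exact eq_xU V h1) (by
      intro i hi t y hy
      have hi' : i < D.rank := by rw [← V.hl]; exact hi
      have h1 := (hφ y ⟨i, hi'⟩ t).2 (by rw [hy, xU_val, V.neg_eq (V.sim_lt hi'), V.simple_eq hi'])
      rw [hpf i hi', ← V.simple_eq (π ⟨i, hi'⟩).2, ← V.neg_eq (V.sim_lt (π ⟨i, hi'⟩).2)]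
      exact eq_xU V h1) (D.permRoot π) (by
      intro i hi r hr
      have hi' : i < D.rank := by rw [← V.hl]; exact hi
      rw [hpf i hi']
      exact hR ⟨i, hi'⟩ r hr) (by
      intro i hi
      have hi' : i < D.rank := by rw [← V.hl]; exact hi
      rw [hpf i hi']
      exact hS ⟨i, hi'⟩) hlt r (by rw [V.hn]; exact hr)
  obtain ⟨ε, h1, h2⟩ := key
  refine ⟨ε, h1, ?_⟩
  intro g t hg
  rw [h2 t g (eq_xU V hg), xU_val]

end

end Cfsg.Agent.Lib.ChevAut3
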