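import Cfsg.Agent.Lib.ChevN3

/-! Root actions of the monomial subgroup, the subgroups `U_p` and the double coset condition. -/

set_option autoImplicit false

namespace Cfsg.Agent.Lib.ChevBN

open Cfsg.Lie Matrix Cfsg.Agent.Lib.ChevEngine Cfsg.Agent.Lib.ChevTab Cfsg.Agent.Lib.ChevMono
  Cfsg.Agent.Lib.ChevRel Cfsg.Agent.Lib.ChevValid Cfsg.Agent.Lib.ChevGL Cfsg.Agent.Lib.ChevGrad Cfsg.Agent.Lib.ChevL2
  Cfsg.Agent.Lib.ChevU Cfsg.Agent.Lib.ChevU2 Cfsg.Agent.Lib.ChevU3 Cfsg.Agent.Lib.ChevDiag Cfsg.Agent.Lib.ChevV3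
  Cfsg.Agent.Lib.ChevH Cfsg.Agent.Lib.ChevN Cfsg.Agent.Lib.ChevN2 Cfsg.Agent.Lib.ChevN3

variable {D : ChevalleyDatum} {T : Tb} {C : Tc} {X : Tc3} {F : Type*} [Field F]

/-- A group element acting on the root elements through a map on the roots. -/
def RA (V : Valid D T) (g : GL D.Idx F) : Prop :=
  ∃ (π : ℕ → ℕ) (c : ℕ → F), ∀ r < T.n, π r < T.n ∧ π (T.neg r) = T.neg (π r) ∧ c r ≠ 0 ∧
    ∀ t : F, g * xU V r t * g⁻¹ = xU V (π r) (c r * t)

theorem RA.mul {V : Valid D T} {g g' : GL D.Idx F} (h : RA V g) (h' : RA V g') : RA V (g * g') := by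
  obtain ⟨π, c, h1⟩ := h
  obtain ⟨π', c', h2⟩ := h'
  refine ⟨π ∘ π', fun r => c (π' r) * c' r, ?_⟩
  intro r hr
  obtain ⟨a1, a2, a3, a4⟩ := h2 r hr
  obtain ⟨b1, b2, b3, b4⟩ := h1 _ a1
  refine ⟨b1, ?_, mul_ne_zero b3 a3, ?_⟩
  · simp only [Function.comp]
    rw [a2, (h1 _ a1).2.1]
  · intro t
    have e : g * g' * xU V r t * (g * g')⁻¹ = g * (g' * xU V r t * g'⁻¹) * g⁻¹ := by group
    rw [e, a4, b4, mul_assoc]
    rfl

/-- The subgroup of elements acting on the roots. -/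
def RAg (V : Valid D T) (F : Type*) [Field F] : Subgroup (GL D.Idx F) where
  carrier := {g | RA V g ∧ RA V g⁻¹}
  mul_mem' := by
    rintro a b ⟨h1, h2⟩ ⟨h3, h4⟩
    refine ⟨h1.mul h3, ?_⟩
    rw [_root_.mul_inv_rev]
    exact h4.mul h2
  one_mem' := by
    have : RA V (1 : GL D.Idx F) := by
      refine ⟨id, fun _ => 1, ?_⟩
      intro r hr
      simp [hr]
    exact ⟨this, by simpa using this⟩
  inv_mem' := by
    rintro a ⟨h1, h2⟩
    exact ⟨h2, by simpa using h1⟩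

section
variable (V : Valid D T) (V2 : Valid2 D T C) (V3 : Valid3 T C X)

include V in
theorem dg_RA {χ : ℕ → Fˣ} (hχ : IsCh T χ) : RA V (dgU D χ) := by
  refine ⟨id, fun r => (χ r : F), ?_⟩
  intro r hr
  refine ⟨hr, rfl, (χ r).ne_zero, ?_⟩
  intro t
  rw [conj_dg V hχ (by rw [← V.hn]; exact hr), mul_inv_cancel_right]
  rfl

include V in
theorem n_RA {i : ℕ} (hi : i < T.l) : RA V (nU V (D.simple i) (1 : F)) := by
  have hi' : i < D.rank := by rw [← V.hl]; exact hi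
  refine ⟨T.refl i, fun r => ((T.eps i r : ℤ) : F), ?_⟩
  intro r hr
  have Rr := reflFacts V.hR i hi r hr
  refine ⟨Rr.w_lt, Rr.w_neg, ?_, ?_⟩
  · rcases Rr.eps_pm with h | h <;> simp [h]
  · intro t
    exact nU_conj' V hi' (by rw [← V.hn]; exact hr) t

include V in
theorem n_inv_conj {i r : ℕ} (hi : i < T.l) (hr : r < T.n) (t : F) :
    (nU V (D.simple i) (1 : F))⁻¹ * xU V r t * nU V (D.simple i) 1 = xU V (T.refl i r) (((T.eps i (T.refl i r) : ℤ) : F) * t) := by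
  have hi' : i < D.rank := by rw [← V.hl]; exact hi
  have Rr := reflFacts V.hR i hi r hr
  have Rw := reflFacts V.hR i hi _ Rr.w_lt
  have h := nU_conj' V hi' (by rw [← V.hn]; exact Rr.w_lt) (((T.eps i (T.refl i r) : ℤ) : F) * t)
  rw [Rr.w_w] at h
  have e : ((T.eps i (T.refl i r) : ℤ) : F) * (((T.eps i (T.refl i r) : ℤ) : F) * t) = t := by
    rcases Rw.eps_pm with h3 | h3 <;> simp [h3]
  rw [e] at h
  rw [← h]
  group

include V in
theorem n_inv_RA {i : ℕ} (hi : i < T.l) : RA V (nU V (D.simple i) (1 : F))⁻¹ := by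
  refine ⟨T.refl i, fun r => ((T.eps i (T.refl i r) : ℤ) : F), ?_⟩
  intro r hr
  have Rr := reflFacts V.hR i hi r hr
  have Rw := reflFacts V.hR i hi _ Rr.w_lt
  refine ⟨Rr.w_lt, Rr.w_neg, ?_, ?_⟩
  · rcases Rw.eps_pm with h | h <;> simp [h]
  · intro t
    rw [inv_inv]
    exact n_inv_conj V hi hr t

include V V2 V3 in
theorem N_le_RAg : D.monomialSubgroup F ≤ RAg V F := by
  rw [N_eq V V2 V3]
  apply sup_le
  · intro g hg
    obtain ⟨χ, hχ, rfl⟩ := H_form V V2 V3 hg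
    refine ⟨dg_RA V hχ, ?_⟩
    rw [dgU_inv]
    refine dg_RA V ⟨?_, ?_⟩
    · intro r hr
      simp [hχ.neg r hr]
    · intro r hr c hc k hk
      simp [hχ.chain r hr c hc k hk, mul_comm]
  · rw [N0, Subgroup.closure_le]
    rintro g ⟨i, hi, rfl⟩
    exact ⟨n_RA V hi, n_inv_RA V hi⟩

end

/-! ### Simple roots -/

section
variable (V : Valid D T) (V2 : Valid2 D T C) (V3 : Valid3 T C X)
include V V2

theorem coef_nonneg_of_pos {r k : ℕ} (h1 : T.n / 2 ≤ r) (h2 : r < T.n) (hk : k < T.l) : 0 ≤ C.coef r k :=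
  (ht_pos V2 h1 h2).2 k hk

theorem coef_nonpos_of_neg {r k : ℕ} (h1 : r < T.n / 2) (hk : k < T.l) : C.coef r k ≤ 0 := by
  have h0 := n_even V2
  have hr : r < T.n := by omega
  have h2 := V2.coef_neg (V.neg_lt hr) hk
  rw [V.neg_neg hr] at h2
  have h3 : T.n / 2 ≤ T.neg r := by
    show T.n / 2 ≤ T.n - 1 - r
    omega
  have := coef_nonneg_of_pos V V2 h3 (V.neg_lt hr) hk
  omega

theorem pos_of_coef_pos {r k : ℕ} (hr : r < T.n) (hk : k < T.l) (h : 0 < C.coef r k) : T.n / 2 ≤ r := by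
  by_contra h2
  have := coef_nonpos_of_neg V V2 (r := r) (by omega) hk
  omega

theorem sim_pos {i : ℕ} (hi : i < T.l) : T.n / 2 ≤ T.sim i := by
  have hi' : i < D.rank := by rw [← V.hl]; exact hi
  have hs : T.sim i < T.n := by rw [← V.simple_eq hi', V.hn]; exact V.sim_lt hi'
  apply pos_of_coef_pos V V2 hs hi
  rw [sim_coef V2 hi]
  omega

theorem sim_inj {i j : ℕ} (hi : i < T.l) (hj : j < T.l) (h : T.sim i = T.sim j) : i = j := by
  have h1 := V2.hCoef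
  simp only [checkCoef, Bool.and_eq_true, allBelow_iff, force_eq, decide_eq_true_eq] at h1
  have h2 := h1.1.2 j hj i hi
  rw [← h, sim_coef V2 hi] at h2
  by_contra h3
  rw [if_neg (Ne.symm h3)] at h2
  omega

include V3

/-- A positive root other than `p_i` has a positive coefficient outside `i`. -/
theorem exists_coef_pos {i s : ℕ} (hi : i < T.l) (hs : s < T.n) (h1 : T.n / 2 ≤ s) (h2 : s ≠ T.sim i) :
    ∃ k < T.l, k ≠ i ∧ 0 < C.coef s k := by
  by_contra hcon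
  push Not at hcon
  have hz : ∀ k < T.l, k ≠ i → C.coef s k = 0 := by
    intro k hk hki
    have := hcon k hk hki
    have := coef_nonneg_of_pos V V2 h1 hs hk
    omega
  have hca : T.ca i s = C.coef s i * 2 := by
    rw [V3.ca_lin hi hs, Finset.sum_eq_single i]
    · rw [V3.ca_sim hi]
    · intro b hb hbi
      rw [hz b (by simpa using hb) hbi, zero_mul]
    · intro h
      exact absurd (by simpa using hi) h
  have Rs := reflFacts V.hR i hi s hs
  have h3 := coef_nonneg_of_pos V V2 (V3.pos_perm hi hs h1 h2) Rs.w_lt hi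
  rw [V3.coef_refl hi hs hi, if_pos rfl, hca] at h3
  have h4 := coef_nonneg_of_pos V V2 h1 hs hi
  have h5 : C.coef s i = 0 := by omega
  -- all coefficients vanish
  have h6 := (ht_pos V2 h1 hs).1
  rw [htOf_eq] at h6
  unfold grOf at h6
  rw [Finset.sum_eq_zero] at h6
  · omega
  · intro k hk
    by_cases hki : k = i
    · subst hki; rw [h5]; simp
    · rw [hz k (by simpa using hk) hki]; simp

/-- The root `s` positive, `s ≠ p_i`: the terms of the commutator with `±p_i`. -/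
theorem term_Up {i r s : ℕ} (hi : i < T.l) (hr : r < T.n) (hrz : ∀ k < T.l, k ≠ i → C.coef r k = 0) (hs : s < T.n) (h1 : T.n / 2 ≤ s) (h2 : s ≠ T.sim i) :
    ∀ c ∈ commTermsF T.ch r s, T.n / 2 ≤ c.1 ∧ c.1 < T.n ∧ c.1 ≠ T.sim i := by
  intro c hc
  obtain ⟨c1, c2, c3, c4⟩ := term_coef V V2 hr hs c hc
  obtain ⟨k, hk, hki, hpos⟩ := exists_coef_pos V V2 V3 hi hs h1 h2
  have e := c4 k hk
  rw [hrz k hk hki, mul_zero, zero_add] at e
  have hpos2 : 0 < C.coef c.1 k := by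
    rw [e]
    have : (1 : ℤ) ≤ c.2.2.2 := by exact_mod_cast c3
    nlinarith
  refine ⟨pos_of_coef_pos V V2 c1 hk hpos2, c1, ?_⟩
  intro h3
  have h4 := V2.hCoef
  simp only [checkCoef, Bool.and_eq_true, allBelow_iff, force_eq, decide_eq_true_eq] at h4
  have h5 := h4.1.2 i hi k hk
  rw [← h3, if_neg (Ne.symm hki)] at h5
  omega

end

/-! ### The subgroup `U_p` -/

/-- The subgroup `U_p`. -/
noncomputable def Up (V : Valid D T) (F : Type*) [Field F] (i : ℕ) : Subgroup (GL D.Idx F) :=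
  Subgroup.closure {g | ∃ (s : ℕ) (t : F), (T.n / 2 ≤ s ∧ s < T.n ∧ s ≠ T.sim i) ∧ g = xU V s t}

theorem word_mem_Up (V : Valid D T) {i : ℕ} (L : List (ℕ × F)) (hL : ∀ e ∈ L, T.n / 2 ≤ e.1 ∧ e.1 < T.n ∧ e.1 ≠ T.sim i) :
    wordU V L ∈ Up V F i := by
  induction L with
  | nil => simp [Subgroup.one_mem]
  | cons e L ih =>
    rw [wordU_cons]
    exact Subgroup.mul_mem _ (Subgroup.subset_closure ⟨e.1, e.2, hL e (by simp), rfl⟩)
      (ih fun x hx => hL x (List.mem_cons_of_mem _ hx))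

section
variable (V : Valid D T) (V2 : Valid2 D T C) (V3 : Valid3 T C X)
include V V2 V3

/-- Conjugating the generators of `U_p` by a root element of `±p`. -/
theorem conj_Up_gen {i r s : ℕ} (hi : i < T.l) (hr : r < T.n) (hrz : ∀ k < T.l, k ≠ i → C.coef r k = 0)
    (hs : s < T.n) (h1 : T.n / 2 ≤ s) (h2 : s ≠ T.sim i) (h3 : s ≠ T.neg r) (a u : F) :
    xU V r a * xU V s u * (xU V r a)⁻¹ ∈ Up V F i := by
  have hr' : r < D.nroots := by rw [← V.hn]; exact hr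
  have hs' : s < D.nroots := by rw [← V.hn]; exact hs
  have hsr : s ≠ r := by
    rintro rfl
    obtain ⟨k, hk, hki, hpos⟩ := exists_coef_pos V V2 V3 hi hs h1 h2
    rw [hrz k hk hki] at hpos
    omega
  have e := cfU V hr' hs' hsr (by rw [V.neg_eq hr']; exact h3) (-a) u
  have e2 : xU V r a * xU V s u * (xU V r a)⁻¹ = xU V s u * wordU V (D.commWord F r s (-a) u) := by
    rw [xU_inv, mul_assoc, e, ← mul_assoc, ← mul_assoc, xU_mul, add_neg_cancel, xU_zero, one_mul]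
  rw [e2]
  refine Subgroup.mul_mem _ (Subgroup.subset_closure ⟨s, u, ⟨h1, hs, h2⟩, rfl⟩) ?_
  apply word_mem_Up
  intro x hx
  unfold ChevalleyDatum.commWord at hx
  simp only [List.mem_map] at hx
  obtain ⟨c, hc, rfl⟩ := hx
  rw [commTerms_eq V.hT] at hc
  exact term_Up V V2 V3 hi hr hrz hs h1 h2 c hc

theorem Up_normalized_root {i r : ℕ} (hi : i < T.l) (hr : r < T.n) (hrz : ∀ k < T.l, k ≠ i → C.coef r k = 0)
    (hneg : T.neg r = T.sim i ∨ r = T.sim i) (a : F) :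
    xU V r a ∈ Subgroup.normalizer (Up V F i : Set (GL D.Idx F)) := by
  have key : ∀ a : F, ∀ x ∈ Up V F i, xU V r a * x * (xU V r a)⁻¹ ∈ Up V F i := by
    intro a x hx
    refine conj_closure_mem _ ?_ hx
    rintro y ⟨s, u, ⟨h1, h2, h3⟩, rfl⟩
    refine conj_Up_gen V V2 V3 hi hr hrz h2 h1 h3 ?_ a u
    rcases hneg with h4 | h4
    · rw [h4]; exact h3
    · rw [h4]
      have h5 := neg_lt_half V2 (sim_pos V V2 hi) (by rw [← h4]; exact hr)
      omega
  refine mem_normalizer_of_conj (key a) ?_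
  intro x hx
  have := key (-a) x hx
  rwa [← xU_inv, inv_inv] at this

theorem sim_coef_ne {i k : ℕ} (hi : i < T.l) (hk : k < T.l) (h : k ≠ i) : C.coef (T.sim i) k = 0 := by
  have h1 := V2.hCoef
  simp only [checkCoef, Bool.and_eq_true, allBelow_iff, force_eq, decide_eq_true_eq] at h1
  rw [h1.1.2 i hi k hk, if_neg (Ne.symm h)]

theorem sim_lt' {i : ℕ} (hi : i < T.l) : T.sim i < T.n := by
  have hi' : i < D.rank := by rw [← V.hl]; exact hi
  rw [← V.simple_eq hi', V.hn]; exact V.sim_lt hi'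

theorem Xp_normalizes {i : ℕ} (hi : i < T.l) (a : F) :
    xU V (T.sim i) a ∈ Subgroup.normalizer (Up V F i : Set (GL D.Idx F)) :=
  Up_normalized_root V V2 V3 hi (sim_lt' V V2 V3 hi) (fun k hk h => sim_coef_ne V V2 V3 hi hk h) (Or.inr rfl) a

theorem Xmp_normalizes {i : ℕ} (hi : i < T.l) (a : F) :
    xU V (T.neg (T.sim i)) a ∈ Subgroup.normalizer (Up V F i : Set (GL D.Idx F)) := by
  have hs := sim_lt' V V2 V3 hi
  refine Up_normalized_root V V2 V3 hi (V.neg_lt hs) ?_ (Or.inl (V.neg_neg hs)) a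
  intro k hk h
  rw [V2.coef_neg hs hk, sim_coef_ne V V2 V3 hi hk h]
  rfl

theorem H_normalizes_Up (i : ℕ) : D.diagonalSubgroup F ≤ Subgroup.normalizer (Up V F i : Set (GL D.Idx F)) := by
  unfold Up
  apply H_normalizes V V2 V3
  intro r hr
  rw [← V.hn]
  exact hr.2.1

theorem refl_sim {i : ℕ} (hi : i < T.l) : T.refl i (T.sim i) = T.neg (T.sim i) := by
  have h := V.hR2
  simp only [checkRefl2, allBelow_iff, Bool.and_eq_true] at h
  have h1 := ((h i hi).2 (T.sim i) (sim_lt' V V2 V3 hi)).1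
  have h2 : T.refl i (T.sim i) = reflectRootF T i (T.sim i) := by simpa using h1
  rw [h2]
  simp [reflectRootF]

theorem eps_sim {i : ℕ} (hi : i < T.l) : T.eps i (T.sim i) = -1 := by
  have h := V2.hEps
  simp only [allBelow_iff, decide_eq_true_eq] at h
  exact h i hi

theorem n_conj_Up {i : ℕ} (hi : i < T.l) {x : GL D.Idx F} (hx : x ∈ Up V F i) :
    nU V (D.simple i) 1 * x * (nU V (D.simple i) 1)⁻¹ ∈ Up V F i := by
  have hi' : i < D.rank := by rw [← V.hl]; exact hi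
  refine conj_closure_mem _ ?_ hx
  rintro y ⟨s, u, ⟨h1, h2, h3⟩, rfl⟩
  have Rs := reflFacts V.hR i hi s h2
  rw [nU_conj' V hi' (by rw [← V.hn]; exact h2)]
  refine Subgroup.subset_closure ⟨_, _, ⟨V3.pos_perm hi h2 h1 h3, Rs.w_lt, ?_⟩, rfl⟩
  intro h4
  have h5 := refl_sim V V2 V3 hi
  have h6 := congrArg (T.refl i) h4
  rw [Rs.w_w, h5] at h6
  have h7 := neg_lt_half V2 (sim_pos V V2 hi) (sim_lt' V V2 V3 hi)
  omega

theorem n_x_p {i : ℕ} (hi : i < T.l) (a : F) :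
    nU V (D.simple i) 1 * xU V (T.sim i) a * (nU V (D.simple i) 1)⁻¹ = xU V (T.neg (T.sim i)) (-a) := by
  have hi' : i < D.rank := by rw [← V.hl]; exact hi
  have h := nU_conj' V hi' (s := T.sim i) (by rw [← V.hn]; exact sim_lt' V V2 V3 hi) a
  rw [refl_sim V V2 V3 hi, eps_sim V V2 V3 hi] at h
  simpa using h

theorem n_inv_x_p {i : ℕ} (hi : i < T.l) (a : F) :
    (nU V (D.simple i) 1)⁻¹ * xU V (T.sim i) a * nU V (D.simple i) 1 = xU V (T.neg (T.sim i)) (-a) := by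
  have hs := sim_lt' V V2 V3 hi
  have Rs := reflFacts V.hR i hi _ hs
  have h := n_inv_conj V hi hs a
  rw [refl_sim V V2 V3 hi, Rs.eps_neg, eps_sim V V2 V3 hi] at h
  simpa using h

theorem Up_le_U (i : ℕ) : Up V F i ≤ D.posUnipotent F := by
  rw [Up, Subgroup.closure_le]
  rintro g ⟨s, t, ⟨h1, h2, _⟩, rfl⟩
  rw [posUnipotent_eq V]
  exact Subgroup.subset_closure ⟨s, t, (isPos_iff V V2 s).mpr ⟨h1, by rw [← V.hn]; exact h2⟩, rfl⟩

theorem xU_mem_U {r : ℕ} (h1 : T.n / 2 ≤ r) (h2 : r < T.n) (t : F) : xU V r t ∈ D.posUnipotent F := by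
  rw [posUnipotent_eq V]
  exact Subgroup.subset_closure ⟨r, t, (isPos_iff V V2 r).mpr ⟨h1, by rw [← V.hn]; exact h2⟩, rfl⟩

theorem Up_sup {i : ℕ} (hi : i < T.l) : Up V F i ⊔ D.rootSubgroup F (T.sim i) = D.posUnipotent F := by
  apply le_antisymm
  · apply sup_le (Up_le_U V V2 V3 i)
    rw [rootSubgroup_eq V, Subgroup.closure_le]
    rintro g ⟨t, rfl⟩
    exact xU_mem_U V V2 V3 (sim_pos V V2 hi) (sim_lt' V V2 V3 hi) t
  · rw [posUnipotent_eq V, Subgroup.closure_le]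
    rintro g ⟨r, t, hr, rfl⟩
    have h1 := (isPos_iff V V2 r).mp hr
    by_cases h2 : r = T.sim i
    · subst h2
      refine Subgroup.mem_sup_right ?_
      exact (mem_rootSubgroup V).mpr ⟨t, rfl⟩
    · refine Subgroup.mem_sup_left (Subgroup.subset_closure ⟨r, t, ⟨h1.1, by rw [V.hn]; exact h1.2, h2⟩, rfl⟩)

theorem rootSubgroup_le_normalizer {i : ℕ} (hi : i < T.l) :
    D.rootSubgroup F (T.sim i) ≤ Subgroup.normalizer (Up V F i : Set (GL D.Idx F)) := by
  intro g hg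
  obtain ⟨t, rfl⟩ := (mem_rootSubgroup V).mp hg
  exact Xp_normalizes V V2 V3 hi t

theorem U_decomp {i : ℕ} (hi : i < T.l) {u : GL D.Idx F} (hu : u ∈ D.posUnipotent F) :
    ∃ u' ∈ Up V F i, ∃ a : F, u = u' * xU V (T.sim i) a := by
  rw [← Up_sup V V2 V3 hi] at hu
  obtain ⟨u', hu', x, hx, rfl⟩ := exists_mul_of_normalizer (rootSubgroup_le_normalizer V V2 V3 hi) hu
  obtain ⟨a, rfl⟩ := (mem_rootSubgroup V).mp hx
  exact ⟨u', hu', a, rfl⟩

theorem B_decomp {i : ℕ} (hi : i < T.l) {b : GL D.Idx F} (hb : b ∈ D.borelSubgroup F) :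
    ∃ h ∈ D.diagonalSubgroup F, ∃ u ∈ Up V F i, ∃ a : F, b = h * u * xU V (T.sim i) a := by
  obtain ⟨u, hu, h, hh, e⟩ := B_form V V2 V3 (Subgroup.inv_mem _ hb)
  obtain ⟨u', hu', a, e2⟩ := U_decomp V V2 V3 hi (Subgroup.inv_mem _ hu)
  refine ⟨h⁻¹, Subgroup.inv_mem _ hh, u', hu', a, ?_⟩
  rw [mul_assoc, ← e2, ← _root_.mul_inv_rev, ← e, inv_inv]

theorem H_le_B : D.diagonalSubgroup F ≤ D.borelSubgroup F := le_sup_right
theorem U_le_B : D.posUnipotent F ≤ D.borelSubgroup F := le_sup_left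

theorem n_sq_mem_H {i : ℕ} (hi : i < T.l) : nU V (D.simple i) (1 : F) * nU V (D.simple i) 1 ∈ D.diagonalSubgroup F := by
  have hi' : i < D.rank := by rw [← V.hl]; exact hi
  have h := hU_simple V V2 V3 hi (-1 : Fˣ)
  rw [n_sq V V2 V3 hi, ← h]
  exact hU_mem_H V V2 V3 (V.sim_lt hi') (by simp)

/-- The double coset condition. -/
theorem dc_main {i : ℕ} (hi : i < T.l) {n : GL D.Idx F} (hn : n ∈ D.monomialSubgroup F) {b : GL D.Idx F}
    (hb : b ∈ D.borelSubgroup F) :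
    ∃ b1 ∈ D.borelSubgroup F, ∃ b2 ∈ D.borelSubgroup F,
      nU V (D.simple i) 1 * b * n = b1 * (nU V (D.simple i) 1 * n) * b2 ∨
      nU V (D.simple i) 1 * b * n = b1 * n * b2 := by
  have hi' : i < D.rank := by rw [← V.hl]; exact hi
  have hp := sim_lt' V V2 V3 hi
  have hpn := V.neg_lt hp
  have h0 := n_even V2
  obtain ⟨h₀, hh₀, u, hu, a, rfl⟩ := B_decomp V V2 V3 hi hb
  set s := nU V (D.simple i) (1 : F) with hs
  have hsN : s ∈ N0 V F := Subgroup.subset_closure ⟨i, hi, rfl⟩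
  set b₀ := (s * h₀ * s⁻¹) * (s * u * s⁻¹) with hb₀
  have hb₀B : b₀ ∈ D.borelSubgroup F := by
    refine Subgroup.mul_mem _ (H_le_B V V2 V3 ?_) (U_le_B V V2 V3 (Up_le_U V V2 V3 i (n_conj_Up V V2 V3 hi hu)))
    exact normalizer_conj_mem (N0_normalizes_H V V2 V3 hsN) hh₀
  have e0 : s * (h₀ * u * xU V (T.sim i) a) * n = b₀ * (s * xU V (T.sim i) a * n) := by
    rw [hb₀]; group
  have hn' := (N_le_RAg V V2 V3 (Subgroup.inv_mem _ hn)).1
  obtain ⟨π, c, hπ⟩ := hn'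
  obtain ⟨a1, a2, a3, a4⟩ := hπ _ hp
  obtain ⟨b1', b2', b3', b4'⟩ := hπ _ hpn
  have x_n : ∀ t : F, xU V (T.sim i) t * n = n * xU V (π (T.sim i)) (c (T.sim i) * t) := by
    intro t
    rw [← a4, inv_inv]
    group
  have xn_n : ∀ t : F, xU V (T.neg (T.sim i)) t * n = n * xU V (π (T.neg (T.sim i))) (c (T.neg (T.sim i)) * t) := by
    intro t
    rw [← b4', inv_inv]
    group
  rw [e0]
  by_cases hcase : T.n / 2 ≤ π (T.sim i)
  · refine ⟨b₀, hb₀B, xU V (π (T.sim i)) (c (T.sim i) * a), U_le_B V V2 V3 (xU_mem_U V V2 V3 hcase a1 _), Or.inl ?_⟩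
    rw [mul_assoc s, x_n]
    group
  · by_cases ha : a = 0
    · subst ha
      refine ⟨b₀, hb₀B, 1, Subgroup.one_mem _, Or.inl ?_⟩
      simp
    · have hpos : T.n / 2 ≤ π (T.neg (T.sim i)) := by
        rw [a2]
        show T.n / 2 ≤ T.n - 1 - π (T.sim i)
        omega
      have he : -a ≠ 0 := neg_ne_zero.mpr ha
      have hsq := n_sq_mem_H V V2 V3 (F := F) hi
      have hD : D.simple i = T.sim i := V.simple_eq hi'
      have hneg : D.neg (T.sim i) = T.neg (T.sim i) := V.neg_eq (by rw [← V.hn]; exact hp)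
      have e1 : s * xU V (T.sim i) a * n = xU V (T.neg (T.sim i)) (-a) * s * n := by
        rw [← n_x_p V V2 V3 hi a, ← hs]
        group
      have e2 := xneg_eq V (r := T.sim i) he
      rw [hneg] at e2
      have hsi : s = nU V (T.sim i) 1 := by rw [hs, hD]
      have e3 : xU V (T.sim i) (-a)⁻¹ * s * n = s * xU V (T.neg (T.sim i)) (-(-a)⁻¹) * n := by
        rw [← n_inv_x_p V V2 V3 hi, ← hs]
        group
      refine ⟨b₀ * (xU V (T.sim i) (-a)⁻¹ * hU V (T.sim i) (-(-a)⁻¹) * (s * s)), ?_,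
        xU V (π (T.neg (T.sim i))) (c (T.neg (T.sim i)) * (-(-a)⁻¹)), U_le_B V V2 V3 (xU_mem_U V V2 V3 hpos b1' _), Or.inr ?_⟩
      · refine Subgroup.mul_mem _ hb₀B (Subgroup.mul_mem _ (Subgroup.mul_mem _ ?_ ?_) (H_le_B V V2 V3 hsq))
        · exact U_le_B V V2 V3 (xU_mem_U V V2 V3 (sim_pos V V2 hi) hp _)
        · refine H_le_B V V2 V3 (hU_mem_H V V2 V3 (by rw [← V.hn]; exact hp) ?_)
          simpa using ha
      · rw [e1, e2, ← hsi]
        have e4 : xU V (T.sim i) (-a)⁻¹ * hU V (T.sim i) (-(-a)⁻¹) * s * xU V (T.sim i) (-a)⁻¹ * s * n =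
            xU V (T.sim i) (-a)⁻¹ * hU V (T.sim i) (-(-a)⁻¹) * s * (xU V (T.sim i) (-a)⁻¹ * s * n) := by group
        rw [e4, e3, mul_assoc s, xn_n]
        group

end

end Cfsg.Agent.Lib.ChevBN
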