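import Cfsg.Agent.Lib.ChevBN
import Cfsg.Agent.Lib.BNPair2

/-! The (B,N)-pair of a Chevalley group. -/

set_option autoImplicit false

namespace Cfsg.Agent.Lib.ChevBN2

open Cfsg.Lie Matrix Cfsg.Agent.Lib.ChevEngine Cfsg.Agent.Lib.ChevTab Cfsg.Agent.Lib.ChevMono
  Cfsg.Agent.Lib.ChevRel Cfsg.Agent.Lib.ChevValid Cfsg.Agent.Lib.ChevGL Cfsg.Agent.Lib.ChevGrad Cfsg.Agent.Lib.ChevL2
  Cfsg.Agent.Lib.ChevU Cfsg.Agent.Lib.ChevU2 Cfsg.Agent.Lib.ChevU3 Cfsg.Agent.Lib.ChevDiag Cfsg.Agent.Lib.ChevV3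
  Cfsg.Agent.Lib.ChevH Cfsg.Agent.Lib.ChevN Cfsg.Agent.Lib.ChevN2 Cfsg.Agent.Lib.ChevN3 Cfsg.Agent.Lib.ChevBN

variable {D : ChevalleyDatum} {T : Tb} {C : Tc} {X : Tc3} {F : Type*} [Field F]

section
variable (V : Valid D T) (V2 : Valid2 D T C) (V3 : Valid3 T C X)
include V V2 V3

theorem n_mem_N {i : ℕ} (hi : i < T.l) : nU V (D.simple i) (1 : F) ∈ D.monomialSubgroup F := by
  rw [monomialSubgroup_eq V]
  exact Subgroup.mem_sup_right (Subgroup.subset_closure ⟨_, V.sim_lt (by rw [← V.hl]; exact hi), rfl⟩)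

/-- Distinct fundamental `n` are distinct modulo `B`. -/
theorem n_inj {i j : ℕ} (hi : i < T.l) (hj : j < T.l) (h : (nU V (D.simple i) (1 : F))⁻¹ * nU V (D.simple j) 1 ∈ D.borelSubgroup F) :
    i = j := by
  by_contra hij
  have hi' : i < D.rank := by rw [← V.hl]; exact hi
  have hj' : j < D.rank := by rw [← V.hl]; exact hj
  have hN : (nU V (D.simple i) (1 : F))⁻¹ * nU V (D.simple j) 1 ∈ D.monomialSubgroup F :=
    Subgroup.mul_mem _ (Subgroup.inv_mem _ (n_mem_N V V2 V3 hi)) (n_mem_N V V2 V3 hj)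
  have hH : (nU V (D.simple i) (1 : F))⁻¹ * nU V (D.simple j) 1 ∈ D.diagonalSubgroup F := by
    rw [← B_inf_N V V2 V3]
    exact ⟨h, hN⟩
  obtain ⟨χ, hχ, he⟩ := H_form V V2 V3 hH
  have hp := sim_lt' V V2 V3 hi
  have e1 : nU V (D.simple j) (1 : F) = nU V (D.simple i) 1 * dgU D χ := by
    rw [← he]; group
  have e2 : nU V (D.simple j) (1 : F) * xU V (T.sim i) 1 * (nU V (D.simple j) 1)⁻¹ =
      xU V (T.neg (T.sim i)) (-(((χ (T.sim i) : Fˣ) : F) * 1)) := by
    rw [e1, _root_.mul_inv_rev]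
    have e3 : nU V (D.simple i) (1 : F) * dgU D χ * xU V (T.sim i) 1 * ((dgU D χ)⁻¹ * (nU V (D.simple i) 1)⁻¹) =
        nU V (D.simple i) 1 * (dgU D χ * xU V (T.sim i) 1 * (dgU D χ)⁻¹) * (nU V (D.simple i) 1)⁻¹ := by group
    rw [e3, conj_dg V hχ (by rw [← V.hn]; exact hp), mul_inv_cancel_right, n_x_p V V2 V3 hi]
  rw [nU_conj' V hj' (by rw [← V.hn]; exact hp)] at e2
  have hne : T.sim i ≠ T.sim j := fun h3 => hij (sim_inj V V2 hi hj h3)
  have hpos := V3.pos_perm hj hp (sim_pos V V2 hi) hne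
  have Rp := reflFacts V.hR j hj _ hp
  have h5 : xU V (T.refl j (T.sim i)) (((T.eps j (T.sim i) : ℤ) : F) * 1) ∈ D.borelSubgroup F ⊓ D.negUnipotent F := by
    refine ⟨U_le_B V V2 V3 (xU_mem_U V V2 V3 hpos Rp.w_lt _), ?_⟩
    rw [e2, negUnipotent_eq V]
    refine Subgroup.subset_closure ⟨_, _, (isNeg_iff V V2 _).mpr (neg_lt_half V2 (sim_pos V V2 hi) hp), rfl⟩
  rw [B_inf_V V V2 V3, Subgroup.mem_bot] at h5
  have h6 := congrArg Units.val h5
  rw [xU_val, Units.val_one, V.x_eq_one_iff (by rw [← V.hn]; exact Rp.w_lt)] at h6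
  rcases Rp.eps_pm with h7 | h7 <;> simp [h7] at h6

/-- `s B s ≠ B`. -/
theorem n_B_n {i : ℕ} (hi : i < T.l) :
    nU V (D.simple i) (1 : F) * xU V (T.sim i) 1 * nU V (D.simple i) 1 ∉ D.borelSubgroup F := by
  intro h
  have hp := sim_lt' V V2 V3 hi
  have hsq := n_sq_mem_H V V2 V3 (F := F) hi
  have e : nU V (D.simple i) (1 : F) * xU V (T.sim i) 1 * nU V (D.simple i) 1 =
      (nU V (D.simple i) 1 * xU V (T.sim i) 1 * (nU V (D.simple i) 1)⁻¹) * (nU V (D.simple i) 1 * nU V (D.simple i) 1) := by group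
  rw [e, n_x_p V V2 V3 hi] at h
  have h2 := Subgroup.mul_mem _ h (Subgroup.inv_mem _ (H_le_B V V2 V3 hsq))
  rw [mul_inv_cancel_right] at h2
  have h3 : xU V (T.neg (T.sim i)) (-1 : F) ∈ D.borelSubgroup F ⊓ D.negUnipotent F := by
    refine ⟨h2, ?_⟩
    rw [negUnipotent_eq V]
    exact Subgroup.subset_closure ⟨_, _, (isNeg_iff V V2 _).mpr (neg_lt_half V2 (sim_pos V V2 hi) hp), rfl⟩
  rw [B_inf_V V V2 V3, Subgroup.mem_bot] at h3
  have h6 := congrArg Units.val h3
  rw [xU_val, Units.val_one, V.x_eq_one_iff (by rw [← V.hn]; exact V.neg_lt hp)] at h6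
  simp at h6

/-- The (B,N)-pair. -/
noncomputable def bnPair (V : Valid D T) (V2 : Valid2 D T C) (V3 : Valid3 T C X) : Cfsg.BNPair ↥(D.group F) where
  B := (D.borelSubgroup F).subgroupOf (D.group F)
  N := (D.monomialSubgroup F).subgroupOf (D.group F)
  S := {n : ↥(D.group F) | ∃ i < D.rank, ((n : GL D.Idx F) : Matrix D.Idx D.Idx F) = D.nMat F (D.simple i) 1}
  sup_eq_top := by
    rw [← Subgroup.subgroupOf_sup (B_le_G V V2) (N_le_G V), BN_eq_G V V2 V3, Subgroup.subgroupOf_self]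
  conj_mem := by
    rintro n hn t ⟨h1, h2⟩
    have h3 : (t : GL D.Idx F) ∈ D.diagonalSubgroup F := by
      rw [← B_inf_N V V2 V3]
      exact ⟨h1, h2⟩
    have h4 := normalizer_conj_mem (N_le_normalizer_H V V2 V3 hn) h3
    exact H_le_B V V2 V3 h4
  subset := by
    rintro n ⟨i, hi, h⟩
    have e : (n : GL D.Idx F) = nU V (D.simple i) 1 := Units.ext (by rw [h, nU_val])
    show (n : GL D.Idx F) ∈ D.monomialSubgroup F
    rw [e]
    exact n_mem_N V V2 V3 (by rw [V.hl]; exact hi)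
  sq_mem := by
    rintro n ⟨i, hi, h⟩
    have e : (n : GL D.Idx F) = nU V (D.simple i) 1 := Units.ext (by rw [h, nU_val])
    show (n : GL D.Idx F) * (n : GL D.Idx F) ∈ D.borelSubgroup F
    rw [e]
    exact H_le_B V V2 V3 (n_sq_mem_H V V2 V3 (by rw [V.hl]; exact hi))
  inj := by
    rintro n ⟨i, hi, h⟩ n' ⟨j, hj, h'⟩ hb
    have e : (n : GL D.Idx F) = nU V (D.simple i) 1 := Units.ext (by rw [h, nU_val])
    have e' : (n' : GL D.Idx F) = nU V (D.simple j) 1 := Units.ext (by rw [h', nU_val])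
    have hb' : (n : GL D.Idx F)⁻¹ * (n' : GL D.Idx F) ∈ D.borelSubgroup F := hb
    rw [e, e'] at hb'
    have := n_inj V V2 V3 (by rw [V.hl]; exact hi) (by rw [V.hl]; exact hj) hb'
    subst this
    exact Subtype.ext (e.trans e'.symm)
  closure_sup := by
    apply le_antisymm
    · apply sup_le
      · rw [Subgroup.closure_le]
        rintro n ⟨i, hi, h⟩
        have e : (n : GL D.Idx F) = nU V (D.simple i) 1 := Units.ext (by rw [h, nU_val])
        show (n : GL D.Idx F) ∈ D.monomialSubgroup F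
        rw [e]
        exact n_mem_N V V2 V3 (by rw [V.hl]; exact hi)
      · exact inf_le_right
    · intro x hx
      have hx' : (x : GL D.Idx F) ∈ D.monomialSubgroup F := hx
      set K := Subgroup.closure {n : ↥(D.group F) | ∃ i < D.rank, ((n : GL D.Idx F) : Matrix D.Idx D.Idx F) = D.nMat F (D.simple i) 1} ⊔
        ((D.borelSubgroup F).subgroupOf (D.group F) ⊓ (D.monomialSubgroup F).subgroupOf (D.group F)) with hK
      have hle : D.monomialSubgroup F ≤ K.map (D.group F).subtype := by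
        rw [N_eq V V2 V3]
        apply sup_le
        · intro g hg
          have hgG := H_le_G V hg
          refine ⟨⟨g, hgG⟩, ?_, rfl⟩
          refine Subgroup.mem_sup_right ⟨?_, ?_⟩
          · exact H_le_B V V2 V3 hg
          · exact H_le_N V V2 V3 hg
        · rw [N0, Subgroup.closure_le]
          rintro g ⟨i, hi, rfl⟩
          have hi' : i < D.rank := by rw [← V.hl]; exact hi
          refine ⟨⟨_, nU_mem_G V (V.sim_lt hi') 1⟩, ?_, rfl⟩
          exact Subgroup.mem_sup_left (Subgroup.subset_closure ⟨i, hi', nU_val V _ _⟩)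
      obtain ⟨y, hy, hxy⟩ := hle hx'
      have : y = x := Subtype.ext hxy
      rwa [← this]
  mul_mem_union := by
    rintro s ⟨i, hi, h⟩ n hn b hb
    have e : (s : GL D.Idx F) = nU V (D.simple i) 1 := Units.ext (by rw [h, nU_val])
    have hn' : (n : GL D.Idx F) ∈ D.monomialSubgroup F := hn
    have hb' : (b : GL D.Idx F) ∈ D.borelSubgroup F := hb
    obtain ⟨b1, hb1, b2, hb2, h3⟩ := dc_main V V2 V3 (by rw [V.hl]; exact hi) hn' hb'
    have hb1G := B_le_G V V2 hb1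
    have hb2G := B_le_G V V2 hb2
    rcases h3 with h3 | h3
    · left
      rw [DoubleCoset.mem_doubleCoset]
      refine ⟨⟨b1, hb1G⟩, hb1, ⟨b2, hb2G⟩, hb2, ?_⟩
      apply Subtype.ext
      show (s : GL D.Idx F) * b * n = b1 * (s * n) * b2
      rw [e]
      exact h3
    · right
      rw [DoubleCoset.mem_doubleCoset]
      refine ⟨⟨b1, hb1G⟩, hb1, ⟨b2, hb2G⟩, hb2, ?_⟩
      apply Subtype.ext
      show (s : GL D.Idx F) * b * n = b1 * n * b2
      rw [e]
      exact h3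
  conj_ne := by
    rintro s ⟨i, hi, h⟩ heq
    have hi' : i < T.l := by rw [V.hl]; exact hi
    have e : (s : GL D.Idx F) = nU V (D.simple i) 1 := Units.ext (by rw [h, nU_val])
    have hp := sim_lt' V V2 V3 hi'
    have hxG := xU_mem_group V (F := F) (by rw [← V.hn]; exact hp) (1 : F)
    have hxB : (⟨_, hxG⟩ : ↥(D.group F)) ∈ (D.borelSubgroup F).subgroupOf (D.group F) :=
      U_le_B V V2 V3 (xU_mem_U V V2 V3 (sim_pos V V2 hi') hp 1)
    have h2 : s * (⟨_, hxG⟩ : ↥(D.group F)) * s ∈ (D.borelSubgroup F).subgroupOf (D.group F) := by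
      have : s * (⟨_, hxG⟩ : ↥(D.group F)) * s ∈ (fun b : ↥(D.group F) => s * b * s) '' ((D.borelSubgroup F).subgroupOf (D.group F) : Set ↥(D.group F)) :=
        ⟨_, hxB, rfl⟩
      rw [heq] at this
      exact this
    have h3 : (s : GL D.Idx F) * xU V (T.sim i) 1 * (s : GL D.Idx F) ∈ D.borelSubgroup F := h2
    rw [e] at h3
    exact n_B_n V V2 V3 hi' h3

/-- S1044 -/
theorem B_union {i : ℕ} (hi : i < D.rank) (n : GL D.Idx F) (hn : (n : Matrix D.Idx D.Idx F) = D.nMat F (D.simple i) 1) :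
    ∃ P : Subgroup (GL D.Idx F), (P : Set (GL D.Idx F)) =
      (D.borelSubgroup F : Set (GL D.Idx F)) ∪ DoubleCoset.doubleCoset n (D.borelSubgroup F : Set (GL D.Idx F)) (D.borelSubgroup F) := by
  have hi' : i < T.l := by rw [V.hl]; exact hi
  have e : n = nU V (D.simple i) 1 := Units.ext (by rw [hn, nU_val])
  subst e
  set s := nU V (D.simple i) (1 : F) with hs
  have hsq : s * s ∈ D.borelSubgroup F := H_le_B V V2 V3 (n_sq_mem_H V V2 V3 hi')
  have hsN : s ∈ D.monomialSubgroup F := n_mem_N V V2 V3 hi'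
  have hsinv : s⁻¹ = (s * s)⁻¹ * s := by group
  -- key product
  have key : ∀ b ∈ D.borelSubgroup F, s * b * s ∈ (D.borelSubgroup F : Set (GL D.Idx F)) ∪ DoubleCoset.doubleCoset s (D.borelSubgroup F : Set (GL D.Idx F)) (D.borelSubgroup F) := by
    intro b hb
    obtain ⟨b1, hb1, b2, hb2, h⟩ := dc_main V V2 V3 hi' hsN hb
    rcases h with h | h
    · left
      rw [h]
      exact Subgroup.mul_mem _ (Subgroup.mul_mem _ hb1 hsq) hb2
    · right
      rw [DoubleCoset.mem_doubleCoset]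
      exact ⟨b1, hb1, b2, hb2, h⟩
  refine ⟨{ carrier := (D.borelSubgroup F : Set (GL D.Idx F)) ∪ DoubleCoset.doubleCoset s (D.borelSubgroup F : Set (GL D.Idx F)) (D.borelSubgroup F)
            mul_mem' := ?_, one_mem' := Or.inl (Subgroup.one_mem _), inv_mem' := ?_ }, rfl⟩
  · rintro a b (ha | ha) (hb | hb)
    · exact Or.inl (Subgroup.mul_mem _ ha hb)
    · right
      obtain ⟨x, hx, y, hy, rfl⟩ := DoubleCoset.mem_doubleCoset.mp hb
      rw [DoubleCoset.mem_doubleCoset]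
      exact ⟨a * x, Subgroup.mul_mem _ ha hx, y, hy, by group⟩
    · right
      obtain ⟨x, hx, y, hy, rfl⟩ := DoubleCoset.mem_doubleCoset.mp ha
      rw [DoubleCoset.mem_doubleCoset]
      exact ⟨x, hx, y * b, Subgroup.mul_mem _ hy hb, by group⟩
    · obtain ⟨x, hx, y, hy, rfl⟩ := DoubleCoset.mem_doubleCoset.mp ha
      obtain ⟨x', hx', y', hy', rfl⟩ := DoubleCoset.mem_doubleCoset.mp hb
      have e2 : x * s * y * (x' * s * y') = x * (s * (y * x') * s) * y' := by group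
      rw [e2]
      rcases key (y * x') (Subgroup.mul_mem _ hy hx') with h | h
      · exact Or.inl (Subgroup.mul_mem _ (Subgroup.mul_mem _ hx h) hy')
      · right
        obtain ⟨u, hu, v, hv, h2⟩ := DoubleCoset.mem_doubleCoset.mp h
        rw [DoubleCoset.mem_doubleCoset, h2]
        exact ⟨x * u, Subgroup.mul_mem _ hx hu, v * y', Subgroup.mul_mem _ hv hy', by group⟩
  · rintro a (ha | ha)
    · exact Or.inl (Subgroup.inv_mem _ ha)
    · right
      obtain ⟨x, hx, y, hy, rfl⟩ := DoubleCoset.mem_doubleCoset.mp ha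
      rw [DoubleCoset.mem_doubleCoset]
      refine ⟨y⁻¹ * (s * s)⁻¹, Subgroup.mul_mem _ (Subgroup.inv_mem _ hy) (Subgroup.inv_mem _ hsq), x⁻¹, Subgroup.inv_mem _ hx, ?_⟩
      group

/-- S1045 -/
theorem Up_statement {i : ℕ} (hi : i < D.rank) :
    D.rootSubgroup F (D.simple i) ⊔ D.rootSubgroup F (D.neg (D.simple i)) ≤
        Subgroup.normalizer (Subgroup.closure {g : GL D.Idx F | ∃ (s : ℕ) (t : F), D.IsPosRoot s ∧ s ≠ D.simple i ∧
          (g : Matrix D.Idx D.Idx F) = D.x F s t} : Set (GL D.Idx F)) ∧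
      Subgroup.closure {g : GL D.Idx F | ∃ (s : ℕ) (t : F), D.IsPosRoot s ∧ s ≠ D.simple i ∧
          (g : Matrix D.Idx D.Idx F) = D.x F s t} ⊔ D.rootSubgroup F (D.simple i) = D.posUnipotent F := by
  have hi' : i < T.l := by rw [V.hl]; exact hi
  have hD : D.simple i = T.sim i := V.simple_eq hi
  have hp := sim_lt' V V2 V3 hi'
  have hn : D.neg (T.sim i) = T.neg (T.sim i) := V.neg_eq (by rw [← V.hn]; exact hp)
  have e : Subgroup.closure {g : GL D.Idx F | ∃ (s : ℕ) (t : F), D.IsPosRoot s ∧ s ≠ D.simple i ∧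
      (g : Matrix D.Idx D.Idx F) = D.x F s t} = Up V F i := by
    unfold Up
    congr 1
    ext g
    constructor
    · rintro ⟨s, t, h1, h2, h3⟩
      have h4 := (isPos_iff V V2 s).mp h1
      exact ⟨s, t, ⟨h4.1, by rw [V.hn]; exact h4.2, by rw [← hD]; exact h2⟩, eq_xU V h3⟩
    · rintro ⟨s, t, ⟨h1, h2, h3⟩, rfl⟩
      exact ⟨s, t, (isPos_iff V V2 s).mpr ⟨h1, by rw [← V.hn]; exact h2⟩, by rw [hD]; exact h3, rfl⟩
  rw [e, hD, hn]
  refine ⟨?_, Up_sup V V2 V3 hi'⟩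
  apply sup_le
  · intro g hg
    obtain ⟨t, rfl⟩ := (mem_rootSubgroup V).mp hg
    exact Xp_normalizes V V2 V3 hi' t
  · intro g hg
    obtain ⟨t, rfl⟩ := (mem_rootSubgroup V).mp hg
    exact Xmp_normalizes V V2 V3 hi' t

end

end Cfsg.Agent.Lib.ChevBN2
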