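import Cfsg.Agent.Lib.ChevU3

/-! Diagonal matrices given by characters of the root lattice. -/

set_option autoImplicit false

namespace Cfsg.Agent.Lib.ChevDiag

open Cfsg.Lie Matrix Cfsg.Agent.Lib.ChevEngine Cfsg.Agent.Lib.ChevTab Cfsg.Agent.Lib.ChevMono
  Cfsg.Agent.Lib.ChevRel Cfsg.Agent.Lib.ChevValid Cfsg.Agent.Lib.ChevGL Cfsg.Agent.Lib.ChevGrad Cfsg.Agent.Lib.ChevL2
  Cfsg.Agent.Lib.ChevU Cfsg.Agent.Lib.ChevU2 Cfsg.Agent.Lib.ChevU3

variable {D : ChevalleyDatum} {T : Tb} {C : Tc} {F : Type*} [Field F]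

/-- The diagonal unit attached to a function. -/
noncomputable def dgU (D : ChevalleyDatum) (χ : ℕ → Fˣ) : GL D.Idx F where
  val := Matrix.diagonal (Sum.elim (fun _ => 1) (fun s => ((χ s.val : Fˣ) : F)))
  inv := Matrix.diagonal (Sum.elim (fun _ => 1) (fun s => (((χ s.val)⁻¹ : Fˣ) : F)))
  val_inv := by
    rw [Matrix.diagonal_mul_diagonal, ← Matrix.diagonal_one]
    congr 1
    funext i
    rcases i with i | s <;> simp
  inv_val := by
    rw [Matrix.diagonal_mul_diagonal, ← Matrix.diagonal_one]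
    congr 1
    funext i
    rcases i with i | s <;> simp

theorem dgU_val (χ : ℕ → Fˣ) : ((dgU D χ : GL D.Idx F) : Matrix D.Idx D.Idx F) =
    Matrix.diagonal (Sum.elim (fun _ => 1) (fun s => ((χ s.val : Fˣ) : F))) := rfl

theorem dgU_mul (χ χ' : ℕ → Fˣ) : dgU D χ * dgU D χ' = dgU D (χ * χ') := by
  apply Units.ext
  rw [Units.val_mul, dgU_val, dgU_val, dgU_val, Matrix.diagonal_mul_diagonal]
  congr 1
  funext i
  rcases i with i | s <;> simp

theorem dgU_one : dgU D (1 : ℕ → Fˣ) = 1 := by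
  apply Units.ext
  rw [dgU_val, Units.val_one, ← Matrix.diagonal_one]
  congr 1
  funext i
  rcases i with i | s <;> simp

theorem dgU_inv (χ : ℕ → Fˣ) : (dgU D χ)⁻¹ = dgU D χ⁻¹ := by
  apply inv_eq_of_mul_eq_one_right
  rw [dgU_mul, mul_inv_cancel, dgU_one]

theorem dgU_congr {χ χ' : ℕ → Fˣ} (h : ∀ s < D.nroots, χ s = χ' s) : dgU D χ = dgU D χ' := by
  apply Units.ext
  rw [dgU_val, dgU_val]
  congr 1
  funext i
  rcases i with i | s
  · rfl
  · simp [h s.val s.isLt]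

theorem dg_bas_h (hl : T.l = D.rank) (χ : ℕ → Fˣ) {j : ℕ} (hj : j < T.l) :
    ((dgU D χ : GL D.Idx F) : Matrix D.Idx D.Idx F) *ᵥ bas D j = bas D j := by
  funext i
  rw [dgU_val, Matrix.mulVec_diagonal]
  rcases i with i | s
  · simp
  · have : ¬ code D (Sum.inr s) = j := by
      simp only [code_inr]; omega
    simp [bas, this]

theorem dg_bas_e (hl : T.l = D.rank) (χ : ℕ → Fˣ) (c : ℕ) :
    ((dgU D χ : GL D.Idx F) : Matrix D.Idx D.Idx F) *ᵥ bas D (T.l + c) = ((χ c : Fˣ) : F) • bas D (T.l + c) := by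
  funext i
  rw [dgU_val, Matrix.mulVec_diagonal]
  rcases i with i | s
  · have : ¬ code D (Sum.inl i) = T.l + c := by
      have := i.isLt
      simp only [code_inl]; omega
    simp [bas, this]
  · by_cases h : s.val = c
    · subst h
      have : code D (Sum.inr s) = T.l + s.val := by simp only [code_inr]; omega
      simp [bas, this]
    · have : ¬ code D (Sum.inr s) = T.l + c := by simp only [code_inr]; omega
      simp [bas, this]

theorem dg_hv (hl : T.l = D.rank) (χ : ℕ → Fˣ) (c : ℕ → ℤ) :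
    ((dgU D χ : GL D.Idx F) : Matrix D.Idx D.Idx F) *ᵥ hv D T c = hv D T c := by
  unfold hv
  rw [Matrix.mulVec_sum]
  apply Finset.sum_congr rfl
  intro i hi
  rw [Matrix.mulVec_smul, dg_bas_h hl χ (by simpa using hi)]

/-- Characters of the root lattice. -/
structure IsCh (T : Tb) (χ : ℕ → Fˣ) : Prop where
  neg : ∀ r < T.n, χ (T.neg r) = (χ r)⁻¹
  chain : ∀ r < T.n, ∀ c < T.n, ∀ k (hk : k < (T.ch r c).length), χ (T.ch r c)[k].1 = χ c * χ r ^ (k + 1)

theorem dg_cv (hl : T.l = D.rank) (χ : ℕ → Fˣ) (c s : ℕ) (t : F) (k : ℕ) (L : List (ℕ × ℤ))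
    (h : ∀ j (hj : j < L.length), χ L[j].1 = χ c * χ s ^ (k + j + 1)) :
    ((dgU D χ : GL D.Idx F) : Matrix D.Idx D.Idx F) *ᵥ cv D T k L t = ((χ c : Fˣ) : F) • cv D T k L (((χ s : Fˣ) : F) * t) := by
  induction L generalizing k with
  | nil => simp [cv]
  | cons e L ih =>
    simp only [cv]
    rw [Matrix.mulVec_add, Matrix.mulVec_smul, dg_bas_e hl, smul_add, smul_smul, smul_smul,
      ih (k + 1) (fun j hj => by
        have := h (j + 1) (by simpa using hj)
        simp only [List.getElem_cons_succ] at this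
        rw [this]
        congr 2
        omega)]
    have h0 := h 0 (by simp)
    simp only [List.getElem_cons_zero, add_zero] at h0
    rw [h0]
    congr 1
    push_cast
    rw [mul_pow]
    congr 1
    ring

/-- Conjugation of a root element by a diagonal element -/
theorem conj_dg (V : Valid D T) {χ : ℕ → Fˣ} (hχ : IsCh T χ) {s : ℕ} (hs : s < D.nroots) (t : F) :
    dgU D χ * xU V s t = xU V s (((χ s : Fˣ) : F) * t) * dgU D χ := by
  apply Units.ext
  rw [Units.val_mul, Units.val_mul, xU_val, xU_val]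
  have hs' : s < T.n := by rw [V.hn]; exact hs
  have hl := V.hl
  have hn := V.hn
  apply matrix_ext_bas
  intro a ha
  rw [← Matrix.mulVec_mulVec, ← Matrix.mulVec_mulVec]
  by_cases ha1 : a < T.l
  · rw [x_col_h V.hT s hs' t a ha1, Matrix.mulVec_add, Matrix.mulVec_smul, dg_bas_h hl χ ha1, dg_bas_e hl,
      x_col_h V.hT s hs' _ a ha1, smul_smul]
    congr 2
    ring
  · obtain ⟨c, rfl⟩ : ∃ c, a = T.l + c := ⟨a - T.l, by omega⟩
    have hc : c < T.n := by omega
    have hU : ((χ s : Fˣ) : F) * (((χ s)⁻¹ : Fˣ) : F) = 1 := by simp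
    rw [dg_bas_e hl, Matrix.mulVec_smul]
    by_cases hc1 : c = s
    · subst hc1
      rw [x_col_s V.hT c hs' t, dg_bas_e hl, x_col_s V.hT c hs' _]
    · by_cases hc2 : c = T.neg s
      · subst hc2
        have hnn := V.neg_ne hs'
        have hns := V.neg_lt hs'
        rw [x_col_n V.hT s hs' t hnn hns, x_col_n V.hT s hs' _ hnn hns, Matrix.mulVec_add, Matrix.mulVec_add,
          Matrix.mulVec_smul, Matrix.mulVec_smul, dg_bas_e hl, dg_bas_e hl, dg_hv hl, hχ.neg s hs']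
        simp only [smul_add, smul_smul]
        have e1 : (((χ s)⁻¹ : Fˣ) : F) * (((χ s : Fˣ) : F) * t) = t := by
          rw [← mul_assoc, mul_comm (((χ s)⁻¹ : Fˣ) : F), hU, one_mul]
        have e2 : (((χ s)⁻¹ : Fˣ) : F) * (-(((χ s : Fˣ) : F) * t) ^ 2) = -t ^ 2 * ((χ s : Fˣ) : F) := by
          have : (((χ s : Fˣ) : F) * t) ^ 2 = ((χ s : Fˣ) : F) * ((χ s : Fˣ) : F) * t ^ 2 := by ring
          rw [this]
          calc (((χ s)⁻¹ : Fˣ) : F) * -(((χ s : Fˣ) : F) * ((χ s : Fˣ) : F) * t ^ 2)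
              = - (((χ s : Fˣ) : F) * (((χ s)⁻¹ : Fˣ) : F)) * ((χ s : Fˣ) : F) * t ^ 2 := by ring
            _ = _ := by rw [hU]; ring
        rw [e1, e2]
      · rw [x_col_c V.hT s hs' t c hc hc1 hc2, x_col_c V.hT s hs' _ c hc hc1 hc2, Matrix.mulVec_add, dg_bas_e hl,
          dg_cv hl χ c s t 0 _ (fun j hj => by
            rw [hχ.chain s hs' c hc j hj]
            congr 2
            omega), smul_add]

/-- The character of a grading. -/
def chOf (gr : ℕ → ℤ) (t : Fˣ) : ℕ → Fˣ := fun s => t ^ gr s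

theorem isCh_chOf {gr : ℕ → ℤ} (hg : IsGrading T gr) (t : Fˣ) : IsCh T (chOf gr t) := by
  constructor
  · intro r hr
    simp only [chOf]
    rw [hg.neg r hr, _root_.zpow_neg]
  · intro r hr c hc k hk
    simp only [chOf]
    rw [hg.chain r hr c k hk, _root_.zpow_add, ← zpow_natCast, ← _root_.zpow_mul]
    congr 2
    push_cast
    ring

theorem chOf_mul (gr : ℕ → ℤ) (t t' : Fˣ) : chOf gr t * chOf gr t' = chOf gr (t * t') := by
  funext s
  simp only [chOf, Pi.mul_apply]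
  rw [mul_zpow]

/-- `n_r(t)` is a conjugate of `n_r(1)` by a diagonal element. -/
theorem nU_conj_dg (V : Valid D T) {gr : ℕ → ℤ} (hg : IsGrading T gr) {r : ℕ} (hr : r < D.nroots) (hgr : gr r = 1) (t : Fˣ) :
    nU V r (t : F) = dgU D (chOf gr t) * nU V r 1 * (dgU D (chOf gr t))⁻¹ := by
  have hr' : r < T.n := by rw [V.hn]; exact hr
  have hχ := isCh_chOf hg t
  have hnr := V.neg_eq hr
  have h1 : ∀ u : F, dgU D (chOf gr t) * xU V r u * (dgU D (chOf gr t))⁻¹ = xU V r ((t : F) * u) := by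
    intro u
    rw [conj_dg V hχ hr, mul_inv_cancel_right]
    simp [chOf, hgr]
  have h2 : ∀ u : F, dgU D (chOf gr t) * xU V (D.neg r) u * (dgU D (chOf gr t))⁻¹ = xU V (D.neg r) ((t⁻¹ : Fˣ) * u) := by
    intro u
    have hlt : D.neg r < D.nroots := by rw [hnr, ← V.hn]; exact V.neg_lt hr'
    rw [conj_dg V hχ hlt, mul_inv_cancel_right]
    simp [chOf, hnr, hg.neg r hr', hgr]
  rw [nU_eq, nU_eq]
  have e : dgU D (chOf gr t) * (xU V r 1 * xU V (D.neg r) (-(1 : F)⁻¹) * xU V r 1) * (dgU D (chOf gr t))⁻¹ =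
      (dgU D (chOf gr t) * xU V r 1 * (dgU D (chOf gr t))⁻¹) * (dgU D (chOf gr t) * xU V (D.neg r) (-(1 : F)⁻¹) * (dgU D (chOf gr t))⁻¹) *
        (dgU D (chOf gr t) * xU V r 1 * (dgU D (chOf gr t))⁻¹) := by group
  rw [e, h1, h2]
  simp

end Cfsg.Agent.Lib.ChevDiag
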