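import Cfsg.Prelude.Def_ChevStructure
import Mathlib

/-!
Symbolic engine for matrix identities in Chevalley groups given by tables:
sparse polynomial vectors with integer coefficients, whose evaluation at field elements is
connected to `ChevalleyDatum.x`.
-/

set_option autoImplicit false

namespace Cfsg.Agent.Lib.ChevEngine

open Cfsg.Lie Matrix

/-- a monomial `k t^a u^b v^c`. -/
structure Tm where
  a : ℕ
  b : ℕ
  c : ℕ
  k : ℤ
  deriving DecidableEq

/-- Polynomials: lists of monomials -/
abbrev Pl := List Tm

section eval
variable {F : Type*} [Field F]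

def Tm.eval (t u v : F) (x : Tm) : F := (x.k : F) * t ^ x.a * u ^ x.b * v ^ x.c

def Pl.eval (t u v : F) : Pl → F
  | [] => 0
  | x :: xs => Tm.eval t u v x + Pl.eval t u v xs

@[simp] theorem Pl.eval_nil (t u v : F) : Pl.eval t u v [] = 0 := rfl
@[simp] theorem Pl.eval_cons (t u v : F) (x : Tm) (xs : Pl) :
    Pl.eval t u v (x :: xs) = Tm.eval t u v x + Pl.eval t u v xs := rfl

end eval

/-- lexicographic strict comparison of exponent triples. -/
@[inline] def Tm.lt (x y : Tm) : Bool :=
  Nat.blt x.a y.a || (Nat.beq x.a y.a && (Nat.blt x.b y.b || (Nat.beq x.b y.b && Nat.blt x.c y.c)))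

@[inline] def Tm.same (x y : Tm) : Bool :=
  Nat.beq x.a y.a && Nat.beq x.b y.b && Nat.beq x.c y.c

/-- Insert a monomial in a polynomial, merging with a monomial with the same exponents. -/
def Pl.ins (x : Tm) : Pl → Pl
  | [] => [x]
  | y :: ys =>
    bif Tm.same x y then
      (if x.k + y.k = 0 then ys else ⟨y.a, y.b, y.c, x.k + y.k⟩ :: ys)
    else bif Tm.lt x y then x :: y :: ys
    else y :: Pl.ins x ys

def Pl.add (p q : Pl) : Pl := p.foldr Pl.ins q

def Tm.mul (x y : Tm) : Tm := ⟨x.a + y.a, x.b + y.b, x.c + y.c, x.k * y.k⟩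

def Pl.mulTm (x : Tm) (q : Pl) : Pl := q.foldr (fun y acc => Pl.ins (Tm.mul x y) acc) []

def Pl.mul (p q : Pl) : Pl := p.foldr (fun x acc => Pl.add (Pl.mulTm x q) acc) []

def Pl.smul (k : ℤ) (p : Pl) : Pl := if k = 0 then [] else p.map fun x => ⟨x.a, x.b, x.c, k * x.k⟩

def Pl.const (k : ℤ) : Pl := if k = 0 then [] else [⟨0, 0, 0, k⟩]

def Pl.pow (p : Pl) : ℕ → Pl
  | 0 => [⟨0, 0, 0, 1⟩]
  | 1 => p
  | n + 1 => Pl.mul p (Pl.pow p n)

section evalLemmas
variable {F : Type*} [Field F] (t u v : F)

theorem Tm.same_eval {x y : Tm} (h : Tm.same x y = true) (r : ℤ) :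
    t ^ x.a * u ^ x.b * v ^ x.c = t ^ y.a * u ^ y.b * v ^ y.c := by
  simp only [Tm.same, Bool.and_eq_true, Nat.beq_eq] at h
  rw [h.1.1, h.1.2, h.2]

theorem Pl.eval_ins (x : Tm) (p : Pl) : Pl.eval t u v (Pl.ins x p) = Tm.eval t u v x + Pl.eval t u v p := by
  induction p with
  | nil => simp [Pl.ins]
  | cons y ys ih =>
    simp only [Pl.ins, Bool.cond_eq_ite]
    split_ifs with h1 h2 h3
    · have e := Tm.same_eval t u v h1 0
      have : Tm.eval t u v x + Tm.eval t u v y = 0 := by
        simp only [Tm.eval]
        have e2 : ((x.k : F) + (y.k : F)) = 0 := by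
          have := congrArg (Int.cast : ℤ → F) h2
          simpa using this
        calc (x.k : F) * t ^ x.a * u ^ x.b * v ^ x.c + (y.k : F) * t ^ y.a * u ^ y.b * v ^ y.c
            = (x.k : F) * (t ^ x.a * u ^ x.b * v ^ x.c) + (y.k : F) * (t ^ y.a * u ^ y.b * v ^ y.c) := by ring
          _ = ((x.k : F) + (y.k : F)) * (t ^ y.a * u ^ y.b * v ^ y.c) := by rw [e]; ring
          _ = 0 := by rw [e2, zero_mul]
      simp only [Pl.eval_cons]
      rw [← add_assoc, this, zero_add]
    · have e := Tm.same_eval t u v h1 0
      simp only [Pl.eval_cons, Tm.eval]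
      push_cast
      rw [← add_assoc]
      congr 1
      calc ((x.k : F) + (y.k : F)) * t ^ y.a * u ^ y.b * v ^ y.c
          = (x.k : F) * (t ^ y.a * u ^ y.b * v ^ y.c) + (y.k : F) * (t ^ y.a * u ^ y.b * v ^ y.c) := by ring
        _ = (x.k : F) * (t ^ x.a * u ^ x.b * v ^ x.c) + (y.k : F) * (t ^ y.a * u ^ y.b * v ^ y.c) := by rw [e]
        _ = _ := by ring
    · simp
    · simp only [Pl.eval_cons, ih]; ring

theorem Pl.eval_add (p q : Pl) : Pl.eval t u v (Pl.add p q) = Pl.eval t u v p + Pl.eval t u v q := by
  induction p with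
  | nil => simp [Pl.add]
  | cons x xs ih =>
    have : Pl.add (x :: xs) q = Pl.ins x (Pl.add xs q) := rfl
    rw [this, Pl.eval_ins, ih, Pl.eval_cons]; ring

theorem Tm.eval_mul (x y : Tm) : Tm.eval t u v (Tm.mul x y) = Tm.eval t u v x * Tm.eval t u v y := by
  simp only [Tm.eval, Tm.mul]; push_cast; ring

theorem Pl.eval_mulTm (x : Tm) (q : Pl) : Pl.eval t u v (Pl.mulTm x q) = Tm.eval t u v x * Pl.eval t u v q := by
  induction q with
  | nil => simp [Pl.mulTm]
  | cons y ys ih =>
    have : Pl.mulTm x (y :: ys) = Pl.ins (Tm.mul x y) (Pl.mulTm x ys) := rfl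
    rw [this, Pl.eval_ins, ih, Tm.eval_mul, Pl.eval_cons]; ring

theorem Pl.eval_mul (p q : Pl) : Pl.eval t u v (Pl.mul p q) = Pl.eval t u v p * Pl.eval t u v q := by
  induction p with
  | nil => simp [Pl.mul]
  | cons x xs ih =>
    have : Pl.mul (x :: xs) q = Pl.add (Pl.mulTm x q) (Pl.mul xs q) := rfl
    rw [this, Pl.eval_add, Pl.eval_mulTm, ih, Pl.eval_cons]; ring

theorem Pl.eval_smul (k : ℤ) (p : Pl) : Pl.eval t u v (Pl.smul k p) = (k : F) * Pl.eval t u v p := by
  unfold Pl.smul
  split_ifs with h
  · simp [h]
  · induction p with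
    | nil => simp
    | cons x xs ih =>
      simp only [List.map_cons, Pl.eval_cons, ih, Tm.eval]; push_cast; ring

theorem Pl.eval_const (k : ℤ) : Pl.eval t u v (Pl.const k) = (k : F) := by
  unfold Pl.const
  split_ifs with h
  · simp [h]
  · simp [Tm.eval]

theorem Pl.eval_pow (p : Pl) (n : ℕ) : Pl.eval t u v (Pl.pow p n) = (Pl.eval t u v p) ^ n := by
  induction n with
  | zero => simp [Pl.pow, Tm.eval]
  | succ n ih =>
    cases n with
    | zero => simp [Pl.pow]
    | succ m =>
      have : Pl.pow p (m + 1 + 1) = Pl.mul p (Pl.pow p (m + 1)) := rfl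
      rw [this, Pl.eval_mul, ih]; ring

end evalLemmas

/-! ### Sparse vectors -/

/-- Entries (code, polynomial), code `i` for `h_i` and `rank + s` for `e_s`. -/
abbrev SV := List (ℕ × Pl)

/-- cons dropping zero polynomials -/
def SV.cons0 (a : ℕ) : Pl → SV → SV
  | [], ys => ys
  | x :: xs, ys => (a, x :: xs) :: ys

/-- Add `q` times basis vector `a` to a sparse vector. -/
def SV.ins (a : ℕ) (q : Pl) : SV → SV
  | [] => [(a, q)]
  | y :: ys =>
    bif Nat.beq a y.1 then SV.cons0 a (Pl.add q y.2) ys
    else bif Nat.blt a y.1 then (a, q) :: y :: ys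
    else y :: SV.ins a q ys

def SV.add (v w : SV) : SV := v.foldr (fun e acc => SV.ins e.1 e.2 acc) w

def SV.scale (q : Pl) (v : SV) : SV := v.foldr (fun e acc => SV.cons0 e.1 (Pl.mul q e.2) acc) []

namespace _root_.Cfsg.Lie.ChevalleyDatum
end _root_.Cfsg.Lie.ChevalleyDatum

variable (D : ChevalleyDatum)

/-- Code of a coordinate index. -/
def code : D.Idx → ℕ
  | Sum.inl i => i.val
  | Sum.inr s => D.rank + s.val

theorem code_inj : Function.Injective (code D) := by
  intro i j h
  rcases i with i | i <;> rcases j with j | j <;> simp only [code] at h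
  · exact congrArg _ (Fin.ext h)
  · have := i.isLt; omega
  · have := j.isLt; omega
  · exact congrArg _ (Fin.ext (by omega))

section evalSV
variable {F : Type*} [Field F] (t u v : F)

/-- Evaluate a sparse vector: a function on coordinates -/
def SV.eval (w : SV) : D.Idx → F := fun i =>
  (w.map fun e => if code D i = e.1 then Pl.eval t u v e.2 else 0).sum

@[simp] theorem SV.eval_nil : SV.eval D t u v [] = 0 := rfl

theorem SV.eval_cons (e : ℕ × Pl) (w : SV) (i : D.Idx) :
    SV.eval D t u v (e :: w) i = (if code D i = e.1 then Pl.eval t u v e.2 else 0) + SV.eval D t u v w i := by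
  simp [SV.eval]

/-- The basis vector with code `a` (zero if `a` out of range). -/
def bas (a : ℕ) : D.Idx → F := fun i => if code D i = a then 1 else 0

theorem SV.eval_cons' (a : ℕ) (q : Pl) (w : SV) :
    SV.eval D t u v ((a, q) :: w) = Pl.eval t u v q • bas D a + SV.eval D t u v w := by
  funext i
  rw [SV.eval_cons]
  simp only [Pi.add_apply, Pi.smul_apply, bas, smul_eq_mul]
  split_ifs <;> simp

theorem SV.eval_cons0 (a : ℕ) (q : Pl) (w : SV) :
    SV.eval D t u v (SV.cons0 a q w) = Pl.eval t u v q • bas D a + SV.eval D t u v w := by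
  cases q with
  | nil => simp [SV.cons0]
  | cons x xs => simp only [SV.cons0]; rw [SV.eval_cons']

theorem SV.eval_ins (a : ℕ) (q : Pl) (w : SV) :
    SV.eval D t u v (SV.ins a q w) = Pl.eval t u v q • bas D a + SV.eval D t u v w := by
  induction w with
  | nil => simp [SV.ins, SV.eval_cons']
  | cons y ys ih =>
    obtain ⟨b, r⟩ := y
    simp only [SV.ins, Bool.cond_eq_ite]
    split_ifs with h1 h2
    · have hab : a = b := by simpa using h1
      subst hab
      rw [SV.eval_cons0, Pl.eval_add, SV.eval_cons', add_smul, add_assoc]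
    · simp [SV.eval_cons']
    · simp only [SV.eval_cons', ih]; abel

theorem SV.eval_add (w w' : SV) : SV.eval D t u v (SV.add w w') = SV.eval D t u v w + SV.eval D t u v w' := by
  induction w with
  | nil => simp [SV.add]
  | cons y ys ih =>
    obtain ⟨b, r⟩ := y
    have : SV.add ((b, r) :: ys) w' = SV.ins b r (SV.add ys w') := rfl
    rw [this, SV.eval_ins, ih, SV.eval_cons']; abel

theorem SV.eval_scale (q : Pl) (w : SV) : SV.eval D t u v (SV.scale q w) = Pl.eval t u v q • SV.eval D t u v w := by
  induction w with
  | nil => simp [SV.scale]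
  | cons y ys ih =>
    obtain ⟨b, r⟩ := y
    have e : SV.scale q ((b, r) :: ys) = SV.cons0 b (Pl.mul q r) (SV.scale q ys) := rfl
    rw [e, SV.eval_cons0, Pl.eval_mul, ih, SV.eval_cons', smul_add, smul_smul]

end evalSV

/-! ### Columns of `x_r(p)` -/

/-- sparse form of the part of the chain table for the column `s`. -/
def chainSV (r s : ℕ) (p : Pl) : SV :=
  ((D.chain.getD r #[]).toList.filter (fun e => e.1 = s)).flatMap fun e =>
    e.2.toList.zipIdx.map fun q => (D.rank + q.1.1, Pl.smul q.1.2 (Pl.pow p (q.2 + 1)))

/-- The column of `x_r(p)` with code `a`. -/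
def colX (r : ℕ) (p : Pl) (a : ℕ) : SV :=
  if Nat.blt a D.rank then
    [(a, Pl.const 1), (D.rank + r, Pl.smul (-((D.cartanSR.getD a #[]).getD r 0)) p)]
  else if Nat.blt (a - D.rank) D.nroots then
    let s := a - D.rank
    if s = r then [(a, Pl.const 1)]
    else if s = D.negIdx.getD r 0 then
      ((List.range D.rank).map fun i => (i, Pl.smul ((D.coroot.getD r #[]).getD i 0) p)) ++
        [(a, Pl.const 1), (D.rank + r, Pl.smul (-1) (Pl.pow p 2))]
    else (a, Pl.const 1) :: chainSV D r s p
  else []

variable {F : Type*} [Field F] (t u v : F)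

theorem code_inl (i : Fin D.rank) : code D (Sum.inl i) = i.val := rfl
theorem code_inr (s : Fin D.nroots) : code D (Sum.inr s) = D.rank + s.val := rfl

theorem eval_chainSV_inl (r s : ℕ) (p : Pl) (i : Fin D.rank) :
    SV.eval D t u v (chainSV D r s p) (Sum.inl i) = 0 := by
  unfold SV.eval
  apply List.sum_eq_zero
  intro x hx
  simp only [List.mem_map] at hx
  obtain ⟨e, he, rfl⟩ := hx
  rw [if_neg]
  simp only [chainSV, List.mem_flatMap, List.mem_map] at he
  obtain ⟨_, _, q, _, rfl⟩ := he
  simp only [code_inl]
  have := i.isLt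
  omega

theorem eval_chain_aux (p : Pl) (w : ℕ) (Z : List ((ℕ × ℤ) × ℕ)) :
    (List.map (fun e : ℕ × Pl => if D.rank + w = e.1 then Pl.eval t u v e.2 else 0)
      (List.map (fun q : (ℕ × ℤ) × ℕ => (D.rank + q.1.1, Pl.smul q.1.2 (Pl.pow p (q.2 + 1)))) Z)).sum =
    (List.map (fun km : ℕ × ℤ => ((km.2 : ℤ) : F) * (Pl.eval t u v p) ^ km.1)
      (List.map (fun q : (ℕ × ℤ) × ℕ => (q.2 + 1, q.1.2)) (List.filter (fun q => decide (q.1.1 = w)) Z))).sum := by
  induction Z with
  | nil => simp
  | cons q qs ih =>
    obtain ⟨⟨x, m⟩, n⟩ := q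
    by_cases hx : x = w
    · subst hx
      rw [List.filter_cons_of_pos (by simp)]
      simp only [List.map_cons, List.sum_cons]
      rw [ih, Pl.eval_smul, Pl.eval_pow]
      simp
    · have h2 : ¬ (D.rank + w = D.rank + x) := by omega
      rw [List.filter_cons_of_neg (by simpa using hx)]
      simp only [List.map_cons, List.sum_cons]
      rw [ih, if_neg h2, zero_add]

theorem eval_chainSV_inr (r s : ℕ) (p : Pl) (w : Fin D.nroots) :
    SV.eval D t u v (chainSV D r s p) (Sum.inr w) =
      ((D.chainCoeff r s w.val).map fun km => ((km.2 : ℤ) : F) * (Pl.eval t u v p) ^ km.1).sum := by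
  unfold chainSV SV.eval ChevalleyDatum.chainCoeff
  generalize ((D.chain.getD r #[]).toList.filter (fun e => e.1 = s)) = L
  induction L with
  | nil => simp
  | cons e es ih =>
    simp only [List.flatMap_cons, List.map_append, List.sum_append, ih]
    congr 1
    exact eval_chain_aux D t u v p w.val e.2.toList.zipIdx

theorem bas_code (j : D.Idx) : (bas D (code D j) : D.Idx → F) = Pi.single j 1 := by
  funext i
  simp only [bas, Pi.single_apply]
  by_cases h : i = j
  · simp [h]
  · rw [if_neg h, if_neg (fun e => h (code_inj D e))]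

theorem mulVec_bas_code (M : Matrix D.Idx D.Idx F) (j : D.Idx) (i : D.Idx) :
    (M *ᵥ bas D (code D j)) i = M i j := by
  rw [bas_code, Matrix.mulVec_single_one]; rfl

theorem bas_out (a : ℕ) (h : D.rank + D.nroots ≤ a) : (bas D a : D.Idx → F) = 0 := by
  funext i
  simp only [bas, Pi.zero_apply]
  rw [if_neg]
  rcases i with i | i
  · have := i.isLt; simp only [code_inl]; omega
  · have := i.isLt; simp only [code_inr]; omega

theorem x_eq (r : ℕ) (hr : r < D.nroots) (t : F) : D.x F r t = D.xMat F ⟨r, hr⟩ t := by
  simp [ChevalleyDatum.x, hr]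

theorem x_mulVec_bas (r : ℕ) (hr : r < D.nroots) (p : Pl) (a : ℕ) :
    D.x F r (Pl.eval t u v p) *ᵥ bas D a = SV.eval D t u v (colX D r p a) := by
  rw [x_eq D r hr]
  unfold colX
  by_cases ha : a < D.rank
  · rw [if_pos (by simpa using ha)]
    have hc : a = code D (Sum.inl ⟨a, ha⟩) := rfl
    funext i
    rw [hc, mulVec_bas_code, ← hc]
    rcases i with i | w
    · have h1 : ¬ (code D (Sum.inl i) = D.rank + r) := by
        have := i.isLt; simp only [code_inl]; omega
      simp only [ChevalleyDatum.xMat, Matrix.of_apply, SV.eval, List.map_cons, List.map_nil, List.sum_cons, List.sum_nil]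
      rw [if_neg h1, Pl.eval_const]
      by_cases h2 : i = ⟨a, ha⟩
      · rw [if_pos h2, if_pos (by rw [h2]; rfl)]; simp
      · have h3 : ¬ code D (Sum.inl i) = a := fun e => h2 (Fin.ext e)
        rw [if_neg h2, if_neg h3]; simp
    · have h1 : ¬ (code D (Sum.inr w) = a) := by
        simp only [code_inr]; omega
      simp only [ChevalleyDatum.xMat, Matrix.of_apply, SV.eval, List.map_cons, List.map_nil, List.sum_cons, List.sum_nil]
      rw [if_neg h1, zero_add, add_zero]
      by_cases hw : w = ⟨r, hr⟩
      · rw [if_pos hw, if_pos (by rw [hw]; rfl), Pl.eval_smul]; simp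
      · have h2 : ¬ (code D (Sum.inr w) = D.rank + r) := by
          simp only [code_inr]
          intro e
          exact hw (Fin.ext (by simp only; omega))
        rw [if_neg hw, if_neg h2]
  · rw [if_neg (by simpa using ha)]
    by_cases hb : a - D.rank < D.nroots
    · rw [if_pos (by simpa using hb)]
      have ha' : D.rank ≤ a := by omega
      have hc : a = code D (Sum.inr ⟨a - D.rank, hb⟩) := by simp only [code_inr]; omega
      funext i
      rw [hc, mulVec_bas_code, ← hc]
      simp only [ChevalleyDatum.xMat, Matrix.of_apply]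
      by_cases h1 : a - D.rank = r
      · have : (⟨a - D.rank, hb⟩ : Fin D.nroots) = ⟨r, hr⟩ := Fin.ext h1
        rw [if_pos this, if_pos h1]
        rcases i with i | w
        · have h2 : ¬ (code D (Sum.inl i) = a) := by
            have := i.isLt; simp only [code_inl]; omega
          simp only [SV.eval, List.map_cons, List.map_nil, List.sum_cons, List.sum_nil]
          rw [if_neg h2]; simp
        · simp only [SV.eval, List.map_cons, List.map_nil, List.sum_cons, List.sum_nil, Pl.eval_const]
          by_cases hw : w.val = r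
          · have h2 : code D (Sum.inr w) = a := by simp only [code_inr]; omega
            rw [if_pos (Fin.ext hw), if_pos h2]; simp
          · have h2 : ¬ code D (Sum.inr w) = a := by simp only [code_inr]; omega
            rw [if_neg (fun e => hw (by rw [e])), if_neg h2]; simp
      · have : (⟨a - D.rank, hb⟩ : Fin D.nroots) ≠ ⟨r, hr⟩ := fun e => h1 (congrArg Fin.val e)
        rw [if_neg this, if_neg h1]
        by_cases h2 : a - D.rank = D.negIdx.getD r 0
        · rw [if_pos h2, if_pos h2]
          rcases i with i | w
          · have h3 : ¬ (code D (Sum.inl i) = a) := by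
              have := i.isLt; simp only [code_inl]; omega
            have h4 : ¬ (code D (Sum.inl i) = D.rank + r) := by
              have := i.isLt; simp only [code_inl]; omega
            simp only [SV.eval, List.map_append, List.sum_append, List.map_cons, List.map_nil, List.sum_cons, List.sum_nil]
            rw [if_neg h3, if_neg h4]
            simp only [add_zero]
            have key : ∀ n, (i.val < n → ((List.map (fun e : ℕ × Pl => if code D (Sum.inl i) = e.1 then Pl.eval t u v e.2 else 0)
                  (List.map (fun i => (i, Pl.smul ((D.coroot.getD r #[]).getD i 0) p)) (List.range n))).sum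
                  = ((((D.coroot.getD r #[]).getD i.val 0 : ℤ) : F)) * Pl.eval t u v p)) ∧
                  (n ≤ i.val → ((List.map (fun e : ℕ × Pl => if code D (Sum.inl i) = e.1 then Pl.eval t u v e.2 else 0)
                  (List.map (fun i => (i, Pl.smul ((D.coroot.getD r #[]).getD i 0) p)) (List.range n))).sum = 0)) := by
              intro n
              induction n with
              | zero => simp
              | succ n ih =>
                simp only [List.range_succ, List.map_append, List.map_cons, List.map_nil, List.sum_append, List.sum_cons, List.sum_nil, add_zero]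
                constructor
                · intro hlt
                  by_cases hin : i.val = n
                  · have h5 : code D (Sum.inl i) = n := hin
                    rw [ih.2 (by omega), if_pos h5, ← hin, Pl.eval_smul]; simp
                  · have h5 : ¬ code D (Sum.inl i) = n := hin
                    rw [ih.1 (by omega), if_neg h5]; simp
                · intro hle
                  have h5 : ¬ code D (Sum.inl i) = n := by simp only [code_inl]; omega
                  rw [ih.2 (by omega), if_neg h5]; simp
            rw [(key D.rank).1 i.isLt]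
          · simp only [SV.eval, List.map_append, List.sum_append, List.map_cons, List.map_nil, List.sum_cons, List.sum_nil, add_zero]
            have h0 : (List.map (fun e : ℕ × Pl => if code D (Sum.inr w) = e.1 then Pl.eval t u v e.2 else 0)
                  (List.map (fun i => (i, Pl.smul ((D.coroot.getD r #[]).getD i 0) p)) (List.range D.rank))).sum = 0 := by
              apply List.sum_eq_zero
              intro x hx
              simp only [List.mem_map, List.mem_range] at hx
              obtain ⟨e, ⟨i, hi, rfl⟩, rfl⟩ := hx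
              rw [if_neg]
              simp only [code_inr]
              omega
            rw [h0, zero_add]
            by_cases hw : w.val = a - D.rank
            · have hw' : w = ⟨a - D.rank, hb⟩ := Fin.ext hw
              have h5 : code D (Sum.inr w) = a := by simp only [code_inr]; omega
              have h6 : ¬ (code D (Sum.inr w) = D.rank + r) := by simp only [code_inr]; omega
              rw [if_pos hw', if_pos h5, if_neg h6, Pl.eval_const]; simp
            · have hw' : w ≠ ⟨a - D.rank, hb⟩ := fun e => hw (by rw [e])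
              have h5 : ¬ code D (Sum.inr w) = a := by simp only [code_inr]; omega
              rw [if_neg hw', if_neg h5]
              by_cases hwr : w.val = r
              · have hwr' : w = ⟨r, hr⟩ := Fin.ext hwr
                have h6 : (code D (Sum.inr w) = D.rank + r) := by simp only [code_inr]; omega
                rw [if_pos hwr', if_pos h6, Pl.eval_smul, Pl.eval_pow]; simp
              · have hwr' : w ≠ ⟨r, hr⟩ := fun e => hwr (by rw [e])
                have h6 : ¬ (code D (Sum.inr w) = D.rank + r) := by simp only [code_inr]; omega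
                rw [if_neg hwr', if_neg h6]; simp
        · rw [if_neg h2, if_neg h2]
          rcases i with i | w
          · rw [SV.eval_cons, eval_chainSV_inl]
            have h3 : ¬ (code D (Sum.inl i) = a) := by
              have := i.isLt; simp only [code_inl]; omega
            simp only []
            rw [if_neg h3]; simp
          · rw [SV.eval_cons, eval_chainSV_inr]
            simp only [Pl.eval_const]
            congr 1
            by_cases hw : w.val = a - D.rank
            · have hw' : w = ⟨a - D.rank, hb⟩ := Fin.ext hw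
              have h5 : code D (Sum.inr w) = a := by simp only [code_inr]; omega
              rw [if_pos hw', if_pos h5]; simp
            · have hw' : w ≠ ⟨a - D.rank, hb⟩ := fun e => hw (by rw [e])
              have h5 : ¬ code D (Sum.inr w) = a := by simp only [code_inr]; omega
              rw [if_neg hw', if_neg h5]
    · rw [if_neg (by simpa using hb), bas_out D a (by omega)]
      simp

/-- applying `x_r(p)` to a sparse vector. -/
def applyX (r : ℕ) (p : Pl) (w : SV) : SV :=
  if Nat.blt r D.nroots then
    w.foldr (fun e acc => SV.add (SV.scale e.2 (colX D r p e.1)) acc) []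
  else w

theorem x_mulVec_eval (r : ℕ) (p : Pl) (w : SV) :
    D.x F r (Pl.eval t u v p) *ᵥ SV.eval D t u v w = SV.eval D t u v (applyX D r p w) := by
  unfold applyX
  by_cases hr : r < D.nroots
  · rw [if_pos (by simpa using hr)]
    induction w with
    | nil => simp
    | cons y ys ih =>
      obtain ⟨b, q⟩ := y
      rw [SV.eval_cons', Matrix.mulVec_add, Matrix.mulVec_smul, ih, x_mulVec_bas D t u v r hr p b]
      have : (List.foldr (fun (e : ℕ × Pl) acc => SV.add (SV.scale e.2 (colX D r p e.1)) acc) [] ((b, q) :: ys))
          = SV.add (SV.scale q (colX D r p b)) (List.foldr (fun (e : ℕ × Pl) acc => SV.add (SV.scale e.2 (colX D r p e.1)) acc) [] ys) := rfl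
      rw [this, SV.eval_add, SV.eval_scale]
  · rw [if_neg (by simpa using hr)]
    simp [ChevalleyDatum.x, hr]

/-- a symbolic word. -/
abbrev SWord := List (ℕ × Pl)

/-- evaluate a symbolic word to a word over `F`. -/
def SWord.eval (w : SWord) : List (ℕ × F) := w.map fun e => (e.1, Pl.eval t u v e.2)

/-- Apply a word to a sparse vector -/
def applyWord (w : SWord) (x : SV) : SV := w.foldr (fun e acc => applyX D e.1 e.2 acc) x

theorem word_mulVec_eval (w : SWord) (x : SV) :
    D.wordMat F (SWord.eval t u v w) *ᵥ SV.eval D t u v x = SV.eval D t u v (applyWord D w x) := by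
  induction w with
  | nil =>
    simp [ChevalleyDatum.wordMat, SWord.eval, applyWord]
  | cons y ys ih =>
    obtain ⟨r, p⟩ := y
    have e1 : D.wordMat F (SWord.eval t u v ((r, p) :: ys)) = D.x F r (Pl.eval t u v p) * D.wordMat F (SWord.eval t u v ys) := by
      simp [ChevalleyDatum.wordMat, SWord.eval]
    have e2 : applyWord D ((r, p) :: ys) x = applyX D r p (applyWord D ys x) := rfl
    rw [e1, ← Matrix.mulVec_mulVec, ih, x_mulVec_eval, e2]

/-- basis vector as a sparse vector. -/
def SV.basis (a : ℕ) : SV := [(a, Pl.const 1)]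

theorem SV.eval_basis (a : ℕ) : SV.eval D t u v (SV.basis a) = bas D a := by
  unfold SV.basis
  rw [SV.eval_cons', Pl.eval_const]; simp

/-- Two matrices are equal when they agree on all basis vectors `bas (code j)`. -/
theorem matrix_ext_bas (M N : Matrix D.Idx D.Idx F) (h : ∀ a < D.rank + D.nroots, M *ᵥ bas D a = N *ᵥ bas D a) : M = N := by
  ext i j
  have hj : code D j < D.rank + D.nroots := by
    rcases j with j | j
    · have := j.isLt; simp only [code_inl]; omega
    · have := j.isLt; simp only [code_inr]; omega
  have := congrFun (h (code D j) hj) i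
  rwa [mulVec_bas_code, mulVec_bas_code] at this

/-- check that two words agree on all columns -/
def checkWords (w₁ w₂ : SWord) : Bool :=
  (List.range (D.rank + D.nroots)).all fun a =>
    decide (applyWord D w₁ (SV.basis a) = applyWord D w₂ (SV.basis a))

theorem wordMat_eq_of_check (w₁ w₂ : SWord) (h : checkWords D w₁ w₂ = true) :
    D.wordMat F (SWord.eval t u v w₁) = D.wordMat F (SWord.eval t u v w₂) := by
  apply matrix_ext_bas
  intro a ha
  simp only [checkWords, List.all_eq_true, List.mem_range, decide_eq_true_eq] at h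
  rw [← SV.eval_basis D t u v, word_mulVec_eval, word_mulVec_eval, h a ha]

end Cfsg.Agent.Lib.ChevEngine
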