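import Cfsg.Agent.Lib.ChevValid

/-! Root elements as elements of the general linear group. -/

set_option autoImplicit false

namespace Cfsg.Agent.Lib.ChevGL

open Cfsg.Lie Matrix Cfsg.Agent.Lib.ChevEngine Cfsg.Agent.Lib.ChevTab Cfsg.Agent.Lib.ChevMono
  Cfsg.Agent.Lib.ChevRel Cfsg.Agent.Lib.ChevValid

variable {D : ChevalleyDatum} {T : Tb} {F : Type*} [Field F]

theorem Valid.x_add' (V : Valid D T) (r : ℕ) (t u : F) : D.x F r t * D.x F r u = D.x F r (t + u) := by
  by_cases hr : r < D.nroots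
  · exact V.x_add hr t u
  · simp [ChevalleyDatum.x, hr]

/-- `x_r(t)` as a unit. -/
noncomputable def xU (V : Valid D T) (r : ℕ) (t : F) : GL D.Idx F where
  val := D.x F r t
  inv := D.x F r (-t)
  val_inv := by rw [Valid.x_add' V, add_neg_cancel, V.x_zero]
  inv_val := by rw [Valid.x_add' V, neg_add_cancel, V.x_zero]

variable (V : Valid D T)
include V

@[simp] theorem xU_val (r : ℕ) (t : F) : ((xU V r t : GL D.Idx F) : Matrix D.Idx D.Idx F) = D.x F r t := rfl

theorem eq_xU {g : GL D.Idx F} {r : ℕ} {t : F} (h : (g : Matrix D.Idx D.Idx F) = D.x F r t) : g = xU V r t :=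
  Units.ext h

theorem xU_mul (r : ℕ) (t u : F) : xU V r t * xU V r u = xU V r (t + u) :=
  Units.ext (Valid.x_add' V r t u)

@[simp] theorem xU_zero (r : ℕ) : xU V r (0 : F) = 1 := Units.ext (V.x_zero r)

theorem xU_inv (r : ℕ) (t : F) : (xU V r t)⁻¹ = xU V r (-t) :=
  inv_eq_of_mul_eq_one_right (by rw [xU_mul, add_neg_cancel, xU_zero])

/-- a word as a unit -/
noncomputable def wordU (V : Valid D T) (L : List (ℕ × F)) : GL D.Idx F := (L.map fun e => xU V e.1 e.2).prod

@[simp] theorem wordU_nil : wordU V ([] : List (ℕ × F)) = 1 := rfl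

@[simp] theorem wordU_cons (e : ℕ × F) (L : List (ℕ × F)) : wordU V (e :: L) = xU V e.1 e.2 * wordU V L := by
  simp [wordU]

theorem wordU_append (L L' : List (ℕ × F)) : wordU V (L ++ L') = wordU V L * wordU V L' := by
  simp [wordU]

theorem wordU_val (L : List (ℕ × F)) : ((wordU V L : GL D.Idx F) : Matrix D.Idx D.Idx F) = D.wordMat F L := by
  induction L with
  | nil => simp [ChevalleyDatum.wordMat]
  | cons e L ih =>
    rw [wordU_cons, Units.val_mul, ih]
    simp [ChevalleyDatum.wordMat]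

theorem eq_wordU {g : GL D.Idx F} {L : List (ℕ × F)} (h : (g : Matrix D.Idx D.Idx F) = D.wordMat F L) : g = wordU V L :=
  Units.ext (h.trans (wordU_val V L).symm)

/-- `n_r(t)` as a unit -/
noncomputable def nU (V : Valid D T) (r : ℕ) (t : F) : GL D.Idx F := wordU V (D.nWord r t)

/-- `h_r(t)` as a unit -/
noncomputable def hU (V : Valid D T) (r : ℕ) (t : F) : GL D.Idx F := wordU V (D.hWord r t)

@[simp] theorem nU_val (r : ℕ) (t : F) : ((nU V r t : GL D.Idx F) : Matrix D.Idx D.Idx F) = D.nMat F r t :=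
  wordU_val V _

@[simp] theorem hU_val (r : ℕ) (t : F) : ((hU V r t : GL D.Idx F) : Matrix D.Idx D.Idx F) = D.hMat F r t :=
  wordU_val V _

theorem nU_eq (r : ℕ) (t : F) : nU V r t = xU V r t * xU V (D.neg r) (-t⁻¹) * xU V r t := by
  simp [nU, ChevalleyDatum.nWord, mul_assoc]

theorem hU_eq (r : ℕ) (t : F) : hU V r t = nU V r t * nU V r (-1) := by
  simp only [hU, nU, ChevalleyDatum.hWord, wordU_append]

theorem nU_inv (r : ℕ) (t : F) : (nU V r t)⁻¹ = nU V r (-t) := by
  simp only [nU_eq, _root_.mul_inv_rev, xU_inv, inv_neg, neg_neg, mul_assoc]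

/-- conjugation by a fundamental `n_p` -/
theorem nU_conj {i s : ℕ} (hi : i < D.rank) (hs : s < D.nroots) (t : F) :
    nU V (D.simple i) 1 * xU V s t = xU V (T.refl i s) (((T.eps i s : ℤ) : F) * t) * nU V (D.simple i) 1 := by
  apply Units.ext
  simp only [Units.val_mul, nU_val, xU_val]
  have := V.conj_simple hi hs t
  rwa [V.reflectRoot_eq hi hs] at this

theorem nU_conj' {i s : ℕ} (hi : i < D.rank) (hs : s < D.nroots) (t : F) :
    nU V (D.simple i) 1 * xU V s t * (nU V (D.simple i) 1)⁻¹ = xU V (T.refl i s) (((T.eps i s : ℤ) : F) * t) := by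
  rw [nU_conj V hi hs, mul_inv_cancel_right]

theorem cfU {r s : ℕ} (hr : r < D.nroots) (hs : s < D.nroots) (h1 : s ≠ r) (h2 : s ≠ D.neg r) (t u : F) :
    xU V s u * xU V r t = xU V r t * xU V s u * wordU V (D.commWord F r s t u) := by
  apply Units.ext
  simp only [Units.val_mul, xU_val, wordU_val]
  exact V.cf hr hs h1 h2 t u

/-! ### Subgroups in terms of units -/

theorem rootSubgroup_eq (r : ℕ) :
    D.rootSubgroup F r = Subgroup.closure (Set.range (xU V r) : Set (GL D.Idx F)) := by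
  unfold ChevalleyDatum.rootSubgroup
  congr 1
  ext g
  constructor
  · rintro ⟨t, ht⟩
    exact ⟨t, (eq_xU V ht).symm⟩
  · rintro ⟨t, rfl⟩
    exact ⟨t, rfl⟩

theorem mem_rootSubgroup {r : ℕ} {g : GL D.Idx F} : g ∈ D.rootSubgroup F r ↔ ∃ t, g = xU V r t := by
  rw [rootSubgroup_eq V]
  constructor
  · intro h
    induction h using Subgroup.closure_induction with
    | mem x hx =>
      obtain ⟨t, rfl⟩ := hx
      exact ⟨t, rfl⟩
    | one => exact ⟨0, (xU_zero V r).symm⟩
    | mul x y _ _ hx hy =>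
      obtain ⟨a, rfl⟩ := hx
      obtain ⟨b, rfl⟩ := hy
      exact ⟨a + b, xU_mul V r a b⟩
    | inv x _ hx =>
      obtain ⟨a, rfl⟩ := hx
      exact ⟨-a, xU_inv V r a⟩
  · rintro ⟨t, rfl⟩
    exact Subgroup.subset_closure ⟨t, rfl⟩

theorem group_eq : D.group F = Subgroup.closure {g | ∃ (r : ℕ) (t : F), r < D.nroots ∧ g = xU V r t} := by
  unfold ChevalleyDatum.group
  congr 1
  ext g
  constructor
  · rintro ⟨r, t, h⟩
    refine ⟨r.val, t, r.isLt, eq_xU V ?_⟩
    rw [h]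
    simp [ChevalleyDatum.x]
  · rintro ⟨r, t, hr, rfl⟩
    refine ⟨⟨r, hr⟩, t, ?_⟩
    simp [ChevalleyDatum.x, hr]

theorem xU_mem_group {r : ℕ} (hr : r < D.nroots) (t : F) : xU V r t ∈ D.group F := by
  rw [group_eq V]
  exact Subgroup.subset_closure ⟨r, t, hr, rfl⟩

theorem wordU_mem_group (L : List (ℕ × F)) (hL : ∀ e ∈ L, e.1 < D.nroots) : wordU V L ∈ D.group F := by
  induction L with
  | nil => simp
  | cons e L ih =>
    rw [wordU_cons]
    exact Subgroup.mul_mem _ (xU_mem_group V (hL e (by simp)) _) (ih fun x hx => hL x (List.mem_cons_of_mem _ hx))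

theorem posUnipotent_eq : D.posUnipotent F = Subgroup.closure {g | ∃ (r : ℕ) (t : F), D.IsPosRoot r ∧ g = xU V r t} := by
  unfold ChevalleyDatum.posUnipotent
  congr 1
  ext g
  constructor
  · rintro ⟨r, t, hr, h⟩
    exact ⟨r, t, hr, eq_xU V h⟩
  · rintro ⟨r, t, hr, rfl⟩
    exact ⟨r, t, hr, rfl⟩

theorem negUnipotent_eq : D.negUnipotent F = Subgroup.closure {g | ∃ (r : ℕ) (t : F), D.IsNegRoot r ∧ g = xU V r t} := by
  unfold ChevalleyDatum.negUnipotent
  congr 1
  ext g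
  constructor
  · rintro ⟨r, t, hr, h⟩
    exact ⟨r, t, hr, eq_xU V h⟩
  · rintro ⟨r, t, hr, rfl⟩
    exact ⟨r, t, hr, rfl⟩

theorem diagonalSubgroup_eq : D.diagonalSubgroup F =
    Subgroup.closure {g | ∃ (r : ℕ) (t : F), r < D.nroots ∧ t ≠ 0 ∧ g = hU V r t} := by
  unfold ChevalleyDatum.diagonalSubgroup
  congr 1
  ext g
  constructor
  · rintro ⟨r, t, hr, ht, h⟩
    exact ⟨r, t, hr, ht, eq_wordU V h⟩
  · rintro ⟨r, t, hr, ht, rfl⟩
    exact ⟨r, t, hr, ht, hU_val V r t⟩

theorem monomialSubgroup_eq : D.monomialSubgroup F =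
    D.diagonalSubgroup F ⊔ Subgroup.closure {g | ∃ r : ℕ, r < D.nroots ∧ g = nU V r 1} := by
  unfold ChevalleyDatum.monomialSubgroup
  congr 2
  ext g
  constructor
  · rintro ⟨r, hr, h⟩
    exact ⟨r, hr, eq_wordU V h⟩
  · rintro ⟨r, hr, rfl⟩
    exact ⟨r, hr, nU_val V r 1⟩

end Cfsg.Agent.Lib.ChevGL
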