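import Cfsg.Agent.Lib.ChevGL

/-! Gradings: additive functions on roots and triangular matrices. -/

set_option autoImplicit false

namespace Cfsg.Agent.Lib.ChevGrad

open Cfsg.Lie Matrix Cfsg.Agent.Lib.ChevEngine Cfsg.Agent.Lib.ChevTab Cfsg.Agent.Lib.ChevMono
  Cfsg.Agent.Lib.ChevRel Cfsg.Agent.Lib.ChevValid Cfsg.Agent.Lib.ChevGL

/-- Sum over an initial segment, kernel friendly -/
noncomputable def sumBelow (l : ℕ) (f : ℕ → ℤ) : ℤ :=
  Nat.rec (motive := fun _ => ℤ) 0 (fun i ih => f i + ih) l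

theorem sumBelow_eq (l : ℕ) (f : ℕ → ℤ) : sumBelow l f = ∑ i ∈ Finset.range l, f i := by
  induction l with
  | zero => rfl
  | succ l ih =>
    show f l + sumBelow l f = _
    rw [ih, Finset.sum_range_succ, add_comm]

/-- Grading of roots. -/
structure IsGrading (T : Tb) (gr : ℕ → ℤ) : Prop where
  neg : ∀ r < T.n, gr (T.neg r) = - gr r
  chain : ∀ r < T.n, ∀ c, ∀ k (hk : k < (T.ch r c).length), gr (T.ch r c)[k].1 = gr c + (k + 1) * gr r

variable {D : ChevalleyDatum} {T : Tb} {F : Type*} [Field F]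

/-- The grading on coordinates. -/
def gI (D : ChevalleyDatum) (gr : ℕ → ℤ) : D.Idx → ℤ
  | Sum.inl _ => 0
  | Sum.inr s => gr s.val

/-- matrix raising the grading by at least `m`. -/
def Raises (gr : ℕ → ℤ) (m : ℤ) (A : Matrix D.Idx D.Idx F) : Prop :=
  ∀ a b, A a b ≠ 0 → gI D gr b + m ≤ gI D gr a

section raises
variable {gr : ℕ → ℤ}

theorem Raises.mono {m m' : ℤ} {A : Matrix D.Idx D.Idx F} (h : Raises gr m A) (hm : m' ≤ m) : Raises gr m' A :=
  fun a b hab => by have := h a b hab; omega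

theorem Raises.mul {m m' : ℤ} {A B : Matrix D.Idx D.Idx F} (h : Raises gr m A) (h' : Raises gr m' B) :
    Raises gr (m + m') (A * B) := by
  intro a b hab
  rw [Matrix.mul_apply] at hab
  obtain ⟨c, _, hc⟩ := Finset.exists_ne_zero_of_sum_ne_zero hab
  have h1 := h a c (left_ne_zero_of_mul hc)
  have h2 := h' c b (right_ne_zero_of_mul hc)
  omega

theorem Raises.add {m : ℤ} {A B : Matrix D.Idx D.Idx F} (h : Raises gr m A) (h' : Raises gr m B) :
    Raises gr m (A + B) := by
  intro a b hab
  rw [Matrix.add_apply] at hab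
  by_cases h1 : A a b = 0
  · rw [h1, zero_add] at hab
    exact h' a b hab
  · exact h a b h1

theorem Raises.neg {m : ℤ} {A : Matrix D.Idx D.Idx F} (h : Raises gr m A) : Raises gr m (-A) := by
  intro a b hab
  rw [Matrix.neg_apply, neg_ne_zero] at hab
  exact h a b hab

theorem Raises.sub {m : ℤ} {A B : Matrix D.Idx D.Idx F} (h : Raises gr m A) (h' : Raises gr m B) :
    Raises gr m (A - B) := by
  rw [sub_eq_add_neg]
  exact h.add h'.neg

theorem raises_zero (m : ℤ) : Raises gr m (0 : Matrix D.Idx D.Idx F) := by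
  intro a b hab
  simp at hab

theorem Raises.pow {m : ℤ} {A : Matrix D.Idx D.Idx F} (h : Raises gr m A) (hm : 0 ≤ m) (k : ℕ) (hk : 0 < k) :
    Raises gr (k * m) (A ^ k) := by
  induction k with
  | zero => omega
  | succ k ih =>
    cases k with
    | zero => simpa using h
    | succ k =>
      have := ih (by omega)
      rw [pow_succ]
      have h2 := this.mul h
      have e : ((k + 1 + 1 : ℕ) : ℤ) * m = ((k + 1 : ℕ) : ℤ) * m + m := by push_cast; ring
      rw [e]
      exact h2

/-- The triangular property of a unit. -/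
def IsTri (gr : ℕ → ℤ) (m : ℤ) (g : GL D.Idx F) : Prop := Raises gr m ((g : Matrix D.Idx D.Idx F) - 1)

theorem isTri_one (m : ℤ) : IsTri gr m (1 : GL D.Idx F) := by
  unfold IsTri
  simp only [Units.val_one, sub_self]
  exact raises_zero m

theorem IsTri.mul {m : ℤ} (hm : 0 ≤ m) {g h : GL D.Idx F} (h1 : IsTri gr m g) (h2 : IsTri gr m h) : IsTri gr m (g * h) := by
  unfold IsTri at *
  have e : ((g * h : GL D.Idx F) : Matrix D.Idx D.Idx F) - 1 =
      ((g : Matrix D.Idx D.Idx F) - 1) * ((h : Matrix D.Idx D.Idx F) - 1) + ((g : Matrix D.Idx D.Idx F) - 1) + ((h : Matrix D.Idx D.Idx F) - 1) := by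
    rw [Units.val_mul]
    noncomm_ring
  rw [e]
  exact ((h1.mul h2).mono (by omega)).add h1 |>.add h2

theorem IsTri.mono {m m' : ℤ} {g : GL D.Idx F} (h : IsTri gr m g) (hm : m' ≤ m) : IsTri gr m' g :=
  Raises.mono h hm

end raises

/-! ### Columns as entries -/

theorem bas_apply_ne {c : ℕ} {a : D.Idx} (h : (bas D c : D.Idx → F) a ≠ 0) : code D a = c := by
  by_contra h2
  exact h (by simp [bas, h2])

theorem cv_support (k : ℕ) (L : List (ℕ × ℤ)) (t : F) (a : D.Idx) (h : cv D T k L t a ≠ 0) :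
    ∃ (j : ℕ) (hj : j < L.length), code D a = T.l + L[j].1 := by
  induction L generalizing k with
  | nil => simp [cv] at h
  | cons e L ih =>
    simp only [cv, Pi.add_apply, Pi.smul_apply, smul_eq_mul] at h
    by_cases h1 : (bas D (T.l + e.1) : D.Idx → F) a = 0
    · rw [h1, mul_zero, zero_add] at h
      obtain ⟨j, hj, h2⟩ := ih (k + 1) h
      exact ⟨j + 1, by simpa using hj, by simpa using h2⟩
    · exact ⟨0, by simp, by simpa using bas_apply_ne h1⟩

theorem hv_support (c : ℕ → ℤ) (a : D.Idx) (h : (hv D T c : D.Idx → F) a ≠ 0) (hl : T.l = D.rank) : ∃ i, a = Sum.inl i := by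
  rcases a with i | w
  · exact ⟨i, rfl⟩
  · rw [hv_inr hl] at h
    exact absurd rfl h

/-- `x_r(t) - 1` raises the grading by `gr r` for `gr r > 0`. -/
theorem x_raises (V : Valid D T) {gr : ℕ → ℤ} (hg : IsGrading T gr) {r : ℕ} (hr : r < D.nroots) (hp : 0 ≤ gr r) (t : F) :
    Raises gr (gr r) (D.x F r t - 1) := by
  have hr' : r < T.n := by rw [V.hn]; exact hr
  have hl := V.hl
  have hn := V.hn
  intro a b hab
  have key : ∀ (y : D.Idx → F), D.x F r t *ᵥ bas D (code D b) = bas D (code D b) + y → (D.x F r t - 1) a b = y a := by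
    intro y hy
    have h1 := congrFun hy a
    rw [mulVec_bas_code] at h1
    simp only [Pi.add_apply] at h1
    rw [Matrix.sub_apply, h1, bas_code]
    simp only [Matrix.one_apply, Pi.single_apply]
    ring
  have hb_cases : (∃ j : ℕ, j < T.l ∧ code D b = j ∧ gI D gr b = 0) ∨ (∃ s : ℕ, s < T.n ∧ code D b = T.l + s ∧ gI D gr b = gr s) := by
    rcases b with j | s
    · left; exact ⟨j.val, by rw [hl]; exact j.isLt, rfl, rfl⟩
    · right; exact ⟨s.val, by rw [hn]; exact s.isLt, by simp [code_inr, hl], rfl⟩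
  have ha_e : ∀ {u : ℕ}, code D a = T.l + u → gI D gr a = gr u := by
    intro u hu
    rcases a with i | w
    · have := i.isLt
      simp only [code_inl] at hu
      omega
    · simp only [code_inr] at hu
      have : w.val = u := by omega
      simp only [gI]
      rw [this]
  rcases hb_cases with ⟨j, hj, hcj, hgj⟩ | ⟨s, hs, hcs, hgs⟩
  · -- h column
    rw [key ((-((T.ca j r : ℤ) : F) * t) • bas D (T.l + r)) (by rw [hcj, x_col_h V.hT r hr' t j hj])] at hab
    simp only [Pi.smul_apply, smul_eq_mul] at hab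
    have h1 := bas_apply_ne (right_ne_zero_of_mul hab)
    rw [hgj, ha_e h1]
    omega
  · rw [hgs]
    by_cases h1 : s = r
    · subst h1
      rw [key 0 (by rw [hcs, x_col_s V.hT s hr' t]; simp)] at hab
      simp at hab
    · by_cases h2 : s = T.neg r
      · subst h2
        rw [key (t • hv D T (T.co r) + (-t ^ 2) • bas D (T.l + r))
          (by rw [hcs, x_col_n V.hT r hr' t (V.neg_ne hr') (V.neg_lt hr'), add_assoc])] at hab
        rw [hg.neg r hr']
        simp only [Pi.add_apply, Pi.smul_apply, smul_eq_mul] at hab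
        by_cases h3 : (bas D (T.l + r) : D.Idx → F) a = 0
        · rw [h3, mul_zero, add_zero] at hab
          obtain ⟨i, rfl⟩ := hv_support _ a (right_ne_zero_of_mul hab) hl
          simp [gI]
        · rw [ha_e (bas_apply_ne h3)]
          omega
      · rw [key (cv D T 0 (T.ch r s) t) (by rw [hcs, x_col_c V.hT r hr' t s hs h1 h2])] at hab
        obtain ⟨j, hj, h3⟩ := cv_support _ _ _ _ hab
        rw [ha_e h3, hg.chain r hr' s j hj]
        have : (0 : ℤ) ≤ j := by positivity
        nlinarith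

theorem xU_isTri (V : Valid D T) {gr : ℕ → ℤ} (hg : IsGrading T gr) {r : ℕ} (hr : r < D.nroots) (hp : 0 ≤ gr r) (t : F) :
    IsTri gr (gr r) (xU V r t) := x_raises V hg hr hp t

/-- Elements of a subgroup generated by root elements with large grading are triangular. -/
theorem closure_isTri (V : Valid D T) {gr : ℕ → ℤ} (hg : IsGrading T gr) {m : ℤ} (hm : 0 ≤ m) (P : ℕ → Prop)
    (hP : ∀ r, P r → r < D.nroots ∧ m ≤ gr r) {g : GL D.Idx F}
    (hgm : g ∈ Subgroup.closure {g : GL D.Idx F | ∃ (r : ℕ) (t : F), P r ∧ g = xU V r t}) : IsTri gr m g := by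
  induction hgm using Subgroup.closure_induction_right with
  | one => exact isTri_one m
  | mul_right x _ y hy hx =>
    obtain ⟨r, t, hr, rfl⟩ := hy
    obtain ⟨h1, h2⟩ := hP r hr
    exact IsTri.mul hm hx ((xU_isTri V hg h1 (by omega) t).mono h2)
  | mul_inv_cancel x _ y hy hx =>
    obtain ⟨r, t, hr, rfl⟩ := hy
    obtain ⟨h1, h2⟩ := hP r hr
    rw [xU_inv]
    exact IsTri.mul hm hx ((xU_isTri V hg h1 (by omega) (-t)).mono h2)

end Cfsg.Agent.Lib.ChevGrad
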