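import Cfsg.Agent.Lib.ChevV3

/-! The elements `h_r(t)` are diagonal. -/

set_option autoImplicit false

namespace Cfsg.Agent.Lib.ChevH

open Cfsg.Lie Matrix Cfsg.Agent.Lib.ChevEngine Cfsg.Agent.Lib.ChevTab Cfsg.Agent.Lib.ChevMono
  Cfsg.Agent.Lib.ChevRel Cfsg.Agent.Lib.ChevValid Cfsg.Agent.Lib.ChevGL Cfsg.Agent.Lib.ChevGrad Cfsg.Agent.Lib.ChevL2
  Cfsg.Agent.Lib.ChevU Cfsg.Agent.Lib.ChevU2 Cfsg.Agent.Lib.ChevU3 Cfsg.Agent.Lib.ChevDiag Cfsg.Agent.Lib.ChevV3

variable {D : ChevalleyDatum} {T : Tb} {C : Tc} {X : Tc3} {F : Type*} [Field F]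

/-- The Cartan integer `⟨r^∨, s⟩`. -/
noncomputable def aa (T : Tb) (r s : ℕ) : ℤ := ∑ m ∈ Finset.range T.l, T.co r m * T.ca m s

/-- The coordinate grading. -/
noncomputable def cG (T : Tb) (C : Tc) (i : ℕ) : ℕ → ℤ := grOf T C fun k => if k = i then 1 else 0

/-- The grading by the Cartan integers. -/
noncomputable def aG (T : Tb) (C : Tc) (r : ℕ) : ℕ → ℤ := grOf T C fun k => aa T r (T.sim k)

theorem cG_eq {i : ℕ} (hi : i < T.l) (s : ℕ) : cG T C i s = C.coef s i := by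
  unfold cG grOf
  rw [Finset.sum_eq_single i]
  · simp
  · intro b _ hb
    simp [hb]
  · intro h
    exact absurd (by simpa using hi) h

section
variable (V : Valid D T) (V2 : Valid2 D T C) (V3 : Valid3 T C X)
include V3

theorem aG_eq (r : ℕ) {s : ℕ} (hs : s < T.n) : aG T C r s = aa T r s := by
  unfold aG grOf aa
  have e : ∀ m ∈ Finset.range T.l, T.co r m * T.ca m s =
      ∑ k ∈ Finset.range T.l, T.co r m * (C.coef s k * T.ca m (T.sim k)) := by
    intro m hm
    rw [V3.ca_lin (by simpa using hm) hs, Finset.mul_sum]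
  rw [Finset.sum_congr rfl e, Finset.sum_comm]
  apply Finset.sum_congr rfl
  intro k _
  rw [Finset.mul_sum]
  apply Finset.sum_congr rfl
  intro m _
  ring

theorem aa_sim {i : ℕ} (hi : i < T.l) (s : ℕ) : aa T (T.sim i) s = T.ca i s := by
  unfold aa
  rw [Finset.sum_eq_single i]
  · rw [V3.co_sim hi hi]; simp
  · intro b hb hbi
    rw [V3.co_sim hi (by simpa using hb), if_neg (Ne.symm hbi), zero_mul]
  · intro h
    exact absurd (by simpa using hi) h

omit V3 in
include V in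
/-- invariance under reflections -/
theorem aa_refl {i : ℕ} (hi : i < T.l) (r : ℕ) {r' s : ℕ} (hr : r < T.n) (hs : s < T.n) (hr' : r' = T.refl i r) :
    aa T r (T.refl i s) = aa T r' s := by
  subst hr'
  have Rr := reflFacts V.hR i hi r hr
  have Rs := reflFacts V.hR i hi s hs
  have Rs' := reflFacts V.hR i hi _ Rs.w_lt
  have e1 : aa T r (T.refl i s) = aa T r s - aa T r (T.sim i) * T.ca i s := by
    unfold aa
    rw [Finset.sum_mul, ← Finset.sum_sub_distrib]
    apply Finset.sum_congr rfl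
    intro m hm
    have h := Rs'.ca_rel m (by simpa using hm)
    rw [Rs.w_w] at h
    rw [h]
    ring
  have e2 : aa T (T.refl i r) s = aa T r s - aa T r (T.sim i) * T.ca i s := by
    unfold aa
    have : ∀ m ∈ Finset.range T.l, T.co (T.refl i r) m * T.ca m s =
        T.co r m * T.ca m s - (if m = i then (∑ m ∈ Finset.range T.l, T.co r m * T.ca m (T.sim i)) * T.ca i s else 0) := by
      intro m hm
      rw [Rr.co_rel m (by simpa using hm)]
      by_cases hmi : m = i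
      · subst hmi; simp; ring
      · simp [hmi]
    rw [Finset.sum_congr rfl this, Finset.sum_sub_distrib, Finset.sum_ite_eq' (Finset.range T.l) i]
    rw [if_pos (by simpa using hi)]
  rw [e1, e2]

end

section
variable (V : Valid D T)
include V

/-- `n_p` conjugates diagonal elements. -/
theorem n_dg {i : ℕ} (hi : i < T.l) (χ : ℕ → Fˣ) :
    nU V (D.simple i) 1 * dgU D χ = dgU D (χ ∘ T.refl i) * nU V (D.simple i) 1 := by
  apply Units.ext
  rw [Units.val_mul, Units.val_mul, nU_val]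
  have hl := V.hl
  have hn := V.hn
  apply matrix_ext_bas
  intro a ha
  rw [← Matrix.mulVec_mulVec, ← Matrix.mulVec_mulVec]
  by_cases ha1 : a < T.l
  · rw [dg_bas_h hl χ ha1, n_col_h V.hT V.hM i hi a ha1, Matrix.mulVec_sub, Matrix.mulVec_smul,
      dg_bas_h hl _ ha1, dg_bas_h hl _ hi]
  · obtain ⟨c, rfl⟩ : ∃ c, a = T.l + c := ⟨a - T.l, by omega⟩
    have hc : c < T.n := by omega
    have Rc := reflFacts V.hR i hi c hc
    rw [dg_bas_e hl, Matrix.mulVec_smul, n_col_e V.hT V.hM i hi c hc, Matrix.mulVec_smul, dg_bas_e hl, smul_smul, smul_smul]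
    simp only [Function.comp, Rc.w_w]
    ring_nf

theorem n_conj_dg {i : ℕ} (hi : i < T.l) (χ : ℕ → Fˣ) :
    nU V (D.simple i) 1 * dgU D χ * (nU V (D.simple i) 1)⁻¹ = dgU D (χ ∘ T.refl i) := by
  rw [n_dg V hi, mul_inv_cancel_right]

/-- conjugation of `n_r(u)`. -/
theorem n_nU {i r : ℕ} (hi : i < T.l) (hr : r < T.n) (u : F) :
    nU V (D.simple i) 1 * nU V r u * (nU V (D.simple i) 1)⁻¹ = nU V (T.refl i r) (((T.eps i r : ℤ) : F) * u) := by
  have Rr := reflFacts V.hR i hi r hr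
  have hi' : i < D.rank := by rw [← V.hl]; exact hi
  have hr' : r < D.nroots := by rw [← V.hn]; exact hr
  have hn' : D.neg r < D.nroots := by rw [V.neg_eq hr', ← V.hn]; exact Rr.neg_lt
  rw [nU_eq V r u, nU_eq V (T.refl i r) _]
  have e : ∀ a b c : GL D.Idx F, nU V (D.simple i) 1 * (a * b * c) * (nU V (D.simple i) 1)⁻¹ =
      (nU V (D.simple i) 1 * a * (nU V (D.simple i) 1)⁻¹) * (nU V (D.simple i) 1 * b * (nU V (D.simple i) 1)⁻¹) *
        (nU V (D.simple i) 1 * c * (nU V (D.simple i) 1)⁻¹) := by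
    intro a b c; group
  rw [e, nU_conj' V hi' hr', nU_conj' V hi' hn']
  have hw : D.neg (T.refl i r) = T.refl i (D.neg r) := by
    rw [V.neg_eq (by rw [← V.hn]; exact Rr.w_lt), V.neg_eq hr', Rr.w_neg]
  rw [hw, V.neg_eq hr', Rr.eps_neg]
  congr 2
  rcases Rr.eps_pm with h | h <;> simp [h]

end

section
variable (V : Valid D T) (V2 : Valid2 D T C)
include V V2

theorem isGrading_aG (r : ℕ) : IsGrading T (aG T C r) := isGrading_of V.hT V2 _

theorem isGrading_cG (i : ℕ) : IsGrading T (cG T C i) := isGrading_of V.hT V2 _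

end

section
variable (V : Valid D T) (V2 : Valid2 D T C) (V3 : Valid3 T C X)
include V V2 V3

omit V V3 in
theorem sim_coef {i : ℕ} (hi : i < T.l) : C.coef (T.sim i) i = 1 := by
  have h := V2.hCoef
  simp only [checkCoef, Bool.and_eq_true, allBelow_iff, force_eq, decide_eq_true_eq] at h
  rw [h.1.2 i hi i hi]
  simp

/-- `n_p(t)` as a conjugate, for a fundamental root. -/
theorem nU_simple {i : ℕ} (hi : i < T.l) (t : Fˣ) :
    nU V (D.simple i) (t : F) = dgU D (chOf (cG T C i) t) * nU V (D.simple i) 1 * (dgU D (chOf (cG T C i) t))⁻¹ := by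
  have hi' : i < D.rank := by rw [← V.hl]; exact hi
  apply nU_conj_dg V (isGrading_cG V V2 i) (V.sim_lt hi')
  rw [cG_eq hi, V.simple_eq hi', sim_coef V2 hi]

/-- The value of `h_p(t)`. -/
theorem hU_simple {i : ℕ} (hi : i < T.l) (t : Fˣ) :
    hU V (D.simple i) (t : F) = dgU D (chOf (aG T C (T.sim i)) t) := by
  have hi' : i < D.rank := by rw [← V.hl]; exact hi
  rw [hU_eq, nU_simple V V2 V3 hi t, ← nU_inv V]
  have e : ∀ d n : GL D.Idx F, d * n * d⁻¹ * n⁻¹ = d * (n * d⁻¹ * n⁻¹) := by intro d n; group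
  rw [e, dgU_inv, n_conj_dg V hi]
  rw [dgU_mul]
  apply dgU_congr
  intro s hs
  have hs' : s < T.n := by rw [V.hn]; exact hs
  simp only [Pi.mul_apply, Function.comp, Pi.inv_apply, chOf]
  rw [aG_eq V3 _ hs', aa_sim V3 hi, cG_eq hi, cG_eq hi, V3.coef_refl hi hs' hi, if_pos rfl, ← _root_.zpow_neg, ← _root_.zpow_add]
  congr 1
  ring

omit V2 V3 in
theorem eps_mul {i s : ℕ} (hi : i < T.l) (hs : s < T.n) :
    T.eps i s * T.eps i (T.refl i s) = (-1) ^ (T.ca i s).natAbs := by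
  have h := V.hR2
  simp only [checkRefl2, allBelow_iff, Bool.and_eq_true, decide_eq_true_eq] at h
  exact ((h i hi).2 s hs).2

omit V V2 V3 in
theorem neg_one_zpow (z : ℤ) : (((-1 : Fˣ) ^ z : Fˣ) : F) = (((-1 : ℤ) ^ z.natAbs : ℤ) : F) := by
  obtain ⟨n, rfl | rfl⟩ := Int.eq_nat_or_neg z
  · rcases Nat.even_or_odd n with h | h <;> simp [h.neg_one_pow]
  · rw [_root_.zpow_neg, zpow_natCast, Int.natAbs_neg, Int.natAbs_natCast]
    rcases Nat.even_or_odd n with h | h <;> simp [h.neg_one_pow]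

/-- The square of `n_p`. -/
theorem n_sq {i : ℕ} (hi : i < T.l) :
    nU V (D.simple i) (1 : F) * nU V (D.simple i) 1 = dgU D (chOf (aG T C (T.sim i)) (-1)) := by
  apply Units.ext
  rw [Units.val_mul, nU_val]
  have hl := V.hl
  have hn := V.hn
  apply matrix_ext_bas
  intro a ha
  rw [← Matrix.mulVec_mulVec]
  by_cases ha1 : a < T.l
  · rw [n_col_h V.hT V.hM i hi a ha1, Matrix.mulVec_sub, Matrix.mulVec_smul, n_col_h V.hT V.hM i hi a ha1,
      n_col_h V.hT V.hM i hi i hi, dg_bas_h hl _ ha1, V3.ca_sim hi]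
    push_cast
    module
  · obtain ⟨c, rfl⟩ : ∃ c, a = T.l + c := ⟨a - T.l, by omega⟩
    have hc : c < T.n := by omega
    have Rc := reflFacts V.hR i hi c hc
    rw [n_col_e V.hT V.hM i hi c hc, Matrix.mulVec_smul, n_col_e V.hT V.hM i hi _ Rc.w_lt, Rc.w_w, dg_bas_e hl, smul_smul]
    congr 1
    simp only [chOf]
    rw [neg_one_zpow, aG_eq V3 _ hc, aa_sim V3 hi, ← eps_mul V hi hc]
    push_cast
    rfl

/-- The second form of `h_p(t)`. -/
theorem nU_simple2 {i : ℕ} (hi : i < T.l) (t : Fˣ) :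
    nU V (D.simple i) (-(t : F)) * nU V (D.simple i) 1 = dgU D (chOf (aG T C (T.sim i)) t) := by
  have e1 := hU_simple V V2 V3 hi (-t)
  rw [hU_eq, ← nU_inv V, Units.val_neg] at e1
  have e2 : nU V (D.simple i) (-(t : F)) * nU V (D.simple i) 1 =
      (nU V (D.simple i) (-(t : F)) * (nU V (D.simple i) 1)⁻¹) * (nU V (D.simple i) 1 * nU V (D.simple i) 1) := by group
  rw [e2, e1, n_sq V V2 V3 hi, dgU_mul, chOf_mul]
  simp

/-- The property of a root proved by descent. -/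
def QQ (V : Valid D T) (C : Tc) (F : Type*) [Field F] (r : ℕ) : Prop :=
  ∀ t : Fˣ, hU V r (t : F) = dgU D (chOf (aG T C r) t) ∧
    nU V r (-(t : F)) * nU V r 1 = dgU D (chOf (aG T C r) t)

theorem dg_step {i r : ℕ} (hi : i < T.l) (hr : r < T.n) (t : Fˣ) :
    nU V (D.simple i) 1 * dgU D (chOf (aG T C r) t) * (nU V (D.simple i) 1)⁻¹ = dgU D (chOf (aG T C (T.refl i r)) t) := by
  rw [n_conj_dg V hi]
  apply dgU_congr
  intro s hs
  have hs' : s < T.n := by rw [V.hn]; exact hs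
  have Rs := reflFacts V.hR i hi s hs'
  simp only [Function.comp, chOf]
  rw [aG_eq V3 _ Rs.w_lt, aG_eq V3 _ hs', aa_refl V hi r hr hs' rfl]

theorem QQ_step {i r : ℕ} (hi : i < T.l) (hr : r < T.n) (h : QQ V C F r) : QQ V C F (T.refl i r) := by
  intro t
  have Rr := reflFacts V.hR i hi r hr
  obtain ⟨h1, h2⟩ := h t
  have hd := dg_step V V2 V3 (F := F) hi hr t
  have e : ∀ a b : GL D.Idx F, nU V (D.simple i) 1 * (a * b) * (nU V (D.simple i) 1)⁻¹ =
      (nU V (D.simple i) 1 * a * (nU V (D.simple i) 1)⁻¹) * (nU V (D.simple i) 1 * b * (nU V (D.simple i) 1)⁻¹) := by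
    intro a b; group
  rw [hU_eq] at h1
  rw [← h1] at hd
  have hd2 := dg_step V V2 V3 (F := F) hi hr t
  rw [← h2] at hd2
  rw [e, n_nU V hi hr, n_nU V hi hr] at hd hd2
  rw [hU_eq]
  rcases Rr.eps_pm with h3 | h3
  · rw [h3] at hd hd2
    simp only [Int.cast_one, one_mul] at hd hd2
    exact ⟨hd, hd2⟩
  · rw [h3] at hd hd2
    simp only [Int.reduceNeg, Int.cast_neg, Int.cast_one, neg_mul, one_mul, neg_neg] at hd hd2
    exact ⟨hd2, hd⟩

theorem QQ_all {r : ℕ} (hr : r < T.n) : QQ V C F r := by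
  refine V3.reach V (QQ V C F) ?_ (fun i hi r hr h => QQ_step V V2 V3 hi hr h) r hr
  intro i hi t
  have hi' : i < D.rank := by rw [← V.hl]; exact hi
  rw [← V.simple_eq hi']
  rw [V.simple_eq hi']
  have := hU_simple V V2 V3 hi t
  have h2 := nU_simple2 V V2 V3 hi t
  rw [V.simple_eq hi'] at this h2
  exact ⟨this, h2⟩

/-- `h_r(t)` is diagonal. -/
theorem hU_dg {r : ℕ} (hr : r < D.nroots) (t : Fˣ) : hU V r (t : F) = dgU D (chOf (aG T C r) t) :=
  (QQ_all V V2 V3 (by rw [V.hn]; exact hr) t).1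

end

end Cfsg.Agent.Lib.ChevH
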