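import Cfsg.Agent.Lib.ChevOrd

/-! The order of the diagonal subgroup over a finite field: Smith normal form of the Cartan matrix. -/

set_option autoImplicit false

namespace Cfsg.Agent.Lib.ChevHOrd

open Cfsg.Lie Cfsg.Agent.Lib.ChevEngine Cfsg.Agent.Lib.ChevTab Cfsg.Agent.Lib.ChevMono
  Cfsg.Agent.Lib.ChevRel Cfsg.Agent.Lib.ChevValid Cfsg.Agent.Lib.ChevGL Cfsg.Agent.Lib.ChevGrad Cfsg.Agent.Lib.ChevL2
  Cfsg.Agent.Lib.ChevU Cfsg.Agent.Lib.ChevU2 Cfsg.Agent.Lib.ChevU3 Cfsg.Agent.Lib.ChevDiag Cfsg.Agent.Lib.ChevV3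
  Cfsg.Agent.Lib.ChevH Cfsg.Agent.Lib.ChevN Cfsg.Agent.Lib.ChevN2 Cfsg.Agent.Lib.ChevN3 Cfsg.Agent.Lib.ChevBN

section generic
variable {l : ℕ} {A : Type*} [CommGroup A]

theorem prod_zpow_sum' {ι : Type*} (t : A) (s : Finset ι) (f : ι → ℤ) :
    ∏ x ∈ s, t ^ f x = t ^ ∑ x ∈ s, f x := by
  classical
  induction s using Finset.induction_on with
  | empty => simp
  | insert a s ha ih => rw [Finset.prod_insert ha, Finset.sum_insert ha, ih, _root_.zpow_add]

/-- The action of an integer matrix on tuples. -/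
def actM (M : Matrix (Fin l) (Fin l) ℤ) : (Fin l → A) →* (Fin l → A) where
  toFun c k := ∏ i, c i ^ M i k
  map_one' := by
    funext k
    simp
  map_mul' c c' := by
    funext k
    simp only [Pi.mul_apply, mul_zpow, Finset.prod_mul_distrib]

theorem actM_apply (M : Matrix (Fin l) (Fin l) ℤ) (c : Fin l → A) (k : Fin l) : actM M c k = ∏ i, c i ^ M i k := rfl

theorem actM_mul (M N : Matrix (Fin l) (Fin l) ℤ) (c : Fin l → A) : actM (M * N) c = actM N (actM M c) := by
  funext k
  simp only [actM_apply, Matrix.mul_apply]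
  simp only [← Finset.prod_zpow, ← zpow_mul]
  rw [Finset.prod_comm]
  apply Finset.prod_congr rfl
  intro i _
  exact (prod_zpow_sum' (c i) Finset.univ (fun j => M i j * N j k)).symm

theorem actM_one (c : Fin l → A) : actM (1 : Matrix (Fin l) (Fin l) ℤ) c = c := by
  funext k
  simp only [actM_apply, Matrix.one_apply]
  rw [Finset.prod_eq_single k]
  · simp
  · intro b _ hb
    simp [hb]
  · simp

/-- Counting solutions using the Smith normal form -/
theorem card_ker_smith {M U U' W W' : Matrix (Fin l) (Fin l) ℤ} {S : Matrix (Fin l) (Fin l) ℤ}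
    (hM : M = U * S * W) (hU : U * U' = 1) (hU' : U' * U = 1) (hW : W * W' = 1) :
    Nat.card (actM (A := A) M).ker = Nat.card (actM (A := A) S).ker := by
  have hinjW : ∀ c : Fin l → A, actM W c = 1 → c = 1 := by
    intro c hc
    have := actM_mul W W' c
    rw [hW, actM_one, hc, map_one] at this
    exact this
  apply Nat.card_congr
  refine ⟨fun c => ⟨actM U c.1, ?_⟩, fun c => ⟨actM U' c.1, ?_⟩, ?_, ?_⟩
  · have h := c.2
    rw [MonoidHom.mem_ker] at h
    rw [MonoidHom.mem_ker]
    apply hinjW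
    rw [← actM_mul, ← actM_mul, ← mul_assoc, ← hM]
    exact h
  · have h := c.2
    rw [MonoidHom.mem_ker] at h
    rw [MonoidHom.mem_ker, hM, actM_mul, actM_mul, ← actM_mul U' U, hU', actM_one]
    show actM W (actM S c.1) = 1
    rw [h, map_one]
  · rintro ⟨c, hc⟩
    apply Subtype.ext
    show actM U' (actM U c) = c
    rw [← actM_mul, hU, actM_one]
  · rintro ⟨c, hc⟩
    apply Subtype.ext
    show actM U (actM U' c) = c
    rw [← actM_mul, hU', actM_one]

/-- The number of solutions for a diagonal matrix. -/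
theorem card_ker_diag [IsCyclic A] [Finite A] (s : Fin l → ℕ) :
    Nat.card (actM (A := A) (Matrix.diagonal fun k => (s k : ℤ))).ker = ∏ k, (Nat.card A).gcd (s k) := by
  have h : ∀ k, Nat.card (powMonoidHom (s k) : A →* A).ker = (Nat.card A).gcd (s k) := fun k =>
    IsCyclic.card_powMonoidHom_ker A (s k)
  simp only [← h]
  rw [← Nat.card_pi]
  apply Nat.card_congr
  have key : ∀ (c : Fin l → A) (k : Fin l), actM (A := A) (Matrix.diagonal fun k => (s k : ℤ)) c k = c k ^ s k := by
    intro c k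
    rw [actM_apply, Finset.prod_eq_single k]
    · simp
    · intro b _ hb
      simp [Matrix.diagonal_apply_ne _ hb]
    · simp
  refine ⟨fun c k => ⟨c.1 k, ?_⟩, fun c => ⟨fun k => (c k).1, ?_⟩, ?_, ?_⟩
  · have h2 := c.2
    rw [MonoidHom.mem_ker] at h2
    have h3 := congrFun h2 k
    rw [key] at h3
    exact h3
  · rw [MonoidHom.mem_ker]
    funext k
    rw [key]
    exact (c k).2
  · intro c
    rfl
  · intro c
    rfl

end generic

variable {D : ChevalleyDatum} {T : Tb} {C : Tc} {X : Tc3} {F : Type*} [Field F]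

theorem card_units_nat [Fintype F] : Nat.card Fˣ = Fintype.card F - 1 := by
  classical
  rw [Nat.card_eq_fintype_card, Fintype.card_units]

/-- Extend by one. -/
noncomputable def cExt {l : ℕ} (c : Fin l → Fˣ) : ℕ → Fˣ := fun i => if h : i < l then c ⟨i, h⟩ else 1

theorem cExt_mul {l : ℕ} (c c' : Fin l → Fˣ) : cExt (c * c') = cExt c * cExt c' := by
  funext i
  simp only [cExt, Pi.mul_apply]
  split_ifs <;> simp

theorem cc_congr {c c' : ℕ → Fˣ} (h : ∀ i < T.l, c i = c' i) : cc T C c = cc T C c' := by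
  funext s
  apply Finset.prod_congr rfl
  intro i hi
  rw [h i (by simpa using hi)]

theorem dgU_eq_one_iff {χ : ℕ → Fˣ} : dgU D χ = 1 ↔ ∀ s < D.nroots, χ s = 1 := by
  constructor
  · intro h s hs
    have h1 := congrArg Units.val h
    rw [dgU_val, Units.val_one, ← Matrix.diagonal_one] at h1
    have h2 := congrFun (congrFun h1 (Sum.inr ⟨s, hs⟩)) (Sum.inr ⟨s, hs⟩)
    simp only [Matrix.diagonal_apply_eq, Sum.elim_inr] at h2
    exact Units.ext h2
  · intro h
    apply Units.ext
    rw [dgU_val, Units.val_one, ← Matrix.diagonal_one]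
    congr 1
    funext i
    rcases i with i | s
    · simp
    · simp [h s.1 s.2]

section
variable (V : Valid D T) (V2 : Valid2 D T C) (V3 : Valid3 T C X)

/-- The map onto the diagonal subgroup. -/
noncomputable def phiH : (Fin T.l → Fˣ) →* D.diagonalSubgroup F where
  toFun c := ⟨dgC D T C (cExt c), dgC_mem_H V V2 V3 _⟩
  map_one' := by
    apply Subtype.ext
    have : cExt (1 : Fin T.l → Fˣ) = 1 := by
      funext i
      simp [cExt]
    simp only [this]
    exact dgC_one
  map_mul' c c' := by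
    apply Subtype.ext
    show dgC D T C (cExt (c * c')) = dgC D T C (cExt c) * dgC D T C (cExt c')
    rw [cExt_mul, dgC_mul]

/-- The final form of the count. -/
theorem phiH_surj : Function.Surjective (phiH (F := F) V V2 V3) := by
  rintro ⟨g, hg⟩
  obtain ⟨c, rfl⟩ := (mem_H_iff V V2 V3).1 hg
  refine ⟨fun i => c i.1, ?_⟩
  apply Subtype.ext
  show dgC D T C _ = dgC D T C c
  unfold dgC
  congr 1
  apply cc_congr
  intro i hi
  simp [cExt, hi]

/-- The Cartan matrix. -/
noncomputable def cartanM (T : Tb) : Matrix (Fin T.l) (Fin T.l) ℤ := fun i k => T.ca i (T.sim k)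

include V V2 V3 in
theorem cc_sim (c : Fin T.l → Fˣ) (k : Fin T.l) : cc T C (cExt c) (T.sim k) = actM (cartanM T) c k := by
  rw [actM_apply]
  unfold cc
  rw [Finset.prod_range]
  apply Finset.prod_congr rfl
  intro i _
  have hs := sim_lt' V V2 V3 k.2
  have h1 : aG T C (T.sim i) (T.sim k) = T.ca i (T.sim k) := by
    rw [aG_eq V3 _ hs, aa_sim V3 i.2]
  simp only [cExt, i.2, dite_true, h1]
  rfl

/-- The kernel -/
theorem phiH_ker (c : Fin T.l → Fˣ) : c ∈ (phiH (F := F) V V2 V3).ker ↔ c ∈ (actM (A := Fˣ) (cartanM T)).ker := by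
  rw [MonoidHom.mem_ker, MonoidHom.mem_ker]
  constructor
  · intro h
    have h1 : dgC D T C (cExt c) = 1 := congrArg Subtype.val h
    unfold dgC at h1
    rw [dgU_eq_one_iff] at h1
    funext k
    rw [← cc_sim V V2 V3]
    exact h1 _ (by rw [← V.hn]; exact sim_lt' V V2 V3 k.2)
  · intro h
    apply Subtype.ext
    show dgC D T C (cExt c) = 1
    unfold dgC
    rw [dgU_eq_one_iff]
    intro s hs
    have hs' : s < T.n := by rw [V.hn]; exact hs
    unfold cc
    have e : ∀ i ∈ Finset.range T.l, (cExt c i) ^ aG T C (T.sim i) s =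
        ∏ k ∈ Finset.range T.l, ((cExt c i) ^ aG T C (T.sim i) (T.sim k)) ^ C.coef s k := by
      intro i hi
      have h0 : aG T C (T.sim i) s = ∑ k ∈ Finset.range T.l, aG T C (T.sim i) (T.sim k) * C.coef s k := by
        show (∑ k ∈ Finset.range T.l, C.coef s k * aa T (T.sim i) (T.sim k)) = _
        apply Finset.sum_congr rfl
        intro k hk
        have hk' : k < T.l := by simpa using hk
        rw [aG_eq V3 (T.sim i) (sim_lt' V V2 V3 hk'), mul_comm]
      rw [h0, ← prod_zpow_sum']
      apply Finset.prod_congr rfl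
      intro k _
      rw [zpow_mul]
    rw [Finset.prod_congr rfl e, Finset.prod_comm]
    apply Finset.prod_eq_one
    intro k hk
    rw [Finset.prod_zpow]
    have hk' : k < T.l := by simpa using hk
    have h2 := congrFun h ⟨k, hk'⟩
    rw [← cc_sim V V2 V3] at h2
    have h3 : ∏ i ∈ Finset.range T.l, (cExt c i) ^ aG T C (T.sim i) (T.sim k) = 1 := h2
    rw [h3, one_zpow]

include V V2 V3 in
theorem card_H_mul [Fintype F] : Nat.card (actM (A := Fˣ) (cartanM T)).ker * Nat.card (D.diagonalSubgroup F) = (Fintype.card F - 1) ^ T.l := by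
  have h1 : (phiH (F := F) V V2 V3).ker = (actM (A := Fˣ) (cartanM T)).ker := by
    ext c
    exact phiH_ker V V2 V3 c
  have h2 := Subgroup.card_eq_card_quotient_mul_card_subgroup (phiH (F := F) V V2 V3).ker
  have h3 : Nat.card ((Fin T.l → Fˣ) ⧸ (phiH (F := F) V V2 V3).ker) = Nat.card (D.diagonalSubgroup F) :=
    Nat.card_congr (QuotientGroup.quotientKerEquivOfSurjective _ (phiH_surj V V2 V3)).toEquiv
  rw [h3, h1] at h2
  rw [mul_comm, ← h2, Nat.card_pi]
  simp only [Finset.prod_const, Finset.card_univ, Fintype.card_fin, card_units_nat]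

include V V2 V3 in
/-- The order of `H` using the Smith normal form of the Cartan matrix -/
theorem card_H_smith [Fintype F] {U U' W W' : Matrix (Fin T.l) (Fin T.l) ℤ} (s : Fin T.l → ℕ)
    (hM : cartanM T = U * Matrix.diagonal (fun k => (s k : ℤ)) * W) (hU : U * U' = 1) (hU' : U' * U = 1) (hW : W * W' = 1) :
    (∏ k, (Fintype.card F - 1).gcd (s k)) * Nat.card (D.diagonalSubgroup F) = (Fintype.card F - 1) ^ T.l := by
  rw [← card_H_mul V V2 V3, card_ker_smith hM hU hU' hW, card_ker_diag, card_units_nat]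

end

end Cfsg.Agent.Lib.ChevHOrd
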