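import Cfsg.Agent.Lib.ChevGrad

/-! Root coefficients and further table checks. -/

set_option autoImplicit false

namespace Cfsg.Agent.Lib.ChevL2

open Cfsg.Lie Matrix Cfsg.Agent.Lib.ChevEngine Cfsg.Agent.Lib.ChevTab Cfsg.Agent.Lib.ChevMono
  Cfsg.Agent.Lib.ChevRel Cfsg.Agent.Lib.ChevValid Cfsg.Agent.Lib.ChevGL Cfsg.Agent.Lib.ChevGrad

/-- Extra table: coefficients of roots on the fundamental roots -/
structure Tc where
  coef : ℕ → ℕ → ℤ

noncomputable def mkTc (rows : List ℕ) : Tc :=
  ⟨fun r i => force r fun r' => sdec (getBits 4 15 (rows.getD r' 0) i)⟩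

/-- chain additivity of coefficients -/
noncomputable def chkChainCoef (T : Tb) (C : Tc) (r c : ℕ) : ℕ → List (ℕ × ℤ) → Bool
  | _, [] => true
  | k, e :: L => Nat.blt e.1 T.n &&
      allBelow T.l (fun i => decide (C.coef e.1 i = C.coef c i + ((k : ℤ) + 1) * C.coef r i)) &&
      chkChainCoef T C r c (k + 1) L

theorem chkChainCoef_spec {T : Tb} {C : Tc} {r c : ℕ} (k : ℕ) (L : List (ℕ × ℤ)) (h : chkChainCoef T C r c k L = true)
    (j : ℕ) (hj : j < L.length) : L[j].1 < T.n ∧ ∀ i < T.l, C.coef L[j].1 i = C.coef c i + (((k + j : ℕ) : ℤ) + 1) * C.coef r i := by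
  induction L generalizing k j with
  | nil => simp at hj
  | cons e L ih =>
    simp only [chkChainCoef, Bool.and_eq_true, allBelow_iff, decide_eq_true_eq] at h
    cases j with
    | zero =>
      simp only [List.getElem_cons_zero, add_zero]
      exact ⟨by simpa using h.1.1, h.1.2⟩
    | succ j =>
      simp only [List.getElem_cons_succ]
      have := ih (k + 1) h.2 j (by simpa using hj)
      refine ⟨this.1, ?_⟩
      intro i hi
      rw [this.2 i hi]
      congr 3
      omega

/-- Weight of a root: a lexicographic weight -/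
noncomputable def wtOf (T : Tb) (C : Tc) (r : ℕ) : ℤ :=
  sumBelow T.l fun i => C.coef r i * (32 : ℤ) ^ (T.l - 1 - i)

/-- Height of a root -/
noncomputable def htOf (T : Tb) (C : Tc) (r : ℕ) : ℤ :=
  sumBelow T.l fun i => C.coef r i

/-- gcd of values, for the coroots -/
noncomputable def gcdBelow (l : ℕ) (f : ℕ → ℤ) : ℕ :=
  Nat.rec (motive := fun _ => ℕ) 0 (fun i ih => Nat.gcd (f i).natAbs ih) l

/-- Table checks for coefficients -/
noncomputable def checkCoef (D : ChevalleyDatum) (T : Tb) (C : Tc) : Bool :=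
  (allBelow T.n fun r => force r fun r' =>
    allBelow T.l (fun i => decide (C.coef (T.neg r') i = - C.coef r' i)) &&
    allL (D.chain.getD r' #[]).toList fun e => chkChainCoef T C r' e.1 0 (T.ch r' e.1)) &&
  (allBelow T.l fun i => allBelow T.l fun j => decide (C.coef (T.sim i) j = if i = j then 1 else 0)) &&
  (allBelow T.n fun r => force r fun r' => allL (D.chain.getD r' #[]).toList fun e =>
    (Nat.ble (T.ch r' e.1).length 2 && Nat.ble (T.ch e.1 r').length 2) ||
    allL (commTermsF T.ch r' e.1) fun c =>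
      Nat.blt c.1 T.n && Nat.blt 0 c.2.2.1 && Nat.blt 0 c.2.2.2 &&
      allBelow T.l (fun i => decide (C.coef c.1 i = c.2.2.1 * C.coef r' i + c.2.2.2 * C.coef e.1 i)))

/-- Table checks for positivity -/
noncomputable def checkPos (D : ChevalleyDatum) (T : Tb) (C : Tc) : Bool :=
  Nat.beq T.n (2 * (T.n / 2)) &&
  (allBelow (T.n - 1) fun r => force r fun r' => decide (wtOf T C r' < wtOf T C (r' + 1))) &&
  decide (0 < wtOf T C (T.n / 2)) &&
  (allBelow T.n fun r => force r fun r' =>
    (decide (D.IsPosRoot r') == decide (T.n / 2 ≤ r')) && (decide (D.IsNegRoot r') == decide (r' < T.n / 2)) &&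
    Nat.beq (gcdBelow T.l (T.co r')) 1 &&
    (decide (r' < T.n / 2) || (decide (1 ≤ htOf T C r') && allBelow T.l fun i => decide (0 ≤ C.coef r' i))))

/-- Linear combinations of coefficients -/
noncomputable def grOf (T : Tb) (C : Tc) (g : ℕ → ℤ) (r : ℕ) : ℤ := ∑ i ∈ Finset.range T.l, C.coef r i * g i

structure Valid2 (D : ChevalleyDatum) (T : Tb) (C : Tc) : Prop where
  hCoef : checkCoef D T C = true
  hPos : checkPos D T C = true
  hEps : (allBelow T.l fun i => decide (T.eps i (T.sim i) = -1)) = true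
  hL : 0 < T.l

variable {D : ChevalleyDatum} {T : Tb} {C : Tc} {F : Type*} [Field F]

theorem Valid2.coef_neg (V2 : Valid2 D T C) {r i : ℕ} (hr : r < T.n) (hi : i < T.l) : C.coef (T.neg r) i = - C.coef r i := by
  have h := V2.hCoef
  simp only [checkCoef, Bool.and_eq_true, allBelow_iff, force_eq, decide_eq_true_eq] at h
  exact (h.1.1 r hr).1 i hi

theorem chain_of_check (hT : Faithful D T) (V2 : Valid2 D T C) {r c k : ℕ} (hr : r < T.n) (hk : k < (T.ch r c).length) :
    (T.ch r c)[k].1 < T.n ∧ ∀ i < T.l, C.coef (T.ch r c)[k].1 i = C.coef c i + ((k : ℤ) + 1) * C.coef r i := by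
  have h := V2.hCoef
  simp only [checkCoef, Bool.and_eq_true, allBelow_iff, force_eq, allL_iff, decide_eq_true_eq] at h
  have hne : T.ch r c ≠ [] := by
    intro e
    rw [e] at hk
    simp at hk
  obtain ⟨e, he, rfl⟩ := ch_ne_nil_mem hT hne
  have := chkChainCoef_spec 0 _ ((h.1.1 r hr).2 e he) k hk
  simpa using this

theorem isGrading_of (hT : Faithful D T) (V2 : Valid2 D T C) (g : ℕ → ℤ) : IsGrading T (grOf T C g) := by
  constructor
  · intro r hr
    unfold grOf
    rw [← Finset.sum_neg_distrib]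
    apply Finset.sum_congr rfl
    intro i hi
    rw [V2.coef_neg hr (by simpa using hi)]
    ring
  · intro r hr c k hk
    obtain ⟨_, h⟩ := chain_of_check hT V2 hr hk
    unfold grOf
    rw [Finset.mul_sum, ← Finset.sum_add_distrib]
    apply Finset.sum_congr rfl
    intro i hi
    rw [h i (by simpa using hi)]
    ring

theorem wtOf_eq (r : ℕ) : wtOf T C r = grOf T C (fun i => (32 : ℤ) ^ (T.l - 1 - i)) r := by
  unfold wtOf grOf
  rw [sumBelow_eq]

theorem htOf_eq (r : ℕ) : htOf T C r = grOf T C (fun _ => 1) r := by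
  unfold htOf grOf
  rw [sumBelow_eq]
  simp

/-- The number of positive roots -/
def Tb.npos (T : Tb) : ℕ := T.n / 2

section pos
variable (V2 : Valid2 D T C)
include V2

theorem n_even : T.n = 2 * (T.n / 2) := by
  have h := V2.hPos
  simp only [checkPos, Bool.and_eq_true] at h
  simpa using h.1.1.1

theorem wt_lt_succ {r : ℕ} (hr : r + 1 < T.n) : wtOf T C r < wtOf T C (r + 1) := by
  have h := V2.hPos
  simp only [checkPos, Bool.and_eq_true, allBelow_iff, force_eq, decide_eq_true_eq] at h
  exact h.1.1.2 r (by omega)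

theorem wt_strictMono {r s : ℕ} (hrs : r < s) (hs : s < T.n) : wtOf T C r < wtOf T C s := by
  induction s, hrs using Nat.le_induction with
  | base => exact wt_lt_succ V2 hs
  | succ s h2 ih => exact lt_trans (ih (by omega)) (wt_lt_succ V2 hs)

theorem wt_lt_iff {r s : ℕ} (hr : r < T.n) (hs : s < T.n) : wtOf T C r < wtOf T C s ↔ r < s := by
  constructor
  · intro h
    by_contra h2
    rcases Nat.lt_or_eq_of_le (not_lt.mp h2) with h3 | h3
    · exact absurd (wt_strictMono V2 h3 hr) (not_lt.mpr h.le)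
    · subst h3; exact lt_irrefl _ h
  · intro h
    exact wt_strictMono V2 h hs

theorem wt_pos {r : ℕ} (h1 : T.n / 2 ≤ r) (h2 : r < T.n) : 0 < wtOf T C r := by
  have h := V2.hPos
  simp only [checkPos, Bool.and_eq_true, decide_eq_true_eq] at h
  have h0 := h.1.2
  rcases Nat.lt_or_eq_of_le h1 with h3 | h3
  · exact lt_trans h0 (wt_strictMono V2 h3 h2)
  · rw [← h3]; exact h0

theorem pos_facts {r : ℕ} (hr : r < T.n) :
    (D.IsPosRoot r ↔ T.n / 2 ≤ r) ∧ (D.IsNegRoot r ↔ r < T.n / 2) ∧ gcdBelow T.l (T.co r) = 1 := by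
  have h := V2.hPos
  simp only [checkPos, Bool.and_eq_true, allBelow_iff, force_eq, beq_iff_eq, decide_eq_decide] at h
  obtain ⟨⟨h1, h2⟩, h3⟩ := (h.2 r hr)
  refine ⟨h1.1, h1.2, ?_⟩
  simpa using h2

theorem ht_pos {r : ℕ} (h1 : T.n / 2 ≤ r) (h2 : r < T.n) : 1 ≤ htOf T C r ∧ ∀ i < T.l, 0 ≤ C.coef r i := by
  have h := V2.hPos
  simp only [checkPos, Bool.and_eq_true, allBelow_iff, force_eq, beq_iff_eq, decide_eq_decide, Bool.or_eq_true, decide_eq_true_eq] at h
  rcases (h.2 r h2).2 with h3 | h3
  · omega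
  · exact h3

end pos

/-- for a field, some coefficient of a coroot is nonzero -/
theorem exists_co_ne_zero {l : ℕ} {f : ℕ → ℤ} (h : gcdBelow l f = 1) : ∃ i < l, ((f i : ℤ) : F) ≠ 0 := by
  by_contra hcon
  push Not at hcon
  have key : ∀ m ≤ l, ((gcdBelow m f : ℕ) : F) = 0 := by
    intro m
    induction m with
    | zero => intro _; simp [gcdBelow]
    | succ m ih =>
      intro hm
      have h1 := ih (by omega)
      have h2 := hcon m (by omega)
      show ((Nat.gcd (f m).natAbs (gcdBelow m f) : ℕ) : F) = 0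
      have h3 : (((f m).natAbs : ℤ) : F) = 0 := by
        rcases Int.natAbs_eq (f m) with e | e
        · rw [← e]; exact h2
        · have : (((f m).natAbs : ℤ)) = - f m := by omega
          rw [this]; push_cast; rw [h2]; simp
      have h4 := Nat.gcd_eq_gcd_ab (f m).natAbs (gcdBelow m f)
      have h5 := congrArg (Int.cast : ℤ → F) h4
      push_cast at h5
      push_cast at h3
      rw [h3, h1] at h5
      simpa using h5
  have := key l le_rfl
  rw [h] at this
  simp at this

end Cfsg.Agent.Lib.ChevL2
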