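import Cfsg.Agent.Lib.ChevTab

/-!
Columns of root elements in vector form, the elements `n_p` for fundamental roots and the conjugation formula
`n_p x_s(t) = x_{w_p s}(η t) n_p`.
-/

set_option autoImplicit false

namespace Cfsg.Agent.Lib.ChevMono

open Cfsg.Lie Matrix Cfsg.Agent.Lib.ChevEngine Cfsg.Agent.Lib.ChevTab

variable {D : ChevalleyDatum} {T : Tb}

/-- The polynomial `t`. -/
def tvar : Pl := [⟨1, 0, 0, 1⟩]

section cols
variable {F : Type*} [Field F]

@[simp] theorem eval_tvar (t u v : F) : Pl.eval t u v tvar = t := by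
  simp [tvar, Tm.eval]

/-- vector form of the chain part -/
def cv (D : ChevalleyDatum) (T : Tb) (k : ℕ) (L : List (ℕ × ℤ)) (t : F) : D.Idx → F :=
  match L with
  | [] => 0
  | e :: L => (((e.2 : ℤ) : F) * t ^ (k + 1)) • bas D (T.l + e.1) + cv D T (k + 1) L t

theorem eval_chainSVf (t : F) (p : Pl) (hp : Pl.eval t 0 0 p = t) (k : ℕ) (L : List (ℕ × ℤ)) :
    SV.eval D t 0 0 (T.chainSVf p k L) = cv D T k L t := by
  induction L generalizing k with
  | nil => rfl
  | cons e L ih =>
    simp only [Tb.chainSVf, cv]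
    rw [SV.eval_cons', ih, Pl.eval_smul, Pl.eval_pow, hp]

/-- vector form of a coroot -/
noncomputable def hv (D : ChevalleyDatum) (T : Tb) (c : ℕ → ℤ) : D.Idx → F :=
  ∑ i ∈ Finset.range T.l, ((c i : ℤ) : F) • bas D i

theorem eval_hpart (t : F) (p : Pl) (hp : Pl.eval t 0 0 p = t) (c : ℕ → ℤ) (n : ℕ) :
    SV.eval D t 0 0 ((List.range n).map fun i => (i, Pl.smul (c i) p)) =
      t • ∑ i ∈ Finset.range n, ((c i : ℤ) : F) • bas D i := by
  induction n with
  | zero => simp
  | succ n ih =>
    rw [List.range_succ, List.map_append, Finset.sum_range_succ, smul_add, ← ih]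
    simp only [List.map_cons, List.map_nil]
    have : ∀ (A B : SV), SV.eval D t 0 0 (A ++ B) = SV.eval D t 0 0 A + SV.eval D t 0 0 B := by
      intro A B
      funext i
      simp [SV.eval]
    rw [this, SV.eval_cons', Pl.eval_smul, hp]
    simp only [SV.eval_nil, add_zero, smul_smul]
    congr 2
    ring

theorem x_col (hT : Faithful D T) (r : ℕ) (hr : r < T.n) (t : F) (a : ℕ) :
    D.x F r t *ᵥ bas D a = SV.eval D t 0 0 (T.colXf r tvar a) := by
  have := x_mulVec_bas D t 0 0 r (by rw [← hT.hn]; exact hr) tvar a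
  rw [eval_tvar] at this
  rw [this, colX_eq hT r hr]

variable (hT : Faithful D T) (r : ℕ) (hr : r < T.n) (t : F)
include hT hr

theorem x_col_h (j : ℕ) (hj : j < T.l) :
    D.x F r t *ᵥ bas D j = bas D j + (-((T.ca j r : ℤ) : F) * t) • bas D (T.l + r) := by
  rw [x_col hT r hr t j]
  unfold Tb.colXf
  simp only [Bool.cond_eq_ite, blt_dec, decide_eq_true_eq]
  rw [if_pos hj, SV.eval_cons', SV.eval_cons', Pl.eval_const, Pl.eval_smul]
  simp

theorem x_col_s : D.x F r t *ᵥ bas D (T.l + r) = bas D (T.l + r) := by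
  rw [x_col hT r hr t _]
  unfold Tb.colXf
  simp only [Bool.cond_eq_ite, blt_dec, beq_dec, decide_eq_true_eq, Nat.sub_eq]
  rw [if_neg (by omega), if_pos (by omega), if_pos (by omega), SV.eval_cons', Pl.eval_const]
  simp

theorem x_col_n (hn : T.neg r ≠ r) (hn2 : T.neg r < T.n) :
    D.x F r t *ᵥ bas D (T.l + T.neg r) =
      bas D (T.l + T.neg r) + t • hv D T (T.co r) + (-t ^ 2) • bas D (T.l + r) := by
  rw [x_col hT r hr t _]
  unfold Tb.colXf
  simp only [Bool.cond_eq_ite, blt_dec, beq_dec, decide_eq_true_eq, Nat.sub_eq]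
  rw [if_neg (by omega), if_pos (by omega), if_neg (by omega), if_pos (by omega)]
  have : ∀ (A B : SV), SV.eval D t 0 0 (A ++ B) = SV.eval D t 0 0 A + SV.eval D t 0 0 B := by
    intro A B
    funext i
    simp [SV.eval]
  rw [this, eval_hpart t tvar (eval_tvar t 0 0), SV.eval_cons', SV.eval_cons', Pl.eval_const, Pl.eval_smul,
    Pl.eval_pow]
  simp only [eval_tvar, SV.eval_nil, add_zero, hv]
  simp only [Int.cast_one, one_smul, Int.reduceNeg, Int.cast_neg, neg_mul, one_mul]
  abel

theorem x_col_c (c : ℕ) (hc : c < T.n) (h1 : c ≠ r) (h2 : c ≠ T.neg r) :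
    D.x F r t *ᵥ bas D (T.l + c) = bas D (T.l + c) + cv D T 0 (T.ch r c) t := by
  rw [x_col hT r hr t _]
  unfold Tb.colXf
  simp only [Bool.cond_eq_ite, blt_dec, beq_dec, decide_eq_true_eq, Nat.sub_eq]
  rw [if_neg (by omega), if_pos (by omega), if_neg (by omega), if_neg (by omega), SV.eval_cons', Pl.eval_const]
  have e : T.l + c - T.l = c := by omega
  rw [e, eval_chainSVf t tvar (eval_tvar t 0 0)]
  simp

end cols

/-! ### Monomial form of `n_p` -/

def oneP : Pl := [⟨0, 0, 0, 1⟩]
def moneP : Pl := [⟨0, 0, 0, -1⟩]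

/-- expected column of `n_{p_i}` -/
def monoCol (T : Tb) (i a : ℕ) : SV :=
  bif Nat.blt a T.l then
    SV.add (SV.cons0 i (Pl.const (-(T.ca a (T.sim i)))) []) [(a, Pl.const 1)]
  else [(T.l + T.refl i (a - T.l), Pl.const (T.eps i (a - T.l)))]

def nSW (T : Tb) (i : ℕ) : SWord := [(T.sim i, oneP), (T.neg (T.sim i), moneP), (T.sim i, oneP)]

noncomputable def checkMono (T : Tb) : Bool :=
  allBelow T.l fun i => Nat.blt (T.sim i) T.n &&
    allBelow (T.l + T.n) fun a => decide (T.applyWordF (nSW T i) (SV.basis a) = monoCol T i a)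

section mono
variable {F : Type*} [Field F]

@[simp] theorem eval_one (t u v : F) : Pl.eval t u v oneP = 1 := by simp [oneP, Tm.eval]
@[simp] theorem eval_mone (t u v : F) : Pl.eval t u v moneP = -1 := by simp [moneP, Tm.eval]

theorem neg_eq (hT : Faithful D T) (r : ℕ) (hr : r < T.n) : D.neg r = T.neg r := hT.hneg r hr

variable (hT : Faithful D T) (hM : checkMono T = true) (i : ℕ) (hi : i < T.l)
include hT hM hi

theorem sim_lt : T.sim i < T.n := by
  simp only [checkMono, allBelow_iff, Bool.and_eq_true] at hM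
  simpa using (hM i hi).1

theorem n_col (a : ℕ) (ha : a < T.l + T.n) :
    D.nMat F (D.simple i) 1 *ᵥ bas D a = SV.eval D (0 : F) 0 0 (monoCol T i a) := by
  simp only [checkMono, allBelow_iff, Bool.and_eq_true, decide_eq_true_eq] at hM
  have h := (hM i hi).2 a ha
  rw [← h, ← wordF_mulVec_eval (0 : F) 0 0 hT, SV.eval_basis]
  congr 2
  have hs := (hM i hi).1
  have hs' : T.sim i < T.n := by simpa using hs
  simp only [ChevalleyDatum.nMat, ChevalleyDatum.nWord, SWord.eval, nSW, List.map_cons, List.map_nil,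
    eval_one, eval_mone, hT.hsim i hi, ChevalleyDatum.neg, hT.hneg _ hs', inv_one]

theorem n_col_e (c : ℕ) (hc : c < T.n) :
    D.nMat F (D.simple i) 1 *ᵥ bas D (T.l + c) = ((T.eps i c : ℤ) : F) • bas D (T.l + T.refl i c) := by
  rw [n_col hT hM i hi _ (by omega)]
  unfold monoCol
  simp only [Bool.cond_eq_ite, blt_dec, decide_eq_true_eq]
  rw [if_neg (by omega)]
  have e : T.l + c - T.l = c := by omega
  rw [e, SV.eval_cons', Pl.eval_const]
  simp

theorem n_col_h (j : ℕ) (hj : j < T.l) :
    D.nMat F (D.simple i) 1 *ᵥ bas D j = bas D j - ((T.ca j (T.sim i) : ℤ) : F) • bas D i := by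
  rw [n_col hT hM i hi _ (by omega)]
  unfold monoCol
  simp only [Bool.cond_eq_ite, blt_dec, decide_eq_true_eq]
  rw [if_pos hj, SV.eval_add, SV.eval_cons0, SV.eval_cons', Pl.eval_const, Pl.eval_const]
  simp only [SV.eval_nil, add_zero, Int.cast_neg, neg_smul, Int.cast_one, one_smul]
  abel

end mono

/-! ### Table relations for the reflections -/

/-- Table relations for the reflections. -/
noncomputable def checkRefl (T : Tb) : Bool :=
  allBelow T.l fun i => allBelow T.n fun s =>
    Nat.blt (T.refl i s) T.n && Nat.beq (T.refl i (T.refl i s)) s &&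
    Nat.beq (T.refl i (T.neg s)) (T.neg (T.refl i s)) &&
    (decide (T.eps i s = 1) || decide (T.eps i s = -1)) && decide (T.eps i (T.neg s) = T.eps i s) &&
    Nat.blt (T.neg s) T.n && Nat.blt s T.n && Nat.beq (T.neg (T.neg s)) s && (! Nat.beq (T.neg s) s) &&
    allBelow T.l (fun j =>
      decide (T.ca j s = T.ca j (T.refl i s) - T.ca j (T.sim i) * T.ca i (T.refl i s)) &&
      decide (T.co (T.refl i s) j = T.co s j - (bif Nat.beq j i then
        (Finset.sum (Finset.range T.l) fun m => T.co s m * T.ca m (T.sim i)) else 0)))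

structure ReflFacts (T : Tb) (i s : ℕ) : Prop where
  w_lt : T.refl i s < T.n
  w_w : T.refl i (T.refl i s) = s
  w_neg : T.refl i (T.neg s) = T.neg (T.refl i s)
  eps_pm : T.eps i s = 1 ∨ T.eps i s = -1
  eps_neg : T.eps i (T.neg s) = T.eps i s
  neg_lt : T.neg s < T.n
  neg_neg : T.neg (T.neg s) = s
  neg_ne : T.neg s ≠ s
  ca_rel : ∀ j < T.l, T.ca j s = T.ca j (T.refl i s) - T.ca j (T.sim i) * T.ca i (T.refl i s)
  co_rel : ∀ j < T.l, T.co (T.refl i s) j =
    T.co s j - (if j = i then ∑ m ∈ Finset.range T.l, T.co s m * T.ca m (T.sim i) else 0)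

theorem reflFacts (h : checkRefl T = true) (i : ℕ) (hi : i < T.l) (s : ℕ) (hs : s < T.n) : ReflFacts T i s := by
  simp only [checkRefl, allBelow_iff, Bool.and_eq_true, Bool.or_eq_true, decide_eq_true_eq] at h
  obtain ⟨⟨⟨⟨⟨⟨⟨⟨⟨h1, h2⟩, h3⟩, h4⟩, h5⟩, h6⟩, _⟩, h8⟩, h9⟩, h10⟩ := h i hi s hs
  refine ⟨by simpa using h1, by simpa using h2, by simpa using h3, h4, h5, by simpa using h6, by simpa using h8,
    by simpa [beq_dec] using h9, ?_, ?_⟩
  · intro j hj; exact (h10 j hj).1
  · intro j hj
    have := (h10 j hj).2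
    simpa [Bool.cond_eq_ite, beq_dec] using this

/-! ### Alignment of chain lists -/

/-- `L` and `L'` are aligned: `u' = w u`, `M ε(u) = ec M' η^{k+1}`, `ηk = η^k`. -/
def alignL (n : ℕ) (w : ℕ → ℕ) (ε : ℕ → ℤ) (ec η : ℤ) : ℤ → List (ℕ × ℤ) → List (ℕ × ℤ) → Bool
  | _, [], [] => true
  | ηk, e :: L, e' :: L' =>
      Nat.blt e.1 n && Nat.beq e'.1 (w e.1) && decide (e.2 * ε e.1 = ec * e'.2 * (ηk * η)) &&
        alignL n w ε ec η (ηk * η) L L'
  | _, _, _ => false

theorem alignL_length {n : ℕ} {w : ℕ → ℕ} {ε : ℕ → ℤ} {ec η ηk : ℤ} {L L' : List (ℕ × ℤ)}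
    (h : alignL n w ε ec η ηk L L' = true) : L.length = L'.length := by
  induction L generalizing L' ηk with
  | nil => cases L' with
    | nil => rfl
    | cons e' L' => simp [alignL] at h
  | cons e L ih => cases L' with
    | nil => simp [alignL] at h
    | cons e' L' =>
      simp only [alignL, Bool.and_eq_true] at h
      simp [ih h.2]

/-- the big alignment check for `n_p x_s(t) = x_{w s}(η t) n_p` -/
noncomputable def checkAl (D : ChevalleyDatum) (T : Tb) : Bool :=
  allBelow T.l fun i => allBelow T.n fun s =>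
    force s fun s' => force (T.refl i s') fun s'' =>
      allL (D.chain.getD s' #[]).toList fun e =>
        alignL T.n (T.refl i) (T.eps i) (T.eps i e.1) (T.eps i s') 1 (T.ch s' e.1) (T.ch s'' (T.refl i e.1))

section conj
variable {F : Type*} [Field F]

theorem ch_ne_nil_mem (hT : Faithful D T) {s c : ℕ} (h : T.ch s c ≠ []) :
    ∃ e ∈ (D.chain.getD s #[]).toList, e.1 = c := by
  rcases hT.hfilter s c with ⟨_, h2⟩ | ⟨e, h1, _⟩
  · exact absurd h2 h
  · refine ⟨e, ?_, ?_⟩
    · have : e ∈ (D.chain.getD s #[]).toList.filter (fun e => decide (e.1 = c)) := by rw [h1]; simp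
      exact (List.mem_filter.mp this).1
    · have : e ∈ (D.chain.getD s #[]).toList.filter (fun e => decide (e.1 = c)) := by rw [h1]; simp
      simpa using (List.mem_filter.mp this).2

theorem alignL_of_check (hT : Faithful D T) (hA : checkAl D T = true) (i : ℕ) (hi : i < T.l) (s : ℕ) (hs : s < T.n) (c : ℕ)
    (hc : T.ch s c ≠ []) :
    alignL T.n (T.refl i) (T.eps i) (T.eps i c) (T.eps i s) 1 (T.ch s c) (T.ch (T.refl i s) (T.refl i c)) = true := by
  simp only [checkAl, allBelow_iff, force_eq, allL_iff] at hA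
  obtain ⟨e, he, rfl⟩ := ch_ne_nil_mem hT hc
  exact hA i hi s hs e he

theorem alignL_any (hT : Faithful D T) (hA : checkAl D T = true) (hR : checkRefl T = true)
    (i : ℕ) (hi : i < T.l) (s : ℕ) (hs : s < T.n) (c : ℕ) (hc : c < T.n) :
    alignL T.n (T.refl i) (T.eps i) (T.eps i c) (T.eps i s) 1 (T.ch s c) (T.ch (T.refl i s) (T.refl i c)) = true := by
  by_cases h : T.ch s c = []
  · by_cases h' : T.ch (T.refl i s) (T.refl i c) = []
    · rw [h, h']; rfl
    · have h2 := alignL_of_check hT hA i hi _ (reflFacts hR i hi s hs).w_lt _ h'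
      rw [(reflFacts hR i hi s hs).w_w, (reflFacts hR i hi c hc).w_w, h] at h2
      have := alignL_length h2
      simp at this
      exact absurd this h'
  · exact alignL_of_check hT hA i hi s hs c h

variable (hT : Faithful D T) (hM : checkMono T = true) (hR : checkRefl T = true) (hA : checkAl D T = true)

include hT hM in
theorem n_mulVec_cv (i : ℕ) (hi : i < T.l) (ε : ℕ → ℤ) (hε : ε = T.eps i) (ec η : ℤ) (hη : η = 1 ∨ η = -1)
    (ηk : ℤ) (k : ℕ) (hk : ηk = η ^ k) (t : F) (L L' : List (ℕ × ℤ))
    (h : alignL T.n (T.refl i) ε ec η ηk L L' = true) :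
    D.nMat F (D.simple i) 1 *ᵥ cv D T k L t = ((ec : ℤ) : F) • cv D T k L' (((η : ℤ) : F) * t) := by
  induction L generalizing L' ηk k with
  | nil => cases L' with
    | nil => simp [cv]
    | cons e' L' => simp [alignL] at h
  | cons e L ih => cases L' with
    | nil => simp [alignL] at h
    | cons e' L' =>
      simp only [alignL, Bool.and_eq_true, decide_eq_true_eq] at h
      obtain ⟨⟨⟨h1, h2⟩, h3⟩, h4⟩ := h
      have h1' : e.1 < T.n := by simpa using h1
      have h2' : e'.1 = T.refl i e.1 := by simpa using h2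
      simp only [cv]
      rw [Matrix.mulVec_add, Matrix.mulVec_smul, n_col_e hT hM i hi _ h1',
        ih (ηk * η) (k + 1) (by rw [hk]; ring) L' h4, smul_add, h2', smul_smul, smul_smul]
      subst hε
      congr 2
      have h5 := congrArg (Int.cast : ℤ → F) h3
      push_cast at h5
      have hpow : ((ηk : ℤ) : F) = ((η : ℤ) : F) ^ k := by rw [hk]; push_cast; rfl
      rw [hpow] at h5
      rw [mul_pow]
      calc ((e.2 : ℤ) : F) * t ^ (k + 1) * ((T.eps i e.1 : ℤ) : F)
          = ((e.2 : ℤ) : F) * ((T.eps i e.1 : ℤ) : F) * t ^ (k + 1) := by ring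
        _ = _ := by rw [h5]; ring

include hT hM hR hA in
/-- `n_p x_s(t) = x_{w_p s}(η t) n_p` -/
theorem conj_simple (i : ℕ) (hi : i < T.l) (s : ℕ) (hs : s < T.n) (t : F) :
    D.nMat F (D.simple i) 1 * D.x F s t =
      D.x F (T.refl i s) (((T.eps i s : ℤ) : F) * t) * D.nMat F (D.simple i) 1 := by
  have Rs := reflFacts hR i hi s hs
  have hs' : T.refl i s < T.n := Rs.w_lt
  have hp : T.sim i < T.n := sim_lt hT hM i hi
  have Rp := reflFacts hR i hi _ hp
  set N := D.nMat F (D.simple i) 1 with hN
  set η : F := ((T.eps i s : ℤ) : F) with hη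
  have hη2 : η * η = 1 := by
    rcases Rs.eps_pm with h | h <;> simp [hη, h]
  apply matrix_ext_bas
  intro a ha
  rw [← Matrix.mulVec_mulVec, ← Matrix.mulVec_mulVec]
  have hl := hT.hl
  have hn := hT.hn
  by_cases ha1 : a < T.l
  · -- h column
    rw [x_col_h hT s hs t a ha1, Matrix.mulVec_add, Matrix.mulVec_smul, hN, n_col_h hT hM i hi a ha1, n_col_e hT hM i hi s hs,
      Matrix.mulVec_sub, Matrix.mulVec_smul, x_col_h hT _ hs' _ a ha1, x_col_h hT _ hs' _ i hi]
    have e := congrArg (Int.cast : ℤ → F) (Rs.ca_rel a ha1)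
    push_cast at e
    rw [e]
    simp only [← hη]
    module
  · obtain ⟨c, rfl⟩ : ∃ c, a = T.l + c := ⟨a - T.l, by omega⟩
    have hc : c < T.n := by omega
    by_cases hc1 : c = s
    · subst hc1
      rw [x_col_s hT c hs t, hN, n_col_e hT hM i hi c hc, Matrix.mulVec_smul, x_col_s hT _ hs' _]
    · by_cases hc2 : c = T.neg s
      · subst hc2
        have hnn := Rs.neg_ne
        have hns := Rs.neg_lt
        rw [x_col_n hT s hs t hnn hns, Matrix.mulVec_add, Matrix.mulVec_add, Matrix.mulVec_smul, Matrix.mulVec_smul,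
          hN, n_col_e hT hM i hi _ hns, n_col_e hT hM i hi s hs, Rs.w_neg, Rs.eps_neg, Matrix.mulVec_smul]
        have hnr : T.neg (T.refl i s) ≠ T.refl i s := (reflFacts hR i hi _ hs').neg_ne
        rw [x_col_n hT _ hs' _ hnr (reflFacts hR i hi _ hs').neg_lt]
        -- the image of the coroot vector
        have key : D.nMat F (D.simple i) 1 *ᵥ hv D T (T.co s) = (hv D T (T.co (T.refl i s)) : D.Idx → F) := by
          unfold hv
          rw [Matrix.mulVec_sum]
          have e1 : ∀ m ∈ Finset.range T.l, D.nMat F (D.simple i) 1 *ᵥ (((T.co s m : ℤ) : F) • bas D m) =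
              ((T.co s m : ℤ) : F) • bas D m - (((T.co s m * T.ca m (T.sim i) : ℤ) : F)) • bas D i := by
            intro m hm
            have hm' : m < T.l := by simpa using hm
            rw [Matrix.mulVec_smul, n_col_h hT hM i hi m hm']
            push_cast
            module
          rw [Finset.sum_congr rfl e1, Finset.sum_sub_distrib, ← Finset.sum_smul]
          have e2 : ∀ m ∈ Finset.range T.l, ((T.co (T.refl i s) m : ℤ) : F) • (bas D m : D.Idx → F) =
              ((T.co s m : ℤ) : F) • bas D m - (if m = i then ((∑ m ∈ Finset.range T.l, T.co s m * T.ca m (T.sim i) : ℤ) : F) • bas D i else 0) := by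
            intro m hm
            have hm' : m < T.l := by simpa using hm
            rw [Rs.co_rel m hm']
            by_cases hmi : m = i
            · subst hmi
              simp only [if_true]
              push_cast
              module
            · simp [hmi]
          rw [Finset.sum_congr rfl e2, Finset.sum_sub_distrib, Finset.sum_ite_eq' (Finset.range T.l) i]
          rw [if_pos (by simpa using hi)]
          push_cast
          rfl
        rw [key]
        simp only [← hη]
        have hη2' : ∀ x : D.Idx → F, η • η • x = x := by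
          intro x; rw [smul_smul, hη2, one_smul]
        rw [smul_add, smul_add, smul_smul η (-(η * t) ^ 2), smul_smul η (η * t)]
        have e3 : η * (η * t) = t := by rw [← mul_assoc, hη2, one_mul]
        have e4 : η * -(η * t) ^ 2 = -t ^ 2 * η := by
          have : (η * t) ^ 2 = (η * η) * t ^ 2 := by ring
          rw [this, hη2]; ring
        rw [e3, e4]
        module
      · have hw1 : T.refl i c ≠ T.refl i s := by
          intro e
          have := congrArg (T.refl i) e
          rw [(reflFacts hR i hi c hc).w_w, Rs.w_w] at this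
          exact hc1 this
        have hw2 : T.refl i c ≠ T.neg (T.refl i s) := by
          intro e
          rw [← Rs.w_neg] at e
          have := congrArg (T.refl i) e
          rw [(reflFacts hR i hi c hc).w_w, (reflFacts hR i hi _ Rs.neg_lt).w_w] at this
          exact hc2 this
        have hal := alignL_any hT hA hR i hi s hs c hc
        rw [x_col_c hT s hs t c hc hc1 hc2, Matrix.mulVec_add, hN, n_col_e hT hM i hi c hc, Matrix.mulVec_smul,
          x_col_c hT _ hs' _ _ (reflFacts hR i hi c hc).w_lt hw1 hw2, smul_add,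
          n_mulVec_cv hT hM i hi _ rfl _ _ Rs.eps_pm 1 0 (by simp) t _ _ hal]

end conj

end Cfsg.Agent.Lib.ChevMono
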