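import Cfsg.Agent.Lib.ChevH

/-! The subgroups `H`, `N`, `B`: basic structure. -/

set_option autoImplicit false

namespace Cfsg.Agent.Lib.ChevN

open Cfsg.Lie Matrix Cfsg.Agent.Lib.ChevEngine Cfsg.Agent.Lib.ChevTab Cfsg.Agent.Lib.ChevMono
  Cfsg.Agent.Lib.ChevRel Cfsg.Agent.Lib.ChevValid Cfsg.Agent.Lib.ChevGL Cfsg.Agent.Lib.ChevGrad Cfsg.Agent.Lib.ChevL2
  Cfsg.Agent.Lib.ChevU Cfsg.Agent.Lib.ChevU2 Cfsg.Agent.Lib.ChevU3 Cfsg.Agent.Lib.ChevDiag Cfsg.Agent.Lib.ChevV3
  Cfsg.Agent.Lib.ChevH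

section generic
variable {G : Type*} [Group G]

theorem conj_closure_mem {S : Set G} {K : Subgroup G} (g : G) (h : ∀ s ∈ S, g * s * g⁻¹ ∈ K) {x : G}
    (hx : x ∈ Subgroup.closure S) : g * x * g⁻¹ ∈ K := by
  induction hx using Subgroup.closure_induction with
  | mem y hy => exact h y hy
  | one => simp
  | mul a b _ _ ha hb =>
    have : g * (a * b) * g⁻¹ = (g * a * g⁻¹) * (g * b * g⁻¹) := by group
    rw [this]
    exact K.mul_mem ha hb
  | inv a _ ha =>
    have : g * a⁻¹ * g⁻¹ = (g * a * g⁻¹)⁻¹ := by group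
    rw [this]
    exact K.inv_mem ha

theorem mem_normalizer_of_conj {K : Subgroup G} {g : G} (h1 : ∀ x ∈ K, g * x * g⁻¹ ∈ K)
    (h2 : ∀ x ∈ K, g⁻¹ * x * g ∈ K) : g ∈ Subgroup.normalizer (K : Set G) := by
  rw [Subgroup.mem_set_normalizer_iff]
  intro x
  constructor
  · exact fun hx => h1 x hx
  · intro hx
    have := h2 _ hx
    have e : g⁻¹ * (g * x * g⁻¹) * g = x := by group
    rwa [e] at this

theorem normalizer_conj_mem {K : Subgroup G} {g : G} (h : g ∈ Subgroup.normalizer (K : Set G)) {x : G} (hx : x ∈ K) :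
    g * x * g⁻¹ ∈ K := (Subgroup.mem_set_normalizer_iff.mp h x).mp hx

theorem exists_mul_of_normalizer {U H : Subgroup G} (hN : H ≤ Subgroup.normalizer (U : Set G)) {b : G}
    (hb : b ∈ U ⊔ H) : ∃ u ∈ U, ∃ h ∈ H, b = u * h := by
  rw [Subgroup.sup_eq_closure] at hb
  induction hb using Subgroup.closure_induction with
  | mem y hy =>
    rcases hy with hy | hy
    · exact ⟨y, hy, 1, H.one_mem, by simp⟩
    · exact ⟨1, U.one_mem, y, hy, by simp⟩
  | one => exact ⟨1, U.one_mem, 1, H.one_mem, by simp⟩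
  | mul a b _ _ ha hb =>
    obtain ⟨u, hu, h, hh, rfl⟩ := ha
    obtain ⟨u', hu', h', hh', rfl⟩ := hb
    refine ⟨u * (h * u' * h⁻¹), U.mul_mem hu (normalizer_conj_mem (hN hh) hu'), h * h', H.mul_mem hh hh', by group⟩
  | inv a _ ha =>
    obtain ⟨u, hu, h, hh, rfl⟩ := ha
    refine ⟨h⁻¹ * u⁻¹ * h⁻¹⁻¹, normalizer_conj_mem (hN (H.inv_mem hh)) (U.inv_mem hu), h⁻¹, H.inv_mem hh, by group⟩

theorem prod_zpow_sum {A : Type*} [CommGroup A] (t : A) (s : Finset ℕ) (f : ℕ → ℤ) :
    ∏ x ∈ s, t ^ f x = t ^ ∑ x ∈ s, f x := by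
  induction s using Finset.induction_on with
  | empty => simp
  | insert a s ha ih => rw [Finset.prod_insert ha, Finset.sum_insert ha, ih, _root_.zpow_add]

end generic

variable {D : ChevalleyDatum} {T : Tb} {C : Tc} {X : Tc3} {F : Type*} [Field F]

/-- The character attached to the values on the fundamental coroots -/
noncomputable def cc (T : Tb) (C : Tc) (c : ℕ → Fˣ) : ℕ → Fˣ :=
  fun s => ∏ i ∈ Finset.range T.l, c i ^ aG T C (T.sim i) s

/-- The diagonal element `∏ h_{p_i}(c_i)`. -/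
noncomputable def dgC (D : ChevalleyDatum) (T : Tb) (C : Tc) (c : ℕ → Fˣ) : GL D.Idx F := dgU D (cc T C c)

theorem cc_mul (c c' : ℕ → Fˣ) : cc T C (c * c') = cc T C c * cc T C c' := by
  funext s
  simp only [cc, Pi.mul_apply, mul_zpow, Finset.prod_mul_distrib]

theorem cc_inv (c : ℕ → Fˣ) : cc T C (c⁻¹) = (cc T C c)⁻¹ := by
  funext s
  simp only [cc, Pi.inv_apply, _root_.inv_zpow, Finset.prod_inv_distrib]

theorem cc_one : cc T C (1 : ℕ → Fˣ) = 1 := by
  funext s
  simp [cc]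

theorem dgC_mul (c c' : ℕ → Fˣ) : dgC D T C c * dgC D T C c' = dgC D T C (c * c') := by
  unfold dgC
  rw [dgU_mul, cc_mul]

theorem dgC_inv (c : ℕ → Fˣ) : (dgC D T C c)⁻¹ = dgC D T C c⁻¹ := by
  unfold dgC
  rw [dgU_inv, cc_inv]

theorem dgC_one : dgC D T C (1 : ℕ → Fˣ) = 1 := by
  unfold dgC
  rw [cc_one, dgU_one]

section
variable (V : Valid D T) (V2 : Valid2 D T C) (V3 : Valid3 T C X)

include V V2 in
theorem isCh_cc (c : ℕ → Fˣ) : IsCh T (cc T C c) := by
  constructor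
  · intro r hr
    simp only [cc]
    rw [← Finset.prod_inv_distrib]
    apply Finset.prod_congr rfl
    intro i _
    rw [(isGrading_aG V V2 _).neg r hr, _root_.zpow_neg]
  · intro r hr s hs k hk
    simp only [cc]
    rw [← Finset.prod_pow, ← Finset.prod_mul_distrib]
    apply Finset.prod_congr rfl
    intro i _
    rw [(isGrading_aG V V2 _).chain r hr s k hk, _root_.zpow_add, ← zpow_natCast, ← _root_.zpow_mul]
    congr 2
    push_cast
    ring

include V V2 V3

/-- A product of `h_{p_i}(c_i)` over a list of indices -/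
theorem prod_hU (c : ℕ → Fˣ) (k : ℕ) (hk : k ≤ T.l) :
    wordU V ((List.range k).flatMap fun i => D.hWord (D.simple i) ((c i : Fˣ) : F)) =
      dgU D (fun s => ∏ i ∈ Finset.range k, c i ^ aG T C (T.sim i) s) := by
  induction k with
  | zero => simp; exact dgU_one.symm
  | succ k ih =>
    have hk' : k < T.l := by omega
    have hk'' : k < D.rank := by rw [← V.hl]; exact hk'
    rw [List.range_succ, List.flatMap_append, wordU_append, ih (by omega)]
    simp only [List.flatMap_cons, List.flatMap_nil, List.append_nil]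
    have := hU_dg V V2 V3 (V.sim_lt hk'') (c k)
    have e : wordU V (D.hWord (D.simple k) ((c k : Fˣ) : F)) = hU V (D.simple k) (c k : F) := rfl
    rw [e, this, dgU_mul, V.simple_eq hk'']
    congr 1
    funext s
    simp only [Pi.mul_apply, chOf]
    rw [Finset.prod_range_succ]

theorem dgC_eq_word (c : ℕ → Fˣ) :
    dgC D T C c = wordU V ((List.range T.l).flatMap fun i => D.hWord (D.simple i) ((c i : Fˣ) : F)) := by
  rw [prod_hU V V2 V3 c T.l le_rfl]
  rfl

/-- `h_r(t)` in terms of the fundamental ones. -/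
theorem hU_eq_dgC {r : ℕ} (hr : r < D.nroots) (t : Fˣ) : hU V r (t : F) = dgC D T C (fun i => t ^ T.co r i) := by
  rw [hU_dg V V2 V3 hr]
  unfold dgC
  apply dgU_congr
  intro s hs
  have hs' : s < T.n := by rw [V.hn]; exact hs
  simp only [cc, chOf]
  have e : ∀ i ∈ Finset.range T.l, (t ^ T.co r i) ^ aG T C (T.sim i) s = t ^ (T.co r i * T.ca i s) := by
    intro i hi
    rw [← _root_.zpow_mul, aG_eq V3 _ hs', aa_sim V3 (by simpa using hi)]
  rw [Finset.prod_congr rfl e, prod_zpow_sum, aG_eq V3 _ hs']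
  rfl

theorem hU_mem_H {r : ℕ} (hr : r < D.nroots) {t : F} (ht : t ≠ 0) : hU V r t ∈ D.diagonalSubgroup F := by
  rw [diagonalSubgroup_eq V]
  exact Subgroup.subset_closure ⟨r, t, hr, ht, rfl⟩

theorem dgC_mem_H (c : ℕ → Fˣ) : dgC D T C c ∈ D.diagonalSubgroup F := by
  rw [dgC_eq_word V V2 V3]
  have hl := V.hl
  have key : ∀ k ≤ T.l, wordU V ((List.range k).flatMap fun i => D.hWord (D.simple i) ((c i : Fˣ) : F)) ∈ D.diagonalSubgroup F := by
    intro k
    induction k with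
    | zero => simp [Subgroup.one_mem]
    | succ k ih =>
      intro hk
      rw [List.range_succ, List.flatMap_append, wordU_append]
      simp only [List.flatMap_cons, List.flatMap_nil, List.append_nil]
      exact Subgroup.mul_mem _ (ih (by omega)) (hU_mem_H V V2 V3 (V.sim_lt (by omega)) (c k).ne_zero)
  exact key _ le_rfl

theorem mem_H_iff {g : GL D.Idx F} : g ∈ D.diagonalSubgroup F ↔ ∃ c : ℕ → Fˣ, g = dgC D T C c := by
  constructor
  · intro hg
    rw [diagonalSubgroup_eq V] at hg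
    induction hg using Subgroup.closure_induction with
    | mem x hx =>
      obtain ⟨r, t, hr, ht, rfl⟩ := hx
      have := hU_eq_dgC V V2 V3 hr (Units.mk0 t ht)
      simp only [Units.val_mk0] at this
      exact ⟨_, this⟩
    | one => exact ⟨1, dgC_one.symm⟩
    | mul a b _ _ ha hb =>
      obtain ⟨c, rfl⟩ := ha
      obtain ⟨c', rfl⟩ := hb
      exact ⟨c * c', dgC_mul c c'⟩
    | inv a _ ha =>
      obtain ⟨c, rfl⟩ := ha
      exact ⟨c⁻¹, dgC_inv c⟩
  · rintro ⟨c, rfl⟩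
    exact dgC_mem_H V V2 V3 c

/-- Elements of `H` are diagonal and act through a character. -/
theorem H_form {g : GL D.Idx F} (hg : g ∈ D.diagonalSubgroup F) : ∃ χ : ℕ → Fˣ, IsCh T χ ∧ g = dgU D χ := by
  obtain ⟨c, rfl⟩ := (mem_H_iff V V2 V3).mp hg
  exact ⟨_, isCh_cc V V2 c, rfl⟩

/-- statement on products -/
theorem H_word {g : GL D.Idx F} (hg : g ∈ D.diagonalSubgroup F) :
    ∃ c : ℕ → F, (∀ i < D.rank, c i ≠ 0) ∧
      (g : Matrix D.Idx D.Idx F) = D.wordMat F ((List.range D.rank).flatMap fun i => D.hWord (D.simple i) (c i)) := by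
  obtain ⟨c, rfl⟩ := (mem_H_iff V V2 V3).mp hg
  refine ⟨fun i => (c i : F), fun i _ => (c i).ne_zero, ?_⟩
  rw [dgC_eq_word V V2 V3, wordU_val, V.hl]

/-- `H` normalises any subgroup generated by root subgroups. -/
theorem H_normalizes (P : ℕ → Prop) (hP : ∀ r, P r → r < D.nroots) :
    D.diagonalSubgroup F ≤ Subgroup.normalizer
      ((Subgroup.closure {g : GL D.Idx F | ∃ (r : ℕ) (t : F), P r ∧ g = xU V r t} : Subgroup (GL D.Idx F)) : Set (GL D.Idx F)) := by
  intro g hg
  have key : ∀ g ∈ D.diagonalSubgroup F, ∀ x ∈ Subgroup.closure {g : GL D.Idx F | ∃ (r : ℕ) (t : F), P r ∧ g = xU V r t},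
      g * x * g⁻¹ ∈ Subgroup.closure {g : GL D.Idx F | ∃ (r : ℕ) (t : F), P r ∧ g = xU V r t} := by
    intro g hg x hx
    obtain ⟨χ, hχ, rfl⟩ := H_form V V2 V3 hg
    refine conj_closure_mem _ ?_ hx
    rintro s ⟨r, t, hr, rfl⟩
    rw [conj_dg V hχ (hP r hr), mul_inv_cancel_right]
    exact Subgroup.subset_closure ⟨r, _, hr, rfl⟩
  exact mem_normalizer_of_conj (key g hg) (key g⁻¹ (Subgroup.inv_mem _ hg))

theorem H_le_normalizer_U : D.diagonalSubgroup F ≤ Subgroup.normalizer (D.posUnipotent F : Set (GL D.Idx F)) := by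
  rw [posUnipotent_eq V]
  exact H_normalizes V V2 V3 _ (fun r hr => hr.1)

theorem H_le_normalizer_V : D.diagonalSubgroup F ≤ Subgroup.normalizer (D.negUnipotent F : Set (GL D.Idx F)) := by
  rw [negUnipotent_eq V]
  exact H_normalizes V V2 V3 _ (fun r hr => hr.1)

end

section tri
variable (V : Valid D T) (V2 : Valid2 D T C)

theorem tri_dg {gr : ℕ → ℤ} {χ : ℕ → Fˣ} (h : IsTri gr 1 (dgU D χ)) : dgU D χ = 1 := by
  apply Units.ext
  rw [Units.val_one, ← sub_eq_zero]
  ext a b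
  by_contra hab
  have h1 := h a b hab
  have hne : a = b := by
    by_contra hne
    apply hab
    rw [Matrix.sub_apply, dgU_val, Matrix.diagonal_apply_ne _ hne, Matrix.one_apply_ne hne, sub_zero]
    rfl
  subst hne
  omega

theorem isGrading_negG {gr : ℕ → ℤ} (hg : IsGrading T gr) : IsGrading T (fun r => - gr r) := by
  constructor
  · intro r hr
    simp only [hg.neg r hr]
  · intro r hr c k hk
    simp only [hg.chain r hr c k hk]
    ring

include V V2 in
theorem V_isTri {g : GL D.Idx F} (h : g ∈ D.negUnipotent F) : IsTri (fun r => - wtOf T C r) 1 g := by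
  rw [negUnipotent_eq V] at h
  refine closure_isTri V (isGrading_negG (isGrading_wt V V2)) (by omega) _ ?_ h
  intro r hr
  have h1 := (isNeg_iff V V2 r).mp hr
  have h0 := n_even V2
  refine ⟨hr.1, ?_⟩
  have := wt_neg V V2 h1
  omega

theorem gI_neg (gr : ℕ → ℤ) (a : D.Idx) : gI D (fun r => - gr r) a = - gI D gr a := by
  rcases a with i | s <;> simp [gI]

/-- A triangular identity. -/
theorem tri_cancel {gr : ℕ → ℤ} {u v : GL D.Idx F} {χ : ℕ → Fˣ} (hu : IsTri gr 1 u) (hv : IsTri (fun r => - gr r) 1 v)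
    (e : u * dgU D χ = v) : u = 1 ∧ dgU D χ = 1 ∧ v = 1 := by
  have hu1 : u = 1 := by
    apply Units.ext
    rw [Units.val_one, ← sub_eq_zero]
    ext a b
    by_contra hab
    have h1 := hu a b hab
    have hne : a ≠ b := by
      rintro rfl
      omega
    have h2 : ((v : Matrix D.Idx D.Idx F) - 1) a b ≠ 0 := by
      rw [← e, Units.val_mul, dgU_val, Matrix.sub_apply, Matrix.mul_diagonal, Matrix.one_apply_ne hne, sub_zero]
      have h3 : (u : Matrix D.Idx D.Idx F) a b ≠ 0 := by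
        intro h4
        apply hab
        rw [Matrix.sub_apply, h4, Matrix.one_apply_ne hne, sub_zero]
        rfl
      refine mul_ne_zero h3 ?_
      rcases b with i | s <;> simp
    have h3 := hv a b h2
    rw [gI_neg, gI_neg] at h3
    omega
  subst hu1
  rw [one_mul] at e
  subst e
  exact ⟨rfl, tri_dg hv, tri_dg hv⟩

end tri

section B
variable (V : Valid D T) (V2 : Valid2 D T C) (V3 : Valid3 T C X)
include V V2 V3

theorem B_form {g : GL D.Idx F} (hg : g ∈ D.borelSubgroup F) :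
    ∃ u ∈ D.posUnipotent F, ∃ h ∈ D.diagonalSubgroup F, g = u * h :=
  exists_mul_of_normalizer (H_le_normalizer_U V V2 V3) hg

/-- `H` normalises `U` and `U ∩ H = 1`. -/
theorem U_inf_H : D.posUnipotent F ⊓ D.diagonalSubgroup F = ⊥ := by
  rw [eq_bot_iff]
  rintro g ⟨h1, h2⟩
  obtain ⟨χ, _, rfl⟩ := H_form V V2 V3 h2
  exact tri_dg (U_isTri V V2 (isGrading_wt V V2) (fun r h2 h3 => wt_one V V2 h2 h3) h1)

theorem B_inf_V : D.borelSubgroup F ⊓ D.negUnipotent F = ⊥ := by
  rw [eq_bot_iff]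
  rintro g ⟨h1, h2⟩
  obtain ⟨u, hu, h, hh, rfl⟩ := B_form V V2 V3 h1
  obtain ⟨χ, _, rfl⟩ := H_form V V2 V3 hh
  have := tri_cancel (U_isTri V V2 (isGrading_wt V V2) (fun r h2 h3 => wt_one V V2 h2 h3) hu) (V_isTri V V2 h2) rfl
  exact this.2.2

theorem B_inf_VH : D.borelSubgroup F ⊓ (D.negUnipotent F ⊔ D.diagonalSubgroup F) = D.diagonalSubgroup F := by
  apply le_antisymm
  · rintro g ⟨h1, h2⟩
    obtain ⟨u, hu, h, hh, rfl⟩ := B_form V V2 V3 h1
    obtain ⟨v, hv, h', hh', e⟩ := exists_mul_of_normalizer (H_le_normalizer_V V V2 V3) h2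
    obtain ⟨χ, _, he⟩ := H_form V V2 V3 (Subgroup.mul_mem _ hh (Subgroup.inv_mem _ hh'))
    have e2 : u * (h * h'⁻¹) = v := by
      rw [← mul_assoc, e, mul_inv_cancel_right]
    rw [he] at e2
    have := tri_cancel (U_isTri V V2 (isGrading_wt V V2) (fun r h2 h3 => wt_one V V2 h2 h3) hu) (V_isTri V V2 hv) e2
    rw [this.1, one_mul]
    exact hh
  · intro g hg
    exact ⟨Subgroup.mem_sup_right hg, Subgroup.mem_sup_right hg⟩

end B

end Cfsg.Agent.Lib.ChevN
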