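import Cfsg.Agent.Lib.ChevN

/-! The monomial subgroup. -/

set_option autoImplicit false

namespace Cfsg.Agent.Lib.ChevN2

open Cfsg.Lie Matrix Cfsg.Agent.Lib.ChevEngine Cfsg.Agent.Lib.ChevTab Cfsg.Agent.Lib.ChevMono
  Cfsg.Agent.Lib.ChevRel Cfsg.Agent.Lib.ChevValid Cfsg.Agent.Lib.ChevGL Cfsg.Agent.Lib.ChevGrad Cfsg.Agent.Lib.ChevL2
  Cfsg.Agent.Lib.ChevU Cfsg.Agent.Lib.ChevU2 Cfsg.Agent.Lib.ChevU3 Cfsg.Agent.Lib.ChevDiag Cfsg.Agent.Lib.ChevV3
  Cfsg.Agent.Lib.ChevH Cfsg.Agent.Lib.ChevN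

variable {D : ChevalleyDatum} {T : Tb} {C : Tc} {X : Tc3} {F : Type*} [Field F]

/-- The subgroup generated by the `n_{p_i}`. -/
noncomputable def N0 (V : Valid D T) (F : Type*) [Field F] : Subgroup (GL D.Idx F) :=
  Subgroup.closure {g | ∃ i < T.l, g = nU V (D.simple i) 1}

section
variable (V : Valid D T) (V2 : Valid2 D T C) (V3 : Valid3 T C X)

include V V3 in
theorem nU_mem_N0 {r : ℕ} (hr : r < T.n) : nU V r (1 : F) ∈ N0 V F := by
  refine V3.reach V (fun r => nU V r (1 : F) ∈ N0 V F) ?_ ?_ r hr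
  · intro i hi
    have hi' : i < D.rank := by rw [← V.hl]; exact hi
    rw [← V.simple_eq hi']
    exact Subgroup.subset_closure ⟨i, hi, rfl⟩
  · intro i hi r hr h
    have Rr := reflFacts V.hR i hi r hr
    have hn : nU V (D.simple i) (1 : F) ∈ N0 V F := Subgroup.subset_closure ⟨i, hi, rfl⟩
    have h1 := Subgroup.mul_mem _ (Subgroup.mul_mem _ hn h) (Subgroup.inv_mem _ hn)
    rw [n_nU V hi hr] at h1
    rcases Rr.eps_pm with h2 | h2
    · rw [h2] at h1
      simpa using h1
    · rw [h2] at h1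
      have h3 := Subgroup.inv_mem _ h1
      rw [nU_inv V] at h3
      simpa using h3

include V V2 V3

/-- conjugate of `h_r(t)` by `n_p` -/
theorem n_hU {i r : ℕ} (hi : i < T.l) (hr : r < T.n) (t : Fˣ) :
    nU V (D.simple i) 1 * hU V r (t : F) * (nU V (D.simple i) 1)⁻¹ = hU V (T.refl i r) (t : F) := by
  have hr' : r < D.nroots := by rw [← V.hn]; exact hr
  have Rr := reflFacts V.hR i hi r hr
  rw [hU_dg V V2 V3 hr', dg_step V V2 V3 hi hr, hU_dg V V2 V3 (by rw [← V.hn]; exact Rr.w_lt)]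

theorem n_inv_hU {i r : ℕ} (hi : i < T.l) (hr : r < T.n) (t : F) (ht : t ≠ 0) :
    (nU V (D.simple i) 1)⁻¹ * hU V r t * nU V (D.simple i) 1 = hU V (T.refl i r) t := by
  have Rr := reflFacts V.hR i hi r hr
  have := n_hU V V2 V3 hi Rr.w_lt (Units.mk0 t ht)
  simp only [Units.val_mk0, Rr.w_w] at this
  rw [← this]
  group

theorem N0_normalizes_H {g : GL D.Idx F} (hg : g ∈ N0 V F) :
    g ∈ Subgroup.normalizer (D.diagonalSubgroup F : Set (GL D.Idx F)) := by
  refine (Subgroup.closure_le _).mpr ?_ hg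
  rintro g ⟨i, hi, rfl⟩
  have key : ∀ (x : GL D.Idx F), x ∈ D.diagonalSubgroup F → nU V (D.simple i) 1 * x * (nU V (D.simple i) 1)⁻¹ ∈ D.diagonalSubgroup F := by
    intro x hx
    rw [diagonalSubgroup_eq V] at hx
    refine conj_closure_mem _ ?_ hx
    rintro s ⟨r, t, hr, ht, rfl⟩
    have hr' : r < T.n := by rw [V.hn]; exact hr
    have := n_hU V V2 V3 hi hr' (Units.mk0 t ht)
    simp only [Units.val_mk0] at this
    rw [this]
    exact hU_mem_H V V2 V3 (by rw [← V.hn]; exact (reflFacts V.hR i hi r hr').w_lt) ht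
  have key2 : ∀ (x : GL D.Idx F), x ∈ D.diagonalSubgroup F → (nU V (D.simple i) 1)⁻¹ * x * (nU V (D.simple i) 1) ∈ D.diagonalSubgroup F := by
    intro x hx
    rw [diagonalSubgroup_eq V] at hx
    have e : (nU V (D.simple i) 1)⁻¹ * x * (nU V (D.simple i) 1) = (nU V (D.simple i) 1)⁻¹ * x * (nU V (D.simple i) 1)⁻¹⁻¹ := by simp
    rw [e]
    refine conj_closure_mem _ ?_ hx
    rintro s ⟨r, t, hr, ht, rfl⟩
    have hr' : r < T.n := by rw [V.hn]; exact hr
    rw [inv_inv, n_inv_hU V V2 V3 hi hr' t ht]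
    exact hU_mem_H V V2 V3 (by rw [← V.hn]; exact (reflFacts V.hR i hi r hr').w_lt) ht
  exact mem_normalizer_of_conj key key2

theorem N_eq : D.monomialSubgroup F = D.diagonalSubgroup F ⊔ N0 V F := by
  rw [monomialSubgroup_eq V]
  apply le_antisymm
  · apply sup_le le_sup_left
    refine le_trans ?_ le_sup_right
    rw [Subgroup.closure_le]
    rintro g ⟨r, hr, rfl⟩
    exact nU_mem_N0 V V3 (by rw [V.hn]; exact hr)
  · apply sup_le le_sup_left
    refine le_trans ?_ le_sup_right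
    rw [N0, Subgroup.closure_le]
    rintro g ⟨i, hi, rfl⟩
    exact Subgroup.subset_closure ⟨D.simple i, V.sim_lt (by rw [← V.hl]; exact hi), rfl⟩

/-- `N` normalises `H`. -/
theorem N_le_normalizer_H : D.monomialSubgroup F ≤ Subgroup.normalizer (D.diagonalSubgroup F : Set (GL D.Idx F)) := by
  rw [N_eq V V2 V3]
  apply sup_le (Subgroup.le_normalizer)
  intro g hg
  exact N0_normalizes_H V V2 V3 hg

theorem H_le_N : D.diagonalSubgroup F ≤ D.monomialSubgroup F := by
  rw [monomialSubgroup_eq V]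
  exact le_sup_left

theorem H_normal_in_N : ((D.diagonalSubgroup F).subgroupOf (D.monomialSubgroup F)).Normal :=
  (Subgroup.normal_subgroupOf_iff_le_normalizer (H_le_N V V2 V3)).mpr (N_le_normalizer_H V V2 V3)

end

/-! ### Monomial matrices -/

/-- The monomial property -/
def PMon (T : Tb) (g : GL D.Idx F) : Prop :=
  ∃ (π : ℕ → ℕ) (χ : ℕ → F), (∀ c < T.n, π c < T.n ∧ χ c ≠ 0 ∧
    (g : Matrix D.Idx D.Idx F) *ᵥ bas D (T.l + c) = χ c • bas D (T.l + π c)) ∧
    ∀ (j : Fin D.rank) (s : Fin D.nroots), (g : Matrix D.Idx D.Idx F) (Sum.inr s) (Sum.inl j) = 0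

theorem PMon.mul {g g' : GL D.Idx F} (h : PMon T g) (h' : PMon T g') : PMon T (g * g') := by
  obtain ⟨π, χ, h1, h2⟩ := h
  obtain ⟨π', χ', h1', h2'⟩ := h'
  refine ⟨π ∘ π', fun c => χ' c * χ (π' c), ?_, ?_⟩
  · intro c hc
    obtain ⟨a1, a2, a3⟩ := h1' c hc
    obtain ⟨b1, b2, b3⟩ := h1 _ a1
    refine ⟨b1, mul_ne_zero a2 b2, ?_⟩
    rw [Units.val_mul, ← Matrix.mulVec_mulVec, a3, Matrix.mulVec_smul, b3, smul_smul]
    rfl
  · intro j s
    rw [Units.val_mul, Matrix.mul_apply, Fintype.sum_sum_type]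
    simp only [h2, h2', zero_mul, mul_zero, Finset.sum_const_zero, add_zero]

/-- The subgroup of monomial matrices. -/
def Mon (T : Tb) (D : ChevalleyDatum) (F : Type*) [Field F] : Subgroup (GL D.Idx F) where
  carrier := {g | PMon T g ∧ PMon T g⁻¹}
  mul_mem' := by
    rintro a b ⟨h1, h2⟩ ⟨h3, h4⟩
    refine ⟨h1.mul h3, ?_⟩
    rw [_root_.mul_inv_rev]
    exact h4.mul h2
  one_mem' := by
    have : PMon (D := D) (F := F) T 1 := by
      refine ⟨id, fun _ => 1, ?_, ?_⟩
      · intro c hc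
        simp [hc]
      · intro j s
        simp
    exact ⟨this, by simpa using this⟩
  inv_mem' := by
    rintro a ⟨h1, h2⟩
    exact ⟨h2, by simpa using h1⟩

section
variable (V : Valid D T) (V2 : Valid2 D T C) (V3 : Valid3 T C X)

include V in
theorem n_PMon {i : ℕ} (hi : i < T.l) : PMon T (nU V (D.simple i) (1 : F)) := by
  have hl := V.hl
  refine ⟨T.refl i, fun c => ((T.eps i c : ℤ) : F), ?_, ?_⟩
  · intro c hc
    have Rc := reflFacts V.hR i hi c hc
    refine ⟨Rc.w_lt, ?_, ?_⟩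
    · rcases Rc.eps_pm with h | h <;> simp [h]
    · rw [nU_val]
      exact n_col_e V.hT V.hM i hi c hc
  · intro j s
    have h := congrFun (n_col_h (F := F) V.hT V.hM i hi j.val (by rw [hl]; exact j.isLt)) (Sum.inr s)
    have hc : j.val = code D (Sum.inl j) := rfl
    rw [nU_val]
    rw [hc, mulVec_bas_code, ← hc] at h
    rw [h]
    simp only [Pi.sub_apply, Pi.smul_apply, smul_eq_mul, bas]
    rw [if_neg, if_neg]
    · simp
    · simp only [code_inr]; omega
    · simp only [code_inr]; have := j.isLt; omega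

omit V2 V3 in
theorem dg_PMon (hl : T.l = D.rank) (χ : ℕ → Fˣ) : PMon T (dgU D χ) := by
  refine ⟨id, fun c => (χ c : F), ?_, ?_⟩
  · intro c hc
    exact ⟨hc, (χ c).ne_zero, dg_bas_e hl χ c⟩
  · intro j s
    rw [dgU_val, Matrix.diagonal_apply_ne]
    simp

include V V2 V3 in
theorem n_inv_PMon {i : ℕ} (hi : i < T.l) : PMon T (nU V (D.simple i) (1 : F))⁻¹ := by
  have e : (nU V (D.simple i) (1 : F))⁻¹ = (nU V (D.simple i) 1 * nU V (D.simple i) 1)⁻¹ * nU V (D.simple i) 1 := by group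
  rw [e, n_sq V V2 V3 hi, dgU_inv]
  exact (dg_PMon V.hl _).mul (n_PMon V hi)

include V V2 V3 in
theorem N_le_Mon : D.monomialSubgroup F ≤ Mon T D F := by
  rw [N_eq V V2 V3]
  apply sup_le
  · intro g hg
    obtain ⟨χ, _, rfl⟩ := H_form V V2 V3 hg
    refine ⟨dg_PMon V.hl _, ?_⟩
    rw [dgU_inv]
    exact dg_PMon V.hl _
  · rw [N0, Subgroup.closure_le]
    rintro g ⟨i, hi, rfl⟩
    exact ⟨n_PMon V hi, n_inv_PMon V V2 V3 hi⟩

omit V V3 in
include V2 in
/-- A triangular monomial matrix is trivial. -/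
theorem tri_PMon (hl : T.l = D.rank) (hn : T.n = D.nroots) {gr : ℕ → ℤ} {g : GL D.Idx F} (h1 : IsTri gr 1 g) (h2 : PMon T g) : g = 1 := by
  obtain ⟨π, χ, h3, h4⟩ := h2
  apply Units.ext
  rw [Units.val_one, ← sub_eq_zero]
  ext a b
  rw [Matrix.zero_apply]
  by_contra hab
  have h5 := h1 a b hab
  rcases b with j | s
  · rcases a with i | s
    · simp [gI] at h5
    · apply hab
      rw [Matrix.sub_apply, h4, Matrix.one_apply_ne (by simp), sub_zero]
  · have hs : s.val < T.n := by rw [hn]; exact s.isLt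
    obtain ⟨a1, a2, a3⟩ := h3 s.val hs
    have hcode : T.l + s.val = code D (Sum.inr s) := by simp only [code_inr]; omega
    have key : ∀ x : D.Idx, (g : Matrix D.Idx D.Idx F) x (Sum.inr s) = χ s.val * (bas D (T.l + π s.val) : D.Idx → F) x := by
      intro x
      have := congrFun a3 x
      rw [hcode, mulVec_bas_code] at this
      rw [this]
      rfl
    -- the diagonal entry
    have hdiag : π s.val = s.val ∧ χ s.val = 1 := by
      have h6 : ((g : Matrix D.Idx D.Idx F) - 1) (Sum.inr s) (Sum.inr s) = 0 := by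
        by_contra h7
        have := h1 _ _ h7
        omega
      rw [Matrix.sub_apply, Matrix.one_apply_eq, key] at h6
      by_cases h8 : π s.val = s.val
      · refine ⟨h8, ?_⟩
        rw [h8, hcode, bas_code] at h6
        simpa [sub_eq_zero] using h6
      · exfalso
        have : (bas D (T.l + π s.val) : D.Idx → F) (Sum.inr s) = 0 := by
          simp only [bas]
          rw [if_neg]
          simp only [code_inr]
          omega
        rw [this] at h6
        simp at h6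
    obtain ⟨h8, h9⟩ := hdiag
    apply hab
    rw [Matrix.sub_apply, key, h8, h9, one_mul, hcode, bas_code]
    simp only [Pi.single_apply, Matrix.one_apply]
    simp

include V V2 V3 in
theorem U_inf_N : D.posUnipotent F ⊓ D.monomialSubgroup F = ⊥ := by
  rw [eq_bot_iff]
  rintro g ⟨h1, h2⟩
  exact tri_PMon V2 V.hl V.hn (U_isTri V V2 (isGrading_wt V V2) (fun r h2 h3 => wt_one V V2 h2 h3) h1)
    (N_le_Mon V V2 V3 h2).1

include V V2 V3 in
theorem B_inf_N : D.borelSubgroup F ⊓ D.monomialSubgroup F = D.diagonalSubgroup F := by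
  apply le_antisymm
  · rintro g ⟨h1, h2⟩
    obtain ⟨u, hu, h, hh, rfl⟩ := B_form V V2 V3 h1
    have h3 : u ∈ D.monomialSubgroup F := by
      have := Subgroup.mul_mem _ h2 (Subgroup.inv_mem _ (H_le_N V V2 V3 hh))
      simpa using this
    have h4 : u ∈ D.posUnipotent F ⊓ D.monomialSubgroup F := ⟨hu, h3⟩
    rw [U_inf_N V V2 V3] at h4
    rw [(Subgroup.mem_bot.mp h4), one_mul]
    exact hh
  · intro g hg
    exact ⟨Subgroup.mem_sup_right hg, H_le_N V V2 V3 hg⟩

omit V3 in
include V V2 in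
theorem pos_or_neg {r : ℕ} (hr : r < D.nroots) : D.IsPosRoot r ∨ D.IsNegRoot r := by
  by_cases h : r < T.n / 2
  · right
    exact (isNeg_iff V V2 r).mpr h
  · left
    exact (isPos_iff V V2 r).mpr ⟨by omega, hr⟩

omit V3 in
include V V2 in
theorem U_le_G : D.posUnipotent F ≤ D.group F := by
  rw [posUnipotent_eq V, Subgroup.closure_le]
  rintro g ⟨r, t, hr, rfl⟩
  exact xU_mem_group V hr.1 t

omit V3 in
include V V2 in
theorem V_le_G : D.negUnipotent F ≤ D.group F := by
  rw [negUnipotent_eq V, Subgroup.closure_le]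
  rintro g ⟨r, t, hr, rfl⟩
  exact xU_mem_group V hr.1 t

omit V3 in
include V V2 in
theorem U_sup_V : D.posUnipotent F ⊔ D.negUnipotent F = D.group F := by
  apply le_antisymm
  · exact sup_le (U_le_G V V2) (V_le_G V V2)
  · rw [group_eq V, Subgroup.closure_le]
    rintro g ⟨r, t, hr, rfl⟩
    rcases pos_or_neg V V2 hr with h | h
    · refine Subgroup.mem_sup_left ?_
      rw [posUnipotent_eq V]
      exact Subgroup.subset_closure ⟨r, t, h, rfl⟩
    · refine Subgroup.mem_sup_right ?_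
      rw [negUnipotent_eq V]
      exact Subgroup.subset_closure ⟨r, t, h, rfl⟩

include V in
omit V2 V3 in
theorem nU_mem_G {r : ℕ} (hr : r < D.nroots) (t : F) : nU V r t ∈ D.group F := by
  have hr' : r < T.n := by rw [V.hn]; exact hr
  rw [nU_eq]
  have h2 : D.neg r < D.nroots := by rw [V.neg_eq hr, ← V.hn]; exact V.neg_lt hr'
  exact Subgroup.mul_mem _ (Subgroup.mul_mem _ (xU_mem_group V hr t) (xU_mem_group V h2 _)) (xU_mem_group V hr t)

include V in
omit V2 V3 in
theorem hU_mem_G {r : ℕ} (hr : r < D.nroots) (t : F) : hU V r t ∈ D.group F := by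
  rw [hU_eq]
  exact Subgroup.mul_mem _ (nU_mem_G V hr t) (nU_mem_G V hr _)

include V in
omit V2 V3 in
theorem H_le_G : D.diagonalSubgroup F ≤ D.group F := by
  rw [diagonalSubgroup_eq V, Subgroup.closure_le]
  rintro g ⟨r, t, hr, _, rfl⟩
  exact hU_mem_G V hr t

include V in
omit V2 V3 in
theorem N_le_G : D.monomialSubgroup F ≤ D.group F := by
  rw [monomialSubgroup_eq V]
  apply sup_le (H_le_G V)
  rw [Subgroup.closure_le]
  rintro g ⟨r, hr, rfl⟩
  exact nU_mem_G V hr 1

include V V2 in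
omit V3 in
theorem B_le_G : D.borelSubgroup F ≤ D.group F := sup_le (U_le_G V V2) (H_le_G V)

include V in
omit V2 V3 in
/-- The relation between `x_{-r}(t)` and `n_r`. -/
theorem xneg_eq {r : ℕ} {t : F} (ht : t ≠ 0) :
    xU V (D.neg r) t = xU V r t⁻¹ * hU V r (-t⁻¹) * nU V r 1 * xU V r t⁻¹ := by
  have h1 : hU V r (-t⁻¹) * nU V r 1 = nU V r (-t⁻¹) := by
    rw [hU_eq, mul_assoc]
    have : nU V r (-1 : F) * nU V r 1 = 1 := by rw [← nU_inv V]; simp
    rw [this, mul_one]
  rw [mul_assoc (xU V r t⁻¹), h1, nU_eq]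
  simp only [inv_neg, inv_inv, neg_neg]
  have h2 : ∀ a b : F, a + b = 0 → xU V r a * xU V r b = 1 := by
    intro a b hab
    rw [xU_mul, hab, xU_zero]
  have e : xU V r t⁻¹ * (xU V r (-t⁻¹) * xU V (D.neg r) t * xU V r (-t⁻¹)) * xU V r t⁻¹ =
      (xU V r t⁻¹ * xU V r (-t⁻¹)) * xU V (D.neg r) t * (xU V r (-t⁻¹) * xU V r t⁻¹) := by group
  rw [e, h2 _ _ (add_neg_cancel _), h2 _ _ (neg_add_cancel _)]
  simp

include V V2 V3 in
theorem BN_eq_G : D.borelSubgroup F ⊔ D.monomialSubgroup F = D.group F := by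
  apply le_antisymm
  · exact sup_le (B_le_G V V2) (N_le_G V)
  · rw [← U_sup_V V V2]
    apply sup_le
    · exact le_trans le_sup_left le_sup_left
    · rw [negUnipotent_eq V, Subgroup.closure_le]
      rintro g ⟨r, t, hr, rfl⟩
      by_cases ht : t = 0
      · subst ht
        rw [xU_zero]
        exact Subgroup.one_mem _
      · have hr1 : r < T.n := by rw [V.hn]; exact hr.1
        have hr2 : T.neg r < D.nroots := by rw [← V.hn]; exact V.neg_lt hr1
        have h0 := n_even V2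
        have hr3 : D.IsPosRoot (T.neg r) := by
          have h3 := (isNeg_iff V V2 r).mp hr
          refine (isPos_iff V V2 _).mpr ⟨?_, hr2⟩
          show T.n / 2 ≤ T.n - 1 - r
          omega
        have e := xneg_eq V (r := T.neg r) ht
        rw [V.neg_eq hr2, V.neg_neg hr1] at e
        rw [e]
        have hx : ∀ u : F, xU V (T.neg r) u ∈ (D.borelSubgroup F ⊔ D.monomialSubgroup F) := by
          intro u
          refine Subgroup.mem_sup_left (Subgroup.mem_sup_left ?_)
          rw [posUnipotent_eq V]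
          exact Subgroup.subset_closure ⟨_, u, hr3, rfl⟩
        refine Subgroup.mul_mem _ (Subgroup.mul_mem _ (Subgroup.mul_mem _ (hx _) ?_) ?_) (hx _)
        · refine Subgroup.mem_sup_right (H_le_N V V2 V3 (hU_mem_H V V2 V3 hr2 ?_))
          simpa using ht
        · refine Subgroup.mem_sup_right ?_
          rw [monomialSubgroup_eq V]
          refine Subgroup.mem_sup_right (Subgroup.subset_closure ⟨_, hr2, rfl⟩)

end

end Cfsg.Agent.Lib.ChevN2
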