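import Cfsg.Agent.Lib.ChevN2

/-! Statements on `h` and `n` in matrix form; solvability of `B`. -/

set_option autoImplicit false

namespace Cfsg.Agent.Lib.ChevN3

open Cfsg.Lie Matrix Cfsg.Agent.Lib.ChevEngine Cfsg.Agent.Lib.ChevTab Cfsg.Agent.Lib.ChevMono
  Cfsg.Agent.Lib.ChevRel Cfsg.Agent.Lib.ChevValid Cfsg.Agent.Lib.ChevGL Cfsg.Agent.Lib.ChevGrad Cfsg.Agent.Lib.ChevL2
  Cfsg.Agent.Lib.ChevU Cfsg.Agent.Lib.ChevU2 Cfsg.Agent.Lib.ChevU3 Cfsg.Agent.Lib.ChevDiag Cfsg.Agent.Lib.ChevV3
  Cfsg.Agent.Lib.ChevH Cfsg.Agent.Lib.ChevN Cfsg.Agent.Lib.ChevN2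

variable {D : ChevalleyDatum} {T : Tb} {C : Tc} {X : Tc3} {F : Type*} [Field F]

theorem bas_inl (a : ℕ) (j : Fin D.rank) : (bas D a : D.Idx → F) (Sum.inl j) = if j.val = a then 1 else 0 := rfl
theorem bas_inr (a : ℕ) (s : Fin D.nroots) : (bas D a : D.Idx → F) (Sum.inr s) = if D.rank + s.val = a then 1 else 0 := rfl

section
variable (V : Valid D T) (V2 : Valid2 D T C) (V3 : Valid3 T C X)
include V

omit [Field F] in
theorem cartan_eq {i s : ℕ} (hi : i < D.rank) (hs : s < D.nroots) : D.cartan i s = T.ca i s :=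
  V.hT.hca i (by rw [V.hl]; exact hi) s (by rw [V.hn]; exact hs)

include V2 V3

theorem chOf_simple {i s : ℕ} (hi : i < D.rank) (hs : s < D.nroots) (c : Fˣ) :
    ((chOf (aG T C (D.simple i)) c s : Fˣ) : F) = (c : F) ^ D.cartan i s := by
  have hi' : i < T.l := by rw [V.hl]; exact hi
  have hs' : s < T.n := by rw [V.hn]; exact hs
  simp only [chOf]
  rw [aG_eq V3 _ hs', V.simple_eq hi, aa_sim V3 hi', cartan_eq V hi hs, Units.val_zpow_eq_zpow_val]

/-- S1033 -/
theorem hMat_simple {i : ℕ} (hi : i < D.rank) {c : F} (hc : c ≠ 0) :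
    D.hMat F (D.simple i) c = Matrix.diagonal (Sum.elim (fun _ => (1 : F)) (fun s : Fin D.nroots => c ^ (D.cartan i s))) := by
  have h := hU_dg V V2 V3 (V.sim_lt hi) (Units.mk0 c hc)
  have h2 := congrArg Units.val h
  rw [hU_val, dgU_val] at h2
  rw [Units.val_mk0] at h2
  rw [h2]
  congr 1
  funext a
  rcases a with j | s
  · rfl
  · simp only [Sum.elim_inr]
    rw [chOf_simple V V2 V3 hi s.isLt, Units.val_mk0]

/-- S1032 -/
theorem hMat_x {i s : ℕ} (hi : i < D.rank) (hs : s < D.nroots) {c : F} (hc : c ≠ 0) (t : F) :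
    D.hMat F (D.simple i) c * D.x F s t = D.x F s (c ^ (D.cartan i s) * t) * D.hMat F (D.simple i) c := by
  have h := hU_dg V V2 V3 (V.sim_lt hi) (Units.mk0 c hc)
  rw [Units.val_mk0] at h
  have e := conj_dg V (isCh_chOf (isGrading_aG V V2 (D.simple i)) (Units.mk0 c hc)) hs t
  rw [← h, chOf_simple V V2 V3 hi hs, Units.val_mk0] at e
  have e2 := congrArg Units.val e
  simpa only [Units.val_mul, hU_val, xU_val] using e2

/-- S1076 -/
theorem hMat_mul {r : ℕ} (hr : r < D.nroots) {t₁ t₂ : F} (h₁ : t₁ ≠ 0) (h₂ : t₂ ≠ 0) :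
    D.hMat F r t₁ * D.hMat F r t₂ = D.hMat F r (t₁ * t₂) := by
  have a1 := hU_dg V V2 V3 hr (Units.mk0 t₁ h₁)
  have a2 := hU_dg V V2 V3 hr (Units.mk0 t₂ h₂)
  have a3 := hU_dg V V2 V3 hr (Units.mk0 t₁ h₁ * Units.mk0 t₂ h₂)
  rw [Units.val_mk0] at a1 a2
  rw [Units.val_mul, Units.val_mk0, Units.val_mk0] at a3
  rw [← hU_val V, ← hU_val V, ← hU_val V, ← Units.val_mul, a1, a2, a3, dgU_mul, chOf_mul]

/-- S1096 -/
theorem nMat_hMat {i j : ℕ} (hi : i < D.rank) (hj : j < D.rank) {t : F} (ht : t ≠ 0) :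
    D.nMat F (D.simple i) 1 * D.hMat F (D.simple j) t = D.hMat F (D.reflectRoot i (D.simple j)) t * D.nMat F (D.simple i) 1 := by
  have hi' : i < T.l := by rw [V.hl]; exact hi
  have hs := V.sim_lt hj
  have h := n_hU V V2 V3 hi' (r := D.simple j) (by rw [V.hn]; exact hs) (Units.mk0 t ht)
  rw [Units.val_mk0] at h
  rw [← V.reflectRoot_eq hi hs, mul_inv_eq_iff_eq_mul] at h
  have h2 := congrArg Units.val h
  simpa only [Units.val_mul, hU_val, nU_val] using h2

omit V3 in
/-- S1095 -/
theorem nMat_form {i : ℕ} (hi : i < D.rank) :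
    ∃ η : ℕ → ℤ, (∀ s < D.nroots, η s = 1 ∨ η s = -1) ∧ η (D.simple i) = -1 ∧ η (D.neg (D.simple i)) = -1 ∧
      (∀ s < D.nroots, η s * η (D.reflectRoot i s) = (-1) ^ (D.cartan i s).natAbs ∧ η s * η (D.neg s) = 1) ∧
      D.nMat F (D.simple i) 1 = Matrix.of (fun (row col : D.Idx) =>
        Sum.elim
          (fun j' : Fin D.rank => Sum.elim
            (fun j : Fin D.rank => (if j' = j then (1 : F) else 0) - (if (j' : ℕ) = i then ((D.cartan j (D.simple i) : ℤ) : F) else 0))
            (fun _ => (0 : F)) col)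
          (fun s' : Fin D.nroots => Sum.elim
            (fun _ => (0 : F))
            (fun s : Fin D.nroots => if (s' : ℕ) = D.reflectRoot i s then ((η s : ℤ) : F) else 0) col)
          row) := by
  have hi' : i < T.l := by rw [V.hl]; exact hi
  have hl := V.hl
  have hn := V.hn
  have hs := V.sim_lt hi
  have hs' : D.simple i < T.n := by rw [hn]; exact hs
  have hE : T.eps i (T.sim i) = -1 := by
    have h := V2.hEps
    simp only [allBelow_iff, decide_eq_true_eq] at h
    exact h i hi'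
  refine ⟨T.eps i, ?_, ?_, ?_, ?_, ?_⟩
  · intro s hs2
    exact (reflFacts V.hR i hi' s (by rw [hn]; exact hs2)).eps_pm
  · rw [V.simple_eq hi]; exact hE
  · rw [V.neg_eq hs, V.simple_eq hi, (reflFacts V.hR i hi' _ (by rw [← V.simple_eq hi]; exact hs')).eps_neg]
    exact hE
  · intro s hs2
    have hs3 : s < T.n := by rw [hn]; exact hs2
    have Rs := reflFacts V.hR i hi' s hs3
    rw [V.reflectRoot_eq hi hs2, cartan_eq V hi hs2, eps_mul V hi' hs3, V.neg_eq hs2, Rs.eps_neg]
    refine ⟨rfl, ?_⟩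
    rcases Rs.eps_pm with h | h <;> simp [h]
  · ext row col
    rw [Matrix.of_apply]
    rcases col with j | s
    · have e := congrFun (n_col_h (F := F) V.hT V.hM i hi' j.val (by rw [hl]; exact j.isLt)) row
      have hc : j.val = code D (Sum.inl j) := rfl
      rw [hc, mulVec_bas_code, ← hc] at e
      rw [e]
      rcases row with j' | s'
      · simp only [Pi.sub_apply, Pi.smul_apply, smul_eq_mul, Sum.elim_inl, bas_inl]
        rw [cartan_eq V j.isLt hs, V.simple_eq hi]
        have h0 : j'.val = j.val ↔ j' = j := Fin.ext_iff.symm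
        have h3 : ((if j'.val = j.val then (1 : F) else 0)) = (if j' = j then (1 : F) else 0) := by
          by_cases h1 : j' = j
          · rw [if_pos h1, if_pos (h0.mpr h1)]
          · rw [if_neg h1, if_neg (fun e => h1 (h0.mp e))]
        rw [h3]
        by_cases h2 : j'.val = i
        · rw [if_pos h2, if_pos h2, mul_one]
        · rw [if_neg h2, if_neg h2, mul_zero]
      · simp only [Pi.sub_apply, Pi.smul_apply, smul_eq_mul, Sum.elim_inr, Sum.elim_inl, bas_inr]
        rw [if_neg (by have := j.isLt; omega), if_neg (by omega)]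
        simp
    · have hs2 : s.val < T.n := by rw [hn]; exact s.isLt
      have Rs := reflFacts V.hR i hi' _ hs2
      have e := congrFun (n_col_e (F := F) V.hT V.hM i hi' s.val hs2) row
      have hc : T.l + s.val = code D (Sum.inr s) := by simp only [code_inr]; omega
      rw [hc, mulVec_bas_code] at e
      rw [e]
      rcases row with j' | s'
      · simp only [Pi.smul_apply, smul_eq_mul, Sum.elim_inl, Sum.elim_inr, bas_inl]
        rw [if_neg (by have := j'.isLt; omega)]
        simp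
      · simp only [Pi.smul_apply, smul_eq_mul, Sum.elim_inr, bas_inr]
        rw [V.reflectRoot_eq hi s.isLt]
        by_cases h : s'.val = T.refl i s.val
        · rw [if_pos (by omega), if_pos h, mul_one]
        · rw [if_neg (by omega), if_neg h, mul_zero]

omit V3 in
/-- S1028 restated for convenience -/
theorem U_normal_in_B_aux (V3 : Valid3 T C X) :
    (D.posUnipotent F).subgroupOf (D.borelSubgroup F) |>.Normal := by
  refine (Subgroup.normal_subgroupOf_iff_le_normalizer (le_sup_left : D.posUnipotent F ≤ D.borelSubgroup F)).mpr ?_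
  exact (sup_le (Subgroup.le_normalizer) (H_le_normalizer_U V V2 V3) : D.posUnipotent F ⊔ D.diagonalSubgroup F ≤ _)

/-- `B` is solvable. -/
theorem B_solvable : Group.IsSolvable (D.borelSubgroup F) := by
  have hUn : ((D.posUnipotent F).subgroupOf (D.borelSubgroup F)).Normal := U_normal_in_B_aux V V2 V3
  have hUs : Group.IsNilpotent (D.posUnipotent F) := U_nilpotent V V2
  -- the subgroup `U` of `B` is solvable
  have s1 : Group.IsSolvable ((D.posUnipotent F).subgroupOf (D.borelSubgroup F)) := by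
    have e : ((D.posUnipotent F).subgroupOf (D.borelSubgroup F)) ≃* (D.posUnipotent F) :=
      Subgroup.subgroupOfEquivOfLe le_sup_left
    exact Group.isSolvable_of_surjective (f := e.symm.toMonoidHom) e.symm.surjective
  have s2 : Group.IsSolvable (D.borelSubgroup F ⧸ (D.posUnipotent F).subgroupOf (D.borelSubgroup F)) := by
    -- the quotient is the image of the commutative group `H`
    have hH : ∀ g ∈ D.diagonalSubgroup F, ∀ g' ∈ D.diagonalSubgroup F, g * g' = g' * g := by
      intro g hg g' hg'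
      obtain ⟨χ, _, rfl⟩ := H_form V V2 V3 hg
      obtain ⟨χ', _, rfl⟩ := H_form V V2 V3 hg'
      rw [dgU_mul, dgU_mul, mul_comm]
    let _ : CommGroup (D.diagonalSubgroup F) :=
      { (inferInstance : Group (D.diagonalSubgroup F)) with
        mul_comm := fun a b => Subtype.ext (hH a a.2 b b.2) }
    have hle : D.diagonalSubgroup F ≤ D.borelSubgroup F := le_sup_right
    let f : (D.diagonalSubgroup F) →* D.borelSubgroup F ⧸ (D.posUnipotent F).subgroupOf (D.borelSubgroup F) :=
      (QuotientGroup.mk' _).comp (Subgroup.inclusion hle)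
    refine Group.isSolvable_of_surjective (f := f) ?_
    intro q
    obtain ⟨b, rfl⟩ := QuotientGroup.mk'_surjective _ q
    obtain ⟨u, hu, h, hh, e⟩ := B_form V V2 V3 b.2
    refine ⟨⟨h, hh⟩, ?_⟩
    show QuotientGroup.mk' _ _ = QuotientGroup.mk' _ _
    rw [QuotientGroup.mk'_eq_mk']
    have hz : h⁻¹ * u * h⁻¹⁻¹ ∈ D.posUnipotent F := normalizer_conj_mem (H_le_normalizer_U V V2 V3 (Subgroup.inv_mem _ hh)) hu
    refine ⟨⟨_, (le_sup_left : D.posUnipotent F ≤ D.borelSubgroup F) hz⟩, Subgroup.mem_subgroupOf.mpr hz, ?_⟩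
    apply Subtype.ext
    simp [e]
    group
  exact Group.isSolvable_of_ker_le_range ((D.posUnipotent F).subgroupOf (D.borelSubgroup F)).subtype
    (QuotientGroup.mk' ((D.posUnipotent F).subgroupOf (D.borelSubgroup F))) (by simp)

end

end Cfsg.Agent.Lib.ChevN3
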