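import Cfsg.Agent.Lib.ChevV6

/-! The order of Chevalley groups over finite fields. -/

set_option autoImplicit false

namespace Cfsg.Agent.Lib.ChevOrd

open Cfsg.Lie Matrix Cfsg.Agent.Lib.ChevEngine Cfsg.Agent.Lib.ChevTab Cfsg.Agent.Lib.ChevMono
  Cfsg.Agent.Lib.ChevRel Cfsg.Agent.Lib.ChevValid Cfsg.Agent.Lib.ChevGL Cfsg.Agent.Lib.ChevGrad Cfsg.Agent.Lib.ChevL2
  Cfsg.Agent.Lib.ChevU Cfsg.Agent.Lib.ChevU2 Cfsg.Agent.Lib.ChevU3 Cfsg.Agent.Lib.ChevDiag Cfsg.Agent.Lib.ChevV3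
  Cfsg.Agent.Lib.ChevH Cfsg.Agent.Lib.ChevN Cfsg.Agent.Lib.ChevN2 Cfsg.Agent.Lib.ChevN3 Cfsg.Agent.Lib.ChevBN Cfsg.Agent.Lib.ChevBN2
  Cfsg.Agent.Lib.ChevV4 Cfsg.Agent.Lib.ChevSimp Cfsg.Agent.Lib.ChevSimp2 Cfsg.Agent.Lib.ChevPar Cfsg.Agent.Lib.ChevV5 Cfsg.Agent.Lib.ChevPar2
  Cfsg.Agent.Lib.BNPair Cfsg.Agent.Lib.BNCount Cfsg.Agent.Lib.ChevW1 Cfsg.Agent.Lib.ChevW2 Cfsg.Agent.Lib.ChevV6

variable {D : ChevalleyDatum} {T : Tb} {C : Tc} {X : Tc3} {Y : Tc4} {F : Type*} [Field F]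

section
variable (V : Valid D T) (V2 : Valid2 D T C) (V3 : Valid3 T C X)

include V V2 V3 in
/-- `|B| = |U| |H|`. -/
theorem card_borel : Nat.card (D.borelSubgroup F) = Nat.card (D.posUnipotent F) * Nat.card (D.diagonalSubgroup F) := by
  rw [← Nat.card_prod]
  symm
  apply Nat.card_congr
  refine Equiv.ofBijective (fun p => ⟨(p.1 : GL D.Idx F) * p.2, Subgroup.mul_mem _ (U_le_B V V2 V3 p.1.2) (H_le_B V V2 V3 p.2.2)⟩) ⟨?_, ?_⟩
  · rintro ⟨⟨u, hu⟩, ⟨h, hh⟩⟩ ⟨⟨u', hu'⟩, ⟨h', hh'⟩⟩ e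
    have e' : u * h = u' * h' := congrArg Subtype.val e
    have e1 : u'⁻¹ * u = h' * h⁻¹ := by
      calc u'⁻¹ * u = u'⁻¹ * (u * h) * h⁻¹ := by group
        _ = h' * h⁻¹ := by rw [e']; group
    have h1 : u'⁻¹ * u ∈ D.posUnipotent F ⊓ D.diagonalSubgroup F :=
      ⟨Subgroup.mul_mem _ (Subgroup.inv_mem _ hu') hu, by rw [e1]; exact Subgroup.mul_mem _ hh' (Subgroup.inv_mem _ hh)⟩
    rw [U_inf_H V V2 V3, Subgroup.mem_bot] at h1
    have h2 : u = u' := by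
      calc u = u' * (u'⁻¹ * u) := by group
        _ = u' := by rw [h1, mul_one]
    subst h2
    have h3 : h = h' := mul_left_cancel e'
    subst h3
    rfl
  · rintro ⟨b, hb⟩
    obtain ⟨u, hu, h, hh, e⟩ := B_form V V2 V3 hb
    exact ⟨(⟨u, hu⟩, ⟨h, hh⟩), Subtype.ext e.symm⟩

theorem card_PB : Nat.card (bnPair (F := F) V V2 V3).B = Nat.card (D.borelSubgroup F) :=
  Nat.card_congr (Subgroup.subgroupOfEquivOfLe (B_le_G V V2)).toEquiv

/-- The double coset of a simple reflection. -/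
theorem card_Cw_xi {i : ℕ} (hi : i < T.l) :
    Nat.card (Cw (bnPair (F := F) V V2 V3) (xi V V2 V3 F i)) = Nat.card F * Nat.card (bnPair (F := F) V V2 V3).B := by
  have hi' : i < D.rank := by rw [← V.hl]; exact hi
  have hp := sim_lt' V V2 V3 hi
  have hp' : T.sim i < D.nroots := by rw [← V.hn]; exact hp
  have hn : nU V (D.simple i) (1 : F) ∈ D.group F := nU_mem_G V (V.sim_lt hi') 1
  have hnN := n_mem_N V V2 V3 (F := F) hi
  have hX : ∀ t : F, xU V (T.sim i) t ∈ D.group F := fun t => U_le_G V V2 (xU_mem_U V V2 V3 (sim_pos V V2 hi) hp t)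
  let nn : (bnPair (F := F) V V2 V3).N := ⟨⟨nU V (D.simple i) 1, hn⟩, hnN⟩
  have hxi : xi V V2 V3 F i = mk _ nn := by
    unfold xi
    rw [dif_pos hi]
  rw [hxi, mul_comm, ← Nat.card_prod]
  symm
  apply Nat.card_congr
  refine Equiv.ofBijective (fun p => ⟨p.1.1 * (nn : ↥(D.group F)) * ⟨xU V (T.sim i) p.2, hX p.2⟩, ?_⟩) ⟨?_, ?_⟩
  · rw [mem_Cw_mk]
    exact ⟨p.1.1, p.1.2, ⟨xU V (T.sim i) p.2, hX p.2⟩, U_le_B V V2 V3 (xU_mem_U V V2 V3 (sim_pos V V2 hi) hp p.2), rfl⟩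
  · rintro ⟨⟨b, hb⟩, t⟩ ⟨⟨b', hb'⟩, t'⟩ e
    have e0 : (b : GL D.Idx F) * nU V (D.simple i) 1 * xU V (T.sim i) t = (b' : GL D.Idx F) * nU V (D.simple i) 1 * xU V (T.sim i) t' :=
      congrArg (fun z => ((z : ↥(Cw (bnPair (F := F) V V2 V3) _)).1 : ↥(D.group F)).1) e
    have e1 : (b' : GL D.Idx F)⁻¹ * (b : GL D.Idx F) = xU V (T.neg (T.sim i)) (-(t' + -t)) := by
      rw [← n_x_p V V2 V3 hi, ← xU_mul, ← xU_inv]
      calc (b' : GL D.Idx F)⁻¹ * (b : GL D.Idx F) = (b' : GL D.Idx F)⁻¹ * ((b : GL D.Idx F) * nU V (D.simple i) 1 * xU V (T.sim i) t) * (xU V (T.sim i) t)⁻¹ * (nU V (D.simple i) 1)⁻¹ := by group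
        _ = _ := by rw [e0]; group
    have hb1 : (b : GL D.Idx F) ∈ D.borelSubgroup F := hb
    have hb1' : (b' : GL D.Idx F) ∈ D.borelSubgroup F := hb'
    have h1 : (b' : GL D.Idx F)⁻¹ * (b : GL D.Idx F) ∈ D.borelSubgroup F ⊓ D.negUnipotent F := by
      refine ⟨Subgroup.mul_mem _ (Subgroup.inv_mem _ hb1') hb1, ?_⟩
      rw [e1, negUnipotent_eq V]
      exact Subgroup.subset_closure ⟨_, _, (isNeg_iff V V2 _).mpr (neg_lt_half V2 (sim_pos V V2 hi) hp), rfl⟩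
    rw [B_inf_V V V2 V3, Subgroup.mem_bot] at h1
    have h2 := h1
    rw [e1] at h2
    have h3 := congrArg Units.val h2
    rw [xU_val, Units.val_one, V.x_eq_one_iff (by rw [← V.hn]; exact V.neg_lt hp)] at h3
    have h4 : t' = t := by
      have : t' + -t = 0 := neg_eq_zero.mp h3
      rw [← sub_eq_add_neg] at this
      exact sub_eq_zero.mp this
    subst h4
    have h5 : (b : GL D.Idx F) = b' := by
      have := mul_right_cancel (mul_right_cancel e0)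
      exact this
    have h6 : b = b' := Subtype.ext h5
    subst h6
    rfl
  · rintro ⟨g, hg⟩
    rw [mem_Cw_mk] at hg
    obtain ⟨x, hx, y, hy, rfl⟩ := hg
    have hy1 : (y : GL D.Idx F) ∈ D.borelSubgroup F := hy
    have hx1 : (x : GL D.Idx F) ∈ D.borelSubgroup F := hx
    obtain ⟨h₀, hh₀, u, hu, a, e⟩ := B_decomp V V2 V3 hi hy1
    set s := nU V (D.simple i) (1 : F) with hs
    have hsN : s ∈ N0 V F := Subgroup.subset_closure ⟨i, hi, rfl⟩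
    set b₀ := (s * h₀ * s⁻¹) * (s * u * s⁻¹) with hb₀
    have hb₀B : b₀ ∈ D.borelSubgroup F := by
      refine Subgroup.mul_mem _ (H_le_B V V2 V3 ?_) (U_le_B V V2 V3 (Up_le_U V V2 V3 i (n_conj_Up V V2 V3 hi hu)))
      exact normalizer_conj_mem (N0_normalizes_H V V2 V3 hsN) hh₀
    have hz : (x : GL D.Idx F) * b₀ ∈ D.borelSubgroup F := Subgroup.mul_mem _ hx1 hb₀B
    refine ⟨(⟨⟨(x : GL D.Idx F) * b₀, B_le_G V V2 hz⟩, hz⟩, a), ?_⟩
    apply Subtype.ext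
    apply Subtype.ext
    show (x : GL D.Idx F) * b₀ * s * xU V (T.sim i) a = (x : GL D.Idx F) * s * y
    rw [e, hb₀]
    group

end

end Cfsg.Agent.Lib.ChevOrd
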