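import Cfsg.Agent.Lib.ChevHOrd

/-! The order formula. -/

set_option autoImplicit false

namespace Cfsg.Agent.Lib.ChevOrd2

open Cfsg.Lie Cfsg.Agent.Lib.ChevEngine Cfsg.Agent.Lib.ChevTab Cfsg.Agent.Lib.ChevMono
  Cfsg.Agent.Lib.ChevRel Cfsg.Agent.Lib.ChevValid Cfsg.Agent.Lib.ChevGL Cfsg.Agent.Lib.ChevGrad Cfsg.Agent.Lib.ChevL2
  Cfsg.Agent.Lib.ChevU Cfsg.Agent.Lib.ChevU2 Cfsg.Agent.Lib.ChevU3 Cfsg.Agent.Lib.ChevDiag Cfsg.Agent.Lib.ChevV3
  Cfsg.Agent.Lib.ChevH Cfsg.Agent.Lib.ChevN Cfsg.Agent.Lib.ChevN2 Cfsg.Agent.Lib.ChevN3 Cfsg.Agent.Lib.ChevBN Cfsg.Agent.Lib.ChevBN2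
  Cfsg.Agent.Lib.ChevV4 Cfsg.Agent.Lib.ChevPar Cfsg.Agent.Lib.ChevV5 Cfsg.Agent.Lib.ChevPar2
  Cfsg.Agent.Lib.BNPair Cfsg.Agent.Lib.BNCount Cfsg.Agent.Lib.ChevW1 Cfsg.Agent.Lib.ChevW2 Cfsg.Agent.Lib.ChevV6
  Cfsg.Agent.Lib.ChevOrd Cfsg.Agent.Lib.ChevHOrd

variable {D : ChevalleyDatum} {T : Tb} {C : Tc} {X : Tc3} {Y : Tc4} {F : Type*} [Field F] [Fintype F]

section
variable (V : Valid D T) (V2 : Valid2 D T C) (V3 : Valid3 T C X) (V4 : Valid4 D T C Y)

instance finG : Finite ↥(D.group F) := inferInstance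

theorem finW : Finite (W (bnPair (F := F) V V2 V3)) := inferInstance

include V V2 V3 V4 in
/-- The order of the group, in terms of orbit tables. -/
theorem card_G (steps : List (ℕ × List (ℕ × List ℤ)))
    (h : chkChain T steps = true) (hcov : allBelow T.l (fun m => anyL steps (fun s => Nat.beq s.1 m)) = true) :
    Nat.card (D.group F) = Fintype.card F ^ (D.nroots / 2) * Nat.card (D.diagonalSubgroup F) *
      (steps.map fun s => (s.2.map fun e => (Fintype.card F) ^ e.1).sum).prod := by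
  haveI : Fintype (W (bnPair (F := F) V V2 V3)) := Fintype.ofFinite _
  have hq : ∀ x ∈ Sb (bnPair (F := F) V V2 V3), Nat.card (Cw (bnPair (F := F) V V2 V3) x) = Fintype.card F * Nat.card (bnPair (F := F) V V2 V3).B := by
    intro x hx
    obtain ⟨i, hi, rfl⟩ := mem_Sb V V2 V3 hx
    rw [card_Cw_xi V V2 V3 hi, Nat.card_eq_fintype_card]
  rw [card_G_eq hq, sum_len_eq V V2 V3 V4 _ steps h hcov, card_PB V V2 V3, card_borel V V2 V3, card_U V V2]

include V V2 V3 V4 in
/-- The order formula. -/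
theorem order_formula (steps : List (ℕ × List (ℕ × List ℤ))) (ds : List ℕ)
    (h : chkChain T steps = true) (hcov : allBelow T.l (fun m => anyL steps (fun s => Nat.beq s.1 m)) = true)
    (hp : chkPoly D.rank ds steps = true) {d : ℕ}
    (hd : d * Nat.card (D.diagonalSubgroup F) = (Fintype.card F - 1) ^ D.rank) :
    d * Nat.card (D.group F) = Fintype.card F ^ (D.nroots / 2) * (ds.map fun e => Fintype.card F ^ e - 1).prod := by
  have h2q : 1 ≤ Fintype.card F := Fintype.card_pos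
  have h1 := poly_identity hp (Fintype.card F)
  have h2 : (((steps.map fun s => (s.2.map fun e => (Fintype.card F) ^ e.1).sum).prod) * (Fintype.card F - 1) ^ D.rank) =
      (ds.map fun e => Fintype.card F ^ e - 1).prod := by
    have e1 : (((Fintype.card F - 1 : ℕ) : ℤ)) = (Fintype.card F : ℤ) - 1 := by
      rw [Nat.cast_sub h2q]
      simp
    have e2 : (((ds.map fun e => Fintype.card F ^ e - 1).prod : ℕ) : ℤ) = (ds.map fun d => (Fintype.card F : ℤ) ^ d - 1).prod := by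
      rw [Nat.cast_list_prod, List.map_map]
      congr 1
      apply List.map_congr_left
      intro e _
      simp only [Function.comp]
      rw [Nat.cast_sub (Nat.one_le_pow _ _ h2q)]
      simp
    apply Nat.cast_injective (R := ℤ)
    rw [Nat.cast_mul, Nat.cast_pow, e1, e2, ← h1]
  rw [card_G V V2 V3 V4 steps h hcov, ← h2, ← hd]
  ring

end

end Cfsg.Agent.Lib.ChevOrd2
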