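import Cfsg.Agent.Lib.ChevSimp2

/-! Standard parabolic subgroups: generators, Levi decomposition, normalizers. -/

set_option autoImplicit false

namespace Cfsg.Agent.Lib.ChevPar

open Cfsg.Lie Matrix Cfsg.Agent.Lib.ChevEngine Cfsg.Agent.Lib.ChevTab Cfsg.Agent.Lib.ChevMono
  Cfsg.Agent.Lib.ChevRel Cfsg.Agent.Lib.ChevValid Cfsg.Agent.Lib.ChevGL Cfsg.Agent.Lib.ChevGrad Cfsg.Agent.Lib.ChevL2
  Cfsg.Agent.Lib.ChevU Cfsg.Agent.Lib.ChevU2 Cfsg.Agent.Lib.ChevU3 Cfsg.Agent.Lib.ChevDiag Cfsg.Agent.Lib.ChevV3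
  Cfsg.Agent.Lib.ChevH Cfsg.Agent.Lib.ChevN Cfsg.Agent.Lib.ChevN2 Cfsg.Agent.Lib.ChevN3 Cfsg.Agent.Lib.ChevBN Cfsg.Agent.Lib.ChevBN2
  Cfsg.Agent.Lib.ChevV4 Cfsg.Agent.Lib.ChevSimp Cfsg.Agent.Lib.ChevSimp2

variable {D : ChevalleyDatum} {T : Tb} {C : Tc} {X : Tc3} {Y : Tc4} {F : Type*} [Field F]

/-- membership in the subsystem, in terms of the coefficients -/
def InJ (C : Tc) (l : ℕ) (J : Set ℕ) (r : ℕ) : Prop := ∀ i < l, i ∉ J → C.coef r i = 0

section
variable (V : Valid D T) (V2 : Valid2 D T C) (V3 : Valid3 T C X) (V4 : Valid4 D T C Y)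

include V3 in
theorem grOf_refl (g : ℕ → ℤ) {i s : ℕ} (hi : i < T.l) (hs : s < T.n) :
    grOf T C g (T.refl i s) = grOf T C g s - T.ca i s * g i := by
  unfold grOf
  have h : ∀ k ∈ Finset.range T.l, C.coef (T.refl i s) k * g k = C.coef s k * g k - (if k = i then T.ca i s * g i else 0) := by
    intro k hk
    rw [V3.coef_refl hi hs (by simpa using hk)]
    split_ifs with h
    · subst h; ring
    · ring
  rw [Finset.sum_congr rfl h, Finset.sum_sub_distrib, Finset.sum_ite_eq']
  simp [hi]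

include V in
theorem closure_xU (P : ℕ → Prop) :
    Subgroup.closure {g : GL D.Idx F | ∃ (r : ℕ) (t : F), P r ∧ (g : Matrix D.Idx D.Idx F) = D.x F r t} =
      Subgroup.closure {g | ∃ (r : ℕ) (t : F), P r ∧ g = xU V r t} := by
  congr 1
  ext g
  constructor
  · rintro ⟨r, t, h, e⟩
    exact ⟨r, t, h, eq_xU V e⟩
  · rintro ⟨r, t, h, rfl⟩
    exact ⟨r, t, h, rfl⟩

include V V4 in
theorem co_eq_zero_iff {r i : ℕ} (hr : r < T.n) (hi : i < T.l) : T.co r i = 0 ↔ C.coef r i = 0 := by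
  have h := V4.hCo
  simp only [checkCo, allBelow_iff, force_eq, Bool.and_eq_true, decide_eq_true_eq] at h
  have h1 := (h r hr i hi).1
  simpa using h1

include V V4 in
theorem inRootSub_iff {J : Set ℕ} {r : ℕ} : D.InRootSub J r ↔ r < T.n ∧ InJ C T.l J r := by
  unfold ChevalleyDatum.InRootSub InJ
  rw [V.hn, V.hl]
  constructor
  · rintro ⟨h1, h2⟩
    refine ⟨h1, fun i hi hJ => ?_⟩
    have h3 := h2 i hi hJ
    rw [V.hT.hco r (by rw [V.hn]; exact h1) i (by rw [V.hl]; exact hi)] at h3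
    exact (co_eq_zero_iff V V4 (by rw [V.hn]; exact h1) (by rw [V.hl]; exact hi)).mp h3
  · rintro ⟨h1, h2⟩
    refine ⟨h1, fun i hi hJ => ?_⟩
    rw [V.hT.hco r (by rw [V.hn]; exact h1) i (by rw [V.hl]; exact hi)]
    exact (co_eq_zero_iff V V4 (by rw [V.hn]; exact h1) (by rw [V.hl]; exact hi)).mpr (h2 i hi hJ)

include V4 in
theorem st2_props {r : ℕ} (h1 : T.n / 2 ≤ r) (h2 : r < T.n) (h3 : ∀ i < T.l, T.sim i ≠ r) :
    Y.st2 r < T.l ∧ 0 < T.ca (Y.st2 r) r := by
  have h := V4.hSt2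
  simp only [checkSt2, allBelow_iff, force_eq, Bool.or_eq_true, Bool.and_eq_true, decide_eq_true_eq] at h
  rcases h r h2 with (h4 | h4) | h4
  · simp at h4; omega
  · exfalso
    have h5 : ¬ ∀ i < T.l, T.sim i ≠ r := by
      intro h6
      have : (allBelow T.l fun i => !(Nat.beq (T.sim i) r)) = true := by
        rw [allBelow_iff]
        intro i hi
        simp [beq_dec, h6 i hi]
      rw [this] at h4
      simp at h4
    exact h5 h3
  · exact ⟨by simpa using h4.1, h4.2⟩

include V V2 V3 V4 in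
/-- Negative root elements in a parabolic -/
theorem neg_mem (J : Set ℕ) {P : Subgroup (GL D.Idx F)} (hB : D.borelSubgroup F ≤ P)
    (hn : ∀ j ∈ J, j < T.l → nU V (D.simple j) 1 ∈ P) :
    ∀ (d : ℕ) (r : ℕ), (htOf T C r).toNat = d → T.n / 2 ≤ r → r < T.n → InJ C T.l J r → ∀ t : F, xU V (T.neg r) t ∈ P := by
  intro d
  induction d using Nat.strong_induction_on with
  | _ d ih =>
    intro r hd h1 h2 hJ t
    by_cases hs : ∃ j < T.l, T.sim j = r
    · obtain ⟨j, hj, rfl⟩ := hs
      have hjJ : j ∈ J := by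
        by_contra hc
        have := hJ j hj hc
        rw [sim_coef V2 hj] at this
        omega
      have hj' : j < D.rank := by rw [← V.hl]; exact hj
      have hr' : T.sim j < D.nroots := by rw [← V.hn]; exact h2
      by_cases ht : t = 0
      · rw [ht, xU_zero]; exact P.one_mem
      have e := xneg_eq V (r := T.sim j) ht
      rw [V.neg_eq hr'] at e
      rw [e]
      have h3 : ∀ a : F, xU V (T.sim j) a ∈ P := fun a => hB (U_le_B V V2 V3 (xU_mem_U V V2 V3 h1 h2 a))
      refine P.mul_mem (P.mul_mem (P.mul_mem (h3 _) (hB (H_le_B V V2 V3 (hU_mem_H V V2 V3 hr' ?_)))) ?_) (h3 _)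
      · exact neg_ne_zero.mpr (inv_ne_zero ht)
      · have := hn j hjJ hj
        rwa [V.simple_eq hj'] at this
    · push Not at hs
      obtain ⟨hi, hca⟩ := st2_props V4 h1 h2 hs
      set i := Y.st2 r with hidef
      have Rr := reflFacts V.hR i hi r h2
      have hpos := V3.pos_perm hi h2 h1 (fun e => hs i hi e.symm)
      have hiJ : i ∈ J := by
        by_contra hc
        have h4 := hJ i hi hc
        have h5 := coef_nonneg_of_pos V V2 hpos Rr.w_lt hi
        rw [V3.coef_refl hi h2 hi, if_pos rfl, h4] at h5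
        omega
      have hJ' : InJ C T.l J (T.refl i r) := by
        intro k hk hkJ
        rw [V3.coef_refl hi h2 hk, if_neg (by rintro rfl; exact hkJ hiJ), hJ k hk hkJ, sub_zero]
      have hht : htOf T C (T.refl i r) = htOf T C r - T.ca i r := by
        rw [htOf_eq, htOf_eq, grOf_refl V3 _ hi h2]
        ring
      have hh1 := (ht_pos V2 h1 h2).1
      have hh2 := (ht_pos V2 hpos Rr.w_lt).1
      have hlt : (htOf T C (T.refl i r)).toNat < d := by omega
      have IH := ih _ hlt _ rfl hpos Rr.w_lt hJ'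
      have hi' : i < D.rank := by rw [← V.hl]; exact hi
      have hn' := hn i hiJ hi
      have hneg_lt := V.neg_lt Rr.w_lt
      have Rw := reflFacts V.hR i hi _ Rr.w_lt
      have R2 := reflFacts V.hR i hi _ hneg_lt
      have e := nU_conj' V hi' (s := T.neg (T.refl i r)) (by rw [← V.hn]; exact hneg_lt) (((T.eps i (T.neg (T.refl i r)) : ℤ) : F) * t)
      rw [Rw.w_neg, Rr.w_w] at e
      have e2 : ((T.eps i (T.neg (T.refl i r)) : ℤ) : F) * (((T.eps i (T.neg (T.refl i r)) : ℤ) : F) * t) = t := by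
        rcases R2.eps_pm with h3 | h3 <;> simp [h3]
      rw [e2] at e
      rw [← e]
      exact P.mul_mem (P.mul_mem hn' (IH _)) (P.inv_mem hn')

include V V2 V3 V4 in
theorem neg_mem' (J : Set ℕ) {P : Subgroup (GL D.Idx F)} (hB : D.borelSubgroup F ≤ P)
    (hn : ∀ j ∈ J, j < T.l → nU V (D.simple j) 1 ∈ P) {r : ℕ} (h1 : T.n / 2 ≤ r) (h2 : r < T.n) (hJ : InJ C T.l J r) (t : F) :
    xU V (T.neg r) t ∈ P :=
  neg_mem V V2 V3 V4 J hB hn _ r rfl h1 h2 hJ t

theorem neg_inJ {J : Set ℕ} {r : ℕ} (V2 : Valid2 D T C) (hr : r < T.n) (h : InJ C T.l J r) : InJ C T.l J (T.neg r) := by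
  intro k hk hkJ
  rw [V2.coef_neg hr hk, h k hk hkJ]
  rfl

include V V2 V3 in
theorem sim_inJ {J : Set ℕ} {j : ℕ} (hj : j ∈ J) (hj' : j < T.l) : InJ C T.l J (T.sim j) := by
  intro k hk hkJ
  refine sim_coef_ne V V2 V3 hj' hk ?_
  rintro rfl
  exact hkJ hj

include V V2 V3 V4 in
/-- S1047 -/
theorem par_eq (J : Set ℕ) : D.parabolicSubgroup F J = D.diagonalSubgroup F ⊔
      Subgroup.closure {g : GL D.Idx F | ∃ (r : ℕ) (t : F), (D.IsPosRoot r ∨ D.InRootSub J r) ∧ (g : Matrix D.Idx D.Idx F) = D.x F r t} := by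
  rw [closure_xU V]
  apply le_antisymm
  · apply sup_le
    · apply sup_le
      · rw [posUnipotent_eq V]
        refine le_trans (Subgroup.closure_mono ?_) le_sup_right
        rintro g ⟨r, t, h, rfl⟩
        exact ⟨r, t, Or.inl h, rfl⟩
      · exact le_sup_left
    · rw [Subgroup.closure_le]
      rintro g ⟨j, hj, hjr, e⟩
      have hj' : j < T.l := by rw [V.hl]; exact hjr
      have hs := sim_lt' V V2 V3 hj'
      have h0 : g = nU V (D.simple j) 1 := Units.ext (by rw [e, nU_val])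
      rw [h0, nU_eq, V.simple_eq hjr, V.neg_eq (by rw [← V.hn]; exact hs)]
      have h1 : ∀ (r : ℕ) (t : F), (D.IsPosRoot r ∨ D.InRootSub J r) → xU V r t ∈ D.diagonalSubgroup F ⊔
          Subgroup.closure {g : GL D.Idx F | ∃ (r : ℕ) (t : F), (D.IsPosRoot r ∨ D.InRootSub J r) ∧ g = xU V r t} :=
        fun r t h => Subgroup.mem_sup_right (Subgroup.subset_closure ⟨r, t, h, rfl⟩)
      have h2 : D.InRootSub J (T.sim j) := (inRootSub_iff V V4).mpr ⟨hs, sim_inJ V V2 V3 hj hj'⟩
      have h3 : D.InRootSub J (T.neg (T.sim j)) := (inRootSub_iff V V4).mpr ⟨V.neg_lt hs, neg_inJ V2 hs (sim_inJ V V2 V3 hj hj')⟩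
      exact Subgroup.mul_mem _ (Subgroup.mul_mem _ (h1 _ _ (Or.inr h2)) (h1 _ _ (Or.inr h3))) (h1 _ _ (Or.inr h2))
  · apply sup_le
    · exact le_trans (H_le_B V V2 V3) le_sup_left
    · rw [Subgroup.closure_le]
      rintro g ⟨r, t, h, rfl⟩
      have hB : D.borelSubgroup F ≤ D.parabolicSubgroup F J := le_sup_left
      have hpos : ∀ r, D.IsPosRoot r → ∀ t : F, xU V r t ∈ D.parabolicSubgroup F J := by
        intro r hr t
        apply hB
        apply U_le_B V V2 V3
        rw [posUnipotent_eq V]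
        exact Subgroup.subset_closure ⟨r, t, hr, rfl⟩
      rcases h with h | h
      · exact hpos r h t
      · obtain ⟨h1, h2⟩ := (inRootSub_iff V V4).mp h
        by_cases h3 : T.n / 2 ≤ r
        · exact hpos r ((isPos_iff V V2 r).mpr ⟨h3, by rw [← V.hn]; exact h1⟩) t
        · have h4 : T.n / 2 ≤ T.neg r := by
            show T.n / 2 ≤ T.n - 1 - r
            have := n_even V2
            omega
          have := neg_mem' V V2 V3 V4 J hB (P := D.parabolicSubgroup F J) (fun j hj hj' => ?_) h4 (V.neg_lt h1) (neg_inJ V2 h1 h2) t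
          · rwa [V.neg_neg h1] at this
          · exact Subgroup.mem_sup_right (Subgroup.subset_closure ⟨j, hj, by rw [← V.hl]; exact hj', nU_val V _ _⟩)

/-- The set of roots of the radical. -/
def RJ (D : ChevalleyDatum) (J : Set ℕ) (r : ℕ) : Prop := D.IsPosRoot r ∧ ¬ D.InRootSub J r

include V V2 V4 in
theorem RJ_iff {J : Set ℕ} {r : ℕ} : RJ D J r ↔ T.n / 2 ≤ r ∧ r < T.n ∧ ∃ k < T.l, k ∉ J ∧ 0 < C.coef r k := by
  unfold RJ
  rw [isPos_iff V V2, inRootSub_iff V V4, ← V.hn]
  constructor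
  · rintro ⟨⟨h1, h2⟩, h3⟩
    refine ⟨h1, h2, ?_⟩
    by_contra hc
    push Not at hc
    apply h3
    refine ⟨h2, fun i hi hiJ => ?_⟩
    have h4 := hc i hi hiJ
    have h5 := coef_nonneg_of_pos V V2 h1 h2 hi
    omega
  · rintro ⟨h1, h2, k, hk, hkJ, h3⟩
    refine ⟨⟨h1, h2⟩, ?_⟩
    rintro ⟨_, h4⟩
    have := h4 k hk hkJ
    omega

include V V2 V3 V4 in
/-- Conjugates of the generators of the radical by root elements of `P_J`. -/
theorem conj_RJ {J : Set ℕ} {r s : ℕ} (hr : r < T.n) (hr2 : T.n / 2 ≤ r ∨ InJ C T.l J r) (hs : RJ D J s) (a u : F) :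
    xU V r a * xU V s u * (xU V r a)⁻¹ ∈ D.unipotentRadical F J := by
  have hU : D.unipotentRadical F J = Subgroup.closure {g | ∃ (r : ℕ) (t : F), RJ D J r ∧ g = xU V r t} := by
    unfold ChevalleyDatum.unipotentRadical
    have := closure_xU V (F := F) (RJ D J)
    unfold RJ at this ⊢
    rw [← this]
    congr 1
    ext g
    simp only [Set.mem_ofPred_eq, and_assoc]
  obtain ⟨h1, h2, k, hk, hkJ, h3⟩ := (RJ_iff V V2 V4).mp hs
  have hr' : r < D.nroots := by rw [← V.hn]; exact hr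
  have hs' : s < D.nroots := by rw [← V.hn]; exact h2
  have hrk : 0 ≤ C.coef r k := by
    rcases hr2 with h | h
    · exact coef_nonneg_of_pos V V2 h hr hk
    · rw [h k hk hkJ]
  by_cases hsr : s = r
  · subst hsr
    rw [xU_inv, xU_mul, xU_mul]
    rw [hU, show a + u + -a = u by ring]
    exact Subgroup.subset_closure ⟨s, u, hs, rfl⟩
  have hneg : s ≠ T.neg r := by
    rintro rfl
    rw [V2.coef_neg hr hk] at h3
    have : (-C.coef r k) > 0 := h3
    omega
  have e := cfU V hr' hs' hsr (by rw [V.neg_eq hr']; exact hneg) (-a) u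
  have e2 : xU V r a * xU V s u * (xU V r a)⁻¹ = xU V s u * wordU V (D.commWord F r s (-a) u) := by
    rw [xU_inv, mul_assoc, e, ← mul_assoc, ← mul_assoc, xU_mul, add_neg_cancel, xU_zero, one_mul]
  rw [e2, hU]
  refine Subgroup.mul_mem _ (Subgroup.subset_closure ⟨s, u, hs, rfl⟩) ?_
  have key : ∀ (L : List (ℕ × F)), (∀ e ∈ L, RJ D J e.1) → wordU V L ∈ Subgroup.closure {g | ∃ (r : ℕ) (t : F), RJ D J r ∧ g = xU V r t} := by
    intro L hL
    induction L with
    | nil => simp [Subgroup.one_mem]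
    | cons e L ih =>
      rw [wordU_cons]
      exact Subgroup.mul_mem _ (Subgroup.subset_closure ⟨e.1, e.2, hL e (by simp), rfl⟩)
        (ih fun x hx => hL x (List.mem_cons_of_mem _ hx))
  apply key
  intro x hx
  unfold ChevalleyDatum.commWord at hx
  simp only [List.mem_map] at hx
  obtain ⟨c, hc, rfl⟩ := hx
  rw [commTerms_eq V.hT] at hc
  obtain ⟨c1, c2, c3, c4⟩ := term_coef V V2 hr h2 c hc
  have e5 := c4 k hk
  have hpos2 : 0 < C.coef c.1 k := by
    rw [e5]
    have h6 : (1 : ℤ) ≤ c.2.2.2 := by exact_mod_cast c3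
    have h7 : (1 : ℤ) ≤ c.2.2.1 := by exact_mod_cast c2
    nlinarith
  exact (RJ_iff V V2 V4).mpr ⟨pos_of_coef_pos V V2 c1 hk hpos2, c1, k, hk, hkJ, hpos2⟩

include V V2 V3 V4 in
theorem radical_eq (J : Set ℕ) : D.unipotentRadical F J = Subgroup.closure {g | ∃ (r : ℕ) (t : F), RJ D J r ∧ g = xU V r t} := by
  unfold ChevalleyDatum.unipotentRadical
  have := closure_xU V (F := F) (RJ D J)
  unfold RJ at this ⊢
  rw [← this]
  congr 1
  ext g
  simp only [Set.mem_ofPred_eq, and_assoc]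

include V V2 V3 V4 in
theorem root_normalizes {J : Set ℕ} {r : ℕ} (hr : r < T.n) (hr2 : T.n / 2 ≤ r ∨ InJ C T.l J r) (a : F) :
    xU V r a ∈ Subgroup.normalizer (D.unipotentRadical F J : Set (GL D.Idx F)) := by
  have key : ∀ a : F, ∀ x ∈ D.unipotentRadical F J, xU V r a * x * (xU V r a)⁻¹ ∈ D.unipotentRadical F J := by
    intro a x hx
    rw [radical_eq V V2 V3 V4] at hx
    refine conj_closure_mem _ ?_ hx
    rintro y ⟨s, u, hs, rfl⟩
    exact conj_RJ V V2 V3 V4 hr hr2 hs a u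
  refine mem_normalizer_of_conj (key a) ?_
  intro x hx
  have := key (-a) x hx
  rwa [← xU_inv, inv_inv] at this

include V V2 V3 V4 in
theorem H_normalizes_radical (J : Set ℕ) : D.diagonalSubgroup F ≤ Subgroup.normalizer (D.unipotentRadical F J : Set (GL D.Idx F)) := by
  rw [radical_eq V V2 V3 V4]
  apply H_normalizes V V2 V3
  intro r hr
  exact hr.1.1

include V V2 V3 V4 in
/-- first part of S1048 -/
theorem par_le_normalizer (J : Set ℕ) : D.parabolicSubgroup F J ≤ Subgroup.normalizer (D.unipotentRadical F J : Set (GL D.Idx F)) := by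
  rw [par_eq V V2 V3 V4, closure_xU V]
  apply sup_le
  · exact H_normalizes_radical V V2 V3 V4 J
  · rw [Subgroup.closure_le]
    rintro g ⟨r, t, h, rfl⟩
    rcases h with h | h
    · have h1 := (isPos_iff V V2 r).mp h
      exact root_normalizes V V2 V3 V4 (by rw [V.hn]; exact h1.2) (Or.inl h1.1) t
    · obtain ⟨h1, h2⟩ := (inRootSub_iff V V4).mp h
      exact root_normalizes V V2 V3 V4 h1 (Or.inr h2) t

include V V2 V3 V4 in
theorem radical_sup_levi (J : Set ℕ) : D.unipotentRadical F J ⊔ D.leviSubgroup F J = D.parabolicSubgroup F J := by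
  rw [par_eq V V2 V3 V4, closure_xU V]
  unfold ChevalleyDatum.leviSubgroup
  rw [closure_xU V (F := F) (D.InRootSub J), radical_eq V V2 V3 V4]
  apply le_antisymm
  · apply sup_le
    · refine le_trans (Subgroup.closure_mono ?_) le_sup_right
      rintro g ⟨r, t, h, rfl⟩
      exact ⟨r, t, Or.inl h.1, rfl⟩
    · apply sup_le le_sup_left
      refine le_trans (Subgroup.closure_mono ?_) le_sup_right
      rintro g ⟨r, t, h, rfl⟩
      exact ⟨r, t, Or.inr h, rfl⟩
  · apply sup_le
    · exact le_trans le_sup_left le_sup_right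
    · rw [Subgroup.closure_le]
      rintro g ⟨r, t, h, rfl⟩
      by_cases h2 : D.InRootSub J r
      · exact Subgroup.mem_sup_right (Subgroup.mem_sup_right (Subgroup.subset_closure ⟨r, t, h2, rfl⟩))
      · rcases h with h | h
        · exact Subgroup.mem_sup_left (Subgroup.subset_closure ⟨r, t, ⟨h, h2⟩, rfl⟩)
        · exact absurd h h2

/-! ### Block structure -/

/-- The grading attached to `J`. -/
noncomputable def gJ (T : Tb) (C : Tc) (J : Set ℕ) : ℕ → ℤ := by
  classical exact grOf T C fun k => if k ∈ J then 0 else 1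

/-- Block preserving elements -/
def Blk (D : ChevalleyDatum) (gr : ℕ → ℤ) (F : Type*) [Field F] : Subgroup (GL D.Idx F) where
  carrier := {g | IsTri gr 0 g ∧ IsTri gr 0 g⁻¹}
  mul_mem' := by
    rintro a b ⟨h1, h2⟩ ⟨h3, h4⟩
    refine ⟨IsTri.mul le_rfl h1 h3, ?_⟩
    rw [_root_.mul_inv_rev]
    exact IsTri.mul le_rfl h4 h2
  one_mem' := ⟨isTri_one 0, by simpa using isTri_one 0⟩
  inv_mem' := by
    rintro a ⟨h1, h2⟩
    exact ⟨h2, by simpa using h1⟩

omit [Field F] in
theorem dg_isTri (gr : ℕ → ℤ) {F : Type*} [Field F] (χ : ℕ → Fˣ) : IsTri gr 0 (dgU D χ) := by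
  intro a b hab
  have hne : a = b := by
    by_contra hne
    apply hab
    rw [Matrix.sub_apply, dgU_val, Matrix.diagonal_apply_ne _ hne, Matrix.one_apply_ne hne, sub_zero]
  subst hne
  omega

theorem dg_mem_Blk (gr : ℕ → ℤ) (χ : ℕ → Fˣ) : dgU D χ ∈ Blk D gr F := by
  refine ⟨dg_isTri gr χ, ?_⟩
  rw [dgU_inv]
  exact dg_isTri gr _

include V in
theorem x_mem_Blk {gr : ℕ → ℤ} (hg : IsGrading T gr) {r : ℕ} (hr : r < D.nroots) (h0 : 0 ≤ gr r) (t : F) : xU V r t ∈ Blk D gr F := by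
  refine ⟨(xU_isTri V hg hr h0 t).mono h0, ?_⟩
  rw [xU_inv]
  exact (xU_isTri V hg hr h0 (-t)).mono h0

include V V2 V3 V4 in
theorem levi_le_Blk (J : Set ℕ) : D.leviSubgroup F J ≤ Blk D (gJ T C J) F ⊓ Blk D (fun r => - gJ T C J r) F := by
  have hg : IsGrading T (gJ T C J) := isGrading_of V.hT V2 _
  have hg2 := isGrading_negG hg
  unfold ChevalleyDatum.leviSubgroup
  rw [closure_xU V (F := F) (D.InRootSub J)]
  apply sup_le
  · intro g hg'
    obtain ⟨χ, _, rfl⟩ := H_form V V2 V3 hg'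
    exact ⟨dg_mem_Blk _ _, dg_mem_Blk _ _⟩
  · rw [Subgroup.closure_le]
    rintro g ⟨r, t, h, rfl⟩
    obtain ⟨h1, h2⟩ := (inRootSub_iff V V4).mp h
    have h0 : gJ T C J r = 0 := by
      unfold gJ grOf
      apply Finset.sum_eq_zero
      intro k hk
      by_cases hk2 : k ∈ J
      · simp [hk2]
      · rw [h2 k (by simpa using hk) hk2]; simp
    have hr' : r < D.nroots := by rw [← V.hn]; exact h1
    exact ⟨x_mem_Blk V hg hr' (by rw [h0]) t, x_mem_Blk V hg2 hr' (by rw [h0]; simp) t⟩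

include V V2 V3 V4 in
theorem radical_isTri (J : Set ℕ) {g : GL D.Idx F} (h : g ∈ D.unipotentRadical F J) : IsTri (gJ T C J) 1 g := by
  have hg : IsGrading T (gJ T C J) := isGrading_of V.hT V2 _
  rw [radical_eq V V2 V3 V4] at h
  refine closure_isTri V hg (by omega) _ ?_ h
  intro r hr
  obtain ⟨h1, h2, k, hk, hkJ, h3⟩ := (RJ_iff V V2 V4).mp hr
  refine ⟨by rw [← V.hn]; exact h2, ?_⟩
  classical
  unfold gJ grOf
  have h4 : ∀ i ∈ Finset.range T.l, 0 ≤ C.coef r i * (if i ∈ J then (0 : ℤ) else 1) := by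
    intro i hi
    have := coef_nonneg_of_pos V V2 h1 h2 (k := i) (by simpa using hi)
    split_ifs <;> simp [this]
  have h5 := Finset.single_le_sum h4 (Finset.mem_range.mpr hk)
  rw [if_neg hkJ, mul_one] at h5
  have h6 : 1 ≤ C.coef r k := by omega
  exact le_trans h6 h5

include V V2 V3 V4 in
theorem radical_inf_levi (J : Set ℕ) : D.unipotentRadical F J ⊓ D.leviSubgroup F J = ⊥ := by
  rw [eq_bot_iff]
  rintro g ⟨h1, h2⟩
  rw [Subgroup.mem_bot]
  have h3 := radical_isTri V V2 V3 V4 J h1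
  obtain ⟨⟨h4, _⟩, ⟨h5, _⟩⟩ := levi_le_Blk V V2 V3 V4 J h2
  apply Units.ext
  rw [Units.val_one, ← sub_eq_zero]
  ext a b
  by_contra hab
  have e1 := h3 a b hab
  have e2 := h5 a b hab
  rw [gI_neg, gI_neg] at e2
  omega

include V V2 V3 V4 in
/-- The normalizer of the radical. -/
theorem normalizer_radical (J : Set ℕ) :
    Subgroup.normalizer (D.unipotentRadical F J : Set (GL D.Idx F)) ⊓ D.group F = D.parabolicSubgroup F J := by
  have hPG : D.parabolicSubgroup F J ≤ D.group F := by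
    apply sup_le (B_le_G V V2)
    rw [Subgroup.closure_le]
    rintro g ⟨j, _, hj, e⟩
    have h0 : g = nU V (D.simple j) 1 := Units.ext (by rw [e, nU_val])
    rw [h0]
    exact nU_mem_G V (V.sim_lt hj) 1
  apply le_antisymm
  · -- the subgroup of the Chevalley group
    set P := bnPair (F := F) V V2 V3 with hP
    set M : Subgroup ↥(D.group F) := (Subgroup.normalizer (D.unipotentRadical F J : Set (GL D.Idx F))).subgroupOf (D.group F) with hM
    have hBM : P.B ≤ M := by
      intro b hb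
      have h1 : (b : GL D.Idx F) ∈ D.borelSubgroup F := hb
      exact par_le_normalizer V V2 V3 V4 J (Subgroup.mem_sup_left h1)
    have hMe := Cfsg.Agent.Lib.BNPair.eq_parabolic_of_le M hBM
    rintro g ⟨hg1, hg2⟩
    have hgM : (⟨g, hg2⟩ : ↥(D.group F)) ∈ M := hg1
    rw [hMe] at hgM
    have hle : P.parabolic (P.S ∩ (M : Set ↥(D.group F))) ≤ (D.parabolicSubgroup F J).subgroupOf (D.group F) := by
      apply sup_le
      · intro b hb
        exact Subgroup.mem_sup_left hb
      · rw [Subgroup.closure_le]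
        rintro s ⟨⟨i, hi, hs⟩, hsM⟩
        have hi' : i < T.l := by rw [V.hl]; exact hi
        have hs' : (s : GL D.Idx F) = nU V (D.simple i) 1 := Units.ext (by rw [hs, nU_val])
        by_cases hiJ : i ∈ J
        · exact Subgroup.mem_sup_right (Subgroup.subset_closure ⟨i, hiJ, hi, hs⟩)
        · exfalso
          have h1 : (s : GL D.Idx F) ∈ Subgroup.normalizer (D.unipotentRadical F J : Set (GL D.Idx F)) := hsM
          rw [hs', V.simple_eq hi] at h1
          have hp := sim_lt' V V2 V3 hi'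
          have hRJ : RJ D J (T.sim i) := by
            refine (RJ_iff V V2 V4).mpr ⟨sim_pos V V2 hi', hp, i, hi', hiJ, ?_⟩
            rw [sim_coef V2 hi']
            omega
          have hx : xU V (T.sim i) (1 : F) ∈ D.unipotentRadical F J := by
            rw [radical_eq V V2 V3 V4]
            exact Subgroup.subset_closure ⟨_, _, hRJ, rfl⟩
          have h2 := normalizer_conj_mem h1 hx
          have h3 := nU_conj' V hi (s := T.sim i) (by rw [← V.hn]; exact hp) (1 : F)
          rw [V.simple_eq hi] at h3 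
          rw [h3, refl_sim V V2 V3 hi', eps_sim V V2 V3 hi'] at h2
          -- it is in `U`, and in `V`
          have h4 : D.unipotentRadical F J ≤ D.posUnipotent F := by
            rw [radical_eq V V2 V3 V4, posUnipotent_eq V]
            apply Subgroup.closure_mono
            rintro g ⟨r, t, h, rfl⟩
            exact ⟨r, t, h.1, rfl⟩
          have h5 := U_le_B V V2 V3 (h4 h2)
          have hn1 := V.neg_lt hp
          have h6 : xU V (T.neg (T.sim i)) (((-1 : ℤ) : F) * 1) ∈ D.negUnipotent F := by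
            rw [negUnipotent_eq V]
            refine Subgroup.subset_closure ⟨_, _, (isNeg_iff V V2 _).mpr (neg_lt_half V2 (sim_pos V V2 hi') hp), rfl⟩
          have h7 : xU V (T.neg (T.sim i)) (((-1 : ℤ) : F) * 1) ∈ D.borelSubgroup F ⊓ D.negUnipotent F := ⟨h5, h6⟩
          rw [B_inf_V V V2 V3, Subgroup.mem_bot] at h7
          have h8 := congrArg Units.val h7
          rw [xU_val, Units.val_one, V.x_eq_one_iff (by rw [← V.hn]; exact hn1)] at h8
          simp at h8
    exact hle hgM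
  · intro g hg
    exact ⟨par_le_normalizer V V2 V3 V4 J hg, hPG hg⟩

end

end Cfsg.Agent.Lib.ChevPar
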