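import Cfsg.Agent.Lib.ChevV5
import Cfsg.Prelude.Def_ChevAutomorphisms

/-! Root characters, Bruhat form, conjugacy in `H`, canonical form. -/

set_option autoImplicit false

namespace Cfsg.Agent.Lib.ChevPar2

open Cfsg.Lie Matrix Cfsg.Agent.Lib.ChevEngine Cfsg.Agent.Lib.ChevTab Cfsg.Agent.Lib.ChevMono
  Cfsg.Agent.Lib.ChevRel Cfsg.Agent.Lib.ChevValid Cfsg.Agent.Lib.ChevGL Cfsg.Agent.Lib.ChevGrad Cfsg.Agent.Lib.ChevL2
  Cfsg.Agent.Lib.ChevU Cfsg.Agent.Lib.ChevU2 Cfsg.Agent.Lib.ChevU3 Cfsg.Agent.Lib.ChevDiag Cfsg.Agent.Lib.ChevV3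
  Cfsg.Agent.Lib.ChevH Cfsg.Agent.Lib.ChevN Cfsg.Agent.Lib.ChevN2 Cfsg.Agent.Lib.ChevN3 Cfsg.Agent.Lib.ChevBN Cfsg.Agent.Lib.ChevBN2
  Cfsg.Agent.Lib.ChevV4 Cfsg.Agent.Lib.ChevSimp Cfsg.Agent.Lib.ChevSimp2 Cfsg.Agent.Lib.ChevPar Cfsg.Agent.Lib.ChevV5

variable {D : ChevalleyDatum} {T : Tb} {C : Tc} {X : Tc3} {Y : Tc4} {F : Type*} [Field F]

section
variable (V : Valid D T) (V2 : Valid2 D T C) (V3 : Valid3 T C X) (V4 : Valid4 D T C Y)

include V V2 in
theorem isCh_of_rootChar (hs : checkStep T = true) {χ : ℕ → Fˣ} (hχ : D.IsRootCharacter χ) : IsCh T χ := by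
  have hroot : ∀ r < T.n, ∀ s < T.n, ∀ e L, T.ch r s = e :: L → χ e.1 = χ r * χ s := by
    intro r hr s hs' e L h
    refine hχ.2 r s e.1 (by rw [← V.hn]; exact hr) (by rw [← V.hn]; exact hs') ?_
    unfold ChevalleyDatum.chainRoot
    rw [chainEntry_eq V.hT, h]
    rfl
  refine ⟨?_, ?_⟩
  · intro r hr
    rw [← V.neg_eq (by rw [← V.hn]; exact hr)]
    exact hχ.1 r (by rw [← V.hn]; exact hr)
  · intro r hr c hc k hk
    have hstep : stepL T r (T.ch r c) = true := by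
      simp only [checkStep, allBelow_iff, force_eq] at hs
      exact hs r hr c hc
    induction k with
    | zero =>
      obtain ⟨e, L, h1⟩ := List.exists_cons_of_length_pos hk
      have e0 : ∀ (L0 : List (ℕ × ℤ)) (h : 0 < L0.length), L0 = e :: L → L0[0] = e := by
        rintro _ _ rfl
        rfl
      rw [e0 _ hk h1, hroot r hr c hc e L h1]
      simp [mul_comm]
    | succ k ih =>
      have hk' : k < (T.ch r c).length := by omega
      have IH := ih hk'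
      obtain ⟨e, L', h1, h2⟩ := stepL_spec _ hstep k hk
      have h3 := (chain_of_check V.hT V2 hr hk').1
      have h4 := hroot r hr _ h3 e L' h1
      rw [← h2, h4, IH, pow_succ' (χ r) (k + 1), mul_left_comm]

theorem isCh_inv {χ : ℕ → Fˣ} (hχ : IsCh T χ) : IsCh T χ⁻¹ := by
  refine ⟨?_, ?_⟩
  · intro r hr
    simp [hχ.neg r hr]
  · intro r hr c hc k hk
    simp [hχ.chain r hr c hc k hk, mul_comm]

include V V2 in
theorem U_inf_dg {χ : ℕ → Fˣ} (h : dgU D χ ∈ D.posUnipotent F) : dgU D χ = 1 :=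
  tri_dg (U_isTri V V2 (isGrading_wt V V2) (fun r h2 h3 => wt_one V V2 h2 h3) h)

include V in
theorem dg_normalizes_U {χ : ℕ → Fˣ} (hχ : IsCh T χ) :
    dgU D χ ∈ Subgroup.normalizer (D.posUnipotent F : Set (GL D.Idx F)) := by
  have key : ∀ χ' : ℕ → Fˣ, IsCh T χ' → ∀ x ∈ D.posUnipotent F, dgU D χ' * x * (dgU D χ')⁻¹ ∈ D.posUnipotent F := by
    intro χ' hχ' x hx
    rw [posUnipotent_eq V] at hx ⊢
    refine conj_closure_mem _ ?_ hx
    rintro y ⟨r, t, hr, rfl⟩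
    rw [conj_dg V hχ' hr.1, mul_inv_cancel_right]
    exact Subgroup.subset_closure ⟨r, _, hr, rfl⟩
  refine mem_normalizer_of_conj (key χ hχ) ?_
  intro x hx
  have := key χ⁻¹ (isCh_inv hχ) x hx
  rwa [← dgU_inv, inv_inv] at this

include V V2 V3 V4 in
theorem radical_empty : D.unipotentRadical F ∅ = D.posUnipotent F := by
  rw [radical_eq V V2 V3 V4, posUnipotent_eq V]
  congr 1
  ext g
  constructor
  · rintro ⟨r, t, h, rfl⟩
    exact ⟨r, t, h.1, rfl⟩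
  · rintro ⟨r, t, h, rfl⟩
    refine ⟨r, t, (RJ_iff V V2 V4).mpr ?_, rfl⟩
    have h1 := (isPos_iff V V2 r).mp h
    have hr : r < T.n := by rw [V.hn]; exact h1.2
    refine ⟨h1.1, hr, ?_⟩
    have h2 := (ht_pos V2 h1.1 hr).1
    rw [htOf_eq] at h2
    unfold grOf at h2
    by_contra hc
    push Not at hc
    have h3 : ∑ i ∈ Finset.range T.l, C.coef r i * 1 ≤ 0 := by
      apply Finset.sum_nonpos
      intro i hi
      have := hc i (by simpa using hi) (by simp)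
      omega
    have h4 : (1 : ℤ) ≤ ∑ i ∈ Finset.range T.l, C.coef r i * 1 := h2
    omega

theorem par_empty : D.parabolicSubgroup F ∅ = D.borelSubgroup F := by
  unfold ChevalleyDatum.parabolicSubgroup
  have : Subgroup.closure {g : GL D.Idx F | ∃ j ∈ (∅ : Set ℕ), j < D.rank ∧ (g : Matrix D.Idx D.Idx F) = D.nMat F (D.simple j) 1} = ⊥ := by
    rw [Subgroup.closure_eq_bot_iff]
    rintro g ⟨j, hj, _⟩
    exact absurd hj (by simp)
  rw [this, sup_bot_eq]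

include V V2 V3 V4 in
theorem normalizer_U : Subgroup.normalizer (D.posUnipotent F : Set (GL D.Idx F)) ⊓ D.group F = D.borelSubgroup F := by
  have := normalizer_radical (F := F) V V2 V3 V4 ∅
  rwa [radical_empty V V2 V3 V4, par_empty] at this

include V V2 V3 V4 in
/-- S2158 -/
theorem dg_mem_H {χ : ℕ → Fˣ} (hχ : IsCh T χ) (hg : dgU D χ ∈ D.group F) : dgU D χ ∈ D.diagonalSubgroup F := by
  have h1 : dgU D χ ∈ D.borelSubgroup F := by
    rw [← normalizer_U V V2 V3 V4]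
    exact ⟨dg_normalizes_U V hχ, hg⟩
  obtain ⟨u, hu, h, hh, e⟩ := B_form V V2 V3 h1
  obtain ⟨χ', _, rfl⟩ := H_form V V2 V3 hh
  have e2 : u = dgU D (χ * χ'⁻¹) := by
    rw [← dgU_mul, ← dgU_inv, e]
    group
  rw [e2] at hu
  have e3 := U_inf_dg V V2 hu
  rw [e2, e3, one_mul] at e
  rw [e]
  exact hh

/-! ### Bruhat -/

include V V2 V3 in
theorem bruhat {g : GL D.Idx F} (hg : g ∈ D.group F) :
    ∃ b ∈ D.borelSubgroup F, ∃ n ∈ D.monomialSubgroup F, ∃ b' ∈ D.borelSubgroup F, g = b * n * b' := by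
  obtain ⟨n, hn, x, hx, y, hy, e⟩ := Cfsg.Agent.Lib.BNPair.exists_mem_C (P := bnPair (F := F) V V2 V3) ⟨g, hg⟩
  refine ⟨x, hx, n, hn, y, hy, ?_⟩
  have := congrArg Subtype.val e
  simpa using this

/-! ### Triangular matrices with a diagonal -/

/-- Triangular matrices -/
def TD (D : ChevalleyDatum) (gr : ℕ → ℤ) (A : Matrix D.Idx D.Idx F) : Prop :=
  ∀ a b, A a b ≠ 0 → a = b ∨ gI D gr b + 1 ≤ gI D gr a

theorem TD.mul {gr : ℕ → ℤ} {A B : Matrix D.Idx D.Idx F} (h1 : TD D gr A) (h2 : TD D gr B) : TD D gr (A * B) := by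
  intro a b hab
  rw [Matrix.mul_apply] at hab
  obtain ⟨c, _, hc⟩ := Finset.exists_ne_zero_of_sum_ne_zero hab
  rcases h1 a c (left_ne_zero_of_mul hc) with rfl | h3
  · exact h2 a b (right_ne_zero_of_mul hc)
  · rcases h2 c b (right_ne_zero_of_mul hc) with rfl | h4
    · exact Or.inr h3
    · right; omega

theorem TD.mul_diag {gr : ℕ → ℤ} {A B : Matrix D.Idx D.Idx F} (h1 : TD D gr A) (h2 : TD D gr B) (a : D.Idx) :
    (A * B) a a = A a a * B a a := by
  rw [Matrix.mul_apply, Finset.sum_eq_single a]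
  · intro c _ hc
    by_contra h3
    have h4 := left_ne_zero_of_mul h3
    have h5 := right_ne_zero_of_mul h3
    rcases h1 a c h4 with h6 | h6
    · exact hc h6.symm
    · rcases h2 c a h5 with h7 | h7
      · exact hc h7
      · omega
  · intro h
    exact absurd (Finset.mem_univ a) h

theorem TD.one {gr : ℕ → ℤ} : TD D gr (1 : Matrix D.Idx D.Idx F) := by
  intro a b hab
  left
  by_contra h
  exact hab (Matrix.one_apply_ne h)

theorem TD.pow {gr : ℕ → ℤ} {A : Matrix D.Idx D.Idx F} (h1 : TD D gr A) (k : ℕ) :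
    TD D gr (A ^ k) ∧ ∀ a, (A ^ k) a a = (A a a) ^ k := by
  induction k with
  | zero =>
    refine ⟨by simpa using TD.one, ?_⟩
    intro a
    simp
  | succ k ih =>
    rw [pow_succ]
    refine ⟨ih.1.mul h1, ?_⟩
    intro a
    rw [TD.mul_diag ih.1 h1, ih.2, pow_succ]

/-- A unipotent matrix in `B` has trivial diagonal part. -/
theorem dg_trivial_of_unip {gr : ℕ → ℤ} {w : GL D.Idx F} (hw : IsTri gr 1 w) {χ : ℕ → Fˣ} {M : ℕ}
    (h : ((w * dgU D χ : GL D.Idx F) - 1 : Matrix D.Idx D.Idx F) ^ M = 0) : dgU D χ = 1 := by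
  have hd : ∀ a, (w : Matrix D.Idx D.Idx F) a a = 1 := by
    intro a
    by_contra h2
    have h3 : ((w : Matrix D.Idx D.Idx F) - 1) a a ≠ 0 := by
      rw [Matrix.sub_apply, Matrix.one_apply_eq]
      exact sub_ne_zero.mpr h2
    have := hw a a h3
    omega
  have hT : TD D gr (((w * dgU D χ : GL D.Idx F) : Matrix D.Idx D.Idx F) - 1) := by
    intro a b hab
    by_cases hne : a = b
    · exact Or.inl hne
    right
    rw [Matrix.sub_apply, Matrix.one_apply_ne hne, sub_zero, Units.val_mul, dgU_val, Matrix.mul_diagonal] at hab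
    have h1 := left_ne_zero_of_mul hab
    have h2 : ((w : Matrix D.Idx D.Idx F) - 1) a b ≠ 0 := by
      rw [Matrix.sub_apply, Matrix.one_apply_ne hne, sub_zero]
      exact h1
    exact hw a b h2
  have hdiag : ∀ a, (((w * dgU D χ : GL D.Idx F) : Matrix D.Idx D.Idx F) - 1) a a =
      (Sum.elim (fun _ => (1 : F)) (fun s : Fin D.nroots => ((χ s.val : Fˣ) : F)) a) - 1 := by
    intro a
    rw [Matrix.sub_apply, Matrix.one_apply_eq, Units.val_mul, dgU_val, Matrix.mul_diagonal, hd, one_mul]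
  apply Units.ext
  rw [dgU_val, Units.val_one, ← Matrix.diagonal_one]
  congr 1
  funext a
  have h2 := (hT.pow M).2 a
  rw [h, hdiag] at h2
  have h3 : (Sum.elim (fun _ => (1 : F)) (fun s : Fin D.nroots => ((χ s.val : Fˣ) : F)) a) - 1 = 0 := by
    by_contra h4
    exact pow_ne_zero M h4 (by rw [← h2]; rfl)
  exact sub_eq_zero.mp h3

include V V2 V3 in
theorem H_comm {a b : GL D.Idx F} (ha : a ∈ D.diagonalSubgroup F) (hb : b ∈ D.diagonalSubgroup F) : a * b = b * a := by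
  obtain ⟨χ, _, rfl⟩ := H_form V V2 V3 ha
  obtain ⟨χ', _, rfl⟩ := H_form V V2 V3 hb
  rw [dgU_mul, dgU_mul, mul_comm]

include V V2 V3 in
/-- S1046 -/
theorem H_conj {h₁ h₂ g : GL D.Idx F} (h1 : h₁ ∈ D.diagonalSubgroup F) (h2 : h₂ ∈ D.diagonalSubgroup F)
    (hg : g ∈ D.group F) (hc : g * h₁ * g⁻¹ = h₂) :
    ∃ n ∈ D.monomialSubgroup F, n * h₁ * n⁻¹ = h₂ := by
  obtain ⟨b, hb, n, hn, b', hb', rfl⟩ := bruhat V V2 V3 hg
  obtain ⟨u, hu, k, hk, rfl⟩ := B_form V V2 V3 hb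
  obtain ⟨u', hu', k', hk', rfl⟩ := B_form V V2 V3 hb'
  set n' := k * n with hn'
  have hn'N : n' ∈ D.monomialSubgroup F := Subgroup.mul_mem _ (H_le_N V V2 V3 hk) hn
  have hk1 : k' * h₁ * k'⁻¹ = h₁ := by
    rw [H_comm V V2 V3 hk' h1, mul_inv_cancel_right]
  have e1 : n' * (u' * h₁ * u'⁻¹) * n'⁻¹ = u⁻¹ * h₂ * u := by
    rw [← hc, hn']
    have : (u * k * n * (u' * k')) * h₁ * (u * k * n * (u' * k'))⁻¹ = u * (k * n) * (u' * (k' * h₁ * k'⁻¹) * u'⁻¹) * (k * n)⁻¹ * u⁻¹ := by group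
    rw [this, hk1]
    group
  -- the unipotent parts
  set v := u' * (h₁ * u'⁻¹ * h₁⁻¹) with hv
  set w := u⁻¹ * (h₂ * u * h₂⁻¹) with hw
  have hvU : v ∈ D.posUnipotent F :=
    Subgroup.mul_mem _ hu' (normalizer_conj_mem (H_le_normalizer_U V V2 V3 h1) (Subgroup.inv_mem _ hu'))
  have hwU : w ∈ D.posUnipotent F :=
    Subgroup.mul_mem _ (Subgroup.inv_mem _ hu) (normalizer_conj_mem (H_le_normalizer_U V V2 V3 h2) hu)
  have e2 : u' * h₁ * u'⁻¹ = v * h₁ := by rw [hv]; group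
  have e3 : u⁻¹ * h₂ * u = w * h₂ := by rw [hw]; group
  rw [e2, e3] at e1
  set h₃ := n' * h₁ * n'⁻¹ with hh3
  have hh3H : h₃ ∈ D.diagonalSubgroup F := normalizer_conj_mem (N_le_normalizer_H V V2 V3 hn'N) h1
  have e4 : n' * v * n'⁻¹ = w * (h₂ * h₃⁻¹) := by
    have : n' * v * n'⁻¹ = (n' * (v * h₁) * n'⁻¹) * h₃⁻¹ := by rw [hh3]; group
    rw [this, e1]
    group
  obtain ⟨χ, _, hχ⟩ := H_form V V2 V3 (Subgroup.mul_mem _ h2 (Subgroup.inv_mem _ hh3H))
  rw [hχ] at e4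
  have hwT : IsTri (wtOf T C) 1 w := U_isTri V V2 (isGrading_wt V V2) (fun r h2 h3 => wt_one V V2 h2 h3) hwU
  have hun : ((w * dgU D χ : GL D.Idx F) - 1 : Matrix D.Idx D.Idx F) ^ (D.rank + D.nroots) = 0 := by
    rw [← e4]
    have e5 : ((n' * v * n'⁻¹ : GL D.Idx F) - 1 : Matrix D.Idx D.Idx F) = (n' : Matrix D.Idx D.Idx F) * ((v : Matrix D.Idx D.Idx F) - 1) * ((n'⁻¹ : GL D.Idx F) : Matrix D.Idx D.Idx F) := by
      rw [Units.val_mul, Units.val_mul, mul_sub, sub_mul, mul_one, Units.mul_inv]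
    rw [e5, Units.conj_pow, unipotent V V2 hvU]
    simp
  have hd := dg_trivial_of_unip hwT hun
  rw [hd] at hχ
  refine ⟨n', hn'N, ?_⟩
  have : h₂ * h₃⁻¹ = 1 := hχ
  exact (mul_inv_eq_one.mp this).symm

end

end Cfsg.Agent.Lib.ChevPar2
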