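import Cfsg.Agent.Lib.ChevPar2

/-! Canonical form of elements of the Chevalley group. -/

set_option autoImplicit false

namespace Cfsg.Agent.Lib.ChevPar3

open Cfsg.Lie Matrix Cfsg.Agent.Lib.ChevEngine Cfsg.Agent.Lib.ChevTab Cfsg.Agent.Lib.ChevMono
  Cfsg.Agent.Lib.ChevRel Cfsg.Agent.Lib.ChevValid Cfsg.Agent.Lib.ChevGL Cfsg.Agent.Lib.ChevGrad Cfsg.Agent.Lib.ChevL2
  Cfsg.Agent.Lib.ChevU Cfsg.Agent.Lib.ChevU2 Cfsg.Agent.Lib.ChevU3 Cfsg.Agent.Lib.ChevDiag Cfsg.Agent.Lib.ChevV3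
  Cfsg.Agent.Lib.ChevH Cfsg.Agent.Lib.ChevN Cfsg.Agent.Lib.ChevN2 Cfsg.Agent.Lib.ChevN3 Cfsg.Agent.Lib.ChevBN Cfsg.Agent.Lib.ChevBN2
  Cfsg.Agent.Lib.ChevV4 Cfsg.Agent.Lib.ChevSimp Cfsg.Agent.Lib.ChevSimp2 Cfsg.Agent.Lib.ChevPar Cfsg.Agent.Lib.ChevV5 Cfsg.Agent.Lib.ChevPar2

variable {D : ChevalleyDatum} {T : Tb} {C : Tc} {X : Tc3} {Y : Tc4} {F : Type*} [Field F]

/-- The subgroup in the canonical form. -/
def Um (D : ChevalleyDatum) (F : Type*) [Field F] (n : GL D.Idx F) : Subgroup (GL D.Idx F) :=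
  Subgroup.closure {x : GL D.Idx F | ∃ (r : ℕ) (t : F), D.IsPosRoot r ∧
    (D.rootSubgroup F r).map (MulAut.conj n).toMonoidHom ≤ D.negUnipotent F ∧ (x : Matrix D.Idx D.Idx F) = D.x F r t}

section
variable (V : Valid D T) (V2 : Valid2 D T C) (V3 : Valid3 T C X)

include V V2 in
/-- `x_j(t)` normalizes the root elements above. -/
theorem conj_uge {j : ℕ} (hj : T.n / 2 ≤ j) (hj2 : j < T.n) (t : F) {a : GL D.Idx F} (ha : a ∈ uge V F (j + 1)) :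
    xU V j t * a * (xU V j t)⁻¹ ∈ uge V F (j + 1) := by
  refine conj_closure_mem _ ?_ ha
  rintro y ⟨r, u, ⟨h1, h2⟩, rfl⟩
  have hj' : j < D.nroots := by rw [← V.hn]; exact hj2
  have hneg : r ≠ D.neg j := by
    rw [V.neg_eq hj']
    have := neg_lt_half V2 hj hj2
    omega
  have e := cfU V hj' h2 (by omega) hneg (-t) u
  have e2 : xU V j t * xU V r u * (xU V j t)⁻¹ = xU V r u * wordU V (D.commWord F j r (-t) u) := by
    rw [xU_inv, mul_assoc, e, ← mul_assoc, ← mul_assoc, xU_mul, add_neg_cancel, xU_zero, one_mul]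
  rw [e2]
  exact Subgroup.mul_mem _ (xU_mem_uge V h1 h2 u) (uge_anti V (by omega) (comm_word_mem V V2 hj h1 (by rw [V.hn]; exact h2) (-t) u))

include V V2 in
/-- Decomposition of `U` along an element acting on the roots. -/
theorem decomp {Q : Subgroup (GL D.Idx F)} {R : Subgroup (GL D.Idx F)}
    (hQR : ∀ r, T.n / 2 ≤ r → r < T.n → ∀ t : F, xU V r t ∈ Q ∨ xU V r t ∈ R) :
    ∀ (k j : ℕ), j + k = T.n → T.n / 2 ≤ j → ∀ g ∈ uge V F j, ∃ a ∈ Q ⊓ uge V F j, ∃ v ∈ R, g = a * v := by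
  intro k
  induction k with
  | zero =>
    intro j hj _ g hg
    rw [uge_top V (by rw [← V.hn]; omega), Subgroup.mem_bot] at hg
    exact ⟨1, ⟨Q.one_mem, Subgroup.one_mem _⟩, 1, R.one_mem, by simp [hg]⟩
  | succ k ih =>
    intro j hj hj0 g hg
    have hj2 : j < T.n := by omega
    obtain ⟨t, v, hv, rfl⟩ := uge_step V V2 hj0 hg
    obtain ⟨a, ⟨ha1, ha2⟩, w, hw, rfl⟩ := ih (j + 1) (by omega) (by omega) v hv
    have hj' : j < D.nroots := by rw [← V.hn]; exact hj2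
    rcases hQR j hj0 hj2 t with h | h
    · refine ⟨xU V j t * a, ⟨Q.mul_mem h ha1, Subgroup.mul_mem _ (xU_mem_uge V le_rfl hj' t) (uge_anti V (by omega) ha2)⟩, w, hw, ?_⟩
      group
    · set c := a⁻¹ * (xU V j t * a * (xU V j t)⁻¹) with hc
      have hcm : c ∈ uge V F (j + 1) := Subgroup.mul_mem _ (Subgroup.inv_mem _ ha2) (conj_uge V V2 hj0 hj2 t ha2)
      obtain ⟨a', ⟨ha'1, ha'2⟩, w', hw', e⟩ := ih (j + 1) (by omega) (by omega) c hcm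
      refine ⟨a * a', ⟨Q.mul_mem ha1 ha'1, uge_anti V (by omega) (Subgroup.mul_mem _ ha2 ha'2)⟩, w' * (xU V j t * w), R.mul_mem hw' (R.mul_mem h hw), ?_⟩
      have e2 : xU V j t * a = a * (a' * w') * xU V j t := by
        rw [← e, hc]
        group
      calc xU V j t * (a * w) = (xU V j t * a) * w := by group
        _ = _ := by rw [e2]; group

include V V2 V3 in
/-- Existence in S1100. -/
theorem canon_exists {g : GL D.Idx F} (hg : g ∈ D.group F) :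
    ∃ b ∈ D.borelSubgroup F, ∃ n ∈ D.monomialSubgroup F, ∃ u ∈ Um D F n, g = b * n * u := by
  obtain ⟨b, hb, n, hn, b', hb', rfl⟩ := bruhat V V2 V3 hg
  obtain ⟨u', hu', k', hk', rfl⟩ := B_form V V2 V3 hb'
  set n₁ := n * k' with hn₁
  have hn₁N : n₁ ∈ D.monomialSubgroup F := Subgroup.mul_mem _ hn (H_le_N V V2 V3 hk')
  set u0 := k'⁻¹ * u' * k' with hu0
  have hu0U : u0 ∈ D.posUnipotent F := by
    have := normalizer_conj_mem (H_le_normalizer_U V V2 V3 (Subgroup.inv_mem _ hk')) hu'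
    rwa [inv_inv] at this
  -- the action of `n₁`
  obtain ⟨⟨π, c, hπ⟩, _⟩ := N_le_RAg V V2 V3 hn₁N
  let Q : Subgroup (GL D.Idx F) := (D.posUnipotent F).comap (MulAut.conj n₁).toMonoidHom
  have hQR : ∀ r, T.n / 2 ≤ r → r < T.n → ∀ t : F, xU V r t ∈ Q ∨ xU V r t ∈ Um D F n₁ := by
    intro r hr1 hr2 t
    obtain ⟨h1, _, _, h4⟩ := hπ r hr2
    by_cases h5 : T.n / 2 ≤ π r
    · left
      show n₁ * xU V r t * n₁⁻¹ ∈ D.posUnipotent F
      rw [h4]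
      exact xU_mem_U V V2 V3 h5 h1 _
    · right
      refine Subgroup.subset_closure ⟨r, t, (isPos_iff V V2 r).mpr ⟨hr1, by rw [← V.hn]; exact hr2⟩, ?_, rfl⟩
      rintro _ ⟨y, hy, rfl⟩
      obtain ⟨t', rfl⟩ := (mem_rootSubgroup V).mp hy
      show n₁ * xU V r t' * n₁⁻¹ ∈ D.negUnipotent F
      rw [h4, negUnipotent_eq V]
      exact Subgroup.subset_closure ⟨_, _, (isNeg_iff V V2 _).mpr (by omega), rfl⟩
  have h0 := n_even V2
  rw [posUnipotent_eq_uge V V2] at hu0U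
  obtain ⟨a, ⟨ha1, _⟩, v, hv, e⟩ := decomp V V2 hQR (T.n - T.n / 2) (T.n / 2) (by omega) le_rfl u0 hu0U
  refine ⟨b * (n₁ * a * n₁⁻¹), Subgroup.mul_mem _ hb (U_le_B V V2 V3 ha1), n₁, hn₁N, v, hv, ?_⟩
  have e2 : u' * k' = k' * u0 := by rw [hu0]; group
  rw [e2]
  calc b * n * (k' * u0) = b * n₁ * u0 := by rw [hn₁]; group
    _ = _ := by rw [e]; group

include V V2 V3 in
theorem Um_le_U (n : GL D.Idx F) : Um D F n ≤ D.posUnipotent F := by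
  unfold Um
  rw [Subgroup.closure_le, posUnipotent_eq V]
  rintro x ⟨r, t, h1, _, h3⟩
  rw [eq_xU V h3]
  exact Subgroup.subset_closure ⟨r, t, h1, rfl⟩

include V in
theorem conj_Um {n u : GL D.Idx F} (hu : u ∈ Um D F n) : n * u * n⁻¹ ∈ D.negUnipotent F := by
  unfold Um at hu
  refine conj_closure_mem _ ?_ hu
  rintro x ⟨r, t, _, h2, h3⟩
  apply h2
  refine ⟨x, ?_, rfl⟩
  rw [eq_xU V h3]
  exact (mem_rootSubgroup V).mpr ⟨t, rfl⟩

include V V2 V3 in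
/-- Uniqueness in S1100 -/
theorem canon_unique {b b' n n' u u' : GL D.Idx F} (hb : b ∈ D.borelSubgroup F) (hb' : b' ∈ D.borelSubgroup F)
    (hn : n ∈ D.monomialSubgroup F) (hn' : n' ∈ D.monomialSubgroup F) (hu : u ∈ Um D F n) (hu' : u' ∈ Um D F n')
    (e : b * n * u = b' * n' * u') : n⁻¹ * n' ∈ D.diagonalSubgroup F ∧ (n = n' → b = b' ∧ u = u') := by
  constructor
  · set P := bnPair (F := F) V V2 V3 with hP
    have hBG := B_le_G (F := F) V V2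
    have hNG := N_le_G (F := F) V
    have huB : ∀ {w : GL D.Idx F} {m : GL D.Idx F}, w ∈ Um D F m → w ∈ D.borelSubgroup F :=
      fun hw => U_le_B V V2 V3 (Um_le_U V V2 V3 _ hw)
    let ñ : P.N := ⟨⟨n, hNG hn⟩, hn⟩
    let ñ' : P.N := ⟨⟨n', hNG hn'⟩, hn'⟩
    let g : ↥(D.group F) := ⟨b, hBG hb⟩ * ⟨n, hNG hn⟩ * ⟨u, hBG (huB hu)⟩
    have h1 : g ∈ Cfsg.Agent.Lib.BNPair.Cw P (Cfsg.Agent.Lib.BNPair.mk P ñ) :=
      Cfsg.Agent.Lib.BNPair.mem_Cw_mk.mpr ⟨⟨b, hBG hb⟩, hb, ⟨u, hBG (huB hu)⟩, huB hu, rfl⟩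
    have h2 : g ∈ Cfsg.Agent.Lib.BNPair.Cw P (Cfsg.Agent.Lib.BNPair.mk P ñ') := by
      refine Cfsg.Agent.Lib.BNPair.mem_Cw_mk.mpr ⟨⟨b', hBG hb'⟩, hb', ⟨u', hBG (huB hu')⟩, huB hu', ?_⟩
      exact Subtype.ext e
    have h3 := Cfsg.Agent.Lib.BNPair.eq_of_mem_Cw h1 h2
    have h4 := Cfsg.Agent.Lib.BNPair.mk_eq_mk_iff.mp h3
    have h5 : n⁻¹ * n' ∈ D.borelSubgroup F := h4
    rw [← B_inf_N V V2 V3]
    exact ⟨h5, Subgroup.mul_mem _ (Subgroup.inv_mem _ hn) hn'⟩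
  · rintro rfl
    have h1 : b'⁻¹ * b = n * (u' * u⁻¹) * n⁻¹ := by
      have e2 : b = b' * n * u' * u⁻¹ * n⁻¹ := by
        rw [← e]; group
      rw [e2]
      group
    have h2 : b'⁻¹ * b ∈ D.borelSubgroup F ⊓ D.negUnipotent F := by
      refine ⟨Subgroup.mul_mem _ (Subgroup.inv_mem _ hb') hb, ?_⟩
      rw [h1]
      exact conj_Um V (Subgroup.mul_mem _ hu' (Subgroup.inv_mem _ hu))
    rw [B_inf_V V V2 V3, Subgroup.mem_bot] at h2
    have h3 : b = b' := by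
      rw [inv_mul_eq_one] at h2
      exact h2.symm
    refine ⟨h3, ?_⟩
    subst h3
    exact (mul_left_cancel e)

end

end Cfsg.Agent.Lib.ChevPar3
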