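import Cfsg.Agent.Lib.ChevMono

/-!
Additivity and the commutator formula, by conjugation with the `n_p` from base pairs.
-/

set_option autoImplicit false

namespace Cfsg.Agent.Lib.ChevRel

open Cfsg.Lie Matrix Cfsg.Agent.Lib.ChevEngine Cfsg.Agent.Lib.ChevTab Cfsg.Agent.Lib.ChevMono

variable {D : ChevalleyDatum} {T : Tb}

/-! ### first index -/

noncomputable def firstI (l : ℕ) (f : ℕ → Bool) : Option ℕ :=
  Nat.rec (motive := fun _ => Option ℕ) none (fun i ih => cond (f i) (some i) ih) l

theorem firstI_succ (l : ℕ) (f : ℕ → Bool) : firstI (l + 1) f = cond (f l) (some l) (firstI l f) := rfl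

theorem firstI_some {l : ℕ} {f : ℕ → Bool} {i : ℕ} (h : firstI l f = some i) : i < l ∧ f i = true := by
  induction l with
  | zero => simp [firstI] at h
  | succ l ih =>
    rw [firstI_succ] at h
    cases hf : f l
    · rw [hf] at h
      have := ih h
      exact ⟨by omega, this.2⟩
    · rw [hf] at h
      simp only [cond_true, Option.some.injEq] at h
      subst h
      exact ⟨by omega, hf⟩

theorem firstI_none {l : ℕ} {f : ℕ → Bool} (h : firstI l f = none) : ∀ i < l, f i = false := by
  induction l with
  | zero => intro i hi; omega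
  | succ l ih =>
    rw [firstI_succ] at h
    cases hf : f l
    · rw [hf] at h
      intro i hi
      by_cases e : i = l
      · rw [e]; exact hf
      · exact ih h i (by omega)
    · rw [hf] at h
      simp at h

/-- Choice of a fundamental reflection moving the pair `(r, s)` up. -/
noncomputable def pickR (T : Tb) (r : ℕ) : Option ℕ := firstI T.l fun i => decide (T.ca i r < 0)

noncomputable def pickS (T : Tb) (r s : ℕ) : Option ℕ :=
  firstI T.l fun i => decide (T.ca i r = 0) && decide (T.ca i s < 0)

noncomputable def pick (T : Tb) (r s : ℕ) : Option ℕ :=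
  Option.rec (pickS T r s) (fun i => some i) (pickR T r)

/-! ### Up relation -/

noncomputable def checkUp (T : Tb) : Bool :=
  allBelow T.l fun i => allBelow T.n fun r =>
    (! decide (T.ca i r < 0) || Nat.blt r (T.refl i r)) &&
    (! decide (T.ca i r = 0) || Nat.beq (T.refl i r) r)

theorem up_lt (h : checkUp T = true) {i r : ℕ} (hi : i < T.l) (hr : r < T.n) (hc : T.ca i r < 0) : r < T.refl i r := by
  simp only [checkUp, allBelow_iff, Bool.and_eq_true, Bool.or_eq_true, Bool.not_eq_true', decide_eq_false_iff_not] at h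
  rcases (h i hi r hr).1 with h1 | h1
  · exact absurd hc h1
  · simpa using h1

theorem up_eq (h : checkUp T = true) {i r : ℕ} (hi : i < T.l) (hr : r < T.n) (hc : T.ca i r = 0) : T.refl i r = r := by
  simp only [checkUp, allBelow_iff, Bool.and_eq_true, Bool.or_eq_true, Bool.not_eq_true', decide_eq_false_iff_not] at h
  rcases (h i hi r hr).2 with h1 | h1
  · exact absurd hc h1
  · simpa using h1

/-- root induction, going up to the dominant roots -/
theorem root_up_induction (hU : checkUp T = true) (hR : checkRefl T = true) (P : ℕ → Prop)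
    (hdom : ∀ r < T.n, (∀ i < T.l, 0 ≤ T.ca i r) → P r)
    (hstep : ∀ i < T.l, ∀ r < T.n, T.ca i r < 0 → P (T.refl i r) → P r) :
    ∀ r < T.n, P r := by
  intro r hr
  induction h : T.n - r using Nat.strong_induction_on generalizing r with
  | _ m ih =>
    by_cases hd : ∀ i < T.l, 0 ≤ T.ca i r
    · exact hdom r hr hd
    · push Not at hd
      obtain ⟨i, hi, hc⟩ := hd
      apply hstep i hi r hr hc
      have h1 := up_lt hU hi hr hc
      have h2 := (reflFacts hR i hi r hr).w_lt
      exact ih (T.n - T.refl i r) (by omega) _ h2 rfl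

/-! ### `n_p` is invertible -/

noncomputable def checkCartan2 (T : Tb) : Bool :=
  allBelow T.l fun i => decide (T.ca i (T.sim i) = 2)

section
variable {F : Type*} [Field F]
variable (hT : Faithful D T) (hM : checkMono T = true) (hR : checkRefl T = true) (hC : checkCartan2 T = true)
include hT hM hR hC

theorem n_four (i : ℕ) (hi : i < T.l) :
    D.nMat F (D.simple i) 1 * D.nMat F (D.simple i) 1 * (D.nMat F (D.simple i) 1 * D.nMat F (D.simple i) 1) = 1 := by
  have h2 : T.ca i (T.sim i) = 2 := by
    simp only [checkCartan2, allBelow_iff, decide_eq_true_eq] at hC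
    exact hC i hi
  apply matrix_ext_bas
  intro a ha
  rw [Matrix.one_mulVec]
  simp only [← Matrix.mulVec_mulVec]
  have hl := hT.hl
  have hn := hT.hn
  by_cases ha1 : a < T.l
  · rw [n_col_h hT hM i hi a ha1]
    simp only [Matrix.mulVec_sub, Matrix.mulVec_smul, n_col_h hT hM i hi a ha1, n_col_h hT hM i hi i hi, h2]
    push_cast
    module
  · obtain ⟨c, rfl⟩ : ∃ c, a = T.l + c := ⟨a - T.l, by omega⟩
    have hc : c < T.n := by omega
    have R1 := reflFacts hR i hi c hc
    have R2 := reflFacts hR i hi _ R1.w_lt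
    rw [n_col_e hT hM i hi c hc]
    simp only [Matrix.mulVec_smul, n_col_e hT hM i hi _ R1.w_lt, R1.w_w, n_col_e hT hM i hi c hc]
    rcases R1.eps_pm with h | h <;> rcases R2.eps_pm with h' | h' <;> simp [h, h']

theorem n_isUnit (i : ℕ) (hi : i < T.l) : IsUnit (D.nMat F (D.simple i) 1) := by
  have h := n_four hT hM hR hC (F := F) i hi
  refine IsUnit.of_mul_eq_one (D.nMat F (D.simple i) 1 * (D.nMat F (D.simple i) 1 * D.nMat F (D.simple i) 1)) ?_
  rw [← h]
  simp only [mul_assoc]

end

/-! ### Additivity -/

noncomputable def tP : Pl := [⟨1, 0, 0, 1⟩]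
noncomputable def uP : Pl := [⟨0, 1, 0, 1⟩]

noncomputable def checkBaseAdd (T : Tb) : Bool :=
  allBelow T.n fun r =>
    ! allBelow T.l (fun i => decide (0 ≤ T.ca i r)) ||
      checkWordsF T [(r, tP), (r, uP)] [(r, Pl.add tP uP)]

section
variable {F : Type*} [Field F]

@[simp] theorem eval_tP (t u v : F) : Pl.eval t u v tP = t := by simp [tP, Tm.eval]
@[simp] theorem eval_uP (t u v : F) : Pl.eval t u v uP = u := by simp [uP, Tm.eval]

variable (hT : Faithful D T) (hM : checkMono T = true) (hR : checkRefl T = true) (hC : checkCartan2 T = true)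
  (hA : checkAl D T = true) (hU : checkUp T = true) (hB : checkBaseAdd T = true)
include hT hM hR hC hA hU hB

theorem x_add (r : ℕ) (hr : r < T.n) (t u : F) : D.x F r t * D.x F r u = D.x F r (t + u) := by
  revert t u
  refine root_up_induction hU hR (fun r => ∀ t u : F, D.x F r t * D.x F r u = D.x F r (t + u)) ?_ ?_ r hr
  · intro r hr hd t u
    simp only [checkBaseAdd, allBelow_iff, Bool.or_eq_true, Bool.not_eq_true'] at hB
    rcases hB r hr with h | h
    · rw [Bool.eq_false_iff] at h
      exact absurd ((allBelow_iff _ _).mpr (fun i hi => by simpa using hd i hi)) h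
    · have := wordMat_eq_of_checkF t u (0 : F) hT _ _ h
      simpa [ChevalleyDatum.wordMat, SWord.eval, Pl.eval_add] using this
  · intro i hi r hr _ ih t u
    have hun := n_isUnit (F := F) hT hM hR hC i hi
    apply hun.mul_left_cancel
    rw [← mul_assoc, conj_simple hT hM hR hA i hi r hr, mul_assoc, conj_simple hT hM hR hA i hi r hr, ← mul_assoc, ih,
      conj_simple hT hM hR hA i hi r hr, mul_add]

end

/-! ### The commutator formula -/

def chainRootF (E : ℕ → ℕ → List (ℕ × ℤ)) (r s i : ℕ) : Option ℕ := ((E r s)[i - 1]?).map Prod.fst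

def chainMF (E : ℕ → ℕ → List (ℕ × ℤ)) (r s i : ℕ) : ℤ := (((E r s)[i - 1]?).map Prod.snd).getD 0

def commTermsF (E : ℕ → ℕ → List (ℕ × ℤ)) (r s : ℕ) : List (ℕ × ℤ × ℕ × ℕ) :=
  let rs := chainRootF E r s 1
  let cands : List (Option ℕ × ℤ × ℕ × ℕ) :=
    [ (chainRootF E r s 1, chainMF E r s 1, 1, 1),
      (chainRootF E r s 2, chainMF E r s 2, 2, 1),
      (chainRootF E s r 2, chainMF E s r 2, 1, 2),
      (chainRootF E r s 3, chainMF E r s 3, 3, 1),
      (chainRootF E s r 3, - chainMF E s r 3, 1, 3),
      ((chainRootF E r s 3).bind fun k => chainRootF E k s 1, (rs.map fun k => chainMF E k r 2 / 3).getD 0, 3, 2),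
      ((chainRootF E s r 3).bind fun k => chainRootF E k r 1, (rs.map fun k => -2 * chainMF E k s 2 / 3).getD 0, 2, 3) ]
  cands.filterMap fun c => c.1.map fun k => (k, c.2)

theorem commTerms_eq (hT : Faithful D T) (r s : ℕ) : D.commTerms r s = commTermsF T.ch r s := by
  have h : D.chainEntry = T.ch := by
    funext r s
    exact chainEntry_eq hT r s
  simp only [ChevalleyDatum.commTerms, ChevalleyDatum.chainRoot, ChevalleyDatum.chainM, h, commTermsF, chainRootF, chainMF]

theorem commTermsF_empty {E : ℕ → ℕ → List (ℕ × ℤ)} {r s : ℕ} (h1 : E r s = []) (h2 : E s r = []) :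
    commTermsF E r s = [] := by
  simp [commTermsF, chainRootF, chainMF, h1, h2]

/-- Alignment of commutator terms. -/
def alignT (T : Tb) (i : ℕ) (ηr ηs : ℤ) : List (ℕ × ℤ × ℕ × ℕ) → List (ℕ × ℤ × ℕ × ℕ) → Bool
  | [], [] => true
  | c :: L, c' :: L' =>
    Nat.blt c.1 T.n && Nat.beq c'.1 (T.refl i c.1) && Nat.beq c.2.2.1 c'.2.2.1 && Nat.beq c.2.2.2 c'.2.2.2 &&
      decide (c.2.1 = T.eps i c.1 * c'.2.1 * ηr ^ c.2.2.1 * ηs ^ c.2.2.2) && alignT T i ηr ηs L L'
  | _, _ => false

/-- symbolic form of the commutator word -/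
def cw (T : Tb) (r s : ℕ) : SWord :=
  (commTermsF T.ch r s).map fun c => (c.1, [⟨c.2.2.1, c.2.2.2, 0, c.2.1 * (-1) ^ c.2.2.1⟩])

noncomputable def alignPair (T : Tb) (r s : ℕ) (i : ℕ) : Bool :=
  alignT T i (T.eps i r) (T.eps i s) (commTermsF T.ch r s) (commTermsF T.ch (T.refl i r) (T.refl i s))

/-- the check for the commutator formula -/
noncomputable def checkCF (D : ChevalleyDatum) (T : Tb) : Bool :=
  (allBelow T.n fun r => force r fun r' =>
    allL (D.chain.getD r' #[]).toList fun e =>
      (! (T.ch e.1 r').isEmpty) &&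
      ((Nat.ble (T.ch r' e.1).length 2 && Nat.ble (T.ch e.1 r').length 2) ||
        Option.rec true (fun i => alignPair T r' e.1 i) (pick T r' e.1))) &&
  (allBelow T.n fun r => force r fun r' =>
    ! allBelow T.l (fun i => decide (0 ≤ T.ca i r')) ||
    allBelow T.n fun s =>
      Nat.beq s r' || Nat.beq s (T.neg r') ||
      Option.rec (checkWordsF T [(s, uP), (r', tP)] ([(r', tP), (s, uP)] ++ cw T r' s)) (fun _ => true) (pick T r' s))

section
variable {F : Type*} [Field F]

theorem commWord_eq (hT : Faithful D T) (r s : ℕ) (t u : F) :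
    D.commWord F r s t u = (commTermsF T.ch r s).map fun c => (c.1, ((c.2.1 : ℤ) : F) * (-t) ^ c.2.2.1 * u ^ c.2.2.2) := by
  unfold ChevalleyDatum.commWord
  rw [commTerms_eq hT]

theorem cw_eval (r s : ℕ) (t u : F) :
    SWord.eval t u (0 : F) (cw T r s) = (commTermsF T.ch r s).map fun c => (c.1, ((c.2.1 : ℤ) : F) * (-t) ^ c.2.2.1 * u ^ c.2.2.2) := by
  unfold cw SWord.eval
  rw [List.map_map]
  apply List.map_congr_left
  intro c _
  simp only [Function.comp, Pl.eval_cons, Pl.eval_nil, Tm.eval, add_zero, pow_zero, mul_one]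
  congr 1
  push_cast
  rw [neg_pow t]
  ring

theorem conj_word (hT : Faithful D T) (hM : checkMono T = true) (hR : checkRefl T = true) (hA : checkAl D T = true)
    (i : ℕ) (hi : i < T.l) (L : List (ℕ × F)) (hL : ∀ e ∈ L, e.1 < T.n) :
    D.nMat F (D.simple i) 1 * D.wordMat F L =
      D.wordMat F (L.map fun e => (T.refl i e.1, ((T.eps i e.1 : ℤ) : F) * e.2)) * D.nMat F (D.simple i) 1 := by
  induction L with
  | nil => simp [ChevalleyDatum.wordMat]
  | cons e L ih =>
    have h1 : D.wordMat F (e :: L) = D.x F e.1 e.2 * D.wordMat F L := by simp [ChevalleyDatum.wordMat]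
    have h2 : ∀ (e' : ℕ × F) (L' : List (ℕ × F)), D.wordMat F (e' :: L') = D.x F e'.1 e'.2 * D.wordMat F L' := by
      intro e' L'; simp [ChevalleyDatum.wordMat]
    rw [h1, List.map_cons, h2, ← mul_assoc, conj_simple hT hM hR hA i hi e.1 (hL e (by simp)), mul_assoc,
      ih (fun x hx => hL x (List.mem_cons_of_mem _ hx)), mul_assoc]

theorem alignT_word (hR : checkRefl T = true) (i : ℕ) (hi : i < T.l) (ηr ηs : ℤ) (t u : F) (L L' : List (ℕ × ℤ × ℕ × ℕ))
    (h : alignT T i ηr ηs L L' = true) :
    (∀ e ∈ L, e.1 < T.n) ∧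
    (L.map fun c => (c.1, ((c.2.1 : ℤ) : F) * (-t) ^ c.2.2.1 * u ^ c.2.2.2)).map
        (fun e => (T.refl i e.1, ((T.eps i e.1 : ℤ) : F) * e.2)) =
      L'.map fun c => (c.1, ((c.2.1 : ℤ) : F) * (-(((ηr : ℤ) : F) * t)) ^ c.2.2.1 * (((ηs : ℤ) : F) * u) ^ c.2.2.2) := by
  induction L generalizing L' with
  | nil =>
    cases L' with
    | nil => simp
    | cons c L' => simp [alignT] at h
  | cons c L ih =>
    cases L' with
    | nil => simp [alignT] at h
    | cons c' L' =>
      simp only [alignT, Bool.and_eq_true, decide_eq_true_eq] at h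
      obtain ⟨⟨⟨⟨⟨h1, h2⟩, h3⟩, h4⟩, h5⟩, h6⟩ := h
      have h1' : c.1 < T.n := by simpa using h1
      have h2' : c'.1 = T.refl i c.1 := by simpa using h2
      have h3' : c.2.2.1 = c'.2.2.1 := by simpa using h3
      have h4' : c.2.2.2 = c'.2.2.2 := by simpa using h4
      obtain ⟨h7, h8⟩ := ih L' h6
      refine ⟨?_, ?_⟩
      · intro e he
        rcases List.mem_cons.mp he with rfl | he
        · exact h1'
        · exact h7 e he
      · simp only [List.map_cons, List.cons.injEq]
        refine ⟨?_, h8⟩
        ext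
        · exact h2'.symm
        · simp only
          have Re := (reflFacts hR i hi _ h1').eps_pm
          have e2 : ((T.eps i c.1 : ℤ) : F) * ((T.eps i c.1 : ℤ) : F) = 1 := by
            rcases Re with h | h <;> simp [h]
          rw [h5, ← h3', ← h4']
          push_cast
          rw [neg_eq_neg_one_mul (((ηr : ℤ) : F) * t), neg_eq_neg_one_mul t]
          simp only [mul_pow]
          calc _ = (((T.eps i c.1 : ℤ) : F) * ((T.eps i c.1 : ℤ) : F)) * ((c'.2.1 : ℤ) : F) *
                (((ηr : ℤ) : F)) ^ c.2.2.1 * (((ηs : ℤ) : F)) ^ c.2.2.2 * ((-1) ^ c.2.2.1 * t ^ c.2.2.1) * u ^ c.2.2.2 := by ring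
            _ = _ := by rw [e2]; ring

end

/-- commutator terms when all chains are short -/
def commShort (L1 L2 : List (ℕ × ℤ)) : List (ℕ × ℤ × ℕ × ℕ) :=
  (match L1 with
    | [] => []
    | [e1] => [(e1.1, e1.2, 1, 1)]
    | e1 :: e2 :: _ => [(e1.1, e1.2, 1, 1), (e2.1, e2.2, 2, 1)]) ++
  (match L2 with
    | _ :: e2 :: _ => [(e2.1, e2.2, 1, 2)]
    | _ => [])

theorem commTermsF_short {E : ℕ → ℕ → List (ℕ × ℤ)} {r s : ℕ} (h1 : (E r s).length ≤ 2) (h2 : (E s r).length ≤ 2) :
    commTermsF E r s = commShort (E r s) (E s r) := by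
  generalize hA : E r s = A at *
  generalize hB : E s r = B at *
  match A, h1 with
  | [], _ =>
    match B, h2 with
    | [], _ => simp [commTermsF, commShort, chainRootF, chainMF, hA, hB]
    | [_], _ => simp [commTermsF, commShort, chainRootF, chainMF, hA, hB]
    | [_, _], _ => simp [commTermsF, commShort, chainRootF, chainMF, hA, hB]
  | [_], _ =>
    match B, h2 with
    | [], _ => simp [commTermsF, commShort, chainRootF, chainMF, hA, hB]
    | [_], _ => simp [commTermsF, commShort, chainRootF, chainMF, hA, hB]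
    | [_, _], _ => simp [commTermsF, commShort, chainRootF, chainMF, hA, hB]
  | [_, _], _ =>
    match B, h2 with
    | [], _ => simp [commTermsF, commShort, chainRootF, chainMF, hA, hB]
    | [_], _ => simp [commTermsF, commShort, chainRootF, chainMF, hA, hB]
    | [_, _], _ => simp [commTermsF, commShort, chainRootF, chainMF, hA, hB]

theorem alignPair_short (hR : checkRefl T = true) {i r s : ℕ} (hi : i < T.l) (hr : r < T.n) (hs : s < T.n)
    (h1 : (T.ch r s).length ≤ 2) (h2 : (T.ch s r).length ≤ 2)
    (hA1 : alignL T.n (T.refl i) (T.eps i) (T.eps i s) (T.eps i r) 1 (T.ch r s) (T.ch (T.refl i r) (T.refl i s)) = true)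
    (hA2 : alignL T.n (T.refl i) (T.eps i) (T.eps i r) (T.eps i s) 1 (T.ch s r) (T.ch (T.refl i s) (T.refl i r)) = true) :
    alignPair T r s i = true := by
  have h1' : (T.ch (T.refl i r) (T.refl i s)).length ≤ 2 := by rw [← alignL_length hA1]; exact h1
  have h2' : (T.ch (T.refl i s) (T.refl i r)).length ≤ 2 := by rw [← alignL_length hA2]; exact h2
  unfold alignPair
  rw [commTermsF_short h1 h2, commTermsF_short h1' h2']
  have epsT : ∀ x < T.n, T.eps i x * T.eps i x = 1 := by
    intro x hx
    rcases (reflFacts hR i hi x hx).eps_pm with h | h <;> simp [h]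
  have Er := epsT r hr
  have Es := epsT s hs
  -- from alignment of `r`-chain through `s`
  have key1 : ∀ (L L' : List (ℕ × ℤ)) (c d : ℤ), alignL T.n (T.refl i) (T.eps i) c d 1 L L' = true →
      d * d = 1 → c * c = 1 → 
      (∀ e1 e1', L.head? = some e1 → L'.head? = some e1' → e1.1 < T.n ∧ e1'.1 = T.refl i e1.1 ∧ e1.2 = T.eps i e1.1 * e1'.2 * c * d) ∧
      (∀ e2 e2', L[1]? = some e2 → L'[1]? = some e2' → e2.1 < T.n ∧ e2'.1 = T.refl i e2.1 ∧ e2.2 = T.eps i e2.1 * e2'.2 * c) := by
    intro L L' c d h hd hc
    match L, L', h with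
    | [], [], _ => simp
    | [], _ :: _, h => simp [alignL] at h
    | _ :: _, [], h => simp [alignL] at h
    | e1 :: L, e1' :: L', h =>
      simp only [alignL, Bool.and_eq_true, decide_eq_true_eq] at h
      obtain ⟨⟨⟨h3, h4⟩, h5⟩, h6⟩ := h
      have h3' : e1.1 < T.n := by simpa using h3
      have h4' : e1'.1 = T.refl i e1.1 := by simpa using h4
      have eE := epsT _ h3'
      refine ⟨?_, ?_⟩
      · intro x y hx hy
        simp only [List.head?_cons, Option.some.injEq] at hx hy
        subst hx hy
        refine ⟨h3', h4', ?_⟩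
        calc e1.2 = e1.2 * (T.eps i e1.1 * T.eps i e1.1) := by rw [eE, mul_one]
          _ = (e1.2 * T.eps i e1.1) * T.eps i e1.1 := by ring
          _ = _ := by rw [h5]; ring
      · intro x y hx hy
        match L, L', h6 with
        | [], [], _ => simp at hx
        | [], _ :: _, h => simp [alignL] at h
        | _ :: _, [], h => simp [alignL] at h
        | e2 :: L, e2' :: L', h =>
          simp only [List.getElem?_cons_succ, List.getElem?_cons_zero, Option.some.injEq] at hx hy
          subst hx hy
          simp only [alignL, Bool.and_eq_true, decide_eq_true_eq] at h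
          obtain ⟨⟨⟨h7, h8⟩, h9⟩, _⟩ := h
          have h7' : e2.1 < T.n := by simpa using h7
          have h8' : e2'.1 = T.refl i e2.1 := by simpa using h8
          have eE2 := epsT _ h7'
          refine ⟨h7', h8', ?_⟩
          calc e2.2 = e2.2 * (T.eps i e2.1 * T.eps i e2.1) := by rw [eE2, mul_one]
            _ = (e2.2 * T.eps i e2.1) * T.eps i e2.1 := by ring
            _ = T.eps i e2.1 * e2'.2 * c * (d * d) := by rw [h9]; ring
            _ = _ := by rw [hd]; ring
  obtain ⟨k1, k2⟩ := key1 _ _ _ _ hA1 Er Es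
  obtain ⟨k3, k4⟩ := key1 _ _ _ _ hA2 Es Er
  have hlen1 := alignL_length hA1
  have hlen2 := alignL_length hA2
  generalize T.ch r s = A at *
  generalize T.ch s r = B at *
  generalize T.ch (T.refl i r) (T.refl i s) = A' at *
  generalize T.ch (T.refl i s) (T.refl i r) = B' at *
  have hA0 : ∀ (c c' : ℕ × ℤ × ℕ × ℕ) (L L' : List (ℕ × ℤ × ℕ × ℕ)), c.2.2 = c'.2.2 → c.1 < T.n → c'.1 = T.refl i c.1 →
      c.2.1 = T.eps i c.1 * c'.2.1 * T.eps i r ^ c.2.2.1 * T.eps i s ^ c.2.2.2 → alignT T i (T.eps i r) (T.eps i s) L L' = true →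
      alignT T i (T.eps i r) (T.eps i s) (c :: L) (c' :: L') = true := by
    intro c c' L L' h3 h4 h5 h6 h7
    obtain ⟨c1, c2, c3, c4⟩ := c
    obtain ⟨d1, d2, d3, d4⟩ := c'
    simp only [Prod.mk.injEq] at h3
    obtain ⟨rfl, rfl⟩ := h3
    simp only [alignT, Bool.and_eq_true, decide_eq_true_eq]
    simp only at h4 h5 h6
    refine ⟨⟨⟨⟨⟨?_, ?_⟩, ?_⟩, ?_⟩, h6⟩, h7⟩
    · simpa using h4
    · simpa using h5
    · simp
    · simp
  have p2r : T.eps i r ^ 2 = 1 := by rw [sq]; exact Er
  have p2s : T.eps i s ^ 2 = 1 := by rw [sq]; exact Es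
  have happ : ∀ (X X' Y Y' : List (ℕ × ℤ × ℕ × ℕ)), alignT T i (T.eps i r) (T.eps i s) X X' = true →
      alignT T i (T.eps i r) (T.eps i s) Y Y' = true →
      alignT T i (T.eps i r) (T.eps i s) (X ++ Y) (X' ++ Y') = true := by
    intro X X' Y Y' h3 h4
    induction X generalizing X' with
    | nil =>
      cases X' with
      | nil => simpa using h4
      | cons _ _ => simp [alignT] at h3
    | cons x X ih =>
      cases X' with
      | nil => simp [alignT] at h3
      | cons x' X' =>
        simp only [List.cons_append, alignT, Bool.and_eq_true] at h3 ⊢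
        exact ⟨h3.1, ih X' h3.2⟩
  unfold commShort
  apply happ
  · match A, A', h1, h1', hlen1, k1, k2 with
    | [], [], _, _, _, _, _ => rfl
    | [e1], [e1'], _, _, _, k1, _ =>
      obtain ⟨h3, h4, h5⟩ := k1 e1 e1' rfl rfl
      show alignT T i (T.eps i r) (T.eps i s) [(e1.1, e1.2, 1, 1)] [(e1'.1, e1'.2, 1, 1)] = true
      refine hA0 (e1.1, e1.2, 1, 1) (e1'.1, e1'.2, 1, 1) [] [] rfl h3 h4 ?_ rfl
      simp only [pow_one]
      rw [h5]; ring
    | [e1, e2], [e1', e2'], _, _, _, k1, k2 =>
      obtain ⟨h3, h4, h5⟩ := k1 e1 e1' rfl rfl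
      obtain ⟨h6, h7, h8⟩ := k2 e2 e2' rfl rfl
      show alignT T i (T.eps i r) (T.eps i s) [(e1.1, e1.2, 1, 1), (e2.1, e2.2, 2, 1)] [(e1'.1, e1'.2, 1, 1), (e2'.1, e2'.2, 2, 1)] = true
      refine hA0 (e1.1, e1.2, 1, 1) (e1'.1, e1'.2, 1, 1) _ _ rfl h3 h4 ?_ ?_
      · simp only [pow_one]
        rw [h5]; ring
      · refine hA0 (e2.1, e2.2, 2, 1) (e2'.1, e2'.2, 2, 1) [] [] rfl h6 h7 ?_ rfl
        simp only [pow_one, p2r]
        rw [h8]; ring
  · match B, B', h2, h2', hlen2, k3, k4 with
    | [], [], _, _, _, _, _ => rfl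
    | [_], [_], _, _, _, _, _ => rfl
    | [e1, e2], [e1', e2'], _, _, _, _, k4 =>
      obtain ⟨h6, h7, h8⟩ := k4 e2 e2' rfl rfl
      show alignT T i (T.eps i r) (T.eps i s) [(e2.1, e2.2, 1, 2)] [(e2'.1, e2'.2, 1, 2)] = true
      refine hA0 (e2.1, e2.2, 1, 2) (e2'.1, e2'.2, 1, 2) [] [] rfl h6 h7 ?_ rfl
      simp only [pow_one, p2s]
      rw [h8]; ring

section
variable {F : Type*} [Field F]

/-- Statement of the commutator formula for a pair of roots. -/
def CF (D : ChevalleyDatum) (F : Type*) [Field F] (r s : ℕ) : Prop :=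
  ∀ t u : F, D.x F s u * D.x F r t = D.x F r t * D.x F s u * D.wordMat F (D.commWord F r s t u)

variable (hT : Faithful D T) (hM : checkMono T = true) (hR : checkRefl T = true) (hC : checkCartan2 T = true)
  (hA : checkAl D T = true) (hU : checkUp T = true) (hCF : checkCF D T = true)

include hT hM hR hC hA in
theorem cf_transfer (i : ℕ) (hi : i < T.l) (r s : ℕ) (hr : r < T.n) (hs : s < T.n)
    (hal : alignPair T r s i = true)
    (h : CF D F (T.refl i r) (T.refl i s)) : CF D F r s := by
  intro t u
  have hun := n_isUnit (F := F) hT hM hR hC i hi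
  apply hun.mul_left_cancel
  obtain ⟨h1, h2⟩ := alignT_word (F := F) hR i hi _ _ t u _ _ hal
  have h3 := h (((T.eps i r : ℤ) : F) * t) (((T.eps i s : ℤ) : F) * u)
  rw [commWord_eq hT] at h3
  rw [commWord_eq hT]
  rw [← mul_assoc, conj_simple hT hM hR hA i hi s hs, mul_assoc, conj_simple hT hM hR hA i hi r hr, ← mul_assoc, h3]
  have hw := conj_word (F := F) hT hM hR hA i hi ((commTermsF T.ch r s).map fun c => (c.1, ((c.2.1 : ℤ) : F) * (-t) ^ c.2.2.1 * u ^ c.2.2.2))
    (by
      intro e he
      obtain ⟨c, hc, rfl⟩ := List.mem_map.mp he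
      exact h1 c hc)
  rw [h2] at hw
  have c_r := conj_simple (F := F) hT hM hR hA i hi r hr t
  have c_s := conj_simple (F := F) hT hM hR hA i hi s hs u
  revert hw c_r c_s
  generalize D.wordMat F (List.map (fun c => (c.1, ((c.2.1 : ℤ) : F) * (-(((T.eps i r : ℤ) : F) * t)) ^ c.2.2.1 * (((T.eps i s : ℤ) : F) * u) ^ c.2.2.2))
      (commTermsF T.ch (T.refl i r) (T.refl i s))) = W'
  generalize D.wordMat F (List.map (fun c => (c.1, ((c.2.1 : ℤ) : F) * (-t) ^ c.2.2.1 * u ^ c.2.2.2)) (commTermsF T.ch r s)) = W
  generalize D.x F (T.refl i r) (((T.eps i r : ℤ) : F) * t) = xr'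
  generalize D.x F (T.refl i s) (((T.eps i s : ℤ) : F) * u) = xs'
  generalize D.nMat F (D.simple i) 1 = N
  generalize D.x F r t = xr
  generalize D.x F s u = xs
  intro hw c_r c_s
  calc xr' * xs' * W' * N = xr' * xs' * (W' * N) := by simp only [mul_assoc]
    _ = xr' * xs' * (N * W) := by rw [hw]
    _ = xr' * (xs' * N) * W := by simp only [mul_assoc]
    _ = xr' * (N * xs) * W := by rw [c_s]
    _ = (xr' * N) * xs * W := by simp only [mul_assoc]
    _ = (N * xr) * xs * W := by rw [c_r]
    _ = N * (xr * xs * W) := by simp only [mul_assoc]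

theorem ch_symm (hCF : checkCF D T = true) (hT : Faithful D T) {r s : ℕ} (hr : r < T.n) (h : T.ch r s ≠ []) : T.ch s r ≠ [] := by
  simp only [checkCF, Bool.and_eq_true, allBelow_iff, force_eq, allL_iff] at hCF
  obtain ⟨e, he, rfl⟩ := ch_ne_nil_mem hT h
  have := ((hCF.1 r hr) e he).1
  simpa using this

include hT hM hR hC hA hU hCF in
theorem cf_all (r : ℕ) (hr : r < T.n) (s : ℕ) (hs : s < T.n) (h1 : s ≠ r) (h2 : s ≠ T.neg r) : CF D F r s := by
  induction hm : T.n - r using Nat.strong_induction_on generalizing r s with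
  | _ m ih =>
    induction hm2 : T.n - s using Nat.strong_induction_on generalizing s with
    | _ m2 ih2 =>
      have Rr := fun i hi => reflFacts hR i hi r hr
      have Rs := fun i hi => reflFacts hR i hi s hs
      have hpick : ∀ i, pick T r s = some i → i < T.l ∧ (T.ca i r < 0 ∨ (T.ca i r = 0 ∧ T.ca i s < 0)) := by
        intro i hi
        unfold pick at hi
        cases hp : pickR T r with
        | none =>
          rw [hp] at hi
          have := firstI_some (show firstI T.l _ = some i from hi)
          simp only [Bool.and_eq_true, decide_eq_true_eq] at this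
          exact ⟨this.1, Or.inr this.2⟩
        | some j =>
          rw [hp] at hi
          have hji : j = i := by simpa using hi
          subst hji
          have := firstI_some (show firstI T.l _ = some j from hp)
          simp only [decide_eq_true_eq] at this
          exact ⟨this.1, Or.inl this.2⟩
      -- alignment data available when a reflection is picked
      have hAl : ∀ i, pick T r s = some i → alignPair T r s i = true := by
        intro i hi
        have hi' := (hpick i hi).1
        by_cases hch : T.ch r s = []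
        · have h3 : T.ch s r = [] := by
            by_contra h4
            exact ch_symm hCF hT hs h4 hch
          have h5 := alignL_any hT hA hR i hi' r hr s hs
          rw [hch] at h5
          have h6 : T.ch (T.refl i r) (T.refl i s) = [] := by
            have := alignL_length h5
            simp only [List.length_nil] at this
            exact List.length_eq_zero_iff.mp this.symm
          have h7 : T.ch (T.refl i s) (T.refl i r) = [] := by
            by_contra h4
            exact ch_symm hCF hT (reflFacts hR i hi' s hs).w_lt h4 h6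
          unfold alignPair
          rw [commTermsF_empty hch h3, commTermsF_empty h6 h7]
          rfl
        · simp only [checkCF, Bool.and_eq_true, Bool.or_eq_true, allBelow_iff, force_eq, allL_iff] at hCF
          obtain ⟨e, he, rfl⟩ := ch_ne_nil_mem hT hch
          rcases ((hCF.1 r hr) e he).2 with h3 | h3
          · have h4 : (T.ch r e.1).length ≤ 2 := by simpa [Nat.ble_eq] using h3.1
            have h5 : (T.ch e.1 r).length ≤ 2 := by simpa [Nat.ble_eq] using h3.2
            exact alignPair_short hR hi' hr hs h4 h5 (alignL_any hT hA hR i hi' r hr _ hs)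
              (alignL_any hT hA hR i hi' _ hs r hr)
          · rw [hi] at h3
            exact h3
      cases hp : pick T r s with
      | none =>
        -- terminal pair: direct check
        have hdom : allBelow T.l (fun i => decide (0 ≤ T.ca i r)) = true := by
          rw [allBelow_iff]
          intro i hi
          unfold pick at hp
          cases hq : pickR T r with
          | none =>
            have := firstI_none (show firstI T.l _ = none from hq) i hi
            simpa using this
          | some j =>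
            rw [hq] at hp
            simp at hp
        have hpk := hp
        simp only [checkCF, Bool.and_eq_true, allBelow_iff, force_eq, allL_iff, Bool.or_eq_true, Bool.not_eq_true'] at hCF
        rcases hCF.2 r hr with h3 | h3
        · rw [hdom] at h3; simp at h3
        · rcases h3 s hs with h4 | h4
          · rcases h4 with h4 | h4
            · exact absurd (by simpa using h4) h1
            · exact absurd (by simpa using h4) h2
          · rw [hp] at h4
            intro t u
            have h5 := wordMat_eq_of_checkF t u (0 : F) hT _ _ h4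
            rw [commWord_eq hT, ← cw_eval]
            have e1 : ∀ (a : List (ℕ × F)) (b : List (ℕ × F)), D.wordMat F (a ++ b) = D.wordMat F a * D.wordMat F b := by
              intro a b; simp [ChevalleyDatum.wordMat]
            simp only [SWord.eval, List.map_cons, List.map_nil, List.cons_append, List.nil_append, List.map_append] at h5
            simp only [SWord.eval]
            simpa [ChevalleyDatum.wordMat, mul_assoc] using h5
      | some i =>
        obtain ⟨hi, hc⟩ := hpick i hp
        have Ri := Rr i hi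
        have Si := Rs i hi
        have hne1 : T.refl i s ≠ T.refl i r := by
          intro e
          have := congrArg (T.refl i) e
          rw [Si.w_w, Ri.w_w] at this
          exact h1 this
        have hne2 : T.refl i s ≠ T.neg (T.refl i r) := by
          intro e
          rw [← Ri.w_neg] at e
          have := congrArg (T.refl i) e
          rw [Si.w_w, (reflFacts hR i hi _ Ri.neg_lt).w_w] at this
          exact h2 this
        apply cf_transfer hT hM hR hC hA i hi r s hr hs (hAl i hp)
        rcases hc with hc | ⟨hc1, hc2⟩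
        · have h3 := up_lt hU hi hr hc
          exact ih (T.n - T.refl i r) (by omega) _ Ri.w_lt _ Si.w_lt hne1 hne2 rfl
        · have h3 := up_eq hU hi hr hc1
          have h4 := up_lt hU hi hs hc2
          rw [h3] at hne1 hne2 ⊢
          exact ih2 (T.n - T.refl i s) (by omega) _ Si.w_lt hne1 hne2 rfl

end

end Cfsg.Agent.Lib.ChevRel
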