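import Cfsg.Agent.Lib.ChevV4

/-! The longest element, the core of `B`, irreducibility and perfectness. -/

set_option autoImplicit false

namespace Cfsg.Agent.Lib.ChevSimp

open Cfsg.Lie Matrix Cfsg.Agent.Lib.ChevEngine Cfsg.Agent.Lib.ChevTab Cfsg.Agent.Lib.ChevMono
  Cfsg.Agent.Lib.ChevRel Cfsg.Agent.Lib.ChevValid Cfsg.Agent.Lib.ChevGL Cfsg.Agent.Lib.ChevGrad Cfsg.Agent.Lib.ChevL2
  Cfsg.Agent.Lib.ChevU Cfsg.Agent.Lib.ChevU2 Cfsg.Agent.Lib.ChevU3 Cfsg.Agent.Lib.ChevDiag Cfsg.Agent.Lib.ChevV3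
  Cfsg.Agent.Lib.ChevH Cfsg.Agent.Lib.ChevN Cfsg.Agent.Lib.ChevN2 Cfsg.Agent.Lib.ChevN3 Cfsg.Agent.Lib.ChevBN Cfsg.Agent.Lib.ChevBN2
  Cfsg.Agent.Lib.ChevV4

variable {D : ChevalleyDatum} {T : Tb} {C : Tc} {X : Tc3} {Y : Tc4} {F : Type*} [Field F]

/-- A word in the `n_{p_i}`. -/
noncomputable def nw (V : Valid D T) (F : Type*) [Field F] (L : List ℕ) : GL D.Idx F :=
  (L.map fun i => nU V (D.simple i) 1).prod

section
variable (V : Valid D T) (V2 : Valid2 D T C) (V3 : Valid3 T C X) (V4 : Valid4 D T C Y)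

include V in
/-- conjugation by a word -/
theorem nw_conj (L : List ℕ) (hL : ∀ i ∈ L, i < T.l) {r : ℕ} (hr : r < T.n) :
    rwl T L r < T.n ∧ ∃ η : F, (η = 1 ∨ η = -1) ∧ ∀ t : F, nw V F L * xU V r t * (nw V F L)⁻¹ = xU V (rwl T L r) (η * t) := by
  induction L with
  | nil =>
    refine ⟨hr, 1, Or.inl rfl, ?_⟩
    intro t
    simp [nw, rwl]
  | cons i L ih =>
    obtain ⟨h1, η, hη, h2⟩ := ih (fun j hj => hL j (List.mem_cons_of_mem _ hj))
    have hi : i < T.l := hL i (by simp)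
    have hi' : i < D.rank := by rw [← V.hl]; exact hi
    have e : rwl T (i :: L) r = T.refl i (rwl T L r) := rfl
    have Rr := reflFacts V.hR i hi _ h1
    refine ⟨by rw [e]; exact Rr.w_lt, ((T.eps i (rwl T L r) : ℤ) : F) * η, ?_, ?_⟩
    · rcases Rr.eps_pm with h | h <;> rcases hη with h' | h' <;> simp [h, h']
    · intro t
      have e2 : nw V F (i :: L) = nU V (D.simple i) 1 * nw V F L := by simp [nw]
      have e3 : nU V (D.simple i) 1 * nw V F L * xU V r t * (nU V (D.simple i) 1 * nw V F L)⁻¹ =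
          nU V (D.simple i) 1 * (nw V F L * xU V r t * (nw V F L)⁻¹) * (nU V (D.simple i) 1)⁻¹ := by group
      rw [e2, e3, h2, nU_conj' V hi' (by rw [← V.hn]; exact h1), e, mul_assoc]

include V V3 in
theorem nw_mem_N (L : List ℕ) (hL : ∀ i ∈ L, i < T.l) : nw V F L ∈ D.monomialSubgroup F := by
  induction L with
  | nil => simp [nw, Subgroup.one_mem]
  | cons i L ih =>
    have e2 : nw V F (i :: L) = nU V (D.simple i) 1 * nw V F L := by simp [nw]
    rw [e2]
    refine Subgroup.mul_mem _ ?_ (ih fun j hj => hL j (List.mem_cons_of_mem _ hj))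
    rw [monomialSubgroup_eq V]
    exact Subgroup.mem_sup_right (Subgroup.subset_closure ⟨_, V.sim_lt (by rw [← V.hl]; exact hL i (by simp)), rfl⟩)

include V in
omit [Field F] in
theorem rwl_append_singleton (A : List ℕ) (i r : ℕ) : rwl T (A ++ [i]) r = rwl T A (T.refl i r) := by
  simp [rwl, List.foldr_append]

include V in
omit [Field F] in
/-- inverse word. -/
theorem rwl_rev (L : List ℕ) (hL : ∀ i ∈ L, i < T.l) {r : ℕ} (hr : r < T.n) : rwl T L (rwl T L.reverse r) = r := by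
  induction L generalizing r with
  | nil => rfl
  | cons i L ih =>
    have hi : i < T.l := hL i (by simp)
    have Rr := reflFacts V.hR i hi r hr
    rw [List.reverse_cons, rwl_append_singleton V]
    show T.refl i (rwl T L (rwl T L.reverse (T.refl i r))) = r
    rw [ih (fun j hj => hL j (List.mem_cons_of_mem _ hj)) Rr.w_lt, Rr.w_w]

include V V2 V3 V4 in
theorem w0_props : (∀ i ∈ Y.w0, i < T.l) ∧ (∀ r < T.n, T.n / 2 ≤ r → rwl T Y.w0 r < T.n / 2) ∧
    (∀ r < T.n / 2, T.n / 2 ≤ rwl T Y.w0.reverse r) := by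
  have h := V4.hW0
  have h0 := n_even V2
  simp only [checkW0, Bool.and_eq_true, allL_iff, allBelow_iff, force_eq, Bool.cond_eq_ite, blt_dec, decide_eq_true_eq] at h
  refine ⟨fun i hi => h.1 i hi, ?_, ?_⟩
  · intro r hr h1
    have := h.2 r hr
    rw [if_neg (by omega)] at this
    simpa using this
  · intro r hr
    have := h.2 r (by omega)
    rw [if_pos hr] at this
    simpa using this

include V V2 V3 V4 in
/-- S1053 -/
theorem exists_n0 : ∃ n ∈ D.monomialSubgroup F, (D.posUnipotent F).map (MulAut.conj n).toMonoidHom = D.negUnipotent F := by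
  obtain ⟨h1, h2, h3⟩ := w0_props V V2 V3 V4
  have h0 := n_even V2
  refine ⟨nw V F Y.w0, nw_mem_N V V3 _ h1, ?_⟩
  apply le_antisymm
  · rintro _ ⟨u, hu, rfl⟩
    show nw V F Y.w0 * u * (nw V F Y.w0)⁻¹ ∈ _
    rw [posUnipotent_eq V] at hu
    refine conj_closure_mem _ ?_ hu
    rintro y ⟨r, t, hr, rfl⟩
    have h4 := (isPos_iff V V2 r).mp hr
    have hr' : r < T.n := by rw [V.hn]; exact h4.2
    obtain ⟨_, η, _, h5⟩ := nw_conj V (F := F) _ h1 hr'
    rw [h5, negUnipotent_eq V]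
    exact Subgroup.subset_closure ⟨_, _, (isNeg_iff V V2 _).mpr (h2 r hr' h4.1), rfl⟩
  · rw [negUnipotent_eq V, Subgroup.closure_le]
    rintro g ⟨r, t, hr, rfl⟩
    have h4 := (isNeg_iff V V2 r).mp hr
    have hr' : r < T.n := by omega
    have h5 := h3 r h4
    have h6 : rwl T Y.w0 (rwl T Y.w0.reverse r) = r := rwl_rev V _ h1 hr'
    have h7 : rwl T Y.w0.reverse r < T.n := by
      have hrev : ∀ i ∈ Y.w0.reverse, i < T.l := fun i hi => h1 i (List.mem_reverse.mp hi)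
      exact (nw_conj V (F := F) _ hrev hr').1
    obtain ⟨_, η, hη, h8⟩ := nw_conj V (F := F) _ h1 h7
    rw [h6] at h8
    refine ⟨xU V (rwl T Y.w0.reverse r) (η * t), ?_, ?_⟩
    · exact xU_mem_U V V2 V3 h5 h7 _
    · show nw V F Y.w0 * _ * (nw V F Y.w0)⁻¹ = _
      rw [h8]
      congr 1
      rcases hη with h9 | h9 <;> simp [h9]

include V V2 V3 V4 in
theorem core_trivial : ((D.borelSubgroup F).subgroupOf (D.group F)).normalCore = ⊥ := by
  rw [eq_bot_iff]
  intro z hz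
  rw [Subgroup.mem_bot]
  obtain ⟨n, hn, hnU⟩ := exists_n0 (F := F) V V2 V3 V4
  have hnG := N_le_G V hn
  have hzB : (z : GL D.Idx F) ∈ D.borelSubgroup F := by
    have := Subgroup.normalCore_le _ hz
    exact this
  -- `z` lies in `n B n⁻¹`
  have h1 : ((⟨n, hnG⟩ : ↥(D.group F))⁻¹ * z * (⟨n, hnG⟩ : ↥(D.group F))⁻¹⁻¹ : ↥(D.group F)) ∈ (D.borelSubgroup F).subgroupOf (D.group F) :=
    hz _
  have h2 : n⁻¹ * (z : GL D.Idx F) * n ∈ D.borelSubgroup F := by
    have := Subgroup.mem_subgroupOf.mp h1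
    simpa using this
  obtain ⟨u, hu, h, hh, e⟩ := B_form V V2 V3 h2
  have h3 : (z : GL D.Idx F) ∈ D.negUnipotent F ⊔ D.diagonalSubgroup F := by
    have e2 : (z : GL D.Idx F) = (n * u * n⁻¹) * (n * h * n⁻¹) := by
      have : (z : GL D.Idx F) = n * (n⁻¹ * (z : GL D.Idx F) * n) * n⁻¹ := by group
      rw [this, e]; group
    rw [e2]
    refine Subgroup.mul_mem _ (Subgroup.mem_sup_left ?_) (Subgroup.mem_sup_right ?_)
    · rw [← hnU]
      exact ⟨u, hu, rfl⟩
    · exact normalizer_conj_mem (N_le_normalizer_H V V2 V3 hn) hh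
  have h4 : (z : GL D.Idx F) ∈ D.diagonalSubgroup F := by
    rw [← B_inf_VH V V2 V3]
    exact ⟨hzB, h3⟩
  obtain ⟨χ, hχ, he⟩ := H_form V V2 V3 h4
  -- the character is trivial
  have hχ1 : ∀ s < D.nroots, χ s = 1 := by
    intro s hs
    by_contra hne
    have hs' : s < T.n := by rw [V.hn]; exact hs
    have hxG := xU_mem_group V (F := F) hs 1
    have h5 : (⟨_, hxG⟩ : ↥(D.group F)) * z⁻¹ * (⟨_, hxG⟩ : ↥(D.group F))⁻¹ ∈ ((D.borelSubgroup F).subgroupOf (D.group F)).normalCore :=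
      (Subgroup.Normal.conj_mem (Subgroup.normalCore_normal _) _ (Subgroup.inv_mem _ hz) _)
    have h6 := Subgroup.mul_mem _ hz h5
    have h7 : (z : GL D.Idx F) * ((xU V s 1) * (z : GL D.Idx F)⁻¹ * (xU V s 1)⁻¹) ∈ D.borelSubgroup F := by
      have := Subgroup.mem_subgroupOf.mp (Subgroup.normalCore_le _ h6)
      simpa using this
    have e3 : (z : GL D.Idx F) * ((xU V s 1) * (z : GL D.Idx F)⁻¹ * (xU V s 1)⁻¹) = xU V s (((χ s : Fˣ) : F) - 1) := by
      have e4 : (z : GL D.Idx F) * ((xU V s 1) * (z : GL D.Idx F)⁻¹ * (xU V s 1)⁻¹) =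
          ((z : GL D.Idx F) * (xU V s 1) * (z : GL D.Idx F)⁻¹) * (xU V s 1)⁻¹ := by group
      rw [e4, he, conj_dg V hχ hs, mul_inv_cancel_right, xU_inv, xU_mul, mul_one, sub_eq_add_neg]
    rw [e3] at h7
    have hc : ((χ s : Fˣ) : F) - 1 ≠ 0 := by
      intro h8
      apply hne
      apply Units.ext
      simpa [sub_eq_zero] using h8
    have hx1 : xU V s (((χ s : Fˣ) : F) - 1) ≠ 1 := by
      intro h8
      have h9 := congrArg Units.val h8
      rw [xU_val, Units.val_one, V.x_eq_one_iff hs] at h9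
      exact hc h9
    -- `x_s(c)` in `B ∩ N`?
    have h0 := n_even V2
    by_cases hsign : T.n / 2 ≤ s
    · -- s positive: use `n₀`
      have hU0 := xU_mem_U V V2 V3 hsign hs' (F := F) (((χ s : Fˣ) : F) - 1)
      -- the element lies in the normal core, hence its conjugate by n⁻¹ lies in B
      have h10 := h6 (⟨n, hnG⟩ : ↥(D.group F))
      have h11 : n * ((z : GL D.Idx F) * ((xU V s 1) * (z : GL D.Idx F)⁻¹ * (xU V s 1)⁻¹)) * n⁻¹ ∈ D.borelSubgroup F := by
        have := Subgroup.mem_subgroupOf.mp h10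
        simpa using this
      rw [e3] at h11
      have h12 : n * xU V s (((χ s : Fˣ) : F) - 1) * n⁻¹ ∈ D.negUnipotent F := by
        rw [← hnU]
        exact ⟨_, hU0, rfl⟩
      have h13 : n * xU V s (((χ s : Fˣ) : F) - 1) * n⁻¹ ∈ D.borelSubgroup F ⊓ D.negUnipotent F := ⟨h11, h12⟩
      rw [B_inf_V V V2 V3, Subgroup.mem_bot] at h13
      apply hx1
      have e5 : xU V s (((χ s : Fˣ) : F) - 1) = n⁻¹ * (n * xU V s (((χ s : Fˣ) : F) - 1) * n⁻¹) * n := by group
      rw [e5, h13]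
      group
    · have h13 : xU V s (((χ s : Fˣ) : F) - 1) ∈ D.borelSubgroup F ⊓ D.negUnipotent F := by
        refine ⟨h7, ?_⟩
        rw [negUnipotent_eq V]
        exact Subgroup.subset_closure ⟨_, _, (isNeg_iff V V2 _).mpr (by omega), rfl⟩
      rw [B_inf_V V V2 V3, Subgroup.mem_bot] at h13
      exact hx1 h13
  apply Subtype.ext
  show (z : GL D.Idx F) = 1
  rw [he, ← dgU_one]
  exact dgU_congr hχ1

end

end Cfsg.Agent.Lib.ChevSimp
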