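import Cfsg.Agent.Lib.ChevSimp

/-! Irreducibility, perfectness and simplicity. -/

set_option autoImplicit false

namespace Cfsg.Agent.Lib.ChevSimp2

open Cfsg.Lie Matrix Cfsg.Agent.Lib.ChevEngine Cfsg.Agent.Lib.ChevTab Cfsg.Agent.Lib.ChevMono
  Cfsg.Agent.Lib.ChevRel Cfsg.Agent.Lib.ChevValid Cfsg.Agent.Lib.ChevGL Cfsg.Agent.Lib.ChevGrad Cfsg.Agent.Lib.ChevL2
  Cfsg.Agent.Lib.ChevU Cfsg.Agent.Lib.ChevU2 Cfsg.Agent.Lib.ChevU3 Cfsg.Agent.Lib.ChevDiag Cfsg.Agent.Lib.ChevV3
  Cfsg.Agent.Lib.ChevH Cfsg.Agent.Lib.ChevN Cfsg.Agent.Lib.ChevN2 Cfsg.Agent.Lib.ChevN3 Cfsg.Agent.Lib.ChevBN Cfsg.Agent.Lib.ChevBN2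
  Cfsg.Agent.Lib.ChevV4 Cfsg.Agent.Lib.ChevSimp

variable {D : ChevalleyDatum} {T : Tb} {C : Tc} {X : Tc3} {Y : Tc4} {F : Type*} [Field F]

section
variable (V : Valid D T) (V2 : Valid2 D T C) (V3 : Valid3 T C X) (V4 : Valid4 D T C Y)

include V V2 in
/-- Root elements of different roots are different. -/
theorem x_inj {r s : ℕ} (hr : r < T.n) (hs : s < T.n) {a b : F} (ha : a ≠ 0) (h : xU V r a = xU V s b) : r = s := by
  by_contra hrs
  have h1 := congrArg Units.val h
  rw [xU_val, xU_val] at h1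
  have hn1 := V.neg_lt hr
  have key : ∀ i : Fin D.rank, (D.x F r a *ᵥ bas D (T.l + T.neg r)) (Sum.inl i) = a * ((T.co r i.val : ℤ) : F) := by
    intro i
    have hi : i.val < T.l := by rw [V.hl]; exact i.isLt
    rw [x_col_n V.hT r hr a (V.neg_ne hr) hn1]
    simp only [Pi.add_apply, Pi.smul_apply, smul_eq_mul]
    have e1 : (bas D (T.l + T.neg r) : D.Idx → F) (Sum.inl i) = 0 := by
      simp only [bas]
      rw [if_neg]
      simp only [code_inl]
      omega
    have e2 : (bas D (T.l + r) : D.Idx → F) (Sum.inl i) = 0 := by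
      simp only [bas]
      rw [if_neg]
      simp only [code_inl]
      omega
    have e3 : (hv D T (T.co r) : D.Idx → F) (Sum.inl i) = ((T.co r i.val : ℤ) : F) := by
      unfold hv
      rw [Finset.sum_apply, Finset.sum_eq_single i.val]
      · simp [bas_inl]
      · intro b _ hb
        simp only [Pi.smul_apply, smul_eq_mul, bas_inl]
        rw [if_neg (fun e => hb e.symm), mul_zero]
      · intro h3
        exact absurd (by simpa using hi) h3
    rw [e1, e2, e3]
    simp
  have key2 : ∀ i : Fin D.rank, (D.x F s b *ᵥ bas D (T.l + T.neg r)) (Sum.inl i) = 0 := by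
    intro i
    have e1 : (bas D (T.l + T.neg r) : D.Idx → F) (Sum.inl i) = 0 := by
      simp only [bas]
      rw [if_neg]
      simp only [code_inl]
      have := i.isLt
      have := V.hl
      omega
    by_cases c1 : T.neg r = s
    · rw [c1, x_col_s V.hT s hs b]
      rw [c1] at e1
      exact e1
    · have c2 : T.neg r ≠ T.neg s := by
        intro e
        apply hrs
        have := congrArg T.neg e
        rwa [V.neg_neg hr, V.neg_neg hs] at this
      rw [x_col_c V.hT s hs b _ hn1 c1 c2]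
      simp only [Pi.add_apply]
      rw [e1, zero_add]
      have := cv_support (T := T) 0 (T.ch s (T.neg r)) b (Sum.inl i)
      by_contra h5
      obtain ⟨j, _, h6⟩ := this h5
      simp only [code_inl] at h6
      have := i.isLt
      have := V.hl
      omega
  rw [h1] at key
  obtain ⟨i, hi⟩ := exists_coroot_ne_zero (F := F) V V2 hr
  have h2 := key i
  rw [key2 i] at h2
  have h3 : (T.co r i.val) = ((D.coroot.getD r #[]).getD i.val 0 : ℤ) := by
    rw [V.hT.hco r hr i.val (by rw [V.hl]; exact i.isLt)]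
  rw [h3] at h2
  exact mul_ne_zero ha hi h2.symm

include V V2 V3 V4 in
/-- Adjacent nodes do not commute modulo `B`. -/
theorem conn_noncomm {j : ℕ} (hj : j < T.l) (hroot : j ≠ Y.root) :
    Y.pd j < T.l ∧ Y.dd (Y.pd j) < Y.dd j ∧
      nU V (D.simple (Y.pd j)) (1 : F) * nU V (D.simple j) 1 * (nU V (D.simple (Y.pd j)) 1)⁻¹ * (nU V (D.simple j) 1)⁻¹ ∉ D.borelSubgroup F := by
  have h := V4.hConn
  simp only [checkConn, Bool.and_eq_true, allBelow_iff, force_eq, Bool.or_eq_true, Bool.not_eq_true'] at h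
  rcases h.2 j hj with h1 | h1
  · exact absurd (by simpa using h1) hroot
  obtain ⟨⟨h2, h3⟩, h4⟩ := h1
  have hpd : Y.pd j < T.l := by simpa using h2
  refine ⟨hpd, by simpa using h3, ?_⟩
  intro hB
  have hne : rwl T [Y.pd j, j, Y.pd j, j] (T.sim j) ≠ T.sim j := by
    intro e
    rw [e] at h4
    simp at h4
  set i := Y.pd j with hi
  have hi' : i < D.rank := by rw [← V.hl]; exact hpd
  have hj' : j < D.rank := by rw [← V.hl]; exact hj
  have hsi : nU V (D.simple i) (1 : F) ∈ D.monomialSubgroup F := n_mem_N V V2 V3 hpd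
  have hsj : nU V (D.simple j) (1 : F) ∈ D.monomialSubgroup F := n_mem_N V V2 V3 hj
  have hN : nU V (D.simple i) (1 : F) * nU V (D.simple j) 1 * (nU V (D.simple i) 1)⁻¹ * (nU V (D.simple j) 1)⁻¹ ∈ D.monomialSubgroup F :=
    Subgroup.mul_mem _ (Subgroup.mul_mem _ (Subgroup.mul_mem _ hsi hsj) (Subgroup.inv_mem _ hsi)) (Subgroup.inv_mem _ hsj)
  have hH : nU V (D.simple i) (1 : F) * nU V (D.simple j) 1 * (nU V (D.simple i) 1)⁻¹ * (nU V (D.simple j) 1)⁻¹ ∈ D.diagonalSubgroup F := by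
    rw [← B_inf_N V V2 V3]
    exact ⟨hB, hN⟩
  obtain ⟨χ, hχ, he⟩ := H_form V V2 V3 hH
  have hp := sim_lt' V V2 V3 hj
  set p := T.sim j with hpdef
  have Rp := reflFacts V.hR j hj p hp
  have R2 := reflFacts V.hR i hpd _ Rp.w_lt
  have R3 := reflFacts V.hR j hj _ R2.w_lt
  have R4 := reflFacts V.hR i hpd _ R3.w_lt
  -- conjugation computed in two ways
  have c1 : ∀ t : F, (nU V (D.simple j) (1 : F))⁻¹ * xU V p t * nU V (D.simple j) 1 = xU V (T.refl j p) (((T.eps j (T.refl j p) : ℤ) : F) * t) :=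
    fun t => n_inv_conj V hj hp t
  have c2 : ∀ t : F, (nU V (D.simple i) (1 : F))⁻¹ * xU V (T.refl j p) t * nU V (D.simple i) 1 = xU V (T.refl i (T.refl j p)) (((T.eps i (T.refl i (T.refl j p)) : ℤ) : F) * t) :=
    fun t => n_inv_conj V hpd Rp.w_lt t
  have c3 := fun t : F => nU_conj' V hj' (s := T.refl i (T.refl j p)) (by rw [← V.hn]; exact R2.w_lt) t
  have c4 := fun t : F => nU_conj' V hi' (s := T.refl j (T.refl i (T.refl j p))) (by rw [← V.hn]; exact R3.w_lt) t
  have e5 : (nU V (D.simple i) (1 : F) * nU V (D.simple j) 1 * (nU V (D.simple i) 1)⁻¹ * (nU V (D.simple j) 1)⁻¹) * xU V p 1 *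
      (nU V (D.simple i) (1 : F) * nU V (D.simple j) 1 * (nU V (D.simple i) 1)⁻¹ * (nU V (D.simple j) 1)⁻¹)⁻¹ =
      nU V (D.simple i) 1 * (nU V (D.simple j) 1 * ((nU V (D.simple i) 1)⁻¹ * ((nU V (D.simple j) 1)⁻¹ * xU V p 1 * nU V (D.simple j) 1) * nU V (D.simple i) 1) * (nU V (D.simple j) 1)⁻¹) * (nU V (D.simple i) 1)⁻¹ := by
    group
  rw [c1, c2, c3, c4, he, conj_dg V hχ (by rw [← V.hn]; exact hp), mul_inv_cancel_right] at e5
  have hrw : rwl T [i, j, i, j] p = T.refl i (T.refl j (T.refl i (T.refl j p))) := rfl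
  apply hne
  rw [hrw]
  symm
  refine x_inj V V2 hp R4.w_lt ?_ e5
  exact mul_ne_zero (Units.ne_zero _) one_ne_zero

include V V2 V3 V4 in
/-- Irreducibility of the Chevalley (B,N)-pair. -/
theorem bn_irreducible : (bnPair (F := F) V V2 V3).Irreducible := by
  intro J hJ hJ1 hJ2
  by_contra hcon
  push Not at hcon
  -- a function on nodes
  set A : ℕ → Prop := fun i => ∃ g ∈ J, ((g : GL D.Idx F) : Matrix D.Idx D.Idx F) = D.nMat F (D.simple i) 1 with hA
  have mkS : ∀ i < T.l, ∃ g : ↥(D.group F), g ∈ (bnPair (F := F) V V2 V3).S ∧ (g : GL D.Idx F) = nU V (D.simple i) 1 := by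
    intro i hi
    have hi' : i < D.rank := by rw [← V.hl]; exact hi
    exact ⟨⟨_, nU_mem_G V (V.sim_lt hi') 1⟩, ⟨i, hi', nU_val V _ _⟩, rfl⟩
  have step : ∀ j < T.l, j ≠ Y.root → (A j ↔ A (Y.pd j)) := by
    intro j hj hr
    obtain ⟨hpd, _, hnc⟩ := conn_noncomm (F := F) V V2 V3 V4 hj hr
    obtain ⟨gj, hgjS, egj⟩ := mkS j hj
    obtain ⟨gi, hgiS, egi⟩ := mkS _ hpd
    have hmem : ∀ (i : ℕ) (g : ↥(D.group F)), (g : GL D.Idx F) = nU V (D.simple i) 1 → (g ∈ J ↔ A i) := by
      intro i g eg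
      constructor
      · intro hg
        exact ⟨g, hg, by rw [eg, nU_val]⟩
      · rintro ⟨g', hg', e'⟩
        have : g' = g := Subtype.ext (by rw [eg]; exact Units.ext (by rw [e', nU_val]))
        rwa [← this]
    rw [← hmem j gj egj, ← hmem _ gi egi]
    constructor
    · intro h1
      by_contra h2
      have := hcon gj h1 gi ⟨hgiS, h2⟩
      have h3 : (gj : GL D.Idx F) * gi * (gj : GL D.Idx F)⁻¹ * (gi : GL D.Idx F)⁻¹ ∈ D.borelSubgroup F := this
      rw [egj, egi] at h3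
      apply hnc
      have h4 := Subgroup.inv_mem _ h3
      have e : (nU V (D.simple j) 1 * nU V (D.simple (Y.pd j)) (1 : F) * (nU V (D.simple j) 1)⁻¹ * (nU V (D.simple (Y.pd j)) 1)⁻¹)⁻¹ =
          nU V (D.simple (Y.pd j)) 1 * nU V (D.simple j) 1 * (nU V (D.simple (Y.pd j)) 1)⁻¹ * (nU V (D.simple j) 1)⁻¹ := by group
      rwa [e] at h4
    · intro h1
      by_contra h2
      have := hcon gi h1 gj ⟨hgjS, h2⟩
      have h3 : (gi : GL D.Idx F) * gj * (gi : GL D.Idx F)⁻¹ * (gj : GL D.Idx F)⁻¹ ∈ D.borelSubgroup F := this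
      rw [egj, egi] at h3
      exact hnc h3
  have allSame : ∀ d j, Y.dd j = d → j < T.l → (A j ↔ A Y.root) := by
    intro d
    induction d using Nat.strong_induction_on with
    | _ d ih =>
      intro j hd hj
      by_cases hr : j = Y.root
      · rw [hr]
      · obtain ⟨hpd, hlt, _⟩ := conn_noncomm (F := F) V V2 V3 V4 hj hr
        rw [step j hj hr]
        exact ih _ (by omega) _ rfl hpd
  have hRoot : Y.root < T.l := by
    have h := V4.hConn
    simp only [checkConn, Bool.and_eq_true] at h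
    simpa using h.1
  obtain ⟨g, hg⟩ := hJ1
  obtain ⟨g', hg', hg'2⟩ := hJ2
  obtain ⟨i, hi, hgi⟩ := hJ hg
  obtain ⟨i', hi', hgi'⟩ := hg'
  have h1 : A i := ⟨g, hg, hgi⟩
  have h2 : ¬ A i' := by
    rintro ⟨g2, hg2, e⟩
    have : g2 = g' := Subtype.ext (Units.ext (by rw [e, hgi']))
    exact hg'2 (by rwa [← this])
  have e1 := allSame _ i rfl (by rw [V.hl]; exact hi)
  have e2 := allSame _ i' rfl (by rw [V.hl]; exact hi')
  exact h2 (e2.mpr (e1.mp h1))

/-! ### Perfectness -/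

/-- `aaF` in terms of `aa`. -/
theorem aaF_eq (r s : ℕ) : aaF T r s = aa T r s := by
  unfold aaF aa
  rw [sumBelow_eq]

/-- The commutator subgroup, as a subgroup of `GL`. -/
noncomputable def KK (D : ChevalleyDatum) (F : Type*) [Field F] : Subgroup (GL D.Idx F) :=
  (commutator ↥(D.group F)).map (D.group F).subtype

theorem comm_mem_KK {a b : GL D.Idx F} (ha : a ∈ D.group F) (hb : b ∈ D.group F) : a * b * a⁻¹ * b⁻¹ ∈ KK D F := by
  refine ⟨(⟨a, ha⟩ : ↥(D.group F)) * (⟨b, hb⟩ : ↥(D.group F)) * (⟨a, ha⟩ : ↥(D.group F))⁻¹ * (⟨b, hb⟩ : ↥(D.group F))⁻¹, ?_, rfl⟩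
  exact Subgroup.commutator_mem_commutator (Subgroup.mem_top _) (Subgroup.mem_top _)

include V in
theorem xU_lt_mem_G {r : ℕ} (hr : r < T.n) (t : F) : xU V r t ∈ D.group F :=
  xU_mem_group V (by rw [← V.hn]; exact hr) t

include V V2 V3 V4 in
/-- Perfectness -/
theorem perfect (hF : (allBelow T.n fun q => Nat.beq (Y.pk q) 0) = true ∨ ∃ a : F, a ≠ 0 ∧ a ≠ 1) :
    commutator ↥(D.group F) = ⊤ := by
  have hP := V4.hPerf
  simp only [checkPerf, allBelow_iff, force_eq, Bool.and_eq_true] at hP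
  have hshape : ∀ q < T.n, Y.pa q < T.n ∧ Y.pb q < T.n ∧ Y.pb q ≠ Y.pa q ∧ Y.pb q ≠ T.neg (Y.pa q) := by
    intro q hq
    obtain ⟨⟨⟨⟨h1, h2⟩, h3⟩, h4⟩, _⟩ := hP q hq
    refine ⟨by simpa using h1, by simpa using h2, ?_, ?_⟩
    · simpa [beq_dec] using h3
    · simpa [beq_dec] using h4
  -- the word of the commutator
  have hword : ∀ q < T.n, ∀ t u : F, xU V (Y.pb q) (-u) * xU V (Y.pa q) (-t) * (xU V (Y.pb q) (-u))⁻¹ * (xU V (Y.pa q) (-t))⁻¹ =
      wordU V (D.commWord F (Y.pa q) (Y.pb q) t u) := by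
    intro q hq t u
    obtain ⟨h1, h2, h3, h4⟩ := hshape q hq
    have ha : Y.pa q < D.nroots := by rw [← V.hn]; exact h1
    have hb : Y.pb q < D.nroots := by rw [← V.hn]; exact h2
    have e := cfU V ha hb h3 (by rw [V.neg_eq ha]; exact h4) t u
    rw [xU_inv, xU_inv, neg_neg, neg_neg]
    have e2 : wordU V (D.commWord F (Y.pa q) (Y.pb q) t u) = (xU V (Y.pa q) t * xU V (Y.pb q) u)⁻¹ * (xU V (Y.pb q) u * xU V (Y.pa q) t) := by
      rw [e]; group
    rw [e2, _root_.mul_inv_rev, xU_inv, xU_inv]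
    group
  -- kind zero
  have k0 : ∀ q < T.n, Y.pk q = 0 → ∀ w : F, xU V q w ∈ KK D F := by
    intro q hq hk w
    obtain ⟨_, h5⟩ := hP q hq
    obtain ⟨h1, h2, h3, h4⟩ := hshape q hq
    have h5' : term1 q (commTermsF T.ch (Y.pa q) (Y.pb q)) = true := by
      simpa [Bool.cond_eq_ite, beq_dec, hk] using h5
    clear h5
    rename' h5' => h5
    rcases hL : commTermsF T.ch (Y.pa q) (Y.pb q) with _ | ⟨c, L⟩
    · rw [hL] at h5; simp [term1] at h5
    · cases L with
      | cons c2 L2 => rw [hL] at h5; simp [term1] at h5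
      | nil =>
        rw [hL] at h5
        simp only [term1, Bool.and_eq_true, Bool.or_eq_true, decide_eq_true_eq] at h5
        obtain ⟨⟨⟨h6, h7⟩, h8⟩, h9⟩ := h5
        have h6' : c.1 = q := by simpa using h6
        have h8' : c.2.2.1 = 1 := by simpa using h8
        have h9' : c.2.2.2 = 1 := by simpa using h9
        have hC : ((c.2.1 : ℤ) : F) * ((c.2.1 : ℤ) : F) = 1 := by
          rcases h7 with h | h <;> simp [h]
        have hw := hword q hq (-1) (((c.2.1 : ℤ) : F) * w)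
        have e : wordU V (D.commWord F (Y.pa q) (Y.pb q) (-1) (((c.2.1 : ℤ) : F) * w)) = xU V q w := by
          unfold ChevalleyDatum.commWord
          rw [commTerms_eq V.hT, hL]
          simp only [List.map_cons, List.map_nil, wordU_cons, wordU_nil, mul_one, h6', h8', h9', neg_neg, pow_one, one_pow, mul_one]
          rw [← mul_assoc, hC, one_mul]
        rw [← e, ← hw]
        exact comm_mem_KK (xU_lt_mem_G V h2 _) (xU_lt_mem_G V h1 _)
  -- kind one
  have k1 : ∀ a : F, a ≠ 0 → a ≠ 1 → ∀ q < T.n, Y.pk q = 1 → ∀ w : F, xU V q w ∈ KK D F := by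
    intro a ha0 ha1 q hq hk w
    obtain ⟨_, h5⟩ := hP q hq
    obtain ⟨h1, h2, h3, h4⟩ := hshape q hq
    have h5' : (decide (aaF T (Y.pa q) q = 1) || decide (aaF T (Y.pa q) q = -1)) = true := by
      simpa [Bool.cond_eq_ite, beq_dec, hk] using h5
    simp only [Bool.or_eq_true, decide_eq_true_eq] at h5'
    clear h5
    rename' h5' => h5
    have hq' : q < D.nroots := by rw [← V.hn]; exact hq
    have hr : Y.pa q < D.nroots := by rw [← V.hn]; exact h1
    set c : Fˣ := Units.mk0 a ha0 with hc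
    have hh := hU_dg V V2 V3 hr c
    have hχ := isCh_chOf (isGrading_aG V V2 (Y.pa q)) c
    set χ := chOf (aG T C (Y.pa q)) c with hχdef
    have hv : ((χ q : Fˣ) : F) = a ∨ ((χ q : Fˣ) : F) = a⁻¹ := by
      simp only [hχdef, chOf]
      rw [aG_eq V3 _ hq, ← aaF_eq]
      rcases h5 with h6 | h6
      · left; rw [h6]; simp [hc]
      · right; rw [h6]; simp [hc]
    have hne : ((χ q : Fˣ) : F) - 1 ≠ 0 := by
      rw [sub_ne_zero]
      rcases hv with h6 | h6
      · rw [h6]; exact ha1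
      · rw [h6]
        intro h7
        apply ha1
        exact inv_eq_one.mp h7
    have e1 : hU V (Y.pa q) a * xU V q (w / (((χ q : Fˣ) : F) - 1)) * (hU V (Y.pa q) a)⁻¹ * (xU V q (w / (((χ q : Fˣ) : F) - 1)))⁻¹ = xU V q w := by
      have e0 : hU V (Y.pa q) a = dgU D χ := by
        have : (c : F) = a := rfl
        rw [← this]; exact hh
      rw [e0, conj_dg V hχ hq', mul_inv_cancel_right, xU_inv, xU_mul]
      congr 1
      field_simp
      ring
    rw [← e1]
    exact comm_mem_KK (hU_mem_G V hr a) (xU_lt_mem_G V hq _)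
  -- all kinds
  have hkinds : ∀ q < T.n, ∀ w : F, xU V q w ∈ KK D F := by
    intro q hq w
    by_cases hk0 : Y.pk q = 0
    · exact k0 q hq hk0 w
    rcases hF with hF | ⟨a, ha0, ha1⟩
    · simp only [allBelow_iff, beq_dec, decide_eq_true_eq] at hF
      exact absurd (hF q hq) hk0
    by_cases hk1 : Y.pk q = 1
    · exact k1 a ha0 ha1 q hq hk1 w
    obtain ⟨_, h5⟩ := hP q hq
    obtain ⟨h1, h2, h3, h4⟩ := hshape q hq
    have h5' : term2 Y q (commTermsF T.ch (Y.pa q) (Y.pb q)) = true := by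
      simpa [Bool.cond_eq_ite, beq_dec, hk0, hk1] using h5
    clear h5
    rename' h5' => h5
    rcases hL : commTermsF T.ch (Y.pa q) (Y.pb q) with _ | ⟨c1, L⟩
    · rw [hL] at h5; simp [term2] at h5
    · cases L with
      | nil => rw [hL] at h5; simp [term2] at h5
      | cons c L2 =>
        cases L2 with
        | cons c3 L3 => rw [hL] at h5; simp [term2] at h5
        | nil =>
          rw [hL] at h5
          simp only [term2, Bool.and_eq_true, Bool.or_eq_true, decide_eq_true_eq] at h5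
          obtain ⟨⟨⟨⟨⟨⟨b1, b2⟩, b3⟩, b4⟩, b5⟩, b6⟩, b7⟩ := h5
          have b1' : c1.2.2.1 = 1 := by simpa using b1
          have b2' : c1.2.2.2 = 1 := by simpa using b2
          have b3' : Y.pk c1.1 = 1 := by simpa using b3
          have b4' : c.1 = q := by simpa using b4
          have b6' : c.2.2.1 = 2 := by simpa using b6
          have b7' : c.2.2.2 = 1 := by simpa using b7
          have hC : ((c.2.1 : ℤ) : F) * ((c.2.1 : ℤ) : F) = 1 := by
            rcases b5 with h | h <;> simp [h]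
          have hw := hword q hq 1 (((c.2.1 : ℤ) : F) * w)
          have e : wordU V (D.commWord F (Y.pa q) (Y.pb q) 1 (((c.2.1 : ℤ) : F) * w)) =
              xU V c1.1 (((c1.2.1 : ℤ) : F) * (-1) ^ c1.2.2.1 * (((c.2.1 : ℤ) : F) * w) ^ c1.2.2.2) * xU V q w := by
            unfold ChevalleyDatum.commWord
            rw [commTerms_eq V.hT, hL]
            simp only [List.map_cons, List.map_nil, wordU_cons, wordU_nil, mul_one, b4', b6', b7', pow_one]
            congr 2
            have : (-1 : F) ^ 2 = 1 := by ring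
            rw [this, mul_one, ← mul_assoc, hC, one_mul]
          have h6 : xU V c1.1 (((c1.2.1 : ℤ) : F) * (-1) ^ c1.2.2.1 * (((c.2.1 : ℤ) : F) * w) ^ c1.2.2.2) ∈ KK D F := by
            have hterm : c1 ∈ commTermsF T.ch (Y.pa q) (Y.pb q) := by rw [hL]; simp
            exact k1 a ha0 ha1 _ (term_coef V V2 h1 h2 c1 hterm).1 b3' _
          have h7 : xU V c1.1 (((c1.2.1 : ℤ) : F) * (-1) ^ c1.2.2.1 * (((c.2.1 : ℤ) : F) * w) ^ c1.2.2.2) * xU V q w ∈ KK D F := by
            rw [← e, ← hw]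
            exact comm_mem_KK (xU_lt_mem_G V h2 _) (xU_lt_mem_G V h1 _)
          have h8 := Subgroup.mul_mem _ (Subgroup.inv_mem _ h6) h7
          rwa [inv_mul_cancel_left] at h8
  -- conclusion
  rw [eq_top_iff]
  intro g _
  have hle : D.group F ≤ KK D F := by
    rw [group_eq V, Subgroup.closure_le]
    rintro x ⟨r, t, hr, rfl⟩
    exact hkinds r (by rw [V.hn]; exact hr) t
  obtain ⟨y, hy, hxy⟩ := hle g.2
  have : y = g := Subtype.ext hxy
  rwa [← this]

include V V2 V3 in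
/-- `G` is nontrivial -/
theorem G_nontrivial : Nontrivial ↥(D.group F) := by
  have hl := V2.hL
  have hp := sim_lt' V V2 V3 hl
  refine ⟨⟨⟨xU V (T.sim 0) 1, xU_lt_mem_G V hp 1⟩, 1, ?_⟩⟩
  intro h
  have h1 := congrArg (fun g : ↥(D.group F) => ((g : GL D.Idx F) : Matrix D.Idx D.Idx F)) h
  simp only [xU_val, OneMemClass.coe_one, Units.val_one] at h1
  rw [V.x_eq_one_iff (by rw [← V.hn]; exact hp)] at h1
  exact one_ne_zero h1

include V V2 V3 V4 in
/-- Simplicity -/
theorem simple (hF : (allBelow T.n fun q => Nat.beq (Y.pk q) 0) = true ∨ ∃ a : F, a ≠ 0 ∧ a ≠ 1) :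
    IsSimpleGroup ↥(D.group F) ∧ ¬ IsMulCommutative ↥(D.group F) := by
  have hN := G_nontrivial (F := F) V V2 V3
  have hperf := perfect V V2 V3 V4 hF
  constructor
  · refine Cfsg.Agent.Lib.BNPair2.isSimpleGroup_of_irreducible (P := bnPair (F := F) V V2 V3) (bn_irreducible V V2 V3 V4) ?_ hperf (core_trivial V V2 V3 V4)
    have h1 := B_solvable (F := F) V V2 V3
    have e : ((D.borelSubgroup F).subgroupOf (D.group F)) ≃* (D.borelSubgroup F) :=
      Subgroup.subgroupOfEquivOfLe (B_le_G V V2)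
    exact Group.isSolvable_of_surjective (f := e.symm.toMonoidHom) e.symm.surjective
  · intro hc
    have hcomm : ∀ a b : ↥(D.group F), a * b = b * a := fun a b => hc.is_comm.comm a b
    have h2 : commutator ↥(D.group F) = ⊥ := by
      rw [eq_bot_iff, commutator_eq_closure, Subgroup.closure_le]
      rintro _ ⟨a, b, rfl⟩
      simp [commutatorElement_def, hcomm a b]
    rw [h2] at hperf
    exact bot_ne_top hperf

end

end Cfsg.Agent.Lib.ChevSimp2
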