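import Cfsg.Agent.Lib.ChevEngine

/-!
Kernel-friendly tables for Chevalley data and their connection with `ChevalleyDatum`.
-/

set_option autoImplicit false

namespace Cfsg.Agent.Lib.ChevTab

open Cfsg.Lie Matrix Cfsg.Agent.Lib.ChevEngine

/-! ### Fast loops -/

noncomputable def allBelow (n : ℕ) (f : ℕ → Bool) : Bool :=
  Nat.rec (motive := fun _ => Bool) true (fun i ih => cond (f i) ih false) n

theorem allBelow_succ (n : ℕ) (f : ℕ → Bool) : allBelow (n + 1) f = cond (f n) (allBelow n f) false := rfl

theorem allBelow_iff (n : ℕ) (f : ℕ → Bool) : allBelow n f = true ↔ ∀ i < n, f i = true := by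
  induction n with
  | zero => simp [allBelow]
  | succ n ih =>
    rw [allBelow_succ]
    cases h : f n
    · simp only [cond_false, Bool.false_eq_true, false_iff]
      intro h2
      have := h2 n (Nat.lt_succ_self n)
      simp [h] at this
    · simp only [cond_true, ih]
      constructor
      · intro h2 i hi
        rcases Nat.lt_succ_iff_lt_or_eq.mp hi with h3 | h3
        · exact h2 i h3
        · rw [h3]; exact h
      · intro h2 i hi
        exact h2 i (Nat.lt_succ_of_lt hi)

noncomputable def allL {α : Type} (l : List α) (f : α → Bool) : Bool :=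
  List.rec (motive := fun _ => Bool) true (fun x _ ih => cond (f x) ih false) l

theorem allL_iff {α : Type} (l : List α) (f : α → Bool) : allL l f = true ↔ ∀ x ∈ l, f x = true := by
  induction l with
  | nil => simp [allL]
  | cons x xs ih =>
    have : allL (x :: xs) f = cond (f x) (allL xs f) false := rfl
    rw [this]
    cases h : f x
    · simp [h]
    · simp [ih, h]

noncomputable def force {α : Type} (r : ℕ) (k : ℕ → α) : α :=
  Nat.rec (motive := fun _ => α) (k 0) (fun m _ => k (Nat.succ m)) r

theorem force_eq {α : Type} (r : ℕ) (k : ℕ → α) : force r k = k r := by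
  cases r <;> rfl

/-! ### Bit fields -/

def getBits (w mask row i : ℕ) : ℕ := Nat.land (Nat.shiftRight row (Nat.mul w i)) mask

theorem blt_dec (a b : ℕ) : Nat.blt a b = decide (a < b) := by
  cases h : decide (a < b)
  · have h' : ¬ a < b := by simpa using h
    have : ¬ (Nat.blt a b = true) := by simpa using h'
    exact Bool.eq_false_iff.mpr this
  · have h' : a < b := by simpa using h
    simpa using h'

theorem beq_dec (a b : ℕ) : Nat.beq a b = decide (a = b) := by
  cases h : decide (a = b)
  · have h' : ¬ a = b := by simpa using h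
    have : ¬ (Nat.beq a b = true) := by simpa using h'
    exact Bool.eq_false_iff.mpr this
  · have h' : a = b := by simpa using h
    simpa using h'

theorem getBits_zero (w mask i : ℕ) : getBits w mask 0 i = 0 := by
  simp [getBits]

def decM (c : ℕ) : ℤ := bif Nat.blt c 4 then Int.ofNat c else Int.neg (Int.ofNat (Nat.sub c 4))

def dec1 (c : ℕ) : ℕ × ℤ := (Nat.shiftRight c 3, decM (Nat.land c 7))

/-- decoding of at most three chain entries, each in 11 bits -/
def decCh (c : ℕ) : List (ℕ × ℤ) :=
  bif Nat.beq c 0 then [] else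
    dec1 (Nat.land c 2047) ::
      (bif Nat.beq (Nat.shiftRight c 11) 0 then [] else
        dec1 (Nat.land (Nat.shiftRight c 11) 2047) ::
          (bif Nat.beq (Nat.shiftRight c 22) 0 then [] else
            [dec1 (Nat.land (Nat.shiftRight c 22) 2047)]))

theorem decCh_zero : decCh 0 = [] := rfl

def sdec (c : ℕ) : ℤ := Int.subNatNat c 8

/-- The fast form of the tables. -/
structure Tb where
  n : ℕ
  l : ℕ
  ch : ℕ → ℕ → List (ℕ × ℤ)
  ca : ℕ → ℕ → ℤ
  co : ℕ → ℕ → ℤ
  sim : ℕ → ℕ
  refl : ℕ → ℕ → ℕ
  eps : ℕ → ℕ → ℤ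

noncomputable def mkCh (n w mask : ℕ) (rows : List ℕ) (r s : ℕ) : List (ℕ × ℤ) :=
  bif Nat.blt s n then force r (fun r' => decCh (getBits w mask (rows.getD r' 0) s)) else []

noncomputable def mkTb (n l w mask : ℕ) (chRows caRows coRows : List ℕ) (simL : List ℕ)
    (reflRows epsRows : List ℕ) : Tb where
  n := n
  l := l
  ch := mkCh n w mask chRows
  ca := fun i s => force i (fun i' => sdec (getBits 4 15 (caRows.getD i' 0) s))
  co := fun r i => force r (fun r' => sdec (getBits 4 15 (coRows.getD r' 0) i))
  sim := fun i => simL.getD i 0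
  refl := fun i s => force i (fun i' => getBits 8 255 (reflRows.getD i' 0) s)
  eps := fun i s => force i (fun i' => bif Nat.beq (getBits 1 1 (epsRows.getD i' 0) s) 0 then 1 else -1)

theorem mkCh_out_left {n w mask : ℕ} {rows : List ℕ} {r s : ℕ} (h : rows.length ≤ r) :
    mkCh n w mask rows r s = [] := by
  unfold mkCh
  rw [force_eq, List.getD_eq_default _ _ h, getBits_zero, decCh_zero]
  simp

theorem mkCh_out_right {n w mask : ℕ} {rows : List ℕ} {r s : ℕ} (h : n ≤ s) :
    mkCh n w mask rows r s = [] := by
  unfold mkCh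
  rw [blt_dec, decide_eq_false (by omega)]; rfl

namespace Tb
variable (T : Tb)

@[inline] def neg (r : ℕ) : ℕ := Nat.sub (Nat.sub T.n 1) r

/-- chain part of a column -/
def chainSVf (T : Tb) (p : Pl) : ℕ → List (ℕ × ℤ) → SV
  | _, [] => []
  | k, e :: L => (T.l + e.1, Pl.smul e.2 (Pl.pow p (k + 1))) :: chainSVf T p (k + 1) L

/-- The column of `x_r(p)` with code `a`. -/
def colXf (r : ℕ) (p : Pl) (a : ℕ) : SV :=
  bif Nat.blt a T.l then
    [(a, Pl.const 1), (T.l + r, Pl.smul (-(T.ca a r)) p)]
  else bif Nat.blt (Nat.sub a T.l) T.n then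
    bif Nat.beq (Nat.sub a T.l) r then [(a, Pl.const 1)]
    else bif Nat.beq (Nat.sub a T.l) (T.neg r) then
      ((List.range T.l).map fun i => (i, Pl.smul (T.co r i) p)) ++
        [(a, Pl.const 1), (T.l + r, Pl.smul (-1) (Pl.pow p 2))]
    else (a, Pl.const 1) :: T.chainSVf p 0 (T.ch r (Nat.sub a T.l))
  else []

def applyXf (r : ℕ) (p : Pl) (w : SV) : SV :=
  bif Nat.blt r T.n then
    w.foldr (fun e acc => SV.add (SV.scale e.2 (T.colXf r p e.1)) acc) []
  else w

def applyWordF (w : SWord) (x : SV) : SV := w.foldr (fun e acc => T.applyXf e.1 e.2 acc) x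

end Tb

/-- Table faithful to a datum. -/
structure Faithful (D : ChevalleyDatum) (T : Tb) : Prop where
  hn : T.n = D.nroots
  hl : T.l = D.rank
  hfilter : ∀ r s, ((D.chain.getD r #[]).toList.filter (fun e => decide (e.1 = s)) = [] ∧ T.ch r s = []) ∨
    ∃ e, (D.chain.getD r #[]).toList.filter (fun e => decide (e.1 = s)) = [e] ∧ e.2.toList = T.ch r s
  hca : ∀ i < T.l, ∀ s < T.n, (D.cartanSR.getD i #[]).getD s 0 = T.ca i s
  hco : ∀ r < T.n, ∀ i < T.l, (D.coroot.getD r #[]).getD i 0 = T.co r i
  hneg : ∀ r < T.n, D.negIdx.getD r 0 = T.neg r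
  hsim : ∀ i < T.l, D.simple i = T.sim i

variable {D : ChevalleyDatum} {T : Tb}

theorem chainEntry_eq (hT : Faithful D T) (r s : ℕ) : D.chainEntry r s = T.ch r s := by
  unfold ChevalleyDatum.chainEntry
  rw [← List.head?_filter]
  rcases hT.hfilter r s with ⟨h1, h2⟩ | ⟨e, h1, h2⟩
  · rw [h2]
    have : (D.chain.getD r #[]).toList.filter (fun e => decide (e.1 = s)) = [] := h1
    simp only [this]
    rfl
  · have : (D.chain.getD r #[]).toList.filter (fun e => decide (e.1 = s)) = [e] := h1
    simp only [this, List.head?_cons]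
    exact h2

theorem chainSV_eq_aux (p : Pl) (L : List (ℕ × ℤ)) (k : ℕ) :
    (L.zipIdx k).map (fun q => (T.l + q.1.1, Pl.smul q.1.2 (Pl.pow p (q.2 + 1)))) = T.chainSVf p k L := by
  induction L generalizing k with
  | nil => rfl
  | cons e L ih =>
    simp only [List.zipIdx_cons, List.map_cons, Tb.chainSVf, ih]

theorem chainSV_eq (hT : Faithful D T) (r s : ℕ) (p : Pl) : chainSV D r s p = T.chainSVf p 0 (T.ch r s) := by
  unfold chainSV
  rcases hT.hfilter r s with ⟨h1, h2⟩ | ⟨e, h1, h2⟩
  · rw [h2, h1]; rfl
  · rw [h1, ← h2, ← chainSV_eq_aux, hT.hl]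
    simp

theorem colX_eq (hT : Faithful D T) (r : ℕ) (hr : r < T.n) (p : Pl) (a : ℕ) :
    T.colXf r p a = colX D r p a := by
  unfold Tb.colXf colX
  have hl := hT.hl
  have hn := hT.hn
  simp only [Bool.cond_eq_ite, blt_dec, beq_dec, decide_eq_true_eq, hl, hn, Nat.sub_eq]
  by_cases ha : a < D.rank
  · rw [if_pos ha, if_pos ha, hT.hca a (by omega) r hr]
  · rw [if_neg ha, if_neg ha]
    by_cases hb : a - D.rank < D.nroots
    · rw [if_pos hb, if_pos hb]
      by_cases h1 : a - D.rank = r
      · rw [if_pos h1, if_pos h1]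
      · rw [if_neg h1, if_neg h1, hT.hneg r hr]
        by_cases h2 : a - D.rank = T.neg r
        · rw [if_pos h2, if_pos h2]
          congr 1
          apply List.map_congr_left
          intro i hi
          have hi' : i < D.rank := by simpa using hi
          rw [hT.hco r hr i (by omega)]
        · rw [if_neg h2, if_neg h2, chainSV_eq hT]
    · rw [if_neg hb, if_neg hb]

theorem applyX_eq (hT : Faithful D T) (r : ℕ) (p : Pl) (w : SV) : T.applyXf r p w = applyX D r p w := by
  unfold Tb.applyXf applyX
  simp only [Bool.cond_eq_ite, hT.hn]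
  by_cases hr : Nat.blt r D.nroots = true
  · rw [if_pos hr, if_pos hr]
    have hr' : r < T.n := by rw [hT.hn]; simpa using hr
    induction w with
    | nil => rfl
    | cons y ys ih =>
      simp only [List.foldr_cons]
      rw [ih, colX_eq hT r hr']
  · rw [if_neg hr, if_neg hr]

theorem applyWord_eq (hT : Faithful D T) (w : SWord) (x : SV) : T.applyWordF w x = applyWord D w x := by
  induction w with
  | nil => rfl
  | cons y ys ih =>
    show T.applyXf y.1 y.2 (T.applyWordF ys x) = applyX D y.1 y.2 (applyWord D ys x)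
    rw [ih, applyX_eq hT]

section
variable {F : Type*} [Field F] (t u v : F)

theorem wordF_mulVec_eval (hT : Faithful D T) (w : SWord) (x : SV) :
    D.wordMat F (SWord.eval t u v w) *ᵥ SV.eval D t u v x = SV.eval D t u v (T.applyWordF w x) := by
  rw [applyWord_eq hT, word_mulVec_eval]

end

/-- check that two words agree on all columns -/
noncomputable def checkWordsF (T : Tb) (w₁ w₂ : SWord) : Bool :=
  allBelow (T.l + T.n) fun a =>
    decide (T.applyWordF w₁ (SV.basis a) = T.applyWordF w₂ (SV.basis a))

theorem wordMat_eq_of_checkF {F : Type*} [Field F] (t u v : F) (hT : Faithful D T) (w₁ w₂ : SWord)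
    (h : checkWordsF T w₁ w₂ = true) :
    D.wordMat F (SWord.eval t u v w₁) = D.wordMat F (SWord.eval t u v w₂) := by
  apply matrix_ext_bas
  intro a ha
  simp only [checkWordsF, allBelow_iff, decide_eq_true_eq] at h
  rw [← SV.eval_basis D t u v, wordF_mulVec_eval t u v hT, wordF_mulVec_eval t u v hT,
    h a (by rw [hT.hl, hT.hn]; exact ha)]

/-! ### Checking faithfulness -/

/-- The merge check of a chain table row: `L` is the row, `s` the current column, `k` the number of remaining columns. -/
def mergeCheck (T : Tb) (r : ℕ) : ℕ → ℕ → List (ℕ × Array (ℕ × ℤ)) → Bool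
  | 0, _, L => L.isEmpty
  | k + 1, s, [] => (T.ch r s).isEmpty && mergeCheck T r k (s + 1) []
  | k + 1, s, e :: L =>
      bif Nat.beq e.1 s then
        decide (e.2.toList = T.ch r s) && mergeCheck T r k (s + 1) L
      else
        (T.ch r s).isEmpty && mergeCheck T r k (s + 1) (e :: L)

theorem mergeCheck_spec (T : Tb) (r : ℕ) (k s : ℕ) (L : List (ℕ × Array (ℕ × ℤ))) (h : mergeCheck T r k s L = true) :
    (∀ e ∈ L, s ≤ e.1 ∧ e.1 < s + k) ∧ ∀ s', s ≤ s' → s' < s + k →
      (L.filter (fun e => decide (e.1 = s')) = [] ∧ T.ch r s' = []) ∨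
      ∃ e, L.filter (fun e => decide (e.1 = s')) = [e] ∧ e.2.toList = T.ch r s' := by
  induction k generalizing s L with
  | zero =>
    simp only [mergeCheck, List.isEmpty_iff] at h
    subst h
    refine ⟨by simp, ?_⟩
    intro s' h1 h2
    omega
  | succ k ih =>
    cases L with
    | nil =>
      simp only [mergeCheck, Bool.and_eq_true, List.isEmpty_iff] at h
      obtain ⟨h1, h2⟩ := h
      have h3 := ih _ _ h2
      refine ⟨by simp, ?_⟩
      intro s' hs1 hs2
      by_cases he : s' = s
      · subst he; left; exact ⟨rfl, h1⟩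
      · exact h3.2 s' (by omega) (by omega)
    | cons e L =>
      simp only [mergeCheck, Bool.cond_eq_ite] at h
      by_cases he : Nat.beq e.1 s = true
      · rw [if_pos he] at h
        have he' : e.1 = s := by simpa using he
        simp only [Bool.and_eq_true, decide_eq_true_eq] at h
        obtain ⟨h1, h2⟩ := h
        have h3 := ih _ _ h2
        refine ⟨?_, ?_⟩
        · intro x hx
          rcases List.mem_cons.mp hx with rfl | hx
          · omega
          · have := h3.1 x hx; omega
        · intro s' hs1 hs2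
          by_cases hes : s' = s
          · subst hes
            right
            refine ⟨e, ?_, h1⟩
            rw [List.filter_cons_of_pos (by simpa using he')]
            rw [List.filter_eq_nil_iff.mpr]
            intro x hx
            have := h3.1 x hx
            simp only [decide_eq_true_eq]
            omega
          · have h4 := h3.2 s' (by omega) (by omega)
            have h5 : ¬ (e.1 = s') := by omega
            rw [List.filter_cons_of_neg (by simpa using h5)]
            exact h4
      · rw [if_neg he] at h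
        have he' : ¬ e.1 = s := by simpa using he
        simp only [Bool.and_eq_true, List.isEmpty_iff] at h
        obtain ⟨h1, h2⟩ := h
        have h3 := ih _ _ h2
        refine ⟨?_, ?_⟩
        · intro x hx
          have := h3.1 x hx; omega
        · intro s' hs1 hs2
          by_cases hes : s' = s
          · subst hes
            left
            refine ⟨?_, h1⟩
            rw [List.filter_eq_nil_iff]
            intro x hx
            have := h3.1 x hx
            simp only [decide_eq_true_eq]
            omega
          · exact h3.2 s' (by omega) (by omega)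

/-- walking along a row -/
def rowChk (f : ℕ → ℤ) : ℕ → List ℤ → Bool
  | _, [] => true
  | k, x :: xs => decide (x = f k) && rowChk f (k + 1) xs

theorem rowChk_spec (f : ℕ → ℤ) (k : ℕ) (L : List ℤ) (h : rowChk f k L = true) (s : ℕ) (hs : s < L.length) :
    L[s] = f (k + s) := by
  induction L generalizing k s with
  | nil => simp at hs
  | cons x xs ih =>
    simp only [rowChk, Bool.and_eq_true, decide_eq_true_eq] at h
    cases s with
    | zero => simpa using h.1
    | succ s =>
      simp only [List.getElem_cons_succ]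
      rw [ih (k + 1) h.2 s (by simpa using hs)]
      congr 1
      omega

theorem arr_getD_of_rowChk (a : Array ℤ) (f : ℕ → ℤ) (n : ℕ) (h1 : rowChk f 0 a.toList = true)
    (h2 : Nat.beq a.toList.length n = true) (s : ℕ) (hs : s < n) : a.getD s 0 = f s := by
  have h3 : a.toList.length = n := by simpa using h2
  have h4 := rowChk_spec f 0 a.toList h1 s (by omega)
  have h5 : s < a.size := by simp only [Array.length_toList] at h3; omega
  rw [Array.getD_eq_getD_getElem?, Array.getElem?_eq_getElem h5, Option.getD_some]
  rw [zero_add] at h4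
  rw [← h4]
  simp

/-- all table-level checks for faithfulness -/
noncomputable def checkFaith (D : ChevalleyDatum) (T : Tb) : Bool :=
  Nat.beq T.n D.nroots && Nat.beq T.l D.rank &&
  allBelow T.n (fun r => mergeCheck T r T.n 0 (D.chain.getD r #[]).toList) &&
  allBelow T.l (fun i => rowChk (T.ca i) 0 (D.cartanSR.getD i #[]).toList && Nat.beq (D.cartanSR.getD i #[]).toList.length T.n) &&
  allBelow T.n (fun r => rowChk (T.co r) 0 (D.coroot.getD r #[]).toList && Nat.beq (D.coroot.getD r #[]).toList.length T.l) &&
  allBelow T.n (fun r => Nat.beq (D.negIdx.getD r 0) (T.neg r)) &&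
  allBelow T.l (fun i => Nat.beq (D.simple i) (T.sim i)) &&
  Nat.beq D.chain.size T.n

theorem faithful_of_check (h : checkFaith D T = true) (hch1 : ∀ r s, T.n ≤ r → T.ch r s = [])
    (hch2 : ∀ r s, T.n ≤ s → T.ch r s = []) : Faithful D T := by
  simp only [checkFaith, Bool.and_eq_true, allBelow_iff, decide_eq_true_eq] at h
  obtain ⟨⟨⟨⟨⟨⟨⟨h1, h2⟩, h3⟩, h4⟩, h5⟩, h6⟩, h7⟩, h8⟩ := h
  have hn : T.n = D.nroots := by simpa using h1
  have hl : T.l = D.rank := by simpa using h2
  refine ⟨hn, hl, ?_, ?_, ?_, ?_, ?_⟩
  · intro r s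
    by_cases hr : r < T.n
    · have h9 := mergeCheck_spec T r _ _ _ (h3 r hr)
      by_cases hs : s < T.n
      · exact h9.2 s (Nat.zero_le _) (by omega)
      · left
        refine ⟨?_, hch2 r s (by omega)⟩
        rw [List.filter_eq_nil_iff]
        intro x hx
        have := h9.1 x hx
        simp only [decide_eq_true_eq]
        omega
    · left
      refine ⟨?_, hch1 r s (by omega)⟩
      have hsz : D.chain.size = T.n := by simpa using h8
      rw [Array.getD_eq_getD_getElem?, Array.getElem?_eq_none (by omega)]
      rfl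
  · intro i hi s hs
    exact arr_getD_of_rowChk _ _ _ (h4 i hi).1 (h4 i hi).2 s hs
  · intro r hr i hi
    exact arr_getD_of_rowChk _ _ _ (h5 r hr).1 (h5 r hr).2 i hi
  · intro r hr
    simpa using h6 r hr
  · intro i hi
    simpa using h7 i hi

end Cfsg.Agent.Lib.ChevTab
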