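import Cfsg.Agent.Lib.ChevTab
import Cfsg.Prelude.Def_ChevG2

/-! Fast tables for type G2. -/

set_option autoImplicit false

namespace Cfsg.Agent.Lib.ChevTbG2

open Cfsg.Agent.Lib.ChevTab

def chRows : List ℕ := [0xb40000003a00000011000000000000000240000000000000000000000000000000000000000000000000,
  0x1a8000000000000004a00000000000000088000000000000000200000000000000000000000000000000000000000,
  0x1a094228010320f4000000000000582200001c0f000000000000000000000000b000000018000000000000000000000000,
  0x5a0e4248000000000002f074000000000000001780102a08400000000000018160000000000000001c0000000000000000,
  0x3108a1240003308c0000003700000000000000000068110320000000000003c0900000003c0000000000000000,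
  0x28800000000000000000000003900000000000000000000000000000001d000000000000000000000000a00000000,
  0x164000000000000000000000020800000000000000000000000000000012800000000000000000000000d,
  0xa60002b84e000000000510921140000000000000000000000158000560681681d02a00000000,
  0xb60000000000016c250000000002e84d07a000000330000000000006e098000000000c410815,
  0x5f0000002b800000000000000000002f84200014c1f0000000002e8410421441e819,
  0x174000000000000004d000000000000000e40000000000000029,
  0xaa00000000000000268000001040000006200000000]
def caRows : List ℕ := [0x8b97a5b69758,
  0x97897a697897]
def coRows : List ℕ := [0x67,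
  0x77,
  0x56,
  0x57,
  0x87,
  0x78,
  0x98,
  0x89,
  0xb9,
  0xba,
  0x99,
  0xa9]
def simL : List ℕ := [7, 6]
def reflRows : List ℕ := [0xb060809040a010702030500,
  0xa0b09070805060304020001]
def epsRows : List ℕ := [0x696,
  0x969]

noncomputable def T : Tb := mkTb 12 2 33 8589934591 chRows caRows coRows simL reflRows epsRows

end Cfsg.Agent.Lib.ChevTbG2
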