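import Cfsg.Agent.Lib.ChevW2
import Cfsg.Agent.Lib.ChevPar3

/-! Twisted groups, step 1: the action of `N` on the roots and the subsystems attached to sets of simple roots. -/

set_option autoImplicit false
set_option linter.unusedVariables false
set_option linter.unusedSectionVars false
set_option linter.unusedFintypeInType false
set_option linter.unusedDecidableInType false

namespace Cfsg.Agent.Lib.ChevTw1

open Cfsg.Lie Matrix Cfsg.Agent.Lib.ChevEngine Cfsg.Agent.Lib.ChevTab Cfsg.Agent.Lib.ChevMono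
  Cfsg.Agent.Lib.ChevRel Cfsg.Agent.Lib.ChevValid Cfsg.Agent.Lib.ChevGL Cfsg.Agent.Lib.ChevGrad Cfsg.Agent.Lib.ChevL2
  Cfsg.Agent.Lib.ChevU Cfsg.Agent.Lib.ChevU2 Cfsg.Agent.Lib.ChevU3 Cfsg.Agent.Lib.ChevDiag Cfsg.Agent.Lib.ChevV3
  Cfsg.Agent.Lib.ChevH Cfsg.Agent.Lib.ChevN Cfsg.Agent.Lib.ChevN2 Cfsg.Agent.Lib.ChevN3 Cfsg.Agent.Lib.ChevBN Cfsg.Agent.Lib.ChevBN2
  Cfsg.Agent.Lib.ChevV4 Cfsg.Agent.Lib.ChevSimp Cfsg.Agent.Lib.ChevSimp2 Cfsg.Agent.Lib.ChevPar Cfsg.Agent.Lib.ChevV5 Cfsg.Agent.Lib.ChevPar2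
  Cfsg.Agent.Lib.ChevPar3 Cfsg.Agent.Lib.BNPair Cfsg.Agent.Lib.BNCount Cfsg.Agent.Lib.ChevW1 Cfsg.Agent.Lib.ChevW2

variable {D : ChevalleyDatum} {T : Tb} {C : Tc} {X : Tc3} {Y : Tc4} {F : Type*} [Field F]

section
variable (V : Valid D T) (V2 : Valid2 D T C) (V3 : Valid3 T C X) (V4 : Valid4 D T C Y)
include V V2 V3 V4

/-- `N` as a subgroup of the group `G`, inside the (B,N)-pair. -/
noncomputable def ofN : ↥(D.monomialSubgroup F) →* (bnPair (F := F) V V2 V3).N where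
  toFun m := ⟨⟨m, N_le_G V m.2⟩, m.2⟩
  map_one' := rfl
  map_mul' _ _ := rfl

/-- The class in the Weyl group. -/
noncomputable def wOf : ↥(D.monomialSubgroup F) →* W (bnPair (F := F) V V2 V3) :=
  (mk (bnPair (F := F) V V2 V3)).comp (ofN V V2 V3)

theorem rho_wOf (m : ↥(D.monomialSubgroup F)) : rho V V2 V3 (wOf V V2 V3 m) = rho0 V V2 V3 m := rfl

theorem wOf_eq_one_iff {m : ↥(D.monomialSubgroup F)} : wOf V V2 V3 m = 1 ↔ (m : GL D.Idx F) ∈ D.diagonalSubgroup F := by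
  show mk _ (ofN V V2 V3 m) = 1 ↔ _
  rw [mk_eq_one_iff]
  show (m : GL D.Idx F) ∈ D.borelSubgroup F ↔ _
  constructor
  · intro h
    rw [← B_inf_N V V2 V3]
    exact ⟨h, m.2⟩
  · intro h
    exact H_le_B V V2 V3 h

/-- The `i`-th simple reflection in `N`. -/
noncomputable def nS (i : ℕ) (hi : i < T.l) : ↥(D.monomialSubgroup F) := ⟨nU V (D.simple i) 1, n_mem_N V V2 V3 hi⟩

theorem rho0_nS {i : ℕ} (hi : i < T.l) {r : ℕ} (hr : r < T.n) : rho0 V V2 V3 (nS V V2 V3 (F := F) i hi) r = T.refl i r :=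
  rho0_n V V2 V3 hi hr

theorem wOf_nS {i : ℕ} (hi : i < T.l) : wOf V V2 V3 (nS V V2 V3 (F := F) i hi) = xi V V2 V3 F i := by
  unfold xi
  rw [dif_pos hi]
  rfl

theorem conj_x (m : ↥(D.monomialSubgroup F)) {r : ℕ} (hr : r < T.n) :
    ∃ c : F, c ≠ 0 ∧ ∀ t : F, (m : GL D.Idx F) * xU V r t * (m : GL D.Idx F)⁻¹ = xU V (rho0 V V2 V3 m r) (c * t) := by
  obtain ⟨_, c, hc, h⟩ := piN_spec V V2 V3 m hr
  exact ⟨c, hc, h⟩

theorem rho0_inv_apply (m : ↥(D.monomialSubgroup F)) (r : ℕ) : rho0 V V2 V3 m⁻¹ (rho0 V V2 V3 m r) = r := by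
  simp

theorem rho0_apply_inv (m : ↥(D.monomialSubgroup F)) (r : ℕ) : rho0 V V2 V3 m (rho0 V V2 V3 m⁻¹ r) = r := by
  simp

theorem rho0_mul (m m' : ↥(D.monomialSubgroup F)) (r : ℕ) : rho0 V V2 V3 (m * m') r = rho0 V V2 V3 m (rho0 V V2 V3 m' r) := by
  rw [map_mul, Equiv.Perm.mul_apply]

theorem rho0_neg_iff (m : ↥(D.monomialSubgroup F)) {r : ℕ} (hr : r < T.n) : T.neg (rho0 V V2 V3 m r) = rho0 V V2 V3 m (T.neg r) :=
  (rho0_neg V V2 V3 m hr).symm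

/-- The linear behaviour of `N`. -/
theorem coef_rho0 (m : ↥(D.monomialSubgroup F)) {j r : ℕ} (hj : j < T.l) (hr : r < T.n) :
    C.coef (rho0 V V2 V3 m r) j = ∑ i ∈ Finset.range T.l, C.coef r i * C.coef (rho0 V V2 V3 m (T.sim i)) j := by
  have h := linF_rho V V2 V3 (wOf V V2 V3 m) (linF_coef V V2 V3 hj) r hr
  simpa only [rho_wOf V V2 V3 V4] using h

theorem exists_coef_pos {r : ℕ} (h1 : T.n / 2 ≤ r) (h2 : r < T.n) : ∃ j < T.l, 0 < C.coef r j := by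
  have h0 := n_even V2
  obtain ⟨j, hj, h3⟩ := exists_coef_neg V V2 (r := T.neg r) (by
    show T.n - 1 - r < T.n / 2
    omega)
  refine ⟨j, hj, ?_⟩
  rw [V2.coef_neg h2 hj] at h3
  omega

/-- The positive roots in the subsystem attached to `J`. -/
def PJ (T : Tb) (C : Tc) (J : Set ℕ) (r : ℕ) : Prop := T.n / 2 ≤ r ∧ r < T.n ∧ InJ C T.l J r

/-- The other positive roots. -/
def QJ (T : Tb) (C : Tc) (J : Set ℕ) (r : ℕ) : Prop := T.n / 2 ≤ r ∧ r < T.n ∧ ¬ InJ C T.l J r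

/-- The subgroup generated by the positive root elements in the subsystem. -/
noncomputable def XP (V : Valid D T) (C : Tc) (F : Type*) [Field F] (J : Set ℕ) : Subgroup (GL D.Idx F) :=
  Subgroup.closure {g | ∃ (r : ℕ) (t : F), PJ T C J r ∧ g = xU V r t}

/-- The subgroup generated by the negative root elements in the subsystem. -/
noncomputable def XM (V : Valid D T) (C : Tc) (F : Type*) [Field F] (J : Set ℕ) : Subgroup (GL D.Idx F) :=
  Subgroup.closure {g | ∃ (r : ℕ) (t : F), PJ T C J r ∧ g = xU V (T.neg r) t}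

/-- positivity on the subsystem -/
def PosOn (J : Set ℕ) (m : ↥(D.monomialSubgroup F)) : Prop :=
  ∀ r, PJ T C J r → T.n / 2 ≤ rho0 V V2 V3 m r

/-- negativity on the subsystem -/
def NegOn (J : Set ℕ) (m : ↥(D.monomialSubgroup F)) : Prop :=
  ∀ r, PJ T C J r → rho0 V V2 V3 m r < T.n / 2

theorem xU_mem_G_of_lt {r : ℕ} (hr : r < T.n) (t : F) : xU V r t ∈ D.group F := xU_mem_group V (by rw [← V.hn]; exact hr) t

theorem XP_le_U (J : Set ℕ) : XP V C F J ≤ D.posUnipotent F := by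
  unfold XP
  rw [Subgroup.closure_le]
  rintro g ⟨r, t, ⟨h1, h2, _⟩, rfl⟩
  exact xU_mem_U V V2 V3 h1 h2 t

theorem XM_le_V (J : Set ℕ) : XM V C F J ≤ D.negUnipotent F := by
  unfold XM
  rw [Subgroup.closure_le, negUnipotent_eq V]
  rintro g ⟨r, t, ⟨h1, h2, _⟩, rfl⟩
  refine Subgroup.subset_closure ⟨_, t, (isNeg_iff V V2 _).mpr (neg_lt_half V2 h1 h2), rfl⟩


theorem xU_ne_one {s : ℕ} (hs : s < T.n) {c : F} (hc : c ≠ 0) : xU V s c ≠ 1 := by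
  intro h
  have h1 := x_inj V V2 (a := c) (b := 0) hs (V.neg_lt hs) hc (by rw [h, xU_zero])
  exact V.neg_ne hs h1.symm

/-- A negative root element in `U` is trivial. -/
theorem pos_of_x_mem_U {s : ℕ} (hs : s < T.n) {c : F} (hc : c ≠ 0) (h : xU V s c ∈ D.posUnipotent F) : T.n / 2 ≤ s := by
  by_contra hc2
  have h1 : xU V s c ∈ D.negUnipotent F := by
    rw [negUnipotent_eq V]
    exact Subgroup.subset_closure ⟨s, c, (isNeg_iff V V2 s).mpr (by omega), rfl⟩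
  have h2 : xU V s c ∈ D.borelSubgroup F ⊓ D.negUnipotent F := ⟨U_le_B V V2 V3 h, h1⟩
  rw [B_inf_V V V2 V3, Subgroup.mem_bot] at h2
  exact xU_ne_one V V2 V3 V4 hs hc h2

theorem QJ_of_not {J : Set ℕ} {r : ℕ} (h1 : T.n / 2 ≤ r) (h2 : r < T.n) (h : ¬ InJ C T.l J r) : QJ T C J r := ⟨h1, h2, h⟩

theorem RJ_of_QJ {J : Set ℕ} {r : ℕ} (h : QJ T C J r) : RJ D J r := by
  obtain ⟨h1, h2, h3⟩ := h
  rw [RJ_iff V V2 V4]
  refine ⟨h1, h2, ?_⟩
  unfold InJ at h3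
  push Not at h3
  obtain ⟨k, hk, hkJ, h4⟩ := h3
  exact ⟨k, hk, hkJ, lt_of_le_of_ne (coef_nonneg_of_pos V V2 h1 h2 hk) (Ne.symm h4)⟩

theorem QJ_of_RJ {J : Set ℕ} {r : ℕ} (h : RJ D J r) : QJ T C J r := by
  rw [RJ_iff V V2 V4] at h
  obtain ⟨h1, h2, k, hk, hkJ, h3⟩ := h
  refine ⟨h1, h2, fun h4 => ?_⟩
  have := h4 k hk hkJ
  omega

theorem x_mem_R {J : Set ℕ} {r : ℕ} (h : QJ T C J r) (t : F) : xU V r t ∈ D.unipotentRadical F J := by
  rw [radical_eq V V2 V3 V4]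
  exact Subgroup.subset_closure ⟨r, t, RJ_of_QJ V V2 V3 V4 h, rfl⟩

theorem R_le_U (J : Set ℕ) : D.unipotentRadical F J ≤ D.posUnipotent F := by
  rw [radical_eq V V2 V3 V4, Subgroup.closure_le]
  rintro g ⟨r, t, h, rfl⟩
  obtain ⟨h1, h2, _⟩ := QJ_of_RJ V V2 V3 V4 h
  exact xU_mem_U V V2 V3 h1 h2 t

theorem x_mem_L {J : Set ℕ} {r : ℕ} (hr : r < T.n) (h : InJ C T.l J r) (t : F) : xU V r t ∈ D.leviSubgroup F J := by
  unfold ChevalleyDatum.leviSubgroup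
  refine Subgroup.mem_sup_right (Subgroup.subset_closure ⟨r, t, (inRootSub_iff V V4).mpr ⟨hr, h⟩, xU_val V r t⟩)

theorem XP_le_L (J : Set ℕ) : XP V C F J ≤ D.leviSubgroup F J := by
  unfold XP
  rw [Subgroup.closure_le]
  rintro g ⟨r, t, ⟨_, h2, h3⟩, rfl⟩
  exact x_mem_L V V2 V3 V4 h2 h3 t

theorem XM_le_L (J : Set ℕ) : XM V C F J ≤ D.leviSubgroup F J := by
  unfold XM
  rw [Subgroup.closure_le]
  rintro g ⟨r, t, ⟨_, h2, h3⟩, rfl⟩
  exact x_mem_L V V2 V3 V4 (V.neg_lt h2) (neg_inJ V2 h2 h3) t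

theorem L_le_P (J : Set ℕ) : D.leviSubgroup F J ≤ D.parabolicSubgroup F J := by
  rw [← radical_sup_levi V V2 V3 V4]
  exact le_sup_right

theorem R_le_P (J : Set ℕ) : D.unipotentRadical F J ≤ D.parabolicSubgroup F J := by
  rw [← radical_sup_levi V V2 V3 V4]
  exact le_sup_left

theorem B_le_P (J : Set ℕ) : D.borelSubgroup F ≤ D.parabolicSubgroup F J := le_sup_left

/-- An element `x_s(c)` in the radical has its root among the roots of the radical. -/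
theorem QJ_of_x_mem_R {J : Set ℕ} {s : ℕ} (hs : s < T.n) {c : F} (hc : c ≠ 0) (h : xU V s c ∈ D.unipotentRadical F J) : QJ T C J s := by
  have h1 := pos_of_x_mem_U V V2 V3 V4 hs hc (R_le_U V V2 V3 V4 J h)
  refine ⟨h1, hs, fun h2 => ?_⟩
  have h3 : xU V s c ∈ D.unipotentRadical F J ⊓ D.leviSubgroup F J := ⟨h, x_mem_L V V2 V3 V4 hs h2 c⟩
  rw [radical_inf_levi V V2 V3 V4, Subgroup.mem_bot] at h3
  exact xU_ne_one V V2 V3 V4 hs hc h3

/-- Elements of the parabolic subgroup keep the roots of the radical. -/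
theorem par_QJ {J : Set ℕ} (m : ↥(D.monomialSubgroup F)) (hm : (m : GL D.Idx F) ∈ D.parabolicSubgroup F J) {r : ℕ} (h : QJ T C J r) :
    QJ T C J (rho0 V V2 V3 m r) := by
  obtain ⟨c, hc, e⟩ := conj_x V V2 V3 V4 m h.2.1
  have h1 := normalizer_conj_mem (par_le_normalizer V V2 V3 V4 J hm) (x_mem_R V V2 V3 V4 h (1 : F))
  rw [e] at h1
  exact QJ_of_x_mem_R V V2 V3 V4 (rho0_lt V V2 V3 m h.2.1) (by simpa using hc) h1

/-- Factorization of `U`. -/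
theorem U_factor (J : Set ℕ) {u : GL D.Idx F} (hu : u ∈ D.posUnipotent F) : ∃ a ∈ XP V C F J, ∃ r ∈ D.unipotentRadical F J, u = a * r := by
  have h0 := n_even V2
  rw [posUnipotent_eq_uge V V2] at hu
  have hQR : ∀ r, T.n / 2 ≤ r → r < T.n → ∀ t : F, xU V r t ∈ XP V C F J ∨ xU V r t ∈ D.unipotentRadical F J := by
    intro r h1 h2 t
    by_cases h3 : InJ C T.l J r
    · exact Or.inl (Subgroup.subset_closure ⟨r, t, ⟨h1, h2, h3⟩, rfl⟩)
    · exact Or.inr (x_mem_R V V2 V3 V4 ⟨h1, h2, h3⟩ t)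
  obtain ⟨a, ⟨ha, _⟩, r, hr, e⟩ := decomp V V2 hQR (T.n - T.n / 2) (T.n / 2) (by omega) le_rfl u hu
  exact ⟨a, ha, r, hr, e⟩

/-- Uniqueness of the factorization of `U`. -/
theorem XP_inf_R (J : Set ℕ) : XP V C F J ⊓ D.unipotentRadical F J = ⊥ := by
  rw [eq_bot_iff]
  rintro g ⟨h1, h2⟩
  have h3 : g ∈ D.unipotentRadical F J ⊓ D.leviSubgroup F J := ⟨h2, XP_le_L V V2 V3 V4 J h1⟩
  rwa [radical_inf_levi V V2 V3 V4] at h3

theorem n_simple_mem_L {J : Set ℕ} {i : ℕ} (hi : i < T.l) (hiJ : i ∈ J) : nU V (D.simple i) (1 : F) ∈ D.leviSubgroup F J := by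
  have hi' : i < D.rank := by rw [← V.hl]; exact hi
  have hs : T.sim i < T.n := sim_lt' V V2 V3 hi
  rw [V.simple_eq hi']
  have hIn : InJ C T.l J (T.sim i) := sim_inJ V V2 V3 hiJ hi
  rw [nU_eq, V.neg_eq (by rw [← V.hn]; exact hs)]
  exact Subgroup.mul_mem _ (Subgroup.mul_mem _ (x_mem_L V V2 V3 V4 hs hIn _) (x_mem_L V V2 V3 V4 (V.neg_lt hs) (neg_inJ V2 hs hIn) _)) (x_mem_L V V2 V3 V4 hs hIn _)

/-- The sign of an element of `N` on a simple root, in the Weyl group. -/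
theorem inv_card_step (m : ↥(D.monomialSubgroup F)) {i : ℕ} (hi : i < T.l) :
    (T.n / 2 ≤ rho0 V V2 V3 m (T.sim i) ∧ (Inv V V2 V3 (wOf V V2 V3 (m * nS V V2 V3 i hi))).card = (Inv V V2 V3 (wOf V V2 V3 m)).card + 1) ∨
    (rho0 V V2 V3 m (T.sim i) < T.n / 2 ∧ (Inv V V2 V3 (wOf V V2 V3 (m * nS V V2 V3 i hi))).card + 1 = (Inv V V2 V3 (wOf V V2 V3 m)).card) := by
  have h := inv_step V V2 V3 (wOf V V2 V3 m) hi
  rw [map_mul, wOf_nS V V2 V3 V4 hi]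
  simpa only [rho_wOf V V2 V3 V4] using h

/-- An element of `N` positive on the simple roots lies in `H`. -/
theorem H_of_sim_pos (m : ↥(D.monomialSubgroup F)) (hp : ∀ i < T.l, T.n / 2 ≤ rho0 V V2 V3 m (T.sim i)) : (m : GL D.Idx F) ∈ D.diagonalSubgroup F := by
  rw [← wOf_eq_one_iff V V2 V3 V4]
  apply eq_one_of_sim_pos V V2 V3 V4
  simpa only [rho_wOf V V2 V3 V4] using hp

/-- `N ∩ P_J ≤ L_J`. -/
theorem N_inf_P_le_L {J : Set ℕ} : ∀ (k : ℕ) (m : ↥(D.monomialSubgroup F)), (Inv V V2 V3 (wOf V V2 V3 m)).card = k →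
    (m : GL D.Idx F) ∈ D.parabolicSubgroup F J → (m : GL D.Idx F) ∈ D.leviSubgroup F J := by
  intro k
  induction k with
  | zero =>
    intro m hk _
    have h1 : wOf V V2 V3 m = 1 := by
      apply eq_one_of_pos V V2 V3 V4
      intro r h1 h2
      by_contra h3
      have : r ∈ Inv V V2 V3 (wOf V V2 V3 m) := (mem_Inv V V2 V3).mpr ⟨h1, h2, by omega⟩
      rw [Finset.card_eq_zero.mp hk] at this
      simp at this
    rw [wOf_eq_one_iff V V2 V3 V4] at h1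
    unfold ChevalleyDatum.leviSubgroup
    exact Subgroup.mem_sup_left h1
  | succ k ih =>
    intro m hk hm
    have h1 : ∃ i < T.l, rho0 V V2 V3 m (T.sim i) < T.n / 2 := by
      by_contra hc
      push Not at hc
      have h2 := (wOf_eq_one_iff V V2 V3 V4).mpr (H_of_sim_pos V V2 V3 V4 m hc)
      rw [h2] at hk
      have h3 : (Inv V V2 V3 (1 : W (bnPair (F := F) V V2 V3))).card = 0 := by
        rw [← len_eq V V2 V3 V4, len_one]
      omega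
    obtain ⟨i, hi, h2⟩ := h1
    have hiJ : i ∈ J := by
      by_contra hc
      have h3 : QJ T C J (T.sim i) := by
        refine ⟨sim_pos V V2 hi, sim_lt' V V2 V3 hi, fun h4 => ?_⟩
        have := h4 i hi hc
        rw [sim_coef V2 hi] at this
        omega
      have h4 := (par_QJ V V2 V3 V4 m hm h3).1
      omega
    have hnL := n_simple_mem_L V V2 V3 V4 (F := F) hi hiJ
    have hstep := inv_card_step V V2 V3 V4 m hi
    have hcard : (Inv V V2 V3 (wOf V V2 V3 (m * nS V V2 V3 i hi))).card = k := by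
      rcases hstep with ⟨h3, _⟩ | ⟨_, h3⟩
      · omega
      · omega
    have h5 := ih _ hcard (Subgroup.mul_mem _ hm (L_le_P V V2 V3 V4 J hnL))
    have e : (m : GL D.Idx F) = ((m * nS V V2 V3 i hi : ↥(D.monomialSubgroup F)) : GL D.Idx F) * (nU V (D.simple i) 1)⁻¹ := by
      show (m : GL D.Idx F) = (m : GL D.Idx F) * nU V (D.simple i) 1 * (nU V (D.simple i) 1)⁻¹
      group
    rw [e]
    exact Subgroup.mul_mem _ h5 (Subgroup.inv_mem _ hnL)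


/-- `m` turns the positive roots of the subsystem into negative roots of the subsystem and keeps the others. -/
def Flip (V : Valid D T) (V2 : Valid2 D T C) (V3 : Valid3 T C X) (J : Set ℕ) (m : ↥(D.monomialSubgroup F)) : Prop :=
  ∀ r, T.n / 2 ≤ r → r < T.n →
    (InJ C T.l J r → rho0 V V2 V3 m r < T.n / 2 ∧ InJ C T.l J (rho0 V V2 V3 m r)) ∧
    (¬ InJ C T.l J r → T.n / 2 ≤ rho0 V V2 V3 m r ∧ ¬ InJ C T.l J (rho0 V V2 V3 m r))

/-- The element of `N` playing the role of the longest element of the parabolic. -/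
def IsW (V : Valid D T) (V2 : Valid2 D T C) (V3 : Valid3 T C X) (J : Set ℕ) (m : ↥(D.monomialSubgroup F)) : Prop :=
  Flip V V2 V3 J m ∧ Flip V V2 V3 J m⁻¹

theorem IsW.symm {J : Set ℕ} {m : ↥(D.monomialSubgroup F)} (h : IsW V V2 V3 J m) : IsW V V2 V3 J m⁻¹ :=
  ⟨h.2, by rw [inv_inv]; exact h.1⟩

theorem neg_half {r : ℕ} (h1 : T.n / 2 ≤ r) (h2 : r < T.n) : T.neg r < T.n / 2 := neg_lt_half V2 h1 h2

theorem neg_half' {r : ℕ} (h1 : r < T.n / 2) : T.n / 2 ≤ T.neg r := by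
  have h0 := n_even V2
  show T.n / 2 ≤ T.n - 1 - r
  omega

theorem lt_of_half {r : ℕ} (h1 : r < T.n / 2) : r < T.n := by
  have h0 := n_even V2
  omega

theorem neg_neg' {r : ℕ} (h : r < T.n) : T.neg (T.neg r) = r := V.neg_neg h

theorem inJ_neg_iff {J : Set ℕ} {r : ℕ} (h : r < T.n) : InJ C T.l J (T.neg r) ↔ InJ C T.l J r := by
  constructor
  · intro h1
    have := neg_inJ (J := J) V2 (V.neg_lt h) h1
    rwa [V.neg_neg h] at this
  · exact neg_inJ V2 h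

/-- `m` on the negative roots. -/
theorem rho0_of_neg (m : ↥(D.monomialSubgroup F)) {r : ℕ} (hr : r < T.n) : rho0 V V2 V3 m r = T.neg (rho0 V V2 V3 m (T.neg r)) := by
  have h := rho0_neg V V2 V3 m (V.neg_lt hr)
  rwa [V.neg_neg hr] at h

theorem posOn_of_sim {J : Set ℕ} (m : ↥(D.monomialSubgroup F)) (h : ∀ i ∈ J, i < T.l → T.n / 2 ≤ rho0 V V2 V3 m (T.sim i)) :
    PosOn V V2 V3 J m := by
  rintro r ⟨h1, h2, h3⟩
  by_contra hc
  obtain ⟨j, hj, h4⟩ := exists_coef_neg V V2 (r := rho0 V V2 V3 m r) (by omega)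
  rw [coef_rho0 V V2 V3 V4 m hj h2] at h4
  have h6 : 0 ≤ ∑ i ∈ Finset.range T.l, C.coef r i * C.coef (rho0 V V2 V3 m (T.sim i)) j := by
    apply Finset.sum_nonneg
    intro i hi
    have hi' : i < T.l := by simpa using hi
    by_cases hiJ : i ∈ J
    · exact mul_nonneg (coef_nonneg_of_pos V V2 h1 h2 hi')
        (coef_nonneg_of_pos V V2 (h i hiJ hi') (rho0_lt V V2 V3 m (sim_lt' V V2 V3 hi')) hj)
    · rw [h3 i hi' hiJ, zero_mul]
  omega

theorem negOn_of_sim {J : Set ℕ} (m : ↥(D.monomialSubgroup F)) (h : ∀ i ∈ J, i < T.l → rho0 V V2 V3 m (T.sim i) < T.n / 2) :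
    NegOn V V2 V3 J m := by
  rintro r ⟨h1, h2, h3⟩
  by_contra hc
  obtain ⟨j, hj, h4⟩ := exists_coef_pos V V2 V3 V4 (r := rho0 V V2 V3 m r) (by omega) (rho0_lt V V2 V3 m h2)
  rw [coef_rho0 V V2 V3 V4 m hj h2] at h4
  have h6 : ∑ i ∈ Finset.range T.l, C.coef r i * C.coef (rho0 V V2 V3 m (T.sim i)) j ≤ 0 := by
    apply Finset.sum_nonpos
    intro i hi
    have hi' : i < T.l := by simpa using hi
    by_cases hiJ : i ∈ J
    · exact mul_nonpos_of_nonneg_of_nonpos (coef_nonneg_of_pos V V2 h1 h2 hi')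
        (coef_nonpos_of_neg V V2 (h i hiJ hi') hj)
    · rw [h3 i hi' hiJ, zero_mul]
  omega

theorem conj_XP_pos {J : Set ℕ} {m : ↥(D.monomialSubgroup F)} (h : PosOn V V2 V3 J m) {x : GL D.Idx F} (hx : x ∈ XP V C F J) :
    (m : GL D.Idx F) * x * (m : GL D.Idx F)⁻¹ ∈ D.posUnipotent F := by
  refine conj_closure_mem _ ?_ hx
  rintro g ⟨r, t, hr, rfl⟩
  obtain ⟨c, _, e⟩ := conj_x V V2 V3 V4 m hr.2.1
  rw [e]
  exact xU_mem_U V V2 V3 (h r hr) (rho0_lt V V2 V3 m hr.2.1) _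

theorem conj_XP_flip {J : Set ℕ} {m : ↥(D.monomialSubgroup F)} (h : Flip V V2 V3 J m) {x : GL D.Idx F} (hx : x ∈ XP V C F J) :
    (m : GL D.Idx F) * x * (m : GL D.Idx F)⁻¹ ∈ XM V C F J := by
  refine conj_closure_mem _ ?_ hx
  rintro g ⟨r, t, hr, rfl⟩
  obtain ⟨c, _, e⟩ := conj_x V V2 V3 V4 m hr.2.1
  rw [e]
  have h1 := (h r hr.1 hr.2.1).1 hr.2.2
  have hl := rho0_lt V V2 V3 m hr.2.1
  refine Subgroup.subset_closure ⟨T.neg (rho0 V V2 V3 m r), c * t, ⟨neg_half' V V2 V3 V4 h1.1, V.neg_lt hl, neg_inJ V2 hl h1.2⟩, ?_⟩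
  rw [V.neg_neg hl]

theorem conj_XM_flip {J : Set ℕ} {m : ↥(D.monomialSubgroup F)} (h : Flip V V2 V3 J m) {x : GL D.Idx F} (hx : x ∈ XM V C F J) :
    (m : GL D.Idx F) * x * (m : GL D.Idx F)⁻¹ ∈ XP V C F J := by
  refine conj_closure_mem _ ?_ hx
  rintro g ⟨r, t, hr, rfl⟩
  obtain ⟨c, _, e⟩ := conj_x V V2 V3 V4 m (V.neg_lt hr.2.1)
  rw [e]
  have h1 := (h r hr.1 hr.2.1).1 hr.2.2
  have hl := rho0_lt V V2 V3 m hr.2.1
  rw [rho0_neg V V2 V3 m hr.2.1]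
  exact Subgroup.subset_closure ⟨T.neg (rho0 V V2 V3 m r), c * t, ⟨neg_half' V V2 V3 V4 h1.1, V.neg_lt hl, neg_inJ V2 hl h1.2⟩, rfl⟩

theorem flip_posOn_neg {J : Set ℕ} {m : ↥(D.monomialSubgroup F)} (h : Flip V V2 V3 J m) : NegOn V V2 V3 J m :=
  fun r hr => ((h r hr.1 hr.2.1).1 hr.2.2).1

/-- A positive element of `N` on the subsystem and an element flipping the subsystem. -/
theorem negOn_mul_isW {J : Set ℕ} {m n : ↥(D.monomialSubgroup F)} (hm : PosOn V V2 V3 J m) (hn : Flip V V2 V3 J n) : NegOn V V2 V3 J (m * n) := by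
  intro r hr
  rw [rho0_mul V V2 V3 V4]
  obtain ⟨h1, h2⟩ := (hn r hr.1 hr.2.1).1 hr.2.2
  have hl := rho0_lt V V2 V3 n hr.2.1
  have h3 := hm (T.neg (rho0 V V2 V3 n r)) ⟨neg_half' V V2 V3 V4 h1, V.neg_lt hl, neg_inJ V2 hl h2⟩
  have h4 := rho0_of_neg V V2 V3 V4 m hl
  rw [h4]
  exact neg_half V V2 V3 V4 h3 (rho0_lt V V2 V3 m (V.neg_lt hl))

theorem posOn_mul_isW {J : Set ℕ} {m n : ↥(D.monomialSubgroup F)} (hm : NegOn V V2 V3 J m) (hn : Flip V V2 V3 J n) : PosOn V V2 V3 J (m * n) := by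
  intro r hr
  rw [rho0_mul V V2 V3 V4]
  obtain ⟨h1, h2⟩ := (hn r hr.1 hr.2.1).1 hr.2.2
  have hl := rho0_lt V V2 V3 n hr.2.1
  have h3 := hm (T.neg (rho0 V V2 V3 n r)) ⟨neg_half' V V2 V3 V4 h1, V.neg_lt hl, neg_inJ V2 hl h2⟩
  have h4 := rho0_of_neg V V2 V3 V4 m hl
  rw [h4]
  exact neg_half' V V2 V3 V4 h3

/-- The product of two flips lies in `H`. -/
theorem mul_mem_H_of_isW {J : Set ℕ} {m n : ↥(D.monomialSubgroup F)} (hm : Flip V V2 V3 J m) (hn : Flip V V2 V3 J n) :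
    ((m * n : ↥(D.monomialSubgroup F)) : GL D.Idx F) ∈ D.diagonalSubgroup F := by
  apply H_of_pos V V2 V3 V4
  intro r h1 h2
  rw [rho0_mul V V2 V3 V4]
  by_cases h3 : InJ C T.l J r
  · exact posOn_mul_isW V V2 V3 V4 (flip_posOn_neg V V2 V3 V4 hm) hn r ⟨h1, h2, h3⟩ |> fun h => by rwa [rho0_mul V V2 V3 V4] at h
  · obtain ⟨h4, h5⟩ := (hn r h1 h2).2 h3
    exact ((hm _ h4 (rho0_lt V V2 V3 n h2)).2 h5).1

/-- The set of the positive roots in the subsystem. -/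
noncomputable def PJs (T : Tb) (C : Tc) (J : Set ℕ) : Finset ℕ := by
  classical exact (Finset.Ico (T.n / 2) T.n).filter fun r => InJ C T.l J r

theorem mem_PJs {J : Set ℕ} {r : ℕ} : r ∈ PJs T C J ↔ PJ T C J r := by
  classical
  simp [PJs, PJ, and_assoc]

theorem mem_Inv' {m : ↥(D.monomialSubgroup F)} {r : ℕ} : r ∈ Inv V V2 V3 (wOf V V2 V3 m) ↔ T.n / 2 ≤ r ∧ r < T.n ∧ rho0 V V2 V3 m r < T.n / 2 := by
  rw [mem_Inv]
  rfl

/-- The inversions decrease by the positive roots of the subsystem. -/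
theorem card_inv_mul_isW {J : Set ℕ} {m n : ↥(D.monomialSubgroup F)} (hm : NegOn V V2 V3 J m) (hn : IsW V V2 V3 J n) :
    (Inv V V2 V3 (wOf V V2 V3 (m * n))).card + (PJs T C J).card = (Inv V V2 V3 (wOf V V2 V3 m)).card := by
  classical
  have hsub : PJs T C J ⊆ Inv V V2 V3 (wOf V V2 V3 m) := by
    intro r hr
    rw [mem_PJs V V2 V3 V4] at hr
    rw [mem_Inv' V V2 V3 V4]
    exact ⟨hr.1, hr.2.1, hm r hr⟩
  rw [← Finset.card_sdiff_add_card_eq_card hsub]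
  congr 1
  rw [← Finset.card_image_of_injective (Inv V V2 V3 (wOf V V2 V3 (m * n))) (rho0 V V2 V3 n).injective]
  congr 1
  ext s
  simp only [Finset.mem_image, Finset.mem_sdiff, mem_PJs V V2 V3 V4, mem_Inv' V V2 V3 V4]
  constructor
  · rintro ⟨r, ⟨h1, h2, h3⟩, rfl⟩
    rw [rho0_mul V V2 V3 V4] at h3
    by_cases h4 : InJ C T.l J r
    · exfalso
      have h5 := posOn_mul_isW V V2 V3 V4 hm hn.1 r ⟨h1, h2, h4⟩
      rw [rho0_mul V V2 V3 V4] at h5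
      omega
    · obtain ⟨h5, h6⟩ := (hn.1 r h1 h2).2 h4
      exact ⟨⟨h5, rho0_lt V V2 V3 n h2, h3⟩, fun hc => h6 hc.2.2⟩
  · rintro ⟨⟨h1, h2, h3⟩, h4⟩
    have h4' : ¬ InJ C T.l J s := fun hc => h4 ⟨h1, h2, hc⟩
    obtain ⟨h5, h6⟩ := (hn.2 s h1 h2).2 h4'
    refine ⟨rho0 V V2 V3 n⁻¹ s, ⟨h5, rho0_lt V V2 V3 _ h2, ?_⟩, rho0_apply_inv V V2 V3 V4 n s⟩
    rw [rho0_mul V V2 V3 V4, rho0_apply_inv V V2 V3 V4]
    exact h3

theorem card_inv_inv (m : ↥(D.monomialSubgroup F)) : (Inv V V2 V3 (wOf V V2 V3 m⁻¹)).card = (Inv V V2 V3 (wOf V V2 V3 m)).card := by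
  rw [← len_eq V V2 V3 V4, ← len_eq V V2 V3 V4, map_inv, len_inv]

/-- Left multiplication by a flip. -/
theorem card_inv_isW_mul {J : Set ℕ} {m n : ↥(D.monomialSubgroup F)} (hm : PosOn V V2 V3 J m⁻¹) (hn : IsW V V2 V3 J n) :
    (Inv V V2 V3 (wOf V V2 V3 (n * m))).card = (Inv V V2 V3 (wOf V V2 V3 m)).card + (PJs T C J).card := by
  have h1 := negOn_mul_isW V V2 V3 V4 hm hn.2
  have h2 := card_inv_mul_isW V V2 V3 V4 h1 hn
  have e : m⁻¹ * n⁻¹ * n = m⁻¹ := by group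
  rw [e, card_inv_inv V V2 V3 V4] at h2
  have e2 : m⁻¹ * n⁻¹ = (n * m)⁻¹ := by group
  rw [e2, card_inv_inv V V2 V3 V4] at h2
  omega

/-- The inversions of a flip. -/
theorem card_inv_isW {J : Set ℕ} {n : ↥(D.monomialSubgroup F)} (hn : IsW V V2 V3 J n) :
    (Inv V V2 V3 (wOf V V2 V3 n)).card = (PJs T C J).card := by
  congr 1
  ext r
  rw [mem_Inv' V V2 V3 V4, mem_PJs V V2 V3 V4]
  constructor
  · rintro ⟨h1, h2, h3⟩
    refine ⟨h1, h2, ?_⟩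
    by_contra hc
    have := ((hn.1 r h1 h2).2 hc).1
    omega
  · rintro ⟨h1, h2, h3⟩
    exact ⟨h1, h2, ((hn.1 r h1 h2).1 h3).1⟩

/-- Elements of `N ∩ P_J` negative on the subsystem are flips. -/
theorem flip_of_par {J : Set ℕ} {m : ↥(D.monomialSubgroup F)} (hp : (m : GL D.Idx F) ∈ D.parabolicSubgroup F J) (hn : NegOn V V2 V3 J m) : Flip V V2 V3 J m := by
  intro r h1 h2
  constructor
  · intro h3
    refine ⟨hn r ⟨h1, h2, h3⟩, ?_⟩
    by_contra h4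
    -- the negative of the image is in the radical
    have hl := rho0_lt V V2 V3 m h2
    have h5 := hn r ⟨h1, h2, h3⟩
    have h6 : QJ T C J (T.neg (rho0 V V2 V3 m r)) := ⟨neg_half' V V2 V3 V4 h5, V.neg_lt hl, fun hc => h4 ((inJ_neg_iff V V2 V3 V4 hl).mp hc)⟩
    have h7 := par_QJ V V2 V3 V4 m⁻¹ (Subgroup.inv_mem _ hp) h6
    rw [rho0_neg V V2 V3 m⁻¹ hl, rho0_inv_apply V V2 V3 V4] at h7
    have h8 := h7.1
    have h9 := neg_half V V2 V3 V4 h1 h2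
    omega
  · intro h3
    exact (fun h => ⟨h.1, h.2.2⟩) (par_QJ V V2 V3 V4 m hp ⟨h1, h2, h3⟩)

end
end Cfsg.Agent.Lib.ChevTw1
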