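import Cfsg.Agent.Lib.ChevTw8

/-! Twisted groups, step 11: sums over the Weyl group of the fixed point group by a kernel-checked table. -/

set_option autoImplicit false
set_option linter.unusedVariables false
set_option linter.unusedSectionVars false
set_option linter.unusedFintypeInType false
set_option linter.unusedDecidableInType false

namespace Cfsg.Agent.Lib.ChevTw11

open Cfsg.Lie Matrix Cfsg.Agent.Lib.ChevEngine Cfsg.Agent.Lib.ChevTab Cfsg.Agent.Lib.ChevMono
  Cfsg.Agent.Lib.ChevRel Cfsg.Agent.Lib.ChevValid Cfsg.Agent.Lib.ChevGL Cfsg.Agent.Lib.ChevGrad Cfsg.Agent.Lib.ChevL2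
  Cfsg.Agent.Lib.ChevU Cfsg.Agent.Lib.ChevU2 Cfsg.Agent.Lib.ChevU3 Cfsg.Agent.Lib.ChevDiag Cfsg.Agent.Lib.ChevV3
  Cfsg.Agent.Lib.ChevH Cfsg.Agent.Lib.ChevN Cfsg.Agent.Lib.ChevN2 Cfsg.Agent.Lib.ChevN3 Cfsg.Agent.Lib.ChevBN Cfsg.Agent.Lib.ChevBN2
  Cfsg.Agent.Lib.ChevV4 Cfsg.Agent.Lib.ChevSimp Cfsg.Agent.Lib.ChevSimp2 Cfsg.Agent.Lib.ChevPar Cfsg.Agent.Lib.ChevV5 Cfsg.Agent.Lib.ChevPar2
  Cfsg.Agent.Lib.ChevPar3 Cfsg.Agent.Lib.BNPair Cfsg.Agent.Lib.BNCount Cfsg.Agent.Lib.ChevW1 Cfsg.Agent.Lib.ChevW2 Cfsg.Agent.Lib.ChevTw1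
  Cfsg.Agent.Lib.ChevTw2 Cfsg.Agent.Lib.ChevTw3 Cfsg.Agent.Lib.ChevAut3 Cfsg.Agent.Lib.ChevTw4 Cfsg.Agent.Lib.ChevTw5 Cfsg.Agent.Lib.ChevW3
  Cfsg.Agent.Lib.ChevTw6 Cfsg.Agent.Lib.ChevTw7 Cfsg.Agent.Lib.ChevTw8 Cfsg.Agent.Lib.ChevTw3.TwFix

/-- Packing a list of small numbers. -/
def packL : List ℕ → ℕ
  | [] => 0
  | a :: L => a + 256 * packL L

/-- Unpacking. -/
def decodeN : ℕ → ℕ → List ℕ
  | 0, _ => []
  | m + 1, x => (x % 256) :: decodeN m (x / 256)

theorem decode_pack {L : List ℕ} (h : ∀ a ∈ L, a < 256) : decodeN L.length (packL L) = L := by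
  induction L with
  | nil => rfl
  | cons a L ih =>
    have ha := h a (by simp)
    have e1 : (a + 256 * packL L) % 256 = a := by omega
    have e2 : (a + 256 * packL L) / 256 = packL L := by omega
    simp only [List.length_cons, decodeN, packL, e1, e2]
    rw [ih (fun c hc => h c (by simp [hc]))]

theorem pack_inj {L L' : List ℕ} (h : ∀ a ∈ L, a < 256) (h' : ∀ a ∈ L', a < 256) (hl : L.length = L'.length) (e : packL L = packL L') : L = L' := by
  rw [← decode_pack h, ← decode_pack h', ← hl, e]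

/-- The Boolean membership test. -/
noncomputable def elemN (y : ℕ) (l : List ℕ) : Bool :=
  List.rec (motive := fun _ => Bool) false (fun a _ ih => bif Nat.beq y a then true else ih) l

theorem elemN_iff {y : ℕ} {l : List ℕ} (h : elemN y l = true) : y ∈ l := by
  induction l with
  | nil => simp [elemN] at h
  | cons a l ih =>
    have h2 : (bif Nat.beq y a then true else elemN y l) = true := h
    rw [beq_dec] at h2
    by_cases e : y = a
    · simp [e]
    · simp only [e, decide_false, cond_false] at h2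
      exact List.mem_cons_of_mem _ (ih h2)

/-- Count the entries below a bound. -/
noncomputable def countLt (b : ℕ) (L : List ℕ) : ℕ :=
  List.rec (motive := fun _ => ℕ) 0 (fun a _ ih => (bif Nat.blt a b then 1 else 0) + ih) L

theorem countLt_nil (b : ℕ) : countLt b [] = 0 := rfl
theorem countLt_cons (b a : ℕ) (L : List ℕ) : countLt b (a :: L) = (bif Nat.blt a b then 1 else 0) + countLt b L := rfl

/-- strictly increasing -/
noncomputable def sortedB : List ℕ → Bool
  | [] => true
  | [_] => true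
  | a :: b :: L => Nat.blt a b && sortedB (b :: L)

theorem sortedB_head {a : ℕ} {L : List ℕ} (h : sortedB (a :: L) = true) : ∀ c ∈ L, a < c := by
  induction L generalizing a with
  | nil => simp
  | cons b L ih =>
    simp only [sortedB, Bool.and_eq_true] at h
    have h1 : a < b := by
      have := h.1
      rw [blt_dec] at this
      simpa using this
    intro c hc
    rcases List.mem_cons.mp hc with rfl | hc
    · exact h1
    · exact lt_trans h1 (ih h.2 c hc)

theorem sortedB_nodup {L : List ℕ} (h : sortedB L = true) : L.Nodup := by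
  induction L with
  | nil => simp
  | cons a L ih =>
    rw [List.nodup_cons]
    constructor
    · intro hc
      exact lt_irrefl _ (sortedB_head h a hc)
    · apply ih
      cases L with
      | nil => rfl
      | cons b L =>
        simp only [sortedB, Bool.and_eq_true] at h
        exact h.2

/-- The action of a word on a packed list. -/
noncomputable def actP (T : Tb) (m : ℕ) (E : List ℕ) (x : ℕ) : ℕ := packL ((decodeN m x).map (wact T E))

/-- the length of a packed element -/
noncomputable def lenP (T : Tb) (m x : ℕ) : ℕ := countLt (T.n / 2) (decodeN m x)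

/-- the packed element corresponding to the identity -/
noncomputable def baseP (T : Tb) : ℕ := packL (List.range' (T.n / 2) (T.n / 2))

/-- The check of a table. -/
noncomputable def tblOk1 (T : Tb) (gens : List (List ℕ)) (tbl : List ℕ) : Bool :=
  sortedB tbl && elemN (baseP T) tbl &&
    allL tbl fun x => allL gens fun E => force (actP T (T.n / 2) E x) fun y => elemN y tbl

/-- another check of a table -/
noncomputable def tblOk2 (T : Tb) (gens : List (List ℕ)) (tbl : List ℕ) : Bool :=
  allL tbl fun x => bif Nat.beq x (baseP T) then true else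
    ChevV6.anyL gens fun E => force (actP T (T.n / 2) E x) fun y =>
      Nat.beq (actP T (T.n / 2) E y) x && Nat.blt (lenP T (T.n / 2) y) (lenP T (T.n / 2) x)

theorem countLt_eq (b : ℕ) (f : ℕ → ℕ) {L : List ℕ} (h : L.Nodup) : countLt b (L.map f) = (L.toFinset.filter fun r => f r < b).card := by
  classical
  induction L with
  | nil => simp [countLt_nil]
  | cons a L ih =>
    rw [List.nodup_cons] at h
    rw [List.map_cons, countLt_cons, ih h.2, List.toFinset_cons, Finset.filter_insert, blt_dec]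
    by_cases e : f a < b
    · simp only [e, decide_true, cond_true, if_true]
      rw [Finset.card_insert_of_notMem, add_comm]
      intro hc
      have := (Finset.mem_filter.mp hc).1
      exact h.1 (List.mem_toFinset.mp this)
    · simp [e]

theorem sum_pow_list (q : ℕ) {N : ℕ} {L : List ℕ} (h : ∀ e ∈ L, e < N) :
    (L.map fun e => q ^ e).sum = ∑ e ∈ Finset.range N, L.count e * q ^ e := by
  induction L with
  | nil => simp
  | cons a L ih =>
    have ha := h a (by simp)
    rw [List.map_cons, List.sum_cons, ih (fun c hc => h c (by simp [hc]))]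
    simp only [List.count_cons, add_mul, Finset.sum_add_distrib]
    rw [add_comm]
    congr 1
    rw [Finset.sum_eq_single a]
    · simp
    · intro b _ hb
      have : ¬ (a == b) = true := by simpa using Ne.symm hb
      simp [this]
    · intro hc
      exact absurd (Finset.mem_range.mpr ha) hc

variable {D : ChevalleyDatum} {T : Tb} {C : Tc} {X : Tc3} {Y : Tc4} {F : Type*} [Field F]
variable {V : Valid D T} {V2 : Valid2 D T C} {V3 : Valid3 T C X} {ι : Type} (W' : ChevTw2.TwFix V V2 V3 F ι) (V4 : Valid4 D T C Y)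
include V4

theorem rho1_lt (w : W (W'.bn V4)) {r : ℕ} (hr : r < T.n) : rho1 W' V4 w r < T.n := by
  obtain ⟨m, hm, rfl⟩ := wm_surj W' V4 w
  rw [rho1_wm]
  exact rho0_lt V V2 V3 m hr

theorem rho1_inj {w w' : W (W'.bn V4)} (h : ∀ r, T.n / 2 ≤ r → r < T.n → rho1 W' V4 w r = rho1 W' V4 w' r) : w = w' := by
  obtain ⟨m, hm, rfl⟩ := wm_surj W' V4 w
  obtain ⟨m', hm', rfl⟩ := wm_surj W' V4 w'
  simp only [rho1_wm] at h
  have hH : ((m⁻¹ * m' : ↥(D.monomialSubgroup F)) : GL D.Idx F) ∈ D.diagonalSubgroup F := by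
    apply H_of_pos V V2 V3 V4
    intro r h1 h2
    rw [map_mul, Equiv.Perm.mul_apply, ← h r h1 h2, map_inv, Equiv.Perm.inv_eq_iff_eq.mpr rfl]
    exact h1
  unfold wm
  rw [mk_eq_mk_iff]
  exact (W'.mem_sof V4).mpr (H_le_B V V2 V3 hH)

/-- The packed image of the positive roots. -/
noncomputable def XL (w : W (W'.bn V4)) : List ℕ := (List.range' (T.n / 2) (T.n / 2)).map (rho1 W' V4 w)

/-- The packed form of an element. -/
noncomputable def XX (w : W (W'.bn V4)) : ℕ := packL (XL W' V4 w)

omit V4 in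
theorem mem_range'_iff {r : ℕ} (h0 : T.n = 2 * (T.n / 2)) : r ∈ List.range' (T.n / 2) (T.n / 2) ↔ T.n / 2 ≤ r ∧ r < T.n := by
  rw [List.mem_range'_1]
  omega

theorem XL_lt (h256 : T.n ≤ 256) (w : W (W'.bn V4)) : ∀ a ∈ XL W' V4 w, a < 256 := by
  intro a ha
  obtain ⟨r, hr, rfl⟩ := List.mem_map.mp ha
  have h0 := n_even V2
  have h1 := (mem_range'_iff h0).mp hr
  have := rho1_lt W' V4 w h1.2
  omega

theorem XL_length (w : W (W'.bn V4)) : (XL W' V4 w).length = T.n / 2 := by
  simp [XL]

theorem XX_inj (h256 : T.n ≤ 256) {w w' : W (W'.bn V4)} (h : XX W' V4 w = XX W' V4 w') : w = w' := by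
  have h0 := n_even V2
  have h1 := pack_inj (XL_lt W' V4 h256 w) (XL_lt W' V4 h256 w') (by rw [XL_length, XL_length]) h
  apply rho1_inj W' V4
  intro r hr1 hr2
  have h2 : (List.range' (T.n / 2) (T.n / 2)).map (rho1 W' V4 w) = (List.range' (T.n / 2) (T.n / 2)).map (rho1 W' V4 w') := h1
  exact (List.map_inj_left.mp h2) r ((mem_range'_iff h0).mpr ⟨hr1, hr2⟩)

theorem XX_one : XX W' V4 1 = baseP T := by
  unfold XX XL baseP
  rw [map_one]
  congr 1
  exact List.map_id _

theorem decode_XX (h256 : T.n ≤ 256) (w : W (W'.bn V4)) : decodeN (T.n / 2) (XX W' V4 w) = XL W' V4 w := by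
  have := decode_pack (XL_lt W' V4 h256 w)
  rwa [XL_length] at this

theorem XX_mul (h256 : T.n ≤ 256) {E : List ℕ} {u : W (W'.bn V4)} (hu : ∀ r < T.n, rho1 W' V4 u r = wact T E r) (w : W (W'.bn V4)) :
    XX W' V4 (u * w) = actP T (T.n / 2) E (XX W' V4 w) := by
  have h0 := n_even V2
  unfold actP
  rw [decode_XX W' V4 h256]
  unfold XX XL
  rw [List.map_map]
  congr 1
  apply List.map_congr_left
  intro r hr
  have h1 := (mem_range'_iff h0).mp hr
  rw [map_mul, Equiv.Perm.mul_apply, hu _ (rho1_lt W' V4 w h1.2)]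
  rfl

theorem lenP_XX (h256 : T.n ≤ 256) (w : W (W'.bn V4)) : lenP T (T.n / 2) (XX W' V4 w) = (InvN W' V4 w).card := by
  classical
  have h0 := n_even V2
  unfold lenP
  rw [decode_XX W' V4 h256]
  unfold XL
  rw [countLt_eq _ _ List.nodup_range']
  unfold InvN
  congr 1
  ext r
  simp only [Finset.mem_filter, List.mem_toFinset, Finset.mem_Ico]
  rw [mem_range'_iff h0]

section table
variable {gen : ι → List ℕ} (hgen : ∀ j, ∀ r < T.n, rho1 W' V4 (xj W' V4 j) r = wact T (gen j) r)
  {gens : List (List ℕ)} {tbl : List ℕ} (hg1 : ∀ j, gen j ∈ gens) (hg2 : ∀ E ∈ gens, ∃ j, gen j = E)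
  (h256 : T.n ≤ 256) (h1 : tblOk1 T gens tbl = true) (h2 : tblOk2 T gens tbl = true)
include hgen hg1 hg2 h256 h1 h2

theorem XX_mem (w : W (W'.bn V4)) : XX W' V4 w ∈ tbl := by
  simp only [tblOk1, Bool.and_eq_true] at h1
  obtain ⟨L, hL, rfl⟩ := exists_word w
  induction L with
  | nil =>
    rw [List.prod_nil, XX_one]
    exact elemN_iff h1.1.2
  | cons s L ih =>
    have ih' := ih (fun c hc => hL c (by simp [hc]))
    obtain ⟨j, rfl⟩ := mem_Sb_iff W' V4 (hL s (by simp))
    rw [List.prod_cons, XX_mul W' V4 h256 (hgen j)]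
    have h3 := (allL_iff _ _).mp h1.2 _ ih'
    have h4 := (allL_iff _ _).mp h3 _ (hg1 j)
    rw [force_eq] at h4
    exact elemN_iff h4

theorem XX_reach : ∀ (k x : ℕ), x ∈ tbl → lenP T (T.n / 2) x = k → ∃ w, XX W' V4 w = x := by
  intro k
  induction k using Nat.strong_induction_on with
  | _ k ih =>
    intro x hx hk
    simp only [tblOk1, Bool.and_eq_true] at h1
    have h3 := (allL_iff _ _).mp h2 x hx
    rw [beq_dec] at h3
    by_cases e : x = baseP T
    · exact ⟨1, by rw [XX_one, e]⟩
    · simp only [e, decide_false, cond_false] at h3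
      obtain ⟨E, hE, h4⟩ := (ChevV6.anyL_iff _ _).mp h3
      rw [force_eq] at h4
      simp only [Bool.and_eq_true] at h4
      have h5 : actP T (T.n / 2) E (actP T (T.n / 2) E x) = x := by
        have := h4.1
        rw [beq_dec] at this
        simpa using this
      have h6 : lenP T (T.n / 2) (actP T (T.n / 2) E x) < lenP T (T.n / 2) x := by
        have := h4.2
        rw [blt_dec] at this
        simpa using this
      have h7 := (allL_iff _ _).mp h1.2 x hx
      have h8 := (allL_iff _ _).mp h7 E hE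
      rw [force_eq] at h8
      obtain ⟨w, hw⟩ := ih _ (by omega) _ (elemN_iff h8) rfl
      obtain ⟨j, rfl⟩ := hg2 E hE
      exact ⟨xj W' V4 j * w, by rw [XX_mul W' V4 h256 (hgen j), hw, h5]⟩

/-- Sums over the Weyl group. -/
theorem sum_table [Fintype (W (W'.bn V4))] (g : ℕ → ℕ) : ∑ w : W (W'.bn V4), g (XX W' V4 w) = (tbl.map g).sum := by
  classical
  have hnd : tbl.Nodup := by
    simp only [tblOk1, Bool.and_eq_true] at h1
    exact sortedB_nodup h1.1.1
  rw [← List.sum_toFinset g hnd]
  apply Finset.sum_bij (fun w _ => XX W' V4 w)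
  · intro w _
    exact List.mem_toFinset.mpr (XX_mem W' V4 hgen hg1 hg2 h256 h1 h2 w)
  · intro w _ w' _ h
    exact XX_inj W' V4 h256 h
  · intro x hx
    obtain ⟨w, hw⟩ := XX_reach W' V4 hgen hg1 hg2 h256 h1 h2 _ x (List.mem_toFinset.mp hx) rfl
    exact ⟨w, Finset.mem_univ _, hw⟩
  · intro w _
    rfl

theorem sum_pow_table [Fintype (W (W'.bn V4))] (q : ℕ) :
    ∑ w : W (W'.bn V4), q ^ ((InvN W' V4 w).card) = (tbl.map fun x => q ^ lenP T (T.n / 2) x).sum := by
  rw [← sum_table W' V4 hgen hg1 hg2 h256 h1 h2]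
  apply Finset.sum_congr rfl
  intro w _
  rw [lenP_XX W' V4 h256]

/-- Finiteness of the Weyl group from the table. -/
theorem finite_W : Finite (W (W'.bn V4)) := by
  have : Function.Injective (fun w : W (W'.bn V4) => (⟨XX W' V4 w, XX_mem W' V4 hgen hg1 hg2 h256 h1 h2 w⟩ : {x // x ∈ tbl})) := by
    intro w w' h
    exact XX_inj W' V4 h256 (congrArg Subtype.val h)
  exact Finite.of_injective _ this

end table

end Cfsg.Agent.Lib.ChevTw11
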