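import Cfsg.Agent.Lib.ChevTw11
import Cfsg.Agent.Lib.ChevHOrd

/-! Twisted groups, step 12: the diagonal part of the fixed point group. -/

set_option autoImplicit false
set_option linter.unusedVariables false
set_option linter.unusedSectionVars false
set_option linter.unusedFintypeInType false
set_option linter.unusedDecidableInType false

namespace Cfsg.Agent.Lib.ChevTw12

open Cfsg.Lie Matrix Cfsg.Agent.Lib.ChevEngine Cfsg.Agent.Lib.ChevTab Cfsg.Agent.Lib.ChevMono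
  Cfsg.Agent.Lib.ChevRel Cfsg.Agent.Lib.ChevValid Cfsg.Agent.Lib.ChevGL Cfsg.Agent.Lib.ChevGrad Cfsg.Agent.Lib.ChevL2
  Cfsg.Agent.Lib.ChevU Cfsg.Agent.Lib.ChevU2 Cfsg.Agent.Lib.ChevU3 Cfsg.Agent.Lib.ChevDiag Cfsg.Agent.Lib.ChevV3
  Cfsg.Agent.Lib.ChevH Cfsg.Agent.Lib.ChevN Cfsg.Agent.Lib.ChevN2 Cfsg.Agent.Lib.ChevN3 Cfsg.Agent.Lib.ChevBN Cfsg.Agent.Lib.ChevBN2
  Cfsg.Agent.Lib.ChevV4 Cfsg.Agent.Lib.ChevSimp Cfsg.Agent.Lib.ChevSimp2 Cfsg.Agent.Lib.ChevPar Cfsg.Agent.Lib.ChevV5 Cfsg.Agent.Lib.ChevPar2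
  Cfsg.Agent.Lib.ChevPar3 Cfsg.Agent.Lib.BNPair Cfsg.Agent.Lib.BNCount Cfsg.Agent.Lib.ChevW1 Cfsg.Agent.Lib.ChevW2 Cfsg.Agent.Lib.ChevTw1
  Cfsg.Agent.Lib.ChevTw2 Cfsg.Agent.Lib.ChevTw3 Cfsg.Agent.Lib.ChevAut3 Cfsg.Agent.Lib.ChevTw4 Cfsg.Agent.Lib.ChevTw5 Cfsg.Agent.Lib.ChevW3
  Cfsg.Agent.Lib.ChevTw6 Cfsg.Agent.Lib.ChevTw7 Cfsg.Agent.Lib.ChevTw8 Cfsg.Agent.Lib.ChevTw3.TwFix Cfsg.Agent.Lib.ChevHOrd

variable {D : ChevalleyDatum} {T : Tb} {C : Tc} {X : Tc3} {Y : Tc4} {F : Type*} [Field F]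

section
variable (V : Valid D T) (V2 : Valid2 D T C) (V3 : Valid3 T C X) (V4 : Valid4 D T C Y)
variable {π : ℕ → ℕ} {i k : ℕ} {Ls : List ℕ} {idx : ℕ → ℕ}
include V V2 V3 V4

theorem comm_nx (O : OrbOk T C π i k Ls idx) {a b : ℕ} (ha : a ∈ chainL π i k) (hb : b ∈ chainL π i k) (hab : a ≠ b) (s s' : F) :
    Commute (nU V (T.sim a) s) (xU V (T.sim b) s') ∧ Commute (nU V (T.sim a) s) (xU V (T.neg (T.sim b)) s') := by
  have hD : D.neg (T.sim a) = T.neg (T.sim a) := V.neg_eq (by rw [← V.hn]; exact sim_lt' V V2 V3 (O.hlt a ha))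
  have hpp : ∀ u u' : F, Commute (xU V (T.sim a) u) (xU V (T.sim b) u') := fun u u' => hcPos V V2 V3 V4 (F := F) O a ha b hb u u'
  have hnp : ∀ u u' : F, Commute (xU V (T.neg (T.sim a)) u) (xU V (T.sim b) u') := fun u u' =>
    (comm_mixed V V2 V3 V4 O hb ha (Ne.symm hab) u' u).symm
  have hpn : ∀ u u' : F, Commute (xU V (T.sim a) u) (xU V (T.neg (T.sim b)) u') := fun u u' =>
    comm_mixed V V2 V3 V4 O ha hb hab u u'
  have hnn : ∀ u u' : F, Commute (xU V (T.neg (T.sim a)) u) (xU V (T.neg (T.sim b)) u') := fun u u' => hcNeg V V2 V3 V4 (F := F) O a ha b hb u u'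
  rw [nU_eq, hD]
  exact ⟨((hpp _ _).mul_left (hnp _ _)).mul_left (hpp _ _), ((hpn _ _).mul_left (hnn _ _)).mul_left (hpn _ _)⟩

theorem comm_nn (O : OrbOk T C π i k Ls idx) {a b : ℕ} (ha : a ∈ chainL π i k) (hb : b ∈ chainL π i k) (hab : a ≠ b) (s s' : F) :
    Commute (nU V (T.sim a) s) (nU V (T.sim b) s') := by
  have hD : D.neg (T.sim b) = T.neg (T.sim b) := V.neg_eq (by rw [← V.hn]; exact sim_lt' V V2 V3 (O.hlt b hb))
  have h1 := fun u => (comm_nx V V2 V3 V4 O ha hb hab s u).1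
  have h2 := fun u => (comm_nx V V2 V3 V4 O ha hb hab s u).2
  rw [nU_eq V (T.sim b), hD]
  exact ((h1 _).mul_right (h2 _)).mul_right (h1 _)

theorem comm_nh (O : OrbOk T C π i k Ls idx) {a b : ℕ} (ha : a ∈ chainL π i k) (hb : b ∈ chainL π i k) (hab : a ≠ b) (s s' : F) :
    Commute (nU V (T.sim a) s) (hU V (T.sim b) s') := by
  rw [hU_eq]
  exact (comm_nn V V2 V3 V4 O ha hb hab _ _).mul_right (comm_nn V V2 V3 V4 O ha hb hab _ _)

theorem hU_comm {r s : ℕ} (hr : r < T.n) (hs : s < T.n) {t u : F} (ht : t ≠ 0) (hu : u ≠ 0) : Commute (hU V r t) (hU V s u) := by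
  obtain ⟨c, h1⟩ := (mem_H_iff V V2 V3).mp (hU_mem_H V V2 V3 (by rw [← V.hn]; exact hr) ht)
  obtain ⟨c', h2⟩ := (mem_H_iff V V2 V3).mp (hU_mem_H V V2 V3 (by rw [← V.hn]; exact hs) hu)
  rw [h1, h2]
  show _ * _ = _ * _
  rw [dgC_mul, dgC_mul, mul_comm c c']

/-- The `h` product as a quotient of `n` products. -/
theorem prod_n_h (O : OrbOk T C π i k Ls idx) {L : List ℕ} (hL : ∀ b ∈ L, b ∈ chainL π i k) (hnd : L.Nodup) (t : ℕ → F) (ht : ∀ c ∈ L, t c ≠ 0) :
    (L.map fun c => nU V (T.sim c) (t c)).prod * ((L.map fun c => nU V (T.sim c) (1 : F)).prod)⁻¹ = (L.map fun c => hU V (T.sim c) (t c)).prod := by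
  induction L with
  | nil => simp
  | cons a L ih =>
    rw [List.nodup_cons] at hnd
    have ih' := ih (fun c hc => hL c (by simp [hc])) hnd.2 (fun c hc => ht c (by simp [hc]))
    have ha := hL a (by simp)
    have hcomm : Commute (nU V (T.sim a) (-1 : F)) (L.map fun c => hU V (T.sim c) (t c)).prod := by
      apply Commute.list_prod_right
      intro x hx
      obtain ⟨c, hc, rfl⟩ := List.mem_map.mp hx
      refine comm_nh V V2 V3 V4 O ha (hL c (by simp [hc])) ?_ _ _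
      rintro rfl
      exact hnd.1 hc
    simp only [List.map_cons, List.prod_cons] at ih' ⊢
    rw [_root_.mul_inv_rev, nU_inv]
    calc nU V (T.sim a) (t a) * (L.map fun c => nU V (T.sim c) (t c)).prod * (((L.map fun c => nU V (T.sim c) (1 : F)).prod)⁻¹ * nU V (T.sim a) (-1))
        = nU V (T.sim a) (t a) * ((L.map fun c => nU V (T.sim c) (t c)).prod * ((L.map fun c => nU V (T.sim c) (1 : F)).prod)⁻¹) * nU V (T.sim a) (-1) := by group
      _ = nU V (T.sim a) (t a) * ((L.map fun c => hU V (T.sim c) (t c)).prod * nU V (T.sim a) (-1)) := by rw [ih', mul_assoc]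
      _ = nU V (T.sim a) (t a) * (nU V (T.sim a) (-1) * (L.map fun c => hU V (T.sim c) (t c)).prod) := by rw [hcomm.eq]
      _ = _ := by rw [← mul_assoc, hU_eq]

end

theorem iter_neg_inv (φ : F ≃+* F) (b : ℕ) (a : F) : φ^[b] (-a⁻¹) = -(φ^[b] a)⁻¹ := by
  induction b generalizing a with
  | zero => rfl
  | succ b ih =>
    rw [Function.iterate_succ_apply, Function.iterate_succ_apply, map_neg, map_inv₀, ih]

theorem iter_ne_zero (φ : F ≃+* F) (b : ℕ) {a : F} (ha : a ≠ 0) : φ^[b] a ≠ 0 := by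
  induction b generalizing a with
  | zero => exact ha
  | succ b ih =>
    rw [Function.iterate_succ_apply]
    exact ih (by simpa using ha)

section orb
variable (V : Valid D T) (V2 : Valid2 D T C) (V3 : Valid3 T C X) (V4 : Valid4 D T C Y)
variable {ρ ρ' π π' : ℕ → ℕ} {ε : ℕ → ℤ} (G : GraphOk T C ρ ρ' π π' ε) (φ : F ≃+* F)
variable {ι : Type} (Q : OrbData T C π ι) (hε : ∀ a < T.l, ε (T.sim a) = 1)

theorem word_idx {f : ℕ → ℕ} (j : ι) (a : F) :
    wordU V (eWg f φ (chainL π (Q.i0 j) (Q.k j)) a) = px V f (chainL π (Q.i0 j) (Q.k j)) (fun c => φ^[Q.idx j c] a) := by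
  rw [← px_word, eW_of_idx φ (t := fun c => φ^[Q.idx j c] a)]
  intro b hb
  show φ^[Q.idx j (π^[b] (Q.i0 j))] a = φ^[b] a
  rw [(Q.O j).hidx b hb]

/-- The product of `h`'s along an orbit lies in the fixed point group. -/
theorem hchain_mem (j : ι) {a : F} (ha0 : a ≠ 0) (ha : φ^[Q.k j] a = a) :
    ((chainL π (Q.i0 j) (Q.k j)).map fun c => hU V (T.sim c) (φ^[Q.idx j c] a)).prod ∈ (orbFix V V2 V3 V4 G φ Q hε).G1 := by
  have hO := Q.O j
  have hne : ∀ c ∈ chainL π (Q.i0 j) (Q.k j), φ^[Q.idx j c] a ≠ 0 := by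
    intro c _
    exact iter_ne_zero φ _ ha0
  have hone : ∀ {f : ℕ → ℕ}, px V f (chainL π (Q.i0 j) (Q.k j)) (fun c => φ^[Q.idx j c] (1 : F)) = px V f (chainL π (Q.i0 j) (Q.k j)) (fun _ => 1) := by
    intro f
    apply px_congr
    intro c _
    exact Function.iterate_fixed (by simp) _
  rw [← prod_n_h V V2 V3 V4 hO (fun b hb => hb) hO.hnd _ hne]
  have hY : ∀ {b : F}, φ^[Q.k j] b = b → wordU V (eWg T.sim φ (chainL π (Q.i0 j) (Q.k j)) b) ∈ (orbFix V V2 V3 V4 G φ Q hε).G1 :=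
    fun hb => TwFix.Yp_le _ j ((mem_Yp V V2 V3 V4 G φ Q hε).mpr ⟨_, hb, rfl⟩)
  have hY' : ∀ {b : F}, φ^[Q.k j] b = b → wordU V (eWg (fun c => T.neg (T.sim c)) φ (chainL π (Q.i0 j) (Q.k j)) b) ∈ (orbFix V V2 V3 V4 G φ Q hε).G1 :=
    fun hb => TwFix.Ym_le _ j (word_neg_mem_Ym V V2 V3 V4 G φ Q hε hb)
  have h1 : ((chainL π (Q.i0 j) (Q.k j)).map fun c => nU V (T.sim c) (φ^[Q.idx j c] a)).prod ∈ (orbFix V V2 V3 V4 G φ Q hε).G1 := by
    rw [prod_nU V V2 V3 V4 hO (fun b hb => hb) hO.hnd, ← word_idx V φ Q j a]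
    have e : px V (fun c => T.neg (T.sim c)) (chainL π (Q.i0 j) (Q.k j)) (fun c => -(φ^[Q.idx j c] a)⁻¹) =
        wordU V (eWg (fun c => T.neg (T.sim c)) φ (chainL π (Q.i0 j) (Q.k j)) (-a⁻¹)) := by
      rw [word_idx V φ Q j (-a⁻¹)]
      apply px_congr
      intro c _
      rw [iter_neg_inv]
    rw [e]
    refine Subgroup.mul_mem _ (Subgroup.mul_mem _ (hY ha) (hY' ?_)) (hY ha)
    rw [iter_neg_inv, ha]
  have h2 : ((chainL π (Q.i0 j) (Q.k j)).map fun c => nU V (T.sim c) (1 : F)).prod ∈ (orbFix V V2 V3 V4 G φ Q hε).G1 := by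
    have e := nW_val V V2 V3 V4 hO (F := F) (L := chainL π (Q.i0 j) (Q.k j)) (fun b hb => hb)
    rw [← e, nW_word V V2 V3 V4 φ hO]
    refine Subgroup.mul_mem _ (Subgroup.mul_mem _ (hY (Function.iterate_fixed (by simp) _)) (hY' (Function.iterate_fixed (by simp) _))) (hY (Function.iterate_fixed (by simp) _))
  exact Subgroup.mul_mem _ h1 (Subgroup.inv_mem _ h2)


include V2 V3 in
/-- `h` for a simple root. -/
theorem hU_sim_eq {m : ℕ} (hm : m < T.l) (t : Fˣ) : hU V (T.sim m) (t : F) = dgC D T C (Function.update (1 : ℕ → Fˣ) m t) := by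
  rw [hU_eq_dgC V V2 V3 (by rw [← V.hn]; exact sim_lt' V V2 V3 hm)]
  unfold dgC
  congr 1
  apply cc_congr
  intro i hi
  rw [V3.co_sim hm hi]
  by_cases e : m = i
  · subst e
    simp
  · rw [if_neg e, Function.update_of_ne (Ne.symm e)]
    simp

include V2 V3 in
/-- A product over an orbit of `h`'s -/
theorem dgC_res {c : ℕ → Fˣ} {L : List ℕ} (hL : ∀ m ∈ L, m < T.l) (hnd : L.Nodup) :
    dgC D T C (fun i => if i ∈ L then c i else 1) = (L.map fun m => hU V (T.sim m) ((c m : Fˣ) : F)).prod := by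
  induction L with
  | nil =>
    simp only [List.not_mem_nil, if_false, List.map_nil, List.prod_nil]
    exact dgC_one
  | cons a L ih =>
    rw [List.nodup_cons] at hnd
    have ih' := ih (fun c hc => hL c (by simp [hc])) hnd.2
    rw [List.map_cons, List.prod_cons, ← ih', hU_sim_eq V V2 V3 (hL a (by simp)), dgC_mul]
    unfold dgC
    congr 1
    apply cc_congr
    intro i hi
    simp only [Pi.mul_apply, List.mem_cons]
    by_cases e : i = a
    · subst e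
      simp [hnd.1]
    · rw [Function.update_of_ne e]
      simp [e]

/-- The stability condition. -/
def Stab (π : ℕ → ℕ) (φ : F ≃+* F) (c : ℕ → Fˣ) (l : ℕ) : Prop := ∀ i < l, ((c (π i) : Fˣ) : F) = φ (c i)

theorem stab_iter {c : ℕ → Fˣ} {l : ℕ} (hπ : ∀ i < l, π i < l) (hc : Stab π φ c l) {i : ℕ} (hi : i < l) (b : ℕ) :
    ((c (π^[b] i) : Fˣ) : F) = φ^[b] (c i) ∧ π^[b] i < l := by
  induction b with
  | zero => exact ⟨rfl, hi⟩
  | succ b ih =>
    rw [Function.iterate_succ_apply', Function.iterate_succ_apply', ← ih.1]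
    exact ⟨hc _ ih.2, hπ _ ih.2⟩

/-- A stable torus element is in the group. -/
theorem res_mem {c : ℕ → Fˣ} (hc : Stab π φ c T.l) (j : ι) :
    dgC D T C (fun i => if i ∈ chainL π (Q.i0 j) (Q.k j) then c i else 1) ∈ (orbFix V V2 V3 V4 G φ Q hε).G1 := by
  have hO := Q.O j
  have hi0 := i_mem V V2 V3 V4 hO
  have hl0 := hO.hlt _ hi0
  have hiter := fun b => stab_iter φ (G.π_lt) hc hl0 b
  have h1 : φ^[Q.k j] ((c (Q.i0 j) : Fˣ) : F) = c (Q.i0 j) := by
    rw [← (hiter (Q.k j)).1, hO.hper]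
  rw [dgC_res V V2 V3 hO.hlt hO.hnd]
  have h2 := hchain_mem V V2 V3 V4 G φ Q hε j (c (Q.i0 j)).ne_zero h1
  convert h2 using 2
  apply List.map_congr_left
  intro m hm
  obtain ⟨b, hb, rfl⟩ := mem_chainL.mp hm
  rw [hO.hidx b hb, (hiter b).1]

/-- Stable torus elements lie in the fixed point group. -/
theorem dgC_mem_G1 [Fintype ι] {c : ℕ → Fˣ} (hc : Stab π φ c T.l) : dgC D T C c ∈ (orbFix V V2 V3 V4 G φ Q hε).G1 := by
  classical
  have key : ∀ s : Finset ι, dgC D T C (fun i => ∏ j ∈ s, if i ∈ chainL π (Q.i0 j) (Q.k j) then c i else 1) ∈ (orbFix V V2 V3 V4 G φ Q hε).G1 := by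
    intro s
    induction s using Finset.induction_on with
    | empty =>
      simp only [Finset.prod_empty]
      have : dgC D T C (fun _ : ℕ => (1 : Fˣ)) = 1 := dgC_one
      rw [this]
      exact Subgroup.one_mem _
    | insert a s ha ih =>
      have e : dgC D T C (fun i => ∏ j ∈ insert a s, if i ∈ chainL π (Q.i0 j) (Q.k j) then c i else 1) =
          dgC D T C (fun i => if i ∈ chainL π (Q.i0 a) (Q.k a) then c i else 1) * dgC D T C (fun i => ∏ j ∈ s, if i ∈ chainL π (Q.i0 j) (Q.k j) then c i else 1) := by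
        rw [dgC_mul]
        congr 1
        funext i
        simp only [Pi.mul_apply]
        rw [Finset.prod_insert ha]
      rw [e]
      exact Subgroup.mul_mem _ (res_mem V V2 V3 V4 G φ Q hε hc a) ih
  have h := key Finset.univ
  convert h using 1
  unfold dgC
  congr 1
  apply cc_congr
  intro i hi
  obtain ⟨j, hj⟩ := Q.cover i hi
  rw [Finset.prod_eq_single j]
  · rw [if_pos hj]
  · intro b _ hb
    rw [if_neg]
    intro h3
    exact hb (Q.disj i b j h3 hj)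
  · intro h3
    exact absurd (Finset.mem_univ j) h3

include V2 V3 V4 in
theorem xU_param_inj {r : ℕ} (hr : r < T.n) {a b : F} (h : xU V r a = xU V r b) : a = b := by
  by_contra hne
  have h1 : xU V r (a - b) = 1 := by
    have : xU V r (a - b) = xU V r a * (xU V r b)⁻¹ := by
      rw [xU_inv, xU_mul, sub_eq_add_neg]
    rw [this, h, mul_inv_cancel]
  exact xU_ne_one V V2 V3 V4 hr (sub_ne_zero.mpr hne) h1

include V2 V3 V4 hε in
/-- Fixed torus elements have stable characters. -/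
theorem cc_stable_of_fix {c : ℕ → Fˣ} (hF : tauGL V G φ (dgC D T C c) = dgC D T C c) {k : ℕ} (hk : k < T.l) :
    ((cc T C c (T.sim (π k)) : Fˣ) : F) = φ (cc T C c (T.sim k)) := by
  have hs := sim_lt' V V2 V3 hk
  have hs' := sim_lt' V V2 V3 (G.π_lt k hk)
  have h1 := conj_dg V (isCh_cc V V2 c) (s := T.sim k) (by rw [← V.hn]; exact hs) (1 : F)
  have h2 := congrArg (tauGL V G φ) h1
  rw [map_mul, map_mul] at h2
  have hF' : tauGL V G φ (dgU D (cc T C c)) = dgU D (cc T C c) := hF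
  rw [hF', tau_x V G φ hs, tau_x V G φ hs, hε k hk, G.ρ_sim k hk] at h2
  have h3 := conj_dg V (isCh_cc V V2 c) (s := T.sim (π k)) (by rw [← V.hn]; exact hs') (1 : F)
  simp only [Int.cast_one, one_mul, map_one, mul_one] at h2 h3
  rw [h3] at h2
  have h4 := mul_right_cancel h2
  exact xU_param_inj V V2 V3 V4 hs' h4

end orb

end Cfsg.Agent.Lib.ChevTw12
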