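import Cfsg.Agent.Lib.ChevTw12

/-! Twisted groups, step 13: the order of the diagonal part of the fixed point group. -/

set_option autoImplicit false
set_option linter.unusedVariables false
set_option linter.unusedSectionVars false
set_option linter.unusedFintypeInType false
set_option linter.unusedDecidableInType false

namespace Cfsg.Agent.Lib.ChevTw13

open Cfsg.Lie Matrix Cfsg.Agent.Lib.ChevEngine Cfsg.Agent.Lib.ChevTab Cfsg.Agent.Lib.ChevMono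
  Cfsg.Agent.Lib.ChevRel Cfsg.Agent.Lib.ChevValid Cfsg.Agent.Lib.ChevGL Cfsg.Agent.Lib.ChevGrad Cfsg.Agent.Lib.ChevL2
  Cfsg.Agent.Lib.ChevU Cfsg.Agent.Lib.ChevU2 Cfsg.Agent.Lib.ChevU3 Cfsg.Agent.Lib.ChevDiag Cfsg.Agent.Lib.ChevV3
  Cfsg.Agent.Lib.ChevH Cfsg.Agent.Lib.ChevN Cfsg.Agent.Lib.ChevN2 Cfsg.Agent.Lib.ChevN3 Cfsg.Agent.Lib.ChevBN Cfsg.Agent.Lib.ChevBN2
  Cfsg.Agent.Lib.ChevV4 Cfsg.Agent.Lib.ChevSimp Cfsg.Agent.Lib.ChevSimp2 Cfsg.Agent.Lib.ChevPar Cfsg.Agent.Lib.ChevV5 Cfsg.Agent.Lib.ChevPar2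
  Cfsg.Agent.Lib.ChevPar3 Cfsg.Agent.Lib.BNPair Cfsg.Agent.Lib.BNCount Cfsg.Agent.Lib.ChevW1 Cfsg.Agent.Lib.ChevW2 Cfsg.Agent.Lib.ChevTw1
  Cfsg.Agent.Lib.ChevTw2 Cfsg.Agent.Lib.ChevTw3 Cfsg.Agent.Lib.ChevAut3 Cfsg.Agent.Lib.ChevTw4 Cfsg.Agent.Lib.ChevTw5 Cfsg.Agent.Lib.ChevW3
  Cfsg.Agent.Lib.ChevTw6 Cfsg.Agent.Lib.ChevTw7 Cfsg.Agent.Lib.ChevTw8 Cfsg.Agent.Lib.ChevTw3.TwFix Cfsg.Agent.Lib.ChevHOrd Cfsg.Agent.Lib.ChevTw12

variable {D : ChevalleyDatum} {T : Tb} {C : Tc} {X : Tc3} {Y : Tc4} {F : Type*} [Field F]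

theorem cExt_inv {l : ℕ} (c : Fin l → Fˣ) : cExt (c⁻¹) = (cExt c)⁻¹ := by
  funext i
  simp only [cExt, Pi.inv_apply]
  split_ifs <;> simp

theorem cExt_one {l : ℕ} : cExt (1 : Fin l → Fˣ) = 1 := by
  funext i
  simp [cExt]

/-- The stable tuples. -/
def Sg (T : Tb) (π : ℕ → ℕ) (φ : F ≃+* F) : Subgroup (Fin T.l → Fˣ) where
  carrier := {f | Stab π φ (cExt f) T.l}
  mul_mem' := by
    intro a b ha hb i hi
    rw [cExt_mul]
    simp only [Pi.mul_apply, Units.val_mul, map_mul]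
    rw [ha i hi, hb i hi]
  one_mem' := by
    intro i hi
    rw [cExt_one]
    simp
  inv_mem' := by
    intro a ha i hi
    rw [cExt_inv]
    simp only [Pi.inv_apply, Units.val_inv_eq_inv_val, map_inv₀]
    rw [ha i hi]

section orb
variable (V : Valid D T) (V2 : Valid2 D T C) (V3 : Valid3 T C X) (V4 : Valid4 D T C Y)
variable {ρ ρ' π π' : ℕ → ℕ} {ε : ℕ → ℤ} (G : GraphOk T C ρ ρ' π π' ε) (φ : F ≃+* F)
variable {ι : Type} (Q : OrbData T C π ι) (hε : ∀ a < T.l, ε (T.sim a) = 1)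

/-- The map from the stable tuples to the diagonal part. -/
noncomputable def toH [Fintype ι] : ↥(Sg T π φ) →* ↥(D.diagonalSubgroup F ⊓ (orbFix V V2 V3 V4 G φ Q hε).G1) where
  toFun c := ⟨dgC D T C (cExt c.1), dgC_mem_H V V2 V3 _, dgC_mem_G1 V V2 V3 V4 G φ Q hε c.2⟩
  map_one' := by
    apply Subtype.ext
    show dgC D T C (cExt (1 : Fin T.l → Fˣ)) = 1
    rw [cExt_one]
    exact dgC_one
  map_mul' c c' := by
    apply Subtype.ext
    show dgC D T C (cExt (c.1 * c'.1)) = dgC D T C (cExt c.1) * dgC D T C (cExt c'.1)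
    rw [cExt_mul, dgC_mul]

theorem toH_ker [Fintype ι] (c : ↥(Sg T π φ)) (h : c ∈ (toH V V2 V3 V4 G φ Q hε).ker) : actM (A := Fˣ) (cartanM T) c.1 = 1 := by
  have h1 : dgC D T C (cExt c.1) = 1 := congrArg (fun x => ((x : ↥(D.diagonalSubgroup F ⊓ (orbFix V V2 V3 V4 G φ Q hε).G1)) : GL D.Idx F)) h
  have h2 : c.1 ∈ (phiH (F := F) V V2 V3).ker := by
    rw [MonoidHom.mem_ker]
    exact Subtype.ext h1
  exact (phiH_ker V V2 V3 c.1).mp h2

/-- The lower bound. -/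
theorem card_Sg_le [Fintype ι] [Finite F] {g : ℕ}
    (hk : Nat.card (Sg T π φ ⊓ (actM (A := Fˣ) (cartanM T)).ker : Subgroup (Fin T.l → Fˣ)) ≤ g) :
    Nat.card (Sg T π φ) ≤ g * Nat.card ↥(D.diagonalSubgroup F ⊓ (orbFix V V2 V3 V4 G φ Q hε).G1) := by
  have : Finite (GL D.Idx F) := inferInstance
  set f := toH V V2 V3 V4 G φ Q hε with hf
  have h1 : Nat.card f.ker * Nat.card f.range = Nat.card (Sg T π φ) := by
    rw [← Subgroup.index_ker f]
    exact Subgroup.card_mul_index _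
  have h2 : Nat.card f.range ≤ Nat.card ↥(D.diagonalSubgroup F ⊓ (orbFix V V2 V3 V4 G φ Q hε).G1) := Subgroup.card_le_card_group _
  have h3 : Nat.card f.ker ≤ g := by
    refine le_trans ?_ hk
    apply Nat.card_le_card_of_injective (fun c : f.ker => (⟨c.1.1, c.1.2, toH_ker V V2 V3 V4 G φ Q hε c.1 c.2⟩ : ↥(Sg T π φ ⊓ (actM (A := Fˣ) (cartanM T)).ker)))
    intro a b h
    apply Subtype.ext
    apply Subtype.ext
    have h' := congrArg (fun z : ↥(Sg T π φ ⊓ (actM (A := Fˣ) (cartanM T)).ker) => z.1) h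
    exact h'
  rw [← h1]
  exact Nat.mul_le_mul h3 h2

/-- The character of an element of the diagonal part is stable. -/
theorem act_mem_Sg {c : Fin T.l → Fˣ} (hc : dgC D T C (cExt c) ∈ (orbFix V V2 V3 V4 G φ Q hε).G1) : actM (A := Fˣ) (cartanM T) c ∈ Sg T π φ := by
  have hF : dgC D T C (cExt c) ∈ (twAut V G φ).Fix := TwFix.G1_le_Fix _ hc
  obtain ⟨hx, h1⟩ := (twAut V G φ).mem_Fix.mp hF
  intro k hk
  have h2 := cc_stable_of_fix V V2 V3 V4 G φ hε h1 hk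
  have hk' := G.π_lt k hk
  have e : ∀ m (hm : m < T.l), cExt (actM (A := Fˣ) (cartanM T) c) m = cc T C (cExt c) (T.sim m) := by
    intro m hm
    simp only [cExt, hm, dite_true]
    exact (cc_sim V V2 V3 c ⟨m, hm⟩).symm
  rw [e _ hk', e _ hk]
  exact h2

/-- The upper bound. -/
theorem card_H_le [Finite F] {S' : Subgroup (Fin T.l → Fˣ)} (hS : ∀ c : Fin T.l → Fˣ, dgC D T C (cExt c) ∈ (orbFix V V2 V3 V4 G φ Q hε).G1 → actM (A := Fˣ) (cartanM T) c ∈ S') :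
    Nat.card ↥(D.diagonalSubgroup F ⊓ (orbFix V V2 V3 V4 G φ Q hε).G1) ≤ Nat.card S' := by
  classical
  have hex : ∀ h : ↥(D.diagonalSubgroup F ⊓ (orbFix V V2 V3 V4 G φ Q hε).G1), ∃ c : Fin T.l → Fˣ, dgC D T C (cExt c) = h.1 := by
    intro h
    obtain ⟨c, hc⟩ := phiH_surj (F := F) V V2 V3 ⟨h.1, h.2.1⟩
    exact ⟨c, congrArg Subtype.val hc⟩
  choose cf hcf using hex
  apply Nat.card_le_card_of_injective (fun h : ↥(D.diagonalSubgroup F ⊓ (orbFix V V2 V3 V4 G φ Q hε).G1) =>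
    (⟨actM (A := Fˣ) (cartanM T) (cf h), hS _ (by rw [hcf]; exact h.2.2)⟩ : S'))
  intro a b hab
  have h1 : actM (A := Fˣ) (cartanM T) (cf a) = actM (A := Fˣ) (cartanM T) (cf b) := congrArg Subtype.val hab
  have h2 : (cf a)⁻¹ * cf b ∈ (phiH (F := F) V V2 V3).ker := by
    rw [phiH_ker, MonoidHom.mem_ker, map_mul, map_inv, h1, inv_mul_cancel]
  have h3 : phiH (F := F) V V2 V3 (cf a) = phiH (F := F) V V2 V3 (cf b) := by
    rw [MonoidHom.mem_ker, map_mul, map_inv, inv_mul_eq_one] at h2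
    exact h2
  have h4 : dgC D T C (cExt (cf a)) = dgC D T C (cExt (cf b)) := congrArg Subtype.val h3
  rw [hcf, hcf] at h4
  exact Subtype.ext h4

include V V2 V3 V4 G in
/-- The parametrisation of stable tuples. -/
theorem card_Sg [Fintype ι] [Finite F] : Nat.card (Sg T π φ) = ∏ j, Nat.card {a : Fˣ // φ^[Q.k j] ((a : Fˣ) : F) = a} := by
  classical
  rw [← Nat.card_pi]
  have hl0 : ∀ j, Q.i0 j < T.l := fun j => (Q.O j).hlt _ (i_mem V V2 V3 V4 (Q.O j))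
  let e : ↥(Sg T π φ) → ∀ j, {a : Fˣ // φ^[Q.k j] ((a : Fˣ) : F) = a} := fun f j =>
    ⟨cExt f.1 (Q.i0 j), by rw [← (stab_iter φ G.π_lt f.2 (hl0 j) (Q.k j)).1, (Q.O j).hper]⟩
  apply Nat.card_congr
  refine Equiv.ofBijective e ⟨?_, ?_⟩
  · intro f f' h
    apply Subtype.ext
    funext m
    have hm : m.1 < T.l := m.2
    obtain ⟨j, hj⟩ := Q.cover m.1 hm
    obtain ⟨b, hb, hb2⟩ := mem_chainL.mp hj
    have h1 := congrArg Subtype.val (congrFun h j)
    have h2 : cExt f.1 (Q.i0 j) = cExt f'.1 (Q.i0 j) := h1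
    have h3 := (stab_iter φ G.π_lt f.2 (hl0 j) b).1
    have h4 := (stab_iter φ G.π_lt f'.2 (hl0 j) b).1
    rw [h2, ← h4, ← hb2] at h3
    have h5 : cExt f.1 m.1 = cExt f'.1 m.1 := Units.ext h3
    simpa [cExt, hm] using h5
  · intro a
    -- choose the orbit of each index
    have hcov : ∀ m : Fin T.l, ∃ j, m.1 ∈ chainL π (Q.i0 j) (Q.k j) := fun m => Q.cover m.1 m.2
    choose jj hjj using hcov
    let φU : Fˣ →* Fˣ := Units.map (φ : F →* F)
    have hφU : ∀ (b : ℕ) (u : Fˣ), ((φU^[b] u : Fˣ) : F) = φ^[b] u := by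
      intro b u
      induction b generalizing u with
      | zero => rfl
      | succ b ih =>
        rw [Function.iterate_succ_apply, Function.iterate_succ_apply, ih]
        rfl
    let f : Fin T.l → Fˣ := fun m => φU^[Q.idx (jj m) m.1] (a (jj m)).1
    have hfv : ∀ (j : ι) (b : ℕ), b < Q.k j → ((cExt f (π^[b] (Q.i0 j)) : Fˣ) : F) = φ^[b] ((a j).1 : F) := by
      intro j b hb
      have hO := Q.O j
      have hmem : π^[b] (Q.i0 j) ∈ chainL π (Q.i0 j) (Q.k j) := mem_chainL.mpr ⟨b, hb, rfl⟩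
      have hlt := hO.hlt _ hmem
      have hjm : jj ⟨π^[b] (Q.i0 j), hlt⟩ = j := Q.disj _ _ _ (hjj ⟨π^[b] (Q.i0 j), hlt⟩) hmem
      simp only [cExt, hlt, dite_true, f]
      rw [hφU, hjm, hO.hidx b hb]
    refine ⟨⟨f, ?_⟩, ?_⟩
    · intro m hm
      obtain ⟨j, hj⟩ := Q.cover m hm
      obtain ⟨b, hb, rfl⟩ := mem_chainL.mp hj
      rw [hfv j b hb, ← Function.iterate_succ_apply' (⇑φ), ← Function.iterate_succ_apply' π]
      by_cases hb1 : b + 1 < Q.k j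
      · exact hfv j (b + 1) hb1
      · have hbk : b.succ = Q.k j := by omega
        have hO := Q.O j
        rw [hbk, (a j).2, hO.hper]
        have h1 := hfv j 0 hO.hk
        simpa using h1
    · funext j
      apply Subtype.ext
      apply Units.ext
      have hO := Q.O j
      have := hfv j 0 hO.hk
      simpa using this

end orb

end Cfsg.Agent.Lib.ChevTw13
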