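import Cfsg.Agent.Lib.ChevTw13

/-! Twisted groups, step 15: the action of the generators and the table-based sum. -/

set_option autoImplicit false
set_option linter.unusedVariables false
set_option linter.unusedSectionVars false
set_option linter.unusedFintypeInType false
set_option linter.unusedDecidableInType false

namespace Cfsg.Agent.Lib.ChevTw15

open Cfsg.Lie Matrix Cfsg.Agent.Lib.ChevEngine Cfsg.Agent.Lib.ChevTab Cfsg.Agent.Lib.ChevMono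
  Cfsg.Agent.Lib.ChevRel Cfsg.Agent.Lib.ChevValid Cfsg.Agent.Lib.ChevGL Cfsg.Agent.Lib.ChevGrad Cfsg.Agent.Lib.ChevL2
  Cfsg.Agent.Lib.ChevU Cfsg.Agent.Lib.ChevU2 Cfsg.Agent.Lib.ChevU3 Cfsg.Agent.Lib.ChevDiag Cfsg.Agent.Lib.ChevV3
  Cfsg.Agent.Lib.ChevH Cfsg.Agent.Lib.ChevN Cfsg.Agent.Lib.ChevN2 Cfsg.Agent.Lib.ChevN3 Cfsg.Agent.Lib.ChevBN Cfsg.Agent.Lib.ChevBN2
  Cfsg.Agent.Lib.ChevV4 Cfsg.Agent.Lib.ChevSimp Cfsg.Agent.Lib.ChevSimp2 Cfsg.Agent.Lib.ChevPar Cfsg.Agent.Lib.ChevV5 Cfsg.Agent.Lib.ChevPar2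
  Cfsg.Agent.Lib.ChevPar3 Cfsg.Agent.Lib.BNPair Cfsg.Agent.Lib.BNCount Cfsg.Agent.Lib.ChevW1 Cfsg.Agent.Lib.ChevW2 Cfsg.Agent.Lib.ChevTw1
  Cfsg.Agent.Lib.ChevTw2 Cfsg.Agent.Lib.ChevTw3 Cfsg.Agent.Lib.ChevAut3 Cfsg.Agent.Lib.ChevTw4 Cfsg.Agent.Lib.ChevTw5 Cfsg.Agent.Lib.ChevW3
  Cfsg.Agent.Lib.ChevTw6 Cfsg.Agent.Lib.ChevTw7 Cfsg.Agent.Lib.ChevTw8 Cfsg.Agent.Lib.ChevTw3.TwFix Cfsg.Agent.Lib.ChevHOrd Cfsg.Agent.Lib.ChevTw11 Cfsg.Agent.Lib.ChevTw12 Cfsg.Agent.Lib.ChevTw13 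

variable {D : ChevalleyDatum} {T : Tb} {C : Tc} {X : Tc3} {Y : Tc4} {F : Type*} [Field F]

section orb
variable (V : Valid D T) (V2 : Valid2 D T C) (V3 : Valid3 T C X) (V4 : Valid4 D T C Y)
variable {ρ ρ' π π' : ℕ → ℕ} {ε : ℕ → ℤ} (G : GraphOk T C ρ ρ' π π' ε) (φ : F ≃+* F)
variable {ι : Type} (Q : OrbData T C π ι) (hε : ∀ a < T.l, ε (T.sim a) = 1)

theorem rho1_xj (j : ι) {r : ℕ} (hr : r < T.n) :
    rho1 (orbFix V V2 V3 V4 G φ Q hε) V4 (xj (orbFix V V2 V3 V4 G φ Q hε) V4 j) r = wact T (chainL π (Q.i0 j) (Q.k j)) r := by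
  have h1 := TwFix.nj_isW (orbFix V V2 V3 V4 G φ Q hε) V4 j
  have h2 := nW_isW V V2 V3 V4 (F := F) (Q.O j)
  have h3 := rho0_flip_eq V V2 V3 V4 h1 h2
  unfold xj
  rw [rho1_wm, h3, rho0_nW V V2 V3 V4 (Q.O j).hlt hr]

/-- The sum over the Weyl group in terms of a table. -/
theorem sum_poly {gens : List (List ℕ)} {tbl : List ℕ} [Fintype (W ((orbFix V V2 V3 V4 G φ Q hε).bn V4))]
    (hg1 : ∀ j, chainL π (Q.i0 j) (Q.k j) ∈ gens) (hg2 : ∀ E ∈ gens, ∃ j, chainL π (Q.i0 j) (Q.k j) = E)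
    (h256 : T.n ≤ 256) (h1 : tblOk1 T gens tbl = true) (h2 : tblOk2 T gens tbl = true) {N : ℕ} {coefs : List ℕ}
    (hN : allL tbl (fun x => Nat.blt (lenP T (T.n / 2) x) N) = true)
    (hc : ∀ e < N, (tbl.map (lenP T (T.n / 2))).count e = coefs.getD e 0) (q : ℕ) :
    ∑ w : W ((orbFix V V2 V3 V4 G φ Q hε).bn V4), q ^ ((InvN (orbFix V V2 V3 V4 G φ Q hε) V4 w).card) =
      ∑ e ∈ Finset.range N, coefs.getD e 0 * q ^ e := by
  rw [sum_pow_table (orbFix V V2 V3 V4 G φ Q hε) V4 (fun j r hr => rho1_xj V V2 V3 V4 G φ Q hε j hr) hg1 hg2 h256 h1 h2 q]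
  have h3 : (tbl.map fun x => q ^ lenP T (T.n / 2) x) = (tbl.map (lenP T (T.n / 2))).map (fun e => q ^ e) := by
    rw [List.map_map]
    rfl
  rw [h3, sum_pow_list q (N := N)]
  · apply Finset.sum_congr rfl
    intro e he
    rw [hc e (Finset.mem_range.mp he)]
  · intro e he
    obtain ⟨x, hx, rfl⟩ := List.mem_map.mp he
    have := (allL_iff _ _).mp hN x hx
    rw [blt_dec] at this
    simpa using this

theorem finite_W' {gens : List (List ℕ)} {tbl : List ℕ}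
    (hg1 : ∀ j, chainL π (Q.i0 j) (Q.k j) ∈ gens) (hg2 : ∀ E ∈ gens, ∃ j, chainL π (Q.i0 j) (Q.k j) = E)
    (h256 : T.n ≤ 256) (h1 : tblOk1 T gens tbl = true) (h2 : tblOk2 T gens tbl = true) : Finite (W ((orbFix V V2 V3 V4 G φ Q hε).bn V4)) :=
  finite_W (orbFix V V2 V3 V4 G φ Q hε) V4 (fun j r hr => rho1_xj V V2 V3 V4 G φ Q hε j hr) hg1 hg2 h256 h1 h2

/-- The order of the group (all weights of the form `q ^ k j`). -/
theorem card_orb [Finite F] [Fintype (W ((orbFix V V2 V3 V4 G φ Q hε).bn V4))] {q : ℕ} (hY : ∀ j, Nat.card ↥((orbFix V V2 V3 V4 G φ Q hε).Yp j) = q ^ Q.k j) :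
    Nat.card ↥(orbFix V V2 V3 V4 G φ Q hε).G1 = Nat.card ↥(D.posUnipotent F ⊓ (orbFix V V2 V3 V4 G φ Q hε).G1) *
      Nat.card ↥(D.diagonalSubgroup F ⊓ (orbFix V V2 V3 V4 G φ Q hε).G1) *
      ∑ w : W ((orbFix V V2 V3 V4 G φ Q hε).bn V4), q ^ ((InvN (orbFix V V2 V3 V4 G φ Q hε) V4 w).card) := by
  have h := card_G1 (orbFix V V2 V3 V4 G φ Q hε) V4 (q := q) (d := 1) (a := Q.k) hY (by
    intro j
    rw [one_mul]
    exact card_PJs V V2 V3 V4 Q j) (by norm_num)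
  simpa using h

end orb

end Cfsg.Agent.Lib.ChevTw15
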