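import Cfsg.Agent.Lib.ChevTw15
import Cfsg.Agent.Lib.BNPair2

/-! Twisted groups, step 17: the Weyl group of the fixed point group as a Coxeter group. -/

set_option autoImplicit false
set_option linter.unusedVariables false
set_option linter.unusedSectionVars false
set_option linter.unusedFintypeInType false
set_option linter.unusedDecidableInType false

namespace Cfsg.Agent.Lib.ChevTw17

open Cfsg.Lie Matrix Cfsg.Agent.Lib.ChevEngine Cfsg.Agent.Lib.ChevTab Cfsg.Agent.Lib.ChevMono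
  Cfsg.Agent.Lib.ChevRel Cfsg.Agent.Lib.ChevValid Cfsg.Agent.Lib.ChevGL Cfsg.Agent.Lib.ChevGrad Cfsg.Agent.Lib.ChevL2
  Cfsg.Agent.Lib.ChevU Cfsg.Agent.Lib.ChevU2 Cfsg.Agent.Lib.ChevU3 Cfsg.Agent.Lib.ChevDiag Cfsg.Agent.Lib.ChevV3
  Cfsg.Agent.Lib.ChevH Cfsg.Agent.Lib.ChevN Cfsg.Agent.Lib.ChevN2 Cfsg.Agent.Lib.ChevN3 Cfsg.Agent.Lib.ChevBN Cfsg.Agent.Lib.ChevBN2
  Cfsg.Agent.Lib.ChevV4 Cfsg.Agent.Lib.ChevSimp Cfsg.Agent.Lib.ChevSimp2 Cfsg.Agent.Lib.ChevPar Cfsg.Agent.Lib.ChevV5 Cfsg.Agent.Lib.ChevPar2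
  Cfsg.Agent.Lib.ChevPar3 Cfsg.Agent.Lib.BNPair Cfsg.Agent.Lib.BNCount Cfsg.Agent.Lib.ChevW1 Cfsg.Agent.Lib.ChevW2 Cfsg.Agent.Lib.ChevTw1
  Cfsg.Agent.Lib.ChevTw2 Cfsg.Agent.Lib.ChevTw3 Cfsg.Agent.Lib.ChevAut3 Cfsg.Agent.Lib.ChevTw4 Cfsg.Agent.Lib.ChevTw5 Cfsg.Agent.Lib.ChevW3
  Cfsg.Agent.Lib.ChevTw6 Cfsg.Agent.Lib.ChevTw7 Cfsg.Agent.Lib.ChevTw8 Cfsg.Agent.Lib.ChevTw3.TwFix Cfsg.Agent.Lib.ChevHOrd Cfsg.Agent.Lib.ChevTw11 Cfsg.Agent.Lib.ChevTw12 Cfsg.Agent.Lib.ChevTw13 Cfsg.Agent.Lib.BNPair2 Cfsg.Agent.Lib.ChevTw15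

variable {D : ChevalleyDatum} {T : Tb} {C : Tc} {X : Tc3} {Y : Tc4} {F : Type*} [Field F]
variable {V : Valid D T} {V2 : Valid2 D T C} {V3 : Valid3 T C X} {ι : Type} (W' : ChevTw2.TwFix V V2 V3 F ι) (V4 : Valid4 D T C Y)
include V4

theorem rho1_pow {u : W (W'.bn V4)} {E : List ℕ} (hu : ∀ r < T.n, rho1 W' V4 u r = wact T E r) (k : ℕ) {r : ℕ} (hr : r < T.n) :
    rho1 W' V4 (u ^ k) r = itW T E k r ∧ itW T E k r < T.n := by
  induction k with
  | zero => simp [itW_zero, hr]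
  | succ k ih =>
    obtain ⟨h1, h2⟩ := ih
    rw [pow_succ', map_mul, Equiv.Perm.mul_apply, h1, hu _ h2, itW_succ]
    refine ⟨rfl, ?_⟩
    rw [← hu _ h2]
    exact rho1_lt W' V4 u h2

theorem pow_one_iff {u : W (W'.bn V4)} {E : List ℕ} (hu : ∀ r < T.n, rho1 W' V4 u r = wact T E r) (k : ℕ) :
    u ^ k = 1 ↔ allBelow T.n (fun r => Nat.beq (itW T E k r) r) = true := by
  rw [allBelow_iff]
  constructor
  · intro h r hr
    have h2 := (rho1_pow W' V4 hu k hr).1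
    rw [h] at h2
    rw [beq_dec]
    simpa using h2.symm
  · intro h
    apply rho1_inj W' V4
    intro r h1 h2
    rw [(rho1_pow W' V4 hu k h2).1]
    have := h r h2
    rw [beq_dec] at this
    have e : itW T E k r = r := by simpa using this
    rw [e]
    simp

theorem order_u {u : W (W'.bn V4)} {E : List ℕ} (hu : ∀ r < T.n, rho1 W' V4 u r = wact T E r) {m : ℕ} (h : ordW T E m = true) : orderOf u = m := by
  simp only [ordW, Bool.and_eq_true] at h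
  obtain ⟨h1, h2, h3⟩ := h
  have hm : 0 < m := by
    rw [blt_dec] at h1
    simpa using h1
  rw [orderOf_eq_iff hm]
  refine ⟨(pow_one_iff W' V4 hu m).2 h2, ?_⟩
  intro k hk hk0 h4
  have h5 := (allBelow_iff _ _).1 h3 k hk
  have h6 : Nat.beq k 0 = false := by
    rw [beq_dec]
    simp
    omega
  rw [h6] at h5
  simp only [cond_false] at h5
  rw [(pow_one_iff W' V4 hu k).1 h4] at h5
  simp at h5

theorem nj_inj {j j' : ι} (h : W'.nj V4 j = W'.nj V4 j') : j = j' := by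
  obtain ⟨i, hi⟩ := W'.A_ne j
  have hl := W'.A_lt j i hi
  have hsp := sim_pos V V2 hl
  have hsl := sim_lt' V V2 V3 hl
  have h5 := ((W'.nj_isW V4 j).1 _ hsp hsl).1 (sim_inJ V V2 V3 hi hl)
  by_contra hne
  have hi' : i ∉ W'.A j' := fun hc => hne (W'.A_disj i j j' hi hc)
  have h6 : ¬ InJ C T.l (W'.A j') (T.sim i) := by
    intro hc
    have := hc i hl hi'
    rw [sim_coef V2 hl] at this
    omega
  have h7 := ((W'.nj_isW V4 j').1 _ hsp hsl).2 h6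
  rw [h] at h5
  omega

/-- The elements of `S`. -/
noncomputable def sj (j : ι) : (W'.bn V4).S := ⟨⟨W'.nj V4 j, W'.nj_mem V4 j⟩, ⟨j, rfl⟩⟩

theorem eS_sj (j : ι) : eS _ (sj W' V4 j) = xj W' V4 j := rfl

/-- The generators indexed by a finite type. -/
noncomputable def eFinT {n : ℕ} (e : Fin n ≃ ι) : Fin n ≃ (W'.bn V4).S := by
  refine Equiv.ofBijective (fun i => sj W' V4 (e i)) ⟨?_, ?_⟩
  · intro a b h
    have h1 : ((sj W' V4 (e a)).1 : ↥W'.G1) = (sj W' V4 (e b)).1 := congrArg Subtype.val h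
    have h2 : ((W'.nj V4 (e a) : ↥(D.monomialSubgroup F)) : GL D.Idx F) = W'.nj V4 (e b) := congrArg (fun z : ↥W'.G1 => (z : GL D.Idx F)) h1
    exact e.injective (nj_inj W' V4 (Subtype.ext h2))
  · rintro ⟨s, j, hj⟩
    refine ⟨e.symm j, ?_⟩
    apply Subtype.ext
    apply Subtype.ext
    show ((W'.nj V4 (e (e.symm j)) : ↥(D.monomialSubgroup F)) : GL D.Idx F) = s
    rw [Equiv.apply_symm_apply, hj]

theorem eS_eFinT {n : ℕ} (e : Fin n ≃ ι) (i : Fin n) : eS _ (eFinT W' V4 e i) = xj W' V4 (e i) := rfl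

/-- The Weyl group is a Coxeter group. -/
theorem weyl_isoT {n : ℕ} (e : Fin n ≃ ι) (M : CoxeterMatrix (Fin n)) {gen : ι → List ℕ}
    (hgen : ∀ j, ∀ r < T.n, rho1 W' V4 (xj W' V4 j) r = wact T (gen j) r)
    (hM : ∀ i j : Fin n, ordW T (gen (e i) ++ gen (e j)) (M i j) = true) :
    ∃ ψ : W (W'.bn V4) ≃* M.Group, ∀ i : Fin n, ψ (xj W' V4 (e i)) = M.simple i := by
  have hR : M.reindex (eFinT W' V4 e) = coxMatrix (W'.bn V4) := by
    apply CoxeterMatrix.ext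
    ext s t
    obtain ⟨i, rfl⟩ := (eFinT W' V4 e).surjective s
    obtain ⟨j, rfl⟩ := (eFinT W' V4 e).surjective t
    show (M.reindex (eFinT W' V4 e)) _ _ = (coxMatrix (W'.bn V4)) _ _
    rw [CoxeterMatrix.reindex_apply, Equiv.symm_apply_apply, Equiv.symm_apply_apply, coxMatrix_apply, eS_eFinT, eS_eFinT]
    have hu : ∀ r < T.n, rho1 W' V4 (xj W' V4 (e i) * xj W' V4 (e j)) r = wact T (gen (e i) ++ gen (e j)) r := by
      intro r hr
      have h3 : ∀ (M' L : List ℕ) (b : ℕ), wact T (M' ++ L) b = wact T M' (wact T L b) := by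
        intro M' L b
        induction M' with
        | nil => simp [wact_nil]
        | cons c M' ih2 => simp only [List.cons_append, wact_cons, ih2]
      rw [map_mul, Equiv.Perm.mul_apply, h3, hgen _ _ (rho1_lt W' V4 _ hr), hgen _ r hr]
    exact (order_u W' V4 hu (hM i j)).symm
  obtain ⟨cs, hcs⟩ := cox_aux _ _ hR
  refine ⟨cs.mulEquiv.trans (M.reindexGroupEquiv _), ?_⟩
  intro i
  have h3 := hcs (eFinT W' V4 e i)
  rw [eS_eFinT] at h3
  rw [← h3, MulEquiv.trans_apply]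
  show (M.reindexGroupEquiv _) (cs.mulEquiv (cs.mulEquiv.symm ((M.reindex _).simple _))) = _
  rw [MulEquiv.apply_symm_apply, CoxeterMatrix.reindexGroupEquiv_apply_simple, Equiv.symm_apply_apply]

/-- From `N ∩ G¹` to the `N` of the pair. -/
noncomputable def fromN1 : ↥(D.monomialSubgroup F ⊓ W'.G1) →* (W'.bn V4).N where
  toFun n := ⟨⟨n.1, n.2.2⟩, (W'.mem_sof V4).mpr n.2.1⟩
  map_one' := rfl
  map_mul' _ _ := rfl

/-- `N¹/H¹` is the Coxeter group. -/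
theorem N_quotT {n : ℕ} (e : Fin n ≃ ι) (M : CoxeterMatrix (Fin n)) {gen : ι → List ℕ}
    (hgen : ∀ j, ∀ r < T.n, rho1 W' V4 (xj W' V4 j) r = wact T (gen j) r)
    (hM : ∀ i j : Fin n, ordW T (gen (e i) ++ gen (e j)) (M i j) = true) :
    ∃ φ : ↥(D.monomialSubgroup F ⊓ W'.G1) →* M.Group, Function.Surjective φ ∧
      φ.ker = (D.diagonalSubgroup F ⊓ W'.G1).subgroupOf (D.monomialSubgroup F ⊓ W'.G1) := by
  obtain ⟨ψ, hψ⟩ := weyl_isoT W' V4 e M hgen hM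
  refine ⟨ψ.toMonoidHom.comp ((mk (W'.bn V4)).comp (fromN1 W' V4)), ?_, ?_⟩
  · intro y
    obtain ⟨w, rfl⟩ := ψ.surjective y
    obtain ⟨m, rfl⟩ := mk_surjective w
    refine ⟨⟨((m : ↥W'.G1) : GL D.Idx F), (W'.mem_sof V4).mp m.2, (m : ↥W'.G1).2⟩, rfl⟩
  · ext g
    rw [MonoidHom.mem_ker, Subgroup.mem_subgroupOf]
    have e' : (ψ.toMonoidHom.comp ((mk (W'.bn V4)).comp (fromN1 W' V4))) g = ψ (mk _ (fromN1 W' V4 g)) := rfl
    rw [e', map_eq_one_iff _ ψ.injective, mk_eq_one_iff]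
    have e2 : ((fromN1 W' V4 g : (W'.bn V4).N) : ↥W'.G1) ∈ (W'.bn V4).B ↔ (g : GL D.Idx F) ∈ D.borelSubgroup F :=
      W'.mem_sof V4
    rw [e2]
    constructor
    · intro h
      have : (g : GL D.Idx F) ∈ D.borelSubgroup F ⊓ D.monomialSubgroup F := ⟨h, g.2.1⟩
      rw [B_inf_N V V2 V3] at this
      exact ⟨this, g.2.2⟩
    · intro h
      exact H_le_B V V2 V3 h.1

end Cfsg.Agent.Lib.ChevTw17
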