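import Cfsg.Agent.Lib.ChevTw17

/-! Twisted groups, step 19: normal core of the Borel subgroup, irreducibility. -/

set_option autoImplicit false
set_option linter.unusedVariables false
set_option linter.unusedSectionVars false
set_option linter.unusedFintypeInType false
set_option linter.unusedDecidableInType false

namespace Cfsg.Agent.Lib.ChevTw19

open Cfsg.Lie Matrix Cfsg.Agent.Lib.ChevEngine Cfsg.Agent.Lib.ChevTab Cfsg.Agent.Lib.ChevMono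
  Cfsg.Agent.Lib.ChevRel Cfsg.Agent.Lib.ChevValid Cfsg.Agent.Lib.ChevGL Cfsg.Agent.Lib.ChevGrad Cfsg.Agent.Lib.ChevL2
  Cfsg.Agent.Lib.ChevU Cfsg.Agent.Lib.ChevU2 Cfsg.Agent.Lib.ChevU3 Cfsg.Agent.Lib.ChevDiag Cfsg.Agent.Lib.ChevV3
  Cfsg.Agent.Lib.ChevH Cfsg.Agent.Lib.ChevN Cfsg.Agent.Lib.ChevN2 Cfsg.Agent.Lib.ChevN3 Cfsg.Agent.Lib.ChevBN Cfsg.Agent.Lib.ChevBN2
  Cfsg.Agent.Lib.ChevV4 Cfsg.Agent.Lib.ChevSimp Cfsg.Agent.Lib.ChevSimp2 Cfsg.Agent.Lib.ChevPar Cfsg.Agent.Lib.ChevV5 Cfsg.Agent.Lib.ChevPar2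
  Cfsg.Agent.Lib.ChevPar3 Cfsg.Agent.Lib.BNPair Cfsg.Agent.Lib.BNCount Cfsg.Agent.Lib.ChevW1 Cfsg.Agent.Lib.ChevW2 Cfsg.Agent.Lib.ChevTw1
  Cfsg.Agent.Lib.ChevTw2 Cfsg.Agent.Lib.ChevTw3 Cfsg.Agent.Lib.ChevAut3 Cfsg.Agent.Lib.ChevTw4 Cfsg.Agent.Lib.ChevTw5 Cfsg.Agent.Lib.ChevW3
  Cfsg.Agent.Lib.ChevTw6 Cfsg.Agent.Lib.ChevTw7 Cfsg.Agent.Lib.ChevTw8 Cfsg.Agent.Lib.ChevTw3.TwFix Cfsg.Agent.Lib.ChevHOrd Cfsg.Agent.Lib.ChevTw11 Cfsg.Agent.Lib.ChevTw12 Cfsg.Agent.Lib.ChevTw13 Cfsg.Agent.Lib.BNPair2 Cfsg.Agent.Lib.ChevTw15 Cfsg.Agent.Lib.ChevTw17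

variable {D : ChevalleyDatum} {T : Tb} {C : Tc} {X : Tc3} {Y : Tc4} {F : Type*} [Field F]

section orb
variable (V : Valid D T) (V2 : Valid2 D T C) (V3 : Valid3 T C X) (V4 : Valid4 D T C Y)
variable {ρ ρ' π π' : ℕ → ℕ} {ε : ℕ → ℤ} (G : GraphOk T C ρ ρ' π π' ε) (φ : F ≃+* F)
variable {ι : Type} (Q : OrbData T C π ι) (hε : ∀ a < T.l, ε (T.sim a) = 1)

/-- Conjugation of a product by a diagonal element. -/
theorem conj_px {χ : ℕ → Fˣ} (hχ : IsCh T χ) {f : ℕ → ℕ} {L : List ℕ} (hf : ∀ a ∈ L, f a < T.n) (t : ℕ → F) :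
    dgU D χ * px V f L t = px V f L (fun c => ((χ (f c) : Fˣ) : F) * t c) * dgU D χ := by
  induction L with
  | nil => simp [px]
  | cons a L ih =>
    have ih' := ih (fun c hc => hf c (by simp [hc]))
    simp only [px, List.map_cons, List.prod_cons] at ih' ⊢
    rw [← mul_assoc, conj_dg V hχ (by rw [← V.hn]; exact hf a (by simp)), mul_assoc, ih', mul_assoc]

include V2 V3 V4 in
/-- A central element with respect to the words is trivial. -/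
theorem trivial_of_comm {z : GL D.Idx F} (hz : z ∈ D.diagonalSubgroup F)
    (hc : ∀ j, z * px V T.sim (chainL π (Q.i0 j) (Q.k j)) (fun _ => 1) = px V T.sim (chainL π (Q.i0 j) (Q.k j)) (fun _ => 1) * z) : z = 1 := by
  obtain ⟨c, hcz⟩ := phiH_surj (F := F) V V2 V3 ⟨z, hz⟩
  have hzc : dgC D T C (cExt c) = z := congrArg Subtype.val hcz
  subst hzc
  have hsim : ∀ k (hk : k < T.l), cc T C (cExt c) (T.sim k) = 1 := by
    intro k hk
    obtain ⟨j, hj⟩ := Q.cover k hk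
    have hO := Q.O j
    have h1 := conj_px V (isCh_cc V V2 (cExt c)) (f := T.sim) (L := chainL π (Q.i0 j) (Q.k j)) (fun a ha => sim_lt' V V2 V3 (hO.hlt a ha)) (fun _ => (1 : F))
    have h2 := hc j
    unfold dgC at h2
    rw [h1] at h2
    have h3 := mul_right_cancel h2
    have h4 := px_inj' V V2 V3 V4 hO h3 k hj
    simp only [mul_one] at h4
    exact Units.ext h4
  have h5 : c ∈ (phiH (F := F) V V2 V3).ker := by
    rw [phiH_ker, MonoidHom.mem_ker]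
    funext k
    rw [← cc_sim V V2 V3]
    exact hsim k.1 k.2
  have h6 : phiH (F := F) V V2 V3 c = 1 := h5
  exact congrArg Subtype.val h6

/-- The normal core of the Borel subgroup of the fixed point group is trivial. -/
theorem core_bot [Finite F] : ((D.borelSubgroup F ⊓ (orbFix V V2 V3 V4 G φ Q hε).G1).subgroupOf (orbFix V V2 V3 V4 G φ Q hε).G1).normalCore = ⊥ := by
  set W' := orbFix V V2 V3 V4 G φ Q hε with hW'
  set Z := ((D.borelSubgroup F ⊓ W'.G1).subgroupOf W'.G1).normalCore with hZ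
  have hZB : ∀ z ∈ Z, ((z : ↥W'.G1) : GL D.Idx F) ∈ D.borelSubgroup F := by
    intro z hz
    exact (W'.mem_sof V4).mp (Subgroup.normalCore_le _ hz)
  -- everything in the core is diagonal
  obtain ⟨m0, hm0G, htop⟩ := exists_top W' V4
  have hZH : ∀ z ∈ Z, ((z : ↥W'.G1) : GL D.Idx F) ∈ D.diagonalSubgroup F := by
    intro z hz
    set g : ↥W'.G1 := ⟨m0, hm0G⟩ with hg
    have h1 : g⁻¹ * z * g⁻¹⁻¹ ∈ Z := (inferInstance : Z.Normal).conj_mem z hz g⁻¹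
    have h2 := hZB _ h1
    obtain ⟨u, hu, h, hh, e⟩ := B_form V V2 V3 h2
    have e1 : ((z : ↥W'.G1) : GL D.Idx F) = (m0 : GL D.Idx F) * (u * h) * (m0 : GL D.Idx F)⁻¹ := by
      rw [← e]
      show _ = (m0 : GL D.Idx F) * ((m0 : GL D.Idx F)⁻¹ * (z : GL D.Idx F) * ((m0 : GL D.Idx F)⁻¹)⁻¹) * (m0 : GL D.Idx F)⁻¹
      group
    have h3 : (m0 : GL D.Idx F) * u * (m0 : GL D.Idx F)⁻¹ ∈ D.negUnipotent F := top_conj W' V4 htop hu
    have h4 : (m0 : GL D.Idx F) * h * (m0 : GL D.Idx F)⁻¹ ∈ D.diagonalSubgroup F := normalizer_conj_mem (N_le_normalizer_H V V2 V3 m0.2) hh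
    have h5 : ((z : ↥W'.G1) : GL D.Idx F) ∈ D.negUnipotent F ⊔ D.diagonalSubgroup F := by
      rw [e1]
      have e2 : (m0 : GL D.Idx F) * (u * h) * (m0 : GL D.Idx F)⁻¹ = ((m0 : GL D.Idx F) * u * (m0 : GL D.Idx F)⁻¹) * ((m0 : GL D.Idx F) * h * (m0 : GL D.Idx F)⁻¹) := by group
      rw [e2]
      exact Subgroup.mul_mem _ (Subgroup.mem_sup_left h3) (Subgroup.mem_sup_right h4)
    have h6 : ((z : ↥W'.G1) : GL D.Idx F) ∈ D.borelSubgroup F ⊓ (D.negUnipotent F ⊔ D.diagonalSubgroup F) := ⟨hZB z hz, h5⟩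
    rwa [B_inf_VH V V2 V3] at h6
  rw [eq_bot_iff]
  intro z hz
  rw [Subgroup.mem_bot]
  apply Subtype.ext
  show ((z : ↥W'.G1) : GL D.Idx F) = 1
  apply trivial_of_comm V V2 V3 V4 Q (hZH z hz)
  intro j
  set y := px V T.sim (chainL π (Q.i0 j) (Q.k j)) (fun _ => (1 : F)) with hy
  have hyw : y = wordU V (eWg T.sim φ (chainL π (Q.i0 j) (Q.k j)) 1) := (eW_const V V2 V3 V4 φ (map_one φ) _).symm
  have hyG : y ∈ W'.Yp j := by
    rw [hyw]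
    exact (mem_Yp V V2 V3 V4 G φ Q hε).mpr ⟨1, Function.iterate_fixed (by simp) _, rfl⟩
  have hyG1 : y ∈ W'.G1 := W'.Yp_le j hyG
  have hyU : y ∈ D.posUnipotent F := XP_le_U V V2 V3 V4 _ hyG.1
  have h1 : (⟨y, hyG1⟩ : ↥W'.G1) * z⁻¹ * (⟨y, hyG1⟩ : ↥W'.G1)⁻¹ ∈ Z := (inferInstance : Z.Normal).conj_mem _ (Subgroup.inv_mem _ hz) _
  have h2 := hZH _ h1
  have h3 : ((z : ↥W'.G1) : GL D.Idx F) * (y * ((z : ↥W'.G1) : GL D.Idx F)⁻¹ * y⁻¹) ∈ D.diagonalSubgroup F :=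
    Subgroup.mul_mem _ (hZH z hz) h2
  have h4 : ((z : ↥W'.G1) : GL D.Idx F) * y * ((z : ↥W'.G1) : GL D.Idx F)⁻¹ ∈ D.posUnipotent F :=
    normalizer_conj_mem (H_le_normalizer_U V V2 V3 (hZH z hz)) hyU
  have h5 : ((z : ↥W'.G1) : GL D.Idx F) * y * ((z : ↥W'.G1) : GL D.Idx F)⁻¹ * y⁻¹ ∈ D.posUnipotent F ⊓ D.diagonalSubgroup F := by
    refine ⟨Subgroup.mul_mem _ h4 (Subgroup.inv_mem _ hyU), ?_⟩
    have e : ((z : ↥W'.G1) : GL D.Idx F) * y * ((z : ↥W'.G1) : GL D.Idx F)⁻¹ * y⁻¹ = ((z : ↥W'.G1) : GL D.Idx F) * (y * ((z : ↥W'.G1) : GL D.Idx F)⁻¹ * y⁻¹) := by group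
    rw [e]
    exact h3
  rw [U_inf_H V V2 V3, Subgroup.mem_bot] at h5
  have h6 : ((z : ↥W'.G1) : GL D.Idx F) * y * ((z : ↥W'.G1) : GL D.Idx F)⁻¹ = y := by
    have := mul_inv_eq_one.mp h5
    exact this
  exact mul_inv_eq_iff_eq_mul.mp h6

end orb

section irr
variable {V : Valid D T} {V2 : Valid2 D T C} {V3 : Valid3 T C X} {ι : Type} (W' : ChevTw2.TwFix V V2 V3 F ι) (V4 : Valid4 D T C Y)
include V4

/-- A chain-connected Weyl group gives an irreducible pair. -/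
theorem irreducibleT {n : ℕ} (e : Fin n ≃ ι) {gen : ι → List ℕ} (M : ℕ → ℕ)
    (hgen : ∀ j, ∀ r < T.n, rho1 W' V4 (xj W' V4 j) r = wact T (gen j) r)
    (hM : ∀ (i : ℕ) (hi : i + 1 < n), 3 ≤ M i ∧ ordW T (gen (e ⟨i, by omega⟩) ++ gen (e ⟨i + 1, hi⟩)) (M i) = true) :
    (W'.bn V4).Irreducible := by
  intro J hJ hJ1 hJ2
  by_contra hcon
  push Not at hcon
  set A : Fin n → Prop := fun i => (sj W' V4 (e i)).1 ∈ J with hA
  have hstep : ∀ (i : ℕ) (hi : i + 1 < n), (A ⟨i, by omega⟩ ↔ A ⟨i + 1, hi⟩) := by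
    intro i hi
    have hu : ∀ r < T.n, rho1 W' V4 (xj W' V4 (e ⟨i, by omega⟩) * xj W' V4 (e ⟨i + 1, hi⟩)) r = wact T (gen (e ⟨i, by omega⟩) ++ gen (e ⟨i + 1, hi⟩)) r := by
      intro r hr
      have h3 : ∀ (M' L : List ℕ) (b : ℕ), wact T (M' ++ L) b = wact T M' (wact T L b) := by
        intro M' L b
        induction M' with
        | nil => simp [wact_nil]
        | cons c M' ih2 => simp only [List.cons_append, wact_cons, ih2]
      rw [map_mul, Equiv.Perm.mul_apply, h3, hgen _ _ (rho1_lt W' V4 _ hr), hgen _ r hr]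
    have hord := order_u W' V4 hu (hM i hi).2
    have hnc : ∀ (a b : W (W'.bn V4)), a = xj W' V4 (e ⟨i, by omega⟩) → b = xj W' V4 (e ⟨i + 1, hi⟩) → a * b ≠ b * a := by
      rintro a b rfl rfl hab
      have hsq1 : xj W' V4 (e ⟨i, by omega⟩) * xj W' V4 (e ⟨i, by omega⟩) = 1 := Sb_mul_self (xj_mem W' V4 _)
      have hsq2 : xj W' V4 (e ⟨i + 1, hi⟩) * xj W' V4 (e ⟨i + 1, hi⟩) = 1 := Sb_mul_self (xj_mem W' V4 _)
      have h4 : (xj W' V4 (e ⟨i, by omega⟩) * xj W' V4 (e ⟨i + 1, hi⟩)) ^ 2 = 1 := by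
        rw [sq, mul_assoc, ← mul_assoc (xj W' V4 (e ⟨i + 1, hi⟩)), ← hab, mul_assoc, hsq2, mul_one, hsq1]
      have h5 := orderOf_dvd_of_pow_eq_one h4
      rw [hord] at h5
      have h6 := Nat.le_of_dvd (by norm_num) h5
      have h7 := (hM i hi).1
      omega
    -- two elements of `S` on different sides commute modulo `B`
    have hcomm : ∀ (a b : ι), (sj W' V4 a).1 ∈ J → (sj W' V4 b).1 ∉ J → xj W' V4 a * xj W' V4 b = xj W' V4 b * xj W' V4 a := by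
      intro a b ha hb
      have h1 := hcon _ ha _ ⟨(sj W' V4 b).2, hb⟩
      have h2 : mk (W'.bn V4) (ofM W' V4 (W'.nj V4 a) (W'.nj_mem V4 a) * ofM W' V4 (W'.nj V4 b) (W'.nj_mem V4 b) * (ofM W' V4 (W'.nj V4 a) (W'.nj_mem V4 a))⁻¹ * (ofM W' V4 (W'.nj V4 b) (W'.nj_mem V4 b))⁻¹) = 1 := by
        rw [mk_eq_one_iff]
        exact h1
      rw [map_mul, map_mul, map_mul, map_inv, map_inv] at h2
      have h3 : xj W' V4 a * xj W' V4 b * (xj W' V4 a)⁻¹ * (xj W' V4 b)⁻¹ = 1 := h2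
      have h4 := mul_inv_eq_one.mp h3
      have h5 := mul_inv_eq_iff_eq_mul.mp h4
      exact h5
    constructor
    · intro h1
      by_contra h2
      exact hnc _ _ rfl rfl (hcomm _ _ h1 h2)
    · intro h1
      by_contra h2
      exact hnc _ _ rfl rfl (hcomm _ _ h1 h2).symm
  have hall : ∀ (i : ℕ) (hi : i < n) (h0 : 0 < n), (A ⟨i, hi⟩ ↔ A ⟨0, h0⟩) := by
    intro i
    induction i with
    | zero => intro _ _; rfl
    | succ i ih =>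
      intro hi h0
      rw [← hstep i hi]
      exact ih _ h0
  obtain ⟨g, hg⟩ := hJ1
  obtain ⟨g', hg', hg'2⟩ := hJ2
  have hof : ∀ s : (W'.bn V4).S, ∃ i : Fin n, (sj W' V4 (e i)).1 = s.1 := by
    intro s
    obtain ⟨i, hi⟩ := (eFinT W' V4 e).surjective s
    exact ⟨i, congrArg Subtype.val hi⟩
  obtain ⟨i, hi⟩ := hof ⟨g, hJ hg⟩
  obtain ⟨i', hi'⟩ := hof ⟨g', hg'⟩
  have hn : 0 < n := by
    have := i.2
    omega
  have h1 : A i := by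
    show (sj W' V4 (e i)).1 ∈ J
    rw [hi]
    exact hg
  have h2 : ¬ A i' := by
    show ¬ (sj W' V4 (e i')).1 ∈ J
    rw [hi']
    exact hg'2
  have e1 := hall i.1 i.2 hn
  have e2 := hall i'.1 i'.2 hn
  exact h2 (e2.mpr (e1.mp h1))

end irr

end Cfsg.Agent.Lib.ChevTw19
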