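import Cfsg.Agent.Lib.ChevTw1

/-! Twisted groups, step 2: subgroups of fixed points of a group of Lie type, (B,N)-pair. -/

set_option autoImplicit false
set_option linter.unusedVariables false
set_option linter.unusedSectionVars false
set_option linter.unusedFintypeInType false
set_option linter.unusedDecidableInType false

namespace Cfsg.Agent.Lib.ChevTw2

open Cfsg.Lie Matrix Cfsg.Agent.Lib.ChevEngine Cfsg.Agent.Lib.ChevTab Cfsg.Agent.Lib.ChevMono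
  Cfsg.Agent.Lib.ChevRel Cfsg.Agent.Lib.ChevValid Cfsg.Agent.Lib.ChevGL Cfsg.Agent.Lib.ChevGrad Cfsg.Agent.Lib.ChevL2
  Cfsg.Agent.Lib.ChevU Cfsg.Agent.Lib.ChevU2 Cfsg.Agent.Lib.ChevU3 Cfsg.Agent.Lib.ChevDiag Cfsg.Agent.Lib.ChevV3
  Cfsg.Agent.Lib.ChevH Cfsg.Agent.Lib.ChevN Cfsg.Agent.Lib.ChevN2 Cfsg.Agent.Lib.ChevN3 Cfsg.Agent.Lib.ChevBN Cfsg.Agent.Lib.ChevBN2
  Cfsg.Agent.Lib.ChevV4 Cfsg.Agent.Lib.ChevSimp Cfsg.Agent.Lib.ChevSimp2 Cfsg.Agent.Lib.ChevPar Cfsg.Agent.Lib.ChevV5 Cfsg.Agent.Lib.ChevPar2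
  Cfsg.Agent.Lib.ChevPar3 Cfsg.Agent.Lib.BNPair Cfsg.Agent.Lib.BNCount Cfsg.Agent.Lib.ChevW1 Cfsg.Agent.Lib.ChevW2 Cfsg.Agent.Lib.ChevTw1

variable {D : ChevalleyDatum} {T : Tb} {C : Tc} {X : Tc3} {Y : Tc4} {F : Type*} [Field F]

/-- The abstract properties of the fixed points of an automorphism. -/
structure TwFix (V : Valid D T) (V2 : Valid2 D T C) (V3 : Valid3 T C X) (F : Type*) [Field F] (ι : Type) where
  Fix : Subgroup (GL D.Idx F)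
  A : ι → Set ℕ
  ρ : ℕ → ℕ
  π : ℕ → ℕ
  fix_le : Fix ≤ D.group F
  fix_UN : ∀ {x m : GL D.Idx F}, x ∈ D.posUnipotent F → m ∈ D.monomialSubgroup F → x * m ∈ Fix → x ∈ Fix ∧ m ∈ Fix
  fix_canon : ∀ {b m u : GL D.Idx F}, b ∈ D.borelSubgroup F → m ∈ D.monomialSubgroup F → u ∈ Um D F m → b * m * u ∈ Fix → u ∈ Fix
  fix_levi : ∀ (j : ι) {x r : GL D.Idx F}, x ∈ XP V C F (A j) → r ∈ D.unipotentRadical F (A j) → x * r ∈ Fix → x ∈ Fix ∧ r ∈ Fix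
  fix_comm : ∀ m : ↥(D.monomialSubgroup F), (m : GL D.Idx F) ∈ Fix → ∀ r < T.n, rho0 V V2 V3 m (ρ r) = ρ (rho0 V V2 V3 m r)
  ρ_pos : ∀ r, T.n / 2 ≤ r → r < T.n → T.n / 2 ≤ ρ r
  ρ_neg : ∀ r, r < T.n / 2 → ρ r < T.n / 2
  ρ_sim : ∀ i < T.l, ρ (T.sim i) = T.sim (π i)
  A_lt : ∀ j, ∀ i ∈ A j, i < T.l
  π_A : ∀ j, ∀ i ∈ A j, π i ∈ A j
  A_trans : ∀ j, ∀ i ∈ A j, ∀ i' ∈ A j, ∃ e : ℕ, π^[e] i = i'
  A_cover : ∀ i < T.l, ∃ j, i ∈ A j
  A_disj : ∀ i j j', i ∈ A j → i ∈ A j' → j = j'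
  A_ne : ∀ j, (A j).Nonempty
  Yn_ne : ∀ j, ∃ y ∈ XM V C F (A j), y ∈ Fix ∧ y ≠ 1

namespace TwFix

variable {V : Valid D T} {V2 : Valid2 D T C} {V3 : Valid3 T C X} {ι : Type} (W : TwFix V V2 V3 F ι)

/-- the fixed points in the positive part of the subsystem -/
noncomputable def Yp (j : ι) : Subgroup (GL D.Idx F) := XP V C F (W.A j) ⊓ W.Fix

/-- the fixed points in the negative part of the subsystem -/
noncomputable def Ym (j : ι) : Subgroup (GL D.Idx F) := XM V C F (W.A j) ⊓ W.Fix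

/-- the group generated by these -/
noncomputable def G1 : Subgroup (GL D.Idx F) := Subgroup.closure (⋃ j, ((W.Yp j : Set (GL D.Idx F)) ∪ (W.Ym j : Set (GL D.Idx F))))

theorem Yp_le (j : ι) : W.Yp j ≤ W.G1 := fun _ h => Subgroup.subset_closure (Set.mem_iUnion.2 ⟨j, Or.inl h⟩)
theorem Ym_le (j : ι) : W.Ym j ≤ W.G1 := fun _ h => Subgroup.subset_closure (Set.mem_iUnion.2 ⟨j, Or.inr h⟩)

theorem G1_le_Fix : W.G1 ≤ W.Fix := by
  unfold G1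
  rw [Subgroup.closure_le]
  intro g hg
  obtain ⟨j, h | h⟩ := Set.mem_iUnion.1 hg
  · exact h.2
  · exact h.2

theorem G1_le_G : W.G1 ≤ D.group F := W.G1_le_Fix.trans W.fix_le

variable (V4 : Valid4 D T C Y)
include V4

theorem sign_const (j : ι) (m : ↥(D.monomialSubgroup F)) (hm : (m : GL D.Idx F) ∈ W.Fix) {i : ℕ} (hi : i ∈ W.A j) (e : ℕ) :
    (T.n / 2 ≤ rho0 V V2 V3 m (T.sim i) → T.n / 2 ≤ rho0 V V2 V3 m (T.sim (W.π^[e] i))) ∧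
    (rho0 V V2 V3 m (T.sim i) < T.n / 2 → rho0 V V2 V3 m (T.sim (W.π^[e] i)) < T.n / 2) ∧ W.π^[e] i ∈ W.A j := by
  induction e with
  | zero => exact ⟨id, id, hi⟩
  | succ e ih =>
    obtain ⟨h1, h2, h3⟩ := ih
    have hl := W.A_lt j _ h3
    have hs := sim_lt' V V2 V3 hl
    rw [Function.iterate_succ_apply']
    have e1 : rho0 V V2 V3 m (T.sim (W.π (W.π^[e] i))) = W.ρ (rho0 V V2 V3 m (T.sim (W.π^[e] i))) := by
      rw [← W.ρ_sim _ hl, W.fix_comm m hm _ hs]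
    refine ⟨fun h => ?_, fun h => ?_, W.π_A j _ h3⟩
    · rw [e1]
      exact W.ρ_pos _ (h1 h) (rho0_lt V V2 V3 m hs)
    · rw [e1]
      exact W.ρ_neg _ (h2 h)

/-- The dichotomy for fixed elements of `N`. -/
theorem dichotomy (j : ι) (m : ↥(D.monomialSubgroup F)) (hm : (m : GL D.Idx F) ∈ W.Fix) :
    PosOn V V2 V3 (W.A j) m ∨ NegOn V V2 V3 (W.A j) m := by
  obtain ⟨i0, hi0⟩ := W.A_ne j
  by_cases h : T.n / 2 ≤ rho0 V V2 V3 m (T.sim i0)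
  · left
    apply posOn_of_sim V V2 V3 V4
    intro i hi _
    obtain ⟨e, rfl⟩ := W.A_trans j i0 hi0 i hi
    exact (W.sign_const V4 j m hm hi0 e).1 h
  · right
    apply negOn_of_sim V V2 V3 V4
    intro i hi _
    obtain ⟨e, rfl⟩ := W.A_trans j i0 hi0 i hi
    exact (W.sign_const V4 j m hm hi0 e).2.1 (by omega)

include W in
/-- An element of `N ∩ P_J` positive on the subsystem lies in `H`. -/
theorem H_of_par_pos {J : Set ℕ} (m : ↥(D.monomialSubgroup F)) (hp : (m : GL D.Idx F) ∈ D.parabolicSubgroup F J) (h : PosOn V V2 V3 J m) :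
    (m : GL D.Idx F) ∈ D.diagonalSubgroup F := by
  apply H_of_sim_pos V V2 V3 V4
  intro i hi
  have hs := sim_lt' V V2 V3 hi
  by_cases hiJ : i ∈ J
  · exact h _ ⟨sim_pos V V2 hi, hs, sim_inJ V V2 V3 hiJ hi⟩
  · refine (par_QJ V V2 V3 V4 m hp (r := T.sim i) ⟨sim_pos V V2 hi, hs, fun h4 => ?_⟩).1
    have := h4 i hi hiJ
    rw [sim_coef V2 hi] at this
    omega

include W in
/-- `Um n ≤ X_J⁺` for `n ∈ P_J`. -/
theorem Um_le_XP {J : Set ℕ} (n : ↥(D.monomialSubgroup F)) (hp : (n : GL D.Idx F) ∈ D.parabolicSubgroup F J) :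
    Um D F (n : GL D.Idx F) ≤ XP V C F J := by
  unfold Um
  rw [Subgroup.closure_le]
  rintro x ⟨r, t, h1, h2, h3⟩
  rw [eq_xU V h3]
  obtain ⟨h4, h5⟩ := (isPos_iff V V2 r).mp h1
  have h5' : r < T.n := by rw [V.hn]; exact h5
  have hin : InJ C T.l J r := by
    by_contra hc
    have h6 := (par_QJ V V2 V3 V4 n hp ⟨h4, h5', hc⟩)
    obtain ⟨c, hc, e⟩ := conj_x V V2 V3 V4 n h5'
    have h7 : xU V r 1 ∈ D.rootSubgroup F r := (mem_rootSubgroup V).mpr ⟨1, rfl⟩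
    have h8 : (n : GL D.Idx F) * xU V r 1 * (n : GL D.Idx F)⁻¹ ∈ D.negUnipotent F := h2 ⟨_, h7, rfl⟩
    rw [e] at h8
    have h9 : xU V (rho0 V V2 V3 n r) (c * 1) ∈ D.borelSubgroup F ⊓ D.negUnipotent F := ⟨U_le_B V V2 V3 (xU_mem_U V V2 V3 h6.1 h6.2.1 _), h8⟩
    rw [B_inf_V V V2 V3, Subgroup.mem_bot] at h9
    exact xU_ne_one V V2 V3 V4 h6.2.1 (by simpa using hc) h9
  exact Subgroup.subset_closure ⟨r, t, ⟨h4, h5', hin⟩, rfl⟩

/-- The rank one analysis. -/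
theorem rank_one (j : ι) {y : GL D.Idx F} (hy : y ∈ W.Ym j) (hy1 : y ≠ 1) :
    ∃ a ∈ W.Yp j, ∃ b ∈ W.Yp j, ∃ m : ↥(D.monomialSubgroup F), (m : GL D.Idx F) ∈ W.G1 ∧ IsW V V2 V3 (W.A j) m ∧ y = a * m * b := by
  obtain ⟨hyX, hyF⟩ := hy
  have hyP : y ∈ D.parabolicSubgroup F (W.A j) := L_le_P V V2 V3 V4 _ (XM_le_L V V2 V3 V4 _ hyX)
  have hyV : y ∈ D.negUnipotent F := XM_le_V V V2 V3 V4 _ hyX
  obtain ⟨b0, hb0, n, hn, u, hu, e⟩ := canon_exists V V2 V3 (W.fix_le hyF)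
  have huF : u ∈ W.Fix := W.fix_canon hb0 hn hu (e ▸ hyF)
  obtain ⟨x, hx, h, hh, rfl⟩ := B_form V V2 V3 hb0
  have hmN : h * n ∈ D.monomialSubgroup F := Subgroup.mul_mem _ (H_le_N V V2 V3 hh) hn
  have e1 : x * (h * n) = y * u⁻¹ := by rw [e]; group
  have hF := W.fix_UN hx hmN (by rw [e1]; exact Subgroup.mul_mem _ hyF (Subgroup.inv_mem _ huF))
  have hxP : x ∈ D.parabolicSubgroup F (W.A j) := B_le_P V V2 V3 V4 _ (U_le_B V V2 V3 hx)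
  have huU := Um_le_U V V2 V3 n hu
  have huP : u ∈ D.parabolicSubgroup F (W.A j) := B_le_P V V2 V3 V4 _ (U_le_B V V2 V3 huU)
  have hhP : h ∈ D.parabolicSubgroup F (W.A j) := B_le_P V V2 V3 V4 _ (H_le_B V V2 V3 hh)
  have e2 : h * n = x⁻¹ * y * u⁻¹ := by rw [e]; group
  have hmP : h * n ∈ D.parabolicSubgroup F (W.A j) := by
    rw [e2]
    exact Subgroup.mul_mem _ (Subgroup.mul_mem _ (Subgroup.inv_mem _ hxP) hyP) (Subgroup.inv_mem _ huP)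
  have hnP : n ∈ D.parabolicSubgroup F (W.A j) := by
    have : n = h⁻¹ * (h * n) := by group
    rw [this]
    exact Subgroup.mul_mem _ (Subgroup.inv_mem _ hhP) hmP
  have huX : u ∈ XP V C F (W.A j) := W.Um_le_XP V4 ⟨n, hn⟩ hnP hu
  set m : ↥(D.monomialSubgroup F) := ⟨h * n, hmN⟩ with hm
  have hmL : (m : GL D.Idx F) ∈ D.leviSubgroup F (W.A j) := N_inf_P_le_L V V2 V3 V4 _ m rfl hmP
  obtain ⟨a, ha, r, hr, e3⟩ := U_factor V V2 V3 V4 (W.A j) hx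
  have hr1 : r = 1 := by
    have h1 : r = a⁻¹ * (y * u⁻¹ * (m : GL D.Idx F)⁻¹) := by
      rw [← e1, e3]
      show r = a⁻¹ * (a * r * (h * n) * (h * n)⁻¹)
      group
    have h2 : r ∈ D.unipotentRadical F (W.A j) ⊓ D.leviSubgroup F (W.A j) := by
      refine ⟨hr, ?_⟩
      rw [h1]
      exact Subgroup.mul_mem _ (Subgroup.inv_mem _ (XP_le_L V V2 V3 V4 _ ha))
        (Subgroup.mul_mem _ (Subgroup.mul_mem _ (XM_le_L V V2 V3 V4 _ hyX) (Subgroup.inv_mem _ (XP_le_L V V2 V3 V4 _ huX))) (Subgroup.inv_mem _ hmL))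
    rw [radical_inf_levi V V2 V3 V4, Subgroup.mem_bot] at h2
    exact h2
  have hxa : x = a := by rw [e3, hr1, mul_one]
  subst hxa
  have hnotH : (m : GL D.Idx F) ∉ D.diagonalSubgroup F := by
    intro hc
    have h1 : y ∈ D.borelSubgroup F ⊓ D.negUnipotent F := by
      refine ⟨?_, hyV⟩
      rw [e]
      have : x * h * n * u = x * (h * n) * u := by group
      rw [this]
      exact Subgroup.mul_mem _ (Subgroup.mul_mem _ (U_le_B V V2 V3 hx) (H_le_B V V2 V3 hc)) (U_le_B V V2 V3 huU)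
    rw [B_inf_V V V2 V3, Subgroup.mem_bot] at h1
    exact hy1 h1
  have hmF : (m : GL D.Idx F) ∈ W.Fix := hF.2
  have hN1 : NegOn V V2 V3 (W.A j) m := by
    rcases W.dichotomy V4 j m hmF with h1 | h1
    · exact absurd (W.H_of_par_pos V4 m hmP h1) hnotH
    · exact h1
  have hN2 : NegOn V V2 V3 (W.A j) m⁻¹ := by
    rcases W.dichotomy V4 j m⁻¹ (Subgroup.inv_mem _ hmF) with h1 | h1
    · exfalso
      apply hnotH
      have := W.H_of_par_pos V4 m⁻¹ (Subgroup.inv_mem _ hmP) h1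
      have h3 := Subgroup.inv_mem _ this
      simpa using h3
    · exact h1
  have hW : IsW V V2 V3 (W.A j) m := ⟨flip_of_par V V2 V3 V4 hmP hN1, flip_of_par V V2 V3 V4 (Subgroup.inv_mem _ hmP) hN2⟩
  have hxY : x ∈ W.Yp j := ⟨ha, hF.1⟩
  have huY : u ∈ W.Yp j := ⟨huX, huF⟩
  refine ⟨x, hxY, u, huY, m, ?_, hW, ?_⟩
  · have e4 : (m : GL D.Idx F) = x⁻¹ * y * u⁻¹ := e2
    rw [e4]
    exact Subgroup.mul_mem _ (Subgroup.mul_mem _ (Subgroup.inv_mem _ (W.Yp_le j hxY)) (W.Ym_le j ⟨hyX, hyF⟩)) (Subgroup.inv_mem _ (W.Yp_le j huY))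
  · rw [e]
    show x * h * n * u = x * (h * n) * u
    group

/-- Conjugation by a flip. -/
theorem conj_Yp {j : ι} {n : ↥(D.monomialSubgroup F)} (hn : Flip V V2 V3 (W.A j) n) (hnF : (n : GL D.Idx F) ∈ W.Fix) {x : GL D.Idx F} (hx : x ∈ W.Yp j) :
    (n : GL D.Idx F) * x * (n : GL D.Idx F)⁻¹ ∈ W.Ym j :=
  ⟨conj_XP_flip V V2 V3 V4 hn hx.1, Subgroup.mul_mem _ (Subgroup.mul_mem _ hnF hx.2) (Subgroup.inv_mem _ hnF)⟩

/-- The double coset form. -/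
def SS : Set (GL D.Idx F) :=
  {g | ∃ u ∈ D.posUnipotent F ⊓ W.G1, ∃ m : ↥(D.monomialSubgroup F), (m : GL D.Idx F) ∈ W.G1 ∧ ∃ u' ∈ D.posUnipotent F ⊓ W.G1, g = u * m * u'}

theorem conj_pos_mem {j : ι} {m : ↥(D.monomialSubgroup F)} (hm : (m : GL D.Idx F) ∈ W.G1) (h : PosOn V V2 V3 (W.A j) m) {a : GL D.Idx F} (ha : a ∈ W.Yp j) :
    (m : GL D.Idx F) * a * (m : GL D.Idx F)⁻¹ ∈ D.posUnipotent F ⊓ W.G1 :=
  ⟨conj_XP_pos V V2 V3 V4 h ha.1, Subgroup.mul_mem _ (Subgroup.mul_mem _ hm (W.Yp_le j ha)) (Subgroup.inv_mem _ hm)⟩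

theorem key_mem {j : ι} {m n : ↥(D.monomialSubgroup F)} (hm : (m : GL D.Idx F) ∈ W.G1) (hn : (n : GL D.Idx F) ∈ W.G1) (hW : IsW V V2 V3 (W.A j) n)
    {a : GL D.Idx F} (ha : a ∈ W.Yp j) : (m : GL D.Idx F) * a * (n : GL D.Idx F) ∈ W.SS := by
  have h1G : (1 : GL D.Idx F) ∈ D.posUnipotent F ⊓ W.G1 := Subgroup.one_mem _
  have hmn : ((m * n : ↥(D.monomialSubgroup F)) : GL D.Idx F) ∈ W.G1 := Subgroup.mul_mem _ hm hn
  rcases W.dichotomy V4 j m (W.G1_le_Fix hm) with h | h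
  · refine ⟨_, W.conj_pos_mem V4 hm h ha, m * n, hmn, 1, h1G, ?_⟩
    show (m : GL D.Idx F) * a * (n : GL D.Idx F) = (m : GL D.Idx F) * a * (m : GL D.Idx F)⁻¹ * ((m : GL D.Idx F) * (n : GL D.Idx F)) * 1
    group
  · have hinv : (n : GL D.Idx F)⁻¹ ∈ W.Fix := Subgroup.inv_mem _ (W.G1_le_Fix hn)
    have ha'' : ((n⁻¹ : ↥(D.monomialSubgroup F)) : GL D.Idx F) * a * ((n⁻¹ : ↥(D.monomialSubgroup F)) : GL D.Idx F)⁻¹ ∈ W.Ym j :=
      W.conj_Yp V4 hW.2 hinv ha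
    have hP := posOn_mul_isW V V2 V3 V4 h hW.1
    set a2 := ((n⁻¹ : ↥(D.monomialSubgroup F)) : GL D.Idx F) * a * ((n⁻¹ : ↥(D.monomialSubgroup F)) : GL D.Idx F)⁻¹ with ha2
    have e : (m : GL D.Idx F) * a * (n : GL D.Idx F) = ((m * n : ↥(D.monomialSubgroup F)) : GL D.Idx F) * a2 := by
      rw [ha2]
      show (m : GL D.Idx F) * a * (n : GL D.Idx F) = (m : GL D.Idx F) * (n : GL D.Idx F) * ((n : GL D.Idx F)⁻¹ * a * ((n : GL D.Idx F)⁻¹)⁻¹)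
      group
    rw [e]
    by_cases h1 : a2 = 1
    · refine ⟨1, h1G, m * n, hmn, 1, h1G, ?_⟩
      rw [h1]
      simp
    · obtain ⟨a1, ha1, b1, hb1, n1, hn1, hW1, e1⟩ := W.rank_one V4 j ha'' h1
      refine ⟨_, W.conj_pos_mem V4 hmn hP ha1, (m * n) * n1, Subgroup.mul_mem _ hmn hn1, b1, ⟨XP_le_U V V2 V3 V4 _ hb1.1, W.Yp_le j hb1⟩, ?_⟩
      rw [e1]
      show ((m * n : ↥(D.monomialSubgroup F)) : GL D.Idx F) * (a1 * n1 * b1) = ((m * n : ↥(D.monomialSubgroup F)) : GL D.Idx F) * a1 * ((m * n : ↥(D.monomialSubgroup F)) : GL D.Idx F)⁻¹ * (((m * n : ↥(D.monomialSubgroup F)) : GL D.Idx F) * n1) * b1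
      group

/-- Stability under the generators. -/
theorem SS_mul_Ym {j : ι} {g y : GL D.Idx F} (hg : g ∈ W.SS) (hy : y ∈ W.Ym j) : g * y ∈ W.SS := by
  obtain ⟨u, hu, m, hm, u', hu', rfl⟩ := hg
  obtain ⟨x, hx, r, hr, e⟩ := U_factor V V2 V3 V4 (W.A j) hu'.1
  have hF := W.fix_levi j hx hr (by rw [← e]; exact W.G1_le_Fix hu'.2)
  have hxY : x ∈ W.Yp j := ⟨hx, hF.1⟩
  have hrG : r ∈ W.G1 := by
    have : r = x⁻¹ * u' := by rw [e]; group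
    rw [this]
    exact Subgroup.mul_mem _ (Subgroup.inv_mem _ (W.Yp_le j hxY)) hu'.2
  have hyG := W.Ym_le j hy
  have hyP : y ∈ D.parabolicSubgroup F (W.A j) := L_le_P V V2 V3 V4 _ (XM_le_L V V2 V3 V4 _ hy.1)
  have hr' : y⁻¹ * r * y ∈ D.posUnipotent F ⊓ W.G1 := by
    refine ⟨R_le_U V V2 V3 V4 (W.A j) ?_, Subgroup.mul_mem _ (Subgroup.mul_mem _ (Subgroup.inv_mem _ hyG) hrG) hyG⟩
    have := normalizer_conj_mem (par_le_normalizer V V2 V3 V4 _ (Subgroup.inv_mem _ hyP)) hr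
    simpa using this
  -- first the product `m * x * y`
  have key : (m : GL D.Idx F) * (x * y) ∈ W.SS := by
    by_cases h1 : y = 1
    · rw [h1, mul_one]
      refine ⟨1, Subgroup.one_mem _, m, hm, x, ⟨XP_le_U V V2 V3 V4 _ hx, W.Yp_le j hxY⟩, by simp⟩
    · obtain ⟨a, ha, b, hb, n, hn, hW, e1⟩ := W.rank_one V4 j hy h1
      obtain ⟨u1, hu1, m1, hm1, u2, hu2, e2⟩ := W.key_mem V4 hm hn hW (Subgroup.mul_mem _ hxY ha)
      refine ⟨u1, hu1, m1, hm1, u2 * b, Subgroup.mul_mem _ hu2 ⟨XP_le_U V V2 V3 V4 _ hb.1, W.Yp_le j hb⟩, ?_⟩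
      rw [e1]
      calc (m : GL D.Idx F) * (x * (a * n * b)) = (m : GL D.Idx F) * (x * a) * n * b := by group
        _ = u1 * m1 * u2 * b := by rw [e2]
        _ = _ := by group
  obtain ⟨u1, hu1, m1, hm1, u2, hu2, e2⟩ := key
  refine ⟨u * u1, Subgroup.mul_mem _ hu hu1, m1, hm1, u2 * (y⁻¹ * r * y), Subgroup.mul_mem _ hu2 hr', ?_⟩
  rw [e]
  calc u * m * (x * r) * y = u * ((m : GL D.Idx F) * (x * y)) * (y⁻¹ * r * y) := by group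
    _ = u * (u1 * m1 * u2) * (y⁻¹ * r * y) := by rw [e2]
    _ = _ := by group

theorem SS_mul_Yp {j : ι} {g y : GL D.Idx F} (hg : g ∈ W.SS) (hy : y ∈ W.Yp j) : g * y ∈ W.SS := by
  obtain ⟨u, hu, m, hm, u', hu', rfl⟩ := hg
  exact ⟨u, hu, m, hm, u' * y, Subgroup.mul_mem _ hu' ⟨XP_le_U V V2 V3 V4 _ hy.1, W.Yp_le j hy⟩, by group⟩

/-- The form of the elements of `G1`. -/
theorem G1_form {g : GL D.Idx F} (hg : g ∈ W.G1) : g ∈ W.SS := by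
  unfold G1 at hg
  induction hg using Subgroup.closure_induction_right with
  | one => exact ⟨1, Subgroup.one_mem _, 1, Subgroup.one_mem _, 1, Subgroup.one_mem _, by simp⟩
  | mul_right x y _ hy ih =>
    obtain ⟨j, h | h⟩ := Set.mem_iUnion.1 hy
    · exact W.SS_mul_Yp V4 ih h
    · exact W.SS_mul_Ym V4 ih h
  | mul_inv_cancel x y _ hy ih =>
    obtain ⟨j, h | h⟩ := Set.mem_iUnion.1 hy
    · exact W.SS_mul_Yp V4 ih (Subgroup.inv_mem (W.Yp j) h)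
    · exact W.SS_mul_Ym V4 ih (Subgroup.inv_mem (W.Ym j) h)

/-- The form of the elements of `B1`. -/
theorem B1_form {b : GL D.Idx F} (hb : b ∈ D.borelSubgroup F ⊓ W.G1) :
    ∃ u ∈ D.posUnipotent F ⊓ W.G1, ∃ h ∈ D.diagonalSubgroup F ⊓ W.G1, b = u * h := by
  obtain ⟨u, hu, m, hm, u', hu', e⟩ := W.G1_form V4 hb.2
  have h1 : (m : GL D.Idx F) = u⁻¹ * b * u'⁻¹ := by rw [e]; group
  have hmH : (m : GL D.Idx F) ∈ D.diagonalSubgroup F := by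
    rw [← B_inf_N V V2 V3]
    refine ⟨?_, m.2⟩
    rw [h1]
    exact Subgroup.mul_mem _ (Subgroup.mul_mem _ (Subgroup.inv_mem _ (U_le_B V V2 V3 hu.1)) hb.1) (Subgroup.inv_mem _ (U_le_B V V2 V3 hu'.1))
  refine ⟨u * ((m : GL D.Idx F) * u' * (m : GL D.Idx F)⁻¹), Subgroup.mul_mem _ hu ⟨normalizer_conj_mem (H_le_normalizer_U V V2 V3 hmH) hu'.1,
    Subgroup.mul_mem _ (Subgroup.mul_mem _ hm hu'.2) (Subgroup.inv_mem _ hm)⟩, m, ⟨hmH, hm⟩, ?_⟩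
  rw [e]
  group


theorem conj_Ym {j : ι} {n : ↥(D.monomialSubgroup F)} (hn : Flip V V2 V3 (W.A j) n) (hnF : (n : GL D.Idx F) ∈ W.Fix) {x : GL D.Idx F} (hx : x ∈ W.Ym j) :
    (n : GL D.Idx F) * x * (n : GL D.Idx F)⁻¹ ∈ W.Yp j :=
  ⟨conj_XM_flip V V2 V3 V4 hn hx.1, Subgroup.mul_mem _ (Subgroup.mul_mem _ hnF hx.2) (Subgroup.inv_mem _ hnF)⟩

include W in
/-- Flips normalize the radical. -/
theorem conj_R_flip {J : Set ℕ} {n : ↥(D.monomialSubgroup F)} (hn : Flip V V2 V3 J n) {x : GL D.Idx F} (hx : x ∈ D.unipotentRadical F J) :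
    (n : GL D.Idx F) * x * (n : GL D.Idx F)⁻¹ ∈ D.unipotentRadical F J := by
  rw [radical_eq V V2 V3 V4] at hx
  refine conj_closure_mem _ ?_ hx
  rintro g ⟨r, t, hr, rfl⟩
  obtain ⟨h1, h2, h3⟩ := QJ_of_RJ V V2 V3 V4 hr
  obtain ⟨c, _, e⟩ := conj_x V V2 V3 V4 n h2
  rw [e]
  obtain ⟨h4, h5⟩ := (hn r h1 h2).2 h3
  exact x_mem_R V V2 V3 V4 ⟨h4, rho0_lt V V2 V3 n h2, h5⟩ _

theorem exists_nj (j : ι) : ∃ n : ↥(D.monomialSubgroup F), (n : GL D.Idx F) ∈ W.G1 ∧ IsW V V2 V3 (W.A j) n := by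
  obtain ⟨y, hy, hF, hy1⟩ := W.Yn_ne j
  obtain ⟨_, _, _, _, m, hm, hW, _⟩ := W.rank_one V4 j ⟨hy, hF⟩ hy1
  exact ⟨m, hm, hW⟩

/-- The chosen representatives. -/
noncomputable def nj (j : ι) : ↥(D.monomialSubgroup F) := Classical.choose (W.exists_nj V4 j)

theorem nj_mem (j : ι) : (W.nj V4 j : GL D.Idx F) ∈ W.G1 := (Classical.choose_spec (W.exists_nj V4 j)).1
theorem nj_isW (j : ι) : IsW V V2 V3 (W.A j) (W.nj V4 j) := (Classical.choose_spec (W.exists_nj V4 j)).2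

/-- The double coset computation. -/
theorem mul_union (j : ι) (n : ↥(D.monomialSubgroup F)) (hnG : (n : GL D.Idx F) ∈ W.G1) {b : GL D.Idx F} (hb : b ∈ D.borelSubgroup F ⊓ W.G1) :
    (∃ b₁ ∈ D.borelSubgroup F ⊓ W.G1, ∃ b₂ ∈ D.borelSubgroup F ⊓ W.G1, (W.nj V4 j : GL D.Idx F) * b * n = b₁ * ((W.nj V4 j : GL D.Idx F) * n) * b₂) ∨
    (∃ b₁ ∈ D.borelSubgroup F ⊓ W.G1, ∃ b₂ ∈ D.borelSubgroup F ⊓ W.G1, (W.nj V4 j : GL D.Idx F) * b * n = b₁ * n * b₂) := by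
  set s := W.nj V4 j with hs
  have hsG : (s : GL D.Idx F) ∈ W.G1 := W.nj_mem V4 j
  have hsW : IsW V V2 V3 (W.A j) s := W.nj_isW V4 j
  have UB : ∀ {g : GL D.Idx F}, g ∈ D.posUnipotent F ⊓ W.G1 → g ∈ D.borelSubgroup F ⊓ W.G1 := fun h => ⟨U_le_B V V2 V3 h.1, h.2⟩
  have HB : ∀ {g : GL D.Idx F}, g ∈ D.diagonalSubgroup F ⊓ W.G1 → g ∈ D.borelSubgroup F ⊓ W.G1 := fun h => ⟨H_le_B V V2 V3 h.1, h.2⟩
  obtain ⟨u, hu, h, hh, rfl⟩ := W.B1_form V4 hb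
  obtain ⟨a, ha, r, hr, e⟩ := U_factor V V2 V3 V4 (W.A j) (Subgroup.inv_mem _ hu.1)
  have hF := W.fix_levi j ha hr (by rw [← e]; exact W.G1_le_Fix (Subgroup.inv_mem _ hu.2))
  have haY : a ∈ W.Yp j := ⟨ha, hF.1⟩
  have hxY : a⁻¹ ∈ W.Yp j := Subgroup.inv_mem _ haY
  have eu : u = r⁻¹ * a⁻¹ := by
    have : u = (a * r)⁻¹ := by rw [← e, inv_inv]
    rw [this]
    group
  have hr1G : r⁻¹ ∈ W.G1 := by
    have : r⁻¹ = u * a := by rw [eu]; group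
    rw [this]
    exact Subgroup.mul_mem _ hu.2 (W.Yp_le j haY)
  set x := a⁻¹ with hx
  have hr1 : (s : GL D.Idx F) * r⁻¹ * (s : GL D.Idx F)⁻¹ ∈ D.posUnipotent F ⊓ W.G1 :=
    ⟨R_le_U V V2 V3 V4 _ (W.conj_R_flip V4 hsW.1 (Subgroup.inv_mem _ hr)), Subgroup.mul_mem _ (Subgroup.mul_mem _ hsG hr1G) (Subgroup.inv_mem _ hsG)⟩
  have hh1 : (s : GL D.Idx F) * h * (s : GL D.Idx F)⁻¹ ∈ D.diagonalSubgroup F ⊓ W.G1 :=
    ⟨normalizer_conj_mem (N_le_normalizer_H V V2 V3 s.2) hh.1, Subgroup.mul_mem _ (Subgroup.mul_mem _ hsG hh.2) (Subgroup.inv_mem _ hsG)⟩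
  set n' : ↥(D.monomialSubgroup F) := ⟨h, H_le_N V V2 V3 hh.1⟩ * n with hn'
  have hn'G : (n' : GL D.Idx F) ∈ W.G1 := Subgroup.mul_mem _ hh.2 hnG
  have en' : (n' : GL D.Idx F) = h * n := rfl
  rcases W.dichotomy V4 j n'⁻¹ (W.G1_le_Fix (Subgroup.inv_mem _ hn'G)) with hP | hP
  · left
    have hc := W.conj_pos_mem V4 (m := n'⁻¹) (Subgroup.inv_mem _ hn'G) hP hxY
    refine ⟨_, Subgroup.mul_mem _ (UB hr1) (HB hh1), _, UB hc, ?_⟩
    rw [eu]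
    show (s : GL D.Idx F) * (r⁻¹ * x * h) * n = (s : GL D.Idx F) * r⁻¹ * (s : GL D.Idx F)⁻¹ * ((s : GL D.Idx F) * h * (s : GL D.Idx F)⁻¹) * ((s : GL D.Idx F) * n) * ((n' : GL D.Idx F)⁻¹ * x * ((n' : GL D.Idx F)⁻¹)⁻¹)
    rw [en']
    group
  · by_cases hx1 : x = 1
    · left
      refine ⟨_, Subgroup.mul_mem _ (UB hr1) (HB hh1), 1, Subgroup.one_mem _, ?_⟩
      rw [eu, hx1]
      group
    · right
      have hy := W.conj_Yp V4 hsW.1 (W.G1_le_Fix hsG) hxY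
      have hy1 : (s : GL D.Idx F) * x * (s : GL D.Idx F)⁻¹ ≠ 1 := by
        intro hc
        apply hx1
        have : x = (s : GL D.Idx F)⁻¹ * ((s : GL D.Idx F) * x * (s : GL D.Idx F)⁻¹) * s := by group
        rw [this, hc]
        group
      obtain ⟨a₁, ha₁, c, hc, m, hm, hW, e1⟩ := W.rank_one V4 j hy hy1
      have hP2 : PosOn V V2 V3 (W.A j) (s * n')⁻¹ := by
        have e3 : (s * n')⁻¹ = n'⁻¹ * s⁻¹ := by group
        rw [e3]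
        exact posOn_mul_isW V V2 V3 V4 hP hsW.2
      have hc' := W.conj_pos_mem V4 (m := (s * n')⁻¹) (Subgroup.inv_mem _ (Subgroup.mul_mem _ hsG hn'G)) hP2 hc
      have hms : (m : GL D.Idx F) * s ∈ D.diagonalSubgroup F ⊓ W.G1 := ⟨mul_mem_H_of_isW V V2 V3 V4 hW.1 hsW.1, Subgroup.mul_mem _ hm hsG⟩
      refine ⟨_, Subgroup.mul_mem _ (Subgroup.mul_mem _ (UB hr1) (UB ⟨XP_le_U V V2 V3 V4 _ ha₁.1, W.Yp_le j ha₁⟩)) (Subgroup.mul_mem _ (HB hms) (HB hh)), _, UB hc', ?_⟩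
      have e4 : (s : GL D.Idx F) * x = (a₁ * m * c) * s := by
        rw [← e1]
        group
      rw [eu]
      show (s : GL D.Idx F) * (r⁻¹ * x * h) * n = (s : GL D.Idx F) * r⁻¹ * (s : GL D.Idx F)⁻¹ * a₁ * ((m : GL D.Idx F) * s * h) * n * ((((s : GL D.Idx F) * n'))⁻¹ * c * (((s : GL D.Idx F) * n')⁻¹)⁻¹)
      rw [en']
      calc (s : GL D.Idx F) * (r⁻¹ * x * h) * n = (s : GL D.Idx F) * r⁻¹ * (s : GL D.Idx F)⁻¹ * ((s : GL D.Idx F) * x) * h * n := by group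
        _ = (s : GL D.Idx F) * r⁻¹ * (s : GL D.Idx F)⁻¹ * ((a₁ * m * c) * s) * h * n := by rw [e4]
        _ = _ := by group

theorem mem_sof {K : Subgroup (GL D.Idx F)} {g : ↥W.G1} : g ∈ (K ⊓ W.G1).subgroupOf W.G1 ↔ (g : GL D.Idx F) ∈ K := by
  rw [Subgroup.mem_subgroupOf]
  exact ⟨fun h => h.1, fun h => ⟨h, g.2⟩⟩

theorem closure_aux (k : ℕ) : ∀ (m : ↥(D.monomialSubgroup F)) (hG : (m : GL D.Idx F) ∈ W.G1), (Inv V V2 V3 (wOf V V2 V3 m)).card = k →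
    (⟨m, hG⟩ : ↥W.G1) ∈ Subgroup.closure {s : ↥W.G1 | ∃ j, (s : GL D.Idx F) = W.nj V4 j} ⊔
      ((D.borelSubgroup F ⊓ W.G1).subgroupOf W.G1 ⊓ (D.monomialSubgroup F ⊓ W.G1).subgroupOf W.G1) := by
  induction k using Nat.strong_induction_on with
  | _ k ih =>
    intro m hG hk
    by_cases hH : ∀ i < T.l, T.n / 2 ≤ rho0 V V2 V3 m (T.sim i)
    · refine Subgroup.mem_sup_right ⟨W.mem_sof V4 |>.mpr (H_le_B V V2 V3 (H_of_sim_pos V V2 V3 V4 m hH)), W.mem_sof V4 |>.mpr m.2⟩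
    · push Not at hH
      obtain ⟨i, hi, h1⟩ := hH
      obtain ⟨j, hj⟩ := W.A_cover i hi
      have hN : NegOn V V2 V3 (W.A j) m := by
        rcases W.dichotomy V4 j m (W.G1_le_Fix hG) with h2 | h2
        · have := h2 _ ⟨sim_pos V V2 hi, sim_lt' V V2 V3 hi, sim_inJ V V2 V3 hj hi⟩
          omega
        · exact h2
      have hW := W.nj_isW V4 j
      have hG' := W.nj_mem V4 j
      have hcard := card_inv_mul_isW V V2 V3 V4 hN hW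
      have hpos : 0 < (PJs T C (W.A j)).card := Finset.card_pos.mpr ⟨_, (mem_PJs V V2 V3 V4).mpr ⟨sim_pos V V2 hi, sim_lt' V V2 V3 hi, sim_inJ V V2 V3 hj hi⟩⟩
      have hm' : ((m * W.nj V4 j : ↥(D.monomialSubgroup F)) : GL D.Idx F) ∈ W.G1 := Subgroup.mul_mem _ hG hG'
      have h3 := ih _ (by omega) (m * W.nj V4 j) hm' rfl
      have e : (⟨m, hG⟩ : ↥W.G1) = ⟨((m * W.nj V4 j : ↥(D.monomialSubgroup F)) : GL D.Idx F), hm'⟩ * (⟨W.nj V4 j, hG'⟩ : ↥W.G1)⁻¹ := by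
        apply Subtype.ext
        show (m : GL D.Idx F) = (m : GL D.Idx F) * (W.nj V4 j : GL D.Idx F) * (W.nj V4 j : GL D.Idx F)⁻¹
        group
      rw [e]
      exact Subgroup.mul_mem _ h3 (Subgroup.inv_mem _ (Subgroup.mem_sup_left (Subgroup.subset_closure ⟨j, rfl⟩)))

/-- The (B,N)-pair of the group of fixed points. -/
noncomputable def bn : Cfsg.BNPair ↥W.G1 where
  B := (D.borelSubgroup F ⊓ W.G1).subgroupOf W.G1
  N := (D.monomialSubgroup F ⊓ W.G1).subgroupOf W.G1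
  S := {s | ∃ j, (s : GL D.Idx F) = W.nj V4 j}
  sup_eq_top := by
    rw [eq_top_iff]
    intro g _
    obtain ⟨u, hu, m, hm, u', hu', e⟩ := W.G1_form V4 g.2
    have e2 : g = (⟨u, hu.2⟩ : ↥W.G1) * ⟨m, hm⟩ * ⟨u', hu'.2⟩ := Subtype.ext e
    rw [e2]
    refine Subgroup.mul_mem _ (Subgroup.mul_mem _ (Subgroup.mem_sup_left ?_) (Subgroup.mem_sup_right ?_)) (Subgroup.mem_sup_left ?_)
    · exact (W.mem_sof V4).mpr (U_le_B V V2 V3 hu.1)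
    · exact (W.mem_sof V4).mpr m.2
    · exact (W.mem_sof V4).mpr (U_le_B V V2 V3 hu'.1)
  conj_mem := by
    rintro n hn t ⟨h1, h2⟩
    have hn' := (W.mem_sof V4).mp hn
    have h1' : (t : GL D.Idx F) ∈ D.borelSubgroup F := (W.mem_sof V4).mp h1
    have h2' : (t : GL D.Idx F) ∈ D.monomialSubgroup F := (W.mem_sof V4).mp h2
    rw [W.mem_sof V4]
    have h3 : (t : GL D.Idx F) ∈ D.diagonalSubgroup F := by
      rw [← B_inf_N V V2 V3]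
      exact ⟨h1', h2'⟩
    exact H_le_B V V2 V3 (normalizer_conj_mem (N_le_normalizer_H V V2 V3 hn') h3)
  subset := by
    rintro s ⟨j, hj⟩
    show s ∈ (D.monomialSubgroup F ⊓ W.G1).subgroupOf W.G1
    rw [W.mem_sof V4, hj]
    exact (W.nj V4 j).2
  sq_mem := by
    rintro s ⟨j, hj⟩
    show s * s ∈ (D.borelSubgroup F ⊓ W.G1).subgroupOf W.G1
    rw [W.mem_sof V4]
    show (s : GL D.Idx F) * s ∈ _
    rw [hj]
    exact H_le_B V V2 V3 (mul_mem_H_of_isW V V2 V3 V4 (W.nj_isW V4 j).1 (W.nj_isW V4 j).1)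
  inj := by
    rintro s ⟨j, hj⟩ s' ⟨j', hj'⟩ h
    have h1 : (s : GL D.Idx F)⁻¹ * s' ∈ D.borelSubgroup F := (W.mem_sof V4).mp h
    rw [hj, hj'] at h1
    have h2 : (((W.nj V4 j)⁻¹ * W.nj V4 j' : ↥(D.monomialSubgroup F)) : GL D.Idx F) ∈ D.diagonalSubgroup F := by
      rw [← B_inf_N V V2 V3]
      exact ⟨h1, Subgroup.mul_mem _ (Subgroup.inv_mem _ (W.nj V4 j).2) (W.nj V4 j').2⟩
    have h3 := rho0_of_H V V2 V3 h2
    have h4 : rho0 V V2 V3 (W.nj V4 j') = rho0 V V2 V3 (W.nj V4 j) := by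
      rw [map_mul, map_inv, inv_mul_eq_one] at h3
      exact h3.symm
    obtain ⟨i, hi⟩ := W.A_ne j
    have hl := W.A_lt j i hi
    have hsp := sim_pos V V2 hl
    have hsl := sim_lt' V V2 V3 hl
    have h5 := ((W.nj_isW V4 j).1 _ hsp hsl).1 (sim_inJ V V2 V3 hi hl)
    have hj2 : j = j' := by
      by_contra hne
      have hi' : i ∉ W.A j' := fun hc => hne (W.A_disj i j j' hi hc)
      have h6 : ¬ InJ C T.l (W.A j') (T.sim i) := by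
        intro hc
        have := hc i hl hi'
        rw [sim_coef V2 hl] at this
        omega
      have h7 := ((W.nj_isW V4 j').1 _ hsp hsl).2 h6
      rw [h4] at h7
      have := h5.1
      have := h7.1
      omega
    subst hj2
    exact Subtype.ext (hj.trans hj'.symm)
  closure_sup := by
    apply le_antisymm
    · apply sup_le
      · rw [Subgroup.closure_le]
        rintro s ⟨j, hj⟩
        show s ∈ (D.monomialSubgroup F ⊓ W.G1).subgroupOf W.G1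
        rw [W.mem_sof V4, hj]
        exact (W.nj V4 j).2
      · exact inf_le_right
    · intro g hg
      have hg' := (W.mem_sof V4).mp hg
      exact W.closure_aux V4 _ ⟨g, hg'⟩ g.2 rfl
  mul_mem_union := by
    rintro s ⟨j, hj⟩ n hn b hb
    have hn' := (W.mem_sof V4).mp hn
    have hb' : (b : GL D.Idx F) ∈ D.borelSubgroup F ⊓ W.G1 := ⟨(W.mem_sof V4).mp hb, b.2⟩
    rcases W.mul_union V4 j ⟨n, hn'⟩ n.2 hb' with ⟨b₁, hb₁, b₂, hb₂, e⟩ | ⟨b₁, hb₁, b₂, hb₂, e⟩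
    · left
      rw [DoubleCoset.mem_doubleCoset]
      refine ⟨⟨b₁, hb₁.2⟩, (W.mem_sof V4).mpr hb₁.1, ⟨b₂, hb₂.2⟩, (W.mem_sof V4).mpr hb₂.1, ?_⟩
      apply Subtype.ext
      show (s : GL D.Idx F) * b * n = b₁ * ((s : GL D.Idx F) * n) * b₂
      rw [hj]
      exact e
    · right
      rw [DoubleCoset.mem_doubleCoset]
      refine ⟨⟨b₁, hb₁.2⟩, (W.mem_sof V4).mpr hb₁.1, ⟨b₂, hb₂.2⟩, (W.mem_sof V4).mpr hb₂.1, ?_⟩
      apply Subtype.ext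
      show (s : GL D.Idx F) * b * n = b₁ * n * b₂
      rw [hj]
      exact e
  conj_ne := by
    rintro s ⟨j, hj⟩ hc
    obtain ⟨y, hy, hF, hy1⟩ := W.Yn_ne j
    have hsW := W.nj_isW V4 j
    have hsG := W.nj_mem V4 j
    have hinvG : (((W.nj V4 j)⁻¹ : ↥(D.monomialSubgroup F)) : GL D.Idx F) ∈ W.Fix := W.G1_le_Fix (Subgroup.inv_mem _ hsG)
    have hxY := W.conj_Ym V4 hsW.2 hinvG (x := y) ⟨hy, hF⟩
    set x := (((W.nj V4 j)⁻¹ : ↥(D.monomialSubgroup F)) : GL D.Idx F) * y * (((W.nj V4 j)⁻¹ : ↥(D.monomialSubgroup F)) : GL D.Idx F)⁻¹ with hx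
    have hxG := W.Yp_le j hxY
    have hxB : (⟨x, hxG⟩ : ↥W.G1) ∈ (D.borelSubgroup F ⊓ W.G1).subgroupOf W.G1 := (W.mem_sof V4).mpr (U_le_B V V2 V3 (XP_le_U V V2 V3 V4 _ hxY.1))
    have h1 : s * ⟨x, hxG⟩ * s ∈ (D.borelSubgroup F ⊓ W.G1).subgroupOf W.G1 := by
      have h2 : s * ⟨x, hxG⟩ * s ∈ (fun b : ↥W.G1 => s * b * s) '' ((D.borelSubgroup F ⊓ W.G1).subgroupOf W.G1 : Set ↥W.G1) := ⟨_, hxB, rfl⟩
      rw [hc] at h2
      exact h2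
    have h2 : (s : GL D.Idx F) * x * s ∈ D.borelSubgroup F := (W.mem_sof V4).mp h1
    rw [hj] at h2
    have h3 := mul_mem_H_of_isW V V2 V3 V4 hsW.1 hsW.1
    have h4 : y = (W.nj V4 j : GL D.Idx F) * x * (W.nj V4 j : GL D.Idx F) * ((W.nj V4 j : GL D.Idx F) * (W.nj V4 j : GL D.Idx F))⁻¹ := by
      rw [hx]
      show y = (W.nj V4 j : GL D.Idx F) * ((W.nj V4 j : GL D.Idx F)⁻¹ * y * ((W.nj V4 j : GL D.Idx F)⁻¹)⁻¹) * (W.nj V4 j : GL D.Idx F) * ((W.nj V4 j : GL D.Idx F) * (W.nj V4 j : GL D.Idx F))⁻¹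
      group
    have h5 : y ∈ D.borelSubgroup F ⊓ D.negUnipotent F := by
      refine ⟨?_, XM_le_V V V2 V3 V4 _ hy⟩
      rw [h4]
      exact Subgroup.mul_mem _ h2 (Subgroup.inv_mem _ (H_le_B V V2 V3 h3))
    rw [B_inf_V V V2 V3, Subgroup.mem_bot] at h5
    exact hy1 h5

end TwFix
end Cfsg.Agent.Lib.ChevTw2
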