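import Cfsg.Agent.Lib.ChevTw19

/-! Twisted groups, step 20: perfectness. -/

set_option autoImplicit false
set_option linter.unusedVariables false
set_option linter.unusedSectionVars false
set_option linter.unusedFintypeInType false
set_option linter.unusedDecidableInType false

namespace Cfsg.Agent.Lib.ChevTw20

open Cfsg.Lie Matrix Cfsg.Agent.Lib.ChevEngine Cfsg.Agent.Lib.ChevTab Cfsg.Agent.Lib.ChevMono
  Cfsg.Agent.Lib.ChevRel Cfsg.Agent.Lib.ChevValid Cfsg.Agent.Lib.ChevGL Cfsg.Agent.Lib.ChevGrad Cfsg.Agent.Lib.ChevL2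
  Cfsg.Agent.Lib.ChevU Cfsg.Agent.Lib.ChevU2 Cfsg.Agent.Lib.ChevU3 Cfsg.Agent.Lib.ChevDiag Cfsg.Agent.Lib.ChevV3
  Cfsg.Agent.Lib.ChevH Cfsg.Agent.Lib.ChevN Cfsg.Agent.Lib.ChevN2 Cfsg.Agent.Lib.ChevN3 Cfsg.Agent.Lib.ChevBN Cfsg.Agent.Lib.ChevBN2
  Cfsg.Agent.Lib.ChevV4 Cfsg.Agent.Lib.ChevSimp Cfsg.Agent.Lib.ChevSimp2 Cfsg.Agent.Lib.ChevPar Cfsg.Agent.Lib.ChevV5 Cfsg.Agent.Lib.ChevPar2
  Cfsg.Agent.Lib.ChevPar3 Cfsg.Agent.Lib.BNPair Cfsg.Agent.Lib.BNCount Cfsg.Agent.Lib.ChevW1 Cfsg.Agent.Lib.ChevW2 Cfsg.Agent.Lib.ChevTw1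
  Cfsg.Agent.Lib.ChevTw2 Cfsg.Agent.Lib.ChevTw3 Cfsg.Agent.Lib.ChevAut3 Cfsg.Agent.Lib.ChevTw4 Cfsg.Agent.Lib.ChevTw5 Cfsg.Agent.Lib.ChevW3
  Cfsg.Agent.Lib.ChevTw6 Cfsg.Agent.Lib.ChevTw7 Cfsg.Agent.Lib.ChevTw8 Cfsg.Agent.Lib.ChevTw3.TwFix Cfsg.Agent.Lib.ChevHOrd Cfsg.Agent.Lib.ChevTw11 Cfsg.Agent.Lib.ChevTw12 Cfsg.Agent.Lib.ChevTw13 Cfsg.Agent.Lib.BNPair2 Cfsg.Agent.Lib.ChevTw15 Cfsg.Agent.Lib.ChevTw17 Cfsg.Agent.Lib.ChevTw19

variable {D : ChevalleyDatum} {T : Tb} {C : Tc} {X : Tc3} {Y : Tc4} {F : Type*} [Field F]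

/-- The commutator subgroup, as a subgroup of `GL`. -/
noncomputable def KK (H : Subgroup (GL D.Idx F)) : Subgroup (GL D.Idx F) :=
  (commutator ↥H).map H.subtype

theorem comm_mem_KK {H : Subgroup (GL D.Idx F)} {a b : GL D.Idx F} (ha : a ∈ H) (hb : b ∈ H) : a * b * a⁻¹ * b⁻¹ ∈ KK H := by
  refine ⟨(⟨a, ha⟩ : ↥H) * (⟨b, hb⟩ : ↥H) * (⟨a, ha⟩ : ↥H)⁻¹ * (⟨b, hb⟩ : ↥H)⁻¹, ?_, rfl⟩
  exact Subgroup.commutator_mem_commutator (Subgroup.mem_top _) (Subgroup.mem_top _)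

theorem conj_mem_KK {H : Subgroup (GL D.Idx F)} {x g : GL D.Idx F} (hx : x ∈ KK H) (hg : g ∈ H) : g * x * g⁻¹ ∈ KK H := by
  obtain ⟨y, hy, rfl⟩ := hx
  refine ⟨(⟨g, hg⟩ : ↥H) * y * (⟨g, hg⟩ : ↥H)⁻¹, ?_, rfl⟩
  exact (inferInstance : (commutator ↥H).Normal).conj_mem y hy _

theorem comm_top_of_le {H : Subgroup (GL D.Idx F)} (h : H ≤ KK H) : commutator ↥H = ⊤ := by
  rw [eq_top_iff]
  intro g _
  obtain ⟨y, hy, hxy⟩ := h g.2
  have : y = g := Subtype.ext hxy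
  rwa [← this]

theorem iter_add (φ : F ≃+* F) (b : ℕ) (x y : F) : φ^[b] (x + y) = φ^[b] x + φ^[b] y := by
  induction b generalizing x y with
  | zero => rfl
  | succ b ih => simp only [Function.iterate_succ_apply, map_add, ih]

theorem iter_mul (φ : F ≃+* F) (b : ℕ) (x y : F) : φ^[b] (x * y) = φ^[b] x * φ^[b] y := by
  induction b generalizing x y with
  | zero => rfl
  | succ b ih => simp only [Function.iterate_succ_apply, map_mul, ih]

theorem iter_neg (φ : F ≃+* F) (b : ℕ) (x : F) : φ^[b] (-x) = -φ^[b] x := by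
  induction b generalizing x with
  | zero => rfl
  | succ b ih => simp only [Function.iterate_succ_apply, map_neg, ih]

theorem iter_inv (φ : F ≃+* F) (b : ℕ) (x : F) : φ^[b] (x⁻¹) = (φ^[b] x)⁻¹ := by
  induction b generalizing x with
  | zero => rfl
  | succ b ih => simp only [Function.iterate_succ_apply, map_inv₀, ih]

section orb
variable (V : Valid D T) (V2 : Valid2 D T C) (V3 : Valid3 T C X) (V4 : Valid4 D T C Y)
variable {ρ ρ' π π' : ℕ → ℕ} {ε : ℕ → ℤ} (G : GraphOk T C ρ ρ' π π' ε) (φ : F ≃+* F)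
variable {ι : Type} (Q : OrbData T C π ι) (hε : ∀ a < T.l, ε (T.sim a) = 1)

/-- The positive word element. -/
noncomputable def wd (j : ι) (a : F) : GL D.Idx F := wordU V (eWg T.sim φ (chainL π (Q.i0 j) (Q.k j)) a)

include V2 V3 V4 in
theorem wd_add (j : ι) (a b : F) : wd V φ Q j a * wd V φ Q j b = wd V φ Q j (a + b) := by
  unfold wd
  rw [word_idx V φ Q j a, word_idx V φ Q j b, word_idx V φ Q j (a + b), px_mul (hcPos V V2 V3 V4 (Q.O j)) (fun c hc => hc)]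
  apply px_congr
  intro c _
  simp only [Pi.add_apply]
  rw [iter_add]

include V2 V3 V4 in
theorem wd_inv (j : ι) (a : F) : (wd V φ Q j a)⁻¹ = wd V φ Q j (-a) := by
  unfold wd
  rw [word_idx V φ Q j a, word_idx V φ Q j (-a), px_inv (hcPos V V2 V3 V4 (Q.O j)) (fun c hc => hc)]
  apply px_congr
  intro c _
  simp only [Pi.neg_apply]
  rw [iter_neg]

theorem wd_mem (j : ι) {a : F} (ha : φ^[Q.k j] a = a) : wd V φ Q j a ∈ (orbFix V V2 V3 V4 G φ Q hε).G1 :=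
  TwFix.Yp_le _ j ((mem_Yp V V2 V3 V4 G φ Q hε).mpr ⟨a, ha, rfl⟩)

/-- It suffices to treat the positive words. -/
theorem perfect_of (h : ∀ j a, φ^[Q.k j] a = a → wd V φ Q j a ∈ KK (orbFix V V2 V3 V4 G φ Q hε).G1) :
    commutator ↥(orbFix V V2 V3 V4 G φ Q hε).G1 = ⊤ := by
  apply comm_top_of_le
  set H := (orbFix V V2 V3 V4 G φ Q hε).G1 with hH
  conv_lhs => rw [hH, G1_eq]
  rw [Subgroup.closure_le]
  rintro x ⟨j, a, ha, rfl | rfl⟩
  · exact h j a ha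
  · have hn : ((nW V V2 V3 F (chainL π (Q.i0 j) (Q.k j)) : ↥(D.monomialSubgroup F)) : GL D.Idx F) ∈ H := by
      rw [hH, G1_eq]
      exact nW_mem_closure V V2 V3 V4 φ Q j
    set n : GL D.Idx F := ((nW V V2 V3 F (chainL π (Q.i0 j) (Q.k j)) : ↥(D.monomialSubgroup F)) : GL D.Idx F) with hndef
    have hW := nW_isW V V2 V3 V4 (F := F) (Q.O j)
    have hy := word_neg_mem_Ym V V2 V3 V4 G φ Q hε ha
    set y := wordU V (eWg (fun c => T.neg (T.sim c)) φ (chainL π (Q.i0 j) (Q.k j)) a) with hydef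
    have h1 : n * y * n⁻¹ ∈ (orbFix V V2 V3 V4 G φ Q hε).Yp j := by
      refine ⟨conj_XM_flip V V2 V3 V4 hW.1 hy.1, ?_⟩
      have h2 : y ∈ H := TwFix.Ym_le _ j hy
      exact TwFix.G1_le_Fix _ (Subgroup.mul_mem _ (Subgroup.mul_mem _ hn h2) (Subgroup.inv_mem _ hn))
    obtain ⟨b, hb, e⟩ := (mem_Yp V V2 V3 V4 G φ Q hε).mp h1
    have h3 : n * y * n⁻¹ ∈ KK H := by
      rw [e]
      exact h j b hb
    have h4 := conj_mem_KK h3 (Subgroup.inv_mem _ hn)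
    have e2 : n⁻¹ * (n * y * n⁻¹) * n⁻¹⁻¹ = y := by group
    rwa [e2] at h4

/-- The orthogonality table for an orbit. -/
def Ortho (T : Tb) (L : List ℕ) : Prop := ∀ a ∈ L, ∀ b ∈ L, T.ca a (T.sim b) = if a = b then 2 else 0

instance (T : Tb) (L : List ℕ) : Decidable (Ortho T L) := by
  unfold Ortho
  infer_instance

/-- The torus argument. -/
theorem wd_mem_KK_torus (j : ι) (hO : Ortho T (chainL π (Q.i0 j) (Q.k j))) {u : F} (hu0 : u ≠ 0) (hu : φ^[Q.k j] u = u) (hu2 : u ^ 2 ≠ 1)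
    {a : F} (ha : φ^[Q.k j] a = a) : wd V φ Q j a ∈ KK (orbFix V V2 V3 V4 G φ Q hε).G1 := by
  classical
  set L := chainL π (Q.i0 j) (Q.k j) with hL
  have hOr := Q.O j
  have hne : ∀ c, φ^[Q.idx j c] u ≠ 0 := fun c => iter_ne_zero φ _ hu0
  set c0 : ℕ → Fˣ := fun m => Units.mk0 (φ^[Q.idx j m] u) (hne m) with hc0
  have hh := hchain_mem V V2 V3 V4 G φ Q hε j hu0 hu
  have e1 : (L.map fun c => hU V (T.sim c) (φ^[Q.idx j c] u)) = L.map fun m => hU V (T.sim m) ((c0 m : Fˣ) : F) := rfl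
  rw [← hL, e1, ← dgC_res V V2 V3 hOr.hlt hOr.hnd] at hh
  set cc0 : ℕ → Fˣ := fun i => if i ∈ L then c0 i else 1 with hcc0
  set h := dgC D T C cc0 with hdef
  have hχ : ∀ b ∈ L, cc T C cc0 (T.sim b) = c0 b ^ 2 := by
    intro b hb
    have hb' := hOr.hlt b hb
    unfold cc
    rw [Finset.prod_eq_single b]
    · rw [aG_eq V3 _ (sim_lt' V V2 V3 hb'), aa_sim V3 hb', hO b hb b hb, if_pos rfl]
      simp only [hcc0, if_pos hb]
      rfl
    · intro i hi hib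
      have hi' : i < T.l := by simpa using hi
      rw [aG_eq V3 _ (sim_lt' V V2 V3 hb'), aa_sim V3 hi']
      by_cases hiL : i ∈ L
      · rw [hO i hiL b hb, if_neg hib]
        simp
      · simp [hcc0, hiL]
    · intro h3
      exact absurd (Finset.mem_range.mpr hb') h3
  -- the parameter
  have hu3 : u ^ 2 - 1 ≠ 0 := sub_ne_zero.mpr hu2
  set w := a / (u ^ 2 - 1) with hw
  have e2 : φ^[Q.k j] (u ^ 2 - 1) = u ^ 2 - 1 := by
    rw [sub_eq_add_neg, iter_add, iter_neg, sq, iter_mul, hu]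
    congr 2
    exact Function.iterate_fixed (by simp) _
  have hiterw : φ^[Q.k j] w = w := by
    rw [hw, div_eq_mul_inv, iter_mul, iter_inv, e2, ha]
  have hwm := wd_mem V V2 V3 V4 G φ Q hε j hiterw
  have hconj : h * wd V φ Q j w * h⁻¹ = wd V φ Q j (u ^ 2 * w) := by
    have hdg : h = dgU D (cc T C cc0) := rfl
    have hC := conj_px (V := V) (isCh_cc V V2 cc0) (f := T.sim) (L := L) (fun c hc => sim_lt' V V2 V3 (hOr.hlt c hc)) (fun c => φ^[Q.idx j c] w)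
    have e4 : wd V φ Q j w = px V T.sim L (fun c => φ^[Q.idx j c] w) := word_idx V φ Q j w
    have e5 : wd V φ Q j (u ^ 2 * w) = px V T.sim L (fun c => φ^[Q.idx j c] (u ^ 2 * w)) := word_idx V φ Q j _
    rw [e4, e5, hdg, hC, mul_inv_cancel_right]
    apply px_congr
    intro c hc
    rw [hχ c hc, sq u, iter_mul, iter_mul]
    simp only [hc0, Units.val_pow_eq_pow_val, Units.val_mk0, sq, Units.val_mul]
  have hcomm := comm_mem_KK hh hwm
  have e3 : h * wd V φ Q j w * h⁻¹ * (wd V φ Q j w)⁻¹ = wd V φ Q j a := by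
    rw [hconj, wd_inv V V2 V3 V4, wd_add V V2 V3 V4]
    congr 1
    rw [hw, ← sub_eq_add_neg]
    field_simp
  rwa [e3] at hcomm

/-- A single-node orbit: the word is a single root element. -/
theorem wd_single (j : ι) (hk : Q.k j = 1) (a : F) : wd V φ Q j a = xU V (T.sim (Q.i0 j)) a := by
  unfold wd
  rw [hk]
  simp [chainL, eWg, wordU]

include V2 V3 V4 G hε in
/-- Lists of orbits give elements of `G¹`. -/
theorem nW_flat_mem (Js : List ι) :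
    ((nW V V2 V3 F (Js.flatMap fun j => chainL π (Q.i0 j) (Q.k j)) : ↥(D.monomialSubgroup F)) : GL D.Idx F) ∈ (orbFix V V2 V3 V4 G φ Q hε).G1 := by
  induction Js with
  | nil =>
    simp only [List.flatMap_nil, nW, List.map_nil, List.prod_nil]
    exact Subgroup.one_mem _
  | cons j Js ih =>
    have e : (nW V V2 V3 F ((j :: Js).flatMap fun j => chainL π (Q.i0 j) (Q.k j)) : ↥(D.monomialSubgroup F)) =
        nW V V2 V3 F (chainL π (Q.i0 j) (Q.k j)) * nW V V2 V3 F (Js.flatMap fun j => chainL π (Q.i0 j) (Q.k j)) := by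
      simp only [List.flatMap_cons, nW, List.map_append, List.prod_append]
    rw [e]
    refine Subgroup.mul_mem _ ?_ ih
    rw [G1_eq]
    exact nW_mem_closure V V2 V3 V4 φ Q j

/-- The commutator argument for a single-node orbit. -/
theorem single_mem_KK (j : ι) (hk : Q.k j = 1) (n1 n2 : ↥(D.monomialSubgroup F))
    (hn1 : (n1 : GL D.Idx F) ∈ (orbFix V V2 V3 V4 G φ Q hε).G1)
    (hn2 : (n2 : GL D.Idx F) ∈ (orbFix V V2 V3 V4 G φ Q hε).G1) {e : ℕ} {m : ℤ} (hel : e < T.n)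
    (hs1 : rho0 V V2 V3 n1 (T.sim (Q.i0 j)) ≠ T.sim (Q.i0 j))
    (hs2 : rho0 V V2 V3 n1 (T.sim (Q.i0 j)) ≠ T.neg (T.sim (Q.i0 j)))
    (ht : commTermsF T.ch (T.sim (Q.i0 j)) (rho0 V V2 V3 n1 (T.sim (Q.i0 j))) = [(e, m, 1, 1)])
    (hm : m = 1 ∨ m = -1) (he : rho0 V V2 V3 n2 e = T.sim (Q.i0 j))
    {a : F} (ha : φ^[Q.k j] a = a) : wd V φ Q j a ∈ KK (orbFix V V2 V3 V4 G φ Q hε).G1 := by
  set H := (orbFix V V2 V3 V4 G φ Q hε).G1 with hH
  set r := T.sim (Q.i0 j) with hr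
  have hil : Q.i0 j < T.l := (Q.O j).hlt _ (by rw [hk]; simp [chainL])
  have hrn : r < T.n := sim_lt' V V2 V3 hil
  set s := rho0 V V2 V3 n1 r with hs
  have hsn : s < T.n := rho0_lt V V2 V3 n1 hrn
  obtain ⟨c, hc, hconj⟩ := conj_x V V2 V3 V4 n1 hrn
  obtain ⟨c', hc', hconj'⟩ := conj_x V V2 V3 V4 n2 hel
  have hX : ∀ τ : F, φ τ = τ → xU V r τ ∈ H := by
    intro τ hτ
    have := wd_mem V V2 V3 V4 G φ Q hε j (a := τ) (by rw [hk]; exact hτ)
    rwa [wd_single V φ Q j hk] at this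
  have hA : xU V s (c * 1) ∈ H := by
    rw [← hconj 1]
    exact Subgroup.mul_mem _ (Subgroup.mul_mem _ hn1 (hX 1 (map_one φ))) (Subgroup.inv_mem _ hn1)
  have hr1 : r < D.nroots := by rw [← V.hn]; exact hrn
  have hs1' : s < D.nroots := by rw [← V.hn]; exact hsn
  have hneg : s ≠ D.neg r := by rw [V.neg_eq hr1]; exact hs2
  have hZ : ∀ τ : F, φ τ = τ → xU V e ((m : F) * (-τ) * (c * 1)) ∈ KK H := by
    intro τ hτ
    have h1 := cfU V hr1 hs1' hs1 hneg τ (c * 1)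
    rw [commWord_eq V.hT, ht] at h1
    have h2 : wordU V ([(e, m, 1, 1)].map fun c_1 : ℕ × ℤ × ℕ × ℕ => (c_1.1, ((c_1.2.1 : ℤ) : F) * (-τ) ^ c_1.2.2.1 * (c * 1) ^ c_1.2.2.2)) = xU V e ((m : F) * (-τ) * (c * 1)) := by
      simp [wordU]
    rw [h2] at h1
    have h3 := comm_mem_KK (Subgroup.inv_mem _ hA) (Subgroup.inv_mem _ (hX τ hτ))
    have e2 : (xU V s (c * 1))⁻¹ * (xU V r τ)⁻¹ * (xU V s (c * 1))⁻¹⁻¹ * (xU V r τ)⁻¹⁻¹ = xU V e ((m : F) * (-τ) * (c * 1)) := by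
      simp only [inv_inv]
      rw [mul_assoc (_ * _) (xU V s (c * 1)), h1]
      group
    rwa [e2] at h3
  have hmF : (m : F) ≠ 0 := by
    rcases hm with rfl | rfl <;> simp
  set κ : F := c' * ((m : F) * (-1) * (c * 1)) with hκ
  have hκ0 : κ ≠ 0 := by
    rw [hκ]
    simp [hc', hmF, hc]
  have hW : ∀ τ : F, φ τ = τ → xU V r (κ * τ) ∈ KK H := by
    intro τ hτ
    have h1 := conj_mem_KK (hZ τ hτ) hn2
    rw [hconj', he] at h1
    have e3 : c' * ((m : F) * (-τ) * (c * 1)) = κ * τ := by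
      rw [hκ]
      ring
    rwa [e3] at h1
  -- the constant lies in the fixed field
  have hκfix : φ κ = κ := by
    have h1 := hW 1 (map_one φ)
    rw [mul_one] at h1
    have h2 : xU V r κ ∈ H := by
      obtain ⟨y, _, hy⟩ := h1
      rw [← hy]
      exact y.2
    have h3 : wd V φ Q j κ ∈ (orbFix V V2 V3 V4 G φ Q hε).Yp j := by
      refine ⟨word_mem_XP V V2 V3 V4 φ (Q.O j).hlt (fun a ha => ha) κ, ?_⟩
      rw [wd_single V φ Q j hk]
      exact TwFix.G1_le_Fix _ h2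
    obtain ⟨b, hb, e⟩ := (mem_Yp V V2 V3 V4 G φ Q hε).mp h3
    have h4 : xU V r κ = xU V r b := by
      have := e
      rw [show wordU V (eWg T.sim φ (chainL π (Q.i0 j) (Q.k j)) b) = wd V φ Q j b from rfl, wd_single V φ Q j hk, wd_single V φ Q j hk] at this
      exact this
    have h5 := xU_param_inj V V2 V3 V4 hrn h4
    rw [hk] at hb
    rw [h5]
    exact hb
  have ha' : φ a = a := by
    rw [hk] at ha
    exact ha
  have h6 := hW (κ⁻¹ * a) (by rw [map_mul, map_inv₀, hκfix, ha'])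
  have e4 : κ * (κ⁻¹ * a) = a := by
    field_simp
  rw [e4] at h6
  rw [wd_single V φ Q j hk]
  exact h6

end orb

end Cfsg.Agent.Lib.ChevTw20
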