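import Cfsg.Agent.Lib.ChevTw2

/-! Twisted groups, step 3: the order of the group of fixed points. -/

set_option autoImplicit false
set_option linter.unusedVariables false
set_option linter.unusedSectionVars false
set_option linter.unusedFintypeInType false
set_option linter.unusedDecidableInType false

namespace Cfsg.Agent.Lib.ChevTw3

open Cfsg.Lie Matrix Cfsg.Agent.Lib.ChevEngine Cfsg.Agent.Lib.ChevTab Cfsg.Agent.Lib.ChevMono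
  Cfsg.Agent.Lib.ChevRel Cfsg.Agent.Lib.ChevValid Cfsg.Agent.Lib.ChevGL Cfsg.Agent.Lib.ChevGrad Cfsg.Agent.Lib.ChevL2
  Cfsg.Agent.Lib.ChevU Cfsg.Agent.Lib.ChevU2 Cfsg.Agent.Lib.ChevU3 Cfsg.Agent.Lib.ChevDiag Cfsg.Agent.Lib.ChevV3
  Cfsg.Agent.Lib.ChevH Cfsg.Agent.Lib.ChevN Cfsg.Agent.Lib.ChevN2 Cfsg.Agent.Lib.ChevN3 Cfsg.Agent.Lib.ChevBN Cfsg.Agent.Lib.ChevBN2
  Cfsg.Agent.Lib.ChevV4 Cfsg.Agent.Lib.ChevSimp Cfsg.Agent.Lib.ChevSimp2 Cfsg.Agent.Lib.ChevPar Cfsg.Agent.Lib.ChevV5 Cfsg.Agent.Lib.ChevPar2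
  Cfsg.Agent.Lib.ChevPar3 Cfsg.Agent.Lib.BNPair Cfsg.Agent.Lib.BNCount Cfsg.Agent.Lib.ChevW1 Cfsg.Agent.Lib.ChevW2 Cfsg.Agent.Lib.ChevTw1
  Cfsg.Agent.Lib.ChevTw2

/-- The size of a double coset with a section. -/
theorem card_C_eq {G : Type*} [Group G] [Finite G] (P : Cfsg.BNPair G) (m : G) (Y : Subgroup G) (hY : Y ≤ P.B)
    (h1 : ∀ y ∈ Y, m * y * m⁻¹ ∈ P.B → y = 1)
    (h2 : ∀ b ∈ P.B, ∃ b' ∈ P.B, ∃ y ∈ Y, m * b = b' * m * y) :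
    Nat.card (C P m) = Nat.card P.B * Nat.card Y := by
  let f : P.B × Y → C P m := fun p => ⟨(p.1 : G) * m * (p.2 : G), ⟨p.1, p.1.2, p.2, hY p.2.2, rfl⟩⟩
  have hf : Function.Bijective f := by
    constructor
    · rintro ⟨⟨b, hb⟩, ⟨y, hy⟩⟩ ⟨⟨b', hb'⟩, ⟨y', hy'⟩⟩ e
      have e1 : b * m * y = b' * m * y' := congrArg Subtype.val e
      have e2 : m * (y' * y⁻¹) * m⁻¹ = b'⁻¹ * b := by
        have : b = b' * m * y' * y⁻¹ * m⁻¹ := by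
          rw [← e1]; group
        rw [this]; group
      have h3 := h1 (y' * y⁻¹) (Y.mul_mem hy' (Y.inv_mem hy)) (by rw [e2]; exact P.B.mul_mem (P.B.inv_mem hb') hb)
      have h4 : y' = y := by
        rw [mul_inv_eq_one] at h3
        exact h3
      subst h4
      have h5 : b = b' := by
        have := mul_right_cancel e1
        exact mul_right_cancel this
      subst h5
      rfl
    · rintro ⟨g, x, hx, y0, hy0, rfl⟩
      obtain ⟨b', hb', y, hy, e⟩ := h2 y0 hy0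
      refine ⟨⟨⟨x * b', P.B.mul_mem hx hb'⟩, ⟨y, hy⟩⟩, ?_⟩
      apply Subtype.ext
      show x * b' * m * y = x * m * y0
      rw [mul_assoc x m y0, e]
      group
  rw [← Nat.card_congr (Equiv.ofBijective f hf), Nat.card_prod]

variable {D : ChevalleyDatum} {T : Tb} {C : Tc} {X : Tc3} {Y : Tc4} {F : Type*} [Field F]

namespace TwFix

open Cfsg.Agent.Lib.ChevTw2.TwFix

variable {V : Valid D T} {V2 : Valid2 D T C} {V3 : Valid3 T C X} {ι : Type} (W' : ChevTw2.TwFix V V2 V3 F ι)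
  (V4 : Valid4 D T C Y)
include V4

/-- from the `N` of the pair to `N` -/
noncomputable def toM : (W'.bn V4).N →* ↥(D.monomialSubgroup F) where
  toFun n := ⟨((n : ↥W'.G1) : GL D.Idx F), (W'.mem_sof V4).mp n.2⟩
  map_one' := rfl
  map_mul' _ _ := rfl

/-- from `N ∩ G1` to the `N` of the pair -/
noncomputable def ofM (m : ↥(D.monomialSubgroup F)) (hm : (m : GL D.Idx F) ∈ W'.G1) : (W'.bn V4).N :=
  ⟨⟨m, hm⟩, (W'.mem_sof V4).mpr m.2⟩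

theorem toM_ofM (m : ↥(D.monomialSubgroup F)) (hm : (m : GL D.Idx F) ∈ W'.G1) : toM W' V4 (ofM W' V4 m hm) = m := rfl

theorem toM_mem (n : (W'.bn V4).N) : (toM W' V4 n : GL D.Idx F) ∈ W'.G1 := (n : ↥W'.G1).2

theorem ofM_toM (n : (W'.bn V4).N) : ofM W' V4 (toM W' V4 n) (toM_mem W' V4 n) = n := rfl

/-- the action of the Weyl group on the roots -/
noncomputable def rho1 : W (W'.bn V4) →* Equiv.Perm ℕ :=
  QuotientGroup.lift (HN (W'.bn V4)) ((rho0 V V2 V3).comp (toM W' V4)) (by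
    intro n hn
    rw [MonoidHom.mem_ker]
    rw [mem_HN] at hn
    have h1 : ((n : ↥W'.G1) : GL D.Idx F) ∈ D.borelSubgroup F := (W'.mem_sof V4).mp hn
    have h2 : (toM W' V4 n : GL D.Idx F) ∈ D.diagonalSubgroup F := by
      rw [← B_inf_N V V2 V3]
      exact ⟨h1, (toM W' V4 n).2⟩
    exact rho0_of_H V V2 V3 h2)

theorem rho1_mk (n : (W'.bn V4).N) : rho1 W' V4 (mk _ n) = rho0 V V2 V3 (toM W' V4 n) := rfl

/-- The element of the Weyl group of an element of `N ∩ G1`. -/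
noncomputable def wm (m : ↥(D.monomialSubgroup F)) (hm : (m : GL D.Idx F) ∈ W'.G1) : W (W'.bn V4) := mk _ (ofM W' V4 m hm)

theorem rho1_wm (m : ↥(D.monomialSubgroup F)) (hm : (m : GL D.Idx F) ∈ W'.G1) : rho1 W' V4 (wm W' V4 m hm) = rho0 V V2 V3 m := rfl

theorem wm_mul {m m' : ↥(D.monomialSubgroup F)} (hm : (m : GL D.Idx F) ∈ W'.G1) (hm' : (m' : GL D.Idx F) ∈ W'.G1) :
    wm W' V4 (m * m') (Subgroup.mul_mem _ hm hm') = wm W' V4 m hm * wm W' V4 m' hm' := by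
  unfold wm
  rw [← map_mul]
  rfl

theorem wm_surj (w : W (W'.bn V4)) : ∃ (m : ↥(D.monomialSubgroup F)) (hm : (m : GL D.Idx F) ∈ W'.G1), w = wm W' V4 m hm := by
  obtain ⟨n, rfl⟩ := mk_surjective w
  exact ⟨toM W' V4 n, toM_mem W' V4 n, rfl⟩

/-- the generators of the Weyl group -/
noncomputable def xj (j : ι) : W (W'.bn V4) := wm W' V4 (W'.nj V4 j) (W'.nj_mem V4 j)

theorem xj_mem (j : ι) : xj W' V4 j ∈ Sb (W'.bn V4) := by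
  refine ⟨ofM W' V4 (W'.nj V4 j) (W'.nj_mem V4 j), ⟨j, rfl⟩, rfl⟩

theorem mem_Sb_iff {x : W (W'.bn V4)} (hx : x ∈ Sb (W'.bn V4)) : ∃ j, x = xj W' V4 j := by
  obtain ⟨s, ⟨j, hj⟩, rfl⟩ := hx
  refine ⟨j, ?_⟩
  unfold xj wm
  congr 1
  apply Subtype.ext
  apply Subtype.ext
  exact hj

theorem mem_C_wm {m : ↥(D.monomialSubgroup F)} {hm : (m : GL D.Idx F) ∈ W'.G1} {g : ↥W'.G1} :
    g ∈ Cw (W'.bn V4) (wm W' V4 m hm) ↔ ∃ x ∈ D.borelSubgroup F ⊓ W'.G1, ∃ y ∈ D.borelSubgroup F ⊓ W'.G1, (g : GL D.Idx F) = x * m * y := by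
  unfold wm
  rw [mem_Cw_mk]
  constructor
  · rintro ⟨x, hx, y, hy, rfl⟩
    exact ⟨x, ⟨(W'.mem_sof V4).mp hx, x.2⟩, y, ⟨(W'.mem_sof V4).mp hy, y.2⟩, rfl⟩
  · rintro ⟨x, hx, y, hy, e⟩
    refine ⟨⟨x, hx.2⟩, (W'.mem_sof V4).mpr hx.1, ⟨y, hy.2⟩, (W'.mem_sof V4).mpr hy.1, ?_⟩
    apply Subtype.ext
    exact e

/-- The positive case of the double coset computation. -/
theorem left_pos (j : ι) (n : ↥(D.monomialSubgroup F)) (hnG : (n : GL D.Idx F) ∈ W'.G1) (hP0 : PosOn V V2 V3 (W'.A j) n⁻¹) {b : GL D.Idx F} (hb : b ∈ D.borelSubgroup F ⊓ W'.G1) :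
    ∃ b₁ ∈ D.borelSubgroup F ⊓ W'.G1, ∃ b₂ ∈ D.borelSubgroup F ⊓ W'.G1, (W'.nj V4 j : GL D.Idx F) * b * n = b₁ * ((W'.nj V4 j : GL D.Idx F) * n) * b₂ := by
  set s := W'.nj V4 j with hs
  have hsG : (s : GL D.Idx F) ∈ W'.G1 := W'.nj_mem V4 j
  have hsW : IsW V V2 V3 (W'.A j) s := W'.nj_isW V4 j
  have UB : ∀ {g : GL D.Idx F}, g ∈ D.posUnipotent F ⊓ W'.G1 → g ∈ D.borelSubgroup F ⊓ W'.G1 := fun h => ⟨U_le_B V V2 V3 h.1, h.2⟩
  have HB : ∀ {g : GL D.Idx F}, g ∈ D.diagonalSubgroup F ⊓ W'.G1 → g ∈ D.borelSubgroup F ⊓ W'.G1 := fun h => ⟨H_le_B V V2 V3 h.1, h.2⟩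
  obtain ⟨u, hu, h, hh, rfl⟩ := W'.B1_form V4 hb
  obtain ⟨a, ha, r, hr, e⟩ := U_factor V V2 V3 V4 (W'.A j) (Subgroup.inv_mem _ hu.1)
  have hF := W'.fix_levi j ha hr (by rw [← e]; exact W'.G1_le_Fix (Subgroup.inv_mem _ hu.2))
  have haY : a ∈ W'.Yp j := ⟨ha, hF.1⟩
  have hxY : a⁻¹ ∈ W'.Yp j := Subgroup.inv_mem _ haY
  have eu : u = r⁻¹ * a⁻¹ := by
    have : u = (a * r)⁻¹ := by rw [← e, inv_inv]
    rw [this]
    group
  have hr1G : r⁻¹ ∈ W'.G1 := by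
    have : r⁻¹ = u * a := by rw [eu]; group
    rw [this]
    exact Subgroup.mul_mem _ hu.2 (W'.Yp_le j haY)
  set x := a⁻¹ with hx
  have hr1 : (s : GL D.Idx F) * r⁻¹ * (s : GL D.Idx F)⁻¹ ∈ D.posUnipotent F ⊓ W'.G1 :=
    ⟨R_le_U V V2 V3 V4 (W'.A j) (W'.conj_R_flip V4 hsW.1 (Subgroup.inv_mem _ hr)), Subgroup.mul_mem _ (Subgroup.mul_mem _ hsG hr1G) (Subgroup.inv_mem _ hsG)⟩
  have hh1 : (s : GL D.Idx F) * h * (s : GL D.Idx F)⁻¹ ∈ D.diagonalSubgroup F ⊓ W'.G1 :=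
    ⟨normalizer_conj_mem (N_le_normalizer_H V V2 V3 s.2) hh.1, Subgroup.mul_mem _ (Subgroup.mul_mem _ hsG hh.2) (Subgroup.inv_mem _ hsG)⟩
  set n' : ↥(D.monomialSubgroup F) := ⟨h, H_le_N V V2 V3 hh.1⟩ * n with hn'
  have hn'G : (n' : GL D.Idx F) ∈ W'.G1 := Subgroup.mul_mem _ hh.2 hnG
  have en' : (n' : GL D.Idx F) = h * n := rfl
  have hP : PosOn V V2 V3 (W'.A j) n'⁻¹ := by
    intro r hr
    have e3 : n'⁻¹ = n⁻¹ * (⟨h, H_le_N V V2 V3 hh.1⟩ : ↥(D.monomialSubgroup F))⁻¹ := by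
      rw [hn']; group
    have e4 : rho0 V V2 V3 (⟨h, H_le_N V V2 V3 hh.1⟩ : ↥(D.monomialSubgroup F))⁻¹ = 1 := by
      rw [map_inv, rho0_of_H V V2 V3 (g := ⟨h, H_le_N V V2 V3 hh.1⟩) hh.1, inv_one]
    rw [e3, rho0_mul V V2 V3 V4, e4]
    exact hP0 r hr
  have hc := W'.conj_pos_mem V4 (m := n'⁻¹) (Subgroup.inv_mem _ hn'G) hP hxY
  refine ⟨_, Subgroup.mul_mem _ (UB hr1) (HB hh1), _, UB hc, ?_⟩
  rw [eu]
  show (s : GL D.Idx F) * (r⁻¹ * x * h) * n = (s : GL D.Idx F) * r⁻¹ * (s : GL D.Idx F)⁻¹ * ((s : GL D.Idx F) * h * (s : GL D.Idx F)⁻¹) * ((s : GL D.Idx F) * n) * ((n' : GL D.Idx F)⁻¹ * x * ((n' : GL D.Idx F)⁻¹)⁻¹)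
  rw [en']
  group

theorem xj_mul_wm (j : ι) (m : ↥(D.monomialSubgroup F)) (hm : (m : GL D.Idx F) ∈ W'.G1) :
    xj W' V4 j * wm W' V4 m hm = wm W' V4 (W'.nj V4 j * m) (Subgroup.mul_mem _ (W'.nj_mem V4 j) hm) := by
  rw [wm_mul W' V4 (W'.nj_mem V4 j) hm]
  rfl

/-- The length goes up on the positive side. -/
theorem len_up (j : ι) (m : ↥(D.monomialSubgroup F)) (hm : (m : GL D.Idx F) ∈ W'.G1) (hP : PosOn V V2 V3 (W'.A j) m⁻¹) :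
    len (W'.bn V4) (wm W' V4 m hm) ≤ len (W'.bn V4) (xj W' V4 j * wm W' V4 m hm) := by
  by_contra hc
  push Not at hc
  obtain ⟨a, ha, g, hg, hag⟩ := typeII (xj_mem W' V4 j) hc
  obtain ⟨b₁, hb₁, b₂, hb₂, e1⟩ := (mem_C_wm W' V4).mp ha
  obtain ⟨b₃, hb₃, b₄, hb₄, e2⟩ := (mem_C_wm W' V4).mp hg
  obtain ⟨b₅, hb₅, b₆, hb₆, e3⟩ := left_pos W' V4 j m hm hP (Subgroup.mul_mem _ hb₂ hb₃)
  have h1 : a * g ∈ Cw (W'.bn V4) (wm W' V4 (W'.nj V4 j * m) (Subgroup.mul_mem _ (W'.nj_mem V4 j) hm)) := by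
    rw [mem_C_wm W' V4]
    refine ⟨b₁ * b₅, Subgroup.mul_mem _ hb₁ hb₅, b₆ * b₄, Subgroup.mul_mem _ hb₆ hb₄, ?_⟩
    show (a : GL D.Idx F) * g = _
    rw [e1, e2]
    calc b₁ * (W'.nj V4 j : GL D.Idx F) * b₂ * (b₃ * m * b₄) = b₁ * ((W'.nj V4 j : GL D.Idx F) * (b₂ * b₃) * m) * b₄ := by group
      _ = _ := by
        rw [e3]
        show _ = b₁ * b₅ * ((W'.nj V4 j : GL D.Idx F) * m) * (b₆ * b₄)
        group
  rw [← xj_mul_wm W' V4 j m hm] at h1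
  have h2 := eq_of_mem_Cw hag h1
  have h3 : xj W' V4 j = 1 := mul_eq_right.mp h2.symm
  exact Sb_ne_one (xj_mem W' V4 j) h3

/-- The length goes down on the negative side. -/
theorem len_down (j : ι) (m : ↥(D.monomialSubgroup F)) (hm : (m : GL D.Idx F) ∈ W'.G1) (hN : NegOn V V2 V3 (W'.A j) m⁻¹) :
    len (W'.bn V4) (xj W' V4 j * wm W' V4 m hm) < len (W'.bn V4) (wm W' V4 m hm) := by
  have hW := W'.nj_isW V4 j
  have hP : PosOn V V2 V3 (W'.A j) (W'.nj V4 j * m)⁻¹ := by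
    have e3 : (W'.nj V4 j * m)⁻¹ = m⁻¹ * (W'.nj V4 j)⁻¹ := by group
    rw [e3]
    exact posOn_mul_isW V V2 V3 V4 hN hW.2
  have h1 := len_up W' V4 j _ (Subgroup.mul_mem _ (W'.nj_mem V4 j) hm) hP
  rw [← xj_mul_wm W' V4 j m hm, ← mul_assoc, Sb_mul_self (xj_mem W' V4 j), one_mul] at h1
  have h2 := len_mul_ne (xj_mem W' V4 j) (w := wm W' V4 m hm)
  omega

/-- The set of inversions of an element of the Weyl group. -/
noncomputable def InvN (w : W (W'.bn V4)) : Finset ℕ :=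
  (Finset.Ico (T.n / 2) T.n).filter fun r => rho1 W' V4 w r < T.n / 2

theorem InvN_wm (m : ↥(D.monomialSubgroup F)) (hm : (m : GL D.Idx F) ∈ W'.G1) : InvN W' V4 (wm W' V4 m hm) = Inv V V2 V3 (wOf V V2 V3 m) := by
  ext r
  rw [mem_Inv' V V2 V3 V4]
  simp only [InvN, Finset.mem_filter, Finset.mem_Ico, and_assoc]
  rfl

variable [Finite F]

theorem xj_aux1 (j : ι) : ∀ y ∈ (W'.Yp j).subgroupOf W'.G1, (⟨W'.nj V4 j, W'.nj_mem V4 j⟩ : ↥W'.G1) * y * (⟨W'.nj V4 j, W'.nj_mem V4 j⟩ : ↥W'.G1)⁻¹ ∈ (W'.bn V4).B → y = 1 := by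
  have hW := W'.nj_isW V4 j
  intro y hy h
  have h1 : (y : GL D.Idx F) ∈ W'.Yp j := hy
  have h2 : (W'.nj V4 j : GL D.Idx F) * y * (W'.nj V4 j : GL D.Idx F)⁻¹ ∈ D.borelSubgroup F := (W'.mem_sof V4).mp h
  have h3 : (W'.nj V4 j : GL D.Idx F) * y * (W'.nj V4 j : GL D.Idx F)⁻¹ ∈ D.borelSubgroup F ⊓ D.negUnipotent F :=
    ⟨h2, XM_le_V V V2 V3 V4 _ (conj_XP_flip V V2 V3 V4 hW.1 h1.1)⟩
  rw [B_inf_V V V2 V3, Subgroup.mem_bot] at h3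
  apply Subtype.ext
  show (y : GL D.Idx F) = 1
  have h4 : (y : GL D.Idx F) = (W'.nj V4 j : GL D.Idx F)⁻¹ * ((W'.nj V4 j : GL D.Idx F) * y * (W'.nj V4 j : GL D.Idx F)⁻¹) * (W'.nj V4 j : GL D.Idx F) := by group
  rw [h4, h3]
  group

theorem xj_aux2 (j : ι) : ∀ b ∈ (W'.bn V4).B, ∃ b' ∈ (W'.bn V4).B, ∃ y ∈ (W'.Yp j).subgroupOf W'.G1,
    (⟨W'.nj V4 j, W'.nj_mem V4 j⟩ : ↥W'.G1) * b = b' * (⟨W'.nj V4 j, W'.nj_mem V4 j⟩ : ↥W'.G1) * y := by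
  have hW := W'.nj_isW V4 j
  have hsG := W'.nj_mem V4 j
  intro b hb
  have hb' : (b : GL D.Idx F) ∈ D.borelSubgroup F ⊓ W'.G1 := ⟨(W'.mem_sof V4).mp hb, b.2⟩
  obtain ⟨u, hu, h, hh, e⟩ := W'.B1_form V4 hb'
  -- `b = h u'`
  set u' := h⁻¹ * u * h with hu'
  have hu'M : u' ∈ D.posUnipotent F ⊓ W'.G1 := by
    refine ⟨?_, Subgroup.mul_mem _ (Subgroup.mul_mem _ (Subgroup.inv_mem _ hh.2) hu.2) hh.2⟩
    have := normalizer_conj_mem (H_le_normalizer_U V V2 V3 (Subgroup.inv_mem _ hh.1)) hu.1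
    simpa using this
  obtain ⟨a, ha, r, hr, e2⟩ := U_factor V V2 V3 V4 (W'.A j) (Subgroup.inv_mem _ hu'M.1)
  have hF := W'.fix_levi j ha hr (by rw [← e2]; exact W'.G1_le_Fix (Subgroup.inv_mem _ hu'M.2))
  have haY : a ∈ W'.Yp j := ⟨ha, hF.1⟩
  have eu : u' = r⁻¹ * a⁻¹ := by
    have : u' = (a * r)⁻¹ := by rw [← e2, inv_inv]
    rw [this]
    group
  have hr1G : r⁻¹ ∈ W'.G1 := by
    have : r⁻¹ = u' * a := by rw [eu]; group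
    rw [this]
    exact Subgroup.mul_mem _ hu'M.2 (W'.Yp_le j haY)
  have hr1 : (W'.nj V4 j : GL D.Idx F) * r⁻¹ * (W'.nj V4 j : GL D.Idx F)⁻¹ ∈ D.posUnipotent F ⊓ W'.G1 :=
    ⟨R_le_U V V2 V3 V4 (W'.A j) (W'.conj_R_flip V4 hW.1 (Subgroup.inv_mem _ hr)), Subgroup.mul_mem _ (Subgroup.mul_mem _ hsG hr1G) (Subgroup.inv_mem _ hsG)⟩
  have hh1 : (W'.nj V4 j : GL D.Idx F) * h * (W'.nj V4 j : GL D.Idx F)⁻¹ ∈ D.diagonalSubgroup F ⊓ W'.G1 :=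
    ⟨normalizer_conj_mem (N_le_normalizer_H V V2 V3 (W'.nj V4 j).2) hh.1, Subgroup.mul_mem _ (Subgroup.mul_mem _ hsG hh.2) (Subgroup.inv_mem _ hsG)⟩
  have hbB : (W'.nj V4 j : GL D.Idx F) * h * (W'.nj V4 j : GL D.Idx F)⁻¹ * ((W'.nj V4 j : GL D.Idx F) * r⁻¹ * (W'.nj V4 j : GL D.Idx F)⁻¹) ∈ D.borelSubgroup F ⊓ W'.G1 :=
    ⟨Subgroup.mul_mem _ (H_le_B V V2 V3 hh1.1) (U_le_B V V2 V3 hr1.1), Subgroup.mul_mem _ hh1.2 hr1.2⟩
  refine ⟨⟨_, hbB.2⟩, (W'.mem_sof V4).mpr hbB.1, ⟨a⁻¹, (W'.Yp_le j (Subgroup.inv_mem _ haY))⟩, Subgroup.inv_mem _ haY, ?_⟩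
  apply Subtype.ext
  show (W'.nj V4 j : GL D.Idx F) * b = (W'.nj V4 j : GL D.Idx F) * h * (W'.nj V4 j : GL D.Idx F)⁻¹ * ((W'.nj V4 j : GL D.Idx F) * r⁻¹ * (W'.nj V4 j : GL D.Idx F)⁻¹) * (W'.nj V4 j : GL D.Idx F) * a⁻¹
  have e5 : (b : GL D.Idx F) = h * u' := by
    rw [e, hu']; group
  rw [e5, eu]
  group

theorem xj_aux3 (j : ι) : (W'.Yp j).subgroupOf W'.G1 ≤ (W'.bn V4).B := by
  intro y hy
  have h1 : (y : GL D.Idx F) ∈ W'.Yp j := hy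
  exact (W'.mem_sof V4).mpr (U_le_B V V2 V3 (XP_le_U V V2 V3 V4 _ h1.1))

theorem Cw_xj (j : ι) : Cw (W'.bn V4) (xj W' V4 j) = Cfsg.Agent.Lib.BNPair.C (W'.bn V4) (⟨W'.nj V4 j, W'.nj_mem V4 j⟩ : ↥W'.G1) :=
  Cw_eq_of_mk (n := ofM W' V4 (W'.nj V4 j) (W'.nj_mem V4 j)) rfl

/-- The double coset of a generator. -/
theorem card_xj (j : ι) : Nat.card (Cw (W'.bn V4) (xj W' V4 j)) = Nat.card (W'.bn V4).B * Nat.card ↥(W'.Yp j) := by
  have e1 : Nat.card ↥(W'.Yp j) = Nat.card ↥((W'.Yp j).subgroupOf W'.G1) :=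
    Nat.card_congr (Subgroup.subgroupOfEquivOfLe (W'.Yp_le j)).toEquiv.symm
  rw [Cw_xj W' V4 j, e1]
  exact card_C_eq (W'.bn V4) _ _ (xj_aux3 W' V4 j) (xj_aux1 W' V4 j) (xj_aux2 W' V4 j)

/-- The size of the double cosets. -/
theorem card_Cw_w {q d : ℕ} {a : ι → ℕ} (hY : ∀ j, Nat.card ↥(W'.Yp j) = q ^ a j) (hP : ∀ j, (PJs T C (W'.A j)).card = d * a j) :
    ∀ (k : ℕ) (w : W (W'.bn V4)), len _ w = k → ∃ e, (InvN W' V4 w).card = d * e ∧ Nat.card (Cw (W'.bn V4) w) = Nat.card (W'.bn V4).B * q ^ e := by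
  have hB : 0 < Nat.card (W'.bn V4).B := Nat.card_pos
  intro k
  induction k with
  | zero =>
    intro w hw
    rw [len_eq_zero] at hw
    subst hw
    refine ⟨0, ?_, ?_⟩
    · simp only [mul_zero, Finset.card_eq_zero]
      ext r
      simp only [InvN, map_one, Equiv.Perm.coe_one, id_eq, Finset.mem_filter, Finset.mem_Ico, Finset.notMem_empty, iff_false]
      omega
    · have : Cw (W'.bn V4) (1 : W (W'.bn V4)) = ((W'.bn V4).B : Set ↥W'.G1) := by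
        ext g
        exact mem_Cw_one
      simp only [pow_zero, mul_one]
      rw [this]
      rfl
  | succ k ih =>
    intro w hw
    have hw1 : w ≠ 1 := by
      rintro rfl
      rw [len_one] at hw
      omega
    obtain ⟨x, hx, hlen⟩ := exists_left_letter hw1
    obtain ⟨j, rfl⟩ := mem_Sb_iff W' V4 hx
    have e : xj W' V4 j * (xj W' V4 j * w) = w := by rw [← mul_assoc, Sb_mul_self hx, one_mul]
    obtain ⟨m, hm, hmw⟩ := wm_surj W' V4 (xj W' V4 j * w)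
    have hP' : PosOn V V2 V3 (W'.A j) m⁻¹ := by
      rcases W'.dichotomy V4 j m⁻¹ (W'.G1_le_Fix (Subgroup.inv_mem _ hm)) with h | h
      · exact h
      · exfalso
        have h2 := len_down W' V4 j m hm h
        rw [← hmw, e] at h2
        omega
    obtain ⟨e1, he1, he2⟩ := ih (xj W' V4 j * w) (by omega)
    have h1 := card_Cw_mul (w := xj W' V4 j * w) hx (by rw [e]; omega)
    rw [e, card_xj W' V4 j, he2, hY j] at h1
    refine ⟨e1 + a j, ?_, ?_⟩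
    · have h2 := card_inv_isW_mul V V2 V3 V4 hP' (W'.nj_isW V4 j)
      have h3 : w = wm W' V4 (W'.nj V4 j * m) (Subgroup.mul_mem _ (W'.nj_mem V4 j) hm) := by
        rw [← xj_mul_wm W' V4 j m hm, ← hmw, e]
      rw [h3, InvN_wm W' V4, h2, ← InvN_wm W' V4 m hm, ← hmw, he1, hP j]
      ring
    · have h4 : (Nat.card (W'.bn V4).B * q ^ a j) * (Nat.card (W'.bn V4).B * q ^ e1) = (Nat.card (W'.bn V4).B * q ^ (e1 + a j)) * Nat.card (W'.bn V4).B := by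
        rw [pow_add]; ring
      rw [h4] at h1
      exact (Nat.eq_of_mul_eq_mul_right hB h1).symm

/-- The existence of the top element. -/
theorem exists_top_aux : ∀ (k : ℕ) (m : ↥(D.monomialSubgroup F)), (m : GL D.Idx F) ∈ W'.G1 → (Inv V V2 V3 (wOf V V2 V3 m)).card + k = T.n - T.n / 2 →
    ∃ m0 : ↥(D.monomialSubgroup F), (m0 : GL D.Idx F) ∈ W'.G1 ∧ ∀ r, T.n / 2 ≤ r → r < T.n → rho0 V V2 V3 m0 r < T.n / 2 := by
  intro k
  induction k using Nat.strong_induction_on with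
  | _ k ih =>
    intro m hm hk
    by_cases h : ∀ i < T.l, rho0 V V2 V3 m (T.sim i) < T.n / 2
    · refine ⟨m, hm, fun r h1 h2 => ?_⟩
      have h3 := negOn_of_sim V V2 V3 V4 (J := Set.univ) m (fun i _ hi => h i hi)
      exact h3 r ⟨h1, h2, fun i _ hc => absurd (Set.mem_univ i) hc⟩
    · push Not at h
      obtain ⟨i, hi, h1⟩ := h
      obtain ⟨j, hj⟩ := W'.A_cover i hi
      have hP : PosOn V V2 V3 (W'.A j) m := by
        rcases W'.dichotomy V4 j m (W'.G1_le_Fix hm) with h2 | h2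
        · exact h2
        · have := h2 _ ⟨sim_pos V V2 hi, sim_lt' V V2 V3 hi, sim_inJ V V2 V3 hj hi⟩
          omega
      have hW := W'.nj_isW V4 j
      have hN := negOn_mul_isW V V2 V3 V4 hP hW.1
      have h2 := card_inv_mul_isW V V2 V3 V4 hN (IsW.symm V V2 V3 V4 hW)
      have e : m * W'.nj V4 j * (W'.nj V4 j)⁻¹ = m := by group
      rw [e] at h2
      have hpos : 0 < (PJs T C (W'.A j)).card := Finset.card_pos.mpr ⟨_, (mem_PJs V V2 V3 V4).mpr ⟨sim_pos V V2 hi, sim_lt' V V2 V3 hi, sim_inJ V V2 V3 hj hi⟩⟩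
      have h3 : (Inv V V2 V3 (wOf V V2 V3 (m * W'.nj V4 j))).card ≤ T.n - T.n / 2 := by
        have h4 : Inv V V2 V3 (wOf V V2 V3 (m * W'.nj V4 j)) ⊆ Finset.Ico (T.n / 2) T.n := by
          intro r hr
          rw [mem_Inv' V V2 V3 V4] at hr
          simp only [Finset.mem_Ico]
          exact ⟨hr.1, hr.2.1⟩
        have := Finset.card_le_card h4
        simpa using this
      exact ih (T.n - T.n / 2 - (Inv V V2 V3 (wOf V V2 V3 (m * W'.nj V4 j))).card) (by omega) (m * W'.nj V4 j) (Subgroup.mul_mem _ hm (W'.nj_mem V4 j)) (by omega)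


include W' in
theorem inv_card_le (m : ↥(D.monomialSubgroup F)) : (Inv V V2 V3 (wOf V V2 V3 m)).card ≤ T.n - T.n / 2 := by
  have h4 : Inv V V2 V3 (wOf V V2 V3 m) ⊆ Finset.Ico (T.n / 2) T.n := by
    intro r hr
    rw [mem_Inv' V V2 V3 V4] at hr
    simp only [Finset.mem_Ico]
    exact ⟨hr.1, hr.2.1⟩
  have := Finset.card_le_card h4
  simpa using this

theorem exists_top : ∃ m0 : ↥(D.monomialSubgroup F), (m0 : GL D.Idx F) ∈ W'.G1 ∧ ∀ r, T.n / 2 ≤ r → r < T.n → rho0 V V2 V3 m0 r < T.n / 2 := by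
  have h := inv_card_le W' V4 (1 : ↥(D.monomialSubgroup F))
  exact exists_top_aux W' V4 (T.n - T.n / 2 - (Inv V V2 V3 (wOf V V2 V3 (1 : ↥(D.monomialSubgroup F)))).card) 1 (Subgroup.one_mem _) (by omega)

include W' in
theorem top_conj {m0 : ↥(D.monomialSubgroup F)} (h : ∀ r, T.n / 2 ≤ r → r < T.n → rho0 V V2 V3 m0 r < T.n / 2) {u : GL D.Idx F} (hu : u ∈ D.posUnipotent F) :
    (m0 : GL D.Idx F) * u * (m0 : GL D.Idx F)⁻¹ ∈ D.negUnipotent F := by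
  rw [posUnipotent_eq V] at hu
  refine conj_closure_mem _ ?_ hu
  rintro g ⟨r, t, hr, rfl⟩
  obtain ⟨h1, h2⟩ := (isPos_iff V V2 r).mp hr
  have h2' : r < T.n := by rw [V.hn]; exact h2
  obtain ⟨c, _, e⟩ := conj_x V V2 V3 V4 m0 h2'
  rw [e, negUnipotent_eq V]
  exact Subgroup.subset_closure ⟨_, _, (isNeg_iff V V2 _).mpr (h r h1 h2'), rfl⟩

theorem top_aux1 {m0 : ↥(D.monomialSubgroup F)} (hG : (m0 : GL D.Idx F) ∈ W'.G1) (h : ∀ r, T.n / 2 ≤ r → r < T.n → rho0 V V2 V3 m0 r < T.n / 2) :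
    ∀ y ∈ (D.posUnipotent F ⊓ W'.G1).subgroupOf W'.G1, (⟨m0, hG⟩ : ↥W'.G1) * y * (⟨m0, hG⟩ : ↥W'.G1)⁻¹ ∈ (W'.bn V4).B → y = 1 := by
  intro y hy hb
  have h1 : (y : GL D.Idx F) ∈ D.posUnipotent F := (W'.mem_sof V4).mp hy
  have h2 : (m0 : GL D.Idx F) * y * (m0 : GL D.Idx F)⁻¹ ∈ D.borelSubgroup F := (W'.mem_sof V4).mp hb
  have h3 : (m0 : GL D.Idx F) * y * (m0 : GL D.Idx F)⁻¹ ∈ D.borelSubgroup F ⊓ D.negUnipotent F := ⟨h2, top_conj W' V4 h h1⟩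
  rw [B_inf_V V V2 V3, Subgroup.mem_bot] at h3
  apply Subtype.ext
  show (y : GL D.Idx F) = 1
  have h4 : (y : GL D.Idx F) = (m0 : GL D.Idx F)⁻¹ * ((m0 : GL D.Idx F) * y * (m0 : GL D.Idx F)⁻¹) * (m0 : GL D.Idx F) := by group
  rw [h4, h3]
  group

theorem top_aux2 {m0 : ↥(D.monomialSubgroup F)} (hG : (m0 : GL D.Idx F) ∈ W'.G1) :
    ∀ b ∈ (W'.bn V4).B, ∃ b' ∈ (W'.bn V4).B, ∃ y ∈ (D.posUnipotent F ⊓ W'.G1).subgroupOf W'.G1,
      (⟨m0, hG⟩ : ↥W'.G1) * b = b' * (⟨m0, hG⟩ : ↥W'.G1) * y := by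
  intro b hb
  have hb' : (b : GL D.Idx F) ∈ D.borelSubgroup F ⊓ W'.G1 := ⟨(W'.mem_sof V4).mp hb, b.2⟩
  obtain ⟨u, hu, h, hh, e⟩ := W'.B1_form V4 hb'
  set u' := h⁻¹ * u * h with hu'
  have hu'M : u' ∈ D.posUnipotent F ⊓ W'.G1 := by
    refine ⟨?_, Subgroup.mul_mem _ (Subgroup.mul_mem _ (Subgroup.inv_mem _ hh.2) hu.2) hh.2⟩
    have := normalizer_conj_mem (H_le_normalizer_U V V2 V3 (Subgroup.inv_mem _ hh.1)) hu.1
    simpa using this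
  have hh1 : (m0 : GL D.Idx F) * h * (m0 : GL D.Idx F)⁻¹ ∈ D.diagonalSubgroup F ⊓ W'.G1 :=
    ⟨normalizer_conj_mem (N_le_normalizer_H V V2 V3 m0.2) hh.1, Subgroup.mul_mem _ (Subgroup.mul_mem _ hG hh.2) (Subgroup.inv_mem _ hG)⟩
  refine ⟨⟨_, hh1.2⟩, (W'.mem_sof V4).mpr (H_le_B V V2 V3 hh1.1), ⟨u', hu'M.2⟩, (W'.mem_sof V4).mpr hu'M.1, ?_⟩
  apply Subtype.ext
  show (m0 : GL D.Idx F) * b = (m0 : GL D.Idx F) * h * (m0 : GL D.Idx F)⁻¹ * (m0 : GL D.Idx F) * u'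
  have e5 : (b : GL D.Idx F) = h * u' := by
    rw [e, hu']; group
  rw [e5]
  group

theorem top_aux3 : (D.posUnipotent F ⊓ W'.G1).subgroupOf W'.G1 ≤ (W'.bn V4).B := by
  intro y hy
  have h1 : (y : GL D.Idx F) ∈ D.posUnipotent F := (W'.mem_sof V4).mp hy
  exact (W'.mem_sof V4).mpr (U_le_B V V2 V3 h1)

theorem card_top {m0 : ↥(D.monomialSubgroup F)} (hG : (m0 : GL D.Idx F) ∈ W'.G1) (h : ∀ r, T.n / 2 ≤ r → r < T.n → rho0 V V2 V3 m0 r < T.n / 2) :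
    Nat.card (Cw (W'.bn V4) (wm W' V4 m0 hG)) = Nat.card (W'.bn V4).B * Nat.card ↥(D.posUnipotent F ⊓ W'.G1) := by
  have e1 : Nat.card ↥(D.posUnipotent F ⊓ W'.G1) = Nat.card ↥((D.posUnipotent F ⊓ W'.G1).subgroupOf W'.G1) :=
    Nat.card_congr (Subgroup.subgroupOfEquivOfLe inf_le_right).toEquiv.symm
  have e0 : Cw (W'.bn V4) (wm W' V4 m0 hG) = Cfsg.Agent.Lib.BNPair.C (W'.bn V4) (⟨m0, hG⟩ : ↥W'.G1) :=
    Cw_eq_of_mk (n := ofM W' V4 m0 hG) rfl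
  rw [e0, e1]
  exact card_C_eq (W'.bn V4) _ _ (top_aux3 W' V4) (top_aux1 W' V4 hG h) (top_aux2 W' V4 hG)

/-- The order of `U¹`. -/
theorem card_U1 {q d e : ℕ} {a : ι → ℕ} (hY : ∀ j, Nat.card ↥(W'.Yp j) = q ^ a j) (hP : ∀ j, (PJs T C (W'.A j)).card = d * a j)
    (hd : 0 < d) (he : T.n / 2 = d * e) : Nat.card ↥(D.posUnipotent F ⊓ W'.G1) = q ^ e := by
  have h0 := n_even V2
  obtain ⟨m0, hG, h⟩ := exists_top W' V4
  obtain ⟨e1, h1, h2⟩ := card_Cw_w W' V4 hY hP _ (wm W' V4 m0 hG) rfl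
  rw [card_top W' V4 hG h] at h2
  have hB : 0 < Nat.card (W'.bn V4).B := Nat.card_pos
  have h3 := Nat.eq_of_mul_eq_mul_left hB h2
  have h4 : (InvN W' V4 (wm W' V4 m0 hG)).card = T.n / 2 := by
    have e2 : InvN W' V4 (wm W' V4 m0 hG) = Finset.Ico (T.n / 2) T.n := by
      ext r
      simp only [InvN, Finset.mem_filter, Finset.mem_Ico]
      constructor
      · exact fun h => h.1
      · exact fun h' => ⟨h', h r h'.1 h'.2⟩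
    rw [e2, Nat.card_Ico]
    omega
  rw [h4, he] at h1
  have h5 : e = e1 := Nat.eq_of_mul_eq_mul_left hd h1
  rw [h3, h5]

/-- The order of `B¹`. -/
theorem card_B1 : Nat.card (W'.bn V4).B = Nat.card ↥(D.posUnipotent F ⊓ W'.G1) * Nat.card ↥(D.diagonalSubgroup F ⊓ W'.G1) := by
  have e1 : Nat.card (W'.bn V4).B = Nat.card ↥(D.borelSubgroup F ⊓ W'.G1) :=
    Nat.card_congr (Subgroup.subgroupOfEquivOfLe inf_le_right).toEquiv
  rw [e1, ← Nat.card_prod]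
  let f : ↥(D.posUnipotent F ⊓ W'.G1) × ↥(D.diagonalSubgroup F ⊓ W'.G1) → ↥(D.borelSubgroup F ⊓ W'.G1) := fun p =>
    ⟨(p.1 : GL D.Idx F) * p.2, Subgroup.mul_mem _ ⟨U_le_B V V2 V3 p.1.2.1, p.1.2.2⟩ ⟨H_le_B V V2 V3 p.2.2.1, p.2.2.2⟩⟩
  have hf : Function.Bijective f := by
    constructor
    · rintro ⟨⟨u, hu⟩, ⟨h, hh⟩⟩ ⟨⟨u', hu'⟩, ⟨h', hh'⟩⟩ e
      have e2 : u * h = u' * h' := congrArg Subtype.val e
      have e3 : u'⁻¹ * u = h' * h⁻¹ := by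
        have : u = u' * h' * h⁻¹ := by rw [← e2]; group
        rw [this]; group
      have h1 : u'⁻¹ * u ∈ D.posUnipotent F ⊓ D.diagonalSubgroup F :=
        ⟨Subgroup.mul_mem _ (Subgroup.inv_mem _ hu'.1) hu.1, by rw [e3]; exact Subgroup.mul_mem _ hh'.1 (Subgroup.inv_mem _ hh.1)⟩
      rw [U_inf_H V V2 V3, Subgroup.mem_bot] at h1
      have h2 : u = u' := by
        rw [inv_mul_eq_one] at h1
        exact h1.symm
      subst h2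
      have h3 : h = h' := mul_left_cancel e2
      subst h3
      rfl
    · rintro ⟨b, hb⟩
      obtain ⟨u, hu, h, hh, e⟩ := W'.B1_form V4 hb
      exact ⟨⟨⟨u, hu⟩, ⟨h, hh⟩⟩, Subtype.ext e.symm⟩
  exact (Nat.card_congr (Equiv.ofBijective f hf)).symm

/-- The order of `G¹`. -/
theorem card_G1 [Fintype (W (W'.bn V4))] {q d : ℕ} {a : ι → ℕ} (hY : ∀ j, Nat.card ↥(W'.Yp j) = q ^ a j) (hP : ∀ j, (PJs T C (W'.A j)).card = d * a j)
    (hd : 0 < d) : Nat.card ↥W'.G1 = Nat.card ↥(D.posUnipotent F ⊓ W'.G1) * Nat.card ↥(D.diagonalSubgroup F ⊓ W'.G1) * ∑ w : W (W'.bn V4), q ^ ((InvN W' V4 w).card / d) := by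
  rw [card_eq_sum (P := W'.bn V4), ← card_B1 W' V4, Finset.mul_sum]
  apply Finset.sum_congr rfl
  intro w _
  obtain ⟨e, h1, h2⟩ := card_Cw_w W' V4 hY hP _ w rfl
  rw [h2, h1, Nat.mul_div_cancel_left _ hd]

end TwFix
end Cfsg.Agent.Lib.ChevTw3
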