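import Cfsg.Agent.Lib.ChevTw3
import Cfsg.Agent.Lib.ChevAut3

/-! Twisted groups, step 4: automorphisms and the properties of their fixed points. -/

set_option autoImplicit false
set_option linter.unusedVariables false
set_option linter.unusedSectionVars false
set_option linter.unusedFintypeInType false
set_option linter.unusedDecidableInType false

namespace Cfsg.Agent.Lib.ChevTw4

open Cfsg.Lie Matrix Cfsg.Agent.Lib.ChevEngine Cfsg.Agent.Lib.ChevTab Cfsg.Agent.Lib.ChevMono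
  Cfsg.Agent.Lib.ChevRel Cfsg.Agent.Lib.ChevValid Cfsg.Agent.Lib.ChevGL Cfsg.Agent.Lib.ChevGrad Cfsg.Agent.Lib.ChevL2
  Cfsg.Agent.Lib.ChevU Cfsg.Agent.Lib.ChevU2 Cfsg.Agent.Lib.ChevU3 Cfsg.Agent.Lib.ChevDiag Cfsg.Agent.Lib.ChevV3
  Cfsg.Agent.Lib.ChevH Cfsg.Agent.Lib.ChevN Cfsg.Agent.Lib.ChevN2 Cfsg.Agent.Lib.ChevN3 Cfsg.Agent.Lib.ChevBN Cfsg.Agent.Lib.ChevBN2
  Cfsg.Agent.Lib.ChevV4 Cfsg.Agent.Lib.ChevSimp Cfsg.Agent.Lib.ChevSimp2 Cfsg.Agent.Lib.ChevPar Cfsg.Agent.Lib.ChevV5 Cfsg.Agent.Lib.ChevPar2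
  Cfsg.Agent.Lib.ChevPar3 Cfsg.Agent.Lib.BNPair Cfsg.Agent.Lib.BNCount Cfsg.Agent.Lib.ChevW1 Cfsg.Agent.Lib.ChevW2 Cfsg.Agent.Lib.ChevTw1
  Cfsg.Agent.Lib.ChevTw2 Cfsg.Agent.Lib.ChevTw3 Cfsg.Agent.Lib.ChevAut3

variable {D : ChevalleyDatum} {T : Tb} {C : Tc} {X : Tc3} {Y : Tc4} {F : Type*} [Field F]

/-- An endomorphism of the group acting on root elements. -/
structure TwAut (V : Valid D T) (C : Tc) (F : Type*) [Field F] where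
  σ : ↥(D.group F) →* ↥(D.group F)
  ρ : ℕ → ℕ
  π : ℕ → ℕ
  c : ℕ → F → F
  hσ : ∀ {r : ℕ} (hr : r < T.n) (t : F), ((σ (xG V hr t) : ↥(D.group F)) : GL D.Idx F) = xU V (ρ r) (c r t)
  ρ_lt : ∀ {r : ℕ}, r < T.n → ρ r < T.n
  ρ_pos : ∀ {r : ℕ}, T.n / 2 ≤ r → r < T.n → T.n / 2 ≤ ρ r
  ρ_neg : ∀ {r : ℕ}, r < T.n → ρ (T.neg r) = T.neg (ρ r)
  ρ_sim : ∀ {i : ℕ}, i < T.l → ρ (T.sim i) = T.sim (π i)
  π_lt : ∀ {i : ℕ}, i < T.l → π i < T.l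
  c_ne : ∀ {r : ℕ} {t : F}, r < T.n → t ≠ 0 → c r t ≠ 0
  c_inv : ∀ {r : ℕ} {t : F}, r < T.n → t ≠ 0 → c (T.neg r) (-t⁻¹) = -(c r t)⁻¹
  supp : ∀ {r i : ℕ}, r < T.n → i < T.l → (C.coef (ρ r) (π i) = 0 ↔ C.coef r i = 0)

namespace TwAut

variable {V : Valid D T} (W : TwAut V C F)

/-- The map to matrices. -/
def sg : ↥(D.group F) →* GL D.Idx F := (D.group F).subtype.comp W.σ

theorem sg_apply (g : ↥(D.group F)) : W.sg g = ((W.σ g : ↥(D.group F)) : GL D.Idx F) := rfl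

theorem sg_mem (g : ↥(D.group F)) : W.sg g ∈ D.group F := (W.σ g).2

/-- preimage -/
def pre (K : Subgroup (GL D.Idx F)) : Subgroup (GL D.Idx F) := (K.comap W.sg).map (D.group F).subtype

theorem mem_pre {K : Subgroup (GL D.Idx F)} {x : GL D.Idx F} : x ∈ W.pre K ↔ ∃ hx : x ∈ D.group F, W.sg ⟨x, hx⟩ ∈ K := by
  constructor
  · rintro ⟨y, hy, rfl⟩
    exact ⟨y.2, hy⟩
  · rintro ⟨hx, h⟩
    exact ⟨⟨x, hx⟩, h, rfl⟩

theorem of_pre {K Q : Subgroup (GL D.Idx F)} (h : Q ≤ W.pre K) {x : GL D.Idx F} (hx : x ∈ Q) (hG : x ∈ D.group F) : W.sg ⟨x, hG⟩ ∈ K := by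
  obtain ⟨_, h1⟩ := W.mem_pre.mp (h hx)
  exact h1

theorem sg_x {r : ℕ} (hr : r < T.n) (t : F) (hG : xU V r t ∈ D.group F) : W.sg ⟨xU V r t, hG⟩ = xU V (W.ρ r) (W.c r t) := W.hσ hr t

/-- The group of fixed points. -/
def Fix : Subgroup (GL D.Idx F) := (MonoidHom.eqLocus W.sg (D.group F).subtype).map (D.group F).subtype

theorem mem_Fix {x : GL D.Idx F} : x ∈ W.Fix ↔ ∃ hx : x ∈ D.group F, W.sg ⟨x, hx⟩ = x := by
  constructor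
  · rintro ⟨y, hy, rfl⟩
    exact ⟨y.2, hy⟩
  · rintro ⟨hx, h⟩
    exact ⟨⟨x, hx⟩, h, rfl⟩

theorem sg_of_fix {x : GL D.Idx F} (h : x ∈ W.Fix) (hx : x ∈ D.group F) : W.sg ⟨x, hx⟩ = x := by
  obtain ⟨_, h1⟩ := W.mem_Fix.mp h
  exact h1

theorem Fix_le : W.Fix ≤ D.group F := fun _ h => (W.mem_Fix.mp h).1

section
variable (V2 : Valid2 D T C) (V3 : Valid3 T C X) (V4 : Valid4 D T C Y)
include W V2 V3 V4

theorem ρ_half {r : ℕ} (h : r < T.n / 2) : W.ρ r < T.n / 2 := by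
  have h0 := n_even V2
  have hr : r < T.n := by omega
  have h1 := W.ρ_pos (r := T.neg r) (neg_half' V V2 V3 V4 h) (V.neg_lt hr)
  rw [W.ρ_neg hr] at h1
  have h2 := W.ρ_lt hr
  have h3 : T.neg (W.ρ r) = T.n - 1 - W.ρ r := rfl
  omega

theorem U_le_pre : D.posUnipotent F ≤ W.pre (D.posUnipotent F) := by
  conv_lhs => rw [posUnipotent_eq V]
  rw [Subgroup.closure_le]
  rintro g ⟨r, t, hr, rfl⟩
  obtain ⟨h1, h2⟩ := (isPos_iff V V2 r).mp hr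
  have h2' : r < T.n := by rw [V.hn]; exact h2
  refine W.mem_pre.mpr ⟨xU_mem_group V h2 t, ?_⟩
  rw [W.sg_x h2']
  exact xU_mem_U V V2 V3 (W.ρ_pos h1 h2') (W.ρ_lt h2') _

theorem V_le_pre : D.negUnipotent F ≤ W.pre (D.negUnipotent F) := by
  conv_lhs => rw [negUnipotent_eq V]
  rw [Subgroup.closure_le]
  rintro g ⟨r, t, hr, rfl⟩
  have h1 := (isNeg_iff V V2 r).mp hr
  have h0 := n_even V2
  have h2' : r < T.n := by omega
  refine W.mem_pre.mpr ⟨xU_mem_group V (by rw [← V.hn]; exact h2') t, ?_⟩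
  rw [W.sg_x h2', negUnipotent_eq V]
  exact Subgroup.subset_closure ⟨_, _, (isNeg_iff V V2 _).mpr (W.ρ_half V2 V3 V4 h1), rfl⟩

theorem sg_n {r : ℕ} (hr : r < T.n) {t : F} (ht : t ≠ 0) (hG : nU V r t ∈ D.group F) : W.sg ⟨nU V r t, hG⟩ = nU V (W.ρ r) (W.c r t) := by
  have hr' : r < D.nroots := by rw [← V.hn]; exact hr
  have hs' : W.ρ r < D.nroots := by rw [← V.hn]; exact W.ρ_lt hr
  have hn := V.neg_lt hr
  have e : (⟨nU V r t, hG⟩ : ↥(D.group F)) = xG V hr t * xG V hn (-t⁻¹) * xG V hr t := by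
    apply Subtype.ext
    show nU V r t = xU V r t * xU V (T.neg r) (-t⁻¹) * xU V r t
    rw [nU_eq, V.neg_eq hr']
  rw [e, nU_eq, map_mul, map_mul]
  show W.sg _ * W.sg _ * W.sg _ = _
  rw [show W.sg (xG V hr t) = _ from W.hσ hr t, show W.sg (xG V hn (-t⁻¹)) = _ from W.hσ hn _, W.c_inv hr ht, W.ρ_neg hr, V.neg_eq hs']

theorem nn_mem_H {s : ℕ} (hs : s < T.n) {a b : F} (ha : a ≠ 0) (hb : b ≠ 0) : nU V s a * nU V s b ∈ D.diagonalSubgroup F := by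
  have hs' : s < D.nroots := by rw [← V.hn]; exact hs
  have e : nU V s a * nU V s b = hU V s a * (hU V s (-b))⁻¹ := by
    rw [hU_eq, hU_eq, _root_.mul_inv_rev, nU_inv, nU_inv, neg_neg, neg_neg]
    have : nU V s (-1 : F) * nU V s (1 : F) = 1 := by
      have h := nU_inv V s (1 : F)
      rw [← h]
      exact inv_mul_cancel _
    calc nU V s a * nU V s b = nU V s a * (nU V s (-1) * nU V s 1) * nU V s b := by rw [this, mul_one]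
      _ = _ := by group
  rw [e]
  exact Subgroup.mul_mem _ (hU_mem_H V V2 V3 hs' ha) (Subgroup.inv_mem _ (hU_mem_H V V2 V3 hs' (neg_ne_zero.mpr hb)))

theorem H_le_pre : D.diagonalSubgroup F ≤ W.pre (D.diagonalSubgroup F) := by
  conv_lhs => rw [diagonalSubgroup_eq V]
  rw [Subgroup.closure_le]
  rintro g ⟨r, t, hr, ht, rfl⟩
  have hr' : r < T.n := by rw [V.hn]; exact hr
  have hG := hU_mem_G V hr t
  refine W.mem_pre.mpr ⟨hG, ?_⟩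
  have hG1 := nU_mem_G V hr t
  have hG2 := nU_mem_G V hr (-1 : F)
  have e : (⟨hU V r t, hG⟩ : ↥(D.group F)) = ⟨nU V r t, hG1⟩ * ⟨nU V r (-1), hG2⟩ := by
    apply Subtype.ext
    exact hU_eq V r t
  rw [e, map_mul, W.sg_n V2 V3 V4 hr' ht, W.sg_n V2 V3 V4 hr' (neg_ne_zero.mpr one_ne_zero)]
  exact W.nn_mem_H V2 V3 V4 (W.ρ_lt hr') (W.c_ne hr' ht) (W.c_ne hr' (neg_ne_zero.mpr one_ne_zero))

theorem n_mem_N' {s : ℕ} (hs : s < T.n) {a : F} (ha : a ≠ 0) : nU V s a ∈ D.monomialSubgroup F := by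
  have hs' : s < D.nroots := by rw [← V.hn]; exact hs
  have e : nU V s a = hU V s a * nU V s 1 := by
    rw [hU_eq]
    have : nU V s (-1 : F) * nU V s (1 : F) = 1 := by
      have h := nU_inv V s (1 : F)
      rw [← h]
      exact inv_mul_cancel _
    rw [mul_assoc, this, mul_one]
  rw [e]
  exact Subgroup.mul_mem _ (H_le_N V V2 V3 (hU_mem_H V V2 V3 hs' ha)) (by
    rw [monomialSubgroup_eq V]
    exact Subgroup.mem_sup_right (Subgroup.subset_closure ⟨s, hs', rfl⟩))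

theorem N_le_pre : D.monomialSubgroup F ≤ W.pre (D.monomialSubgroup F) := by
  conv_lhs => rw [monomialSubgroup_eq V]
  apply sup_le
  · intro x hx
    obtain ⟨hG, h⟩ := W.mem_pre.mp (W.H_le_pre V2 V3 V4 hx)
    exact W.mem_pre.mpr ⟨hG, H_le_N V V2 V3 h⟩
  · rw [Subgroup.closure_le]
    rintro g ⟨r, hr, rfl⟩
    have hr' : r < T.n := by rw [V.hn]; exact hr
    refine W.mem_pre.mpr ⟨nU_mem_G V hr 1, ?_⟩
    rw [W.sg_n V2 V3 V4 hr' one_ne_zero]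
    exact W.n_mem_N' V2 V3 V4 (W.ρ_lt hr') (W.c_ne hr' one_ne_zero)

theorem B_le_pre : D.borelSubgroup F ≤ W.pre (D.borelSubgroup F) := by
  unfold ChevalleyDatum.borelSubgroup
  apply sup_le
  · intro x hx
    obtain ⟨hG, h⟩ := W.mem_pre.mp (W.U_le_pre V2 V3 V4 hx)
    exact W.mem_pre.mpr ⟨hG, Subgroup.mem_sup_left h⟩
  · intro x hx
    obtain ⟨hG, h⟩ := W.mem_pre.mp (W.H_le_pre V2 V3 V4 hx)
    exact W.mem_pre.mpr ⟨hG, Subgroup.mem_sup_right h⟩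

/-- The image of an element of `N`. -/
noncomputable def sN (m : ↥(D.monomialSubgroup F)) : ↥(D.monomialSubgroup F) :=
  ⟨W.sg ⟨m, N_le_G V m.2⟩, W.of_pre (W.N_le_pre V2 V3 V4) m.2 _⟩

/-- The action of the image on the roots. -/
theorem rho0_sN (m : ↥(D.monomialSubgroup F)) {r : ℕ} (hr : r < T.n) :
    rho0 V V2 V3 (W.sN V2 V3 V4 m) (W.ρ r) = W.ρ (rho0 V V2 V3 m r) := by
  obtain ⟨a, ha, e1⟩ := conj_x V V2 V3 V4 m hr
  have hl := rho0_lt V V2 V3 m hr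
  have hs := W.ρ_lt hr
  obtain ⟨b, hb, e2⟩ := conj_x V V2 V3 V4 (W.sN V2 V3 V4 m) hs
  have h1 := e1 1
  have e3 : (⟨m, N_le_G V m.2⟩ : ↥(D.group F)) * xG V hr 1 * (⟨m, N_le_G V m.2⟩ : ↥(D.group F))⁻¹ = xG V hl (a * 1) := by
    apply Subtype.ext
    exact h1
  have h2 := congrArg W.sg e3
  rw [map_mul, map_mul, map_inv] at h2
  rw [show W.sg (xG V hr 1) = _ from W.hσ hr 1, show W.sg (xG V hl (a * 1)) = _ from W.hσ hl _] at h2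
  have h3 := e2 (W.c r 1)
  have e4 : ((W.sN V2 V3 V4 m : ↥(D.monomialSubgroup F)) : GL D.Idx F) = W.sg ⟨m, N_le_G V m.2⟩ := rfl
  rw [e4] at h3
  rw [h3] at h2
  exact x_inj V V2 (rho0_lt V V2 V3 _ hs) (W.ρ_lt hl) (mul_ne_zero hb (W.c_ne hr one_ne_zero)) h2

/-- The subgroup `Um`, in terms of the action on the roots. -/
theorem Um_eq (m : ↥(D.monomialSubgroup F)) :
    Um D F (m : GL D.Idx F) = Subgroup.closure {x | ∃ (r : ℕ) (t : F), T.n / 2 ≤ r ∧ r < T.n ∧ rho0 V V2 V3 m r < T.n / 2 ∧ x = xU V r t} := by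
  unfold Um
  congr 1
  ext x
  constructor
  · rintro ⟨r, t, h1, h2, h3⟩
    obtain ⟨h4, h5⟩ := (isPos_iff V V2 r).mp h1
    have h5' : r < T.n := by rw [V.hn]; exact h5
    refine ⟨r, t, h4, h5', ?_, eq_xU V h3⟩
    by_contra hc
    obtain ⟨c, hc', e⟩ := conj_x V V2 V3 V4 m h5'
    have h7 : xU V r 1 ∈ D.rootSubgroup F r := (mem_rootSubgroup V).mpr ⟨1, rfl⟩
    have h8 : (m : GL D.Idx F) * xU V r 1 * (m : GL D.Idx F)⁻¹ ∈ D.negUnipotent F := h2 ⟨_, h7, rfl⟩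
    rw [e] at h8
    have h9 : xU V (rho0 V V2 V3 m r) (c * 1) ∈ D.borelSubgroup F ⊓ D.negUnipotent F :=
      ⟨U_le_B V V2 V3 (xU_mem_U V V2 V3 (by omega) (rho0_lt V V2 V3 m h5') _), h8⟩
    rw [B_inf_V V V2 V3, Subgroup.mem_bot] at h9
    exact xU_ne_one V V2 V3 V4 (rho0_lt V V2 V3 m h5') (by simpa using hc') h9
  · rintro ⟨r, t, h1, h2, h3, rfl⟩
    refine ⟨r, t, (isPos_iff V V2 r).mpr ⟨h1, by rw [← V.hn]; exact h2⟩, ?_, xU_val V r t⟩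
    rintro _ ⟨y, hy, rfl⟩
    obtain ⟨t', rfl⟩ := (mem_rootSubgroup V).mp hy
    obtain ⟨c, _, e⟩ := conj_x V V2 V3 V4 m h2
    show (m : GL D.Idx F) * xU V r t' * (m : GL D.Idx F)⁻¹ ∈ D.negUnipotent F
    rw [e, negUnipotent_eq V]
    exact Subgroup.subset_closure ⟨_, _, (isNeg_iff V V2 _).mpr h3, rfl⟩

/-- The image of `Um`. -/
theorem Um_le_pre (m : ↥(D.monomialSubgroup F)) : Um D F (m : GL D.Idx F) ≤ W.pre (Um D F (W.sN V2 V3 V4 m : GL D.Idx F)) := by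
  rw [W.Um_eq V2 V3 V4 m, Subgroup.closure_le]
  rintro x ⟨r, t, h1, h2, h3, rfl⟩
  refine W.mem_pre.mpr ⟨xU_mem_group V (by rw [← V.hn]; exact h2) t, ?_⟩
  rw [W.sg_x h2, W.Um_eq V2 V3 V4]
  refine Subgroup.subset_closure ⟨_, _, W.ρ_pos h1 h2, W.ρ_lt h2, ?_, rfl⟩
  rw [W.rho0_sN V2 V3 V4 m h2]
  exact W.ρ_half V2 V3 V4 h3

/-- `Um` does not see `H`. -/
theorem Um_mul_H {h : GL D.Idx F} (hh : h ∈ D.diagonalSubgroup F) (m : ↥(D.monomialSubgroup F)) :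
    Um D F (h * m) = Um D F (m : GL D.Idx F) := by
  have e := W.Um_eq V2 V3 V4 (⟨h, H_le_N V V2 V3 hh⟩ * m)
  have e2 : ((⟨h, H_le_N V V2 V3 hh⟩ * m : ↥(D.monomialSubgroup F)) : GL D.Idx F) = h * m := rfl
  rw [e2] at e
  rw [e, W.Um_eq V2 V3 V4 m]
  have e3 : rho0 V V2 V3 (⟨h, H_le_N V V2 V3 hh⟩ * m : ↥(D.monomialSubgroup F)) = rho0 V V2 V3 m := by
    rw [map_mul, rho0_of_H V V2 V3 (g := ⟨h, H_le_N V V2 V3 hh⟩) hh, one_mul]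
  rw [e3]

/-- A general cancellation property. -/
theorem fix_of_inf {P Q : Subgroup (GL D.Idx F)} (hP : P ≤ W.pre P) (hQ : Q ≤ W.pre Q) (hPQ : P ⊓ Q = ⊥)
    {x r : GL D.Idx F} (hx : x ∈ P) (hr : r ∈ Q) (hF : x * r ∈ W.Fix) : x ∈ W.Fix ∧ r ∈ W.Fix := by
  obtain ⟨hxG, h1⟩ := W.mem_pre.mp (hP hx)
  obtain ⟨hrG, h2⟩ := W.mem_pre.mp (hQ hr)
  have h3 := W.sg_of_fix hF (Subgroup.mul_mem _ hxG hrG)
  have e : (⟨x * r, Subgroup.mul_mem _ hxG hrG⟩ : ↥(D.group F)) = ⟨x, hxG⟩ * ⟨r, hrG⟩ := rfl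
  rw [e, map_mul] at h3
  have h4 : x⁻¹ * W.sg ⟨x, hxG⟩ = r * (W.sg ⟨r, hrG⟩)⁻¹ := by
    have : W.sg ⟨x, hxG⟩ = x * r * (W.sg ⟨r, hrG⟩)⁻¹ := by rw [← h3]; group
    rw [this]; group
  have h5 : x⁻¹ * W.sg ⟨x, hxG⟩ ∈ P ⊓ Q :=
    ⟨Subgroup.mul_mem _ (Subgroup.inv_mem _ hx) h1, by rw [h4]; exact Subgroup.mul_mem _ hr (Subgroup.inv_mem _ h2)⟩
  rw [hPQ, Subgroup.mem_bot] at h5
  have h6 : W.sg ⟨x, hxG⟩ = x := by
    rw [inv_mul_eq_one] at h5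
    exact h5.symm
  have h7 : W.sg ⟨r, hrG⟩ = r := by
    rw [h6] at h3
    exact mul_left_cancel h3
  exact ⟨W.mem_Fix.mpr ⟨hxG, h6⟩, W.mem_Fix.mpr ⟨hrG, h7⟩⟩

theorem fix_UN {x m : GL D.Idx F} (hx : x ∈ D.posUnipotent F) (hm : m ∈ D.monomialSubgroup F) (hF : x * m ∈ W.Fix) : x ∈ W.Fix ∧ m ∈ W.Fix :=
  W.fix_of_inf V2 V3 V4 (W.U_le_pre V2 V3 V4) (W.N_le_pre V2 V3 V4) (U_inf_N V V2 V3) hx hm hF

theorem fix_canon {b m u : GL D.Idx F} (hb : b ∈ D.borelSubgroup F) (hm : m ∈ D.monomialSubgroup F) (hu : u ∈ Um D F m) (hF : b * m * u ∈ W.Fix) : u ∈ W.Fix := by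
  set m' : ↥(D.monomialSubgroup F) := ⟨m, hm⟩ with hm'
  have hbG := B_le_G V V2 hb
  have hmG := N_le_G V hm
  have huU := Um_le_U V V2 V3 m hu
  have huG := U_le_G V V2 huU
  have h3 := W.sg_of_fix hF (Subgroup.mul_mem _ (Subgroup.mul_mem _ hbG hmG) huG)
  have e : (⟨b * m * u, Subgroup.mul_mem _ (Subgroup.mul_mem _ hbG hmG) huG⟩ : ↥(D.group F)) = ⟨b, hbG⟩ * ⟨m, hmG⟩ * ⟨u, huG⟩ := rfl
  rw [e, map_mul, map_mul] at h3
  have h1 := W.of_pre (W.B_le_pre V2 V3 V4) hb hbG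
  have h2 : W.sg ⟨m, hmG⟩ ∈ D.monomialSubgroup F := W.of_pre (W.N_le_pre V2 V3 V4) hm hmG
  have h4 : W.sg ⟨u, huG⟩ ∈ Um D F (W.sg ⟨m, hmG⟩) := W.of_pre (W.Um_le_pre V2 V3 V4 m') hu huG
  have h5 := (canon_unique V V2 V3 hb h1 hm h2 hu h4 h3.symm).1
  -- `σ m = h' m`
  set h' := W.sg ⟨m, hmG⟩ * m⁻¹ with hh'
  have hh : h' ∈ D.diagonalSubgroup F := by
    have h6 := normalizer_conj_mem (N_le_normalizer_H V V2 V3 hm) h5
    have e2 : m * (m⁻¹ * W.sg ⟨m, hmG⟩) * m⁻¹ = h' := by rw [hh']; group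
    rwa [e2] at h6
  have e3 : W.sg ⟨m, hmG⟩ = h' * m := by rw [hh']; group
  have h7 : W.sg ⟨u, huG⟩ ∈ Um D F m := by
    have h8 := W.Um_mul_H V2 V3 V4 hh m'
    rw [← h8]
    show W.sg ⟨u, huG⟩ ∈ Um D F (h' * m)
    rw [← e3]
    exact h4
  have h9 : b * m * u = (W.sg ⟨b, hbG⟩ * h') * m * W.sg ⟨u, huG⟩ := by
    rw [← h3, e3]
    group
  have h10 := (canon_unique V V2 V3 hb (Subgroup.mul_mem _ h1 (H_le_B V V2 V3 hh)) hm hm hu h7 h9).2 rfl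
  exact W.mem_Fix.mpr ⟨huG, h10.2.symm⟩

/-- The condition on a subset `J` of simple roots. -/
structure Stable (W : TwAut V C F) (J : Set ℕ) : Prop where
  hP : ∀ {r : ℕ}, PJ T C J r → PJ T C J (W.ρ r)
  hQ : ∀ {r : ℕ}, QJ T C J r → QJ T C J (W.ρ r)

theorem XP_le_pre {J : Set ℕ} (h : W.Stable J) : XP V C F J ≤ W.pre (XP V C F J) := by
  conv_lhs => unfold XP
  rw [Subgroup.closure_le]
  rintro g ⟨r, t, hr, rfl⟩
  refine W.mem_pre.mpr ⟨xU_mem_group V (by rw [← V.hn]; exact hr.2.1) t, ?_⟩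
  rw [W.sg_x hr.2.1]
  exact Subgroup.subset_closure ⟨_, _, h.hP hr, rfl⟩

theorem R_le_pre {J : Set ℕ} (h : W.Stable J) : D.unipotentRadical F J ≤ W.pre (D.unipotentRadical F J) := by
  conv_lhs => rw [radical_eq V V2 V3 V4]
  rw [Subgroup.closure_le]
  rintro g ⟨r, t, hr, rfl⟩
  have hq := QJ_of_RJ V V2 V3 V4 hr
  refine W.mem_pre.mpr ⟨xU_mem_group V (by rw [← V.hn]; exact hq.2.1) t, ?_⟩
  rw [W.sg_x hq.2.1]
  exact x_mem_R V V2 V3 V4 (h.hQ hq) _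

/-- The associated structure. -/
noncomputable def toFix {ι : Type} (A : ι → Set ℕ) (hS : ∀ j, W.Stable (A j))
    (A_lt : ∀ j, ∀ i ∈ A j, i < T.l)
    (π_A : ∀ j, ∀ i ∈ A j, W.π i ∈ A j)
    (A_trans : ∀ j, ∀ i ∈ A j, ∀ i' ∈ A j, ∃ e : ℕ, W.π^[e] i = i')
    (A_cover : ∀ i < T.l, ∃ j, i ∈ A j)
    (A_disj : ∀ i j j', i ∈ A j → i ∈ A j' → j = j')
    (A_ne : ∀ j, (A j).Nonempty)
    (Yn_ne : ∀ j, ∃ y ∈ XM V C F (A j), y ∈ W.Fix ∧ y ≠ 1) : ChevTw2.TwFix V V2 V3 F ι where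
  Fix := W.Fix
  A := A
  ρ := W.ρ
  π := W.π
  fix_le := W.Fix_le
  fix_UN := W.fix_UN V2 V3 V4
  fix_canon := W.fix_canon V2 V3 V4
  fix_levi := by
    intro j x r hx hr hF
    exact W.fix_of_inf V2 V3 V4 (W.XP_le_pre V2 V3 V4 (hS j)) (W.R_le_pre V2 V3 V4 (hS j)) (XP_inf_R V V2 V3 V4 _) hx hr hF
  fix_comm := by
    intro m hm r hr
    have h1 := W.rho0_sN V2 V3 V4 m hr
    have e : W.sN V2 V3 V4 m = m := by
      apply Subtype.ext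
      exact W.sg_of_fix hm _
    rwa [e] at h1
  ρ_pos := fun r h1 h2 => W.ρ_pos h1 h2
  ρ_neg := fun r h => W.ρ_half V2 V3 V4 h
  ρ_sim := fun i h => W.ρ_sim h
  A_lt := A_lt
  π_A := π_A
  A_trans := A_trans
  A_cover := A_cover
  A_disj := A_disj
  A_ne := A_ne
  Yn_ne := Yn_ne

end
end TwAut
end Cfsg.Agent.Lib.ChevTw4
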