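import Cfsg.Agent.Lib.ChevTw4
import Cfsg.Agent.Lib.ChevAut

/-! Twisted groups, step 5: graph-field automorphisms. -/

set_option autoImplicit false
set_option linter.unusedVariables false
set_option linter.unusedSectionVars false
set_option linter.unusedFintypeInType false
set_option linter.unusedDecidableInType false

namespace Cfsg.Agent.Lib.ChevTw5

open Cfsg.Lie Matrix Cfsg.Agent.Lib.ChevEngine Cfsg.Agent.Lib.ChevTab Cfsg.Agent.Lib.ChevMono
  Cfsg.Agent.Lib.ChevRel Cfsg.Agent.Lib.ChevValid Cfsg.Agent.Lib.ChevGL Cfsg.Agent.Lib.ChevGrad Cfsg.Agent.Lib.ChevL2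
  Cfsg.Agent.Lib.ChevU Cfsg.Agent.Lib.ChevU2 Cfsg.Agent.Lib.ChevU3 Cfsg.Agent.Lib.ChevDiag Cfsg.Agent.Lib.ChevV3
  Cfsg.Agent.Lib.ChevH Cfsg.Agent.Lib.ChevN Cfsg.Agent.Lib.ChevN2 Cfsg.Agent.Lib.ChevN3 Cfsg.Agent.Lib.ChevBN Cfsg.Agent.Lib.ChevBN2
  Cfsg.Agent.Lib.ChevV4 Cfsg.Agent.Lib.ChevSimp Cfsg.Agent.Lib.ChevSimp2 Cfsg.Agent.Lib.ChevPar Cfsg.Agent.Lib.ChevV5 Cfsg.Agent.Lib.ChevPar2
  Cfsg.Agent.Lib.ChevPar3 Cfsg.Agent.Lib.BNPair Cfsg.Agent.Lib.BNCount Cfsg.Agent.Lib.ChevW1 Cfsg.Agent.Lib.ChevW2 Cfsg.Agent.Lib.ChevTw1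
  Cfsg.Agent.Lib.ChevTw2 Cfsg.Agent.Lib.ChevTw3 Cfsg.Agent.Lib.ChevAut3 Cfsg.Agent.Lib.ChevTw4

variable {D : ChevalleyDatum} {T : Tb} {C : Tc} {X : Tc3} {Y : Tc4} {F : Type*} [Field F]

/-- The data of a diagram automorphism. -/
structure GraphOk (T : Tb) (C : Tc) (ρ ρ' π π' : ℕ → ℕ) (ε : ℕ → ℤ) : Prop where
  ρ_lt : ∀ r < T.n, ρ r < T.n
  ρ'_lt : ∀ r < T.n, ρ' r < T.n
  ρ'ρ : ∀ r < T.n, ρ' (ρ r) = r
  ρρ' : ∀ r < T.n, ρ (ρ' r) = r
  π_lt : ∀ i < T.l, π i < T.l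
  π'_lt : ∀ i < T.l, π' i < T.l
  π'π : ∀ i < T.l, π' (π i) = i
  ππ' : ∀ i < T.l, π (π' i) = i
  ε_pm : ∀ r < T.n, ε r = 1 ∨ ε r = -1
  ε_neg : ∀ r < T.n, ε (T.neg r) = ε r
  ρ_neg : ∀ r < T.n, ρ (T.neg r) = T.neg (ρ r)
  ρ_pos : ∀ r < T.n, T.n / 2 ≤ r → T.n / 2 ≤ ρ r
  ρ_sim : ∀ i < T.l, ρ (T.sim i) = T.sim (π i)
  ca : ∀ j < T.l, ∀ r < T.n, T.ca (π j) (ρ r) = T.ca j r
  co : ∀ r < T.n, ∀ i < T.l, T.co (ρ r) (π i) = T.co r i
  al : ∀ r < T.n, ∀ c < T.n, alignL T.n ρ ε (ε c) (ε r) 1 (T.ch r c) (T.ch (ρ r) (ρ c)) = true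
  coef : ∀ r < T.n, ∀ i < T.l, C.coef (ρ r) (π i) = C.coef r i

/-- The matrix of a diagram automorphism. -/
def Pmat (D : ChevalleyDatum) (l : ℕ) (F : Type*) [Field F] (ρ π : ℕ → ℕ) (ε : ℕ → ℤ) : Matrix D.Idx D.Idx F :=
  fun a b => if code D a = (if code D b < l then π (code D b) else l + ρ (code D b - l)) then
    (if code D b < l then 1 else ((ε (code D b - l) : ℤ) : F)) else 0

section
variable (hl : T.l = D.rank) (hn : T.n = D.nroots)
include hl

theorem P_h (ρ π : ℕ → ℕ) (ε : ℕ → ℤ) {j : ℕ} (hj : j < T.l) :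
    Pmat D T.l F ρ π ε *ᵥ bas D j = bas D (π j) := by
  have hj' : j < D.rank := by rw [← hl]; exact hj
  have e : j = code D (Sum.inl ⟨j, hj'⟩) := rfl
  funext a
  conv_lhs => rw [e, mulVec_bas_code]
  have e1 : code D (Sum.inl ⟨j, hj'⟩ : D.Idx) = j := rfl
  unfold Pmat
  rw [e1, if_pos hj, if_pos hj]
  rfl

theorem P_e (ρ π : ℕ → ℕ) (ε : ℕ → ℤ) {c : ℕ} (hn : T.n = D.nroots) (hc : c < T.n) :
    Pmat D T.l F ρ π ε *ᵥ bas D (T.l + c) = ((ε c : ℤ) : F) • bas D (T.l + ρ c) := by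
  have hc' : c < D.nroots := by rw [← hn]; exact hc
  have e : T.l + c = code D (Sum.inr ⟨c, hc'⟩) := by simp only [code_inr, hl]
  funext a
  conv_lhs => rw [e, mulVec_bas_code]
  have e2 : code D (Sum.inr ⟨c, hc'⟩ : D.Idx) = T.l + c := e.symm
  have e3 : T.l + c - T.l = c := by omega
  have e4 : ¬ T.l + c < T.l := by omega
  simp only [Pmat, e2, Pi.smul_apply, smul_eq_mul, bas, if_neg e4, e3]
  split_ifs <;> simp

end

section
variable {ρ ρ' π π' : ℕ → ℕ} {ε : ℕ → ℤ}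

/-- The generalization of `n_mulVec_cv`. -/
theorem P_cv {M : Matrix D.Idx D.Idx F} (hM : ∀ c < T.n, M *ᵥ bas D (T.l + c) = ((ε c : ℤ) : F) • bas D (T.l + ρ c))
    (ec η : ℤ) (hη : η = 1 ∨ η = -1)
    (ηk : ℤ) (k : ℕ) (hk : ηk = η ^ k) (t : F) (L L' : List (ℕ × ℤ))
    (h : alignL T.n ρ ε ec η ηk L L' = true) :
    M *ᵥ cv D T k L t = ((ec : ℤ) : F) • cv D T k L' (((η : ℤ) : F) * t) := by
  induction L generalizing L' ηk k with
  | nil => cases L' with
    | nil => simp [cv]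
    | cons e' L' => simp [alignL] at h
  | cons e L ih => cases L' with
    | nil => simp [alignL] at h
    | cons e' L' =>
      simp only [alignL, Bool.and_eq_true, decide_eq_true_eq] at h
      obtain ⟨⟨⟨h1, h2⟩, h3⟩, h4⟩ := h
      have h1' : e.1 < T.n := by simpa using h1
      have h2' : e'.1 = ρ e.1 := by simpa using h2
      simp only [cv]
      rw [Matrix.mulVec_add, Matrix.mulVec_smul, hM _ h1',
        ih (ηk * η) (k + 1) (by rw [hk]; ring) L' h4, smul_add, h2', smul_smul, smul_smul]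
      congr 2
      have h5 := congrArg (Int.cast : ℤ → F) h3
      push_cast at h5
      have hpow : ((ηk : ℤ) : F) = ((η : ℤ) : F) ^ k := by rw [hk]; push_cast; rfl
      rw [hpow] at h5
      rw [mul_pow]
      calc ((e.2 : ℤ) : F) * t ^ (k + 1) * ((ε e.1 : ℤ) : F)
          = ((e.2 : ℤ) : F) * ((ε e.1 : ℤ) : F) * t ^ (k + 1) := by ring
        _ = _ := by rw [h5]; ring

variable (V : Valid D T) (G : GraphOk T C ρ ρ' π π' ε)
include V G

theorem P_x_eq {r : ℕ} (hr : r < T.n) (t : F) :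
    Pmat D T.l F ρ π ε * D.x F r t = D.x F (ρ r) (((ε r : ℤ) : F) * t) * Pmat D T.l F ρ π ε := by
  have hT := V.hT
  have hl := V.hl
  have hn := V.hn
  have hs' := G.ρ_lt r hr
  set P := Pmat D T.l F ρ π ε with hP
  have Ph : ∀ {j : ℕ}, j < T.l → P *ᵥ bas D j = bas D (π j) := fun hj => P_h hl ρ π ε hj
  have Pe : ∀ {c : ℕ}, c < T.n → P *ᵥ bas D (T.l + c) = ((ε c : ℤ) : F) • bas D (T.l + ρ c) := fun hc => P_e hl ρ π ε hn hc
  set η : F := ((ε r : ℤ) : F) with hη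
  have hη2 : η * η = 1 := by
    rcases G.ε_pm r hr with h | h <;> simp [hη, h]
  apply matrix_ext_bas
  intro a ha
  rw [← Matrix.mulVec_mulVec, ← Matrix.mulVec_mulVec]
  by_cases ha1 : a < T.l
  · rw [x_col_h hT r hr t a ha1, Matrix.mulVec_add, Matrix.mulVec_smul, Ph ha1, Pe hr,
      x_col_h hT _ hs' _ _ (G.π_lt a ha1), G.ca a ha1 r hr, smul_smul]
    congr 2
    simp only [← hη]
    ring
  · obtain ⟨c, rfl⟩ : ∃ c, a = T.l + c := ⟨a - T.l, by omega⟩
    have hc : c < T.n := by omega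
    by_cases hc1 : c = r
    · subst hc1
      rw [x_col_s hT c hr t, Pe hc, Matrix.mulVec_smul, x_col_s hT _ hs' _]
    · by_cases hc2 : c = T.neg r
      · subst hc2
        have hnn := V.neg_ne hr
        have hns := V.neg_lt hr
        rw [x_col_n hT r hr t (fun h => hnn h) hns, Matrix.mulVec_add, Matrix.mulVec_add, Matrix.mulVec_smul, Matrix.mulVec_smul,
          Pe hns, Pe hr, G.ρ_neg r hr, G.ε_neg r hr, Matrix.mulVec_smul]
        have hnr : T.neg (ρ r) ≠ ρ r := fun h => (V.neg_ne hs') h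
        rw [x_col_n hT _ hs' _ hnr (V.neg_lt hs')]
        have key : P *ᵥ hv D T (T.co r) = (hv D T (T.co (ρ r)) : D.Idx → F) := by
          unfold hv
          rw [Matrix.mulVec_sum]
          have e1 : ∀ m ∈ Finset.range T.l, P *ᵥ (((T.co r m : ℤ) : F) • bas D m) =
              ((T.co (ρ r) (π m) : ℤ) : F) • bas D (π m) := by
            intro m hm
            have hm' : m < T.l := by simpa using hm
            rw [Matrix.mulVec_smul, Ph hm', G.co r hr m hm']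
          rw [Finset.sum_congr rfl e1]
          apply Finset.sum_nbij' π π'
          · intro m hm
            simpa using G.π_lt m (by simpa using hm)
          · intro m hm
            simpa using G.π'_lt m (by simpa using hm)
          · intro m hm
            exact G.π'π m (by simpa using hm)
          · intro m hm
            exact G.ππ' m (by simpa using hm)
          · intro m hm
            rfl
        rw [key]
        simp only [← hη]
        rw [smul_add, smul_add, smul_smul η (-(η * t) ^ 2), smul_smul η (η * t)]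
        have e3 : η * (η * t) = t := by rw [← mul_assoc, hη2, one_mul]
        have e4 : η * -(η * t) ^ 2 = -t ^ 2 * η := by
          have : (η * t) ^ 2 = (η * η) * t ^ 2 := by ring
          rw [this, hη2]; ring
        rw [e3, e4]
        module
      · have hw1 : ρ c ≠ ρ r := by
          intro e
          have := congrArg ρ' e
          rw [G.ρ'ρ c hc, G.ρ'ρ r hr] at this
          exact hc1 this
        have hw2 : ρ c ≠ T.neg (ρ r) := by
          intro e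
          rw [← G.ρ_neg r hr] at e
          have := congrArg ρ' e
          rw [G.ρ'ρ c hc, G.ρ'ρ _ (V.neg_lt hr)] at this
          exact hc2 this
        have hal := G.al r hr c hc
        rw [x_col_c hT r hr t c hc hc1 hc2, Matrix.mulVec_add, Pe hc, Matrix.mulVec_smul,
          x_col_c hT _ hs' _ _ (G.ρ_lt c hc) hw1 hw2, smul_add,
          P_cv (ρ := ρ) (ε := ε) (fun c hc => Pe hc) _ _ (G.ε_pm r hr) 1 0 (by simp) t _ _ hal]

theorem P_Q : Pmat D T.l F ρ π ε * Pmat D T.l F ρ' π' (fun r => ε (ρ' r)) = 1 := by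
  have hl := V.hl
  have hn := V.hn
  apply matrix_ext_bas
  intro a ha
  rw [← Matrix.mulVec_mulVec, Matrix.one_mulVec]
  by_cases ha1 : a < T.l
  · rw [P_h hl ρ' π' _ ha1, P_h hl ρ π ε (G.π'_lt a ha1), G.ππ' a ha1]
  · obtain ⟨c, rfl⟩ : ∃ c, a = T.l + c := ⟨a - T.l, by omega⟩
    have hc : c < T.n := by omega
    rw [P_e hl ρ' π' _ hn hc, Matrix.mulVec_smul, P_e hl ρ π ε hn (G.ρ'_lt c hc), G.ρρ' c hc, smul_smul]
    rcases G.ε_pm _ (G.ρ'_lt c hc) with h | h <;> simp [h]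

theorem Q_P : Pmat D T.l F ρ' π' (fun r => ε (ρ' r)) * Pmat D T.l F ρ π ε = 1 := by
  have hl := V.hl
  have hn := V.hn
  apply matrix_ext_bas
  intro a ha
  rw [← Matrix.mulVec_mulVec, Matrix.one_mulVec]
  by_cases ha1 : a < T.l
  · rw [P_h hl ρ π ε ha1, P_h hl ρ' π' _ (G.π_lt a ha1), G.π'π a ha1]
  · obtain ⟨c, rfl⟩ : ∃ c, a = T.l + c := ⟨a - T.l, by omega⟩
    have hc : c < T.n := by omega
    rw [P_e hl ρ π ε hn hc, Matrix.mulVec_smul, P_e hl ρ' π' _ hn (G.ρ_lt c hc), G.ρ'ρ c hc, smul_smul]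
    rcases G.ε_pm _ hc with h | h <;> simp [h]

/-- The matrix of the diagram automorphism, as a unit. -/
noncomputable def PU (V : Valid D T) (G : GraphOk T C ρ ρ' π π' ε) (F : Type*) [Field F] : GL D.Idx F where
  val := Pmat D T.l F ρ π ε
  inv := Pmat D T.l F ρ' π' (fun r => ε (ρ' r))
  val_inv := P_Q V G
  inv_val := Q_P V G

/-- The automorphism of `GL`. -/
noncomputable def tauGL (V : Valid D T) (G : GraphOk T C ρ ρ' π π' ε) (φ : F ≃+* F) : GL D.Idx F →* GL D.Idx F :=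
  (MulAut.conj (PU V G F)).toMonoidHom.comp (Matrix.GeneralLinearGroup.map (φ : F →+* F))

theorem tau_x (φ : F ≃+* F) {r : ℕ} (hr : r < T.n) (t : F) :
    tauGL V G φ (xU V r t) = xU V (ρ r) (((ε r : ℤ) : F) * φ t) := by
  have hs' := G.ρ_lt r hr
  have e1 : Matrix.GeneralLinearGroup.map (φ : F →+* F) (xU V r t) = xU V r (φ t) := by
    apply Units.ext
    have hr' : r < D.nroots := by rw [← V.hn]; exact hr
    show (D.x F r t).map (φ : F →+* F) = D.x F r (φ t)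
    simp only [ChevalleyDatum.x, hr', dif_pos]
    exact Cfsg.Agent.Lib.ChevAut.xMat_map (φ : F →+* F) _ _
  show PU V G F * Matrix.GeneralLinearGroup.map (φ : F →+* F) (xU V r t) * (PU V G F)⁻¹ = _
  rw [e1]
  apply mul_inv_eq_of_eq_mul
  apply Units.ext
  exact P_x_eq V G hr _

theorem tau_mem (φ : F ≃+* F) {g : GL D.Idx F} (hg : g ∈ D.group F) : tauGL V G φ g ∈ D.group F := by
  rw [group_eq V] at hg
  induction hg using Subgroup.closure_induction with
  | mem x hx =>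
    obtain ⟨r, t, hr, rfl⟩ := hx
    have hr' : r < T.n := by rw [V.hn]; exact hr
    rw [tau_x V G φ hr']
    exact xU_mem_group V (by rw [← V.hn]; exact G.ρ_lt r hr') _
  | one => simp [Subgroup.one_mem]
  | mul a b _ _ ha hb =>
    rw [map_mul]
    exact Subgroup.mul_mem _ ha hb
  | inv a _ ha =>
    rw [map_inv]
    exact Subgroup.inv_mem _ ha

/-- The graph-field endomorphism as a `TwAut`. -/
noncomputable def twAut (V : Valid D T) (G : GraphOk T C ρ ρ' π π' ε) (φ : F ≃+* F) : TwAut V C F where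
  σ := ((tauGL V G φ).comp (D.group F).subtype).codRestrict (D.group F) (fun g => tau_mem V G φ g.2)
  ρ := ρ
  π := π
  c := fun r t => ((ε r : ℤ) : F) * φ t
  hσ := fun hr t => tau_x V G φ hr t
  ρ_lt := fun h => G.ρ_lt _ h
  ρ_pos := fun h1 h2 => G.ρ_pos _ h2 h1
  ρ_neg := fun h => G.ρ_neg _ h
  ρ_sim := fun h => G.ρ_sim _ h
  π_lt := fun h => G.π_lt _ h
  c_ne := by
    intro r t hr ht
    rcases G.ε_pm r hr with h | h <;> simp [h, ht]
  c_inv := by
    intro r t hr ht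
    rw [G.ε_neg r hr]
    rcases G.ε_pm r hr with h | h <;> simp [h]
  supp := by
    intro r i hr hi
    rw [G.coef r hr i hi]

end

end Cfsg.Agent.Lib.ChevTw5
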