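import Cfsg.Agent.Lib.ChevOrd2

/-! The Weyl group as a Coxeter group: kernel check of Coxeter matrices. -/

set_option autoImplicit false

namespace Cfsg.Agent.Lib.ChevW3

open Cfsg.Lie Cfsg.Agent.Lib.ChevEngine Cfsg.Agent.Lib.ChevTab Cfsg.Agent.Lib.ChevMono
  Cfsg.Agent.Lib.ChevRel Cfsg.Agent.Lib.ChevValid Cfsg.Agent.Lib.ChevGL Cfsg.Agent.Lib.ChevGrad Cfsg.Agent.Lib.ChevL2
  Cfsg.Agent.Lib.ChevU Cfsg.Agent.Lib.ChevU2 Cfsg.Agent.Lib.ChevU3 Cfsg.Agent.Lib.ChevDiag Cfsg.Agent.Lib.ChevV3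
  Cfsg.Agent.Lib.ChevH Cfsg.Agent.Lib.ChevN Cfsg.Agent.Lib.ChevN2 Cfsg.Agent.Lib.ChevN3 Cfsg.Agent.Lib.ChevBN Cfsg.Agent.Lib.ChevBN2
  Cfsg.Agent.Lib.ChevV4 Cfsg.Agent.Lib.ChevPar Cfsg.Agent.Lib.ChevV5 Cfsg.Agent.Lib.ChevPar2
  Cfsg.Agent.Lib.BNPair Cfsg.Agent.Lib.BNPair2 Cfsg.Agent.Lib.BNCount Cfsg.Agent.Lib.ChevW1 Cfsg.Agent.Lib.ChevW2 Cfsg.Agent.Lib.ChevV6

/-- The action of a word. -/
noncomputable def wact (T : Tb) (L : List ℕ) (r : ℕ) : ℕ :=
  List.rec (motive := fun _ => ℕ) r (fun i _ ih => force ih (fun r' => T.refl i r')) L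

theorem wact_nil (T : Tb) (r : ℕ) : wact T [] r = r := rfl

theorem wact_cons (T : Tb) (i : ℕ) (L : List ℕ) (r : ℕ) : wact T (i :: L) r = T.refl i (wact T L r) := by
  show force (wact T L r) (fun r' => T.refl i r') = _
  rw [force_eq]

/-- Iteration. -/
noncomputable def itW (T : Tb) (L : List ℕ) (k r : ℕ) : ℕ :=
  Nat.rec (motive := fun _ => ℕ) r (fun _ ih => force ih (fun r' => wact T L r')) k

theorem itW_zero (T : Tb) (L : List ℕ) (r : ℕ) : itW T L 0 r = r := rfl

theorem itW_succ (T : Tb) (L : List ℕ) (k r : ℕ) : itW T L (k + 1) r = wact T L (itW T L k r) := by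
  show force (itW T L k r) (fun r' => wact T L r') = _
  rw [force_eq]

/-- The check for the order of a word. -/
noncomputable def ordW (T : Tb) (L : List ℕ) (m : ℕ) : Bool :=
  Nat.blt 0 m && (allBelow T.n (fun r => Nat.beq (itW T L m r) r) &&
    allBelow m (fun k => bif Nat.beq k 0 then true else !allBelow T.n (fun r => Nat.beq (itW T L k r) r)))

variable {D : ChevalleyDatum} {T : Tb} {C : Tc} {X : Tc3} {Y : Tc4} {F : Type*} [Field F]

section
variable (V : Valid D T) (V2 : Valid2 D T C) (V3 : Valid3 T C X) (V4 : Valid4 D T C Y)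

/-- The Weyl group element of a word. -/
noncomputable def wordW (F : Type*) [Field F] (L : List ℕ) : W (bnPair (F := F) V V2 V3) :=
  (L.map (xi V V2 V3 F)).prod

theorem rho_word {L : List ℕ} (hL : ∀ i ∈ L, i < T.l) {r : ℕ} (hr : r < T.n) :
    rho V V2 V3 (wordW V V2 V3 F L) r = wact T L r ∧ wact T L r < T.n := by
  induction L with
  | nil =>
    simp only [wordW, List.map_nil, List.prod_nil, map_one, Equiv.Perm.coe_one, id_eq, wact_nil]
    exact ⟨trivial, hr⟩
  | cons i L ih =>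
    obtain ⟨h1, h2⟩ := ih (fun j hj => hL j (by simp [hj]))
    have hi := hL i (by simp)
    have e : wordW V V2 V3 F (i :: L) = xi V V2 V3 F i * wordW V V2 V3 F L := by
      simp [wordW]
    rw [e, wact_cons, map_mul, Equiv.Perm.mul_apply, h1, rho_xi V V2 V3 hi h2]
    exact ⟨rfl, (reflFacts V.hR i hi _ h2).w_lt⟩

theorem rho_word_pow {L : List ℕ} (hL : ∀ i ∈ L, i < T.l) (k : ℕ) {r : ℕ} (hr : r < T.n) :
    rho V V2 V3 (wordW V V2 V3 F L ^ k) r = itW T L k r ∧ itW T L k r < T.n := by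
  induction k with
  | zero => simp [itW_zero, hr]
  | succ k ih =>
    obtain ⟨h1, h2⟩ := ih
    obtain ⟨h3, h4⟩ := rho_word V V2 V3 (F := F) hL h2
    rw [pow_succ', map_mul, Equiv.Perm.mul_apply, h1, h3, itW_succ]
    exact ⟨rfl, h4⟩

include V4 in
theorem word_pow_eq_one_iff {L : List ℕ} (hL : ∀ i ∈ L, i < T.l) (k : ℕ) :
    wordW V V2 V3 F L ^ k = 1 ↔ allBelow T.n (fun r => Nat.beq (itW T L k r) r) = true := by
  rw [allBelow_iff]
  constructor
  · intro h r hr
    have h2 := (rho_word_pow V V2 V3 (F := F) hL k hr).1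
    rw [h] at h2
    rw [beq_dec]
    simpa using h2.symm
  · intro h
    apply eq_one_of_pos V V2 V3 V4
    intro r h1 h2
    rw [(rho_word_pow V V2 V3 (F := F) hL k h2).1]
    have := h r h2
    rw [beq_dec] at this
    have e : itW T L k r = r := by simpa using this
    rw [e]
    exact h1

include V4 in
theorem order_word {L : List ℕ} (hL : ∀ i ∈ L, i < T.l) {m : ℕ} (h : ordW T L m = true) :
    orderOf (wordW V V2 V3 F L) = m := by
  simp only [ordW, Bool.and_eq_true] at h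
  obtain ⟨h1, h2, h3⟩ := h
  have hm : 0 < m := by
    rw [blt_dec] at h1
    simpa using h1
  rw [orderOf_eq_iff hm]
  refine ⟨(word_pow_eq_one_iff V V2 V3 V4 hL m).2 h2, ?_⟩
  intro k hk hk0 h4
  have h5 := (allBelow_iff _ _).1 h3 k hk
  have h6 : Nat.beq k 0 = false := by
    rw [beq_dec]
    simp
    omega
  rw [h6] at h5
  simp only [cond_false] at h5
  rw [(word_pow_eq_one_iff V V2 V3 V4 hL k).1 h4] at h5
  simp at h5

/-- The simple reflections as elements of `S`. -/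
noncomputable def eFin {n : ℕ} (hn : n = T.l) (F : Type*) [Field F] : Fin n ≃ (bnPair (F := F) V V2 V3).S := by
  refine Equiv.ofBijective (fun i => ⟨⟨nU V (D.simple i.1) 1, nU_mem_G V (V.sim_lt (by rw [← V.hl, ← hn]; exact i.2)) 1⟩,
    ⟨i.1, by rw [← V.hl, ← hn]; exact i.2, nU_val V _ _⟩⟩) ⟨?_, ?_⟩
  · intro i j h
    have h1 : nU V (D.simple i.1) (1 : F) = nU V (D.simple j.1) 1 := congrArg (fun z : (bnPair (F := F) V V2 V3).S => ((z.1 : ↥(D.group F)) : GL D.Idx F)) h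
    have h2 : (nU V (D.simple i.1) (1 : F))⁻¹ * nU V (D.simple j.1) 1 ∈ D.borelSubgroup F := by
      rw [h1, inv_mul_cancel]
      exact Subgroup.one_mem _
    exact Fin.ext (n_inj V V2 V3 (hn ▸ i.2) (hn ▸ j.2) h2)
  · rintro ⟨s, i, hi, hs⟩
    refine ⟨⟨i, by rw [hn, V.hl]; exact hi⟩, ?_⟩
    apply Subtype.ext
    apply Subtype.ext
    apply Units.ext
    rw [hs]
    exact nU_val V _ _

theorem eS_eFin {n : ℕ} (hn : n = T.l) (i : Fin n) : eS _ (eFin V V2 V3 hn F i) = xi V V2 V3 F i.1 := by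
  unfold xi
  rw [dif_pos (hn ▸ i.2)]
  rfl

theorem cox_aux {G : Type*} [Group G] (P : Cfsg.BNPair G) (M' : CoxeterMatrix P.S) (h : M' = coxMatrix P) :
    ∃ cs : CoxeterSystem M' (W P), ∀ s, cs.simple s = eS P s := by
  subst h
  exact ⟨⟨coxEquiv P⟩, fun s => phiCox_simple s⟩

include V4 in
/-- The Weyl group is a Coxeter group. -/
theorem weyl_iso {n : ℕ} (hn : n = T.l) (M : CoxeterMatrix (Fin n))
    (hM : ∀ i j : Fin n, ordW T [i.1, j.1] (M i j) = true) :
    ∃ ψ : W (bnPair (F := F) V V2 V3) ≃* M.Group, ∀ i : Fin n, ψ (xi V V2 V3 F i.1) = M.simple i := by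
  have hR : M.reindex (eFin V V2 V3 hn F) = coxMatrix (bnPair (F := F) V V2 V3) := by
    apply CoxeterMatrix.ext
    ext s t
    obtain ⟨i, rfl⟩ := (eFin V V2 V3 hn F).surjective s
    obtain ⟨j, rfl⟩ := (eFin V V2 V3 hn F).surjective t
    show (M.reindex (eFin V V2 V3 hn F)) _ _ = (coxMatrix (bnPair (F := F) V V2 V3)) _ _
    rw [CoxeterMatrix.reindex_apply, Equiv.symm_apply_apply, Equiv.symm_apply_apply, coxMatrix_apply, eS_eFin, eS_eFin]
    have h2 := order_word V V2 V3 V4 (F := F) (L := [i.1, j.1]) (by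
      intro k hk
      simp only [List.mem_cons, List.not_mem_nil, or_false] at hk
      rcases hk with rfl | rfl
      · exact hn ▸ i.2
      · exact hn ▸ j.2) (hM i j)
    rw [← h2]
    simp [wordW]
  obtain ⟨cs, hcs⟩ := cox_aux _ _ hR
  refine ⟨cs.mulEquiv.trans (M.reindexGroupEquiv _), ?_⟩
  intro i
  have h3 := hcs (eFin V V2 V3 hn F i)
  rw [eS_eFin] at h3
  rw [← h3, MulEquiv.trans_apply]
  show (M.reindexGroupEquiv _) (cs.mulEquiv (cs.mulEquiv.symm ((M.reindex _).simple _))) = _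
  rw [MulEquiv.apply_symm_apply, CoxeterMatrix.reindexGroupEquiv_apply_simple, Equiv.symm_apply_apply]

/-- `N` to the `N` of the (B,N)-pair. -/
noncomputable def fromN (V : Valid D T) (V2 : Valid2 D T C) (V3 : Valid3 T C X) (F : Type*) [Field F] : ↥(D.monomialSubgroup F) →* (bnPair (F := F) V V2 V3).N where
  toFun n := ⟨⟨n.1, N_le_G V n.2⟩, n.2⟩
  map_one' := rfl
  map_mul' _ _ := rfl

include V V2 V3 V4 in
/-- `N/H` is the Coxeter group. -/
theorem N_quot {n : ℕ} (hn : n = T.l) (M : CoxeterMatrix (Fin n))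
    (hM : ∀ i j : Fin n, ordW T [i.1, j.1] (M i j) = true) :
    ∃ φ : ↥(D.monomialSubgroup F) →* M.Group, Function.Surjective φ ∧
      φ.ker = (D.diagonalSubgroup F).subgroupOf (D.monomialSubgroup F) ∧
      ∀ (i : Fin n) (g : ↥(D.monomialSubgroup F)),
        ((g : GL D.Idx F) : Matrix D.Idx D.Idx F) = D.nMat F (D.simple i) 1 → φ g = M.simple i := by
  obtain ⟨ψ, hψ⟩ := weyl_iso V V2 V3 V4 (F := F) hn M hM
  refine ⟨ψ.toMonoidHom.comp ((mk (bnPair (F := F) V V2 V3)).comp (fromN V V2 V3 F)), ?_, ?_, ?_⟩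
  · intro y
    obtain ⟨w, rfl⟩ := ψ.surjective y
    obtain ⟨m, rfl⟩ := mk_surjective w
    exact ⟨toN V V2 V3 m, rfl⟩
  · ext g
    rw [MonoidHom.mem_ker, Subgroup.mem_subgroupOf]
    have e : (ψ.toMonoidHom.comp ((mk (bnPair (F := F) V V2 V3)).comp (fromN V V2 V3 F))) g = ψ (mk _ (fromN V V2 V3 F g)) := rfl
    rw [e, map_eq_one_iff _ ψ.injective, mk_eq_one_iff]
    show (g : GL D.Idx F) ∈ D.borelSubgroup F ↔ _
    rw [← B_inf_N V V2 V3]
    constructor
    · intro h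
      exact ⟨h, g.2⟩
    · intro h
      exact h.1
  · intro i g hg
    have e : (g : GL D.Idx F) = nU V (D.simple i.1) 1 := Units.ext (by rw [hg, nU_val])
    rw [← hψ i]
    show ψ (mk _ (fromN V V2 V3 F g)) = _
    congr 1
    unfold xi
    rw [dif_pos (hn ▸ i.2)]
    congr 1
    apply Subtype.ext
    apply Subtype.ext
    exact e

include V V2 V3 V4 in
/-- The Coxeter element. -/
theorem coxeter_elt (F : Type*) [Field F] {n : ℕ} (hn : n = T.l) (M : CoxeterMatrix (Fin n))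
    (hM : ∀ i j : Fin n, ordW T [i.1, j.1] (M i j) = true) {h : ℕ} (hh : ordW T (List.range n) h = true) :
    orderOf ((List.finRange n).map M.simple).prod = h := by
  obtain ⟨ψ, hψ⟩ := weyl_iso V V2 V3 V4 (F := F) hn M hM
  have e : ((List.finRange n).map M.simple).prod = ψ (wordW V V2 V3 F (List.range n)) := by
    unfold wordW
    rw [map_list_prod, List.map_map]
    congr 1
    rw [← List.map_coe_finRange_eq_range, List.map_map]
    apply List.map_congr_left
    intro i _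
    exact (hψ i).symm
  rw [e, MulEquiv.orderOf_eq]
  apply order_word V V2 V3 V4 _ hh
  intro i hi
  rw [← hn]
  simpa using hi

include V V2 V3 V4 in
/-- The order of the Coxeter group. -/
theorem card_cox (F : Type*) [Field F] [Finite F] {n : ℕ} (hn : n = T.l) (M : CoxeterMatrix (Fin n))
    (hM : ∀ i j : Fin n, ordW T [i.1, j.1] (M i j) = true) (steps : List (ℕ × List (ℕ × List ℤ)))
    (h : chkChain T steps = true) (hcov : allBelow T.l (fun m => anyL steps (fun s => Nat.beq s.1 m)) = true) :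
    Nat.card M.Group = (steps.map fun s => (s.2.map fun e => 1 ^ e.1).sum).prod := by
  obtain ⟨ψ, _⟩ := weyl_iso V V2 V3 V4 (F := F) hn M hM
  have : Finite (GL D.Idx F) := inferInstance
  have : Finite (W (bnPair (F := F) V V2 V3)) := inferInstance
  have : Fintype (W (bnPair (F := F) V V2 V3)) := Fintype.ofFinite _
  rw [← sum_len_eq V V2 V3 V4 (F := F) 1 steps h hcov, ← Nat.card_congr ψ.toEquiv, Nat.card_eq_fintype_card]
  simp

end

end Cfsg.Agent.Lib.ChevW3
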