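import Cfsg.Agent.Lib.ChevTw5
import Cfsg.Agent.Lib.ChevW3

/-! Twisted groups, step 6: words in the simple reflections; orbits of pairwise orthogonal simple roots. -/

set_option autoImplicit false
set_option linter.unusedVariables false
set_option linter.unusedSectionVars false
set_option linter.unusedFintypeInType false
set_option linter.unusedDecidableInType false

namespace Cfsg.Agent.Lib.ChevTw6

open Cfsg.Lie Matrix Cfsg.Agent.Lib.ChevEngine Cfsg.Agent.Lib.ChevTab Cfsg.Agent.Lib.ChevMono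
  Cfsg.Agent.Lib.ChevRel Cfsg.Agent.Lib.ChevValid Cfsg.Agent.Lib.ChevGL Cfsg.Agent.Lib.ChevGrad Cfsg.Agent.Lib.ChevL2
  Cfsg.Agent.Lib.ChevU Cfsg.Agent.Lib.ChevU2 Cfsg.Agent.Lib.ChevU3 Cfsg.Agent.Lib.ChevDiag Cfsg.Agent.Lib.ChevV3
  Cfsg.Agent.Lib.ChevH Cfsg.Agent.Lib.ChevN Cfsg.Agent.Lib.ChevN2 Cfsg.Agent.Lib.ChevN3 Cfsg.Agent.Lib.ChevBN Cfsg.Agent.Lib.ChevBN2
  Cfsg.Agent.Lib.ChevV4 Cfsg.Agent.Lib.ChevSimp Cfsg.Agent.Lib.ChevSimp2 Cfsg.Agent.Lib.ChevPar Cfsg.Agent.Lib.ChevV5 Cfsg.Agent.Lib.ChevPar2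
  Cfsg.Agent.Lib.ChevPar3 Cfsg.Agent.Lib.BNPair Cfsg.Agent.Lib.BNCount Cfsg.Agent.Lib.ChevW1 Cfsg.Agent.Lib.ChevW2 Cfsg.Agent.Lib.ChevTw1
  Cfsg.Agent.Lib.ChevTw2 Cfsg.Agent.Lib.ChevTw3 Cfsg.Agent.Lib.ChevAut3 Cfsg.Agent.Lib.ChevTw4 Cfsg.Agent.Lib.ChevTw5 Cfsg.Agent.Lib.ChevW3

variable {D : ChevalleyDatum} {T : Tb} {C : Tc} {X : Tc3} {Y : Tc4} {F : Type*} [Field F]

/-- Elementwise membership in the subsystem attached to a list of simple indices. -/
def InL (C : Tc) (l : ℕ) (L : List ℕ) (r : ℕ) : Prop := ∀ m < l, m ∉ L → C.coef r m = 0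

instance (C : Tc) (l : ℕ) (L : List ℕ) (r : ℕ) : Decidable (InL C l L r) := by
  unfold InL
  infer_instance

/-- The set of simple indices of a list. -/
def setL (L : List ℕ) : Set ℕ := {i | i ∈ L}

theorem inJ_setL {L : List ℕ} {r : ℕ} : InJ C T.l (setL L) r ↔ InL C T.l L r := Iff.rfl

/-- The table check for a word acting as the longest element of the parabolic. -/
def FlipChk (T : Tb) (C : Tc) (L E : List ℕ) : Prop :=
  ∀ r < T.n, T.n / 2 ≤ r →
    (InL C T.l L r → wact T E r < T.n / 2 ∧ InL C T.l L (wact T E r)) ∧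
    (¬ InL C T.l L r → T.n / 2 ≤ wact T E r ∧ ¬ InL C T.l L (wact T E r))

noncomputable instance (T : Tb) (C : Tc) (L E : List ℕ) : Decidable (FlipChk T C L E) := by
  unfold FlipChk
  infer_instance

section
variable (V : Valid D T) (V2 : Valid2 D T C) (V3 : Valid3 T C X) (V4 : Valid4 D T C Y)

/-- The simple reflections, for any index. -/
noncomputable def nS' (V : Valid D T) (V2 : Valid2 D T C) (V3 : Valid3 T C X) (F : Type*) [Field F] (i : ℕ) : ↥(D.monomialSubgroup F) :=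
  if h : i < T.l then nS V V2 V3 i h else 1

theorem nS'_eq {i : ℕ} (h : i < T.l) : nS' V V2 V3 F i = nS V V2 V3 i h := dif_pos h

/-- The product of simple reflections. -/
noncomputable def nW (V : Valid D T) (V2 : Valid2 D T C) (V3 : Valid3 T C X) (F : Type*) [Field F] (E : List ℕ) : ↥(D.monomialSubgroup F) :=
  (E.map (nS' V V2 V3 F)).prod

include V4

theorem rho0_nW {E : List ℕ} (hE : ∀ i ∈ E, i < T.l) {r : ℕ} (hr : r < T.n) : rho0 V V2 V3 (nW V V2 V3 F E) r = wact T E r := by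
  induction E with
  | nil => simp [nW, wact_nil]
  | cons i E ih =>
    have hi := hE i (by simp)
    have ih' := ih (fun k hk => hE k (by simp [hk]))
    have e : nW V V2 V3 F (i :: E) = nS V V2 V3 i hi * nW V V2 V3 F E := by
      simp only [nW, List.map_cons, List.prod_cons]
      rw [nS'_eq V V2 V3 hi]
    have hlt : wact T E r < T.n := by
      rw [← ih']
      exact rho0_lt V V2 V3 _ hr
    rw [e, rho0_mul V V2 V3 V4, ih', rho0_nS V V2 V3 V4 hi hlt, wact_cons]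

theorem nW_inv {E : List ℕ} (hE : ∀ i ∈ E, i < T.l) {r : ℕ} (hr : r < T.n) : rho0 V V2 V3 (nW V V2 V3 F E)⁻¹ r = wact T E.reverse r := by
  induction E generalizing r with
  | nil => simp [nW, wact_nil]
  | cons i E ih =>
    have hi := hE i (by simp)
    have e : (nW V V2 V3 F (i :: E))⁻¹ = (nW V V2 V3 F E)⁻¹ * (nS V V2 V3 i hi)⁻¹ := by
      simp only [nW, List.map_cons, List.prod_cons]
      rw [nS'_eq V V2 V3 hi, _root_.mul_inv_rev]
    have e2 : rho0 V V2 V3 (nS V V2 V3 (F := F) i hi)⁻¹ r = T.refl i r := by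
      have hw := (reflFacts V.hR i hi r hr)
      have h1 := rho0_inv_apply V V2 V3 V4 (nS V V2 V3 (F := F) i hi) (T.refl i r)
      rw [rho0_nS V V2 V3 V4 hi hw.w_lt, hw.w_w] at h1
      exact h1
    have hlt : T.refl i r < T.n := (reflFacts V.hR i hi r hr).w_lt
    rw [e, rho0_mul V V2 V3 V4, e2, ih (fun k hk => hE k (by simp [hk])) hlt]
    -- the action of a reversed word
    have e3 : ∀ (M : List ℕ) (a b : ℕ), wact T (M ++ [a]) b = wact T M (T.refl a b) := by
      intro M a b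
      induction M with
      | nil => simp [wact_cons, wact_nil]
      | cons c M ih2 => simp only [List.cons_append, wact_cons, ih2]
    rw [List.reverse_cons, e3]

/-- The table check gives a flip. -/
theorem flip_of_chk {L E : List ℕ} (hE : ∀ i ∈ E, i < T.l) (h : FlipChk T C L E) : Flip V V2 V3 (setL L) (nW V V2 V3 F E) := by
  intro r h1 h2
  rw [rho0_nW V V2 V3 V4 hE h2]
  exact h r h2 h1

theorem flip_inv_of_chk {L E : List ℕ} (hE : ∀ i ∈ E, i < T.l) (h : FlipChk T C L E.reverse) : Flip V V2 V3 (setL L) (nW V V2 V3 F E)⁻¹ := by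
  intro r h1 h2
  rw [nW_inv V V2 V3 V4 hE h2]
  exact h r h2 h1

theorem isW_of_chk {L E : List ℕ} (hE : ∀ i ∈ E, i < T.l) (h : FlipChk T C L E) (h' : FlipChk T C L E.reverse) : IsW V V2 V3 (setL L) (nW V V2 V3 F E) :=
  ⟨flip_of_chk V V2 V3 V4 hE h, flip_inv_of_chk V V2 V3 V4 hE h'⟩

/-- Any two flips act in the same way on the roots. -/
theorem rho0_flip_eq {J : Set ℕ} {m n : ↥(D.monomialSubgroup F)} (hm : IsW V V2 V3 J m) (hn : IsW V V2 V3 J n) : rho0 V V2 V3 m = rho0 V V2 V3 n := by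
  have h1 := mul_mem_H_of_isW V V2 V3 V4 hm.2 hn.1
  have h2 := rho0_of_H V V2 V3 h1
  rw [map_mul, map_inv, inv_mul_eq_one] at h2
  exact h2

theorem x_comm {r s : ℕ} (hr : r < T.n) (hs : s < T.n) (h0 : s ≠ r) (h1 : s ≠ T.neg r) (h2 : T.ch r s = []) (h3 : T.ch s r = []) (t u : F) :
    xU V s u * xU V r t = xU V r t * xU V s u := by
  have hr' : r < D.nroots := by rw [← V.hn]; exact hr
  have hs' : s < D.nroots := by rw [← V.hn]; exact hs
  have e := cfU V hr' hs' h0 (by rw [V.neg_eq hr']; exact h1) t u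
  have e2 : D.commWord F r s t u = [] := by
    rw [commWord_eq V.hT, commTermsF_empty h2 h3]
    rfl
  rw [e, e2]
  simp [wordU]

end

end Cfsg.Agent.Lib.ChevTw6
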