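import Cfsg.Agent.Lib.ChevTw6

/-! Twisted groups, step 7: orbits of pairwise orthogonal simple roots, explicit fixed points. -/

set_option autoImplicit false
set_option linter.unusedVariables false
set_option linter.unusedSectionVars false
set_option linter.unusedFintypeInType false
set_option linter.unusedDecidableInType false

namespace Cfsg.Agent.Lib.ChevTw7

open Cfsg.Lie Matrix Cfsg.Agent.Lib.ChevEngine Cfsg.Agent.Lib.ChevTab Cfsg.Agent.Lib.ChevMono
  Cfsg.Agent.Lib.ChevRel Cfsg.Agent.Lib.ChevValid Cfsg.Agent.Lib.ChevGL Cfsg.Agent.Lib.ChevGrad Cfsg.Agent.Lib.ChevL2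
  Cfsg.Agent.Lib.ChevU Cfsg.Agent.Lib.ChevU2 Cfsg.Agent.Lib.ChevU3 Cfsg.Agent.Lib.ChevDiag Cfsg.Agent.Lib.ChevV3
  Cfsg.Agent.Lib.ChevH Cfsg.Agent.Lib.ChevN Cfsg.Agent.Lib.ChevN2 Cfsg.Agent.Lib.ChevN3 Cfsg.Agent.Lib.ChevBN Cfsg.Agent.Lib.ChevBN2
  Cfsg.Agent.Lib.ChevV4 Cfsg.Agent.Lib.ChevSimp Cfsg.Agent.Lib.ChevSimp2 Cfsg.Agent.Lib.ChevPar Cfsg.Agent.Lib.ChevV5 Cfsg.Agent.Lib.ChevPar2
  Cfsg.Agent.Lib.ChevPar3 Cfsg.Agent.Lib.BNPair Cfsg.Agent.Lib.BNCount Cfsg.Agent.Lib.ChevW1 Cfsg.Agent.Lib.ChevW2 Cfsg.Agent.Lib.ChevTw1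
  Cfsg.Agent.Lib.ChevTw2 Cfsg.Agent.Lib.ChevTw3 Cfsg.Agent.Lib.ChevAut3 Cfsg.Agent.Lib.ChevTw4 Cfsg.Agent.Lib.ChevTw5 Cfsg.Agent.Lib.ChevW3
  Cfsg.Agent.Lib.ChevTw6

variable {D : ChevalleyDatum} {T : Tb} {C : Tc} {X : Tc3} {Y : Tc4} {F : Type*} [Field F]

/-- An orbit of a permutation -/
def chainL (π : ℕ → ℕ) : ℕ → ℕ → List ℕ
  | _, 0 => []
  | i, k + 1 => i :: chainL π (π i) k

theorem mem_chainL {π : ℕ → ℕ} {i k a : ℕ} : a ∈ chainL π i k ↔ ∃ b < k, a = π^[b] i := by
  induction k generalizing i with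
  | zero => simp [chainL]
  | succ k ih =>
    simp only [chainL, List.mem_cons, ih]
    constructor
    · rintro (rfl | ⟨b, hb, rfl⟩)
      · exact ⟨0, by omega, rfl⟩
      · exact ⟨b + 1, by omega, rfl⟩
    · rintro ⟨b, hb, rfl⟩
      cases b with
      | zero => exact Or.inl rfl
      | succ b => exact Or.inr ⟨b, by omega, rfl⟩

theorem chainL_snoc (π : ℕ → ℕ) (i k : ℕ) : chainL π i (k + 1) = chainL π i k ++ [π^[k] i] := by
  induction k generalizing i with
  | zero => rfl
  | succ k ih =>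
    rw [chainL, ih (π i), Function.iterate_succ_apply]
    rfl

theorem chainL_map (π : ℕ → ℕ) (i k : ℕ) : (chainL π i k).map π = chainL π (π i) k := by
  induction k generalizing i with
  | zero => rfl
  | succ k ih => simp only [chainL, List.map_cons, ih]

theorem chainL_perm {π : ℕ → ℕ} {i k : ℕ} (h : π^[k] i = i) : (chainL π (π i) k).Perm (chainL π i k) := by
  cases k with
  | zero => simp [chainL]
  | succ k =>
    rw [chainL_snoc π (π i) k, chainL]
    rw [← Function.iterate_succ_apply, h]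
    exact List.perm_append_singleton _ _

/-- The word with parameter `a` attached to a list of simple indices. -/
def eWg {F : Type*} (f : ℕ → ℕ) (φ : F → F) : List ℕ → F → List (ℕ × F)
  | [], _ => []
  | i :: L, a => (f i, a) :: eWg f φ L (φ a)

theorem eWg_snoc {F : Type*} (f : ℕ → ℕ) (φ : F → F) (π : ℕ → ℕ) (i k : ℕ) (a : F) :
    eWg f φ (chainL π i (k + 1)) a = eWg f φ (chainL π i k) a ++ [(f (π^[k] i), φ^[k] a)] := by
  induction k generalizing i a with
  | zero => rfl
  | succ k ih =>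
    rw [chainL, eWg, ih (π i) (φ a), Function.iterate_succ_apply, Function.iterate_succ_apply]
    rfl

/-- The table conditions for an orbit. -/
structure OrbOk (T : Tb) (C : Tc) (π : ℕ → ℕ) (i k : ℕ) (Ls : List ℕ) (idx : ℕ → ℕ) : Prop where
  hk : 0 < k
  hlt : ∀ a ∈ chainL π i k, a < T.l
  hnd : (chainL π i k).Nodup
  hper : π^[k] i = i
  hs : Ls.Perm (chainL π i k)
  hsort : (Ls.map T.sim).Pairwise (· < ·)
  hch : ∀ a ∈ chainL π i k, ∀ b ∈ chainL π i k, a ≠ b → T.ch (T.sim a) (T.sim b) = [] ∧ T.ch (T.sim a) (T.neg (T.sim b)) = [] ∧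
    T.ch (T.neg (T.sim a)) (T.sim b) = [] ∧ T.ch (T.neg (T.sim a)) (T.neg (T.sim b)) = []
  hPJ : ∀ r < T.n, T.n / 2 ≤ r → InL C T.l (chainL π i k) r → r ∈ (chainL π i k).map T.sim
  hidx : ∀ b < k, idx (π^[b] i) = b
  hflip : FlipChk T C (chainL π i k) (chainL π i k)
  hflip' : FlipChk T C (chainL π i k) (chainL π i k).reverse

section
variable (V : Valid D T) (V2 : Valid2 D T C) (V3 : Valid3 T C X) (V4 : Valid4 D T C Y)
include V V2 V3 V4

theorem sim_inj {a b : ℕ} (ha : a < T.l) (hb : b < T.l) (h : T.sim a = T.sim b) : a = b := by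
  by_contra hc
  have h1 := sim_coef V2 ha
  have h2 := sim_coef_ne V V2 V3 hb ha hc
  rw [h] at h1
  omega

theorem sim_ne_neg {a b : ℕ} (ha : a < T.l) (hb : b < T.l) : T.sim a ≠ T.neg (T.sim b) := by
  have h1 := sim_pos V V2 ha
  have h2 := neg_half V V2 V3 V4 (sim_pos V V2 hb) (sim_lt' V V2 V3 hb)
  omega

/-- The commutation of root elements in the orbit. -/
theorem comm_pp {L : List ℕ} (hlt : ∀ a ∈ L, a < T.l) (hch : ∀ a ∈ L, ∀ b ∈ L, a ≠ b → T.ch (T.sim a) (T.sim b) = []) {a b : ℕ} (ha : a ∈ L) (hb : b ∈ L) (s s' : F) :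
    xU V (T.sim a) s * xU V (T.sim b) s' = xU V (T.sim b) s' * xU V (T.sim a) s := by
  by_cases h : a = b
  · subst h
    rw [xU_mul, xU_mul, add_comm]
  · exact x_comm V V4 (sim_lt' V V2 V3 (hlt b hb)) (sim_lt' V V2 V3 (hlt a ha)) (fun e => h (sim_inj V V2 V3 V4 (hlt a ha) (hlt b hb) e))
      (sim_ne_neg V V2 V3 V4 (hlt a ha) (hlt b hb)) (hch b hb a ha (Ne.symm h)) (hch a ha b hb h) _ _

end

/-- products -/
noncomputable def px (V : Valid D T) (f : ℕ → ℕ) (L : List ℕ) (t : ℕ → F) : GL D.Idx F := (L.map fun a => xU V (f a) (t a)).prod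

theorem px_word (V : Valid D T) (f : ℕ → ℕ) (L : List ℕ) (t : ℕ → F) : wordU V (L.map fun a => (f a, t a)) = px V f L t := by
  simp [wordU, px, List.map_map, Function.comp_def]

section prods
variable {V : Valid D T} {f : ℕ → ℕ} {S : List ℕ}

/-- The commutation hypothesis. -/
def HC (V : Valid D T) (F : Type*) [Field F] (f : ℕ → ℕ) (S : List ℕ) : Prop :=
  ∀ a ∈ S, ∀ b ∈ S, ∀ s s' : F, xU V (f a) s * xU V (f b) s' = xU V (f b) s' * xU V (f a) s

theorem comm_px (h : HC V F f S) {a : ℕ} (ha : a ∈ S) (s : F) {L : List ℕ} (hL : ∀ b ∈ L, b ∈ S) (t : ℕ → F) :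
    xU V (f a) s * px V f L t = px V f L t * xU V (f a) s := by
  induction L with
  | nil => simp [px]
  | cons b L ih =>
    have ih' := ih (fun c hc => hL c (by simp [hc]))
    simp only [px, List.map_cons, List.prod_cons] at ih' ⊢
    rw [← mul_assoc, h a ha b (hL b (by simp)), mul_assoc, ih', mul_assoc]

theorem px_mul (h : HC V F f S) {L : List ℕ} (hL : ∀ b ∈ L, b ∈ S) (t t' : ℕ → F) : px V f L t * px V f L t' = px V f L (t + t') := by
  induction L with
  | nil => simp [px]
  | cons b L ih =>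
    have ih' := ih (fun c hc => hL c (by simp [hc]))
    have h2 := comm_px h (hL b (by simp)) (t' b) (L := L) (fun c hc => hL c (by simp [hc])) t
    simp only [px, List.map_cons, List.prod_cons] at ih' h2 ⊢
    calc xU V (f b) (t b) * (L.map fun a => xU V (f a) (t a)).prod * (xU V (f b) (t' b) * (L.map fun a => xU V (f a) (t' a)).prod)
        = xU V (f b) (t b) * ((L.map fun a => xU V (f a) (t a)).prod * xU V (f b) (t' b)) * (L.map fun a => xU V (f a) (t' a)).prod := by group
      _ = xU V (f b) (t b) * (xU V (f b) (t' b) * (L.map fun a => xU V (f a) (t a)).prod) * (L.map fun a => xU V (f a) (t' a)).prod := by rw [h2]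
      _ = (xU V (f b) (t b) * xU V (f b) (t' b)) * ((L.map fun a => xU V (f a) (t a)).prod * (L.map fun a => xU V (f a) (t' a)).prod) := by group
      _ = _ := by rw [ih', xU_mul]; rfl

theorem px_zero (L : List ℕ) : px V f L (0 : ℕ → F) = 1 := by
  induction L with
  | nil => simp [px]
  | cons b L ih =>
    simp only [px, List.map_cons, List.prod_cons, Pi.zero_apply, xU_zero, one_mul] at ih ⊢
    exact ih

theorem px_inv (h : HC V F f S) {L : List ℕ} (hL : ∀ b ∈ L, b ∈ S) (t : ℕ → F) : (px V f L t)⁻¹ = px V f L (-t) := by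
  apply inv_eq_of_mul_eq_one_right
  rw [px_mul h hL, add_neg_cancel, px_zero]

theorem px_perm (h : HC V F f S) {L L' : List ℕ} (hL : ∀ b ∈ L, b ∈ S) (hp : L.Perm L') (t : ℕ → F) : px V f L t = px V f L' t := by
  apply List.Perm.prod_eq' (hp.map _)
  rw [List.pairwise_map]
  rw [List.pairwise_iff_forall_sublist]
  intro a b hab
  have ha : a ∈ L := hab.subset (by simp)
  have hb : b ∈ L := hab.subset (by simp)
  exact h a (hL a ha) b (hL b hb) _ _

theorem px_congr {L : List ℕ} {t t' : ℕ → F} (h : ∀ a ∈ L, t a = t' a) : px V f L t = px V f L t' := by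
  unfold px
  congr 1
  apply List.map_congr_left
  intro a ha
  rw [h a ha]

theorem px_single {L : List ℕ} (hnd : L.Nodup) {a : ℕ} (ha : a ∈ L) (s : F) : px V f L (Function.update 0 a s) = xU V (f a) s := by
  induction L with
  | nil => simp at ha
  | cons b L ih =>
    rw [List.nodup_cons] at hnd
    simp only [px, List.map_cons, List.prod_cons]
    rcases List.mem_cons.mp ha with rfl | h
    · rw [Function.update_self]
      have e : px V f L (Function.update 0 a s) = 1 := by
        rw [px_congr (t' := 0), px_zero]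
        intro c hc
        have hca : c ≠ a := by
          rintro rfl
          exact hnd.1 hc
        rw [Function.update_of_ne hca]
      unfold px at e
      rw [e, mul_one]
    · have hba : b ≠ a := by
        rintro rfl
        exact hnd.1 h
      rw [Function.update_of_ne hba]
      have e := ih hnd.2 h
      unfold px at e
      rw [e]
      simp

end prods

section
variable (V : Valid D T) (V2 : Valid2 D T C) (V3 : Valid3 T C X) (V4 : Valid4 D T C Y)
include V V2 V3 V4

/-- Uniqueness of products, for increasing positive roots. -/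
theorem px_inj {L : List ℕ} (hlt : ∀ a ∈ L, a < T.l) (hsort : (L.map T.sim).Pairwise (· < ·)) {t t' : ℕ → F}
    (h : px V T.sim L t = px V T.sim L t') : ∀ a ∈ L, t a = t' a := by
  induction L with
  | nil => simp
  | cons b L ih =>
    simp only [List.map_cons, List.pairwise_cons, List.mem_map, forall_exists_index, and_imp, forall_apply_eq_imp_iff₂] at hsort
    have hb := hlt b (by simp)
    have hj2 := sim_lt' V V2 V3 hb
    have hj := sim_pos V V2 hb
    have hmem : ∀ (t : ℕ → F), px V T.sim L t ∈ uge V F (T.sim b + 1) := by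
      intro t
      unfold px
      apply Subgroup.list_prod_mem
      intro x hx
      obtain ⟨c, hc, rfl⟩ := List.mem_map.mp hx
      have hc' := hlt c (by simp [hc])
      exact xU_mem_uge V (hsort.1 c hc) (by rw [← V.hn]; exact sim_lt' V V2 V3 hc') _
    simp only [px, List.map_cons, List.prod_cons] at h
    have hneg : T.neg (T.sim b) < D.nroots := by rw [← V.hn]; exact V.neg_lt hj2
    obtain ⟨i, hi⟩ := exists_coroot_ne_zero (F := F) V V2 hj2
    have e1 := extract V V2 hj hj2 (t b) (hmem t) i hneg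
    have e2 := extract V V2 hj hj2 (t' b) (hmem t') i hneg
    unfold px at e1 e2
    rw [h] at e1
    have e3 : t b = t' b := mul_left_cancel₀ hi (e1.symm.trans e2)
    rw [e3] at h
    have h4 := mul_left_cancel h
    have h5 := ih (fun c hc => hlt c (by simp [hc])) hsort.2 h4
    intro a ha
    rcases List.mem_cons.mp ha with rfl | h6
    · exact e3
    · exact h5 a h6

end


section orb
variable (V : Valid D T) (V2 : Valid2 D T C) (V3 : Valid3 T C X) (V4 : Valid4 D T C Y)
variable {ρ ρ' π π' : ℕ → ℕ} {ε : ℕ → ℤ} (G : GraphOk T C ρ ρ' π π' ε) (φ : F ≃+* F)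

theorem tau_word (L : List (ℕ × F)) (hL : ∀ e ∈ L, e.1 < T.n) :
    tauGL V G φ (wordU V L) = wordU V (L.map fun e => (ρ e.1, ((ε e.1 : ℤ) : F) * φ e.2)) := by
  induction L with
  | nil => simp [wordU]
  | cons e L ih =>
    have h1 := ih (fun c hc => hL c (by simp [hc]))
    simp only [wordU, List.map_cons, List.prod_cons] at h1 ⊢
    rw [map_mul, h1, tau_x V G φ (hL e (by simp))]

/-- Conditions on the function giving the roots of the words. -/
structure FOk (G : GraphOk T C ρ ρ' π π' ε) (f : ℕ → ℕ) (L : List ℕ) : Prop where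
  lt : ∀ a ∈ L, f a < T.n
  ρf : ∀ a ∈ L, ρ (f a) = f (π a)
  εf : ∀ a ∈ L, ε (f a) = 1

theorem tau_eW {f : ℕ → ℕ} {L : List ℕ} (h : FOk G f L) (a : F) :
    tauGL V G φ (wordU V (eWg f φ L a)) = wordU V (eWg f φ (L.map π) (φ a)) := by
  induction L generalizing a with
  | nil => simp [eWg, wordU]
  | cons b L ih =>
    have h1 := ih ⟨fun c hc => h.lt c (by simp [hc]), fun c hc => h.ρf c (by simp [hc]), fun c hc => h.εf c (by simp [hc])⟩ (φ a)
    simp only [eWg, wordU, List.map_cons, List.prod_cons] at h1 ⊢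
    rw [map_mul, h1, tau_x V G φ (h.lt b (by simp)), h.ρf b (by simp), h.εf b (by simp)]
    simp

theorem comm_eW {f : ℕ → ℕ} {S : List ℕ} (h : HC V F f S) {c : ℕ} (hc : c ∈ S) (s : F) {L : List ℕ} (hL : ∀ b ∈ L, b ∈ S) (a : F) :
    xU V (f c) s * wordU V (eWg f φ L a) = wordU V (eWg f φ L a) * xU V (f c) s := by
  induction L generalizing a with
  | nil => simp [eWg, wordU]
  | cons b L ih =>
    have h1 := ih (fun d hd => hL d (by simp [hd])) (φ a)
    simp only [eWg, wordU, List.map_cons, List.prod_cons] at h1 ⊢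
    rw [← mul_assoc, h c hc b (hL b (by simp)), mul_assoc, h1, mul_assoc]

/-- The word elements are fixed. -/
theorem eW_fix {f : ℕ → ℕ} {i k : ℕ} (h : FOk G f (chainL π i k)) (hC : HC V F f (chainL π i k)) (hper : π^[k] i = i) {a : F} (ha : φ^[k] a = a) :
    tauGL V G φ (wordU V (eWg f φ (chainL π i k) a)) = wordU V (eWg f φ (chainL π i k) a) := by
  rw [tau_eW V G φ h, chainL_map]
  cases k with
  | zero => rfl
  | succ k =>
    rw [eWg_snoc, chainL]
    simp only [eWg]
    rw [← Function.iterate_succ_apply π, hper, ← Function.iterate_succ_apply (⇑φ), ha]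
    have hi : i ∈ chainL π i (k + 1) := by simp [chainL]
    have h2 := comm_eW V φ hC hi a (L := chainL π (π i) k) (fun b hb => by simp [chainL, hb]) (φ a)
    simp only [wordU, List.map_append, List.prod_append, List.map_cons, List.prod_cons, List.map_nil, List.prod_nil, mul_one] at h2 ⊢
    exact h2.symm

theorem eW_of_t {f : ℕ → ℕ} {t : ℕ → F} {i k : ℕ} (h : ∀ a ∈ chainL π i k, t (π a) = φ (t a)) :
    eWg f φ (chainL π i k) (t i) = (chainL π i k).map fun a => (f a, t a) := by
  induction k generalizing i with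
  | zero => rfl
  | succ k ih =>
    simp only [chainL, eWg, List.map_cons]
    rw [← h i (by simp [chainL]), ih (fun a ha => h a (by simp [chainL, ha]))]

theorem eW_of_idx {f : ℕ → ℕ} {t : ℕ → F} {i k : ℕ} {a : F} (h : ∀ b < k, t (π^[b] i) = φ^[b] a) :
    eWg f φ (chainL π i k) a = (chainL π i k).map fun c => (f c, t c) := by
  induction k generalizing i a with
  | zero => rfl
  | succ k ih =>
    simp only [chainL, eWg, List.map_cons]
    have h0 : t i = a := h 0 (by omega)
    rw [h0, ih (i := π i) (a := φ a) (fun b hb => h (b + 1) (by omega))]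

theorem t_iter {t : ℕ → F} {i k : ℕ} (h : ∀ a ∈ chainL π i k, t (π a) = φ (t a)) : t (π^[k] i) = φ^[k] (t i) := by
  induction k with
  | zero => rfl
  | succ k ih =>
    rw [Function.iterate_succ_apply', Function.iterate_succ_apply', h _ (by rw [mem_chainL]; exact ⟨k, by omega, rfl⟩), ih]
    intro a ha
    obtain ⟨b, hb, rfl⟩ := mem_chainL.mp ha
    exact h _ (mem_chainL.mpr ⟨b, by omega, rfl⟩)

variable {i k : ℕ} {Ls : List ℕ} {idx : ℕ → ℕ}
include V V2 V3 V4

theorem hcPos (O : OrbOk T C π i k Ls idx) : HC V F T.sim (chainL π i k) := by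
  intro a ha b hb s s'
  exact comm_pp V V2 V3 V4 O.hlt (fun a ha b hb h => (O.hch a ha b hb h).1) ha hb s s'

theorem neg_ne_sim {a b : ℕ} (ha : a < T.l) (hb : b < T.l) : T.neg (T.sim a) ≠ T.sim b :=
  fun e => sim_ne_neg V V2 V3 V4 hb ha e.symm

theorem hcNeg (O : OrbOk T C π i k Ls idx) : HC V F (fun a => T.neg (T.sim a)) (chainL π i k) := by
  intro a ha b hb s s'
  by_cases h : a = b
  · subst h
    rw [xU_mul, xU_mul, add_comm]
  · have hla := O.hlt a ha
    have hlb := O.hlt b hb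
    have hsa := sim_lt' V V2 V3 hla
    have hsb := sim_lt' V V2 V3 hlb
    refine x_comm V V4 (V.neg_lt hsb) (V.neg_lt hsa) ?_ ?_ (O.hch b hb a ha (Ne.symm h)).2.2.2 (O.hch a ha b hb h).2.2.2 s' s
    · intro e
      have := congrArg T.neg e
      rw [V.neg_neg hsa, V.neg_neg hsb] at this
      exact h (sim_inj V V2 V3 V4 hla hlb this)
    · rw [V.neg_neg hsb]
      exact neg_ne_sim V V2 V3 V4 hla hlb

/-- The orbit positive roots. -/
theorem fok_pos (hε : ∀ a < T.l, ε (T.sim a) = 1) (O : OrbOk T C π i k Ls idx) : FOk G T.sim (chainL π i k) :=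
  ⟨fun a ha => sim_lt' V V2 V3 (O.hlt a ha), fun a ha => G.ρ_sim a (O.hlt a ha), fun a ha => hε a (O.hlt a ha)⟩

theorem fok_neg (hε : ∀ a < T.l, ε (T.sim a) = 1) (O : OrbOk T C π i k Ls idx) : FOk G (fun a => T.neg (T.sim a)) (chainL π i k) := by
  refine ⟨fun a ha => V.neg_lt (sim_lt' V V2 V3 (O.hlt a ha)), fun a ha => ?_, fun a ha => ?_⟩
  · have hs := sim_lt' V V2 V3 (O.hlt a ha)
    show ρ (T.neg (T.sim a)) = T.neg (T.sim (π a))
    rw [G.ρ_neg _ hs, G.ρ_sim a (O.hlt a ha)]
  · have hs := sim_lt' V V2 V3 (O.hlt a ha)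
    show ε (T.neg (T.sim a)) = 1
    rw [G.ε_neg _ hs, hε a (O.hlt a ha)]

theorem sim_PJ {L : List ℕ} {a : ℕ} (ha : a ∈ L) (hl : a < T.l) : PJ T C (setL L) (T.sim a) :=
  ⟨sim_pos V V2 hl, sim_lt' V V2 V3 hl, sim_inJ V V2 V3 ha hl⟩

/-- Uniqueness for orbits -/
theorem px_inj' (O : OrbOk T C π i k Ls idx) {t t' : ℕ → F} (h : px V T.sim (chainL π i k) t = px V T.sim (chainL π i k) t') :
    ∀ a ∈ chainL π i k, t a = t' a := by
  have hC := hcPos V V2 V3 V4 (F := F) O
  rw [px_perm hC (fun b hb => hb) O.hs.symm t, px_perm hC (fun b hb => hb) O.hs.symm t'] at h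
  intro a ha
  exact px_inj V V2 V3 V4 (fun b hb => O.hlt b (O.hs.subset hb)) O.hsort h a (O.hs.symm.subset ha)

theorem eW_inj (O : OrbOk T C π i k Ls idx) {a a' : F} (h : wordU V (eWg T.sim φ (chainL π i k) a) = wordU V (eWg T.sim φ (chainL π i k) a')) : a = a' := by
  have e : ∀ a : F, wordU V (eWg T.sim φ (chainL π i k) a) = px V T.sim (chainL π i k) (fun c => φ^[idx c] a) := by
    intro a
    rw [← px_word, eW_of_idx φ (t := fun c => φ^[idx c] a)]
    intro b hb
    show φ^[idx (π^[b] i)] a = φ^[b] a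
    rw [O.hidx b hb]
  rw [e, e] at h
  have h2 := px_inj' V V2 V3 V4 O h i (by
    have := O.hk
    cases k with
    | zero => omega
    | succ k => simp [chainL])
  have h3 := O.hidx 0 O.hk
  simp only [Function.iterate_zero, id_eq] at h3
  simpa [h3] using h2

/-- Elements of `X_J⁺` are products. -/
theorem XP_form (O : OrbOk T C π i k Ls idx) {x : GL D.Idx F} (hx : x ∈ XP V C F (setL (chainL π i k))) :
    ∃ t : ℕ → F, x = px V T.sim (chainL π i k) t := by
  have hC := hcPos V V2 V3 V4 (F := F) O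
  unfold XP at hx
  induction hx using Subgroup.closure_induction with
  | mem x hx =>
    obtain ⟨r, s, hr, rfl⟩ := hx
    have h1 := O.hPJ r hr.2.1 hr.1 hr.2.2
    obtain ⟨a, ha, rfl⟩ := List.mem_map.mp h1
    exact ⟨Function.update 0 a s, (px_single O.hnd ha s).symm⟩
  | one => exact ⟨0, (px_zero _).symm⟩
  | mul x y _ _ hx hy =>
    obtain ⟨t, rfl⟩ := hx
    obtain ⟨t', rfl⟩ := hy
    exact ⟨t + t', px_mul hC (fun b hb => hb) t t'⟩
  | inv x _ hx =>
    obtain ⟨t, rfl⟩ := hx
    exact ⟨-t, px_inv hC (fun b hb => hb) t⟩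

/-- A fixed element of `X_J⁺` is a word element. -/
theorem fixed_form (hε : ∀ a < T.l, ε (T.sim a) = 1) (O : OrbOk T C π i k Ls idx) {x : GL D.Idx F} (hx : x ∈ XP V C F (setL (chainL π i k)))
    (hF : tauGL V G φ x = x) : ∃ a : F, φ^[k] a = a ∧ x = wordU V (eWg T.sim φ (chainL π i k) a) := by
  have hC := hcPos V V2 V3 V4 (F := F) O
  obtain ⟨t, rfl⟩ := XP_form V V2 V3 V4 O hx
  have hP := fok_pos V V2 V3 V4 G hε O
  have hlt : ∀ a ∈ chainL π i k, T.sim a < T.n := hP.lt
  have e1 : tauGL V G φ (px V T.sim (chainL π i k) t) = px V T.sim (chainL π (π i) k) (fun c => φ (t (π' c))) := by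
    rw [← px_word, tau_word V G φ _ (by
      intro e he
      obtain ⟨a, ha, rfl⟩ := List.mem_map.mp he
      exact hlt a ha), List.map_map, ← chainL_map, ← px_word, List.map_map]
    congr 1
    apply List.map_congr_left
    intro a ha
    simp only [Function.comp]
    rw [hP.ρf a ha, hP.εf a ha, G.π'π a (O.hlt a ha)]
    simp
  rw [e1, px_perm (S := chainL π i k) hC (fun b hb => by
    have := (chainL_perm O.hper).subset hb
    exact this) (chainL_perm O.hper)] at hF
  have h2 := px_inj' V V2 V3 V4 O hF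
  have hπmem : ∀ a ∈ chainL π i k, π a ∈ chainL π i k := by
    intro a ha
    have : π a ∈ (chainL π i k).map π := List.mem_map_of_mem ha
    rw [chainL_map] at this
    exact (chainL_perm O.hper).subset this
  have h3 : ∀ a ∈ chainL π i k, t (π a) = φ (t a) := by
    intro a ha
    have := h2 (π a) (hπmem a ha)
    simp only [G.π'π a (O.hlt a ha)] at this
    exact this.symm
  refine ⟨t i, ?_, ?_⟩
  · rw [← t_iter φ h3, O.hper]
  · rw [eW_of_t φ h3, px_word]

end orb

end Cfsg.Agent.Lib.ChevTw7
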