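import Cfsg.Agent.Lib.ChevTw7

/-! Twisted groups, step 8: the fixed point structure attached to orbits of pairwise orthogonal simple roots. -/

set_option autoImplicit false
set_option linter.unusedVariables false
set_option linter.unusedSectionVars false
set_option linter.unusedFintypeInType false
set_option linter.unusedDecidableInType false

namespace Cfsg.Agent.Lib.ChevTw8

open Cfsg.Lie Matrix Cfsg.Agent.Lib.ChevEngine Cfsg.Agent.Lib.ChevTab Cfsg.Agent.Lib.ChevMono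
  Cfsg.Agent.Lib.ChevRel Cfsg.Agent.Lib.ChevValid Cfsg.Agent.Lib.ChevGL Cfsg.Agent.Lib.ChevGrad Cfsg.Agent.Lib.ChevL2
  Cfsg.Agent.Lib.ChevU Cfsg.Agent.Lib.ChevU2 Cfsg.Agent.Lib.ChevU3 Cfsg.Agent.Lib.ChevDiag Cfsg.Agent.Lib.ChevV3
  Cfsg.Agent.Lib.ChevH Cfsg.Agent.Lib.ChevN Cfsg.Agent.Lib.ChevN2 Cfsg.Agent.Lib.ChevN3 Cfsg.Agent.Lib.ChevBN Cfsg.Agent.Lib.ChevBN2
  Cfsg.Agent.Lib.ChevV4 Cfsg.Agent.Lib.ChevSimp Cfsg.Agent.Lib.ChevSimp2 Cfsg.Agent.Lib.ChevPar Cfsg.Agent.Lib.ChevV5 Cfsg.Agent.Lib.ChevPar2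
  Cfsg.Agent.Lib.ChevPar3 Cfsg.Agent.Lib.BNPair Cfsg.Agent.Lib.BNCount Cfsg.Agent.Lib.ChevW1 Cfsg.Agent.Lib.ChevW2 Cfsg.Agent.Lib.ChevTw1
  Cfsg.Agent.Lib.ChevTw2 Cfsg.Agent.Lib.ChevTw3 Cfsg.Agent.Lib.ChevAut3 Cfsg.Agent.Lib.ChevTw4 Cfsg.Agent.Lib.ChevTw5 Cfsg.Agent.Lib.ChevW3
  Cfsg.Agent.Lib.ChevTw6 Cfsg.Agent.Lib.ChevTw7

variable {D : ChevalleyDatum} {T : Tb} {C : Tc} {X : Tc3} {Y : Tc4} {F : Type*} [Field F]

/-- Orbits. -/
structure OrbData (T : Tb) (C : Tc) (π : ℕ → ℕ) (ι : Type) where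
  i0 : ι → ℕ
  k : ι → ℕ
  Ls : ι → List ℕ
  idx : ι → ℕ → ℕ
  O : ∀ j, OrbOk T C π (i0 j) (k j) (Ls j) (idx j)
  cover : ∀ a < T.l, ∃ j, a ∈ chainL π (i0 j) (k j)
  disj : ∀ a j j', a ∈ chainL π (i0 j) (k j) → a ∈ chainL π (i0 j') (k j') → j = j'

section
variable (V : Valid D T) (V2 : Valid2 D T C) (V3 : Valid3 T C X) (V4 : Valid4 D T C Y)
variable {ρ ρ' π π' : ℕ → ℕ} {ε : ℕ → ℤ} (G : GraphOk T C ρ ρ' π π' ε) (φ : F ≃+* F)
variable {i k : ℕ} {Ls : List ℕ} {idx : ℕ → ℕ}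

include V V2 V3 V4

theorem π_chain (O : OrbOk T C π i k Ls idx) {a : ℕ} (ha : a ∈ chainL π i k) : π a ∈ chainL π i k := by
  have h1 : π a ∈ (chainL π i k).map π := List.mem_map_of_mem ha
  rw [chainL_map] at h1
  exact (chainL_perm O.hper).subset h1

theorem π'_chain (O : OrbOk T C π i k Ls idx) (G : GraphOk T C ρ ρ' π π' ε) {a : ℕ} (ha : a ∈ chainL π i k) : π' a ∈ chainL π i k := by
  have h1 : a ∈ chainL π (π i) k := (chainL_perm O.hper).symm.subset ha
  rw [← chainL_map] at h1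
  obtain ⟨c, hc, rfl⟩ := List.mem_map.mp h1
  rw [G.π'π c (O.hlt c hc)]
  exact hc

theorem stable_chain (O : OrbOk T C π i k Ls idx) : (twAut V G φ).Stable (setL (chainL π i k)) := by
  constructor
  · rintro r ⟨h1, h2, h3⟩
    refine ⟨G.ρ_pos r h2 h1, G.ρ_lt r h2, ?_⟩
    intro m hm hm2
    have e := G.coef r h2 (π' m) (G.π'_lt m hm)
    rw [G.ππ' m hm] at e
    show C.coef (ρ r) m = 0
    rw [e]
    apply h3 _ (G.π'_lt m hm)
    intro h4
    apply hm2
    show m ∈ chainL π i k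
    have h5 := π_chain V V2 V3 V4 O h4
    rwa [G.ππ' m hm] at h5
  · rintro r ⟨h1, h2, h3⟩
    refine ⟨G.ρ_pos r h2 h1, G.ρ_lt r h2, ?_⟩
    intro h4
    apply h3
    intro m hm hm2
    have e := G.coef r h2 m hm
    rw [← e]
    apply h4 _ (G.π_lt m hm)
    intro h5
    apply hm2
    have h6 := π'_chain V V2 V3 V4 O G h5
    rwa [G.π'π m hm] at h6

theorem comm_mixed (O : OrbOk T C π i k Ls idx) {a b : ℕ} (ha : a ∈ chainL π i k) (hb : b ∈ chainL π i k) (hab : a ≠ b) (s s' : F) :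
    xU V (T.sim a) s * xU V (T.neg (T.sim b)) s' = xU V (T.neg (T.sim b)) s' * xU V (T.sim a) s := by
  have hla := O.hlt a ha
  have hlb := O.hlt b hb
  have hsa := sim_lt' V V2 V3 hla
  have hsb := sim_lt' V V2 V3 hlb
  refine x_comm V V4 (V.neg_lt hsb) hsa ?_ ?_ (O.hch b hb a ha (Ne.symm hab)).2.2.1 (O.hch a ha b hb hab).2.1 s' s
  · exact sim_ne_neg V V2 V3 V4 hla hlb
  · rw [V.neg_neg hsb]
    intro e
    exact hab (sim_inj V V2 V3 V4 hla hlb e)

/-- Commutation of a positive root element with a product of negative ones. -/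
theorem comm_mixed_pn (O : OrbOk T C π i k Ls idx) {a : ℕ} (ha : a ∈ chainL π i k) {L : List ℕ} (hL : ∀ b ∈ L, b ∈ chainL π i k) (haL : a ∉ L) (s : F) (t : ℕ → F) :
    xU V (T.sim a) s * px V (fun c => T.neg (T.sim c)) L t = px V (fun c => T.neg (T.sim c)) L t * xU V (T.sim a) s := by
  induction L with
  | nil => simp [px]
  | cons b L ih =>
    have ih' := ih (fun c hc => hL c (by simp [hc])) (fun h => haL (by simp [h]))
    have hab : a ≠ b := fun e => haL (by simp [e])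
    simp only [px, List.map_cons, List.prod_cons] at ih' ⊢
    rw [← mul_assoc, comm_mixed V V2 V3 V4 O ha (hL b (by simp)) hab, mul_assoc, ih', mul_assoc]

/-- Commutation of a negative root element with a product of positive ones. -/
theorem comm_mixed_np (O : OrbOk T C π i k Ls idx) {a : ℕ} (ha : a ∈ chainL π i k) {L : List ℕ} (hL : ∀ b ∈ L, b ∈ chainL π i k) (haL : a ∉ L) (s : F) (t : ℕ → F) :
    xU V (T.neg (T.sim a)) s * px V T.sim L t = px V T.sim L t * xU V (T.neg (T.sim a)) s := by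
  induction L with
  | nil => simp [px]
  | cons b L ih =>
    have ih' := ih (fun c hc => hL c (by simp [hc])) (fun h => haL (by simp [h]))
    have hab : b ≠ a := fun e => haL (by simp [← e])
    simp only [px, List.map_cons, List.prod_cons] at ih' ⊢
    rw [← mul_assoc, ← comm_mixed V V2 V3 V4 O (hL b (by simp)) ha hab, mul_assoc, ih', mul_assoc]

/-- The product of `n_r(t)` along the orbit as a product of three root group products. -/
theorem prod_nU (O : OrbOk T C π i k Ls idx) {L : List ℕ} (hL : ∀ b ∈ L, b ∈ chainL π i k) (hnd : L.Nodup) (t : ℕ → F) :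
    (L.map fun a => nU V (T.sim a) (t a)).prod = px V T.sim L t * px V (fun c => T.neg (T.sim c)) L (fun a => -(t a)⁻¹) * px V T.sim L t := by
  induction L with
  | nil => simp [px]
  | cons a L ih =>
    have ha := hL a (by simp)
    have hL' : ∀ b ∈ L, b ∈ chainL π i k := fun c hc => hL c (by simp [hc])
    rw [List.nodup_cons] at hnd
    have ih' := ih hL' hnd.2
    have hD : T.neg (T.sim a) = D.neg (T.sim a) := (V.neg_eq (by rw [← V.hn]; exact sim_lt' V V2 V3 (O.hlt a ha))).symm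
    have c1 := comm_mixed_np V V2 V3 V4 O ha hL' hnd.1 (-(t a)⁻¹) t
    have c2 := comm_mixed_pn V V2 V3 V4 O ha hL' hnd.1 (t a) (fun a => -(t a)⁻¹)
    have c3 := comm_px (hcPos V V2 V3 V4 (F := F) O) ha (t a) hL' t
    rw [List.map_cons, List.prod_cons, ih', nU_eq, ← hD]
    simp only [px, List.map_cons, List.prod_cons] at c1 c2 c3 ⊢
    set P := (L.map fun a => xU V (T.sim a) (t a)).prod
    set Q := (L.map fun a_1 => xU V (T.neg (T.sim a_1)) (-(t a_1)⁻¹)).prod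
    set xa := xU V (T.sim a) (t a)
    set ya := xU V (T.neg (T.sim a)) (-(t a)⁻¹)
    calc xa * ya * xa * (P * Q * P) = xa * ya * (xa * P) * Q * P := by group
      _ = xa * ya * (P * xa) * Q * P := by rw [c3]
      _ = xa * (ya * P) * (xa * Q) * P := by group
      _ = xa * (P * ya) * (Q * xa) * P := by rw [c1, c2]
      _ = _ := by group

/-- The product of simple `n`'s. -/
theorem nW_val (O : OrbOk T C π i k Ls idx) {L : List ℕ} (hL : ∀ b ∈ L, b ∈ chainL π i k) :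
    ((nW V V2 V3 F L : ↥(D.monomialSubgroup F)) : GL D.Idx F) = (L.map fun a => nU V (T.sim a) (1 : F)).prod := by
  induction L with
  | nil => simp [nW]
  | cons a L ih =>
    have ha := O.hlt a (hL a (by simp))
    have h1 := ih (fun c hc => hL c (by simp [hc]))
    simp only [nW, List.map_cons, List.prod_cons, Subgroup.coe_mul] at h1 ⊢
    rw [h1, nS'_eq V V2 V3 ha]
    show nU V (D.simple a) 1 * _ = _
    rw [V.simple_eq (by rw [← V.hl]; exact ha)]

theorem chain_nd_pos (O : OrbOk T C π i k Ls idx) : 0 < (chainL π i k).length := by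
  have := O.hk
  cases k with
  | zero => omega
  | succ k => simp [chainL]

theorem i_mem (O : OrbOk T C π i k Ls idx) : i ∈ chainL π i k := by
  have := O.hk
  cases k with
  | zero => omega
  | succ k => simp [chainL]

/-- Words with a constant parameter. -/
theorem eW_const {f : ℕ → ℕ} {a : F} (ha : φ a = a) (L : List ℕ) : wordU V (eWg f φ L a) = px V f L (fun _ => a) := by
  rw [← px_word]
  induction L with
  | nil => rfl
  | cons b L ih =>
    simp only [eWg, List.map_cons, ha]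
    rw [wordU_cons, wordU_cons, ih]

/-- The word formula for `nW`. -/
theorem nW_word (O : OrbOk T C π i k Ls idx) :
    ((nW V V2 V3 F (chainL π i k) : ↥(D.monomialSubgroup F)) : GL D.Idx F) =
      wordU V (eWg T.sim φ (chainL π i k) 1) * wordU V (eWg (fun c => T.neg (T.sim c)) φ (chainL π i k) (-1)) * wordU V (eWg T.sim φ (chainL π i k) 1) := by
  rw [nW_val V V2 V3 V4 O (fun b hb => hb), prod_nU V V2 V3 V4 O (fun b hb => hb) O.hnd, eW_const V V2 V3 V4 φ (map_one φ), eW_const V V2 V3 V4 φ (by simp)]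
  simp

end

section fix
variable (V : Valid D T) (V2 : Valid2 D T C) (V3 : Valid3 T C X) (V4 : Valid4 D T C Y)
variable {ρ ρ' π π' : ℕ → ℕ} {ε : ℕ → ℤ} (G : GraphOk T C ρ ρ' π π' ε) (φ : F ≃+* F)
variable {i k : ℕ} {Ls : List ℕ} {idx : ℕ → ℕ}
include V V2 V3 V4

theorem word_mem_group {f : ℕ → ℕ} {L : List ℕ} (h : FOk G f L) (a : F) : wordU V (eWg f φ L a) ∈ D.group F := by
  induction L generalizing a with
  | nil => simp [eWg]
  | cons b L ih =>
    simp only [eWg]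
    rw [wordU_cons]
    refine Subgroup.mul_mem _ (xU_mem_group V (by rw [← V.hn]; exact h.lt b (by simp)) _) ?_
    exact ih ⟨fun c hc => h.lt c (by simp [hc]), fun c hc => h.ρf c (by simp [hc]), fun c hc => h.εf c (by simp [hc])⟩ _

theorem word_mem_Fix {f : ℕ → ℕ} (h : FOk G f (chainL π i k)) (hC : HC V F f (chainL π i k)) (hper : π^[k] i = i) {a : F} (ha : φ^[k] a = a) :
    wordU V (eWg f φ (chainL π i k) a) ∈ (twAut V G φ).Fix := by
  refine (twAut V G φ).mem_Fix.mpr ⟨word_mem_group V V2 V3 V4 G φ h a, ?_⟩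
  exact eW_fix V G φ h hC hper ha

theorem word_mem_XP {L : List ℕ} (hlt : ∀ a ∈ L, a < T.l) {L' : List ℕ} (hL' : ∀ a ∈ L', a ∈ L) (a : F) :
    wordU V (eWg T.sim φ L' a) ∈ XP V C F (setL L) := by
  induction L' generalizing a with
  | nil => simp [eWg]
  | cons b L' ih =>
    simp only [eWg]
    rw [wordU_cons]
    refine Subgroup.mul_mem _ (Subgroup.subset_closure ⟨_, _, sim_PJ V V2 V3 V4 (L := L) (hL' b (by simp)) (hlt b (hL' b (by simp))), rfl⟩) ?_
    exact ih (fun c hc => hL' c (by simp [hc])) _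

theorem word_mem_XM {L : List ℕ} (hlt : ∀ a ∈ L, a < T.l) {L' : List ℕ} (hL' : ∀ a ∈ L', a ∈ L) (a : F) :
    wordU V (eWg (fun c => T.neg (T.sim c)) φ L' a) ∈ XM V C F (setL L) := by
  induction L' generalizing a with
  | nil => simp [eWg]
  | cons b L' ih =>
    simp only [eWg]
    rw [wordU_cons]
    refine Subgroup.mul_mem _ (Subgroup.subset_closure ⟨_, _, sim_PJ V V2 V3 V4 (L := L) (hL' b (by simp)) (hlt b (hL' b (by simp))), rfl⟩) ?_
    exact ih (fun c hc => hL' c (by simp [hc])) _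

theorem chain_lt (O : OrbOk T C π i k Ls idx) : ∀ a ∈ chainL π i k, a < T.l := O.hlt

theorem nW_isW (O : OrbOk T C π i k Ls idx) : IsW V V2 V3 (setL (chainL π i k)) (nW V V2 V3 F (chainL π i k)) :=
  isW_of_chk V V2 V3 V4 O.hlt O.hflip O.hflip'

/-- The negative word with parameter -1 is not trivial. -/
theorem word_neg_ne (O : OrbOk T C π i k Ls idx) : wordU V (eWg (fun c => T.neg (T.sim c)) φ (chainL π i k) (-1)) ≠ 1 := by
  intro h
  have e := nW_word V V2 V3 V4 φ O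
  rw [h, mul_one] at e
  have h1 : ((nW V V2 V3 F (chainL π i k) : ↥(D.monomialSubgroup F)) : GL D.Idx F) ∈ D.posUnipotent F := by
    rw [e]
    have h2 : wordU V (eWg T.sim φ (chainL π i k) (1 : F)) ∈ D.posUnipotent F := by
      have h3 := word_mem_XP V V2 V3 V4 φ O.hlt (L' := chainL π i k) (fun a ha => ha) (1 : F)
      exact XP_le_U V V2 V3 V4 _ h3
    exact Subgroup.mul_mem _ h2 h2
  have h4 : ((nW V V2 V3 F (chainL π i k) : ↥(D.monomialSubgroup F)) : GL D.Idx F) ∈ D.posUnipotent F ⊓ D.monomialSubgroup F := ⟨h1, (nW V V2 V3 F (chainL π i k)).2⟩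
  rw [U_inf_N V V2 V3, Subgroup.mem_bot] at h4
  have h5 : nW V V2 V3 F (chainL π i k) = 1 := Subtype.ext h4
  have hi := i_mem V V2 V3 V4 O
  have h6 := (nW_isW V V2 V3 V4 (F := F) O).1 (T.sim i) (sim_pos V V2 (O.hlt i hi)) (sim_lt' V V2 V3 (O.hlt i hi))
  have h7 := h6.1 (sim_inJ V V2 V3 hi (O.hlt i hi))
  rw [h5, map_one] at h7
  have h8 := sim_pos V V2 (O.hlt i hi)
  simp at h7
  omega

end fix

section orbFix
variable (V : Valid D T) (V2 : Valid2 D T C) (V3 : Valid3 T C X) (V4 : Valid4 D T C Y)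
variable {ρ ρ' π π' : ℕ → ℕ} {ε : ℕ → ℤ} (G : GraphOk T C ρ ρ' π π' ε) (φ : F ≃+* F)
variable {ι : Type} (Q : OrbData T C π ι) (hε : ∀ a < T.l, ε (T.sim a) = 1)

/-- The fixed point structure for orbits. -/
noncomputable def orbFix : TwFix V V2 V3 F ι :=
  (twAut V G φ).toFix V2 V3 V4 (fun j => setL (chainL π (Q.i0 j) (Q.k j)))
    (fun j => stable_chain V V2 V3 V4 G φ (Q.O j))
    (fun j a ha => (Q.O j).hlt a ha)
    (fun j a ha => π_chain V V2 V3 V4 (Q.O j) ha)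
    (by
      intro j a ha a' ha'
      obtain ⟨b, hb, rfl⟩ := mem_chainL.mp ha
      obtain ⟨b', hb', rfl⟩ := mem_chainL.mp ha'
      have hper := (Q.O j).hper
      -- go around the cycle
      refine ⟨b' + (Q.k j - b), ?_⟩
      change π^[b' + (Q.k j - b)] (π^[b] (Q.i0 j)) = π^[b'] (Q.i0 j)
      rw [Function.iterate_add_apply, ← Function.iterate_add_apply π (Q.k j - b) b, show Q.k j - b + b = Q.k j by omega, hper])
    Q.cover
    (fun a j j' h1 h2 => Q.disj a j j' h1 h2)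
    (fun j => ⟨Q.i0 j, i_mem V V2 V3 V4 (Q.O j)⟩)
    (fun j => ⟨_, word_mem_XM V V2 V3 V4 φ (Q.O j).hlt (fun a ha => ha) (-1),
      word_mem_Fix V V2 V3 V4 G φ (fok_neg V V2 V3 V4 G hε (Q.O j)) (hcNeg V V2 V3 V4 (Q.O j)) (Q.O j).hper (Function.iterate_fixed (by simp) _),
      word_neg_ne V V2 V3 V4 φ (Q.O j)⟩)

/-- The set of generating word elements. -/
def wordSet (V : Valid D T) (φ : F ≃+* F) (Q : OrbData T C π ι) : Set (GL D.Idx F) :=
  {g | ∃ (j : ι) (a : F), φ^[Q.k j] a = a ∧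
    (g = wordU V (eWg T.sim φ (chainL π (Q.i0 j) (Q.k j)) a) ∨ g = wordU V (eWg (fun c => T.neg (T.sim c)) φ (chainL π (Q.i0 j) (Q.k j)) a))}

theorem orb_A (j : ι) : (orbFix V V2 V3 V4 G φ Q hε).A j = setL (chainL π (Q.i0 j) (Q.k j)) := rfl

theorem orb_Fix : (orbFix V V2 V3 V4 G φ Q hε).Fix = (twAut V G φ).Fix := rfl

theorem mem_Yp {j : ι} {x : GL D.Idx F} : x ∈ (orbFix V V2 V3 V4 G φ Q hε).Yp j ↔ ∃ a : F, φ^[Q.k j] a = a ∧ x = wordU V (eWg T.sim φ (chainL π (Q.i0 j) (Q.k j)) a) := by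
  constructor
  · rintro ⟨h1, h2⟩
    obtain ⟨hx, h3⟩ := (twAut V G φ).mem_Fix.mp h2
    exact fixed_form V V2 V3 V4 G φ hε (Q.O j) h1 h3
  · rintro ⟨a, ha, rfl⟩
    refine ⟨word_mem_XP V V2 V3 V4 φ (Q.O j).hlt (fun a ha => ha) a, ?_⟩
    exact word_mem_Fix V V2 V3 V4 G φ (fok_pos V V2 V3 V4 G hε (Q.O j)) (hcPos V V2 V3 V4 (Q.O j)) (Q.O j).hper ha

theorem word_neg_mem_Ym {j : ι} {a : F} (ha : φ^[Q.k j] a = a) :
    wordU V (eWg (fun c => T.neg (T.sim c)) φ (chainL π (Q.i0 j) (Q.k j)) a) ∈ (orbFix V V2 V3 V4 G φ Q hε).Ym j :=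
  ⟨word_mem_XM V V2 V3 V4 φ (Q.O j).hlt (fun a ha => ha) a,
    word_mem_Fix V V2 V3 V4 G φ (fok_neg V V2 V3 V4 G hε (Q.O j)) (hcNeg V V2 V3 V4 (Q.O j)) (Q.O j).hper ha⟩

include V4 in
theorem nW_mem_closure (j : ι) : ((nW V V2 V3 F (chainL π (Q.i0 j) (Q.k j)) : ↥(D.monomialSubgroup F)) : GL D.Idx F) ∈ Subgroup.closure (wordSet V φ Q) := by
  rw [nW_word V V2 V3 V4 φ (Q.O j)]
  have h1 : wordU V (eWg T.sim φ (chainL π (Q.i0 j) (Q.k j)) (1 : F)) ∈ Subgroup.closure (wordSet V φ Q) :=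
    Subgroup.subset_closure ⟨j, 1, Function.iterate_fixed (by simp) _, Or.inl rfl⟩
  have h2 : wordU V (eWg (fun c => T.neg (T.sim c)) φ (chainL π (Q.i0 j) (Q.k j)) (-1 : F)) ∈ Subgroup.closure (wordSet V φ Q) :=
    Subgroup.subset_closure ⟨j, -1, Function.iterate_fixed (by simp) _, Or.inr rfl⟩
  exact Subgroup.mul_mem _ (Subgroup.mul_mem _ h1 h2) h1

theorem G1_eq : (orbFix V V2 V3 V4 G φ Q hε).G1 = Subgroup.closure (wordSet V φ Q) := by
  apply le_antisymm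
  · unfold TwFix.G1
    rw [Subgroup.closure_le]
    intro x hx
    obtain ⟨j, h | h⟩ := Set.mem_iUnion.1 hx
    · obtain ⟨a, ha, rfl⟩ := (mem_Yp V V2 V3 V4 G φ Q hε).mp h
      exact Subgroup.subset_closure ⟨j, a, ha, Or.inl rfl⟩
    · have hn := nW_mem_closure V V2 V3 V4 φ Q j
      have hW := nW_isW V V2 V3 V4 (F := F) (Q.O j)
      have hnF : ((nW V V2 V3 F (chainL π (Q.i0 j) (Q.k j)) : ↥(D.monomialSubgroup F)) : GL D.Idx F) ∈ (twAut V G φ).Fix := by
        rw [nW_word V V2 V3 V4 φ (Q.O j)]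
        refine Subgroup.mul_mem _ (Subgroup.mul_mem _ ?_ ?_) ?_
        · exact word_mem_Fix V V2 V3 V4 G φ (fok_pos V V2 V3 V4 G hε (Q.O j)) (hcPos V V2 V3 V4 (Q.O j)) (Q.O j).hper (Function.iterate_fixed (by simp) _)
        · exact word_mem_Fix V V2 V3 V4 G φ (fok_neg V V2 V3 V4 G hε (Q.O j)) (hcNeg V V2 V3 V4 (Q.O j)) (Q.O j).hper (Function.iterate_fixed (by simp) _)
        · exact word_mem_Fix V V2 V3 V4 G φ (fok_pos V V2 V3 V4 G hε (Q.O j)) (hcPos V V2 V3 V4 (Q.O j)) (Q.O j).hper (Function.iterate_fixed (by simp) _)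
      set n : GL D.Idx F := ((nW V V2 V3 F (chainL π (Q.i0 j) (Q.k j)) : ↥(D.monomialSubgroup F)) : GL D.Idx F) with hndef
      have h1 : n * x * n⁻¹ ∈ (orbFix V V2 V3 V4 G φ Q hε).Yp j := by
        refine ⟨conj_XM_flip V V2 V3 V4 hW.1 h.1, ?_⟩
        have h2 : x ∈ (twAut V G φ).Fix := h.2
        exact Subgroup.mul_mem _ (Subgroup.mul_mem _ hnF h2) (Subgroup.inv_mem _ hnF)
      obtain ⟨a, ha, e⟩ := (mem_Yp V V2 V3 V4 G φ Q hε).mp h1
      have h3 : n * x * n⁻¹ ∈ Subgroup.closure (wordSet V φ Q) := by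
        rw [e]
        exact Subgroup.subset_closure ⟨j, a, ha, Or.inl rfl⟩
      have e2 : x = n⁻¹ * (n * x * n⁻¹) * n := by group
      rw [e2]
      exact Subgroup.mul_mem _ (Subgroup.mul_mem _ (Subgroup.inv_mem _ hn) h3) hn
  · rw [Subgroup.closure_le]
    rintro x ⟨j, a, ha, rfl | rfl⟩
    · exact TwFix.Yp_le _ j ((mem_Yp V V2 V3 V4 G φ Q hε).mpr ⟨a, ha, rfl⟩)
    · exact TwFix.Ym_le _ j (word_neg_mem_Ym V V2 V3 V4 G φ Q hε ha)

/-- The cardinality of the fixed part. -/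
theorem card_Yp (j : ι) : Nat.card ((orbFix V V2 V3 V4 G φ Q hε).Yp j) = Nat.card {a : F // φ^[Q.k j] a = a} := by
  symm
  apply Nat.card_congr
  refine Equiv.ofBijective (fun a => ⟨wordU V (eWg T.sim φ (chainL π (Q.i0 j) (Q.k j)) a.1), (mem_Yp V V2 V3 V4 G φ Q hε).mpr ⟨a.1, a.2, rfl⟩⟩) ⟨?_, ?_⟩
  · intro a a' h
    have h1 := congrArg Subtype.val h
    exact Subtype.ext (eW_inj V V2 V3 V4 φ (Q.O j) h1)
  · rintro ⟨x, hx⟩
    obtain ⟨a, ha, rfl⟩ := (mem_Yp V V2 V3 V4 G φ Q hε).mp hx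
    exact ⟨⟨a, ha⟩, rfl⟩

theorem chain_length (π : ℕ → ℕ) (i k : ℕ) : (chainL π i k).length = k := by
  induction k generalizing i with
  | zero => rfl
  | succ k ih => simp [chainL, ih]

include V V2 V3 V4 in
/-- The number of positive roots in the subsystem. -/
theorem card_PJs (j : ι) : (PJs T C (setL (chainL π (Q.i0 j) (Q.k j)))).card = Q.k j := by
  classical
  have hO := Q.O j
  have e : PJs T C (setL (chainL π (Q.i0 j) (Q.k j))) = ((chainL π (Q.i0 j) (Q.k j)).map T.sim).toFinset := by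
    ext r
    rw [mem_PJs V V2 V3 V4, List.mem_toFinset]
    constructor
    · rintro ⟨h1, h2, h3⟩
      exact hO.hPJ r h2 h1 h3
    · intro h
      obtain ⟨a, ha, rfl⟩ := List.mem_map.mp h
      exact sim_PJ V V2 V3 V4 ha (hO.hlt a ha)
  rw [e, List.toFinset_card_of_nodup, List.length_map, chain_length]
  apply List.Nodup.map_on _ hO.hnd
  intro a ha b hb h
  exact sim_inj V V2 V3 V4 (hO.hlt a ha) (hO.hlt b hb) h

end orbFix

end Cfsg.Agent.Lib.ChevTw8
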