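import Cfsg.Agent.Lib.ChevTw8
import Cfsg.Agent.Lib.ChevV4E6
import Cfsg.Agent.Lib.ChevFrob

/-! Twisted groups of type E6: the diagram automorphism and its orbits. -/

set_option autoImplicit false
set_option linter.unusedVariables false

namespace Cfsg.Agent.Lib.ChevTw9E6

open Cfsg.Lie Matrix Cfsg.Agent.Lib.ChevEngine Cfsg.Agent.Lib.ChevTab Cfsg.Agent.Lib.ChevMono
  Cfsg.Agent.Lib.ChevRel Cfsg.Agent.Lib.ChevValid Cfsg.Agent.Lib.ChevGL Cfsg.Agent.Lib.ChevGrad Cfsg.Agent.Lib.ChevL2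
  Cfsg.Agent.Lib.ChevU Cfsg.Agent.Lib.ChevU2 Cfsg.Agent.Lib.ChevU3 Cfsg.Agent.Lib.ChevDiag Cfsg.Agent.Lib.ChevV3
  Cfsg.Agent.Lib.ChevH Cfsg.Agent.Lib.ChevN Cfsg.Agent.Lib.ChevN2 Cfsg.Agent.Lib.ChevN3 Cfsg.Agent.Lib.ChevBN Cfsg.Agent.Lib.ChevBN2
  Cfsg.Agent.Lib.ChevV4 Cfsg.Agent.Lib.ChevSimp Cfsg.Agent.Lib.ChevSimp2 Cfsg.Agent.Lib.ChevPar Cfsg.Agent.Lib.ChevV5 Cfsg.Agent.Lib.ChevPar2
  Cfsg.Agent.Lib.ChevPar3 Cfsg.Agent.Lib.BNPair Cfsg.Agent.Lib.BNCount Cfsg.Agent.Lib.ChevW1 Cfsg.Agent.Lib.ChevW2 Cfsg.Agent.Lib.ChevTw1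
  Cfsg.Agent.Lib.ChevTw2 Cfsg.Agent.Lib.ChevTw3 Cfsg.Agent.Lib.ChevAut3 Cfsg.Agent.Lib.ChevTw4 Cfsg.Agent.Lib.ChevTw5 Cfsg.Agent.Lib.ChevW3
  Cfsg.Agent.Lib.ChevTw6 Cfsg.Agent.Lib.ChevTw7 Cfsg.Agent.Lib.ChevTw8 Cfsg.Agent.Lib.ChevTbE6 Cfsg.Agent.Lib.ChevV2E6

def rhoL : List ℕ := [0, 1, 2, 5, 16, 3, 6, 17, 8, 19, 22, 11, 26, 30, 33, 35, 4, 7, 18, 9, 20, 23, 10, 21, 24, 25, 12, 27, 31, 34, 13, 28, 32, 14, 29, 15, 56, 42, 57, 39, 43, 58, 37, 40, 44, 59, 46, 47, 50, 61, 48, 51, 62, 53, 64, 67, 36, 38, 41, 45, 60, 49, 52, 63, 54, 65, 68, 55, 66, 69, 70, 71]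
def rho' : List ℕ := [0, 1, 2, 5, 16, 3, 6, 17, 8, 19, 22, 11, 26, 30, 33, 35, 4, 7, 18, 9, 20, 23, 10, 21, 24, 25, 12, 27, 31, 34, 13, 28, 32, 14, 29, 15, 56, 42, 57, 39, 43, 58, 37, 40, 44, 59, 46, 47, 50, 61, 48, 51, 62, 53, 64, 67, 36, 38, 41, 45, 60, 49, 52, 63, 54, 65, 68, 55, 66, 69, 70, 71]
def piL : List ℕ := [5, 1, 4, 3, 2, 0]
def pi'L : List ℕ := [5, 1, 4, 3, 2, 0]
def epsL : List ℤ := [1, 1, 1, 1, -1, 1, 1, -1, 1, -1, -1, 1, -1, 1, -1, 1, -1, -1, 1, -1, 1, 1, -1, 1, 1, 1, -1, 1, -1, 1, 1, -1, 1, -1, 1, 1, 1, 1, -1, 1, -1, 1, 1, -1, 1, -1, 1, 1, 1, -1, 1, 1, -1, 1, -1, -1, 1, -1, 1, -1, 1, -1, -1, 1, -1, 1, 1, -1, 1, 1, 1, 1]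

def ρ (r : ℕ) : ℕ := rhoL.getD r 0
def ρi (r : ℕ) : ℕ := rho'.getD r 0
def π (r : ℕ) : ℕ := piL.getD r 0
def πi (r : ℕ) : ℕ := pi'L.getD r 0
def ε (r : ℕ) : ℤ := epsL.getD r 0

theorem graphOk : GraphOk T C ρ ρi π πi ε where
  ρ_lt := by decide +kernel
  ρ'_lt := by decide +kernel
  ρ'ρ := by decide +kernel
  ρρ' := by decide +kernel
  π_lt := by decide +kernel
  π'_lt := by decide +kernel
  π'π := by decide +kernel
  ππ' := by decide +kernel
  ε_pm := by decide +kernel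
  ε_neg := by decide +kernel
  ρ_neg := by decide +kernel
  ρ_pos := by decide +kernel
  ρ_sim := by decide +kernel
  ca := by decide +kernel
  co := by decide +kernel
  al := by decide +kernel
  coef := by decide +kernel

theorem hε : ∀ a < T.l, ε (T.sim a) = 1 := by decide +kernel

def idx0 (c : ℕ) : ℕ := ([0, 0, 0, 0, 0, 1] : List ℕ).getD c 0

theorem O0 : OrbOk T C π 0 2 [5, 0] idx0 where
  hk := by decide +kernel
  hlt := by decide +kernel
  hnd := by decide +kernel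
  hper := by decide +kernel
  hs := by decide +kernel
  hsort := by decide +kernel
  hch := by decide +kernel
  hPJ := by decide +kernel
  hidx := by decide +kernel
  hflip := by decide +kernel
  hflip' := by decide +kernel

def idx1 (c : ℕ) : ℕ := ([0, 0, 0, 0, 1, 0] : List ℕ).getD c 0

theorem O1 : OrbOk T C π 2 2 [4, 2] idx1 where
  hk := by decide +kernel
  hlt := by decide +kernel
  hnd := by decide +kernel
  hper := by decide +kernel
  hs := by decide +kernel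
  hsort := by decide +kernel
  hch := by decide +kernel
  hPJ := by decide +kernel
  hidx := by decide +kernel
  hflip := by decide +kernel
  hflip' := by decide +kernel

def idx2 (c : ℕ) : ℕ := ([0] : List ℕ).getD c 0

theorem O2 : OrbOk T C π 3 1 [3] idx2 where
  hk := by decide +kernel
  hlt := by decide +kernel
  hnd := by decide +kernel
  hper := by decide +kernel
  hs := by decide +kernel
  hsort := by decide +kernel
  hch := by decide +kernel
  hPJ := by decide +kernel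
  hidx := by decide +kernel
  hflip := by decide +kernel
  hflip' := by decide +kernel

def idx3 (c : ℕ) : ℕ := ([0] : List ℕ).getD c 0

theorem O3 : OrbOk T C π 1 1 [1] idx3 where
  hk := by decide +kernel
  hlt := by decide +kernel
  hnd := by decide +kernel
  hper := by decide +kernel
  hs := by decide +kernel
  hsort := by decide +kernel
  hch := by decide +kernel
  hPJ := by decide +kernel
  hidx := by decide +kernel
  hflip := by decide +kernel
  hflip' := by decide +kernel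

def iL (j : Fin 4) : ℕ := [0, 2, 3, 1].getD j.1 0
def kL (j : Fin 4) : ℕ := [2, 2, 1, 1].getD j.1 0
def LsL (j : Fin 4) : List ℕ := [[5, 0], [4, 2], [3], [1]].getD j.1 []
def idxL (j : Fin 4) : ℕ → ℕ := [idx0, idx1, idx2, idx3].getD j.1 (fun _ => 0)

theorem cover_aux : ∀ a < T.l, ∃ j, a ∈ chainL π (iL j) (kL j) := by decide +kernel
theorem disj_aux : ∀ a < T.l, ∀ j j', a ∈ chainL π (iL j) (kL j) → a ∈ chainL π (iL j') (kL j') → j = j' := by decide +kernel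

/-- The orbits of the diagram automorphism. -/
def Q : OrbData T C π (Fin 4) where
  i0 := iL
  k := kL
  Ls := LsL
  idx := idxL
  O := by
    intro j
    fin_cases j
    exacts [O0, O1, O2, O3]
  cover := cover_aux
  disj := by
    intro a j j' h1 h2
    have hO : OrbOk T C π (iL j) (kL j) (LsL j) (idxL j) := by
      fin_cases j
      exacts [O0, O1, O2, O3]
    exact disj_aux a (hO.hlt a h1) j j' h1 h2

end Cfsg.Agent.Lib.ChevTw9E6
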