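import Cfsg.Agent.Lib.ChevL2

/-! The unipotent subgroup `U`: unique expression as a product of root elements. -/

set_option autoImplicit false

namespace Cfsg.Agent.Lib.ChevU

open Cfsg.Lie Matrix Cfsg.Agent.Lib.ChevEngine Cfsg.Agent.Lib.ChevTab Cfsg.Agent.Lib.ChevMono
  Cfsg.Agent.Lib.ChevRel Cfsg.Agent.Lib.ChevValid Cfsg.Agent.Lib.ChevGL Cfsg.Agent.Lib.ChevGrad Cfsg.Agent.Lib.ChevL2

variable {D : ChevalleyDatum} {T : Tb} {C : Tc} {F : Type*} [Field F]
variable (V : Valid D T) (V2 : Valid2 D T C)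

/-- coefficients of a commutator term -/
theorem term_coef (V : Valid D T) (V2 : Valid2 D T C) {r s : ℕ} (hr : r < T.n) (hs : s < T.n) :
    ∀ c ∈ commTermsF T.ch r s, c.1 < T.n ∧ 1 ≤ c.2.2.1 ∧ 1 ≤ c.2.2.2 ∧
      ∀ i < T.l, C.coef c.1 i = c.2.2.1 * C.coef r i + c.2.2.2 * C.coef s i := by
  by_cases hsh : (T.ch r s).length ≤ 2 ∧ (T.ch s r).length ≤ 2
  · rw [commTermsF_short hsh.1 hsh.2]
    intro c hc
    have hA : ∀ k (hk : k < (T.ch r s).length), (T.ch r s)[k].1 < T.n ∧ ∀ i < T.l, C.coef (T.ch r s)[k].1 i = C.coef s i + ((k : ℤ) + 1) * C.coef r i :=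
      fun k hk => chain_of_check V.hT V2 hr hk
    have hB : ∀ k (hk : k < (T.ch s r).length), (T.ch s r)[k].1 < T.n ∧ ∀ i < T.l, C.coef (T.ch s r)[k].1 i = C.coef r i + ((k : ℤ) + 1) * C.coef s i :=
      fun k hk => chain_of_check V.hT V2 hs hk
    unfold commShort at hc
    rw [List.mem_append] at hc
    rcases hc with hc | hc
    · match hL : T.ch r s, hA with
      | [], _ => simp [hL] at hc
      | [e1], hA =>
        rw [hL] at hc
        simp only [List.mem_singleton] at hc
        subst hc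
        have := hA 0 (by simp)
        refine ⟨this.1, le_rfl, le_rfl, ?_⟩
        intro i hi
        have h2 := this.2 i hi
        simp only [List.getElem_cons_zero] at h2
        simp only [h2]
        push_cast
        ring
      | e1 :: e2 :: L, hA =>
        rw [hL] at hc
        simp only [List.mem_cons, List.not_mem_nil, or_false] at hc
        rcases hc with hc | hc
        · subst hc
          have := hA 0 (by simp)
          refine ⟨this.1, le_rfl, le_rfl, ?_⟩
          intro i hi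
          have h2 := this.2 i hi
          simp only [List.getElem_cons_zero] at h2
          simp only [h2]
          push_cast
          ring
        · subst hc
          have := hA 1 (by simp)
          refine ⟨this.1, by norm_num, le_rfl, ?_⟩
          intro i hi
          have h2 := this.2 i hi
          simp only [List.getElem_cons_succ, List.getElem_cons_zero] at h2
          simp only [h2]
          push_cast
          ring
    · match hL : T.ch s r, hB with
      | [], _ => simp [hL] at hc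
      | [_], _ => simp [hL] at hc
      | e1 :: e2 :: L, hB =>
        rw [hL] at hc
        simp only [List.mem_singleton] at hc
        subst hc
        have := hB 1 (by simp)
        refine ⟨this.1, le_rfl, by norm_num, ?_⟩
        intro i hi
        have h2 := this.2 i hi
        simp only [List.getElem_cons_succ, List.getElem_cons_zero] at h2
        simp only [h2]
        push_cast
        ring
  · have hne : T.ch r s ≠ [] := by
      intro e
      apply hsh
      have e2 : T.ch s r = [] := by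
        by_contra h4
        exact ch_symm V.hCF V.hT hs h4 e
      rw [e, e2]
      simp
    have h := V2.hCoef
    simp only [checkCoef, Bool.and_eq_true, Bool.or_eq_true, allBelow_iff, force_eq, allL_iff, decide_eq_true_eq] at h
    obtain ⟨e, he, rfl⟩ := ch_ne_nil_mem V.hT hne
    rcases h.2 r hr e he with h1 | h1
    · exact absurd ⟨by simpa using h1.1, by simpa using h1.2⟩ hsh
    · intro c hc
      have h2 := h1 c hc
      obtain ⟨⟨⟨h3, h4⟩, h5⟩, h6⟩ := h2
      exact ⟨by simpa using h3, Nat.succ_le_of_lt (by simpa using h4), Nat.succ_le_of_lt (by simpa using h5), h6⟩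

theorem isGrading_wt (V : Valid D T) (V2 : Valid2 D T C) : IsGrading T (wtOf T C) := by
  have h := isGrading_of V.hT V2 (fun i => (32 : ℤ) ^ (T.l - 1 - i))
  have e : wtOf T C = grOf T C (fun i => (32 : ℤ) ^ (T.l - 1 - i)) := funext wtOf_eq
  rw [e]; exact h

theorem isGrading_ht (V : Valid D T) (V2 : Valid2 D T C) : IsGrading T (htOf T C) := by
  have h := isGrading_of V.hT V2 (fun _ => 1)
  have e : htOf T C = grOf T C (fun _ => 1) := funext htOf_eq
  rw [e]; exact h

/-- Commutator terms have a weight which is the right combination. -/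
theorem term_gr (V : Valid D T) (V2 : Valid2 D T C) (g : ℕ → ℤ) {r s : ℕ} (hr : r < T.n) (hs : s < T.n) :
    ∀ c ∈ commTermsF T.ch r s, c.1 < T.n ∧ 1 ≤ c.2.2.1 ∧ 1 ≤ c.2.2.2 ∧
      grOf T C g c.1 = c.2.2.1 * grOf T C g r + c.2.2.2 * grOf T C g s := by
  intro c hc
  obtain ⟨h1, h2, h3, h4⟩ := term_coef V V2 hr hs c hc
  refine ⟨h1, h2, h3, ?_⟩
  unfold grOf
  rw [Finset.mul_sum, Finset.mul_sum, ← Finset.sum_add_distrib]
  apply Finset.sum_congr rfl
  intro i hi
  rw [h4 i (by simpa using hi)]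
  ring

theorem term_wt (V : Valid D T) (V2 : Valid2 D T C) {r s : ℕ} (hr : r < T.n) (hs : s < T.n) :
    ∀ c ∈ commTermsF T.ch r s, c.1 < T.n ∧ 1 ≤ c.2.2.1 ∧ 1 ≤ c.2.2.2 ∧
      wtOf T C c.1 = c.2.2.1 * wtOf T C r + c.2.2.2 * wtOf T C s := by
  intro c hc
  have := term_gr V V2 (fun i => (32 : ℤ) ^ (T.l - 1 - i)) hr hs c hc
  simp only [← wtOf_eq] at this
  exact this

/-- terms of the commutator of two positive roots lie above both -/
theorem term_above (V : Valid D T) (V2 : Valid2 D T C) {r s : ℕ} (hr : r < T.n) (hs : s < T.n) (hr2 : T.n / 2 ≤ r)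
    (hs2 : T.n / 2 ≤ s) : ∀ c ∈ commTermsF T.ch r s, c.1 < T.n ∧ r < c.1 ∧ s < c.1 := by
  intro c hc
  obtain ⟨h1, h2, h3, h4⟩ := term_wt V V2 hr hs c hc
  have p1 := wt_pos V2 hr2 hr
  have p2 := wt_pos V2 hs2 hs
  have a1 : (1 : ℤ) ≤ c.2.2.1 := by exact_mod_cast h2
  have a2 : (1 : ℤ) ≤ c.2.2.2 := by exact_mod_cast h3
  refine ⟨h1, ?_, ?_⟩
  · rw [← wt_lt_iff V2 hr h1, h4]
    nlinarith
  · rw [← wt_lt_iff V2 hs h1, h4]
    nlinarith

/-- subgroup generated by the root elements with index at least `j`. -/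
def uge (V : Valid D T) (F : Type*) [Field F] (j : ℕ) : Subgroup (GL D.Idx F) :=
  Subgroup.closure {g | ∃ (r : ℕ) (t : F), (j ≤ r ∧ r < D.nroots) ∧ g = xU V r t}

theorem uge_anti {j j' : ℕ} (h : j ≤ j') : uge V F j' ≤ uge V F j := by
  apply Subgroup.closure_mono
  rintro g ⟨r, t, ⟨h1, h2⟩, rfl⟩
  exact ⟨r, t, ⟨by omega, h2⟩, rfl⟩

theorem xU_mem_uge {j r : ℕ} (h1 : j ≤ r) (h2 : r < D.nroots) (t : F) : xU V r t ∈ uge V F j :=
  Subgroup.subset_closure ⟨r, t, ⟨h1, h2⟩, rfl⟩

theorem uge_top {j : ℕ} (h : D.nroots ≤ j) : uge V F j = ⊥ := by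
  unfold uge
  rw [Subgroup.closure_eq_bot_iff]
  rintro g ⟨r, t, ⟨h1, h2⟩, rfl⟩
  omega

theorem word_mem_uge {j : ℕ} (L : List (ℕ × F)) (hL : ∀ e ∈ L, j ≤ e.1 ∧ e.1 < D.nroots) : wordU V L ∈ uge V F j := by
  induction L with
  | nil => simp
  | cons e L ih =>
    rw [wordU_cons]
    have := hL e (by simp)
    exact Subgroup.mul_mem _ (xU_mem_uge V this.1 this.2 _) (ih fun x hx => hL x (List.mem_cons_of_mem _ hx))

/-- neg of a positive root is not positive -/
theorem neg_lt_half (V2 : Valid2 D T C) {r : ℕ} (hr2 : T.n / 2 ≤ r) (hr : r < T.n) : T.neg r < T.n / 2 := by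
  have := n_even V2
  show T.n - 1 - r < T.n / 2
  omega

/-- commutation of a generator past `x_j(t)` -/
theorem comm_word_mem (V : Valid D T) (V2 : Valid2 D T C) {j r : ℕ} (hj : T.n / 2 ≤ j) (hjr : j < r) (hr : r < T.n) (t u : F) :
    wordU V (D.commWord F j r t u) ∈ uge V F (r + 1) := by
  apply word_mem_uge
  rw [commWord_eq V.hT]
  intro e he
  obtain ⟨c, hc, rfl⟩ := List.mem_map.mp he
  obtain ⟨h1, _, h3⟩ := term_above V V2 (lt_trans hjr hr) hr hj (by omega) c hc
  exact ⟨h3, by rw [← V.hn]; exact h1⟩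

theorem uge_step_aux (V : Valid D T) (V2 : Valid2 D T C) {j r : ℕ} (hj : T.n / 2 ≤ j) (hr1 : j ≤ r) (hr2 : r < D.nroots) (u t : F)
    {v : GL D.Idx F} (hv : v ∈ uge V F (j + 1)) :
    ∃ t', ∃ v' ∈ uge V F (j + 1), xU V r u * (xU V j t * v) = xU V j t' * v' := by
  have hn := V.hn
  have hj2' : j < D.nroots := by omega
  rcases Nat.lt_or_eq_of_le hr1 with h | rfl
  · have hneg : r ≠ D.neg j := by
      rw [V.neg_eq hj2']
      have := neg_lt_half V2 hj (by omega)
      omega
    refine ⟨t, xU V r u * wordU V (D.commWord F j r t u) * v, ?_, ?_⟩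
    · refine Subgroup.mul_mem _ (Subgroup.mul_mem _ (xU_mem_uge V (by omega) hr2 u) ?_) hv
      exact uge_anti V (by omega) (comm_word_mem V V2 hj h (by omega) t u)
    · rw [← mul_assoc, cfU V hj2' hr2 (by omega) hneg t u]
      simp only [mul_assoc]
  · exact ⟨u + t, v, hv, by rw [← mul_assoc, xU_mul]⟩

theorem uge_step (V : Valid D T) (V2 : Valid2 D T C) {j : ℕ} (hj : T.n / 2 ≤ j) {g : GL D.Idx F} (hg : g ∈ uge V F j) :
    ∃ t, ∃ v ∈ uge V F (j + 1), g = xU V j t * v := by
  induction hg using Subgroup.closure_induction_left with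
  | one => exact ⟨0, 1, Subgroup.one_mem _, by simp⟩
  | mul_left y hy x _ ih =>
    obtain ⟨r, u, ⟨h1, h2⟩, rfl⟩ := hy
    obtain ⟨t, v, hv, rfl⟩ := ih
    exact uge_step_aux V V2 hj h1 h2 u t hv
  | inv_mul_cancel y hy x _ ih =>
    obtain ⟨r, u, ⟨h1, h2⟩, rfl⟩ := hy
    obtain ⟨t, v, hv, rfl⟩ := ih
    rw [xU_inv]
    exact uge_step_aux V V2 hj h1 h2 (-u) t hv

/-- The ordered product `x_j(f j) x_{j+1}(f (j+1)) ⋯` with `k` factors. -/
noncomputable def pfr (V : Valid D T) (f : ℕ → F) : ℕ → ℕ → GL D.Idx F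
  | 0, _ => 1
  | k + 1, j => xU V j (f j) * pfr V f k (j + 1)

theorem pfr_mem {f : ℕ → F} (k j : ℕ) (h : j + k ≤ D.nroots) : pfr V f k j ∈ uge V F j := by
  induction k generalizing j with
  | zero => exact Subgroup.one_mem _
  | succ k ih =>
    simp only [pfr]
    exact Subgroup.mul_mem _ (xU_mem_uge V le_rfl (by omega) _) (uge_anti V (by omega) (ih (j + 1) (by omega)))

theorem pfr_congr {f f' : ℕ → F} (k j : ℕ) (h : ∀ r, j ≤ r → r < j + k → f r = f' r) : pfr V f k j = pfr V f' k j := by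
  induction k generalizing j with
  | zero => rfl
  | succ k ih =>
    simp only [pfr]
    rw [h j le_rfl (by omega), ih (j + 1) (fun r h1 h2 => h r (by omega) (by omega))]

theorem pfr_word (f : ℕ → F) (k j : ℕ) : wordU V ((List.range' j k).map fun r => (r, f r)) = pfr V f k j := by
  induction k generalizing j with
  | zero => rfl
  | succ k ih =>
    simp only [List.range'_succ, List.map_cons, wordU_cons, pfr, ih]

theorem exists_pfr (V : Valid D T) (V2 : Valid2 D T C) (k j : ℕ) (hj : T.n / 2 ≤ j) (hk : j + k = D.nroots) {g : GL D.Idx F} (hg : g ∈ uge V F j) :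
    ∃ f : ℕ → F, g = pfr V f k j := by
  induction k generalizing j g with
  | zero =>
    rw [uge_top V (by omega)] at hg
    have : g = 1 := by simpa using hg
    exact ⟨fun _ => 0, this⟩
  | succ k ih =>
    obtain ⟨t, v, hv, rfl⟩ := uge_step V V2 hj hg
    obtain ⟨f, rfl⟩ := ih (j + 1) (by omega) (by omega) hv
    refine ⟨fun r => if r = j then t else f r, ?_⟩
    simp only [pfr, if_true]
    congr 1
    apply pfr_congr
    intro r h1 _
    rw [if_neg (by omega)]

/-- extraction of the parameter from a matrix entry -/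
theorem x_entry_h (V : Valid D T) {j : ℕ} (hj : j < D.nroots) (t : F) (i : Fin D.rank) (s : Fin D.nroots) :
    D.x F j t (Sum.inl i) (Sum.inr s) =
      if s.val = D.neg j ∧ s.val ≠ j then (((D.coroot.getD j #[]).getD i.val 0 : ℤ) : F) * t else 0 := by
  simp only [ChevalleyDatum.x, hj, dite_true, ChevalleyDatum.xMat, Matrix.of_apply]
  by_cases h1 : s = ⟨j, hj⟩
  · have h2 : s.val = j := by rw [h1]
    simp [h1]
  · have h2 : s.val ≠ j := fun e => h1 (Fin.ext e)
    rw [if_neg h1]
    by_cases h3 : s.val = D.negIdx.getD j 0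
    · rw [if_pos h3, if_pos ⟨h3, h2⟩]
    · rw [if_neg h3, if_neg]
      exact fun e => h3 e.1

theorem x_entry_hh (V : Valid D T) {j : ℕ} (hj : j < D.nroots) (t : F) (i m : Fin D.rank) :
    D.x F j t (Sum.inl i) (Sum.inl m) = if i = m then 1 else 0 := by
  simp [ChevalleyDatum.x, hj, ChevalleyDatum.xMat, Matrix.of_apply]

theorem extract (V : Valid D T) (V2 : Valid2 D T C) {j : ℕ} (hj : T.n / 2 ≤ j) (hj2 : j < T.n) (t : F) {v : GL D.Idx F}
    (hv : v ∈ uge V F (j + 1)) (i : Fin D.rank) :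
    ∀ (hneg : T.neg j < D.nroots),
    ((xU V j t * v : GL D.Idx F) : Matrix D.Idx D.Idx F) (Sum.inl i) (Sum.inr ⟨T.neg j, hneg⟩) =
      (((D.coroot.getD j #[]).getD i.val 0 : ℤ) : F) * t := by
  intro hneg
  have hn := V.hn
  have hj2' : j < D.nroots := by omega
  have hg := isGrading_wt V V2
  have htri : IsTri (wtOf T C) (wtOf T C j + 1) v := by
    refine closure_isTri V hg ?_ (fun r => j + 1 ≤ r ∧ r < D.nroots) ?_ hv
    · have := wt_pos V2 hj hj2; omega
    · intro r hr
      refine ⟨hr.2, ?_⟩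
      have : wtOf T C j < wtOf T C r := wt_strictMono V2 (by omega) (by omega)
      omega
  rw [Units.val_mul, Matrix.mul_apply, xU_val]
  have hneq : T.neg j ≠ j := V.neg_ne hj2
  rw [Finset.sum_eq_single (Sum.inr ⟨T.neg j, hneg⟩)]
  · rw [x_entry_h V hj2', if_pos ⟨by rw [V.neg_eq hj2'], hneq⟩]
    have : (v : Matrix D.Idx D.Idx F) (Sum.inr ⟨T.neg j, hneg⟩) (Sum.inr ⟨T.neg j, hneg⟩) = 1 := by
      by_contra hne
      have h2 : ((v : Matrix D.Idx D.Idx F) - 1) (Sum.inr ⟨T.neg j, hneg⟩) (Sum.inr ⟨T.neg j, hneg⟩) ≠ 0 := by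
        rw [Matrix.sub_apply, Matrix.one_apply_eq]
        exact sub_ne_zero.mpr hne
      have h3 := htri _ _ h2
      have := wt_pos V2 hj hj2
      omega
    rw [this, mul_one]
  · intro b _ hb
    rcases b with m | s
    · rw [x_entry_hh V hj2']
      by_cases him : i = m
      · subst him
        have : (v : Matrix D.Idx D.Idx F) (Sum.inl i) (Sum.inr ⟨T.neg j, hneg⟩) = 0 := by
          by_contra hne
          have h2 : ((v : Matrix D.Idx D.Idx F) - 1) (Sum.inl i) (Sum.inr ⟨T.neg j, hneg⟩) ≠ 0 := by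
            rw [Matrix.sub_apply, Matrix.one_apply_ne (by simp)]
            simpa using hne
          have h3 := htri _ _ h2
          simp only [gI, hg.neg j hj2] at h3
          omega
        rw [this, mul_zero]
      · rw [if_neg him, zero_mul]
    · rw [x_entry_h V hj2', if_neg, zero_mul]
      rintro ⟨h1, _⟩
      apply hb
      congr 2
      apply Fin.ext
      rw [h1, V.neg_eq hj2']
  · simp

theorem exists_coroot_ne_zero (V : Valid D T) (V2 : Valid2 D T C) {j : ℕ} (hj2 : j < T.n) :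
    ∃ i : Fin D.rank, (((D.coroot.getD j #[]).getD i.val 0 : ℤ) : F) ≠ 0 := by
  obtain ⟨i, hi, h⟩ := exists_co_ne_zero (F := F) (pos_facts V2 hj2).2.2
  refine ⟨⟨i, by rw [← V.hl]; exact hi⟩, ?_⟩
  rw [V.hT.hco j hj2 i hi]
  exact h

theorem pfr_inj (V : Valid D T) (V2 : Valid2 D T C) (k j : ℕ) (hj : T.n / 2 ≤ j) (hk : j + k = D.nroots) {f f' : ℕ → F}
    (h : pfr V f k j = pfr V f' k j) : ∀ r, j ≤ r → r < j + k → f r = f' r := by
  induction k generalizing j with
  | zero => intro r h1 h2; omega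
  | succ k ih =>
    have hn := V.hn
    have hj2 : j < T.n := by omega
    have hneg : T.neg j < D.nroots := by
      have := V.neg_lt hj2; omega
    simp only [pfr] at h
    obtain ⟨i, hi⟩ := exists_coroot_ne_zero (F := F) V V2 hj2
    have e1 := extract V V2 hj hj2 (f j) (uge_anti V (le_refl _) (pfr_mem V k (j + 1) (by omega) (f := f))) i hneg
    have e2 := extract V V2 hj hj2 (f' j) (uge_anti V (le_refl _) (pfr_mem V k (j + 1) (by omega) (f := f'))) i hneg
    rw [h] at e1
    have e3 : f j = f' j := mul_left_cancel₀ hi (e1.symm.trans e2)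
    rw [e3] at h
    have h4 := mul_left_cancel h
    have h5 := ih (j + 1) (by omega) (by omega) h4
    intro r h1 h2
    rcases Nat.lt_or_eq_of_le h1 with h6 | h6
    · exact h5 r (by omega) (by omega)
    · subst h6; exact e3

end Cfsg.Agent.Lib.ChevU
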