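import Cfsg.Agent.Lib.ChevU

/-! The unipotent subgroup `U`: order, nilpotency. -/

set_option autoImplicit false

namespace Cfsg.Agent.Lib.ChevU2

open Cfsg.Lie Matrix Cfsg.Agent.Lib.ChevEngine Cfsg.Agent.Lib.ChevTab Cfsg.Agent.Lib.ChevMono
  Cfsg.Agent.Lib.ChevRel Cfsg.Agent.Lib.ChevValid Cfsg.Agent.Lib.ChevGL Cfsg.Agent.Lib.ChevGrad Cfsg.Agent.Lib.ChevL2
  Cfsg.Agent.Lib.ChevU

variable {D : ChevalleyDatum} {T : Tb} {C : Tc} {F : Type*} [Field F]
variable (V : Valid D T) (V2 : Valid2 D T C)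
include V V2

theorem isPos_iff (r : ℕ) : D.IsPosRoot r ↔ T.n / 2 ≤ r ∧ r < D.nroots := by
  have hn := V.hn
  constructor
  · intro h
    have h1 : r < D.nroots := h.1
    exact ⟨(pos_facts V2 (by omega)).1.mp h, h1⟩
  · rintro ⟨h1, h2⟩
    exact (pos_facts V2 (by omega)).1.mpr h1

theorem isNeg_iff (r : ℕ) : D.IsNegRoot r ↔ r < T.n / 2 := by
  have hn := V.hn
  have h0 := n_even V2
  constructor
  · intro h
    have h1 : r < D.nroots := h.1
    exact (pos_facts V2 (by omega)).2.1.mp h
  · intro h1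
    exact (pos_facts V2 (by omega)).2.1.mpr h1

theorem posUnipotent_eq_uge : D.posUnipotent F = uge V F (T.n / 2) := by
  rw [posUnipotent_eq V]
  unfold uge
  congr 1
  ext g
  constructor
  · rintro ⟨r, t, hr, rfl⟩
    exact ⟨r, t, (isPos_iff V V2 r).mp hr, rfl⟩
  · rintro ⟨r, t, hr, rfl⟩
    exact ⟨r, t, (isPos_iff V V2 r).mpr hr, rfl⟩

theorem posRoots_eq : D.posRoots = List.range' (T.n / 2) (T.n / 2) := by
  have hn := V.hn
  have h0 := n_even V2
  unfold ChevalleyDatum.posRoots
  have e : List.range D.nroots = List.range' 0 (T.n / 2) ++ List.range' (T.n / 2) (T.n / 2) := by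
    have h1 := @List.range'_append_1 0 (T.n / 2) (T.n / 2)
    rw [Nat.zero_add] at h1
    rw [h1, List.range_eq_range']
    congr 1
    omega
  rw [e, List.filter_append, List.filter_eq_nil_iff.mpr, List.filter_eq_self.mpr, List.nil_append]
  · intro r hr
    have hr' := List.mem_range'_1.mp hr
    simpa using (isPos_iff V V2 r).mpr ⟨hr'.1, by omega⟩
  · intro r hr
    have hr' := List.mem_range'_1.mp hr
    simp only [decide_eq_true_eq]
    rw [isPos_iff V V2 r]
    omega

theorem npos_eq : D.nroots / 2 = T.n / 2 := by rw [V.hn]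

theorem wordMat_posRoots (f : ℕ → F) :
    D.wordMat F (D.posRoots.map fun r => (r, f r)) = (pfr V f (T.n / 2) (T.n / 2) : GL D.Idx F) := by
  rw [posRoots_eq V V2, ← wordU_val V, pfr_word]

theorem half_add : T.n / 2 + T.n / 2 = D.nroots := by
  have h0 := n_even V2
  have := V.hn
  omega

/-- The statement on unique expressions. -/
theorem unique_expr :
    (∀ g : GL D.Idx F, g ∈ D.posUnipotent F →
      ∃! t : ℕ → F, (∀ r, ¬ D.IsPosRoot r → t r = 0) ∧
        (g : Matrix D.Idx D.Idx F) = D.wordMat F (D.posRoots.map fun r => (r, t r))) ∧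
    (∀ t : ℕ → F, ∃ g : GL D.Idx F, g ∈ D.posUnipotent F ∧
      (g : Matrix D.Idx D.Idx F) = D.wordMat F (D.posRoots.map fun r => (r, t r))) := by
  have hsum := half_add V V2
  constructor
  · intro g hg
    rw [posUnipotent_eq_uge V V2] at hg
    obtain ⟨f, rfl⟩ := exists_pfr V V2 _ _ le_rfl hsum hg
    refine ⟨fun r => if D.IsPosRoot r then f r else 0, ⟨?_, ?_⟩, ?_⟩
    · intro r hr
      simp [hr]
    · rw [wordMat_posRoots V V2]
      have : pfr V f (T.n / 2) (T.n / 2) = pfr V (fun r => if D.IsPosRoot r then f r else 0) (T.n / 2) (T.n / 2) := by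
        apply pfr_congr
        intro r h1 h2
        rw [if_pos ((isPos_iff V V2 r).mpr ⟨h1, by omega⟩)]
      rw [this]
    · rintro t ⟨h1, h2⟩
      rw [wordMat_posRoots V V2] at h2
      have h3 := pfr_inj V V2 _ _ le_rfl hsum (Units.ext h2)
      funext r
      by_cases hr : D.IsPosRoot r
      · rw [if_pos hr]
        have := (isPos_iff V V2 r).mp hr
        exact (h3 r this.1 (by omega)).symm
      · rw [if_neg hr, h1 r hr]
  · intro t
    refine ⟨pfr V t (T.n / 2) (T.n / 2), ?_, (wordMat_posRoots V V2 t).symm⟩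
    rw [posUnipotent_eq_uge V V2]
    exact pfr_mem V _ _ (by omega)

/-- The order of `U`. -/
theorem card_U [Fintype F] : Nat.card (D.posUnipotent F) = Fintype.card F ^ (D.nroots / 2) := by
  have hsum := half_add V V2
  have e : Nat.card (D.posUnipotent F) = Nat.card (Fin (T.n / 2) → F) := by
    symm
    apply Nat.card_congr
    refine Equiv.ofBijective (fun x => ⟨pfr V (fun r => if h : T.n / 2 ≤ r ∧ r < T.n / 2 + T.n / 2 then x ⟨r - T.n / 2, by omega⟩ else 0) (T.n / 2) (T.n / 2), ?_⟩) ⟨?_, ?_⟩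
    · rw [posUnipotent_eq_uge V V2]
      exact pfr_mem V _ _ (by omega)
    · intro x y hxy
      have h1 := congrArg Subtype.val hxy
      have h2 := pfr_inj V V2 _ _ le_rfl hsum h1
      funext i
      have h3 := h2 (T.n / 2 + i.val) (by omega) (by have := i.isLt; omega)
      have hi := i.isLt
      have hc : T.n / 2 ≤ T.n / 2 + i.val ∧ T.n / 2 + i.val < T.n / 2 + T.n / 2 := ⟨by omega, by omega⟩
      simp only [dif_pos hc] at h3
      convert h3 using 2 <;> exact Fin.ext (by simp)
    · rintro ⟨g, hg⟩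
      have hg' := hg
      rw [posUnipotent_eq_uge V V2] at hg'
      obtain ⟨f, rfl⟩ := exists_pfr V V2 _ _ le_rfl hsum hg'
      refine ⟨fun i => f (T.n / 2 + i.val), ?_⟩
      apply Subtype.ext
      apply pfr_congr
      intro r h1 h2
      have hc : T.n / 2 ≤ r ∧ r < T.n / 2 + T.n / 2 := ⟨h1, h2⟩
      simp only [dif_pos hc]
      congr 1
      omega
  rw [e, npos_eq V V2]
  simp [Nat.card_eq_fintype_card]

end Cfsg.Agent.Lib.ChevU2
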