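import Cfsg.Agent.Lib.ChevU2

/-! The unipotent subgroup `U`: unipotence and nilpotency. -/

set_option autoImplicit false

namespace Cfsg.Agent.Lib.ChevU3

open Cfsg.Lie Matrix Cfsg.Agent.Lib.ChevEngine Cfsg.Agent.Lib.ChevTab Cfsg.Agent.Lib.ChevMono
  Cfsg.Agent.Lib.ChevRel Cfsg.Agent.Lib.ChevValid Cfsg.Agent.Lib.ChevGL Cfsg.Agent.Lib.ChevGrad Cfsg.Agent.Lib.ChevL2
  Cfsg.Agent.Lib.ChevU Cfsg.Agent.Lib.ChevU2

variable {D : ChevalleyDatum} {T : Tb} {C : Tc} {F : Type*} [Field F]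
variable (V : Valid D T) (V2 : Valid2 D T C)
include V V2

/-- Elements of `U` raise a grading which is positive on the positive roots -/
theorem U_isTri {gr : ℕ → ℤ} (hg : IsGrading T gr) (hp : ∀ r, T.n / 2 ≤ r → r < T.n → 1 ≤ gr r)
    {g : GL D.Idx F} (h : g ∈ D.posUnipotent F) : IsTri gr 1 g := by
  rw [posUnipotent_eq V] at h
  refine closure_isTri V hg (by omega) _ ?_ h
  intro r hr
  have h1 := (isPos_iff V V2 r).mp hr
  exact ⟨h1.2, hp r h1.1 (by rw [V.hn]; exact h1.2)⟩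

theorem wt_one {r : ℕ} (h1 : T.n / 2 ≤ r) (h2 : r < T.n) : 1 ≤ wtOf T C r := wt_pos V2 h1 h2

theorem wt_neg {r : ℕ} (h1 : r < T.n / 2) : wtOf T C r ≤ -1 := by
  have h0 := n_even V2
  have hr : r < T.n := by omega
  have h2 := (isGrading_wt V V2).neg r hr
  have h3 : T.n / 2 ≤ T.neg r := by
    show T.n / 2 ≤ T.n - 1 - r
    omega
  have h4 := wt_one V V2 h3 (V.neg_lt hr)
  omega

omit V V2 in
theorem inv_aux {R : Type*} [Ring R] (a' a : R) (h : a' * a = 1) : a' - 1 = -(a' - 1) * (a - 1) - (a - 1) := by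
  have e : -(a' - 1) * (a - 1) - (a - 1) = -(a' * a) + a' := by noncomm_ring
  rw [e, h]
  abel

omit V V2 in
theorem comm_aux {R : Type*} [Ring R] (X G Z : R) (h : G * X * Z = 1) :
    X * G * Z - 1 = ((X - 1) * (G - 1) - (G - 1) * (X - 1)) * ((Z - 1) + 1) := by
  have e : ((X - 1) * (G - 1) - (G - 1) * (X - 1)) * ((Z - 1) + 1) = X * G * Z - G * X * Z := by noncomm_ring
  rw [e, h]

/-- The position function -/
def posF (N : ℕ) (s : ℕ) : ℤ := if s < N then (s : ℤ) - N else (s : ℤ) - N + 1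

omit V V2 in
theorem posF_lt {N s s' : ℕ} (h : s < s') : posF N s + 1 ≤ posF N s' := by
  unfold posF
  split_ifs <;> omega

theorem raises_posF {A : Matrix D.Idx D.Idx F} (h : Raises (wtOf T C) 1 A) : Raises (posF (T.n / 2)) 1 A := by
  intro a b hab
  have h1 := h a b hab
  have hn := V.hn
  rcases a with i | w <;> rcases b with j | s
  · simp only [gI] at h1; omega
  · simp only [gI] at h1 ⊢
    have hs : s.val < T.n := by rw [hn]; exact s.isLt
    have : s.val < T.n / 2 := by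
      by_contra h3
      have := wt_one V V2 (by omega) hs
      omega
    unfold posF
    rw [if_pos this]
    omega
  · simp only [gI] at h1 ⊢
    have hs : w.val < T.n := by rw [hn]; exact w.isLt
    have : ¬ w.val < T.n / 2 := by
      intro h3
      have := wt_neg V V2 h3
      omega
    unfold posF
    rw [if_neg this]
    omega
  · simp only [gI] at h1 ⊢
    have hs : s.val < T.n := by rw [hn]; exact s.isLt
    have hw : w.val < T.n := by rw [hn]; exact w.isLt
    apply posF_lt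
    exact (wt_lt_iff V2 hs hw).mp (by omega)

/-- Unipotence: `(g - 1)^(rank + nroots) = 0` -/
theorem unipotent {g : GL D.Idx F} (h : g ∈ D.posUnipotent F) :
    ((g : Matrix D.Idx D.Idx F) - 1) ^ (D.rank + D.nroots) = 0 := by
  have h1 := U_isTri V V2 (isGrading_wt V V2) (fun r h2 h3 => wt_one V V2 h2 h3) h
  have h2 := raises_posF V V2 h1
  have hl := V2.hL
  have hn := V.hn
  have hrl := V.hl
  have h0 := n_even V2
  have h3 := Raises.pow h2 (by omega) (D.rank + D.nroots) (by omega)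
  ext a b
  by_contra hab
  have h4 := h3 a b hab
  have bd : ∀ c : D.Idx, -((T.n / 2 : ℕ) : ℤ) ≤ gI D (posF (T.n / 2)) c ∧ gI D (posF (T.n / 2)) c ≤ ((T.n / 2 : ℕ) : ℤ) := by
    intro c
    rcases c with i | w
    · simp only [gI]; omega
    · simp only [gI, posF]
      have := w.isLt
      split_ifs <;> omega
  have h5 := bd a
  have h6 := bd b
  push_cast at h4
  omega

/-- The subgroup of `U` of elements raising the height by at least `m + 1`. -/
noncomputable def gam (V : Valid D T) (V2 : Valid2 D T C) (F : Type*) [Field F] (m : ℕ) : Subgroup (D.posUnipotent F) where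
  carrier := {g | IsTri (htOf T C) ((m : ℤ) + 1) (g : GL D.Idx F)}
  mul_mem' := by
    intro a b ha hb
    exact IsTri.mul (by omega) ha hb
  one_mem' := isTri_one _
  inv_mem' := by
    intro a ha
    have h1 : IsTri (htOf T C) 1 ((a⁻¹ : D.posUnipotent F) : GL D.Idx F) :=
      U_isTri V V2 (isGrading_ht V V2) (fun r h2 h3 => (ht_pos V2 h2 h3).1) (a⁻¹).2
    show Raises _ _ _
    have e := inv_aux ((((a⁻¹ : D.posUnipotent F) : GL D.Idx F)) : Matrix D.Idx D.Idx F) (((a : GL D.Idx F)) : Matrix D.Idx D.Idx F)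
      (by rw [← Units.val_mul, ← Subgroup.coe_mul]; simp)
    rw [e]
    have ha' : Raises (htOf T C) ((m : ℤ) + 1) (((a : GL D.Idx F) : Matrix D.Idx D.Idx F) - 1) := ha
    have h3 := (Raises.neg h1).mul ha'
    exact (h3.mono (by omega)).sub ha'

theorem gam_comm (m : ℕ) (x : D.posUnipotent F) (hx : x ∈ gam V V2 F m) (g : D.posUnipotent F) :
    x * g * x⁻¹ * g⁻¹ ∈ gam V V2 F (m + 1) := by
  show Raises _ _ _
  have hE : IsTri (htOf T C) 1 (((x⁻¹ * g⁻¹ : D.posUnipotent F)) : GL D.Idx F) :=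
    U_isTri V V2 (isGrading_ht V V2) (fun r h2 h3 => (ht_pos V2 h2 h3).1) (x⁻¹ * g⁻¹).2
  have hC : IsTri (htOf T C) 1 ((g : D.posUnipotent F) : GL D.Idx F) :=
    U_isTri V V2 (isGrading_ht V V2) (fun r h2 h3 => (ht_pos V2 h2 h3).1) g.2
  have hA : Raises (htOf T C) ((m : ℤ) + 1) (((x : GL D.Idx F) : Matrix D.Idx D.Idx F) - 1) := hx
  have e := comm_aux ((x : GL D.Idx F) : Matrix D.Idx D.Idx F) (((g : D.posUnipotent F) : GL D.Idx F) : Matrix D.Idx D.Idx F)
    (((x⁻¹ * g⁻¹ : D.posUnipotent F)) : GL D.Idx F).val (by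
      rw [← Units.val_mul, ← Units.val_mul, ← Subgroup.coe_mul, ← Subgroup.coe_mul]
      have : g * x * (x⁻¹ * g⁻¹) = 1 := by group
      rw [this]
      simp)
  have e2 : (((x * g * x⁻¹ * g⁻¹ : D.posUnipotent F) : GL D.Idx F) : Matrix D.Idx D.Idx F) - 1 =
      ((x : GL D.Idx F) : Matrix D.Idx D.Idx F) * (((g : D.posUnipotent F) : GL D.Idx F) : Matrix D.Idx D.Idx F) *
       (((x⁻¹ * g⁻¹ : D.posUnipotent F)) : GL D.Idx F).val - 1 := by
    congr 1
    rw [← Units.val_mul, ← Units.val_mul, ← Subgroup.coe_mul, ← Subgroup.coe_mul]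
    congr 2
    group
  rw [e2, e]
  have h1 := hA.mul hC
  have h2 := Raises.mul hC hA
  rw [show (1 : ℤ) + ((m : ℤ) + 1) = (m : ℤ) + 1 + 1 by ring] at h2
  have h3 := h1.sub h2
  have h4 := h3.mul hE
  rw [mul_add, mul_one, show ((m + 1 : ℕ) : ℤ) + 1 = (m : ℤ) + 1 + 1 by push_cast; ring]
  exact (h4.mono (by omega)).add h3

/-- `U` is nilpotent. -/
theorem U_nilpotent : Group.IsNilpotent (D.posUnipotent F) := by
  rw [Subgroup.nilpotent_iff_finite_descending_central_series]
  obtain ⟨K, hK⟩ := (Finset.univ.image fun a : D.Idx => |gI D (htOf T C) a|).exists_le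
  have hK' : ∀ a : D.Idx, |gI D (htOf T C) a| ≤ K := fun a => hK _ (Finset.mem_image_of_mem _ (Finset.mem_univ a))
  refine ⟨(2 * K).toNat, gam V V2 F, ⟨?_, ?_⟩, ?_⟩
  · rw [eq_top_iff]
    rintro g -
    show IsTri _ _ _
    have := U_isTri V V2 (F := F) (isGrading_ht V V2) (fun r h2 h3 => (ht_pos V2 h2 h3).1) g.2
    simpa using this
  · intro x n hx g
    exact gam_comm V V2 n x hx g
  · rw [eq_bot_iff]
    intro g hg
    rw [Subgroup.mem_bot]
    apply Subtype.ext
    apply Units.ext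
    have hg' : Raises _ _ _ := hg
    rw [Subgroup.coe_one, Units.val_one]
    rw [← sub_eq_zero]
    ext a b
    by_contra hab
    have h1 := hg' a b hab
    have h2 := abs_le.mp (hK' a)
    have h3 := abs_le.mp (hK' b)
    have h4 : 0 ≤ K := le_trans (abs_nonneg _) (hK' a)
    have h5 : (((2 * K).toNat : ℕ) : ℤ) = 2 * K := Int.toNat_of_nonneg (by omega)
    omega

end Cfsg.Agent.Lib.ChevU3
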