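import Cfsg.Agent.Lib.ChevL2
import Cfsg.Agent.Lib.ChevValidE8

/-! Root coefficient tables for type E8. -/

set_option autoImplicit false

namespace Cfsg.Agent.Lib.ChevV2E8

open Cfsg.Lie Cfsg.Agent.Lib.ChevTab Cfsg.Agent.Lib.ChevL2 Cfsg.Agent.Lib.ChevTbE8

def coefRows : List ℕ := [0x65432456, 0x75432456, 0x76432456, 0x76532456, 0x76542456, 0x76543456, 0x76543556, 0x76543466, 0x76543566, 0x76544566, 0x76554566, 0x76654566, 0x77654566, 0x87654566, 0x76543557, 0x76543567, 0x76544567, 0x76554567, 0x76654567, 0x77654567, 0x87654567, 0x76544667, 0x76554667, 0x76654667, 0x77654667, 0x87654667, 0x76555667, 0x76655667, 0x77655667, 0x87655667, 0x76665667, 0x77665667, 0x87665667, 0x77765667, 0x87765667, 0x88765667, 0x76555677, 0x76655677, 0x77655677, 0x87655677, 0x76665677, 0x77665677, 0x87665677, 0x77765677, 0x87765677, 0x88765677, 0x76666677, 0x77666677, 0x87666677, 0x77766677, 0x87766677, 0x88766677, 0x77776677, 0x87776677, 0x88776677, 0x88876677,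 0x76666777, 0x77666777, 0x87666777, 0x77766777, 0x87766777, 0x88766777, 0x77776777, 0x87776777, 0x88776777, 0x88876777, 0x77777777, 0x87777777, 0x88777777, 0x88877777, 0x88887777, 0x77777787, 0x87777787, 0x88777787, 0x88877787, 0x88887787, 0x88888787, 0x88888887, 0x76666778, 0x77666778, 0x87666778, 0x77766778, 0x87766778, 0x88766778, 0x77776778, 0x87776778, 0x88776778, 0x88876778, 0x77777778, 0x87777778, 0x88777778, 0x88877778, 0x88887778, 0x77777878, 0x87777878, 0x88777878, 0x88877878, 0x88887878, 0x88888878, 0x77777788, 0x87777788, 0x88777788, 0x88877788, 0x88887788, 0x88888788, 0x77777888, 0x87777888, 0x88777888, 0x88877888, 0x88887888, 0x77778888, 0x87778888, 0x88778888, 0x88878888, 0x77788888, 0x87788888, 0x88788888, 0x77888888, 0x87888888, 0x78888888, 0x98888888, 0x89888888, 0x99888888, 0x88988888, 0x89988888, 0x99988888, 0x88898888, 0x88998888, 0x89998888, 0x99998888, 0x88889888, 0x88899888, 0x88999888, 0x89999888, 0x99999888, 0x88888988,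 0x88889988, 0x88899988, 0x88999988, 0x89999988, 0x99999988, 0x88888898, 0x88889898, 0x88899898, 0x88999898, 0x89999898, 0x99999898, 0x88889998, 0x88899998, 0x88999998, 0x89999998, 0x99999998, 0x8889a998, 0x8899a998, 0x8999a998, 0x9999a998, 0x889aa998, 0x899aa998, 0x999aa998, 0x89aaa998, 0x99aaa998, 0x9aaaa998, 0x88888889, 0x88888989, 0x88889989, 0x88899989, 0x88999989, 0x89999989, 0x99999989, 0x88889999, 0x88899999, 0x88999999, 0x89999999, 0x99999999, 0x8889a999, 0x8899a999, 0x8999a999, 0x9999a999, 0x889aa999, 0x899aa999, 0x999aa999, 0x89aaa999, 0x99aaa999, 0x9aaaa999, 0x8889aa99, 0x8899aa99, 0x8999aa99, 0x9999aa99, 0x889aaa99, 0x899aaa99, 0x999aaa99, 0x89aaaa99, 0x99aaaa99, 0x9aaaaa99, 0x889aba99, 0x899aba99, 0x999aba99, 0x89aaba99, 0x99aaba99, 0x9aaaba99, 0x89abba99, 0x99abba99, 0x9aabba99, 0x9abbba99, 0x889abaa9, 0x899abaa9, 0x999abaa9, 0x89aabaa9, 0x99aabaa9, 0x9aaabaa9, 0x89abbaa9, 0x99abbaa9, 0x9aabbaa9, 0x9abbbaa9, 0x89abcaa9, 0x99abcaa9,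 0x9aabcaa9, 0x9abbcaa9, 0x9abccaa9, 0x89abcba9, 0x99abcba9, 0x9aabcba9, 0x9abbcba9, 0x9abccba9, 0x9abcdba9, 0x9abcdbb9, 0x89abcbaa, 0x99abcbaa, 0x9aabcbaa, 0x9abbcbaa, 0x9abccbaa, 0x9abcdbaa, 0x9abcdcaa, 0x9abcdbba, 0x9abcdcba, 0x9abcecba, 0x9abdecba, 0x9acdecba, 0x9bcdecba, 0xabcdecba]

noncomputable def C : Tc := mkTc coefRows

theorem chk_coef : checkCoef chevE8 T C = true := by decide +kernel
theorem chk_pos : checkPos chevE8 T C = true := by decide +kernel
theorem chk_eps : (allBelow T.l fun i => decide (T.eps i (T.sim i) = -1)) = true := by decide +kernel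

theorem chk_l : 0 < T.l := by decide +kernel

theorem valid2 : Valid2 chevE8 T C := ⟨chk_coef, chk_pos, chk_eps, chk_l⟩

end Cfsg.Agent.Lib.ChevV2E8
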