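import Cfsg.Agent.Lib.ChevDiag

/-! A third set of table checks: reflections and root coefficients, descent to fundamental roots. -/

set_option autoImplicit false

namespace Cfsg.Agent.Lib.ChevV3

open Cfsg.Lie Matrix Cfsg.Agent.Lib.ChevEngine Cfsg.Agent.Lib.ChevTab Cfsg.Agent.Lib.ChevMono
  Cfsg.Agent.Lib.ChevRel Cfsg.Agent.Lib.ChevValid Cfsg.Agent.Lib.ChevGL Cfsg.Agent.Lib.ChevGrad Cfsg.Agent.Lib.ChevL2
  Cfsg.Agent.Lib.ChevU Cfsg.Agent.Lib.ChevU2 Cfsg.Agent.Lib.ChevU3 Cfsg.Agent.Lib.ChevDiag

/-- The descent tables. -/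
structure Tc3 where
  dep : ℕ → ℕ
  stp : ℕ → ℕ

noncomputable def mkTc3 (depRow stpRow : ℕ) : Tc3 :=
  ⟨fun r => getBits 8 255 depRow r, fun r => getBits 8 255 stpRow r⟩

/-- root reflection on the coefficients -/
noncomputable def checkCoefRefl (T : Tb) (C : Tc) : Bool :=
  allBelow T.l fun i => force i fun i' => allBelow T.n fun s => force s fun s' =>
    allBelow T.l fun j =>
      decide (C.coef (T.refl i' s') j = C.coef s' j - bif Nat.beq j i' then T.ca i' s' else 0)

noncomputable def checkSimple (T : Tb) : Bool :=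
  allBelow T.l fun i => force i fun i' =>
    decide (T.ca i' (T.sim i') = 2) && allBelow T.l fun j =>
      decide (T.co (T.sim i') j = bif Nat.beq i' j then 1 else 0)

noncomputable def checkCaLin (T : Tb) (C : Tc) : Bool :=
  allBelow T.l fun m => force m fun m' => allBelow T.n fun s => force s fun s' =>
    decide (T.ca m' s' = sumBelow T.l fun k => C.coef s' k * T.ca m' (T.sim k))

noncomputable def checkDescent (T : Tb) (X : Tc3) : Bool :=
  allBelow T.n fun r => force r fun r' => Nat.blt (X.stp r') T.l &&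
    ((Nat.beq (X.dep r') 0 && Nat.beq (T.sim (X.stp r')) r') ||
      Nat.blt (X.dep (T.refl (X.stp r') r')) (X.dep r'))

noncomputable def checkPosPerm (T : Tb) : Bool :=
  allBelow T.l fun i => force i fun i' => allBelow T.n fun r => force r fun r' =>
    Nat.blt r' (T.n / 2) || Nat.beq r' (T.sim i') || Nat.ble (T.n / 2) (T.refl i' r')

structure Valid3 (T : Tb) (C : Tc) (X : Tc3) : Prop where
  hCR : checkCoefRefl T C = true
  hS : checkSimple T = true
  hCL : checkCaLin T C = true
  hDs : checkDescent T X = true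
  hPP : checkPosPerm T = true

variable {D : ChevalleyDatum} {T : Tb} {C : Tc} {X : Tc3} {F : Type*} [Field F]

theorem Valid3.coef_refl (V3 : Valid3 T C X) {i s j : ℕ} (hi : i < T.l) (hs : s < T.n) (hj : j < T.l) :
    C.coef (T.refl i s) j = C.coef s j - if j = i then T.ca i s else 0 := by
  have h := V3.hCR
  simp only [checkCoefRefl, allBelow_iff, force_eq, decide_eq_true_eq, Bool.cond_eq_ite, beq_dec] at h
  simpa using h i hi s hs j hj

theorem Valid3.ca_sim (V3 : Valid3 T C X) {i : ℕ} (hi : i < T.l) : T.ca i (T.sim i) = 2 := by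
  have h := V3.hS
  simp only [checkSimple, allBelow_iff, force_eq, Bool.and_eq_true, decide_eq_true_eq] at h
  exact (h i hi).1

theorem Valid3.co_sim (V3 : Valid3 T C X) {i j : ℕ} (hi : i < T.l) (hj : j < T.l) : T.co (T.sim i) j = if i = j then 1 else 0 := by
  have h := V3.hS
  simp only [checkSimple, allBelow_iff, force_eq, Bool.and_eq_true, decide_eq_true_eq, Bool.cond_eq_ite, beq_dec] at h
  simpa using (h i hi).2 j hj

theorem Valid3.ca_lin (V3 : Valid3 T C X) {m s : ℕ} (hm : m < T.l) (hs : s < T.n) :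
    T.ca m s = ∑ k ∈ Finset.range T.l, C.coef s k * T.ca m (T.sim k) := by
  have h := V3.hCL
  simp only [checkCaLin, allBelow_iff, force_eq, decide_eq_true_eq] at h
  rw [h m hm s hs, sumBelow_eq]

theorem Valid3.pos_perm (V3 : Valid3 T C X) {i r : ℕ} (hi : i < T.l) (hr : r < T.n) (h1 : T.n / 2 ≤ r) (h2 : r ≠ T.sim i) :
    T.n / 2 ≤ T.refl i r := by
  have h := V3.hPP
  simp only [checkPosPerm, allBelow_iff, force_eq, Bool.or_eq_true] at h
  rcases h i hi r hr with (h3 | h3) | h3
  · have : r < T.n / 2 := by simpa using h3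
    omega
  · exact absurd (by simpa using h3) h2
  · simpa using h3

/-- Reachability -/
theorem Valid3.reach (V : Valid D T) (V3 : Valid3 T C X) (P : ℕ → Prop) (h1 : ∀ i < T.l, P (T.sim i))
    (h2 : ∀ i < T.l, ∀ r < T.n, P r → P (T.refl i r)) : ∀ r < T.n, P r := by
  have h := V3.hDs
  simp only [checkDescent, allBelow_iff, force_eq, Bool.and_eq_true, Bool.or_eq_true] at h
  have key : ∀ d r, X.dep r = d → r < T.n → P r := by
    intro d
    induction d using Nat.strong_induction_on with
    | _ d ih =>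
      intro r hd hr
      obtain ⟨h3, h4⟩ := h r hr
      have h3' : X.stp r < T.l := by simpa using h3
      rcases h4 with h4 | h4
      · have : T.sim (X.stp r) = r := by simpa using h4.2
        rw [← this]
        exact h1 _ h3'
      · have h5 : X.dep (T.refl (X.stp r) r) < X.dep r := by simpa using h4
        have Rr := reflFacts V.hR _ h3' r hr
        have h6 := ih _ (by omega) _ rfl Rr.w_lt
        have h7 := h2 _ h3' _ Rr.w_lt h6
        rwa [Rr.w_w] at h7
  exact fun r hr => key _ r rfl hr

end Cfsg.Agent.Lib.ChevV3
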