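import Cfsg.Agent.Lib.ChevV3
import Cfsg.Agent.Lib.ChevV2E8

/-! Descent tables for type E8. -/

set_option autoImplicit false

namespace Cfsg.Agent.Lib.ChevV3E8

open Cfsg.Lie Cfsg.Agent.Lib.ChevTab Cfsg.Agent.Lib.ChevL2 Cfsg.Agent.Lib.ChevV3 Cfsg.Agent.Lib.ChevTbE8 Cfsg.Agent.Lib.ChevV2E8

noncomputable def X : Tc3 := mkTc3 0x1c1b1a19181716161514131211101514131211100f1211100f0e100f0e0d0e0d0c0c0b0a0f0e0d0c0d0c0b0b0a090c0b0a0a0908090807060b0a09090807080706050706050403060504030201000a0908080706070605040605040302050403020100050403020100040302010003020100020100010000010102010203010203040102030405010203040506010203040506030405060705060708070809090a0b0102030405060704050607080607080908090a0a0b0c0708090a090a0b0b0c0d0a0b0c0c0d0e0d0e0f100b0c0d0d0e0f0e0f10110f1011121310111213141516111213141516171718191a1b1c1d 0x70605040302010203040506070001030405060702040506070305060704060705070601050607040607050706030607050706040706050206070507060407060503070605040107060504030200060705070604070605030706050402070605040301070605040302070605040307060504070605070607070607050607040506070304050607020304050607010304050607020405060703050607040607050706000203040506070104050607030506070406070507060205060704060705070603060705070604070605010607050706040706050307060504020706050403010007060504030201020304050607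

theorem chk_cr : checkCoefRefl T C = true := by decide +kernel
theorem chk_s : checkSimple T = true := by decide +kernel
theorem chk_cl : checkCaLin T C = true := by decide +kernel
theorem chk_ds : checkDescent T X = true := by decide +kernel
theorem chk_pp : checkPosPerm T = true := by decide +kernel

theorem valid3 : Valid3 T C X := ⟨chk_cr, chk_s, chk_cl, chk_ds, chk_pp⟩

end Cfsg.Agent.Lib.ChevV3E8
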