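import Cfsg.Agent.Lib.ChevBN2
import Cfsg.Prelude.Def_ChevG2
import Cfsg.Prelude.Def_ChevB2

/-! A fourth set of table checks. -/

set_option autoImplicit false

namespace Cfsg.Agent.Lib.ChevV4

open Cfsg.Lie Matrix Cfsg.Agent.Lib.ChevEngine Cfsg.Agent.Lib.ChevTab Cfsg.Agent.Lib.ChevMono
  Cfsg.Agent.Lib.ChevRel Cfsg.Agent.Lib.ChevValid Cfsg.Agent.Lib.ChevGL Cfsg.Agent.Lib.ChevGrad Cfsg.Agent.Lib.ChevL2
  Cfsg.Agent.Lib.ChevU Cfsg.Agent.Lib.ChevU2 Cfsg.Agent.Lib.ChevU3 Cfsg.Agent.Lib.ChevDiag Cfsg.Agent.Lib.ChevV3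
  Cfsg.Agent.Lib.ChevH Cfsg.Agent.Lib.ChevN Cfsg.Agent.Lib.ChevN2 Cfsg.Agent.Lib.ChevN3 Cfsg.Agent.Lib.ChevBN Cfsg.Agent.Lib.ChevBN2

/-- Further tables. -/
structure Tc4 where
  w0 : List ℕ
  root : ℕ
  pd : ℕ → ℕ
  dd : ℕ → ℕ
  st2 : ℕ → ℕ
  pk : ℕ → ℕ
  pa : ℕ → ℕ
  pb : ℕ → ℕ

noncomputable def mkTc4 (w0 : List ℕ) (root pdRow ddRow st2Row pkRow paRow pbRow : ℕ) : Tc4 :=
  ⟨w0, root, fun r => getBits 8 255 pdRow r, fun r => getBits 8 255 ddRow r, fun r => getBits 8 255 st2Row r,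
    fun r => getBits 8 255 pkRow r, fun r => getBits 8 255 paRow r, fun r => getBits 8 255 pbRow r⟩

/-- The action of a word on the roots -/
def rwl (T : Tb) (L : List ℕ) (r : ℕ) : ℕ := L.foldr (fun i x => T.refl i x) r

noncomputable def checkW0 (T : Tb) (Y : Tc4) : Bool :=
  allL Y.w0 (fun i => Nat.blt i T.l) &&
  allBelow T.n fun r => force r fun r' =>
    bif Nat.blt r' (T.n / 2) then Nat.ble (T.n / 2) (rwl T Y.w0.reverse r') else Nat.blt (rwl T Y.w0 r') (T.n / 2)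

noncomputable def checkConn (T : Tb) (Y : Tc4) : Bool :=
  Nat.blt Y.root T.l &&
  allBelow T.l fun j => force j fun j' =>
    Nat.beq j' Y.root ||
      (Nat.blt (Y.pd j') T.l && Nat.blt (Y.dd (Y.pd j')) (Y.dd j') &&
        !(Nat.beq (rwl T [Y.pd j', j', Y.pd j', j'] (T.sim j')) (T.sim j')))

noncomputable def checkCo (T : Tb) (C : Tc) : Bool :=
  allBelow T.n fun r => force r fun r' => allBelow T.l fun i =>
    (decide (T.co r' i = 0) == decide (C.coef r' i = 0)) && decide (T.co (T.neg r') i = - T.co r' i)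

noncomputable def checkSt2 (T : Tb) (Y : Tc4) : Bool :=
  allBelow T.n fun r => force r fun r' =>
    Nat.blt r' (T.n / 2) ||
    (!(allBelow T.l fun i => !(Nat.beq (T.sim i) r'))) ||
    (Nat.blt (Y.st2 r') T.l && decide (0 < T.ca (Y.st2 r') r'))

/-- single term check for the commutator -/
def term1 (q : ℕ) : List (ℕ × ℤ × ℕ × ℕ) → Bool
  | [c] => Nat.beq c.1 q && (decide (c.2.1 = 1) || decide (c.2.1 = -1)) && Nat.beq c.2.2.1 1 && Nat.beq c.2.2.2 1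
  | _ => false

/-- two term check for the commutator -/
def term2 (Y : Tc4) (q : ℕ) : List (ℕ × ℤ × ℕ × ℕ) → Bool
  | [c1, c] => Nat.beq c1.2.2.1 1 && Nat.beq c1.2.2.2 1 && Nat.beq (Y.pk c1.1) 1 && Nat.beq c.1 q &&
      (decide (c.2.1 = 1) || decide (c.2.1 = -1)) && Nat.beq c.2.2.1 2 && Nat.beq c.2.2.2 1
  | _ => false

noncomputable def aaF (T : Tb) (r s : ℕ) : ℤ := sumBelow T.l fun m => T.co r m * T.ca m s

noncomputable def checkPerf (T : Tb) (Y : Tc4) : Bool :=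
  allBelow T.n fun q => force q fun q' =>
    (Nat.blt (Y.pa q') T.n && Nat.blt (Y.pb q') T.n && !(Nat.beq (Y.pb q') (Y.pa q')) && !(Nat.beq (Y.pb q') (T.neg (Y.pa q')))) &&
    (bif Nat.beq (Y.pk q') 0 then term1 q' (commTermsF T.ch (Y.pa q') (Y.pb q'))
     else bif Nat.beq (Y.pk q') 1 then decide (aaF T (Y.pa q') q' = 1) || decide (aaF T (Y.pa q') q' = -1)
     else term2 Y q' (commTermsF T.ch (Y.pa q') (Y.pb q')))

structure Valid4 (D : ChevalleyDatum) (T : Tb) (C : Tc) (Y : Tc4) : Prop where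
  hW0 : checkW0 T Y = true
  hConn : checkConn T Y = true
  hCo : checkCo T C = true
  hSt2 : checkSt2 T Y = true
  hPerf : checkPerf T Y = true
  hk : (D = chevG2 ∨ D = chevB2) ∨ (allBelow T.n fun q => Nat.beq (Y.pk q) 0) = true

end Cfsg.Agent.Lib.ChevV4
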