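import Cfsg.Agent.Lib.ChevV4
import Cfsg.Agent.Lib.ChevV3E8

/-! More tables for type E8. -/

set_option autoImplicit false

namespace Cfsg.Agent.Lib.ChevV4E8

open Cfsg.Lie Cfsg.Agent.Lib.ChevTab Cfsg.Agent.Lib.ChevL2 Cfsg.Agent.Lib.ChevV4 Cfsg.Agent.Lib.ChevTbE8 Cfsg.Agent.Lib.ChevV2E8

noncomputable def Y : Tc4 := mkTc4 [0, 1, 2, 0, 3, 1, 2, 0, 3, 2, 4, 3, 1, 2, 0, 3, 2, 4, 3, 1, 5, 4, 3, 1, 2, 0, 3, 2, 4, 3, 1, 5, 4, 3, 2, 0, 6, 5, 4, 3, 1, 2, 0, 3, 2, 4, 3, 1, 5, 4, 3, 2, 0, 6, 5, 4, 3, 1, 2, 3, 4, 5, 6, 7, 6, 5, 4, 3, 1, 2, 0, 3, 2, 4, 3, 1, 5, 4, 3, 2, 0, 6, 5, 4, 3, 1, 2, 3, 4, 5, 6, 7, 6, 5, 4, 3, 1, 2, 0, 3, 2, 4, 3, 1, 5, 4, 3, 2, 0, 6, 5, 4, 3, 1, 2, 3, 4, 5, 6, 7] 0 0x605040302000300 0x605040302010300 0x70605040301000200000000000001030202020202040303030301010101010101010101050404040303030303030202020202020202020200000000000000000000000000000000000000000000060505040404030303030101010101010101010100020202020200030303030004040400050500060000000000000000000000000000000000000000000000000000000000000000000000000000000000000000000000000000000000000000000000000000000000000000000000000000000000000000000000000000000000000000000000000000000000000000000000000000000000000000000000000000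 0x0 0x787775726e69635d5854514f4e4e47423e3b39383834312f2e2e2b292828262525242424211f1e1e1c1b1b1a1a1a18171716161615151515131212111111101010100f0f0f0f0f0e0e0e0e0e0e0e0c0b0b0a0a0a090909090808080808070707070707060606060606050505050504040404030303020201000100020100030201000403020100050403020100050403020100040302010003020100020100010000060504030201000403020100030201000201000100000302010002010001000002010001000001000000020100010000010000000100000000010000000000000100000000000000000000000001 0xeeefefefefefefefefefefefefeeefefefefefefeeefefefefeeefefefeeefefeeefeeedefefefeeefefeeefeeedefefeeefeeedefeeedecefefeeefeeedefeeedecefeeedecebefeeedecebeae9efefeeefeeedefeeedecefeeedecebefeeedecebeaefeeedecebeaefeeedecebefeeedecefeeedefeeefeeededecececebebebebeaeaeaeaeae9e9e9e9e9e9e8e8e8e8e8e8e7e7e7e7e7e6e6e6e6e5e5e5e4e4e3e1e1e1e1e1e1e1e0e0e0e0e0dfdfdfdfdedededddddcdadadadad9d9d9d8d8d7d5d5d5d4d4d3d1d1d0cecbcbcbcacac9c7c7c6c4c1c1c0bebbb7b7b6b4b1ada8a1a1a09e9b97928c86817d7a7877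

theorem chk_w0 : checkW0 T Y = true := by decide +kernel
theorem chk_conn : checkConn T Y = true := by decide +kernel
theorem chk_co : checkCo T C = true := by decide +kernel
theorem chk_st2 : checkSt2 T Y = true := by decide +kernel
theorem chk_perf : checkPerf T Y = true := by decide +kernel
theorem chk_k : (allBelow T.n fun q => Nat.beq (Y.pk q) 0) = true := by decide +kernel

theorem valid4 : Valid4 chevE8 T C Y := ⟨chk_w0, chk_conn, chk_co, chk_st2, chk_perf, Or.inr chk_k⟩

end Cfsg.Agent.Lib.ChevV4E8
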