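import Cfsg.Agent.Lib.ChevPar

/-! Chain steps. -/

set_option autoImplicit false

namespace Cfsg.Agent.Lib.ChevV5

open Cfsg.Lie Matrix Cfsg.Agent.Lib.ChevEngine Cfsg.Agent.Lib.ChevTab Cfsg.Agent.Lib.ChevMono
  Cfsg.Agent.Lib.ChevRel Cfsg.Agent.Lib.ChevValid Cfsg.Agent.Lib.ChevGL

/-- one chain step -/
def stepL (T : Tb) (r : ℕ) : List (ℕ × ℤ) → Bool
  | [] => true
  | [_] => true
  | a :: b :: L => (match T.ch r a.1 with
      | [] => false
      | e :: _ => Nat.beq e.1 b.1) && stepL T r (b :: L)

noncomputable def checkStep (T : Tb) : Bool :=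
  allBelow T.n fun r => force r fun r' => allBelow T.n fun c => force c fun c' =>
    stepL T r' (T.ch r' c')

theorem stepL_spec {T : Tb} {r : ℕ} : ∀ (L : List (ℕ × ℤ)), stepL T r L = true →
    ∀ k (hk : k + 1 < L.length), ∃ e L', T.ch r (L[k]'(by omega)).1 = e :: L' ∧ e.1 = (L[k + 1]'hk).1 := by
  intro L
  induction L with
  | nil => intro _ k hk; simp at hk
  | cons a L ih =>
    cases L with
    | nil => intro _ k hk; simp at hk
    | cons b L =>
      intro h k hk
      simp only [stepL, Bool.and_eq_true] at h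
      cases k with
      | zero =>
        rcases h1 : T.ch r a.1 with _ | ⟨e, L'⟩
        · rw [h1] at h; simp at h
        · rw [h1] at h
          refine ⟨e, L', h1, ?_⟩
          simpa using h.1
      | succ k =>
        exact ih h.2 k (by simpa using hk)

end Cfsg.Agent.Lib.ChevV5
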