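import Cfsg.Agent.Lib.ChevW2

/-! Kernel checks of orbit tables and the length polynomial. -/

set_option autoImplicit false

namespace Cfsg.Agent.Lib.ChevV6

open Cfsg.Lie Matrix Cfsg.Agent.Lib.ChevEngine Cfsg.Agent.Lib.ChevTab Cfsg.Agent.Lib.ChevMono
  Cfsg.Agent.Lib.ChevRel Cfsg.Agent.Lib.ChevValid Cfsg.Agent.Lib.ChevGL Cfsg.Agent.Lib.ChevGrad Cfsg.Agent.Lib.ChevL2
  Cfsg.Agent.Lib.ChevU Cfsg.Agent.Lib.ChevU2 Cfsg.Agent.Lib.ChevU3 Cfsg.Agent.Lib.ChevDiag Cfsg.Agent.Lib.ChevV3
  Cfsg.Agent.Lib.ChevH Cfsg.Agent.Lib.ChevN Cfsg.Agent.Lib.ChevN2 Cfsg.Agent.Lib.ChevN3 Cfsg.Agent.Lib.ChevBN Cfsg.Agent.Lib.ChevBN2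
  Cfsg.Agent.Lib.ChevV4 Cfsg.Agent.Lib.ChevSimp Cfsg.Agent.Lib.ChevSimp2 Cfsg.Agent.Lib.ChevPar Cfsg.Agent.Lib.ChevV5 Cfsg.Agent.Lib.ChevPar2
  Cfsg.Agent.Lib.BNPair Cfsg.Agent.Lib.BNCount Cfsg.Agent.Lib.ChevW1 Cfsg.Agent.Lib.ChevW2

/-! ### Lists of integers -/

def eqL : List ℤ → List ℤ → Bool
  | [], [] => true
  | a :: x, b :: y => decide (a = b) && eqL x y
  | _, _ => false

theorem eqL_iff : ∀ (x y : List ℤ), eqL x y = true ↔ x = y := by
  intro x
  induction x with
  | nil => intro y; cases y <;> simp [eqL]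
  | cons a x ih =>
    intro y
    cases y with
    | nil => simp [eqL]
    | cons b y => simp [eqL, ih]

noncomputable def anyL {α : Type} (l : List α) (f : α → Bool) : Bool :=
  List.rec (motive := fun _ => Bool) false (fun x _ ih => cond (f x) true ih) l

theorem anyL_iff {α : Type} (l : List α) (f : α → Bool) : anyL l f = true ↔ ∃ x ∈ l, f x = true := by
  induction l with
  | nil => simp [anyL]
  | cons x xs ih =>
    have : anyL (x :: xs) f = cond (f x) true (anyL xs f) := rfl
    rw [this]
    cases h : f x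
    · simp [h, ih]
    · simp [h]

/-- find the first entry with the given vector -/
def findV (a : List ℤ) : List (ℕ × List ℤ) → Option (ℕ × List ℤ)
  | [] => none
  | e :: t => bif eqL e.2 a then some e else findV a t

theorem findV_spec {a : List ℤ} : ∀ {tbl : List (ℕ × List ℤ)} {e : ℕ × List ℤ}, findV a tbl = some e → e ∈ tbl ∧ e.2 = a := by
  intro tbl
  induction tbl with
  | nil => intro e h; simp [findV] at h
  | cons x t ih =>
    intro e h
    simp only [findV] at h
    cases h2 : eqL x.2 a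
    · rw [h2] at h
      simp only [cond_false] at h
      obtain ⟨h3, h4⟩ := ih h
      exact ⟨List.mem_cons_of_mem _ h3, h4⟩
    · rw [h2] at h
      simp only [cond_true, Option.some.injEq] at h
      subst h
      exact ⟨List.mem_cons_self, (eqL_iff _ _).1 h2⟩

/-- The level bound check -/
def chkUp (a : Option (ℕ × List ℤ)) (k : ℕ) : Bool :=
  match a with
  | none => false
  | some e' => Nat.ble e'.1 (k + 1)

/-- The pairwise distinctness check -/
noncomputable def nodupL : List (ℕ × List ℤ) → Bool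
  | [] => true
  | e :: t => allL t (fun e' => !eqL e.2 e'.2) && nodupL t

theorem nodupL_spec : ∀ (tbl : List (ℕ × List ℤ)), nodupL tbl = true → (tbl.map Prod.snd).Nodup := by
  intro tbl
  induction tbl with
  | nil => simp
  | cons e t ih =>
    intro h
    simp only [nodupL, Bool.and_eq_true] at h
    rw [List.map_cons, List.nodup_cons]
    refine ⟨?_, ih h.2⟩
    intro hmem
    obtain ⟨e', he', h3⟩ := List.mem_map.1 hmem
    have := (allL_iff _ _).1 h.1 e' he'
    rw [h3] at this
    simp [(eqL_iff e.2 e.2).2 rfl] at this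

/-- The check for a single orbit table. -/
noncomputable def chkTbl (T : Tb) (j : ℕ) (As : List ℕ) (tbl : List (ℕ × List ℤ)) : Bool :=
  allL As (fun m => Nat.blt m T.l) &&
  (anyL tbl (fun e => Nat.beq e.1 0 && eqL e.2 (eV T j)) &&
  (allL tbl (fun e => allL As (fun m => chkUp (findV (actV T m e.2) tbl) e.1)) &&
  (allL tbl (fun e => bif Nat.beq e.1 0 then eqL e.2 (eV T j) else
      anyL As (fun m => match findV (actV T m e.2) tbl with
        | none => false
        | some e' => Nat.beq (e'.1 + 1) e.1 && eqL e.2 (actV T m e'.2))) &&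
  nodupL tbl)))

theorem orbitTbl_of_chk {T : Tb} {j : ℕ} {As : List ℕ} {tbl : List (ℕ × List ℤ)} (h : chkTbl T j As tbl = true) :
    OrbitTbl T j As tbl := by
  simp only [chkTbl, Bool.and_eq_true] at h
  obtain ⟨h1, h2, h3, h4, h5⟩ := h
  refine ⟨?_, ?_, ?_, ?_, ?_, nodupL_spec _ h5⟩
  · intro m hm
    have := (allL_iff _ _).1 h1 m hm
    rw [blt_dec] at this
    simpa using this
  · obtain ⟨e, he, h6⟩ := (anyL_iff _ _).1 h2
    simp only [Bool.and_eq_true] at h6
    have h7 : e.1 = 0 := by
      have := h6.1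
      rw [beq_dec] at this
      simpa using this
    have h8 := (eqL_iff _ _).1 h6.2
    have : e = (0, eV T j) := by
      rw [← h7, ← h8]
    rw [← this]
    exact he
  · intro e he m hm
    have h6 := (allL_iff _ _).1 ((allL_iff _ _).1 h3 e he) m hm
    unfold chkUp at h6
    split at h6
    · simp at h6
    · rename_i e' h7
      obtain ⟨h8, h9⟩ := findV_spec h7
      refine ⟨e', h8, h9, ?_⟩
      exact Nat.le_of_ble_eq_true h6
  · intro e he hz
    have h6 := (allL_iff _ _).1 h4 e he
    rw [hz] at h6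
    have : Nat.beq 0 0 = true := rfl
    rw [this] at h6
    exact (eqL_iff _ _).1 h6
  · intro e he hz
    have h6 := (allL_iff _ _).1 h4 e he
    have h0 : Nat.beq e.1 0 = false := by
      rw [beq_dec]
      simpa using hz
    rw [h0] at h6
    simp only [cond_false] at h6
    obtain ⟨m, hm, h7⟩ := (anyL_iff _ _).1 h6
    split at h7
    · simp at h7
    · rename_i e' h8
      obtain ⟨h9, _⟩ := findV_spec h8
      simp only [Bool.and_eq_true] at h7
      refine ⟨m, hm, e', h9, (eqL_iff _ _).1 h7.2, ?_⟩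
      have := h7.1
      rw [beq_dec] at this
      simpa using this

/-- The check for a chain of orbit tables. -/
noncomputable def chkChain (T : Tb) : List (ℕ × List (ℕ × List ℤ)) → Bool
  | [] => true
  | s :: rest => Nat.blt s.1 T.l && (allL rest (fun s' => !Nat.beq s'.1 s.1) &&
      (chkTbl T s.1 (s.1 :: rest.map Prod.fst) s.2 && chkChain T rest))

section
variable {D : ChevalleyDatum} {T : Tb} {C : Tc} {X : Tc3} {Y : Tc4} {F : Type*} [Field F]
variable (V : Valid D T) (V2 : Valid2 D T C) (V3 : Valid3 T C X) (V4 : Valid4 D T C Y)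

include V4 in
theorem pS_chain [Fintype (W (bnPair (F := F) V V2 V3))] (q : ℕ) :
    ∀ (steps : List (ℕ × List (ℕ × List ℤ))), chkChain T steps = true →
    pS _ q (WJ V V2 V3 F {m | m ∈ steps.map Prod.fst}) = (steps.map fun s => (s.2.map fun e => q ^ e.1).sum).prod := by
  intro steps
  induction steps with
  | nil =>
    intro _
    have : {m : ℕ | m ∈ ([] : List (ℕ × List (ℕ × List ℤ))).map Prod.fst} = ∅ := by
      ext m
      simp
    simp only [this, WJ_bot V V2 V3, pS_bot]
    rfl
  | cons s rest ih =>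
    intro h
    simp only [chkChain, Bool.and_eq_true] at h
    obtain ⟨h1, h2, h3, h4⟩ := h
    have hj : s.1 < T.l := by
      rw [blt_dec] at h1
      simpa using h1
    have hnot : s.1 ∉ rest.map Prod.fst := by
      intro hmem
      obtain ⟨s', hs', h5⟩ := List.mem_map.1 hmem
      have h6 := (allL_iff _ _).1 h2 s' hs'
      rw [beq_dec] at h6
      simp [h5] at h6
    have hst := pS_step V V2 V3 V4 (F := F) q (j := s.1) (As := s.1 :: rest.map Prod.fst) (tbl := s.2) hj (by simp) (orbitTbl_of_chk h3)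
    have hset : {m | m ∈ s.1 :: rest.map Prod.fst ∧ m ≠ s.1} = {m | m ∈ rest.map Prod.fst} := by
      ext m
      simp only [Set.mem_ofPred_eq, List.mem_cons]
      constructor
      · rintro ⟨h5 | h5, h6⟩
        · exact absurd h5 h6
        · exact h5
      · intro h5
        exact ⟨Or.inr h5, fun h6 => hnot (h6 ▸ h5)⟩
    rw [hset, ih h4] at hst
    rw [List.map_cons, List.map_cons, List.prod_cons]
    exact hst

include V4 in
/-- The sum of `q ^ length` is the product of orbit polynomials. -/
theorem sum_len_eq [Fintype (W (bnPair (F := F) V V2 V3))] (q : ℕ) (steps : List (ℕ × List (ℕ × List ℤ)))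
    (h : chkChain T steps = true) (hcov : allBelow T.l (fun m => anyL steps (fun s => Nat.beq s.1 m)) = true) :
    ∑ w : W (bnPair (F := F) V V2 V3), q ^ len _ w = (steps.map fun s => (s.2.map fun e => q ^ e.1).sum).prod := by
  rw [← pS_top (P := bnPair (F := F) V V2 V3) q, ← pS_chain V V2 V3 V4 (F := F) q steps h]
  congr 1
  symm
  apply WJ_top V V2 V3
  intro m hm
  obtain ⟨s, hs, h2⟩ := (anyL_iff _ _).1 ((allBelow_iff _ _).1 hcov m hm)
  rw [beq_dec] at h2
  simp only [decide_eq_true_eq] at h2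
  exact List.mem_map.2 ⟨s, hs, h2⟩

end

/-! ### Polynomials -/

/-- Evaluation -/
def pev (x : ℤ) : List ℤ → ℤ
  | [] => 0
  | c :: p => c + x * pev x p

def padd : List ℤ → List ℤ → List ℤ
  | [], q => q
  | p, [] => p
  | a :: p, b :: q => (a + b) :: padd p q

theorem pev_add (x : ℤ) : ∀ p q : List ℤ, pev x (padd p q) = pev x p + pev x q := by
  intro p
  induction p with
  | nil => intro q; simp [padd, pev]
  | cons a p ih =>
    intro q
    cases q with
    | nil => simp [padd, pev]
    | cons b q =>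
      simp only [padd, pev, ih]
      ring

def pscal (c : ℤ) : List ℤ → List ℤ
  | [] => []
  | a :: p => (c * a) :: pscal c p

theorem pev_scal (x c : ℤ) : ∀ p : List ℤ, pev x (pscal c p) = c * pev x p := by
  intro p
  induction p with
  | nil => simp [pscal, pev]
  | cons a p ih =>
    simp only [pscal, pev, ih]
    ring

def pmul : List ℤ → List ℤ → List ℤ
  | [], _ => []
  | a :: p, q => padd (pscal a q) (0 :: pmul p q)

theorem pev_mul (x : ℤ) : ∀ p q : List ℤ, pev x (pmul p q) = pev x p * pev x q := by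
  intro p
  induction p with
  | nil => intro q; simp [pmul, pev]
  | cons a p ih =>
    intro q
    simp only [pmul, pev_add, pev_scal, pev, ih]
    ring

/-- The monomial `x ^ k`. -/
def pmono : ℕ → List ℤ
  | 0 => [1]
  | k + 1 => 0 :: pmono k

theorem pev_mono (x : ℤ) : ∀ k : ℕ, pev x (pmono k) = x ^ k := by
  intro k
  induction k with
  | zero => simp [pmono, pev]
  | succ k ih =>
    simp only [pmono, pev, ih]
    ring

/-- The polynomial of a table. -/
def polyOf : List (ℕ × List ℤ) → List ℤ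
  | [] => []
  | e :: t => padd (pmono e.1) (polyOf t)

theorem pev_polyOf (q : ℕ) : ∀ tbl : List (ℕ × List ℤ),
    pev (q : ℤ) (polyOf tbl) = ((tbl.map fun e => q ^ e.1).sum : ℕ) := by
  intro tbl
  induction tbl with
  | nil => simp [polyOf, pev]
  | cons e t ih =>
    simp only [polyOf, pev_add, pev_mono, ih, List.map_cons, List.sum_cons]
    push_cast
    rfl

def pprod : List (List ℤ) → List ℤ
  | [] => [1]
  | p :: L => pmul p (pprod L)

theorem pev_prod (x : ℤ) : ∀ L : List (List ℤ), pev x (pprod L) = (L.map (pev x)).prod := by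
  intro L
  induction L with
  | nil => simp [pprod, pev]
  | cons p L ih =>
    simp only [pprod, pev_mul, ih, List.map_cons, List.prod_cons]

/-- The polynomial `x ^ d - 1`. -/
def xdm1 (d : ℕ) : List ℤ := padd [-1] (pmono d)

theorem pev_xdm1 (x : ℤ) (d : ℕ) : pev x (xdm1 d) = x ^ d - 1 := by
  simp only [xdm1, pev_add, pev_mono, pev]
  ring

/-- The identity to be checked. -/
def chkPoly (l : ℕ) (ds : List ℕ) (steps : List (ℕ × List (ℕ × List ℤ))) : Bool :=
  eqL (pmul (pprod (steps.map fun s => polyOf s.2)) (pprod (List.replicate l (xdm1 1)))) (pprod (ds.map xdm1))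

theorem poly_identity {l : ℕ} {ds : List ℕ} {steps : List (ℕ × List (ℕ × List ℤ))} (h : chkPoly l ds steps = true) (q : ℕ) :
    (((steps.map fun s => (s.2.map fun e => q ^ e.1).sum).prod : ℕ) : ℤ) * ((q : ℤ) - 1) ^ l = (ds.map fun d => (q : ℤ) ^ d - 1).prod := by
  have h1 := (eqL_iff _ _).1 h
  have h2 := congrArg (pev (q : ℤ)) h1
  rw [pev_mul, pev_prod, pev_prod, pev_prod, List.map_map, List.map_map, List.map_replicate] at h2
  have h3 : (pev (q : ℤ) ∘ fun s : ℕ × List (ℕ × List ℤ) => polyOf s.2) = fun s => (((s.2.map fun e => q ^ e.1).sum : ℕ) : ℤ) := by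
    funext s
    exact pev_polyOf q s.2
  have h4 : (pev (q : ℤ) ∘ xdm1) = fun d => (q : ℤ) ^ d - 1 := by
    funext d
    exact pev_xdm1 _ d
  rw [h3, h4, pev_xdm1, pow_one, List.prod_replicate] at h2
  rw [← h2]
  congr 1
  rw [Nat.cast_list_prod, List.map_map]
  rfl

end Cfsg.Agent.Lib.ChevV6
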