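import Cfsg.Agent.Lib.ChevV6
import Cfsg.Agent.Lib.ChevV5E8

/-! Orbit tables for the Weyl group of type E8. -/

set_option autoImplicit false
set_option maxRecDepth 100000

namespace Cfsg.Agent.Lib.ChevV6E8

open Cfsg.Lie Cfsg.Agent.Lib.ChevTab Cfsg.Agent.Lib.ChevV6 Cfsg.Agent.Lib.ChevTbE8

/-- table part -/
def tb0c0 : List (ℕ × List ℤ) := [(0,[0,0,0,0,0,0,0,1]), (1,[0,0,0,0,0,0,1,-1]), (2,[0,0,0,0,0,1,-1,0]), (3,[0,0,0,0,1,-1,0,0]), (4,[0,0,0,1,-1,0,0,0]), (5,[0,1,1,-1,0,0,0,0]), (6,[0,-1,1,0,0,0,0,0]), (6,[1,1,-1,0,0,0,0,0]), (7,[1,-1,-1,1,0,0,0,0]), (7,[-1,1,0,0,0,0,0,0]), (8,[-1,-1,0,1,0,0,0,0]), (8,[1,0,0,-1,1,0,0,0]), (9,[-1,0,1,-1,1,0,0,0]), (9,[1,0,0,0,-1,1,0,0]), (10,[0,0,-1,0,1,0,0,0]), (10,[-1,0,1,0,-1,1,0,0]),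 (10,[1,0,0,0,0,-1,1,0]), (11,[0,0,-1,1,-1,1,0,0]), (11,[-1,0,1,0,0,-1,1,0]), (11,[1,0,0,0,0,0,-1,1]), (12,[0,1,0,-1,0,1,0,0]), (12,[0,0,-1,1,0,-1,1,0]), (12,[-1,0,1,0,0,0,-1,1]), (12,[1,0,0,0,0,0,0,-1]), (13,[0,-1,0,0,0,1,0,0]), (13,[0,1,0,-1,1,-1,1,0]), (13,[0,0,-1,1,0,0,-1,1]), (13,[-1,0,1,0,0,0,0,-1]), (14,[0,-1,0,0,1,-1,1,0]), (14,[0,1,0,0,-1,0,1,0])]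

/-- table part -/
def tb0c1 : List (ℕ × List ℤ) := [(14,[0,1,0,-1,1,0,-1,1]), (14,[0,0,-1,1,0,0,0,-1]), (15,[0,-1,0,1,-1,0,1,0]), (15,[0,-1,0,0,1,0,-1,1]), (15,[0,1,0,0,-1,1,-1,1]), (15,[0,1,0,-1,1,0,0,-1]), (16,[0,0,1,-1,0,0,1,0]), (16,[0,-1,0,1,-1,1,-1,1]), (16,[0,-1,0,0,1,0,0,-1]), (16,[0,1,0,0,0,-1,0,1]), (16,[0,1,0,0,-1,1,0,-1]), (17,[1,0,-1,0,0,0,1,0]), (17,[0,0,1,-1,0,1,-1,1]), (17,[0,-1,0,1,0,-1,0,1]), (17,[0,-1,0,1,-1,1,0,-1]), (17,[0,1,0,0,0,-1,1,-1]), (18,[-1,0,0,0,0,0,1,0]), (18,[1,0,-1,0,0,1,-1,1]), (18,[0,0,1,-1,1,-1,0,1]), (18,[0,0,1,-1,0,1,0,-1]), (18,[0,-1,0,1,0,-1,1,-1]), (18,[0,1,0,0,0,0,-1,0]), (19,[-1,0,0,0,0,1,-1,1]), (19,[1,0,-1,0,1,-1,0,1]), (19,[1,0,-1,0,0,1,0,-1]), (19,[0,0,1,0,-1,0,0,1]),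 (19,[0,0,1,-1,1,-1,1,-1]), (19,[0,-1,0,1,0,0,-1,0]), (20,[-1,0,0,0,1,-1,0,1]), (20,[-1,0,0,0,0,1,0,-1])]

/-- table part -/
def tb0c2 : List (ℕ × List ℤ) := [(20,[1,0,-1,1,-1,0,0,1]), (20,[1,0,-1,0,1,-1,1,-1]), (20,[0,0,1,0,-1,0,1,-1]), (20,[0,0,1,-1,1,0,-1,0]), (21,[-1,0,0,1,-1,0,0,1]), (21,[-1,0,0,0,1,-1,1,-1]), (21,[1,1,0,-1,0,0,0,1]), (21,[1,0,-1,1,-1,0,1,-1]), (21,[1,0,-1,0,1,0,-1,0]), (21,[0,0,1,0,-1,1,-1,0]), (22,[-1,1,1,-1,0,0,0,1]), (22,[-1,0,0,1,-1,0,1,-1]), (22,[-1,0,0,0,1,0,-1,0]), (22,[1,-1,0,0,0,0,0,1]), (22,[1,1,0,-1,0,0,1,-1]), (22,[1,0,-1,1,-1,1,-1,0]), (22,[0,0,1,0,0,-1,0,0]), (23,[-1,-1,1,0,0,0,0,1]), (23,[0,1,-1,0,0,0,0,1]), (23,[-1,1,1,-1,0,0,1,-1]), (23,[-1,0,0,1,-1,1,-1,0]), (23,[1,-1,0,0,0,0,1,-1]),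 (23,[1,1,0,-1,0,1,-1,0]), (23,[1,0,-1,1,0,-1,0,0]), (24,[0,-1,-1,1,0,0,0,1]), (24,[-1,-1,1,0,0,0,1,-1]), (24,[0,1,-1,0,0,0,1,-1]), (24,[-1,1,1,-1,0,1,-1,0]), (24,[-1,0,0,1,0,-1,0,0]), (24,[1,-1,0,0,0,1,-1,0])]

/-- table part -/
def tb0c3 : List (ℕ × List ℤ) := [(24,[1,1,0,-1,1,-1,0,0]), (25,[0,0,0,-1,1,0,0,1]), (25,[0,-1,-1,1,0,0,1,-1]), (25,[-1,-1,1,0,0,1,-1,0]), (25,[0,1,-1,0,0,1,-1,0]), (25,[-1,1,1,-1,1,-1,0,0]), (25,[1,-1,0,0,1,-1,0,0]), (25,[1,1,0,0,-1,0,0,0]), (26,[0,0,0,0,-1,1,0,1]), (26,[0,0,0,-1,1,0,1,-1]), (26,[0,-1,-1,1,0,1,-1,0]), (26,[-1,-1,1,0,1,-1,0,0]), (26,[0,1,-1,0,1,-1,0,0]), (26,[-1,1,1,0,-1,0,0,0]), (26,[1,-1,0,1,-1,0,0,0]), (27,[0,0,0,0,0,-1,1,1]), (27,[0,0,0,0,-1,1,1,-1]), (27,[0,0,0,-1,1,1,-1,0]),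 (27,[0,-1,-1,1,1,-1,0,0]), (27,[-1,-1,1,1,-1,0,0,0]), (27,[0,1,-1,1,-1,0,0,0]), (27,[1,0,1,-1,0,0,0,0]), (28,[0,0,0,0,0,0,-1,2]), (28,[0,0,0,0,0,-1,2,-1]), (28,[0,0,0,0,-1,2,-1,0]), (28,[0,0,0,-1,2,-1,0,0]), (28,[0,-1,-1,2,-1,0,0,0]), (28,[-1,0,2,-1,0,0,0,0]), (28,[0,2,0,-1,0,0,0,0]), (28,[2,0,-1,0,0,0,0,0])]

/-- table part -/
def tb0c4 : List (ℕ × List ℤ) := [(29,[0,0,0,0,0,0,1,-2]), (29,[0,0,0,0,0,1,-2,1]), (29,[0,0,0,0,1,-2,1,0]), (29,[0,0,0,1,-2,1,0,0]), (29,[0,1,1,-2,1,0,0,0]), (29,[1,0,-2,1,0,0,0,0]), (29,[0,-2,0,1,0,0,0,0]), (29,[-2,0,1,0,0,0,0,0]), (30,[0,0,0,0,0,1,-1,-1]), (30,[0,0,0,0,1,-1,-1,1]), (30,[0,0,0,1,-1,-1,1,0]), (30,[0,1,1,-1,-1,1,0,0]), (30,[0,-1,1,-1,1,0,0,0]), (30,[1,1,-1,-1,1,0,0,0]),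 (30,[-1,0,-1,1,0,0,0,0]), (31,[0,0,0,0,1,-1,0,-1]), (31,[0,0,0,1,-1,0,-1,1]), (31,[0,1,1,-1,0,-1,1,0]), (31,[0,-1,1,0,-1,1,0,0]), (31,[1,1,-1,0,-1,1,0,0]), (31,[1,-1,-1,0,1,0,0,0]), (31,[-1,1,0,-1,1,0,0,0]), (32,[0,0,0,1,-1,0,0,-1]), (32,[0,1,1,-1,0,0,-1,1]), (32,[0,-1,1,0,0,-1,1,0]), (32,[1,1,-1,0,0,-1,1,0]), (32,[1,-1,-1,1,-1,1,0,0]), (32,[-1,1,0,0,-1,1,0,0]), (32,[-1,-1,0,0,1,0,0,0]), (33,[0,1,1,-1,0,0,0,-1])]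

/-- table part -/
def tb0c5 : List (ℕ × List ℤ) := [(33,[0,-1,1,0,0,0,-1,1]), (33,[1,1,-1,0,0,0,-1,1]), (33,[1,-1,-1,1,0,-1,1,0]), (33,[-1,1,0,0,0,-1,1,0]), (33,[-1,-1,0,1,-1,1,0,0]), (33,[1,0,0,-1,0,1,0,0]), (34,[0,-1,1,0,0,0,0,-1]), (34,[1,1,-1,0,0,0,0,-1]), (34,[1,-1,-1,1,0,0,-1,1]), (34,[-1,1,0,0,0,0,-1,1]), (34,[-1,-1,0,1,0,-1,1,0]), (34,[1,0,0,-1,1,-1,1,0]), (34,[-1,0,1,-1,0,1,0,0]), (35,[1,-1,-1,1,0,0,0,-1]), (35,[-1,1,0,0,0,0,0,-1]), (35,[-1,-1,0,1,0,0,-1,1]), (35,[1,0,0,-1,1,0,-1,1]), (35,[-1,0,1,-1,1,-1,1,0]), (35,[1,0,0,0,-1,0,1,0]), (35,[0,0,-1,0,0,1,0,0]), (36,[-1,-1,0,1,0,0,0,-1]), (36,[1,0,0,-1,1,0,0,-1]), (36,[-1,0,1,-1,1,0,-1,1]), (36,[1,0,0,0,-1,1,-1,1]), (36,[0,0,-1,0,1,-1,1,0]),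 (36,[-1,0,1,0,-1,0,1,0]), (37,[-1,0,1,-1,1,0,0,-1]), (37,[1,0,0,0,-1,1,0,-1]), (37,[0,0,-1,0,1,0,-1,1]), (37,[-1,0,1,0,-1,1,-1,1])]

/-- table part -/
def tb0c6 : List (ℕ × List ℤ) := [(37,[1,0,0,0,0,-1,0,1]), (37,[0,0,-1,1,-1,0,1,0]), (38,[0,0,-1,0,1,0,0,-1]), (38,[-1,0,1,0,-1,1,0,-1]), (38,[1,0,0,0,0,-1,1,-1]), (38,[0,0,-1,1,-1,1,-1,1]), (38,[-1,0,1,0,0,-1,0,1]), (38,[0,1,0,-1,0,0,1,0]), (39,[0,0,-1,1,-1,1,0,-1]), (39,[-1,0,1,0,0,-1,1,-1]), (39,[1,0,0,0,0,0,-1,0]), (39,[0,1,0,-1,0,1,-1,1]), (39,[0,0,-1,1,0,-1,0,1]), (39,[0,-1,0,0,0,0,1,0]), (40,[0,1,0,-1,0,1,0,-1]), (40,[0,0,-1,1,0,-1,1,-1]), (40,[-1,0,1,0,0,0,-1,0]), (40,[0,-1,0,0,0,1,-1,1]), (40,[0,1,0,-1,1,-1,0,1]), (41,[0,-1,0,0,0,1,0,-1]), (41,[0,1,0,-1,1,-1,1,-1]),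 (41,[0,0,-1,1,0,0,-1,0]), (41,[0,-1,0,0,1,-1,0,1]), (41,[0,1,0,0,-1,0,0,1]), (42,[0,-1,0,0,1,-1,1,-1]), (42,[0,1,0,0,-1,0,1,-1]), (42,[0,1,0,-1,1,0,-1,0]), (42,[0,-1,0,1,-1,0,0,1]), (43,[0,-1,0,1,-1,0,1,-1]), (43,[0,-1,0,0,1,0,-1,0])]

/-- table part -/
def tb0c7 : List (ℕ × List ℤ) := [(43,[0,1,0,0,-1,1,-1,0]), (43,[0,0,1,-1,0,0,0,1]), (44,[0,0,1,-1,0,0,1,-1]), (44,[0,-1,0,1,-1,1,-1,0]), (44,[0,1,0,0,0,-1,0,0]), (44,[1,0,-1,0,0,0,0,1]), (45,[1,0,-1,0,0,0,1,-1]), (45,[0,0,1,-1,0,1,-1,0]), (45,[0,-1,0,1,0,-1,0,0]), (45,[-1,0,0,0,0,0,0,1]), (46,[-1,0,0,0,0,0,1,-1]), (46,[1,0,-1,0,0,1,-1,0]), (46,[0,0,1,-1,1,-1,0,0]), (47,[-1,0,0,0,0,1,-1,0]), (47,[1,0,-1,0,1,-1,0,0]), (47,[0,0,1,0,-1,0,0,0]), (48,[-1,0,0,0,1,-1,0,0]),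 (48,[1,0,-1,1,-1,0,0,0]), (49,[-1,0,0,1,-1,0,0,0]), (49,[1,1,0,-1,0,0,0,0]), (50,[-1,1,1,-1,0,0,0,0]), (50,[1,-1,0,0,0,0,0,0]), (51,[-1,-1,1,0,0,0,0,0]), (51,[0,1,-1,0,0,0,0,0]), (52,[0,-1,-1,1,0,0,0,0]), (53,[0,0,0,-1,1,0,0,0]), (54,[0,0,0,0,-1,1,0,0]), (55,[0,0,0,0,0,-1,1,0]), (56,[0,0,0,0,0,0,-1,1]), (57,[0,0,0,0,0,0,0,-1])]

/-- table part -/
def tb1c0 : List (ℕ × List ℤ) := [(0,[0,0,0,0,0,0,1,0]), (1,[0,0,0,0,0,1,-1,1]), (2,[0,0,0,0,1,-1,0,1]), (3,[0,0,0,1,-1,0,0,1]), (4,[0,1,1,-1,0,0,0,1]), (5,[0,-1,1,0,0,0,0,1]), (5,[1,1,-1,0,0,0,0,1]), (6,[1,-1,-1,1,0,0,0,1]), (6,[-1,1,0,0,0,0,0,1]), (7,[-1,-1,0,1,0,0,0,1]), (7,[1,0,0,-1,1,0,0,1]), (8,[-1,0,1,-1,1,0,0,1]), (8,[1,0,0,0,-1,1,0,1]), (9,[0,0,-1,0,1,0,0,1]),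 (9,[-1,0,1,0,-1,1,0,1]), (9,[1,0,0,0,0,-1,1,1]), (10,[0,0,-1,1,-1,1,0,1]), (10,[-1,0,1,0,0,-1,1,1]), (10,[1,0,0,0,0,0,-1,2]), (11,[0,1,0,-1,0,1,0,1]), (11,[0,0,-1,1,0,-1,1,1]), (11,[-1,0,1,0,0,0,-1,2]), (12,[0,-1,0,0,0,1,0,1]), (12,[0,1,0,-1,1,-1,1,1]), (12,[0,0,-1,1,0,0,-1,2]), (13,[0,-1,0,0,1,-1,1,1]), (13,[0,1,0,0,-1,0,1,1]), (13,[0,1,0,-1,1,0,-1,2]), (14,[0,-1,0,1,-1,0,1,1]), (14,[0,-1,0,0,1,0,-1,2])]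

/-- table part -/
def tb1c1 : List (ℕ × List ℤ) := [(14,[0,1,0,0,-1,1,-1,2]), (15,[0,0,1,-1,0,0,1,1]), (15,[0,-1,0,1,-1,1,-1,2]), (15,[0,1,0,0,0,-1,0,2]), (16,[1,0,-1,0,0,0,1,1]), (16,[0,0,1,-1,0,1,-1,2]), (16,[0,-1,0,1,0,-1,0,2]), (17,[-1,0,0,0,0,0,1,1]), (17,[1,0,-1,0,0,1,-1,2]), (17,[0,0,1,-1,1,-1,0,2]), (18,[-1,0,0,0,0,1,-1,2]), (18,[1,0,-1,0,1,-1,0,2]), (18,[0,0,1,0,-1,0,0,2]), (19,[-1,0,0,0,1,-1,0,2]), (19,[1,0,-1,1,-1,0,0,2]), (20,[-1,0,0,1,-1,0,0,2]), (20,[1,1,0,-1,0,0,0,2]), (21,[-1,1,1,-1,0,0,0,2]), (21,[1,-1,0,0,0,0,0,2]), (22,[-1,-1,1,0,0,0,0,2]), (22,[0,1,-1,0,0,0,0,2]), (23,[0,-1,-1,1,0,0,0,2]), (24,[0,0,0,-1,1,0,0,2]), (25,[0,0,0,0,-1,1,0,2]), (26,[0,0,0,0,0,-1,1,2]), (27,[0,0,0,0,0,0,-1,3])]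

/-- table part -/
def tb2c0 : List (ℕ × List ℤ) := [(0,[1,0,0,0,0,0,0,0]), (1,[-1,0,1,0,0,0,0,0]), (2,[0,0,-1,1,0,0,0,0]), (3,[0,1,0,-1,1,0,0,0]), (4,[0,-1,0,0,1,0,0,0]), (4,[0,1,0,0,-1,1,0,0]), (5,[0,-1,0,1,-1,1,0,0]), (5,[0,1,0,0,0,-1,1,0]), (6,[0,0,1,-1,0,1,0,0]), (6,[0,-1,0,1,0,-1,1,0]), (7,[1,0,-1,0,0,1,0,0]), (7,[0,0,1,-1,1,-1,1,0]), (8,[-1,0,0,0,0,1,0,0]), (8,[1,0,-1,0,1,-1,1,0]), (8,[0,0,1,0,-1,0,1,0]), (9,[-1,0,0,0,1,-1,1,0]), (9,[1,0,-1,1,-1,0,1,0]), (10,[-1,0,0,1,-1,0,1,0]), (10,[1,1,0,-1,0,0,1,0]), (11,[-1,1,1,-1,0,0,1,0]), (11,[1,-1,0,0,0,0,1,0]), (12,[-1,-1,1,0,0,0,1,0]), (12,[0,1,-1,0,0,0,1,0]), (13,[0,-1,-1,1,0,0,1,0]), (14,[0,0,0,-1,1,0,1,0]), (15,[0,0,0,0,-1,1,1,0]), (16,[0,0,0,0,0,-1,2,0])]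

/-- table part -/
def tb3c0 : List (ℕ × List ℤ) := [(0,[0,0,0,0,0,1,0,0]), (1,[0,0,0,0,1,-1,1,0]), (2,[0,0,0,1,-1,0,1,0]), (3,[0,1,1,-1,0,0,1,0]), (4,[0,-1,1,0,0,0,1,0]), (4,[1,1,-1,0,0,0,1,0]), (5,[1,-1,-1,1,0,0,1,0]), (6,[1,0,0,-1,1,0,1,0]), (7,[1,0,0,0,-1,1,1,0]), (8,[1,0,0,0,0,-1,2,0])]

/-- table part -/
def tb4c0 : List (ℕ × List ℤ) := [(0,[0,1,0,0,0,0,0,0]), (1,[0,-1,0,1,0,0,0,0]), (2,[0,0,1,-1,1,0,0,0]), (3,[1,0,-1,0,1,0,0,0]), (3,[0,0,1,0,-1,1,0,0]), (4,[1,0,-1,1,-1,1,0,0]), (5,[1,1,0,-1,0,1,0,0]), (6,[1,-1,0,0,0,1,0,0])]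

/-- table part -/
def tb5c0 : List (ℕ × List ℤ) := [(0,[0,0,1,0,0,0,0,0]), (1,[1,0,-1,1,0,0,0,0]), (2,[1,1,0,-1,1,0,0,0]), (3,[1,1,0,0,-1,1,0,0])]

/-- table part -/
def tb6c0 : List (ℕ × List ℤ) := [(0,[0,0,0,1,0,0,0,0]), (1,[0,1,1,-1,1,0,0,0]), (2,[0,1,1,0,-1,1,0,0])]

/-- table part -/
def tb7c0 : List (ℕ × List ℤ) := [(0,[0,0,0,0,1,0,0,0]), (1,[0,0,0,1,-1,1,0,0])]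

/-- The orbit tables -/
def steps : List (ℕ × List (ℕ × List ℤ)) := [
  (7, tb0c0 ++ tb0c1 ++ tb0c2 ++ tb0c3 ++ tb0c4 ++ tb0c5 ++ tb0c6 ++ tb0c7),
  (6, tb1c0 ++ tb1c1),
  (0, tb2c0),
  (5, tb3c0),
  (1, tb4c0),
  (2, tb5c0),
  (3, tb6c0),
  (4, tb7c0)]

/-- The degrees -/
def ds : List ℕ := [2, 8, 12, 14, 18, 20, 24, 30]

theorem chk_chain : chkChain T steps = true := by decide +kernel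

theorem chk_cov : allBelow T.l (fun m => anyL steps (fun s => Nat.beq s.1 m)) = true := by decide +kernel

theorem chk_poly : chkPoly 8 ds steps = true := by decide +kernel

end Cfsg.Agent.Lib.ChevV6E8
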