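import Cfsg.Agent.Lib.ChevRel

/-! The bundle of all table checks. -/

set_option autoImplicit false

namespace Cfsg.Agent.Lib.ChevValid

open Cfsg.Lie Matrix Cfsg.Agent.Lib.ChevEngine Cfsg.Agent.Lib.ChevTab Cfsg.Agent.Lib.ChevMono Cfsg.Agent.Lib.ChevRel

/-- reflectRoot in terms of fast tables -/
def reflectRootF (T : Tb) (i s : ℕ) : ℕ :=
  let p := T.sim i
  let A := T.ca i s
  if s = p then T.neg p
  else if s = T.neg p then p
  else if 0 < A then (chainRootF T.ch (T.neg p) s A.toNat).getD s
  else if A < 0 then (chainRootF T.ch p s (-A).toNat).getD s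
  else s

/-- Relations for the reflections, extra. -/
noncomputable def checkRefl2 (T : Tb) : Bool :=
  allBelow T.l fun i => Nat.blt (T.sim i) T.n && allBelow T.n fun s =>
    Nat.beq (T.refl i s) (reflectRootF T i s) &&
    decide (T.eps i s * T.eps i (T.refl i s) = (-1) ^ (T.ca i s).natAbs)

noncomputable def checkNeg (T : Tb) : Bool :=
  allBelow T.n fun r => Nat.blt (T.neg r) T.n && Nat.beq (T.neg (T.neg r)) r && (! Nat.beq (T.neg r) r)

/-- All the table checks. -/
structure Valid (D : ChevalleyDatum) (T : Tb) : Prop where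
  hT : Faithful D T
  hM : checkMono T = true
  hR : checkRefl T = true
  hC : checkCartan2 T = true
  hA : checkAl D T = true
  hU : checkUp T = true
  hB : checkBaseAdd T = true
  hCF : checkCF D T = true
  hR2 : checkRefl2 T = true
  hNg : checkNeg T = true

variable {D : ChevalleyDatum} {T : Tb}

theorem Valid.hn (V : Valid D T) : T.n = D.nroots := V.hT.hn
theorem Valid.hl (V : Valid D T) : T.l = D.rank := V.hT.hl

theorem Valid.neg_eq (V : Valid D T) {r : ℕ} (hr : r < D.nroots) : D.neg r = T.neg r :=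
  V.hT.hneg r (by rw [V.hn]; exact hr)

theorem Valid.simple_eq (V : Valid D T) {i : ℕ} (hi : i < D.rank) : D.simple i = T.sim i :=
  V.hT.hsim i (by rw [V.hl]; exact hi)

theorem Valid.sim_lt (V : Valid D T) {i : ℕ} (hi : i < D.rank) : D.simple i < D.nroots := by
  rw [V.simple_eq hi, ← V.hn]
  exact Cfsg.Agent.Lib.ChevMono.sim_lt V.hT V.hM i (by rw [V.hl]; exact hi)

theorem Valid.reflectRoot_eq (V : Valid D T) {i s : ℕ} (hi : i < D.rank) (hs : s < D.nroots) :
    D.reflectRoot i s = T.refl i s := by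
  have h := V.hR2
  simp only [checkRefl2, allBelow_iff, Bool.and_eq_true] at h
  have h1 := ((h i (by rw [V.hl]; exact hi)).2 s (by rw [V.hn]; exact hs)).1
  have hp : T.sim i < T.n := by simpa using (h i (by rw [V.hl]; exact hi)).1
  have h2 : T.refl i s = reflectRootF T i s := by simpa using h1
  rw [h2]
  have hE : D.chainEntry = T.ch := by
    funext r s
    exact chainEntry_eq V.hT r s
  have hca : D.cartan i s = T.ca i s := V.hT.hca i (by rw [V.hl]; exact hi) s (by rw [V.hn]; exact hs)
  simp only [ChevalleyDatum.reflectRoot, reflectRootF, ChevalleyDatum.chainRoot, chainRootF, hE, hca,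
    V.simple_eq hi, ChevalleyDatum.neg, V.hT.hneg _ hp]

section
variable {F : Type*} [Field F]

theorem Valid.x_add (V : Valid D T) {r : ℕ} (hr : r < D.nroots) (t u : F) :
    D.x F r t * D.x F r u = D.x F r (t + u) :=
  Cfsg.Agent.Lib.ChevRel.x_add V.hT V.hM V.hR V.hC V.hA V.hU V.hB r (by rw [V.hn]; exact hr) t u

theorem Valid.cf (V : Valid D T) {r s : ℕ} (hr : r < D.nroots) (hs : s < D.nroots) (h1 : s ≠ r) (h2 : s ≠ D.neg r) (t u : F) :
    D.x F s u * D.x F r t = D.x F r t * D.x F s u * D.wordMat F (D.commWord F r s t u) := by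
  have hr' : r < T.n := by rw [V.hn]; exact hr
  have hs' : s < T.n := by rw [V.hn]; exact hs
  exact Cfsg.Agent.Lib.ChevRel.cf_all (F := F) V.hT V.hM V.hR V.hC V.hA V.hU V.hCF r hr' s hs' h1
    (by rw [← V.neg_eq hr]; exact h2) t u

theorem Valid.conj_simple (V : Valid D T) {i s : ℕ} (hi : i < D.rank) (hs : s < D.nroots) (t : F) :
    D.nMat F (D.simple i) 1 * D.x F s t =
      D.x F (D.reflectRoot i s) (((T.eps i s : ℤ) : F) * t) * D.nMat F (D.simple i) 1 := by
  rw [V.reflectRoot_eq hi hs]
  exact Cfsg.Agent.Lib.ChevMono.conj_simple V.hT V.hM V.hR V.hA i (by rw [V.hl]; exact hi) s (by rw [V.hn]; exact hs) t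

theorem Valid.neg_lt (V : Valid D T) {r : ℕ} (hr : r < T.n) : T.neg r < T.n := by
  have h := V.hNg
  simp only [checkNeg, allBelow_iff, Bool.and_eq_true] at h
  simpa using (h r hr).1.1

theorem Valid.neg_neg (V : Valid D T) {r : ℕ} (hr : r < T.n) : T.neg (T.neg r) = r := by
  have h := V.hNg
  simp only [checkNeg, allBelow_iff, Bool.and_eq_true] at h
  simpa using (h r hr).1.2

theorem Valid.neg_ne (V : Valid D T) {r : ℕ} (hr : r < T.n) : T.neg r ≠ r := by
  have h := V.hNg
  simp only [checkNeg, allBelow_iff, Bool.and_eq_true] at h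
  simpa [beq_dec] using (h r hr).2

theorem cv_zero (k : ℕ) (L : List (ℕ × ℤ)) : cv D T k L (0 : F) = 0 := by
  induction L generalizing k with
  | nil => rfl
  | cons e L ih => simp [cv, ih]

theorem Valid.x_zero (V : Valid D T) (r : ℕ) : D.x F r 0 = 1 := by
  by_cases hr : r < D.nroots
  · have hr' : r < T.n := by rw [V.hn]; exact hr
    apply matrix_ext_bas
    intro a ha
    rw [Matrix.one_mulVec]
    have hl := V.hl
    have hn := V.hn
    by_cases ha1 : a < T.l
    · rw [x_col_h V.hT r hr' (0 : F) a ha1]; simp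
    · obtain ⟨c, rfl⟩ : ∃ c, a = T.l + c := ⟨a - T.l, by omega⟩
      have hc : c < T.n := by omega
      by_cases h1 : c = r
      · subst h1; exact x_col_s V.hT c hr' 0
      · by_cases h2 : c = T.neg r
        · subst h2
          rw [x_col_n V.hT r hr' (0 : F) (V.neg_ne hr') (V.neg_lt hr')]; simp
        · rw [x_col_c V.hT r hr' (0 : F) c hc h1 h2, cv_zero, add_zero]
  · simp [ChevalleyDatum.x, hr]

theorem hv_inr (hl : T.l = D.rank) (c : ℕ → ℤ) (w : Fin D.nroots) : (hv D T c : D.Idx → F) (Sum.inr w) = 0 := by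
  unfold hv
  rw [Finset.sum_apply]
  apply Finset.sum_eq_zero
  intro i hi
  have hi' : i < T.l := by simpa using hi
  simp only [Pi.smul_apply, smul_eq_mul, bas]
  rw [if_neg, mul_zero]
  simp only [code_inr]
  omega

theorem bas_inr_self (hl : T.l = D.rank) (w : Fin D.nroots) : (bas D (T.l + w.val) : D.Idx → F) (Sum.inr w) = 1 := by
  simp only [bas]
  rw [if_pos]
  simp only [code_inr]
  omega

theorem bas_inr_ne (hl : T.l = D.rank) (w : Fin D.nroots) {c : ℕ} (h : c ≠ w.val) : (bas D (T.l + c) : D.Idx → F) (Sum.inr w) = 0 := by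
  simp only [bas]
  rw [if_neg]
  simp only [code_inr]
  omega

theorem Valid.x_eq_one_iff (V : Valid D T) {r : ℕ} (hr : r < D.nroots) (t : F) : D.x F r t = 1 ↔ t = 0 := by
  constructor
  · intro h
    have hr' : r < T.n := by rw [V.hn]; exact hr
    have h1 := x_col_n V.hT r hr' t (V.neg_ne hr') (V.neg_lt hr')
    rw [h, Matrix.one_mulVec] at h1
    have h2 := congrFun h1 (Sum.inr ⟨r, hr⟩)
    simp only [Pi.add_apply, Pi.smul_apply, smul_eq_mul] at h2
    rw [hv_inr V.hl, bas_inr_ne V.hl ⟨r, hr⟩ (V.neg_ne hr'), bas_inr_self V.hl ⟨r, hr⟩] at h2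
    simp only [mul_zero, zero_add, add_zero, mul_one] at h2
    have : t ^ 2 = 0 := by linear_combination h2
    exact pow_eq_zero_iff (two_ne_zero) |>.mp this
  · rintro rfl; exact V.x_zero r

end

end Cfsg.Agent.Lib.ChevValid
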