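import Cfsg.Agent.Lib.ChevPar3
import Cfsg.Agent.Lib.BNCount

/-! The action of the Weyl group on the roots; the length is the number of inversions. -/

set_option autoImplicit false

namespace Cfsg.Agent.Lib.ChevW1

open Cfsg.Lie Matrix Cfsg.Agent.Lib.ChevEngine Cfsg.Agent.Lib.ChevTab Cfsg.Agent.Lib.ChevMono
  Cfsg.Agent.Lib.ChevRel Cfsg.Agent.Lib.ChevValid Cfsg.Agent.Lib.ChevGL Cfsg.Agent.Lib.ChevGrad Cfsg.Agent.Lib.ChevL2
  Cfsg.Agent.Lib.ChevU Cfsg.Agent.Lib.ChevU2 Cfsg.Agent.Lib.ChevU3 Cfsg.Agent.Lib.ChevDiag Cfsg.Agent.Lib.ChevV3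
  Cfsg.Agent.Lib.ChevH Cfsg.Agent.Lib.ChevN Cfsg.Agent.Lib.ChevN2 Cfsg.Agent.Lib.ChevN3 Cfsg.Agent.Lib.ChevBN Cfsg.Agent.Lib.ChevBN2
  Cfsg.Agent.Lib.ChevV4 Cfsg.Agent.Lib.ChevSimp Cfsg.Agent.Lib.ChevSimp2 Cfsg.Agent.Lib.ChevPar Cfsg.Agent.Lib.ChevV5 Cfsg.Agent.Lib.ChevPar2
  Cfsg.Agent.Lib.BNPair Cfsg.Agent.Lib.BNCount

variable {D : ChevalleyDatum} {T : Tb} {C : Tc} {X : Tc3} {Y : Tc4} {F : Type*} [Field F]

/-- `g` maps the root `r` to the root `s`. -/
def Rt (V : Valid D T) (g : GL D.Idx F) (r s : ℕ) : Prop :=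
  s < T.n ∧ ∃ c : F, c ≠ 0 ∧ ∀ t : F, g * xU V r t * g⁻¹ = xU V s (c * t)

section
variable (V : Valid D T) (V2 : Valid2 D T C) (V3 : Valid3 T C X)

include V2 in
theorem Rt_unique {g : GL D.Idx F} {r s s' : ℕ} (h : Rt V g r s) (h' : Rt V g r s') : s = s' := by
  obtain ⟨h1, c, hc, e⟩ := h
  obtain ⟨h2, c', _, e'⟩ := h'
  have h3 := e' 1
  rw [e 1] at h3
  exact x_inj V V2 h1 h2 (by simpa using hc) h3

theorem Rt_comp {g g' : GL D.Idx F} {r s u : ℕ} (h : Rt V g' r s) (h' : Rt V g s u) : Rt V (g * g') r u := by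
  obtain ⟨_, c, hc, e⟩ := h
  obtain ⟨h2, c', hc', e'⟩ := h'
  refine ⟨h2, c' * c, mul_ne_zero hc' hc, ?_⟩
  intro t
  have e2 : g * g' * xU V r t * (g * g')⁻¹ = g * (g' * xU V r t * g'⁻¹) * g⁻¹ := by group
  rw [e2, e, e', mul_assoc]

theorem Rt_one {r : ℕ} (hr : r < T.n) : Rt V (1 : GL D.Idx F) r r :=
  ⟨hr, 1, one_ne_zero, by simp⟩

include V2 V3 in
theorem exists_Rt {g : GL D.Idx F} (hg : g ∈ D.monomialSubgroup F) {r : ℕ} (hr : r < T.n) : ∃ s, Rt V g r s := by
  obtain ⟨⟨π, c, h⟩, _⟩ := N_le_RAg V V2 V3 hg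
  obtain ⟨h1, _, h3, h4⟩ := h r hr
  exact ⟨π r, h1, c r, h3, h4⟩

open Classical in
/-- The action on root indices of an element of `N`. -/
noncomputable def piN (g : ↥(D.monomialSubgroup F)) (r : ℕ) : ℕ :=
  if hr : r < T.n then Classical.choose (exists_Rt V V2 V3 g.2 hr) else r

theorem piN_spec (g : ↥(D.monomialSubgroup F)) {r : ℕ} (hr : r < T.n) : Rt V (g : GL D.Idx F) r (piN V V2 V3 g r) := by
  unfold piN
  rw [dif_pos hr]
  exact Classical.choose_spec (exists_Rt V V2 V3 g.2 hr)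

theorem piN_eq (g : ↥(D.monomialSubgroup F)) {r s : ℕ} (hr : r < T.n) (h : Rt V (g : GL D.Idx F) r s) : piN V V2 V3 g r = s :=
  Rt_unique V V2 (piN_spec V V2 V3 g hr) h

theorem piN_ge (g : ↥(D.monomialSubgroup F)) {r : ℕ} (hr : ¬ r < T.n) : piN V V2 V3 g r = r := by
  unfold piN
  rw [dif_neg hr]

theorem piN_lt (g : ↥(D.monomialSubgroup F)) {r : ℕ} (hr : r < T.n) : piN V V2 V3 g r < T.n :=
  (piN_spec V V2 V3 g hr).1

/-- The action as a homomorphism. -/
noncomputable def rho0 : ↥(D.monomialSubgroup F) →* Equiv.Perm ℕ :=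
  MonoidHom.toHomPerm
    { toFun := fun g => piN V V2 V3 g
      map_one' := by
        funext r
        by_cases hr : r < T.n
        · exact piN_eq V V2 V3 1 hr (Rt_one V hr)
        · exact piN_ge V V2 V3 1 hr
      map_mul' := by
        intro g g'
        funext r
        by_cases hr : r < T.n
        · exact piN_eq V V2 V3 (g * g') hr (Rt_comp V (piN_spec V V2 V3 g' hr) (piN_spec V V2 V3 g (piN_lt V V2 V3 g' hr)))
        · show piN V V2 V3 (g * g') r = piN V V2 V3 g (piN V V2 V3 g' r)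
          rw [piN_ge V V2 V3 _ hr, piN_ge V V2 V3 g' hr, piN_ge V V2 V3 g hr] }

theorem rho0_apply (g : ↥(D.monomialSubgroup F)) (r : ℕ) : rho0 V V2 V3 g r = piN V V2 V3 g r := rfl

theorem rho0_lt (g : ↥(D.monomialSubgroup F)) {r : ℕ} (hr : r < T.n) : rho0 V V2 V3 g r < T.n :=
  piN_lt V V2 V3 g hr

theorem rho0_neg (g : ↥(D.monomialSubgroup F)) {r : ℕ} (hr : r < T.n) : rho0 V V2 V3 g (T.neg r) = T.neg (rho0 V V2 V3 g r) := by
  obtain ⟨⟨π, c, h⟩, _⟩ := N_le_RAg V V2 V3 g.2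
  obtain ⟨h1, h2, h3, h4⟩ := h r hr
  obtain ⟨h1', _, h3', h4'⟩ := h _ (V.neg_lt hr)
  rw [rho0_apply, rho0_apply, piN_eq V V2 V3 g hr ⟨h1, c r, h3, h4⟩, piN_eq V V2 V3 g (V.neg_lt hr) ⟨h1', _, h3', h4'⟩, h2]

theorem rho0_n {i : ℕ} (hi : i < T.l) {r : ℕ} (hr : r < T.n) :
    rho0 V V2 V3 ⟨nU V (D.simple i) (1 : F), n_mem_N V V2 V3 hi⟩ r = T.refl i r := by
  have hi' : i < D.rank := by rw [← V.hl]; exact hi
  have Rr := reflFacts V.hR i hi r hr
  refine piN_eq V V2 V3 _ hr ⟨Rr.w_lt, ((T.eps i r : ℤ) : F), ?_, ?_⟩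
  · rcases Rr.eps_pm with h | h <;> simp [h]
  · intro t
    exact nU_conj' V hi' (by rw [← V.hn]; exact hr) t

theorem rho0_dg {χ : ℕ → Fˣ} (hχ : IsCh T χ) (h : dgU D χ ∈ D.monomialSubgroup F) {r : ℕ} (hr : r < T.n) :
    rho0 V V2 V3 ⟨dgU D χ, h⟩ r = r := by
  refine piN_eq V V2 V3 _ hr ⟨hr, ((χ r : Fˣ) : F), (χ r).ne_zero, ?_⟩
  intro t
  show dgU D χ * xU V r t * (dgU D χ)⁻¹ = _
  rw [conj_dg V hχ (by rw [← V.hn]; exact hr), mul_inv_cancel_right]

theorem rho0_of_H {g : ↥(D.monomialSubgroup F)} (h : (g : GL D.Idx F) ∈ D.diagonalSubgroup F) : rho0 V V2 V3 g = 1 := by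
  obtain ⟨g, hg⟩ := g
  obtain ⟨χ, hχ, rfl⟩ := H_form V V2 V3 h
  ext r
  by_cases hr : r < T.n
  · simpa using rho0_dg V V2 V3 hχ hg hr
  · rw [rho0_apply, piN_ge V V2 V3 _ hr]
    rfl

end

/-! ### Elements preserving positivity -/

section
variable (V : Valid D T) (V2 : Valid2 D T C) (V3 : Valid3 T C X) (V4 : Valid4 D T C Y)

include V4 in
/-- An element of `N` preserving positivity is in `H`. -/
theorem H_of_pos {g : ↥(D.monomialSubgroup F)} (hp : ∀ r, T.n / 2 ≤ r → r < T.n → T.n / 2 ≤ rho0 V V2 V3 g r) :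
    (g : GL D.Idx F) ∈ D.diagonalSubgroup F := by
  have h0 := n_even V2
  have hneg : ∀ r, r < T.n / 2 → rho0 V V2 V3 g r < T.n / 2 := by
    intro r hr
    have hr' : r < T.n := by omega
    have h1 : T.n / 2 ≤ T.neg r := by
      show T.n / 2 ≤ T.n - 1 - r
      omega
    have h2 := hp _ h1 (V.neg_lt hr')
    rw [rho0_neg V V2 V3 g hr'] at h2
    have h3 := rho0_lt V V2 V3 g hr'
    have h4 : T.neg (rho0 V V2 V3 g r) = T.n - 1 - rho0 V V2 V3 g r := rfl
    omega
  have hG : (g : GL D.Idx F) ∈ D.group F := N_le_G V g.2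
  have hU : (g : GL D.Idx F) ∈ Subgroup.normalizer (D.posUnipotent F : Set (GL D.Idx F)) := by
    refine mem_normalizer_of_conj ?_ ?_
    · intro x hx
      rw [posUnipotent_eq V] at hx
      refine conj_closure_mem _ ?_ hx
      rintro y ⟨r, t, hr, rfl⟩
      have h1 := (isPos_iff V V2 r).mp hr
      have hr' : r < T.n := by rw [V.hn]; exact h1.2
      obtain ⟨h2, c, _, e⟩ := piN_spec V V2 V3 g hr'
      rw [e]
      exact xU_mem_U V V2 V3 (hp r h1.1 hr') h2 _
    · intro x hx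
      rw [posUnipotent_eq V] at hx
      suffices key : ∀ s ∈ {g : GL D.Idx F | ∃ (r : ℕ) (t : F), D.IsPosRoot r ∧ g = xU V r t},
          (g : GL D.Idx F)⁻¹ * s * ((g : GL D.Idx F)⁻¹)⁻¹ ∈ D.posUnipotent F by
        simpa using conj_closure_mem _ key hx
      rintro y ⟨r, t, hr, rfl⟩
      have h1 := (isPos_iff V V2 r).mp hr
      have hr' : r < T.n := by rw [V.hn]; exact h1.2
      have hs : (rho0 V V2 V3 g⁻¹ r) < T.n := rho0_lt V V2 V3 g⁻¹ hr'
      obtain ⟨h2, c, _, e⟩ := piN_spec V V2 V3 g⁻¹ hr'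
      have hpos : T.n / 2 ≤ rho0 V V2 V3 g⁻¹ r := by
        by_contra h3
        have h4 := hneg _ (by omega : rho0 V V2 V3 g⁻¹ r < T.n / 2)
        have h5 : rho0 V V2 V3 g (rho0 V V2 V3 g⁻¹ r) = r := by
          rw [← Equiv.Perm.mul_apply, ← map_mul, mul_inv_cancel, map_one]
          rfl
        rw [h5] at h4
        omega
      have e2 : (g : GL D.Idx F)⁻¹ * xU V r t * ((g : GL D.Idx F)⁻¹)⁻¹ = xU V (piN V V2 V3 g⁻¹ r) (c * t) := e t
      rw [e2]
      exact xU_mem_U V V2 V3 hpos h2 _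
  have hB : (g : GL D.Idx F) ∈ D.borelSubgroup F := by
    rw [← normalizer_U V V2 V3 V4]
    exact ⟨hU, hG⟩
  rw [← B_inf_N V V2 V3]
  exact ⟨hB, g.2⟩

end

/-! ### The Weyl group acting on roots -/

section
variable (V : Valid D T) (V2 : Valid2 D T C) (V3 : Valid3 T C X)

/-- `N` of the (B,N)-pair to `N`. -/
noncomputable def toN : (bnPair (F := F) V V2 V3).N →* ↥(D.monomialSubgroup F) where
  toFun n := ⟨((n : ↥(D.group F)) : GL D.Idx F), n.2⟩
  map_one' := rfl
  map_mul' _ _ := rfl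

theorem mem_HN' {n : (bnPair (F := F) V V2 V3).N} (h : n ∈ HN (bnPair (F := F) V V2 V3)) :
    ((toN V V2 V3 n : ↥(D.monomialSubgroup F)) : GL D.Idx F) ∈ D.diagonalSubgroup F := by
  rw [mem_HN] at h
  rw [← B_inf_N V V2 V3]
  exact ⟨h, n.2⟩

/-- The action of the Weyl group on the roots. -/
noncomputable def rho : W (bnPair (F := F) V V2 V3) →* Equiv.Perm ℕ :=
  QuotientGroup.lift (HN (bnPair (F := F) V V2 V3)) ((rho0 V V2 V3).comp (toN V V2 V3)) (by
    intro n hn
    rw [MonoidHom.mem_ker]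
    exact rho0_of_H V V2 V3 (mem_HN' V V2 V3 hn))

theorem rho_mk (n : (bnPair (F := F) V V2 V3).N) : rho V V2 V3 (mk _ n) = rho0 V V2 V3 (toN V V2 V3 n) := rfl

theorem rho_lt (w : W (bnPair (F := F) V V2 V3)) {r : ℕ} (hr : r < T.n) : rho V V2 V3 w r < T.n := by
  obtain ⟨n, rfl⟩ := mk_surjective w
  rw [rho_mk]
  exact rho0_lt V V2 V3 _ hr

theorem rho_neg (w : W (bnPair (F := F) V V2 V3)) {r : ℕ} (hr : r < T.n) : rho V V2 V3 w (T.neg r) = T.neg (rho V V2 V3 w r) := by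
  obtain ⟨n, rfl⟩ := mk_surjective w
  rw [rho_mk]
  exact rho0_neg V V2 V3 _ hr

open Classical in
/-- The simple reflections in the Weyl group. -/
noncomputable def xi (V : Valid D T) (V2 : Valid2 D T C) (V3 : Valid3 T C X) (F : Type*) [Field F] (i : ℕ) : W (bnPair (F := F) V V2 V3) :=
  if hi : i < T.l then mk _ ⟨⟨nU V (D.simple i) 1, nU_mem_G V (V.sim_lt (by rw [← V.hl]; exact hi)) 1⟩, n_mem_N V V2 V3 hi⟩ else 1

theorem rho_xi {i : ℕ} (hi : i < T.l) {r : ℕ} (hr : r < T.n) : rho V V2 V3 (xi V V2 V3 F i) r = T.refl i r := by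
  unfold xi
  rw [dif_pos hi, rho_mk]
  exact rho0_n V V2 V3 hi hr

theorem xi_mem {i : ℕ} (hi : i < T.l) : xi V V2 V3 F i ∈ Sb (bnPair (F := F) V V2 V3) := by
  unfold xi
  rw [dif_pos hi]
  exact ⟨_, ⟨i, by rw [← V.hl]; exact hi, nU_val V _ _⟩, rfl⟩

theorem mem_Sb {x : W (bnPair (F := F) V V2 V3)} (hx : x ∈ Sb (bnPair (F := F) V V2 V3)) : ∃ i, i < T.l ∧ x = xi V V2 V3 F i := by
  obtain ⟨s, ⟨i, hi, hs⟩, rfl⟩ := hx
  have hi' : i < T.l := by rw [V.hl]; exact hi
  refine ⟨i, hi', ?_⟩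
  unfold xi
  rw [dif_pos hi']
  congr 1
  apply Subtype.ext
  apply Subtype.ext
  exact Units.ext (by rw [hs, nU_val])

theorem xi_sq {i : ℕ} (hi : i < T.l) : xi V V2 V3 F i * xi V V2 V3 F i = 1 :=
  Sb_mul_self (xi_mem V V2 V3 hi)

variable (V4 : Valid4 D T C Y)

include V4 in
theorem eq_one_of_pos {w : W (bnPair (F := F) V V2 V3)} (hp : ∀ r, T.n / 2 ≤ r → r < T.n → T.n / 2 ≤ rho V V2 V3 w r) : w = 1 := by
  obtain ⟨n, rfl⟩ := mk_surjective w
  rw [mk_eq_one_iff]
  have h := H_of_pos V V2 V3 V4 (g := toN V V2 V3 n) (fun r h1 h2 => by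
    have := hp r h1 h2
    rwa [rho_mk] at this)
  exact H_le_B V V2 V3 h

include V4 in
theorem rho_inj : Function.Injective (rho (F := F) V V2 V3) := by
  rw [injective_iff_map_eq_one]
  intro w hw
  apply eq_one_of_pos V V2 V3 V4
  intro r h1 _
  rw [hw]
  exact h1

/-- The inversions. -/
noncomputable def Inv (w : W (bnPair (F := F) V V2 V3)) : Finset ℕ :=
  (Finset.Ico (T.n / 2) T.n).filter fun r => rho V V2 V3 w r < T.n / 2

theorem mem_Inv {w : W (bnPair (F := F) V V2 V3)} {r : ℕ} : r ∈ Inv V V2 V3 w ↔ T.n / 2 ≤ r ∧ r < T.n ∧ rho V V2 V3 w r < T.n / 2 := by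
  simp [Inv, and_assoc]

theorem rho_mul_xi (w : W (bnPair (F := F) V V2 V3)) {m : ℕ} (hm : m < T.l) {r : ℕ} (hr : r < T.n) :
    rho V V2 V3 (w * xi V V2 V3 F m) r = rho V V2 V3 w (T.refl m r) := by
  rw [map_mul, Equiv.Perm.mul_apply, rho_xi V V2 V3 hm hr]

theorem rho_xi_mul (w : W (bnPair (F := F) V V2 V3)) {m : ℕ} (hm : m < T.l) {r : ℕ} (hr : r < T.n) :
    rho V V2 V3 (xi V V2 V3 F m * w) r = T.refl m (rho V V2 V3 w r) := by
  rw [map_mul, Equiv.Perm.mul_apply, rho_xi V V2 V3 hm (rho_lt V V2 V3 w hr)]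

/-- The effect on the inversions of a reflection on the right. -/
theorem inv_step (w : W (bnPair (F := F) V V2 V3)) {m : ℕ} (hm : m < T.l) :
    (T.n / 2 ≤ rho V V2 V3 w (T.sim m) ∧ (Inv V V2 V3 (w * xi V V2 V3 F m)).card = (Inv V V2 V3 w).card + 1) ∨
    (rho V V2 V3 w (T.sim m) < T.n / 2 ∧ (Inv V V2 V3 (w * xi V V2 V3 F m)).card + 1 = (Inv V V2 V3 w).card) := by
  have h0 := n_even V2
  set p := T.sim m with hp
  have hp1 : T.n / 2 ≤ p := sim_pos V V2 hm
  have hp2 : p < T.n := sim_lt' V V2 V3 hm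
  have hrefl := refl_sim V V2 V3 hm
  have hA : ((Inv V V2 V3 (w * xi V V2 V3 F m)).erase p).card = ((Inv V V2 V3 w).erase p).card := by
    apply Finset.card_nbij' (T.refl m) (T.refl m)
    · intro r hr
      have hr' := Finset.mem_coe.mp hr
      rw [Finset.mem_erase, mem_Inv] at hr'
      obtain ⟨h1, h2, h3, h4⟩ := hr'
      have Rr := reflFacts V.hR m hm r h3
      refine Finset.mem_coe.mpr ?_
      rw [Finset.mem_erase, mem_Inv]
      refine ⟨?_, V3.pos_perm hm h3 h2 h1, Rr.w_lt, ?_⟩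
      · intro h5
        have h6 := Rr.w_w
        rw [h5, hrefl] at h6
        have h7 := neg_lt_half V2 hp1 hp2
        rw [h6] at h7
        omega
      · rwa [rho_mul_xi V V2 V3 w hm h3] at h4
    · intro r hr
      have hr' := Finset.mem_coe.mp hr
      rw [Finset.mem_erase, mem_Inv] at hr'
      obtain ⟨h1, h2, h3, h4⟩ := hr'
      have Rr := reflFacts V.hR m hm r h3
      refine Finset.mem_coe.mpr ?_
      rw [Finset.mem_erase, mem_Inv]
      refine ⟨?_, V3.pos_perm hm h3 h2 h1, Rr.w_lt, ?_⟩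
      · intro h5
        have h6 := Rr.w_w
        rw [h5, hrefl] at h6
        have h7 := neg_lt_half V2 hp1 hp2
        rw [h6] at h7
        omega
      · rw [rho_mul_xi V V2 V3 w hm Rr.w_lt, Rr.w_w]
        exact h4
    · intro r hr
      have hr' := Finset.mem_coe.mp hr
      rw [Finset.mem_erase, mem_Inv] at hr'
      exact (reflFacts V.hR m hm r hr'.2.2.1).w_w
    · intro r hr
      have hr' := Finset.mem_coe.mp hr
      rw [Finset.mem_erase, mem_Inv] at hr'
      exact (reflFacts V.hR m hm r hr'.2.2.1).w_w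
  have hval : rho V V2 V3 (w * xi V V2 V3 F m) p = T.neg (rho V V2 V3 w p) := by
    rw [rho_mul_xi V V2 V3 w hm hp2, hrefl, rho_neg V V2 V3 w hp2]
  have hlt := rho_lt V V2 V3 w hp2
  have hnegv : T.neg (rho V V2 V3 w p) = T.n - 1 - rho V V2 V3 w p := rfl
  by_cases hc : T.n / 2 ≤ rho V V2 V3 w p
  · left
    refine ⟨hc, ?_⟩
    have h1 : p ∈ Inv V V2 V3 (w * xi V V2 V3 F m) := by
      rw [mem_Inv, hval]
      refine ⟨hp1, hp2, ?_⟩
      omega
    have h2 : p ∉ Inv V V2 V3 w := by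
      rw [mem_Inv]
      rintro ⟨_, _, h3⟩
      omega
    rw [Finset.erase_eq_of_notMem h2] at hA
    rw [← hA, Finset.card_erase_add_one h1]
  · right
    refine ⟨by omega, ?_⟩
    have h1 : p ∉ Inv V V2 V3 (w * xi V V2 V3 F m) := by
      rw [mem_Inv, hval]
      rintro ⟨_, _, h3⟩
      omega
    have h2 : p ∈ Inv V V2 V3 w := by
      rw [mem_Inv]
      exact ⟨hp1, hp2, by omega⟩
    rw [Finset.erase_eq_of_notMem h1] at hA
    rw [hA, Finset.card_erase_add_one h2]

/-! ### Linear functions on roots -/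

/-- A function on roots which is linear on the root lattice. -/
def LinF (T : Tb) (C : Tc) (g : ℕ → ℤ) : Prop := ∀ r < T.n, g r = ∑ i ∈ Finset.range T.l, C.coef r i * g (T.sim i)

include V V2 V3 in
theorem linF_coef {j : ℕ} (hj : j < T.l) : LinF T C (fun r => C.coef r j) := by
  intro r _
  show C.coef r j = ∑ i ∈ Finset.range T.l, C.coef r i * C.coef (T.sim i) j
  rw [Finset.sum_eq_single j]
  · rw [sim_coef V2 hj, mul_one]
  · intro b hb hbj
    rw [sim_coef_ne V V2 V3 (by simpa using hb) hj (Ne.symm hbj), mul_zero]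
  · intro h
    exact absurd (by simpa using hj) h

include V3 in
theorem linF_refl_eq {g : ℕ → ℤ} (hg : LinF T C g) {m r : ℕ} (hm : m < T.l) (hr : r < T.n) (hw : T.refl m r < T.n) :
    g (T.refl m r) = g r - T.ca m r * g (T.sim m) := by
  rw [hg _ hw, hg r hr]
  have h : ∀ i ∈ Finset.range T.l, C.coef (T.refl m r) i * g (T.sim i) =
      C.coef r i * g (T.sim i) - (if i = m then T.ca m r * g (T.sim m) else 0) := by
    intro i hi
    rw [V3.coef_refl hm hr (by simpa using hi)]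
    split_ifs with h
    · subst h; ring
    · ring
  rw [Finset.sum_congr rfl h, Finset.sum_sub_distrib, Finset.sum_ite_eq']
  simp [hm]

include V V2 V3 in
theorem linF_refl {g : ℕ → ℤ} (hg : LinF T C g) {m : ℕ} (hm : m < T.l) : LinF T C (fun r => g (T.refl m r)) := by
  intro r hr
  have h1 := linF_refl_eq V3 hg hm hr (reflFacts V.hR m hm r hr).w_lt
  simp only []
  rw [h1, hg r hr, V3.ca_lin hm hr, Finset.sum_mul, ← Finset.sum_sub_distrib]
  apply Finset.sum_congr rfl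
  intro i hi
  have hi' : i < T.l := by simpa using hi
  have hs := sim_lt' V V2 V3 hi'
  rw [linF_refl_eq V3 hg hm hs (reflFacts V.hR m hm _ hs).w_lt]
  ring

theorem linF_congr {g g' : ℕ → ℤ} (hg : LinF T C g) (h : ∀ r < T.n, g' r = g r) (hs : ∀ i < T.l, T.sim i < T.n) : LinF T C g' := by
  intro r hr
  rw [h r hr, hg r hr]
  apply Finset.sum_congr rfl
  intro i hi
  rw [h _ (hs i (by simpa using hi))]

theorem linF_rho (w : W (bnPair (F := F) V V2 V3)) : ∀ {g : ℕ → ℤ}, LinF T C g → LinF T C (fun r => g (rho V V2 V3 w r)) := by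
  obtain ⟨L, hL, rfl⟩ := exists_word w
  induction L with
  | nil =>
    intro g hg
    simpa using hg
  | cons x L ih =>
    intro g hg
    obtain ⟨m, hm, rfl⟩ := mem_Sb V V2 V3 (hL x (by simp))
    have h1 := ih (fun y hy => hL y (by simp [hy])) (linF_refl V V2 V3 hg hm)
    refine linF_congr h1 ?_ (fun i hi => sim_lt' V V2 V3 hi)
    intro r hr
    simp only [List.prod_cons]
    rw [rho_xi_mul V V2 V3 _ hm hr]

include V V2 in
theorem exists_coef_neg {r : ℕ} (h : r < T.n / 2) : ∃ j < T.l, C.coef r j < 0 := by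
  have h0 := n_even V2
  have hr : r < T.n := by omega
  have h1 : T.n / 2 ≤ T.neg r := by
    show T.n / 2 ≤ T.n - 1 - r
    omega
  have h2 := (ht_pos V2 h1 (V.neg_lt hr)).1
  rw [htOf_eq] at h2
  unfold grOf at h2
  by_contra hc
  push Not at hc
  have h3 : ∑ i ∈ Finset.range T.l, C.coef (T.neg r) i * 1 ≤ 0 := by
    apply Finset.sum_nonpos
    intro i hi
    have hi' : i < T.l := by simpa using hi
    have h4 := hc i hi'
    rw [V2.coef_neg hr hi']
    have : -C.coef r i ≤ 0 := by omega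
    simpa using this
  have h4 : (1 : ℤ) ≤ ∑ i ∈ Finset.range T.l, C.coef (T.neg r) i * 1 := h2
  omega

include V4 in
/-- An element of the Weyl group keeping the simple roots positive is trivial. -/
theorem eq_one_of_sim_pos {w : W (bnPair (F := F) V V2 V3)} (hp : ∀ m < T.l, T.n / 2 ≤ rho V V2 V3 w (T.sim m)) : w = 1 := by
  apply eq_one_of_pos V V2 V3 V4
  intro r h1 h2
  by_contra h3
  obtain ⟨j, hj, h4⟩ := exists_coef_neg V V2 (r := rho V V2 V3 w r) (by omega)
  have h5 := linF_rho V V2 V3 w (linF_coef V V2 V3 hj) r h2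
  simp only [] at h5
  rw [h5] at h4
  have h6 : 0 ≤ ∑ i ∈ Finset.range T.l, C.coef r i * C.coef (rho V V2 V3 w (T.sim i)) j := by
    apply Finset.sum_nonneg
    intro i hi
    have hi' : i < T.l := by simpa using hi
    exact mul_nonneg (coef_nonneg_of_pos V V2 h1 h2 hi')
      (coef_nonneg_of_pos V V2 (hp i hi') (rho_lt V V2 V3 w (sim_lt' V V2 V3 hi')) hj)
  omega

include V4 in
/-- The length is the number of inversions. -/
theorem len_eq (w : W (bnPair (F := F) V V2 V3)) : len _ w = (Inv V V2 V3 w).card := by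
  apply le_antisymm
  · -- induction on the number of inversions
    generalize hk : (Inv V V2 V3 w).card = k
    induction k generalizing w with
    | zero =>
      have h1 : w = 1 := by
        apply eq_one_of_pos V V2 V3 V4
        intro r h1 h2
        by_contra h3
        have : r ∈ Inv V V2 V3 w := mem_Inv V V2 V3 |>.mpr ⟨h1, h2, by omega⟩
        rw [Finset.card_eq_zero] at hk
        rw [hk] at this
        simp at this
      rw [h1, len_one]
    | succ k ih =>
      have hne : ¬ ∀ m < T.l, T.n / 2 ≤ rho V V2 V3 w (T.sim m) := by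
        intro h
        have h1 := eq_one_of_sim_pos V V2 V3 V4 h
        subst h1
        have : Inv V V2 V3 (1 : W (bnPair (F := F) V V2 V3)) = ∅ := by
          ext r
          rw [mem_Inv]
          simp only [map_one, Equiv.Perm.coe_one, id_eq, Finset.notMem_empty, iff_false]
          omega
        rw [this] at hk
        simp at hk
      push Not at hne
      obtain ⟨m, hm, h1⟩ := hne
      rcases inv_step V V2 V3 w hm with h2 | h2
      · omega
      · have h3 := ih (w * xi V V2 V3 F m) (by omega)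
        have h4 := len_le_mul_right (w := w) (xi_mem V V2 V3 (F := F) hm)
        omega
  · -- induction on the length
    generalize hk : len _ w = k
    induction k generalizing w with
    | zero =>
      rw [len_eq_zero] at hk
      subst hk
      have : Inv V V2 V3 (1 : W (bnPair (F := F) V V2 V3)) = ∅ := by
        ext r
        rw [mem_Inv]
        simp only [map_one, Equiv.Perm.coe_one, id_eq, Finset.notMem_empty, iff_false]
        omega
      rw [this]
      simp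
    | succ k ih =>
      have hw : w ≠ 1 := by
        rintro rfl
        rw [len_one] at hk
        omega
      obtain ⟨x, hx, h1⟩ := exists_right_letter hw
      obtain ⟨m, hm, rfl⟩ := mem_Sb V V2 V3 hx
      have h3 := ih (w * xi V V2 V3 F m) (by omega)
      rcases inv_step V V2 V3 w hm with h2 | h2 <;> omega

include V4 in
/-- A reflection lowering the length sends its root to a negative root. -/
theorem neg_of_len_lt {w : W (bnPair (F := F) V V2 V3)} {m : ℕ} (hm : m < T.l) (h : len _ (w * xi V V2 V3 F m) < len _ w) :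
    rho V V2 V3 w (T.sim m) < T.n / 2 := by
  rw [len_eq V V2 V3 V4, len_eq V V2 V3 V4] at h
  rcases inv_step V V2 V3 w hm with h2 | h2
  · omega
  · exact h2.1

end

end Cfsg.Agent.Lib.ChevW1
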