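import Cfsg.Agent.Lib.ChevW1

/-! Parabolic subgroups of the Weyl group and orbit tables. -/

set_option autoImplicit false

namespace Cfsg.Agent.Lib.ChevW2

open Cfsg.Lie Matrix Cfsg.Agent.Lib.ChevEngine Cfsg.Agent.Lib.ChevTab Cfsg.Agent.Lib.ChevMono
  Cfsg.Agent.Lib.ChevRel Cfsg.Agent.Lib.ChevValid Cfsg.Agent.Lib.ChevGL Cfsg.Agent.Lib.ChevGrad Cfsg.Agent.Lib.ChevL2
  Cfsg.Agent.Lib.ChevU Cfsg.Agent.Lib.ChevU2 Cfsg.Agent.Lib.ChevU3 Cfsg.Agent.Lib.ChevDiag Cfsg.Agent.Lib.ChevV3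
  Cfsg.Agent.Lib.ChevH Cfsg.Agent.Lib.ChevN Cfsg.Agent.Lib.ChevN2 Cfsg.Agent.Lib.ChevN3 Cfsg.Agent.Lib.ChevBN Cfsg.Agent.Lib.ChevBN2
  Cfsg.Agent.Lib.ChevV4 Cfsg.Agent.Lib.ChevSimp Cfsg.Agent.Lib.ChevSimp2 Cfsg.Agent.Lib.ChevPar Cfsg.Agent.Lib.ChevV5 Cfsg.Agent.Lib.ChevPar2
  Cfsg.Agent.Lib.BNPair Cfsg.Agent.Lib.BNCount Cfsg.Agent.Lib.ChevW1

variable {D : ChevalleyDatum} {T : Tb} {C : Tc} {X : Tc3} {Y : Tc4} {F : Type*} [Field F]

/-- The action on vectors. -/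
noncomputable def actV (T : Tb) (m : ℕ) (a : List ℤ) : List ℤ :=
  (List.range T.l).map fun i => a.getD i 0 - T.ca m (T.sim i) * a.getD m 0

/-- The unit vectors. -/
noncomputable def eV (T : Tb) (j : ℕ) : List ℤ :=
  (List.range T.l).map fun i => if i = j then 1 else 0

/-- Properties of an orbit table -/
structure OrbitTbl (T : Tb) (j : ℕ) (As : List ℕ) (tbl : List (ℕ × List ℤ)) : Prop where
  hA : ∀ m ∈ As, m < T.l
  base : (0, eV T j) ∈ tbl
  up : ∀ e ∈ tbl, ∀ m ∈ As, ∃ e' ∈ tbl, e'.2 = actV T m e.2 ∧ e'.1 ≤ e.1 + 1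
  zero : ∀ e ∈ tbl, e.1 = 0 → e.2 = eV T j
  down : ∀ e ∈ tbl, e.1 ≠ 0 → ∃ m ∈ As, ∃ e' ∈ tbl, e.2 = actV T m e'.2 ∧ e'.1 + 1 = e.1
  nodup : (tbl.map Prod.snd).Nodup

section
variable (V : Valid D T) (V2 : Valid2 D T C) (V3 : Valid3 T C X) (V4 : Valid4 D T C Y)

/-- Parabolic subgroups of the Weyl group. -/
noncomputable def WJ (F : Type*) [Field F] (A : Set ℕ) : Subgroup (W (bnPair (F := F) V V2 V3)) :=
  Subgroup.closure {x | ∃ m, m ∈ A ∧ m < T.l ∧ x = xi V V2 V3 F m}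

theorem gens_sub (A : Set ℕ) : {x | ∃ m, m ∈ A ∧ m < T.l ∧ x = xi V V2 V3 F m} ⊆ Sb (bnPair (F := F) V V2 V3) := by
  rintro x ⟨m, _, hm, rfl⟩
  exact xi_mem V V2 V3 hm

theorem WJ_bot : WJ V V2 V3 F ∅ = ⊥ := by
  unfold WJ
  rw [Subgroup.closure_eq_bot_iff]
  rintro x ⟨m, h, _⟩
  exact absurd h (by simp)

theorem WJ_top {A : Set ℕ} (hA : ∀ m < T.l, m ∈ A) : WJ V V2 V3 F A = ⊤ := by
  rw [eq_top_iff]
  intro w _
  obtain ⟨L, hL, rfl⟩ := exists_word w
  apply Subgroup.list_prod_mem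
  intro x hx
  obtain ⟨m, hm, rfl⟩ := mem_Sb V V2 V3 (hL x hx)
  exact Subgroup.subset_closure ⟨m, hA m hm, hm, rfl⟩

/-- Elements of `W_A` do not change the coefficients outside `A`. -/
theorem WJ_fix {A : Set ℕ} {z : W (bnPair (F := F) V V2 V3)} (hz : z ∈ WJ V V2 V3 F A) {i : ℕ} (hi : i < T.l) (hiA : i ∉ A)
    {r : ℕ} (hr : r < T.n) : C.coef (rho V V2 V3 z r) i = C.coef r i := by
  obtain ⟨L, hL, rfl⟩ := exists_word_in (gens_sub V V2 V3 A) hz
  clear hz
  induction L with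
  | nil => simp
  | cons x L ih =>
    obtain ⟨m, hmA, hm, rfl⟩ := hL x (by simp)
    simp only [List.prod_cons]
    rw [rho_xi_mul V V2 V3 _ hm hr, V3.coef_refl hm (rho_lt V V2 V3 _ hr) hi, if_neg (by rintro rfl; exact hiA hmA), sub_zero]
    exact ih (fun y hy => hL y (by simp [hy]))

include V4 in
/-- Stabilizers of linear functions. -/
theorem stab {A : Set ℕ} : ∀ (k : ℕ) (z : W (bnPair (F := F) V V2 V3)), len _ z = k →
    (∀ i < T.l, i ∉ A → ∀ r < T.n, C.coef (rho V V2 V3 z r) i = C.coef r i) → z ∈ WJ V V2 V3 F A := by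
  intro k
  induction k with
  | zero =>
    intro z hz _
    rw [len_eq_zero] at hz
    subst hz
    exact Subgroup.one_mem _
  | succ k ih =>
    intro z hz hfix
    have hz1 : z ≠ 1 := by
      rintro rfl
      rw [len_one] at hz
      omega
    obtain ⟨x, hx, hlen⟩ := exists_right_letter hz1
    obtain ⟨m, hm, rfl⟩ := mem_Sb V V2 V3 hx
    have hneg := neg_of_len_lt V V2 V3 V4 (w := z) hm (by omega)
    have hp := sim_lt' V V2 V3 hm
    have hmA : m ∈ A := by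
      by_contra hc
      have h1 := hfix m hm hc _ hp
      rw [sim_coef V2 hm] at h1
      have h2 := coef_nonpos_of_neg V V2 hneg hm
      omega
    have h2 : z * xi V V2 V3 F m ∈ WJ V V2 V3 F A := by
      apply ih _ (by omega)
      intro i hi hiA r hr
      have Rr := reflFacts V.hR m hm r hr
      rw [rho_mul_xi V V2 V3 z hm hr, hfix i hi hiA _ Rr.w_lt, V3.coef_refl hm hr hi, if_neg (by rintro rfl; exact hiA hmA), sub_zero]
    have h3 : z = (z * xi V V2 V3 F m) * xi V V2 V3 F m := by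
      rw [mul_assoc, xi_sq V V2 V3 hm, mul_one]
    rw [h3]
    exact Subgroup.mul_mem _ h2 (Subgroup.subset_closure ⟨m, hmA, hm, rfl⟩)

/-- The vector of an element. -/
noncomputable def alpha (j : ℕ) (w : W (bnPair (F := F) V V2 V3)) : List ℤ :=
  (List.range T.l).map fun i => C.coef (rho V V2 V3 w⁻¹ (T.sim i)) j

theorem alpha_getD (j : ℕ) (w : W (bnPair (F := F) V V2 V3)) {i : ℕ} (hi : i < T.l) :
    (alpha (C := C) V V2 V3 j w).getD i 0 = C.coef (rho V V2 V3 w⁻¹ (T.sim i)) j := by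
  unfold alpha
  rw [List.getD_eq_getElem _ _ (by simpa using hi)]
  simp

theorem alpha_one {j : ℕ} (hj : j < T.l) : alpha (C := C) V V2 V3 j (1 : W (bnPair (F := F) V V2 V3)) = eV T j := by
  unfold alpha eV
  apply List.map_congr_left
  intro i hi
  have hi' : i < T.l := by simpa using hi
  simp only [inv_one, map_one, Equiv.Perm.coe_one, id_eq]
  split_ifs with h
  · subst h; exact sim_coef V2 hi'
  · exact sim_coef_ne V V2 V3 hi' hj (Ne.symm h)

theorem alpha_xi (j : ℕ) (hj : j < T.l) {m : ℕ} (hm : m < T.l) (w : W (bnPair (F := F) V V2 V3)) :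
    alpha (C := C) V V2 V3 j (xi V V2 V3 F m * w) = actV T m (alpha (C := C) V V2 V3 j w) := by
  unfold actV
  have hl : ∀ i ∈ List.range T.l, C.coef (rho V V2 V3 (xi V V2 V3 F m * w)⁻¹ (T.sim i)) j =
      (alpha (C := C) V V2 V3 j w).getD i 0 - T.ca m (T.sim i) * (alpha (C := C) V V2 V3 j w).getD m 0 := by
    intro i hi
    have hi' : i < T.l := by simpa using hi
    have hs := sim_lt' V V2 V3 hi'
    rw [alpha_getD V V2 V3 j w hi', alpha_getD V V2 V3 j w hm]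
    have e : (xi V V2 V3 F m * w)⁻¹ = w⁻¹ * xi V V2 V3 F m := by
      rw [_root_.mul_inv_rev, Sb_inv (xi_mem V V2 V3 hm)]
    rw [e, rho_mul_xi V V2 V3 _ hm hs]
    exact linF_refl_eq V3 (linF_rho V V2 V3 w⁻¹ (linF_coef V V2 V3 hj)) hm hs (reflFacts V.hR m hm _ hs).w_lt
  unfold alpha
  rw [List.map_congr_left hl]
  rfl

/-- Two elements with the same vector act equally on the coefficient `j`. -/
theorem alpha_eq {j : ℕ} (hj : j < T.l) {w w' : W (bnPair (F := F) V V2 V3)} (h : alpha (C := C) V V2 V3 j w = alpha (C := C) V V2 V3 j w') {r : ℕ} (hr : r < T.n) :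
    C.coef (rho V V2 V3 w⁻¹ r) j = C.coef (rho V V2 V3 w'⁻¹ r) j := by
  have h1 := linF_rho V V2 V3 w⁻¹ (linF_coef V V2 V3 hj) r hr
  have h2 := linF_rho V V2 V3 w'⁻¹ (linF_coef V V2 V3 hj) r hr
  simp only [] at h1 h2
  rw [h1, h2]
  apply Finset.sum_congr rfl
  intro i hi
  have hi' : i < T.l := by simpa using hi
  rw [← alpha_getD V V2 V3 j w hi', ← alpha_getD V V2 V3 j w' hi', h]

open Classical in
/-- The level of a vector. -/
noncomputable def levF (tbl : List (ℕ × List ℤ)) (a : List ℤ) : ℕ :=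
  if h : ∃ e ∈ tbl, e.2 = a then (Classical.choose h).1 else 0

theorem levF_eq {tbl : List (ℕ × List ℤ)} (hn : (tbl.map Prod.snd).Nodup) {e : ℕ × List ℤ} (he : e ∈ tbl) : levF tbl e.2 = e.1 := by
  unfold levF
  have h : ∃ e' ∈ tbl, e'.2 = e.2 := ⟨e, he, rfl⟩
  rw [dif_pos h]
  obtain ⟨h1, h2⟩ := Classical.choose_spec h
  have := List.inj_on_of_nodup_map hn h1 he h2
  rw [this]

include V4 in
/-- One step of the factorization -/
theorem pS_step [Fintype (W (bnPair (F := F) V V2 V3))] (q : ℕ) {j : ℕ} {As : List ℕ} {tbl : List (ℕ × List ℤ)} (hj : j < T.l) (hjA : j ∈ As)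
    (ht : OrbitTbl T j As tbl) :
    pS _ q (WJ V V2 V3 F {m | m ∈ As}) = (tbl.map fun e => q ^ e.1).sum * pS _ q (WJ V V2 V3 F {m | m ∈ As ∧ m ≠ j}) := by
  classical
  have hKH : WJ V V2 V3 F {m | m ∈ As ∧ m ≠ j} ≤ WJ V V2 V3 F {m | m ∈ As} := by
    apply Subgroup.closure_mono
    rintro x ⟨m, hm, h2, rfl⟩
    exact ⟨m, hm.1, h2, rfl⟩
  have hword : ∀ (L : List (W (bnPair (F := F) V V2 V3))), (∀ x ∈ L, x ∈ {x | ∃ m, m ∈ {m | m ∈ As} ∧ m < T.l ∧ x = xi V V2 V3 F m}) →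
      ∃ e ∈ tbl, e.2 = alpha (C := C) V V2 V3 j L.prod ∧ e.1 ≤ L.length := by
    intro L
    induction L with
    | nil =>
      intro _
      refine ⟨_, ht.base, ?_, by simp⟩
      simp [alpha_one V V2 V3 hj]
    | cons x L ih =>
      intro hL
      obtain ⟨m, hmA, hm, rfl⟩ := hL x (by simp)
      obtain ⟨e, he, h1, h2⟩ := ih (fun y hy => hL y (by simp [hy]))
      obtain ⟨e', he', h3, h4⟩ := ht.up e he m hmA
      refine ⟨e', he', ?_, ?_⟩
      · rw [List.prod_cons, alpha_xi V V2 V3 j hj hm, ← h1, h3]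
      · simp only [List.length_cons]
        omega
  have hsum : (tbl.map fun e => q ^ e.1).sum = ∑ a ∈ (tbl.map Prod.snd).toFinset, q ^ levF tbl a := by
    rw [List.sum_toFinset _ ht.nodup, List.map_map]
    congr 1
    apply List.map_congr_left
    intro e he
    simp only [Function.comp]
    rw [levF_eq ht.nodup he]
  rw [hsum]
  unfold WJ
  apply pS_factor q (gens_sub V V2 V3 _) hKH (alpha (C := C) V V2 V3 j) _ (levF tbl)
  · -- h1
    intro w hw
    obtain ⟨L, hL, rfl⟩ := exists_word_in (gens_sub V V2 V3 _) hw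
    obtain ⟨e, he, h1, _⟩ := hword L hL
    rw [← h1, List.mem_toFinset]
    exact List.mem_map.mpr ⟨e, he, rfl⟩
  · -- h2
    intro w _ u hu
    unfold alpha
    apply List.map_congr_left
    intro i hi
    have hi' : i < T.l := by simpa using hi
    have hs := sim_lt' V V2 V3 hi'
    rw [_root_.mul_inv_rev, map_mul, Equiv.Perm.mul_apply]
    exact WJ_fix V V2 V3 (Subgroup.inv_mem _ hu) hj (by simp) (rho_lt V V2 V3 _ hs)
  · -- h3
    intro w hw w' hw' h
    have hz : w'⁻¹ * w ∈ WJ V V2 V3 F {m | m ∈ As} := Subgroup.mul_mem _ (Subgroup.inv_mem _ hw') hw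
    have hmem : w'⁻¹ * w ∈ WJ V V2 V3 F {m | m ∈ As ∧ m ≠ j} := by
      apply stab V V2 V3 V4 _ _ rfl
      intro i hi hiA r hr
      by_cases hij : i = j
      · subst hij
        rw [map_mul, Equiv.Perm.mul_apply]
        have h1 := alpha_eq V V2 V3 hj h.symm (rho_lt V V2 V3 w hr)
        rw [h1, ← Equiv.Perm.mul_apply, ← map_mul, inv_mul_cancel, map_one]
        rfl
      · apply WJ_fix V V2 V3 hz hi _ hr
        intro h2
        exact hiA ⟨h2, hij⟩
    have := Subgroup.inv_mem _ hmem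
    rwa [_root_.mul_inv_rev, inv_inv] at this
  · -- h4
    intro w hw
    obtain ⟨L, hL, rfl, hl⟩ := exists_reduced_in (gens_sub V V2 V3 _) hw
    obtain ⟨e, he, h1, h2⟩ := hword L hL
    rw [← h1, levF_eq ht.nodup he, ← hl]
    exact h2
  · -- h5
    intro a ha
    rw [List.mem_toFinset, List.mem_map] at ha
    obtain ⟨e, he, rfl⟩ := ha
    rw [levF_eq ht.nodup he]
    have key : ∀ (d : ℕ) (e : ℕ × List ℤ), e ∈ tbl → e.1 = d →
        ∃ v ∈ Subgroup.closure {x | ∃ m, m ∈ {m | m ∈ As} ∧ m < T.l ∧ x = xi V V2 V3 F m}, alpha (C := C) V V2 V3 j v = e.2 ∧ len _ v ≤ d := by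
      intro d
      induction d with
      | zero =>
        intro e he hd
        refine ⟨1, Subgroup.one_mem _, ?_, by simp [len_one]⟩
        rw [alpha_one V V2 V3 hj, ht.zero e he hd]
      | succ d ih =>
        intro e he hd
        obtain ⟨m, hmA, e', he', h1, h2⟩ := ht.down e he (by omega)
        obtain ⟨v, hv, h3, h4⟩ := ih e' he' (by omega)
        have hm := ht.hA m hmA
        refine ⟨xi V V2 V3 F m * v, Subgroup.mul_mem _ (Subgroup.subset_closure ⟨m, hmA, hm, rfl⟩) hv, ?_, ?_⟩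
        · rw [alpha_xi V V2 V3 j hj hm, h3, h1]
        · have := len_mul_le (w := v) (xi_mem V V2 V3 (F := F) hm)
          omega
    exact key _ e he rfl

end

end Cfsg.Agent.Lib.ChevW2
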