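import Cfsg.Agent.Lib.CoHS
/-! An involution of the stabiliser of two vectors without fixed points on the hundred vectors. -/
set_option autoImplicit false
set_option linter.unusedVariables false
set_option maxRecDepth 100000

namespace Cfsg.Agent.Lib.CoInvL

open Cfsg Cfsg.Agent.LeechBasic Cfsg.Agent.Lib.LeechAut Cfsg.Agent.Lib.GolayBasic
open Cfsg.Agent.Lib.CoLetter Cfsg.Agent.Lib.CoCert Cfsg.Agent.Lib.CoTree Cfsg.Agent.Lib.PChain Cfsg.Agent.Lib.CoL Cfsg.Agent.Lib.CoL2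
open Cfsg.Agent.Lib.CoChain Cfsg.Agent.Lib.CoCensus Cfsg.Agent.Lib.CoU Cfsg.Agent.Lib.CoHS

/-- rows -/
noncomputable def r_g : List (List ℕ) := [[nat_lit 0, nat_lit 4, nat_lit 0x1e, nat_lit 0x23], [nat_lit 0x1a, nat_lit 0x1c, nat_lit 0x20, nat_lit 0x29], [nat_lit 0, nat_lit 4, nat_lit 0x1f, nat_lit 0x22], [nat_lit 0xa, nat_lit 0xf, nat_lit 0x15, nat_lit 0x27], [nat_lit 0x1b, nat_lit 0x1c, nat_lit 0x21, nat_lit 0x29], [nat_lit 6, nat_lit 0x12, nat_lit 0x19, nat_lit 0x24], [nat_lit 0xd, nat_lit 0x10, nat_lit 0x2c, nat_lit 0x2e], [nat_lit 7, nat_lit 0x12, nat_lit 0x19, nat_lit 0x25], [nat_lit 0xc, nat_lit 0x11, nat_lit 0x2c, nat_lit 0x2e], [nat_lit 0xa, nat_lit 0xe, nat_lit 0x14, nat_lit 0x27], [nat_lit 7, nat_lit 0x12, nat_lit 0x18, nat_lit 0x24], [nat_lit 0x1a, nat_lit 0x1d, nat_lit 0x21, nat_lit 0x29], [nat_lit 0xb, nat_lit 0xf, nat_lit 0x14, nat_lit 0x27], [nat_lit 2, nat_lit 9, nat_lit 0x16, nat_lit 0x2a], [nat_lit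 2, nat_lit 8, nat_lit 0x17, nat_lit 0x2a], [nat_lit 0, nat_lit 5, nat_lit 0x1e, nat_lit 0x22], [nat_lit 2, nat_lit 9, nat_lit 0x17, nat_lit 0x2b], [nat_lit 1, nat_lit 4, nat_lit 0x1e, nat_lit 0x22], [nat_lit 0xa, nat_lit 0xf, nat_lit 0x14, nat_lit 0x26], [nat_lit 7, nat_lit 0x13, nat_lit 0x19, nat_lit 0x24], [nat_lit 3, nat_lit 9, nat_lit 0x17, nat_lit 0x2a], [nat_lit 0x1a, nat_lit 0x1c, nat_lit 0x21, nat_lit 0x28], [nat_lit 0xc, nat_lit 0x10, nat_lit 0x2d, nat_lit 0x2e], [nat_lit 0xc, nat_lit 0x10, nat_lit 0x2c, nat_lit 0x2f]]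
/-- table -/
noncomputable def y_g_R : ℕ := nat_lit 0x83a5094a508424e8421084210942108c5f18bdf18be2f8bdf18be316c6318c5f18c5ef7be2f8be2f8be6f7c63184212841d08421073a128421074a127bdf17c5f17bdf18b5f18c5f17c5f174210849d073a1094a108421084a108425083a1073a1084a12941d08421083a0e8421074a12841d083a108420e84210742109421073a508421293a108be2f8c6318c5f16be317be318be2f8c5f18bdf17c66f8be318be2f7c5ef8c5ef8be2f8cdf17c62f7bdef7bdef742108421074250942109421094a128421074250842508421083a1293a0e7c5f17bdef7be2f7c5f38c5ef7c5f18c5ef8b5ef8c5f18be318be317c6318bdf17bdef7c5f18bdf18be318b5f18421084a1284a10742108420e74a0e8bdf18c5f17c6318b5f18be2f7c6318421083a10941d083a128421283a1284210839ce741d284a10841d08421083a108421074210839d294210942128be2f7be2f8c5f17c62f7bdf18b62f84210839ce74210942129421084212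
/-- table -/
noncomputable def y_g (i : ℕ) : ℕ := Nat.land (Nat.shiftRight y_g_R (Nat.mul (nat_lit 0x78) i)) (nat_lit 0xffffffffffffffffffffffffffffff)
/-- table -/
noncomputable def piT_R : ℕ := nat_lit 0x421314110e05343126222c282a2e044c4d034b01024a5354514e3b3c3d3e37383063404100464748491a2f44451c1f5d0b0d5c433956075908570658095b0a1d1e5a0c1b35232436203a1512100f196162186017165f32213325272b2d295e55524f503f
/-- table -/
noncomputable def piT (i : ℕ) : ℕ := Nat.land (Nat.shiftRight piT_R (Nat.mul (nat_lit 8) i)) (nat_lit 0xff)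

theorem c_g : LCert bT cT 2 2 r_g r_g y_g y_g := cert_of basis_ok (by decide +kernel)

/-- the involution -/
noncomputable def g0 : Co0 := toCo c_g

theorem g0_mem : g0 ∈ S := ⟨fix_stab c_g rfl (by decide +kernel), fix_stab c_g rfl (by decide +kernel)⟩

theorem g0_inv : g0⁻¹ = g0 := by
  apply Subtype.ext
  apply Equiv.ext
  intro v
  rfl

theorem g0_sq : g0 ^ 2 = 1 := by
  rw [pow_two]
  nth_rewrite 1 [← g0_inv]
  exact inv_mul_cancel g0

theorem chk : allR (fun i => and (actY 2 r_g (CoT100.vT i) (CoT100.vT (piT i))) (and (Nat.blt (piT i) 100) (not (Nat.beq (piT i) i)))) 0 100 = true := by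
  decide +kernel

theorem no_fix (y : LL) (hy : y.1 ∈ W100) : g0 • y ≠ y := by
  intro e
  rw [← T100_eq] at hy
  obtain ⟨i, hi, e1⟩ := hy
  have h := allR_spec chk i (Nat.zero_le _) hi
  simp only [Bool.and_eq_true, Bool.not_eq_true', Nat.blt_eq] at h
  obtain ⟨h1, h2, h3⟩ := h
  have h4 : ((g0 • y : LL) : GolayPt → ℤ) = gmap 2 r_g y.1 := toCo_apply c_g y
  rw [e1, gmap_actY c_g.dpos c_g.rowsOK h1, e] at h4
  rw [e1] at h4
  have h5 := CoT100.tab.inj hi h2 h4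
  rw [← h5] at h3
  have h6 : Nat.beq i i = true := by simp
  rw [h6] at h3
  exact Bool.noConfusion h3

theorem g0_ne : g0 ≠ 1 := by
  intro h
  apply no_fix z0 (mem_W100.2 z0_Q)
  rw [h, one_smul]

theorem g0_order : orderOf g0 = 2 := orderOf_eq_prime g0_sq g0_ne

end Cfsg.Agent.Lib.CoInvL
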