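import Cfsg.Agent.Lib.CoL
set_option autoImplicit false
set_option linter.unusedVariables false
set_option maxRecDepth 100000

namespace Cfsg.Agent.Lib.CoL3
open Cfsg.Agent.Lib.CoLetter Cfsg.Agent.Lib.CoCert Cfsg.Agent.Lib.CoTree Cfsg.Agent.Lib.CoL

/-- rows -/
noncomputable def r_e1 : List (List ℕ) := [[nat_lit 0, nat_lit 2, nat_lit 0x23, nat_lit 0x2d], [nat_lit 0, nat_lit 2, nat_lit 0x22, nat_lit 0x2c], [nat_lit 4, nat_lit 0x18, nat_lit 0x27, nat_lit 0x29], [nat_lit 6, nat_lit 9, nat_lit 0x11, nat_lit 0x24], [nat_lit 0xe, nat_lit 0x15, nat_lit 0x17, nat_lit 0x2e], [nat_lit 0xf, nat_lit 0x15, nat_lit 0x17, nat_lit 0x2f], [nat_lit 0xb, nat_lit 0x12, nat_lit 0x1f, nat_lit 0x20], [nat_lit 6, nat_lit 9, nat_lit 0x10, nat_lit 0x25], [nat_lit 7, nat_lit 9, nat_lit 0x10, nat_lit 0x24], [nat_lit 0xc, nat_lit 0x1b, nat_lit 0x1c, nat_lit 0x2b], [nat_lit 5, nat_lit 0x19, nat_lit 0x27, nat_lit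 0x29], [nat_lit 1, nat_lit 2, nat_lit 0x23, nat_lit 0x2c], [nat_lit 0xf, nat_lit 0x14, nat_lit 0x17, nat_lit 0x2e], [nat_lit 4, nat_lit 0x19, nat_lit 0x26, nat_lit 0x29], [nat_lit 1, nat_lit 2, nat_lit 0x22, nat_lit 0x2d], [nat_lit 0xb, nat_lit 0x13, nat_lit 0x1e, nat_lit 0x20], [nat_lit 0xa, nat_lit 0x12, nat_lit 0x1e, nat_lit 0x20], [nat_lit 0xc, nat_lit 0x1a, nat_lit 0x1c, nat_lit 0x2a], [nat_lit 0xc, nat_lit 0x1a, nat_lit 0x1d, nat_lit 0x2b], [nat_lit 5, nat_lit 0x18, nat_lit 0x26, nat_lit 0x29], [nat_lit 0xc, nat_lit 0x1b, nat_lit 0x1d, nat_lit 0x2a], [nat_lit 7, nat_lit 9, nat_lit 0x11, nat_lit 0x25], [nat_lit 0xe, nat_lit 0x14, nat_lit 0x17, nat_lit 0x2f], [nat_lit 0xa, nat_lit 0x13, nat_lit 0x1f, nat_lit 0x20]]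
/-- rows -/
noncomputable def r'_e1 : List (List ℕ) := [[nat_lit 0, nat_lit 2, nat_lit 0x17, nat_lit 0x1d], [nat_lit 0, nat_lit 2, nat_lit 0x16, nat_lit 0x1c], [nat_lit 4, nat_lit 0x15, nat_lit 0x1a, nat_lit 0x27], [nat_lit 6, nat_lit 0xe, nat_lit 0x11, nat_lit 0x2b], [nat_lit 7, nat_lit 0xf, nat_lit 0x11, nat_lit 0x2b], [nat_lit 0xd, nat_lit 0x1f, nat_lit 0x20, nat_lit 0x2e], [nat_lit 0x12, nat_lit 0x22, nat_lit 0x24, nat_lit 0x28], [nat_lit 8, nat_lit 0xb, nat_lit 0x19, nat_lit 0x2c], [nat_lit 7, nat_lit 0xe, nat_lit 0x10, nat_lit 0x2b], [nat_lit 0xc, nat_lit 0x1f, nat_lit 0x20, nat_lit 0x2f], [nat_lit 9, nat_lit 0xb, nat_lit 0x18, nat_lit 0x2c], [nat_lit 9, nat_lit 0xb, nat_lit 0x19, nat_lit 0x2d], [nat_lit 4, nat_lit 0x15, nat_lit 0x1b, nat_lit 0x26], [nat_lit 0x13, nat_lit 0x22, nat_lit 0x24, nat_lit 0x29], [nat_lit 0x12, nat_lit 0x22, nat_lit 0x25, nat_lit 0x29], [nat_lit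 0xd, nat_lit 0x1e, nat_lit 0x20, nat_lit 0x2f], [nat_lit 0xc, nat_lit 0x1e, nat_lit 0x20, nat_lit 0x2e], [nat_lit 1, nat_lit 2, nat_lit 0x17, nat_lit 0x1c], [nat_lit 6, nat_lit 0xf, nat_lit 0x10, nat_lit 0x2b], [nat_lit 5, nat_lit 0x15, nat_lit 0x1a, nat_lit 0x26], [nat_lit 5, nat_lit 0x15, nat_lit 0x1b, nat_lit 0x27], [nat_lit 0x13, nat_lit 0x22, nat_lit 0x25, nat_lit 0x28], [nat_lit 1, nat_lit 2, nat_lit 0x16, nat_lit 0x1d], [nat_lit 8, nat_lit 0xb, nat_lit 0x18, nat_lit 0x2d]]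
/-- table -/
noncomputable def y_e1_R : ℕ := nat_lit 0x8be2f7be317c62f8bdf17b62f8be2f7c6318c62f8be6f7c6318c5f18be318c5f17c6317be6f7c5f18c5ef8bdf18c6317be2f8b6317be2f8c5f18be3184250841ce83a528420e94210842108be2f8c5ef6be317bdf17c5ef8c5f17be6f7c62f7bdef8be317c5f17c5ef842108420e84a109420e74a4e842108421083a12841d084a4e93a10842108c5ef7be318c5f18c66f7be2f8be2f8c6337c62f7c62f8c5f18c5f18be31849d284210949d084210742107421083a507421074250841d08421084a127be318be317cdef8c62f8be2f8c5ef83a528421083a1083a10849d2842107c5f17c62f8be2f7ce2f7c5f17c631742128421083a1094a0e84250841d094a108421084a1283a1084a1083a508c6317c62f8be718c5ef8c62f8be31742108421093a1084a4e83a1284210842108420e839d08421074a10749d083a507421083a509420e84250842107c5ef8be318c5af8c62f7be2f7c5ef7be317c62f7b62f8c5ef7c5f17c5f1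
/-- table -/
noncomputable def y_e1 (i : ℕ) : ℕ := Nat.land (Nat.shiftRight y_e1_R (Nat.mul (nat_lit 0x78) i)) (nat_lit 0xffffffffffffffffffffffffffffff)
/-- table -/
noncomputable def z_e1_R : ℕ := nat_lit 0x6c62f8be2f8be317bdef7c5f17c62f7bdef8bdf17c6319c6318bdef8be31741ce841d08421093a508420e842107b62f7bdf17bdf18c62f8be2f8be317be2f7c5ef7c5f18c5ef8b6318bdf1841ce841ce742108421074252842108421083a10741d084a128421284a0e94a108424e842108424e94212842107be337c6318c5ef7bdef7bdef8be2f7be317c6718be2f7be2f8c5f18be2f74a1083a1074210942508420e842129c6317be318be2f7be318c5ef7bdf17c5ef7bdef7c5f18bdef7be317ce3184a128425084a108420e741d08420e84210839d2741d284a1084250842108bdf17bdf17c62f8be319bdef8c631841d284210841d08420e939d0841d08424e84250842108425084a5083a127420e84210842109424e93a108421283a128421284210841d0939d0942109bdf17bdef7bdef7c6318be317c5ef7421084210841d28420e93a1284a1094212842509420e74210841d08420e841d0839d0741d08421093a1084a10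
/-- table -/
noncomputable def z_e1 (i : ℕ) : ℕ := Nat.land (Nat.shiftRight z_e1_R (Nat.mul (nat_lit 0x78) i)) (nat_lit 0xffffffffffffffffffffffffffffff)
/-- the letter -/
theorem c_e1 : LCert bT cT 2 2 r_e1 r'_e1 y_e1 z_e1 := cert_of basis_ok (by decide +kernel)
/-- rows -/
noncomputable def r_e2 : List (List ℕ) := [[nat_lit 0, nat_lit 2, nat_lit 5, nat_lit 7], [nat_lit 0, nat_lit 2, nat_lit 4, nat_lit 6], [nat_lit 1, nat_lit 2, nat_lit 4, nat_lit 7], [nat_lit 0x10, nat_lit 0x1e, nat_lit 0x21, nat_lit 0x27], [nat_lit 0xa, nat_lit 0x1d, nat_lit 0x22, nat_lit 0x2f], [nat_lit 9, nat_lit 0xe, nat_lit 0x14, nat_lit 0x19], [nat_lit 0xa, nat_lit 0x1c, nat_lit 0x23, nat_lit 0x2f], [nat_lit 0x1a, nat_lit 0x25, nat_lit 0x28, nat_lit 0x2b], [nat_lit 1, nat_lit 2, nat_lit 5, nat_lit 6], [nat_lit 0x1a, nat_lit 0x24, nat_lit 0x28, nat_lit 0x2a], [nat_lit 8, nat_lit 0xe, nat_lit 0x15, nat_lit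 0x19], [nat_lit 0xd, nat_lit 0x12, nat_lit 0x16, nat_lit 0x2d], [nat_lit 0xc, nat_lit 0x13, nat_lit 0x16, nat_lit 0x2d], [nat_lit 0x1a, nat_lit 0x24, nat_lit 0x29, nat_lit 0x2b], [nat_lit 0xb, nat_lit 0x1c, nat_lit 0x22, nat_lit 0x2f], [nat_lit 0x11, nat_lit 0x1e, nat_lit 0x20, nat_lit 0x27], [nat_lit 0x10, nat_lit 0x1e, nat_lit 0x20, nat_lit 0x26], [nat_lit 0x1a, nat_lit 0x25, nat_lit 0x29, nat_lit 0x2a], [nat_lit 0xc, nat_lit 0x12, nat_lit 0x16, nat_lit 0x2c], [nat_lit 0x11, nat_lit 0x1e, nat_lit 0x21, nat_lit 0x26], [nat_lit 0xb, nat_lit 0x1d, nat_lit 0x23, nat_lit 0x2f], [nat_lit 9, nat_lit 0xe, nat_lit 0x15, nat_lit 0x18], [nat_lit 8, nat_lit 0xe, nat_lit 0x14, nat_lit 0x18], [nat_lit 0xd, nat_lit 0x13, nat_lit 0x16, nat_lit 0x2c]]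
/-- rows -/
noncomputable def r'_e2 : List (List ℕ) := [[nat_lit 0, nat_lit 2, nat_lit 5, nat_lit 0x11], [nat_lit 0, nat_lit 2, nat_lit 4, nat_lit 0x10], [nat_lit 1, nat_lit 2, nat_lit 4, nat_lit 0x11], [nat_lit 1, nat_lit 2, nat_lit 5, nat_lit 0x10], [nat_lit 0xb, nat_lit 0x14, nat_lit 0x2b, nat_lit 0x2c], [nat_lit 8, nat_lit 0xc, nat_lit 0x1d, nat_lit 0x29], [nat_lit 0x17, nat_lit 0x18, nat_lit 0x24, nat_lit 0x2f], [nat_lit 0xa, nat_lit 0x14, nat_lit 0x2a, nat_lit 0x2c], [nat_lit 6, nat_lit 0x1f, nat_lit 0x20, nat_lit 0x27], [nat_lit 0x16, nat_lit 0x19, nat_lit 0x24, nat_lit 0x2f], [nat_lit 0xa, nat_lit 0x15, nat_lit 0x2b, nat_lit 0x2c], [nat_lit 0x16, nat_lit 0x18, nat_lit 0x24, nat_lit 0x2e], [nat_lit 0xb, nat_lit 0x15, nat_lit 0x2a, nat_lit 0x2c], [nat_lit 0xe, nat_lit 0x12, nat_lit 0x1a, nat_lit 0x22], [nat_lit 9, nat_lit 0xc, nat_lit 0x1c, nat_lit 0x29], [nat_lit 6, nat_lit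 0x1e, nat_lit 0x20, nat_lit 0x26], [nat_lit 7, nat_lit 0x1e, nat_lit 0x20, nat_lit 0x27], [nat_lit 8, nat_lit 0xd, nat_lit 0x1c, nat_lit 0x29], [nat_lit 0xf, nat_lit 0x12, nat_lit 0x1a, nat_lit 0x23], [nat_lit 7, nat_lit 0x1f, nat_lit 0x20, nat_lit 0x26], [nat_lit 0xe, nat_lit 0x12, nat_lit 0x1b, nat_lit 0x23], [nat_lit 0xf, nat_lit 0x12, nat_lit 0x1b, nat_lit 0x22], [nat_lit 0x17, nat_lit 0x19, nat_lit 0x24, nat_lit 0x2e], [nat_lit 9, nat_lit 0xd, nat_lit 0x1d, nat_lit 0x29]]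
/-- table -/
noncomputable def y_e2_R : ℕ := nat_lit 0x93a0e94210842108425084a1284a107be318c6317c6317c5ef7be6f7be317bdf17c6317be318c62f7c6717be2f8421084210841d07420e8424e73a508bdf18be2f7bdef7bdaf8be2f7be2f842108420e73a5093a0e84210742108425084a0e842108420e9420e849d0841d28420e84a1084212841d074a108420e84210941d0841d284a1093a10841ce841d094a107421284a10842107be317c62f7bdf17c6317be717c6317cdf17bdf18c5f17c6317bdf18c5f183a108424e83a109420e8421084a507be2f8c62f8c5f18bdf37c5f18c5ef8425084a10839d08420e83a0e742107c5f17c62f8c6317cdef7be2f8be317bdf38c62f8bdef7c5f17c5ef8bdef7c5ef7bdf17c5ef7be318be316c631839d28425084210742108425074250842109421094210749d08420e93a1084a127420e842108420e841ce841d08b5f18c62f8bdef7c5ef8c5ef7c62f84a108421094a1084212849d0941d08421284a4e83a1084a0e8420e84210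
/-- table -/
noncomputable def y_e2 (i : ℕ) : ℕ := Nat.land (Nat.shiftRight y_e2_R (Nat.mul (nat_lit 0x78) i)) (nat_lit 0xffffffffffffffffffffffffffffff)
/-- table -/
noncomputable def z_e2_R : ℕ := nat_lit 0x8420e842108421084a4e941ce84a108c5f18bdef8ce317be2f7be317be318c5f18c5ef8c62f7be718be2f7be2f7c5f18bdef8c5f17bdf18bdf16be31942108420e841d0741d083a12742109421094a0e7420e9421084210742107bdf18c5f16c6318c5ef7bdf17c5ef7be2f8c62f7bdf17be317c6318cdf17be316be318c5ef7c5f18bdef8bdf16c62f7be318c5ef7c6318c5f18c5f18c5f18bdaf7c6317be318be2f8c6317421083a1283a1083a1084a50942109421084a10742108421083a0e74a5083a507421084a10842108420e949d084212941d084212941d083a10742107c5f17be317c6317be317be717be318421274a10841d27421084250841d07c62f9bdef8be2f7bdf18c5f18c6318c5ef8c5ef8c5f16be318be317c6317c5f16be318c5f17c5ef7be317bdf17bdf18c6316bdf18bdf17c6317bdef8421084a10841d274a1083a1074a1073a1074252842108421084a10941d0841d284a10742128421083a5074210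
/-- table -/
noncomputable def z_e2 (i : ℕ) : ℕ := Nat.land (Nat.shiftRight z_e2_R (Nat.mul (nat_lit 0x78) i)) (nat_lit 0xffffffffffffffffffffffffffffff)
/-- the letter -/
theorem c_e2 : LCert bT cT 2 2 r_e2 r'_e2 y_e2 z_e2 := cert_of basis_ok (by decide +kernel)

end Cfsg.Agent.Lib.CoL3
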