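import Cfsg.Agent.Lib.CoL2
set_option autoImplicit false
set_option linter.unusedVariables false
set_option maxRecDepth 100000

namespace Cfsg.Agent.Lib.CoT22
open Cfsg.Agent.Lib.CoLetter Cfsg.Agent.Lib.CoCert Cfsg.Agent.Lib.CoTree Cfsg.Agent.Lib.PChain Cfsg.Agent.Lib.CoL Cfsg.Agent.Lib.CoL2

/-- table -/
noncomputable def vT_R : ℕ := nat_lit 0x94a0e8425094a10842108420e842508be2f8be318c6317be318c62f8be718be2f7c6318c62f7c5f17c5ef7be718bdef8c6318c6318c5f17c62f8c66f8bdef7be318c62f8be318c5ef7c66f8424e8421284a50942108420e842508421084210852108421084210842908420e9425084a508421284210742508420e84a1094a5083a1084a10842508420e8425284a1284210849d0842508420e8425284a0e8421084a50842508420e8421294a108425274210842508420e8421294a10841d294210842508420e83a1094a5084a1084a10842508420e7425084a508421284210942508420c8421084210842108421084290841ce8421284a50742108420e842507c62f8be318c62f7bdf17c5ef8c66f7c62f7c6318c6317c6318c62f7c66f7c5ef8c6318c62f8c6318c5ef8be717c5ef7be318c6318bdf17c62f7be7173a0e8425094a10842108420e84250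
/-- table -/
noncomputable def vT (i : ℕ) : ℕ := Nat.land (Nat.shiftRight vT_R (Nat.mul (nat_lit 0x78) i)) (nat_lit 0xffffffffffffffffffffffffffffff)
/-- table -/
noncomputable def rT_R : ℕ := nat_lit 0x1800020c0000aa00004510002708002480000f220002b10001b080027040007a200042100002000029000007620008210003c00000b400009e00006e10002f880022400005
/-- table -/
noncomputable def rT (i : ℕ) : ℕ := Nat.land (Nat.shiftRight rT_R (Nat.mul (nat_lit 0x19) i)) (nat_lit 0x1ffffff)
/-- denominators -/
noncomputable def dT (c : ℕ) : ℕ := (Bool.rec (motive := fun _ => ℕ) (nat_lit 2) (nat_lit 2) (Nat.blt c (nat_lit 1)))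
/-- rows -/
noncomputable def lT (c : ℕ) : List (List ℕ) := (Bool.rec (motive := fun _ => List (List ℕ)) r_k2 r_k1 (Nat.blt c (nat_lit 1)))
/-- the tree -/
noncomputable def D : TD where
  n := nat_lit 0x16
  m := nat_lit 2
  s := nat_lit 0x841ce8421284a50742108420e84250
  V := vT
  R := rT
  dd := dT
  rr := lT

theorem ok_0 : allR (nodeY D) 0 22 = true := by decide +kernel
theorem ok : RangeOK (nodeY D) 0 22 := (RangeOK.of_allR ok_0)
theorem tab : Tab vT 22 := tab_of (by decide +kernel) (by decide +kernel)

end Cfsg.Agent.Lib.CoT22
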