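import Mathlib
import Cfsg.Agent.Lib.H1Cop

set_option autoImplicit false
set_option linter.style.haveILetI false
set_option linter.unusedSectionVars false

/-! Coprime action on abelian groups: `[K, A] ∩ C_K(A) = 1`. -/

namespace Cfsg.Agent.Lib.CopAb

open scoped commutatorElement

variable {G : Type*} [Group G] [Finite G]

theorem commutator_inf_fixed {A K : Subgroup G} (hAK : A ≤ Subgroup.normalizer (K : Set G))
    (hKc : ∀ a ∈ K, ∀ b ∈ K, a * b = b * a) (hcop : (Nat.card A).Coprime (Nat.card K))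
    {w : G} (hw : w ∈ ⁅K, A⁆) (hfix : ∀ a ∈ A, a * w * a⁻¹ = w) : w = 1 := by
  classical
  letI : Fintype ↥A := Fintype.ofFinite _
  letI : CommGroup ↥K := { (inferInstance : Group ↥K) with
    mul_comm := fun a b => Subtype.ext (hKc a a.2 b b.2) }
  -- conjugation
  have hconj : ∀ (a : ↥A) (k : ↥K), (a : G) * k * (a : G)⁻¹ ∈ K := fun a k =>
    (Subgroup.mem_normalizer_iff.mp (hAK a.2) k).mp k.2
  let c : ↥A → ↥K →* ↥K := fun a => MonoidHom.mk' (fun k => ⟨(a : G) * k * (a : G)⁻¹, hconj a k⟩) (by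
    intro x y
    apply Subtype.ext
    show (a : G) * (x * y : ↥K) * (a : G)⁻¹ = _
    show (a : G) * ((x : G) * y) * (a : G)⁻¹ = (a : G) * x * (a : G)⁻¹ * ((a : G) * y * (a : G)⁻¹)
    group)
  have hcc : ∀ (a b : ↥A) (k : ↥K), c a (c b k) = c (a * b) k := by
    intro a b k
    apply Subtype.ext
    show (a : G) * ((b : G) * k * (b : G)⁻¹) * (a : G)⁻¹ = ((a : G) * b) * k * ((a : G) * b)⁻¹
    group
  -- the norm
  let N : ↥K →* ↥K := ∏ a : ↥A, c a
  have hNapply : ∀ k, N k = ∏ a : ↥A, c a k := by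
    intro k
    simp only [N, MonoidHom.finsetProd_apply]
  have hNinv : ∀ (b : ↥A) (k : ↥K), N (c b k) = N k := by
    intro b k
    rw [hNapply, hNapply]
    have h1 : ∀ a : ↥A, c a (c b k) = c (a * b) k := fun a => hcc a b k
    simp only [h1]
    exact Equiv.prod_comp (Equiv.mulRight b) (fun a => c a k)
  have hker : ⁅K, A⁆ ≤ N.ker.map K.subtype := by
    rw [Subgroup.commutator_le]
    intro k hk a ha
    refine ⟨⟨k, hk⟩ * (c ⟨a, ha⟩ ⟨k, hk⟩)⁻¹, ?_, ?_⟩
    · exact MonoidHom.mem_ker.mpr (by rw [map_mul, map_inv, hNinv, mul_inv_cancel])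
    · show (k : G) * ((a : G) * k * (a : G)⁻¹)⁻¹ = ⁅k, a⁆
      simp only [commutatorElement_def]
      group
  obtain ⟨w₁, hw₁, rfl⟩ := hker hw
  have hfix' : ∀ a : ↥A, c a w₁ = w₁ := by
    intro a
    apply Subtype.ext
    exact hfix a a.2
  have h2 : N w₁ = w₁ ^ Fintype.card ↥A := by
    rw [hNapply]
    simp only [hfix']
    rw [Finset.prod_const, Finset.card_univ]
  have h3 : w₁ ^ Nat.card ↥A = 1 := by
    rw [Nat.card_eq_fintype_card, ← h2]
    exact hw₁
  have h4 : w₁ ^ Nat.card ↥K = 1 := pow_card_eq_one'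
  have h5 : orderOf w₁ = 1 :=
    Nat.eq_one_of_dvd_coprimes hcop (orderOf_dvd_of_pow_eq_one h3) (orderOf_dvd_of_pow_eq_one h4)
  rw [orderOf_eq_one_iff] at h5
  rw [h5]
  rfl

end Cfsg.Agent.Lib.CopAb
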