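import Cfsg.Agent.Lib.PNilp
import Cfsg.Agent.Lib.PGrp2
import Cfsg.Agent.Lib.Herstein
import Cfsg.Agent.Lib.FGSBasic
import Cfsg.Agent.Lib.H1Frat
import Cfsg.Agent.Lib.H1Prod
import Cfsg.Agent.Lib.CentralSylow
import Cfsg.Agent.Lib.H1SZ

set_option autoImplicit false
set_option linter.style.haveILetI false

/-! Coprime automorphisms of `p`-groups: critical subgroups, the `A × B` lemma. -/

namespace Cfsg.Agent.Lib.CritAut

open Subgroup
open scoped commutatorElement Pointwise

section TypeLevel

variable {Q : Type*} [Group Q] [Finite Q] {p : ℕ} [hp : Fact p.Prime]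

theorem pow_comm_class_two {a b c : Q} (hc : ∀ v : Q, v * c = c * v) (hab : b * a = a * b * c) (k : ℕ) :
    b ^ k * a = a * b ^ k * c ^ k := by
  induction k with
  | zero => simp
  | succ k ih =>
    calc b ^ (k + 1) * a = b ^ k * (b * a) := by rw [pow_succ]; group
      _ = b ^ k * (a * b * c) := by rw [hab]
      _ = (b ^ k * a) * b * c := by group
      _ = (a * b ^ k * c ^ k) * b * c := by rw [ih]
      _ = a * b ^ k * (c ^ k * b) * c := by group
      _ = a * b ^ k * (b * c ^ k) * c := by
        have : c ^ k * b = b * c ^ k := by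
          have hcb : Commute c b := (hc b).symm
          exact (hcb.pow_left k)
        rw [this]
      _ = a * b ^ (k + 1) * c ^ (k + 1) := by
        rw [pow_succ b, pow_succ c]; group

/-- Class-two power formula. -/
theorem pow_class_two {a b c : Q} (hc : ∀ v : Q, v * c = c * v) (hab : b * a = a * b * c) (n : ℕ) :
    (a * b) ^ n = a ^ n * b ^ n * c ^ (n * (n - 1) / 2) := by
  have hbn := pow_comm_class_two hc hab
  induction n with
  | zero => simp
  | succ n ih =>
    have e : (n + 1) * (n + 1 - 1) / 2 = n * (n - 1) / 2 + n := by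
      have h1 : (n + 1) * (n + 1 - 1) = n * (n - 1) + 2 * n := by
        cases n with
        | zero => simp
        | succ m =>
          simp only [Nat.add_sub_cancel]
          ring
      rw [h1]
      have h2 : n * (n - 1) + 2 * n = 2 * n + n * (n - 1) := by ring
      rw [h2, Nat.mul_add_div (by norm_num : 0 < 2) n (n * (n - 1))]
      ring
    rw [pow_succ, ih, e]
    set C := c ^ (n * (n - 1) / 2) with hC
    have hCc : ∀ v : Q, v * C = C * v := fun v => by
      have hcv : Commute c v := (hc v).symm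
      exact ((hcv.pow_left _).symm).eq
    have hcn : ∀ v : Q, v * c ^ n = c ^ n * v := fun v => by
      have hcv : Commute c v := (hc v).symm
      exact ((hcv.pow_left _).symm).eq
    calc a ^ n * b ^ n * C * (a * b) = a ^ n * (b ^ n * (C * a)) * b := by group
      _ = a ^ n * (b ^ n * (a * C)) * b := by rw [hCc a]
      _ = a ^ n * (b ^ n * a) * C * b := by group
      _ = a ^ n * (a * b ^ n * c ^ n) * C * b := by rw [hbn]
      _ = a ^ n * a * b ^ n * c ^ n * (C * b) := by group
      _ = a ^ n * a * b ^ n * c ^ n * (b * C) := by rw [hCc b]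
      _ = a ^ n * a * b ^ n * (c ^ n * b) * C := by group
      _ = a ^ n * a * b ^ n * (b * c ^ n) * C := by rw [hcn b]
      _ = a ^ (n + 1) * b ^ (n + 1) * C * c ^ n := by
        rw [pow_succ a, pow_succ b]
        have := hCc (c ^ n)
        calc a ^ n * a * b ^ n * (b * c ^ n) * C = a ^ n * a * (b ^ n * b) * (c ^ n * C) := by group
          _ = a ^ n * a * (b ^ n * b) * (C * c ^ n) := by rw [this]
          _ = _ := by group
      _ = a ^ (n + 1) * b ^ (n + 1) * c ^ (n * (n - 1) / 2 + n) := by
        rw [pow_add c, ← hC]; group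

/-- If a coprime automorphism moves something and fixes all proper invariant subgroups pointwise, then
the elements `u⁻¹ σ(u)` generate. -/
theorem closure_top (hQ : IsPGroup p Q) (σ : MulAut Q) {r : ℕ} (hr : r.Coprime p) (hσ : σ ^ r = 1)
    (hne : ∃ q, σ q ≠ q)
    (hmin : ∀ H : Subgroup Q, H ≠ ⊤ → (∀ h ∈ H, σ h ∈ H) → ∀ h ∈ H, σ h = h) (v : Q) :
    v ∈ closure {d | ∃ u : Q, d = u⁻¹ * σ u} := by
  set D : Subgroup Q := closure {d | ∃ u : Q, d = u⁻¹ * σ u} with hD
  by_contra hDne
  have hDne' : D ≠ ⊤ := fun h => hDne (by rw [h]; trivial)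
  have hinv : ∀ h ∈ D, σ h ∈ D := by
    intro h hh
    induction hh using closure_induction with
    | mem d hd =>
      obtain ⟨u, rfl⟩ := hd
      exact subset_closure ⟨σ u, by simp⟩
    | one => simp [D.one_mem]
    | mul a b _ _ ha hb => rw [map_mul]; exact D.mul_mem ha hb
    | inv a _ ha => rw [map_inv]; exact D.inv_mem ha
  have hfix := hmin D hDne' hinv
  obtain ⟨q, hq⟩ := hne
  apply hq
  set d := q⁻¹ * σ q with hd
  have hdD : d ∈ D := subset_closure ⟨q, rfl⟩
  have hσd : σ d = d := hfix d hdD
  have hσq : σ q = q * d := by rw [hd]; group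
  have hpow : ∀ k : ℕ, (σ ^ k) q = q * d ^ k := by
    intro k
    induction k with
    | zero => simp
    | succ k ih =>
      rw [pow_succ', MulAut.mul_apply, ih, map_mul, hσq, map_pow, hσd, mul_assoc, ← pow_succ']
  have h1 := hpow r
  rw [hσ] at h1
  have h2 : d ^ r = 1 := by
    have : q = q * d ^ r := h1
    simpa using this.symm
  obtain ⟨k, hk⟩ := hQ d
  have h3 : orderOf d ∣ Nat.gcd r (p ^ k) :=
    Nat.dvd_gcd (orderOf_dvd_of_pow_eq_one h2) (orderOf_dvd_of_pow_eq_one hk)
  have h4 : Nat.gcd r (p ^ k) = 1 := Nat.Coprime.pow_right k hr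
  rw [h4, Nat.dvd_one, orderOf_eq_one_iff] at h3
  rw [hσq, h3, mul_one]

/-- Critical structure: the Frattini subgroup is fixed and central, and exponent is small. -/
theorem crit_type (hQ : IsPGroup p Q) (σ : MulAut Q) {r : ℕ} (hr : r.Coprime p) (hσ : σ ^ r = 1)
    (hne : ∃ q, σ q ≠ q)
    (hmin : ∀ H : Subgroup Q, H ≠ ⊤ → (∀ h ∈ H, σ h ∈ H) → ∀ h ∈ H, σ h = h) :
    (∀ z ∈ frattini Q, σ z = z ∧ ∀ v : Q, v * z = z * v) ∧
      ∀ x : Q, x ^ p = 1 ∨ (p = 2 ∧ x ^ 4 = 1) := by
  classical
  have hprime : p.Prime := hp.out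
  have hcl := closure_top hQ σ hr hσ hne hmin
  set D : Subgroup Q := closure {d | ∃ u : Q, d = u⁻¹ * σ u} with hD
  set F : Subgroup Q := frattini Q with hF
  have hFne : F ≠ ⊤ := by
    intro htop
    obtain ⟨q, hq⟩ := hne
    have hnon : q ≠ 1 := by
      rintro rfl
      simp at hq
    haveI : Nontrivial Q := ⟨⟨q, 1, hnon⟩⟩
    obtain ⟨M, hM⟩ : ∃ M : Subgroup Q, IsCoatom M := by
      obtain h | ⟨M, hM, -⟩ := eq_top_or_exists_le_coatom (⊥ : Subgroup Q)
      · exact absurd h bot_ne_top
      · exact ⟨M, hM⟩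
    apply hM.1
    rw [eq_top_iff]
    intro v _
    have hv : v ∈ F := by rw [htop]; trivial
    exact Cfsg.Agent.Lib.H1Frat.mem_frattini.1 hv M hM
  have hFinv : ∀ h ∈ F, σ h ∈ F := by
    intro h hh
    have h1 : F.comap σ.toMonoidHom = F := (characteristic_iff_comap_eq.mp inferInstance) σ
    have h2 : h ∈ F.comap σ.toMonoidHom := by rw [h1]; exact hh
    exact h2
  have hFfix := hmin F hFne hFinv
  have hFnormal : F.Normal := inferInstance
  have hcent : ∀ z ∈ F, ∀ v : Q, v * z = z * v := by
    intro z hz v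
    have hv := hcl v
    have hC : D ≤ centralizer ({z} : Set Q) := by
      rw [hD, closure_le]
      rintro _ ⟨u, rfl⟩
      rw [SetLike.mem_coe, mem_centralizer_singleton_iff]
      have h1 : u * z * u⁻¹ ∈ F := hFnormal.conj_mem z hz u
      have h2 := hFfix _ h1
      rw [map_mul, map_mul, map_inv, hFfix z hz] at h2
      have h3 : σ u * z = u * z * u⁻¹ * σ u := by
        rw [← h2]; group
      calc u⁻¹ * σ u * z = u⁻¹ * (σ u * z) := by group
        _ = u⁻¹ * (u * z * u⁻¹ * σ u) := by rw [h3]
        _ = z * (u⁻¹ * σ u) := by group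
    exact mem_centralizer_singleton_iff.mp (hC hv)
  refine ⟨fun z hz => ⟨hFfix z hz, hcent z hz⟩, ?_⟩
  have hpowF : ∀ x : Q, x ^ p ∈ F := fun x => Cfsg.Agent.Lib.PGrp.pow_mem_frattini hQ x
  have hcF : ∀ a b : Q, (a * b)⁻¹ * (b * a) ∈ F := by
    intro a b
    have h1 : ⁅b⁻¹, a⁻¹⁆ ∈ commutator Q := by
      rw [_root_.commutator_def]
      exact commutator_mem_commutator (mem_top _) (mem_top _)
    have h2 := Cfsg.Agent.Lib.PGrp.commutator_le_frattini hQ h1
    have h3 : (a * b)⁻¹ * (b * a) = ⁅b⁻¹, a⁻¹⁆ := by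
      rw [commutatorElement_def]; group
    rw [h3]; exact h2
  -- a general principle: a multiplicative power map trivial on fixed elements is trivial
  have hexp : ∀ n : ℕ, (∀ a b : Q, (a * b) ^ n = a ^ n * b ^ n) → (∀ u : Q, u ^ n ∈ F) → ∀ x : Q, x ^ n = 1 := by
    intro n hmul hF' x
    have hx := hcl x
    induction hx using closure_induction with
    | mem d hd =>
      obtain ⟨u, rfl⟩ := hd
      rw [hmul, inv_pow, ← map_pow, hFfix _ (hF' u), inv_mul_cancel]
    | one => simp
    | mul a b _ _ ha hb => rw [hmul, ha, hb, one_mul]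
    | inv a _ ha => rw [inv_pow, ha, inv_one]
  intro x
  by_cases hp2 : p = 2
  · right
    refine ⟨hp2, ?_⟩
    subst hp2
    have h4F : ∀ u : Q, u ^ 4 ∈ F := by
      intro u
      have : u ^ 4 = (u ^ 2) ^ 2 := by rw [← pow_mul]
      rw [this]
      exact hpowF _
    refine hexp 4 ?_ h4F x
    intro a b
    set c := (a * b)⁻¹ * (b * a) with hc
    have hcc := hcent c (hcF a b)
    have hab : b * a = a * b * c := by rw [hc]; group
    have h1 := pow_class_two hcc hab 4
    have h2 : 4 * (4 - 1) / 2 = 6 := by norm_num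
    rw [h2] at h1
    have hc2 : c ^ 2 = 1 := by
      have h3 := pow_comm_class_two hcc hab 2
      have h4 : b ^ 2 * a = a * b ^ 2 := (hcent _ (hpowF b) a).symm
      rw [h4] at h3
      exact (mul_left_cancel (a := a * b ^ 2) (by rw [mul_one]; exact h3)).symm
    have hc6 : c ^ 6 = 1 := by
      have : c ^ 6 = (c ^ 2) ^ 3 := by rw [← pow_mul]
      rw [this, hc2, one_pow]
    rw [h1, hc6, mul_one]
  · left
    refine hexp p ?_ hpowF x
    intro a b
    set c := (a * b)⁻¹ * (b * a) with hc
    have hcc := hcent c (hcF a b)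
    have hab : b * a = a * b * c := by rw [hc]; group
    have h1 := pow_class_two hcc hab p
    have hcp : c ^ p = 1 := by
      have h3 := pow_comm_class_two hcc hab p
      have h4 : b ^ p * a = a * b ^ p := (hcent _ (hpowF b) a).symm
      rw [h4] at h3
      exact (mul_left_cancel (a := a * b ^ p) (by rw [mul_one]; exact h3)).symm
    obtain ⟨k, hk⟩ : Odd p := hprime.odd_of_ne_two hp2
    have h2 : p * (p - 1) / 2 = p * k := by
      have : p - 1 = 2 * k := by omega
      rw [this]
      rw [show p * (2 * k) = 2 * (p * k) by ring]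
      exact Nat.mul_div_cancel_left _ (by norm_num)
    rw [h2, pow_mul, hcp, one_pow, mul_one] at h1
    exact h1

end TypeLevel

section Ambient

variable {G : Type*} [Group G] [Finite G] {p : ℕ} [hp : Fact p.Prime]

/-- A subgroup of a `p`-subgroup `P` generated by its commutators with `P` is trivial. -/
theorem eq_bot_of_gen (P : Subgroup G) (hP : IsPGroup p P) (R : Subgroup G) (hRP : R ≤ P)
    (hgen : R ≤ closure {d | ∃ u ∈ R, ∃ w ∈ P, d = u⁻¹ * (w * u * w⁻¹)}) : R = ⊥ := by
  haveI : Group.IsNilpotent P := hP.isNilpotent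
  have key : ∀ i : ℕ, ∀ x ∈ R, ∃ h : x ∈ P, (⟨x, h⟩ : P) ∈ (⊤ : Subgroup P).lowerCentralSeries i := by
    intro i
    induction i with
    | zero =>
      intro x hx
      exact ⟨hRP hx, by simp⟩
    | succ i ih =>
      intro x hx
      have h1 : closure {d | ∃ u ∈ R, ∃ w ∈ P, d = u⁻¹ * (w * u * w⁻¹)} ≤
          ((⊤ : Subgroup P).lowerCentralSeries (i + 1)).map P.subtype := by
        rw [closure_le]
        rintro _ ⟨u, hu, w, hw, rfl⟩
        obtain ⟨hu', huγ⟩ := ih u hu
        have h2 : (⟨u, hu'⟩ : P)⁻¹ ∈ (⊤ : Subgroup P).lowerCentralSeries i := inv_mem huγ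
        refine ⟨⁅(⟨u, hu'⟩ : P)⁻¹, (⟨w, hw⟩ : P)⁆, ?_, ?_⟩
        · show _ ∈ (⊤ : Subgroup P).lowerCentralSeries (i + 1)
          rw [Subgroup.mem_lowerCentralSeries_succ_iff]
          exact Subgroup.subset_closure ⟨_, h2, _, mem_top _, rfl⟩
        · rw [commutatorElement_def]
          simp only [coe_subtype]
          push_cast
          group
      obtain ⟨y, hy, rfl⟩ := h1 (hgen hx)
      exact ⟨y.2, hy⟩
  obtain ⟨c, hc⟩ := _root_.nilpotent_iff_lowerCentralSeries.mp (inferInstance : Group.IsNilpotent P)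
  rw [eq_bot_iff]
  intro x hx
  obtain ⟨h, h2⟩ := key c x hx
  rw [hc] at h2
  have := (mem_bot.mp h2)
  exact mem_bot.mpr (congrArg Subtype.val this)

/-- Minimal critical subgroup. -/
theorem crit_exists (g : G) (hg : (orderOf g).Coprime p) (Q : Subgroup G) (hQ : IsPGroup p Q)
    (hgQ : g ∈ normalizer (Q : Set G)) (hgC : g ∉ centralizer (Q : Set G)) :
    ∃ R : Subgroup G, R ≤ Q ∧ g ∈ normalizer (R : Set G) ∧ g ∉ centralizer (R : Set G) ∧
      (R ≤ closure {d | ∃ u ∈ R, d = u⁻¹ * (g * u * g⁻¹)}) ∧
      (∀ x ∈ R, x ^ p = 1 ∨ (p = 2 ∧ x ^ 4 = 1)) ∧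
      (∀ T : Subgroup G, T ≤ R → T ≠ R → (∀ w ∈ T, g * w * g⁻¹ ∈ T) → ∀ w ∈ T, g * w = w * g) := by
  classical
  induction hn : Nat.card Q using Nat.strong_induction_on generalizing Q with
  | _ n ih =>
    by_cases hex : ∃ T : Subgroup G, T ≤ Q ∧ T ≠ Q ∧ g ∈ normalizer (T : Set G) ∧ g ∉ centralizer (T : Set G)
    · obtain ⟨T, hTQ, hTne, hgT, hgTC⟩ := hex
      have hlt : Nat.card T < n := by
        rw [← hn]
        apply lt_of_le_of_ne (Subgroup.card_le_of_le hTQ)
        intro h
        exact hTne (Subgroup.eq_of_le_of_card_ge hTQ h.ge)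
      obtain ⟨R, hRT, h⟩ := ih _ hlt T (hQ.to_le hTQ) hgT hgTC rfl
      exact ⟨R, hRT.trans hTQ, h⟩
    · push Not at hex
      let σ : MulAut Q := Q.normalizerMonoidHom ⟨g, hgQ⟩
      have hσa : ∀ q : Q, ((σ q : Q) : G) = g * q * g⁻¹ := fun q => rfl
      have hσ : σ ^ (orderOf g) = 1 := by
        show (Q.normalizerMonoidHom ⟨g, hgQ⟩) ^ (orderOf g) = 1
        rw [← map_pow]
        have : (⟨g, hgQ⟩ : normalizer (Q : Set G)) ^ orderOf g = 1 :=
          Subtype.ext (pow_orderOf_eq_one g)
        rw [this, map_one]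
      have hne : ∃ q, σ q ≠ q := by
        by_contra hall
        push Not at hall
        apply hgC
        rw [mem_centralizer_iff]
        intro q hq
        have h1 := congrArg Subtype.val (hall ⟨q, hq⟩)
        rw [hσa] at h1
        have h2 : g * q * g⁻¹ = q := h1
        calc q * g = (g * q * g⁻¹) * g := by rw [h2]
          _ = g * q := by group
      have hfix : ∀ T : Subgroup G, T ≤ Q → T ≠ Q → (∀ w ∈ T, g * w * g⁻¹ ∈ T) → ∀ w ∈ T, g * w = w * g := by
        intro T hTQ hTne hinv w hw
        have hgT : g ∈ normalizer (T : Set G) :=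
          Cfsg.Agent.Lib.Herstein.mem_normalizer_of_conj_le T g hinv
        have h1 := hex T hTQ hTne hgT
        exact (mem_centralizer_iff.mp h1 w hw).symm
      have hmin : ∀ H : Subgroup Q, H ≠ ⊤ → (∀ h ∈ H, σ h ∈ H) → ∀ h ∈ H, σ h = h := by
        intro H hH hinv h hh
        have hTQ : H.map Q.subtype ≤ Q := map_subtype_le H
        have hTne : H.map Q.subtype ≠ Q := by
          intro he
          apply hH
          rw [eq_top_iff]
          intro v _
          have hv : (v : G) ∈ H.map Q.subtype := by rw [he]; exact v.2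
          obtain ⟨w, hw, hwv⟩ := hv
          have : w = v := Subtype.ext hwv
          rwa [← this]
        have h1 := hfix _ hTQ hTne (by
          rintro _ ⟨w, hw, rfl⟩
          exact ⟨σ w, hinv w hw, rfl⟩) h ⟨h, hh, rfl⟩
        apply Subtype.ext
        rw [hσa, h1]
        group
      have hcl := closure_top hQ σ hg hσ hne hmin
      have hcr := (crit_type hQ σ hg hσ hne hmin).2
      refine ⟨Q, le_rfl, hgQ, hgC, ?_, ?_, hfix⟩
      · intro x hx
        have h1 := hcl ⟨x, hx⟩
        have h2 : (closure {d | ∃ u : Q, d = u⁻¹ * σ u}).map Q.subtype ≤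
            closure {d | ∃ u ∈ Q, d = u⁻¹ * (g * u * g⁻¹)} := by
          rw [map_le_iff_le_comap, closure_le]
          rintro _ ⟨u, rfl⟩
          apply Subgroup.subset_closure
          exact ⟨u, u.2, rfl⟩
        exact h2 ⟨⟨x, hx⟩, h1, rfl⟩
      · intro x hx
        rcases hcr ⟨x, hx⟩ with h | ⟨h1, h⟩
        · left
          simpa using congrArg Subtype.val h
        · right
          exact ⟨h1, by simpa using congrArg Subtype.val h⟩

/-- Thompson's `A × B` lemma for single elements. -/
theorem ab_lemma (y x : G) (hc : y * x = x * y) (hy : (orderOf y).Coprime p)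
    (hx : ∃ k, orderOf x = p ^ k) (Q : Subgroup G) (hQ : IsPGroup p Q)
    (hyQ : y ∈ normalizer (Q : Set G)) (hxQ : x ∈ normalizer (Q : Set G))
    (h : ∀ u ∈ Q, x * u = u * x → y * u = u * y) : y ∈ centralizer (Q : Set G) := by
  classical
  induction hn : Nat.card Q using Nat.strong_induction_on generalizing Q with
  | _ n ih =>
    have hconjy : ∀ u ∈ Q, y * u * y⁻¹ ∈ Q := fun u hu =>
      (mem_normalizer_iff.mp hyQ u).mp hu
    have hconjx : ∀ u ∈ Q, x * u * x⁻¹ ∈ Q := fun u hu =>
      (mem_normalizer_iff.mp hxQ u).mp hu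
    have hcomm : ∀ u : G, x * (y * u * y⁻¹) * x⁻¹ = y * (x * u * x⁻¹) * y⁻¹ := by
      intro u
      have h1 : x * y = y * x := hc.symm
      have h2 : y⁻¹ * x⁻¹ = (x * y)⁻¹ := by group
      have h3 : x⁻¹ * y⁻¹ = (y * x)⁻¹ := by group
      calc x * (y * u * y⁻¹) * x⁻¹ = (x * y) * u * (y⁻¹ * x⁻¹) := by group
        _ = (y * x) * u * (x⁻¹ * y⁻¹) := by rw [h2, h3, h1]
        _ = _ := by group
    -- proper invariant subgroups are centralized
    have hprop : ∀ T : Subgroup G, T ≤ Q → T ≠ Q → (∀ w ∈ T, y * w * y⁻¹ ∈ T) → (∀ w ∈ T, x * w * x⁻¹ ∈ T) →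
        ∀ w ∈ T, y * w = w * y := by
      intro T hTQ hTne hy' hx' w hw
      have hlt : Nat.card T < n := by
        rw [← hn]
        apply lt_of_le_of_ne (Subgroup.card_le_of_le hTQ)
        intro h
        exact hTne (Subgroup.eq_of_le_of_card_ge hTQ h.ge)
      have h1 := ih _ hlt T (hQ.to_le hTQ)
        (Cfsg.Agent.Lib.Herstein.mem_normalizer_of_conj_le T y hy')
        (Cfsg.Agent.Lib.Herstein.mem_normalizer_of_conj_le T x hx')
        (fun u hu => h u (hTQ hu)) rfl
      exact (mem_centralizer_iff.mp h1 w hw).symm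
    by_contra hne
    -- the subgroup `D = [Q, y]`
    set D : Subgroup G := closure {d | ∃ u ∈ Q, d = u⁻¹ * (y * u * y⁻¹)} with hD
    have hDQ : D ≤ Q := by
      rw [hD, closure_le]
      rintro _ ⟨u, hu, rfl⟩
      exact Q.mul_mem (Q.inv_mem hu) (hconjy u hu)
    have hDy : ∀ w ∈ D, y * w * y⁻¹ ∈ D := by
      intro w hw
      induction hw using closure_induction with
      | mem d hd =>
        obtain ⟨u, hu, rfl⟩ := hd
        refine subset_closure ⟨y * u * y⁻¹, hconjy u hu, by group⟩
      | one => simp [D.one_mem]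
      | mul a b _ _ ha hb =>
        have : y * (a * b) * y⁻¹ = (y * a * y⁻¹) * (y * b * y⁻¹) := by group
        rw [this]; exact D.mul_mem ha hb
      | inv a _ ha =>
        have : y * a⁻¹ * y⁻¹ = (y * a * y⁻¹)⁻¹ := by group
        rw [this]; exact D.inv_mem ha
    have hDx : ∀ w ∈ D, x * w * x⁻¹ ∈ D := by
      intro w hw
      induction hw using closure_induction with
      | mem d hd =>
        obtain ⟨u, hu, rfl⟩ := hd
        refine subset_closure ⟨x * u * x⁻¹, hconjx u hu, ?_⟩
        rw [← hcomm]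
        group
      | one => simp [D.one_mem]
      | mul a b _ _ ha hb =>
        have : x * (a * b) * x⁻¹ = (x * a * x⁻¹) * (x * b * x⁻¹) := by group
        rw [this]; exact D.mul_mem ha hb
      | inv a _ ha =>
        have : x * a⁻¹ * x⁻¹ = (x * a * x⁻¹)⁻¹ := by group
        rw [this]; exact D.inv_mem ha
    have hDtop : D = Q := by
      by_contra hDne
      have hfix := hprop D hDQ hDne hDy hDx
      apply hne
      rw [mem_centralizer_iff]
      intro u hu
      set d := u⁻¹ * (y * u * y⁻¹) with hd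
      have hdD : d ∈ D := subset_closure ⟨u, hu, rfl⟩
      have hyd : y * d = d * y := hfix d hdD
      have h1 : y * u * y⁻¹ = u * d := by rw [hd]; group
      have hpow : ∀ k : ℕ, y ^ k * u * (y ^ k)⁻¹ = u * d ^ k := by
        intro k
        induction k with
        | zero => simp
        | succ k ih2 =>
          calc y ^ (k + 1) * u * (y ^ (k + 1))⁻¹ = y * (y ^ k * u * (y ^ k)⁻¹) * y⁻¹ := by
                rw [pow_succ']; group
            _ = y * (u * d ^ k) * y⁻¹ := by rw [ih2]
            _ = (y * u * y⁻¹) * (y * d ^ k * y⁻¹) := by group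
            _ = (u * d) * (y * d ^ k * y⁻¹) := by rw [h1]
            _ = (u * d) * d ^ k := by
              have : y * d ^ k = d ^ k * y := ((show Commute y d from hyd).pow_right k).eq
              rw [this]; group
            _ = u * d ^ (k + 1) := by rw [pow_succ']; group
      have h2 := hpow (orderOf y)
      rw [pow_orderOf_eq_one] at h2
      have h3 : d ^ orderOf y = 1 := by
        have : u = u * d ^ orderOf y := by simpa using h2
        simpa using this.symm
      obtain ⟨k, hk⟩ := IsPGroup.iff_orderOf.mp hQ ⟨d, hDQ hdD⟩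
      rw [Subgroup.orderOf_mk] at hk
      have h4 : orderOf d ∣ Nat.gcd (orderOf y) (p ^ k) :=
        Nat.dvd_gcd (orderOf_dvd_of_pow_eq_one h3) (by rw [hk])
      have h5 : Nat.gcd (orderOf y) (p ^ k) = 1 := Nat.Coprime.pow_right k hy
      rw [h5, Nat.dvd_one, orderOf_eq_one_iff] at h4
      rw [h4, mul_one] at h1
      calc u * y = (y * u * y⁻¹) * y := by rw [h1]
        _ = y * u := by group
    -- the subgroup `E = [Q, x]`
    set E : Subgroup G := closure {e | ∃ u ∈ Q, e = u⁻¹ * (x * u * x⁻¹)} with hE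
    have hEQ : E ≤ Q := by
      rw [hE, closure_le]
      rintro _ ⟨u, hu, rfl⟩
      exact Q.mul_mem (Q.inv_mem hu) (hconjx u hu)
    have hEy : ∀ w ∈ E, y * w * y⁻¹ ∈ E := by
      intro w hw
      induction hw using closure_induction with
      | mem d hd =>
        obtain ⟨u, hu, rfl⟩ := hd
        refine subset_closure ⟨y * u * y⁻¹, hconjy u hu, ?_⟩
        rw [hcomm]
        group
      | one => simp [E.one_mem]
      | mul a b _ _ ha hb =>
        have : y * (a * b) * y⁻¹ = (y * a * y⁻¹) * (y * b * y⁻¹) := by group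
        rw [this]; exact E.mul_mem ha hb
      | inv a _ ha =>
        have : y * a⁻¹ * y⁻¹ = (y * a * y⁻¹)⁻¹ := by group
        rw [this]; exact E.inv_mem ha
    have hEx : ∀ w ∈ E, x * w * x⁻¹ ∈ E := by
      intro w hw
      induction hw using closure_induction with
      | mem d hd =>
        obtain ⟨u, hu, rfl⟩ := hd
        refine subset_closure ⟨x * u * x⁻¹, hconjx u hu, by group⟩
      | one => simp [E.one_mem]
      | mul a b _ _ ha hb =>
        have : x * (a * b) * x⁻¹ = (x * a * x⁻¹) * (x * b * x⁻¹) := by group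
        rw [this]; exact E.mul_mem ha hb
      | inv a _ ha =>
        have : x * a⁻¹ * x⁻¹ = (x * a * x⁻¹)⁻¹ := by group
        rw [this]; exact E.inv_mem ha
    have hEne : E ≠ Q := by
      intro hEtop
      have hzp : IsPGroup p (zpowers x) := by
        obtain ⟨k, hk⟩ := hx
        exact IsPGroup.iff_card.mpr ⟨k, by rw [Nat.card_zpowers, hk]⟩
      have hnorm : zpowers x ≤ normalizer (Q : Set G) := by
        rw [zpowers_le]; exact hxQ
      have hP := IsPGroup.to_sup_of_normal_right' hzp hQ hnorm
      have hbot := eq_bot_of_gen (p := p) (zpowers x ⊔ Q) hP Q le_sup_right (by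
        conv_lhs => rw [← hEtop]
        rw [hE, closure_le]
        rintro _ ⟨u, hu, rfl⟩
        apply Subgroup.subset_closure
        exact ⟨u, by rw [← hEtop] at hu ⊢; exact hu, x, le_sup_left (a := zpowers x) (mem_zpowers x), rfl⟩)
      apply hne
      rw [mem_centralizer_iff]
      intro u hu
      rw [hbot] at hu
      have hu' : u = 1 := mem_bot.mp hu
      rw [hu']; simp
    have hEfix := hprop E hEQ hEne hEy hEx
    have hEnormal : ∀ w ∈ Q, ∀ e ∈ E, w * e * w⁻¹ ∈ E := by
      intro w hw e he
      induction he using closure_induction with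
      | mem d hd =>
        obtain ⟨u, hu, rfl⟩ := hd
        have e1 : u * w⁻¹ ∈ Q := Q.mul_mem hu (Q.inv_mem hw)
        have h1 : (u * w⁻¹)⁻¹ * (x * (u * w⁻¹) * x⁻¹) ∈ E := subset_closure ⟨_, e1, rfl⟩
        have h2 : (w⁻¹)⁻¹ * (x * w⁻¹ * x⁻¹) ∈ E := subset_closure ⟨_, Q.inv_mem hw, rfl⟩
        have h3 : w * (u⁻¹ * (x * u * x⁻¹)) * w⁻¹ =
            ((u * w⁻¹)⁻¹ * (x * (u * w⁻¹) * x⁻¹)) * ((w⁻¹)⁻¹ * (x * w⁻¹ * x⁻¹))⁻¹ := by group
        rw [h3]
        exact E.mul_mem h1 (E.inv_mem h2)
      | one => simp [E.one_mem]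
      | mul a b _ _ ha hb =>
        have : w * (a * b) * w⁻¹ = (w * a * w⁻¹) * (w * b * w⁻¹) := by group
        rw [this]; exact E.mul_mem ha hb
      | inv a _ ha =>
        have : w * a⁻¹ * w⁻¹ = (w * a * w⁻¹)⁻¹ := by group
        rw [this]; exact E.inv_mem ha
    have hEcent : ∀ z ∈ E, ∀ v ∈ Q, v * z = z * v := by
      intro z hz v hv
      have hC : D ≤ centralizer ({z} : Set G) := by
        rw [hD, closure_le]
        rintro _ ⟨u, hu, rfl⟩
        rw [SetLike.mem_coe, mem_centralizer_singleton_iff]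
        have h1 : u * z * u⁻¹ ∈ E := hEnormal u hu z hz
        have h2 := hEfix _ h1
        have hz2 := hEfix z hz
        -- `y (u z u⁻¹) y⁻¹ = u z u⁻¹`
        have h3 : (y * u * y⁻¹) * z = (u * z * u⁻¹) * (y * u * y⁻¹) := by
          calc (y * u * y⁻¹) * z = y * u * (y⁻¹ * z) := by group
            _ = y * u * (z * y⁻¹) := by
              have : y⁻¹ * z = z * y⁻¹ := by
                have h5 : Commute y z := hz2
                exact h5.inv_left.eq
              rw [this]
            _ = y * (u * z * u⁻¹) * u * y⁻¹ := by group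
            _ = (u * z * u⁻¹) * y * u * y⁻¹ := by rw [h2]
            _ = _ := by group
        calc u⁻¹ * (y * u * y⁻¹) * z = u⁻¹ * ((y * u * y⁻¹) * z) := by group
          _ = u⁻¹ * ((u * z * u⁻¹) * (y * u * y⁻¹)) := by rw [h3]
          _ = z * (u⁻¹ * (y * u * y⁻¹)) := by group
      have hv' : v ∈ D := by rw [hDtop]; exact hv
      exact mem_centralizer_singleton_iff.mp (hC hv')
    -- all generators of `D` are fixed
    have hDfix : D ≤ centralizer ({y} : Set G) := by
      rw [hD, closure_le]
      rintro _ ⟨u, hu, rfl⟩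
      rw [SetLike.mem_coe, mem_centralizer_singleton_iff]
      set v := u⁻¹ * (y * u * y⁻¹) with hv
      have hvQ : v ∈ Q := Q.mul_mem (Q.inv_mem hu) (hconjy u hu)
      set d := u⁻¹ * (x * u * x⁻¹) with hd
      have hdE : d ∈ E := subset_closure ⟨u, hu, rfl⟩
      have hyd := hEfix d hdE
      have hxu : x * u * x⁻¹ = u * d := by rw [hd]; group
      have hxv : x * v * x⁻¹ = v := by
        have e1 : x * v * x⁻¹ = (x * u * x⁻¹)⁻¹ * (x * (y * u * y⁻¹) * x⁻¹) := by rw [hv]; group
        rw [e1, hcomm, hxu]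
        have e2 : y * (u * d) * y⁻¹ = (y * u * y⁻¹) * (y * d * y⁻¹) := by group
        have e3 : y * d * y⁻¹ = d := by rw [hyd]; group
        rw [e2, e3]
        have e4 : (u * d)⁻¹ * ((y * u * y⁻¹) * d) = d⁻¹ * (v * d) := by rw [hv]; group
        rw [e4, hEcent d hdE v hvQ]
        group
      have hcv : x * v = v * x := by
        calc x * v = (x * v * x⁻¹) * x := by group
          _ = v * x := by rw [hxv]
      have := h v hvQ hcv
      exact this.symm
    apply hne
    rw [mem_centralizer_iff]
    intro u hu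
    have hu' : u ∈ D := by rw [hDtop]; exact hu
    exact (mem_centralizer_singleton_iff.mp (hDfix hu'))

/-- If a subgroup `C` has `p`-power index, then `G = P C` for every Sylow `p`-subgroup `P`. -/
theorem exists_mul_of_index_prime_pow (P : Sylow p G) (C : Subgroup G) {a : ℕ} (hC : C.index = p ^ a) (g : G) :
    ∃ w ∈ (P : Subgroup G), ∃ c ∈ C, g = w * c := by
  classical
  have hprime : p.Prime := hp.out
  have h1 := Cfsg.Agent.Lib.H1Prod.card_mul_set (P : Subgroup G) C
  set S : Set G := ((P : Subgroup G) : Set G) * (C : Set G) with hS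
  have hinfp : IsPGroup p ((P : Subgroup G) ⊓ C : Subgroup G) := P.2.to_le inf_le_left
  obtain ⟨b, hb⟩ := IsPGroup.iff_card.mp hinfp
  have hdvdC : Nat.card ((P : Subgroup G) ⊓ C : Subgroup G) ∣ Nat.card C :=
    Subgroup.card_dvd_of_le inf_le_right
  have hG : Nat.card C * p ^ a = Nat.card G := by
    rw [← hC]; exact Subgroup.card_mul_index C
  have hdvdG : p ^ (b + a) ∣ Nat.card G := by
    rw [← hG, pow_add, ← hb]
    exact Nat.mul_dvd_mul_right hdvdC _
  have hdvdP : p ^ (b + a) ∣ Nat.card (P : Subgroup G) := P.pow_dvd_card_of_pow_dvd_card hdvdG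
  have hle : p ^ (b + a) ≤ Nat.card (P : Subgroup G) := Nat.le_of_dvd Nat.card_pos hdvdP
  have h2 : Nat.card S * p ^ (b + a) = Nat.card (P : Subgroup G) * Nat.card G := by
    rw [pow_add, ← mul_assoc, ← hb, h1, mul_assoc, hG]
  have h3 : Nat.card G ≤ Nat.card S := by
    by_contra hlt
    push Not at hlt
    have h4 : Nat.card S * p ^ (b + a) < Nat.card G * Nat.card (P : Subgroup G) := by
      calc Nat.card S * p ^ (b + a) ≤ Nat.card S * Nat.card (P : Subgroup G) := Nat.mul_le_mul_left _ hle
        _ < Nat.card G * Nat.card (P : Subgroup G) := Nat.mul_lt_mul_of_pos_right hlt Nat.card_pos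
    rw [h2, mul_comm] at h4
    exact lt_irrefl _ h4
  have h5 : S = Set.univ := by
    apply Set.eq_of_subset_of_ncard_le (Set.subset_univ _)
    · rw [Set.ncard_univ]
      exact h3
  have hg : g ∈ S := by rw [h5]; trivial
  obtain ⟨w, hw, c, hc, e⟩ := Set.mem_mul.mp hg
  exact ⟨w, hw, c, hc, e.symm⟩

end Ambient

section ClassCoprime

universe u

/-- If no `p'`-element has class size divisible by `p`, then `p`-elements and `p'`-elements commute. -/
theorem comm_of_class_coprime_aux {p : ℕ} [hp : Fact p.Prime] (n : ℕ) :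
    ∀ (H : Type u) [Group H] [Finite H], Nat.card H = n →
      (∀ y : H, (orderOf y).Coprime p → ¬ p ∣ (centralizer ({y} : Set H)).index) →
      ∀ y w : H, (orderOf y).Coprime p → (∃ k, orderOf w = p ^ k) → y * w = w * y := by
  classical
  induction n using Nat.strong_induction_on with
  | _ n ih =>
    intro H _ _ hcard h y w hy hw
    have hprime : p.Prime := hp.out
    obtain ⟨P₀⟩ : Nonempty (Sylow p H) := inferInstance
    by_cases hP₀ : Nontrivial (P₀ : Subgroup H)
    · -- the centre of `P₀` is central in `H`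
      have hcen : ∀ z ∈ (P₀ : Subgroup H), (∀ v ∈ (P₀ : Subgroup H), v * z = z * v) → z ∈ center H := by
        intro z hzP hz
        have htop : centralizer ({z} : Set H) = ⊤ := by
          by_contra hne
          obtain ⟨u, hu⟩ := Cfsg.Agent.Lib.FGSBasic.exists_not_mem_conj _ hne
          obtain ⟨a, b, ha, hb, hab, hak, hbc⟩ := Cfsg.Agent.Lib.FGSBasic.exists_p_decomp p u
          have hcb : a * b = b * a := by
            obtain ⟨i, rfl⟩ := mem_zpowers_iff.mp ha
            obtain ⟨j, rfl⟩ := mem_zpowers_iff.mp hb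
            rw [← zpow_add, ← zpow_add, add_comm]
          have hzpa : IsPGroup p (zpowers a) := by
            obtain ⟨k, hk⟩ := hak
            exact IsPGroup.iff_card.mpr ⟨k, by rw [Nat.card_zpowers, hk]⟩
          have hle : zpowers a ≤ centralizer ({b} : Set H) := by
            rw [zpowers_le, mem_centralizer_singleton_iff]
            exact hcb
          obtain ⟨R, hR1, hR2⟩ := Cfsg.Agent.Lib.CentralSylow.exists_sylow_le p _ (h b hbc) _ hzpa hle
          obtain ⟨t, ht⟩ := MulAction.exists_smul_eq H P₀ R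
          have hmem : ∀ v, v ∈ (R : Subgroup H) ↔ t⁻¹ * v * t ∈ (P₀ : Subgroup H) := by
            intro v
            rw [← ht]
            exact Cfsg.Agent.Lib.FGSBasic.mem_smul_sylow_iff P₀ t v
          have hz' : t * z * t⁻¹ ∈ (R : Subgroup H) := by
            rw [hmem]
            have : t⁻¹ * (t * z * t⁻¹) * t = z := by group
            rw [this]; exact hzP
          have haR : a ∈ (R : Subgroup H) := hR1 (mem_zpowers a)
          have h1 : a * (t * z * t⁻¹) = (t * z * t⁻¹) * a := by
            have h2 := hz _ ((hmem a).mp haR)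
            calc a * (t * z * t⁻¹) = t * ((t⁻¹ * a * t) * z) * t⁻¹ := by group
              _ = t * (z * (t⁻¹ * a * t)) * t⁻¹ := by rw [h2]
              _ = _ := by group
          have h3 : b * (t * z * t⁻¹) = (t * z * t⁻¹) * b := by
            have h4 := mem_centralizer_singleton_iff.mp (hR2 hz')
            exact h4.symm
          apply hu t
          rw [mem_centralizer_singleton_iff]
          rw [← hab]
          calc t⁻¹ * (a * b) * t * z = t⁻¹ * (a * b * (t * z * t⁻¹)) * t := by group
            _ = t⁻¹ * (a * (b * (t * z * t⁻¹))) * t := by group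
            _ = t⁻¹ * (a * ((t * z * t⁻¹) * b)) * t := by rw [h3]
            _ = t⁻¹ * ((a * (t * z * t⁻¹)) * b) * t := by group
            _ = t⁻¹ * (((t * z * t⁻¹) * a) * b) * t := by rw [h1]
            _ = _ := by group
        rw [Subgroup.mem_center_iff]
        intro v
        have : v ∈ centralizer ({z} : Set H) := by rw [htop]; trivial
        exact mem_centralizer_singleton_iff.mp this
      -- the central subgroup
      let Z : Subgroup H := (center (P₀ : Subgroup H)).map (P₀ : Subgroup H).subtype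
      have hZc : Z ≤ center H := by
        rintro _ ⟨z, hz, rfl⟩
        apply hcen _ z.2
        intro v hv
        have := (Subgroup.mem_center_iff.mp hz) ⟨v, hv⟩
        exact congrArg Subtype.val this
      have hZP : Z ≤ (P₀ : Subgroup H) := map_subtype_le _
      have hZp : IsPGroup p Z := P₀.2.to_le hZP
      haveI hZn : Z.Normal := by
        constructor
        intro z hz g
        have := (Subgroup.mem_center_iff.mp (hZc hz)) g
        rw [this]; simpa using hz
      have hZne : Z ≠ ⊥ := by
        haveI := hP₀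
        haveI := P₀.2.center_nontrivial
        obtain ⟨z, hz⟩ := exists_ne (1 : center (P₀ : Subgroup H))
        intro hbot
        have h1 : ((z : (P₀ : Subgroup H)) : H) ∈ Z := ⟨z, z.2, rfl⟩
        rw [hbot] at h1
        apply hz
        apply Subtype.ext
        apply Subtype.ext
        simpa using h1
      let π := QuotientGroup.mk' Z
      have hπone : ∀ a : H, π a = 1 ↔ a ∈ Z := fun a => QuotientGroup.eq_one_iff a
      have hπs : Function.Surjective π := QuotientGroup.mk'_surjective Z
      have hlt : Nat.card (H ⧸ Z) < n := by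
        rw [← hcard]
        have h1 := Cfsg.Agent.Lib.H1SZ.card_quotient_mul Z
        have h2 : 1 < Nat.card Z := by
          rw [Finite.one_lt_card_iff_nontrivial]
          exact (Subgroup.nontrivial_iff_ne_bot Z).mpr hZne
        rw [← h1]
        exact lt_mul_of_one_lt_right Nat.card_pos h2
      have hq : ∀ y : H ⧸ Z, (orderOf y).Coprime p → ¬ p ∣ (centralizer ({y} : Set (H ⧸ Z))).index := by
        intro yb hyb
        obtain ⟨u, rfl⟩ := hπs yb
        obtain ⟨a, b, ha, -, hab, ⟨k, hk⟩, hbc⟩ := Cfsg.Agent.Lib.FGSBasic.exists_p_decomp p u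
        have ha1 : π a = 1 := by
          have h1 : orderOf (π a) ∣ orderOf (π u) := by
            obtain ⟨m, rfl⟩ := mem_zpowers_iff.mp ha
            rw [map_zpow]
            exact orderOf_dvd_of_pow_eq_one (by
              rw [← zpow_natCast, ← zpow_mul, mul_comm, zpow_mul, zpow_natCast, pow_orderOf_eq_one, one_zpow])
          have h2 : orderOf (π a) ∣ p ^ k := by
            rw [← hk]; exact orderOf_map_dvd π a
          have h3 : (p ^ k).Coprime (orderOf (π u)) := Nat.Coprime.pow_left k (Nat.Coprime.symm hyb)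
          exact orderOf_eq_one_iff.mp (Nat.eq_one_of_dvd_coprimes h3 h2 h1)
        have hub : π u = π b := by rw [← hab, map_mul, ha1, one_mul]
        rw [hub]
        intro hd
        apply h b hbc
        have h1 : (centralizer ({b} : Set H)).map π ≤ centralizer ({π b} : Set (H ⧸ Z)) := by
          rintro _ ⟨v, hv, rfl⟩
          rw [mem_centralizer_singleton_iff]
          rw [← map_mul, ← map_mul, mem_centralizer_singleton_iff.mp hv]
        have h2 := Subgroup.index_dvd_of_le h1
        have h3 := Subgroup.index_map_dvd (centralizer ({b} : Set H)) hπs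
        exact hd.trans (h2.trans h3)
      have hIH := ih _ hlt (H ⧸ Z) rfl hq (π y) (π w)
        (Nat.Coprime.coprime_dvd_left (orderOf_map_dvd π y) hy)
        (by
          obtain ⟨k, hk⟩ := hw
          have h1 : orderOf (π w) ∣ p ^ k := by rw [← hk]; exact orderOf_map_dvd π w
          obtain ⟨j, -, hj⟩ := (Nat.dvd_prime_pow hprime).mp h1
          exact ⟨j, hj⟩)
      set c := y * w * y⁻¹ * w⁻¹ with hc
      have hcZ : c ∈ Z := by
        rw [← hπone, hc]
        simp only [map_mul, map_inv]
        rw [hIH]; group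
      have hcc : ∀ v : H, c * v = v * c := Subgroup.mem_center_iff.mp (hZc hcZ) |> fun h v => (h v).symm
      have hconj : w * y⁻¹ * w⁻¹ = y⁻¹ * c := by rw [hc]; group
      have hord : orderOf (y⁻¹ * c) = orderOf y := by
        rw [← hconj, Cfsg.Agent.Lib.FGSBasic.orderOf_conj, orderOf_inv]
      obtain ⟨e, he⟩ := IsPGroup.iff_orderOf.mp hZp ⟨c, hcZ⟩
      rw [Subgroup.orderOf_mk] at he
      have hcop : (orderOf y⁻¹).Coprime (orderOf c) := by
        rw [orderOf_inv, he]
        exact Nat.Coprime.pow_right e hy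
      have hcomm : Commute y⁻¹ c := (hcc y⁻¹).symm
      have h1 := hcomm.orderOf_mul_eq_mul_orderOf_of_coprime hcop
      rw [hord, orderOf_inv] at h1
      have h2 : orderOf c = 1 := by
        have h3 : 0 < orderOf y := orderOf_pos y
        have h4 : orderOf y * 1 = orderOf y * orderOf c := by rw [mul_one]; exact h1
        exact (Nat.eq_of_mul_eq_mul_left h3 h4).symm
      have hc1 : c = 1 := orderOf_eq_one_iff.mp h2
      rw [hc] at hc1
      have h5 : y * w * y⁻¹ = w := by
        rw [mul_inv_eq_one] at hc1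
        exact hc1
      calc y * w = (y * w * y⁻¹) * y := by group
        _ = w * y := by rw [h5]
    · -- Sylow subgroups are trivial
      obtain ⟨k, hk⟩ := hw
      have hzpw : IsPGroup p (zpowers w) := IsPGroup.iff_card.mpr ⟨k, by rw [Nat.card_zpowers, hk]⟩
      obtain ⟨R, hR⟩ := hzpw.exists_le_sylow
      have hsub : Subsingleton (P₀ : Subgroup H) := not_nontrivial_iff_subsingleton.mp hP₀
      have hP1 : Nat.card (P₀ : Subgroup H) = 1 := Nat.card_of_subsingleton (1 : (P₀ : Subgroup H))
      have hR1 : Nat.card (R : Subgroup H) = 1 := by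
        rw [R.card_eq_multiplicity, ← P₀.card_eq_multiplicity, hP1]
      have hw1 : w = 1 := by
        have h1 : orderOf w ∣ Nat.card (R : Subgroup H) :=
          Subgroup.orderOf_dvd_natCard _ (hR (mem_zpowers w))
        rw [hR1, Nat.dvd_one] at h1
        exact orderOf_eq_one_iff.mp h1
      rw [hw1]; simp

theorem comm_of_class_coprime {p : ℕ} [hp : Fact p.Prime] {H : Type u} [Group H] [Finite H]
    (h : ∀ y : H, (orderOf y).Coprime p → ¬ p ∣ (centralizer ({y} : Set H)).index)
    (y w : H) (hy : (orderOf y).Coprime p) (hw : ∃ k, orderOf w = p ^ k) : y * w = w * y :=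
  comm_of_class_coprime_aux _ H rfl h y w hy hw

end ClassCoprime

end Cfsg.Agent.Lib.CritAut
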