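import Mathlib

set_option autoImplicit false

/-! Subgroups of dihedral groups. -/

namespace Cfsg.Agent.Lib.DihSub

open DihedralGroup

variable {n : ℕ}

theorem inv_sr (i : ZMod n) : (sr i : DihedralGroup n)⁻¹ = sr i :=
  inv_eq_of_mul_eq_one_right (by rw [sr_mul_sr, sub_self]; rfl)

theorem r_pow' (i : ZMod n) (k : ℕ) : (r i : DihedralGroup n) ^ k = r ((k : ZMod n) * i) := by
  induction k with
  | zero => simp
  | succ k ih =>
    rw [pow_succ, ih, r_mul_r]
    congr 1
    push_cast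
    ring

/-- The rotation/reflection index. -/
def idx : DihedralGroup n → ZMod n
  | r i => i
  | sr i => i

/-- Elements whose index vanishes mod `d`. -/
def Hd (d : ℕ) (hd : d ∣ n) : Subgroup (DihedralGroup n) where
  carrier := {x | ZMod.castHom hd (ZMod d) (idx x) = 0}
  one_mem' := by
    show ZMod.castHom hd (ZMod d) (idx (r 0)) = 0
    simp [idx]
  mul_mem' := by
    rintro (a | a) (b | b) ha hb
    all_goals
      have ha' : ZMod.castHom hd (ZMod d) a = 0 := ha
      have hb' : ZMod.castHom hd (ZMod d) b = 0 := hb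
    · show ZMod.castHom hd (ZMod d) (idx (r a * r b)) = 0
      rw [r_mul_r]
      simp [idx, map_add, ha', hb']
    · show ZMod.castHom hd (ZMod d) (idx (r a * sr b)) = 0
      rw [r_mul_sr]
      simp [idx, map_sub, ha', hb']
    · show ZMod.castHom hd (ZMod d) (idx (sr a * r b)) = 0
      rw [sr_mul_r]
      simp [idx, map_add, ha', hb']
    · show ZMod.castHom hd (ZMod d) (idx (sr a * sr b)) = 0
      rw [sr_mul_sr]
      simp [idx, map_sub, ha', hb']
  inv_mem' := by
    rintro (a | a) ha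
    all_goals
      have ha' : ZMod.castHom hd (ZMod d) a = 0 := ha
    · show ZMod.castHom hd (ZMod d) (idx ((r a)⁻¹)) = 0
      rw [inv_r]
      simp [idx, map_neg, ha']
    · show ZMod.castHom hd (ZMod d) (idx ((sr a)⁻¹)) = 0
      rw [inv_sr]
      exact ha'

theorem mem_Hd_r (d : ℕ) (hd : d ∣ n) (i : ZMod n) : r i ∈ Hd d hd ↔ ZMod.castHom hd (ZMod d) i = 0 := Iff.rfl

theorem mem_Hd_sr (d : ℕ) (hd : d ∣ n) (i : ZMod n) : sr i ∈ Hd d hd ↔ ZMod.castHom hd (ZMod d) i = 0 := Iff.rfl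

theorem r_d_mem (d : ℕ) (hd : d ∣ n) : r (d : ZMod n) ∈ Hd d hd := by
  rw [mem_Hd_r, map_natCast]
  exact ZMod.natCast_self d

theorem sr_zero_mem (d : ℕ) (hd : d ∣ n) : sr (0 : ZMod n) ∈ Hd d hd := by
  rw [mem_Hd_sr, map_zero]

/-- A non-abelian subgroup of the form `Hd`. -/
theorem Hd_not_comm (d : ℕ) (hd : d ∣ n) (h2 : ¬ n ∣ 2 * d) : ¬ IsMulCommutative (Hd d hd) := by
  intro hc
  have h1 := congrArg Subtype.val (hc.is_comm.comm (⟨r (d : ZMod n), r_d_mem d hd⟩ : Hd d hd) ⟨sr 0, sr_zero_mem d hd⟩)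
  have h3 : (r (d : ZMod n) : DihedralGroup n) * sr 0 = sr 0 * r (d : ZMod n) := h1
  rw [r_mul_sr, sr_mul_r, sr.injEq] at h3
  apply h2
  rw [← ZMod.natCast_eq_zero_iff]
  push_cast
  have h4 : (0 : ZMod n) - d = 0 + d := h3
  linear_combination -h4

/-- If `H` has no reflection it is cyclic. -/
theorem exists_sr_of_not_cyclic (H : Subgroup (DihedralGroup n)) (hH : ¬ IsCyclic H) : ∃ c, sr c ∈ H := by
  by_contra hcon
  push Not at hcon
  apply hH
  have hle : H ≤ Subgroup.zpowers (r (1 : ZMod n) : DihedralGroup n) := by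
    rintro (a | a) ha
    · obtain ⟨k, rfl⟩ := ZMod.intCast_surjective a
      exact ⟨k, r_one_zpow k⟩
    · exact absurd ha (hcon a)
  exact isCyclic_of_injective (Subgroup.inclusion hle) (Subgroup.inclusion_injective hle)

theorem exists_sr_of_not_comm (H : Subgroup (DihedralGroup n)) (hH : ¬ IsMulCommutative H) : ∃ c, sr c ∈ H := by
  by_contra hcon
  push Not at hcon
  apply hH
  refine ⟨⟨?_⟩⟩
  rintro ⟨a, ha⟩ ⟨b, hb⟩
  apply Subtype.ext
  rcases a with a | a
  · rcases b with b | b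
    · show r a * r b = r b * r a
      rw [r_mul_r, r_mul_r, add_comm]
    · exact absurd hb (hcon b)
  · exact absurd ha (hcon a)

/-- A rotation normalising `H ∋ sr c` has its square in `H`. -/
theorem r_two_mem (H : Subgroup (DihedralGroup n)) (c e : ZMod n) (hc : sr c ∈ H)
    (he : r e ∈ Subgroup.normalizer (H : Set (DihedralGroup n))) : r (2 * e) ∈ H := by
  have h1 := (Subgroup.mem_normalizer_iff.mp he (sr c)).mp hc
  rw [r_mul_sr, inv_r, sr_mul_r] at h1
  have h2 := H.mul_mem h1 hc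
  rw [sr_mul_sr] at h2
  have h3 : c - (c - e + -e) = 2 * e := by ring
  rwa [h3] at h2

theorem mem_of_norm_odd (hn : Odd n) (H : Subgroup (DihedralGroup n)) (c : ZMod n) (hc : sr c ∈ H)
    (x : DihedralGroup n) (hx : x ∈ Subgroup.normalizer (H : Set (DihedralGroup n))) : x ∈ H := by
  obtain ⟨m, hm⟩ := hn
  have h2 : ((m + 1 : ℕ) : ZMod n) * 2 = 1 := by
    have h3 : ((2 * m + 1 : ℕ) : ZMod n) = 0 := by
      rw [← hm]; exact ZMod.natCast_self n
    push_cast at h3 ⊢
    linear_combination h3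
  have hrot : ∀ e : ZMod n, r e ∈ Subgroup.normalizer (H : Set (DihedralGroup n)) → r e ∈ H := by
    intro e he
    have h4 := H.pow_mem (r_two_mem H c e hc he) (m + 1)
    rw [r_pow'] at h4
    have h5 : ((m + 1 : ℕ) : ZMod n) * (2 * e) = e := by
      rw [← mul_assoc, h2, one_mul]
    rwa [h5] at h4
  rcases x with e | b
  · exact hrot e hx
  · have h6 : sr b * sr c ∈ Subgroup.normalizer (H : Set (DihedralGroup n)) :=
      Subgroup.mul_mem _ hx (Subgroup.le_normalizer hc)
    rw [sr_mul_sr] at h6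
    have h7 := H.mul_mem (hrot _ h6) hc
    rw [r_mul_sr] at h7
    have h8 : c - (c - b) = b := by ring
    rwa [h8] at h7

end Cfsg.Agent.Lib.DihSub
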