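import Cfsg.Agent.Lib.F4Sp

/-! Any field with four elements and root of `X² + X + 1` is isomorphic to the concrete `F4`. -/

set_option autoImplicit false

namespace Cfsg.Agent.F4Iso

open Cfsg.Agent.Lib.F4Sp

/-- The primitive element of the concrete field. -/
def w : F4 := (2 : Fin 4)

theorem w_eq : w ^ 2 + w + 1 = 0 := by decide

/-- Frobenius of the concrete field. -/
def frob : F4 ≃+* F4 where
  toFun a := a * a
  invFun a := a * a
  left_inv := by decide
  right_inv := by decide
  map_mul' := by decide
  map_add' := by decide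

theorem frob_w : frob w = w * w := rfl

theorem exists_iso {F : Type*} [Field F] [Fintype F] (hF : Fintype.card F = 4) (ω : F)
    (hω : ω ^ 2 + ω + 1 = 0) : ∃ e : F4 ≃+* F, e w = ω := by
  obtain ⟨e⟩ : Nonempty (F4 ≃+* F) := ⟨FiniteField.ringEquivOfCardEq (by rw [card_F4, hF])⟩
  have h1 : (e w) ^ 2 + e w + 1 = 0 := by
    have := congrArg e w_eq
    simpa using this
  have h2 : (e w - ω) * (e w + ω + 1) = 0 := by
    linear_combination h1 - hω
  rcases mul_eq_zero.1 h2 with h | h
  · exact ⟨e, sub_eq_zero.1 h⟩
  · refine ⟨frob.trans e, ?_⟩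
    show e (w * w) = ω
    rw [map_mul]
    have h3 : e w = -ω - 1 := by linear_combination h
    rw [h3]
    linear_combination hω

end Cfsg.Agent.F4Iso
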