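import Mathlib
/-!
A concrete field with four elements, and the order of its symplectic group of degree four.
-/
set_option autoImplicit false
set_option linter.unusedSimpArgs false
set_option linter.unusedVariables false
set_option linter.style.haveILetI false

namespace Cfsg.Agent.Lib.F4Sp

/-- A field with four elements -/
def F4 : Type := Fin 4

instance instDecEq : DecidableEq F4 := inferInstanceAs (DecidableEq (Fin 4))
instance instFintype : Fintype F4 := inferInstanceAs (Fintype (Fin 4))

/-- addition -/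
def addT (a b : F4) : F4 := (⟨(Nat.xor a.1 b.1) % 4, Nat.mod_lt _ (by norm_num)⟩ : Fin 4)

/-- the table of the multiplication -/
def mT : F4 → F4 → F4 := (![![0, 0, 0, 0], ![0, 1, 2, 3], ![0, 2, 3, 1], ![0, 3, 1, 2]] : Fin 4 → Fin 4 → Fin 4)

/-- the table of the inverse -/
def iT : F4 → F4 := (![0, 1, 3, 2] : Fin 4 → Fin 4)

instance instZero : Zero F4 := ⟨(0 : Fin 4)⟩
instance instOne : One F4 := ⟨(1 : Fin 4)⟩
instance instAdd : Add F4 := ⟨addT⟩
instance instMul : Mul F4 := ⟨mT⟩
instance instNeg : Neg F4 := ⟨fun a => a⟩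
instance instInv : Inv F4 := ⟨iT⟩

instance instField : Field F4 where
  add_assoc := by decide
  zero_add := by decide
  add_zero := by decide
  nsmul := nsmulRec
  zsmul := zsmulRec
  neg_add_cancel := by decide
  add_comm := by decide
  left_distrib := by decide
  right_distrib := by decide
  zero_mul := by decide
  mul_zero := by decide
  mul_assoc := by decide
  one_mul := by decide
  mul_one := by decide
  mul_comm := by decide
  exists_pair_ne := ⟨(0 : F4), (1 : F4), by decide⟩
  mul_inv_cancel := by decide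
  inv_zero := by decide
  nnqsmul := _
  qsmul := _

theorem card_F4 : Fintype.card F4 = 4 := by
  show Fintype.card (Fin 4) = 4
  simp

/-- the indices -/
abbrev I4 : Type := Fin 2 ⊕ Fin 2

/-- the vectors -/
abbrev V4 : Type := I4 → F4

/-- the group -/
abbrev Sp4 : Type := Matrix.symplecticGroup (Fin 2) F4

/-- the digit of a number -/
def dig (p k : ℕ) : F4 := (⟨(p >>> (2 * k)) % 4, Nat.mod_lt _ (by norm_num)⟩ : Fin 4)

/-- the position of a coordinate -/
def pos4 : I4 → ℕ
  | .inl a => a.1
  | .inr a => 2 + a.1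

/-- the vector of a number -/
def vecOf (p : ℕ) : V4 := fun i => dig p (pos4 i)

/-- the value of a field element -/
def val4 (a : F4) : ℕ := Fin.val (n := 4) a

/-- the number of a vector -/
def idxOf (v : V4) : ℕ :=
  val4 (v (.inl 0)) + 4 * val4 (v (.inl 1)) + 16 * val4 (v (.inr 0)) + 64 * val4 (v (.inr 1))

theorem val4_lt (a : F4) : val4 a < 4 := Fin.is_lt (n := 4) a

theorem idxOf_lt (v : V4) : idxOf v < 256 := by
  unfold idxOf
  have h1 := val4_lt (v (.inl 0))
  have h2 := val4_lt (v (.inl 1))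
  have h3 := val4_lt (v (.inr 0))
  have h4 := val4_lt (v (.inr 1))
  omega

theorem val4_inj {a b : F4} (h : val4 a = val4 b) : a = b := Fin.ext (n := 4) h

theorem vecOf_idxOf (v : V4) : vecOf (idxOf v) = v := by
  have key : ∀ a b c d : ℕ, a < 4 → b < 4 → c < 4 → d < 4 →
      (a + 4 * b + 16 * c + 64 * d) % 4 = a ∧ ((a + 4 * b + 16 * c + 64 * d) >>> 2) % 4 = b ∧
      ((a + 4 * b + 16 * c + 64 * d) >>> 4) % 4 = c ∧ ((a + 4 * b + 16 * c + 64 * d) >>> 6) % 4 = d := by
    intro a b c d ha hb hc hd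
    rw [Nat.shiftRight_eq_div_pow, Nat.shiftRight_eq_div_pow, Nat.shiftRight_eq_div_pow]
    norm_num
    omega
  obtain ⟨h1, h2, h3, h4⟩ := key _ _ _ _ (val4_lt (v (.inl 0))) (val4_lt (v (.inl 1))) (val4_lt (v (.inr 0))) (val4_lt (v (.inr 1)))
  funext i
  apply val4_inj
  rcases i with a | a
  · fin_cases a
    · show (idxOf v >>> (2 * 0)) % 4 = _
      simpa [idxOf] using h1
    · show (idxOf v >>> (2 * 1)) % 4 = _
      simpa [idxOf] using h2
  · fin_cases a
    · show (idxOf v >>> (2 * 2)) % 4 = _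
      simpa [idxOf] using h3
    · show (idxOf v >>> (2 * 3)) % 4 = _
      simpa [idxOf] using h4

theorem idxOf_vecOf : ∀ p : Fin 256, idxOf (vecOf p) = p := by decide +kernel

/-- the numbering of the vectors -/
def eV : V4 ≃ Fin 256 where
  toFun v := ⟨idxOf v, idxOf_lt v⟩
  invFun p := vecOf p
  left_inv := vecOf_idxOf
  right_inv p := Fin.ext (idxOf_vecOf p)

/-- the action of a matrix on the vectors -/
noncomputable def toPermV (M : Sp4) : Equiv.Perm V4 where
  toFun v := M.1.mulVec v
  invFun v := (M⁻¹).1.mulVec v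
  left_inv v := by
    show (M⁻¹).1.mulVec (M.1.mulVec v) = v
    rw [Matrix.mulVec_mulVec]
    have : (M⁻¹).1 * M.1 = 1 := congrArg Subtype.val (inv_mul_cancel M)
    rw [this, Matrix.one_mulVec]
  right_inv v := by
    show M.1.mulVec ((M⁻¹).1.mulVec v) = v
    rw [Matrix.mulVec_mulVec]
    have : M.1 * (M⁻¹).1 = 1 := congrArg Subtype.val (mul_inv_cancel M)
    rw [this, Matrix.one_mulVec]

/-- the action as a homomorphism -/
noncomputable def alpha0 : Sp4 →* Equiv.Perm V4 where
  toFun := toPermV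
  map_one' := by
    ext v i
    show ((1 : Sp4).1.mulVec v) i = v i
    have : (1 : Sp4).1 = 1 := rfl
    rw [this, Matrix.one_mulVec]
  map_mul' M N := by
    ext v i
    show ((M * N).1.mulVec v) i = (M.1.mulVec (N.1.mulVec v)) i
    rw [Matrix.mulVec_mulVec]
    rfl

theorem alpha0_apply (M : Sp4) (v : V4) : alpha0 M v = M.1.mulVec v := rfl

theorem alpha0_inj : Function.Injective alpha0 := by
  intro M N h
  apply Subtype.ext
  ext i j
  have h1 : M.1.mulVec (Pi.single j 1) = N.1.mulVec (Pi.single j 1) := by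
    rw [← alpha0_apply, ← alpha0_apply, h]
  have h2 := congrFun h1 i
  simpa using h2

/-- the action on the numbers -/
noncomputable def alpha : Sp4 →* Equiv.Perm (Fin 256) :=
  (Equiv.permCongrHom eV).toMonoidHom.comp alpha0

theorem alpha_apply (M : Sp4) (p : Fin 256) : ((alpha M p : Fin 256) : ℕ) = idxOf (M.1.mulVec (vecOf p)) := rfl

theorem alpha_inj : Function.Injective alpha :=
  (Equiv.permCongrHom eV).injective.comp alpha0_inj

/-- the symplectic form -/
def fm (x y : V4) : F4 :=
  x (.inr 0) * y (.inl 0) + x (.inr 1) * y (.inl 1) - x (.inl 0) * y (.inr 0) - x (.inl 1) * y (.inr 1)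

theorem fm_eq (x y : V4) : fm x y = x ⬝ᵥ ((Matrix.J (Fin 2) F4).mulVec y) := by
  unfold fm dotProduct
  simp only [Fintype.sum_sum_type, Fin.sum_univ_two, Matrix.mulVec, dotProduct, Matrix.J,
    Matrix.fromBlocks_apply₁₁, Matrix.fromBlocks_apply₁₂, Matrix.fromBlocks_apply₂₁, Matrix.fromBlocks_apply₂₂,
    Matrix.zero_apply, Matrix.neg_apply, Matrix.one_apply]
  simp
  ring

theorem fm_pres (M : Sp4) (x y : V4) : fm (M.1.mulVec x) (M.1.mulVec y) = fm x y := by
  rw [fm_eq, fm_eq]
  have h : (M.1).transpose * Matrix.J (Fin 2) F4 * M.1 = Matrix.J (Fin 2) F4 := SymplecticGroup.mem_iff'.1 M.2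
  have h2 : M.1.mulVec x = Matrix.vecMul x (M.1).transpose := (Matrix.vecMul_transpose _ _).symm
  rw [h2, Matrix.mulVec_mulVec, ← Matrix.dotProduct_mulVec, Matrix.mulVec_mulVec, ← Matrix.mul_assoc, h]

/-- one step of the order bound -/
theorem card_le_step {X : Type} (H : Subgroup (Equiv.Perm X)) [Finite H] (v : X) (T : Finset X)
    (hT : ∀ h ∈ H, h v ∈ T) :
    Nat.card H ≤ T.card * Nat.card ↥(H ⊓ MulAction.stabilizer (Equiv.Perm X) v) := by
  classical
  let r : T → H := fun t => if h : ∃ g : H, g.1 v = t then h.choose else 1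
  have hr : ∀ g : H, (r ⟨g.1 v, hT _ g.2⟩).1 v = g.1 v := by
    intro g
    have h : ∃ g' : H, g'.1 v = (⟨g.1 v, hT _ g.2⟩ : T) := ⟨g, rfl⟩
    simp only [r, dif_pos h]
    exact h.choose_spec
  let f : H → T × ↥(H ⊓ MulAction.stabilizer (Equiv.Perm X) v) := fun g =>
    (⟨g.1 v, hT _ g.2⟩, ⟨(r ⟨g.1 v, hT _ g.2⟩).1⁻¹ * g.1, by
      refine Subgroup.mem_inf.2 ⟨mul_mem (inv_mem (r _).2) g.2, ?_⟩
      show ((r ⟨g.1 v, hT _ g.2⟩).1⁻¹ * g.1) v = v
      rw [Equiv.Perm.mul_apply, Equiv.Perm.inv_eq_iff_eq]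
      exact (hr g).symm⟩)
  have hf : Function.Injective f := by
    intro g g' h
    have h1 : (f g).1 = (f g').1 := congrArg Prod.fst h
    have h2 : (f g).2.1 = (f g').2.1 := congrArg (fun z => z.2.1) h
    have h3 : (⟨g.1 v, hT _ g.2⟩ : T) = ⟨g'.1 v, hT _ g'.2⟩ := h1
    have h4 : (r ⟨g.1 v, hT _ g.2⟩).1⁻¹ * g.1 = (r ⟨g'.1 v, hT _ g'.2⟩).1⁻¹ * g'.1 := h2
    rw [← h3] at h4
    exact Subtype.ext (mul_left_cancel h4)
  haveI : Finite ↥(H ⊓ MulAction.stabilizer (Equiv.Perm X) v) := by
    haveI : Finite (↥(H ⊓ MulAction.stabilizer (Equiv.Perm X) v)) :=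
      Finite.of_injective (fun z => (⟨z.1, z.2.1⟩ : H)) (by
        intro a b h
        exact Subtype.ext (congrArg (fun z : H => z.1) h))
    infer_instance
  have h1 := Nat.card_le_card_of_injective f hf
  rw [Nat.card_prod] at h1
  simpa using h1

/-- a set of vectors given by a property -/
noncomputable def TT (P : V4 → Prop) [DecidablePred P] : Finset V4 :=
  ((Finset.range 256).filter (fun p => P (vecOf p))).image vecOf

theorem mem_TT {P : V4 → Prop} [DecidablePred P] {v : V4} (h : P v) : v ∈ TT P := by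
  refine Finset.mem_image.2 ⟨idxOf v, Finset.mem_filter.2 ⟨Finset.mem_range.2 (idxOf_lt v), ?_⟩, vecOf_idxOf v⟩
  rw [vecOf_idxOf]
  exact h

theorem card_TT_le (P : V4 → Prop) [DecidablePred P] :
    (TT P).card ≤ ((Finset.range 256).filter (fun p => P (vecOf p))).card := Finset.card_image_le

/-- base vectors -/
def e1 : V4 := vecOf 1
/-- base vectors -/
def e2 : V4 := vecOf 16
/-- base vectors -/
def e3 : V4 := vecOf 4
/-- base vectors -/
def e4 : V4 := vecOf 64

/-- the predicates -/
def P1 (v : V4) : Prop := idxOf v ≠ 0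
/-- the predicates -/
def P2 (v : V4) : Prop := fm e1 v = fm e1 e2
/-- the predicates -/
def P3 (v : V4) : Prop := idxOf v ≠ 0 ∧ fm e1 v = 0 ∧ fm e2 v = 0
/-- the predicates -/
def P4 (v : V4) : Prop := fm e1 v = 0 ∧ fm e2 v = 0 ∧ fm e3 v = fm e3 e4

instance : DecidablePred P1 := fun v => by unfold P1; infer_instance
instance : DecidablePred P2 := fun v => by unfold P2; infer_instance
instance : DecidablePred P3 := fun v => by unfold P3; infer_instance
instance : DecidablePred P4 := fun v => by unfold P4; infer_instance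

theorem c1 : ((Finset.range 256).filter (fun p => P1 (vecOf p))).card = 255 := by decide +kernel
theorem c2 : ((Finset.range 256).filter (fun p => P2 (vecOf p))).card = 64 := by decide +kernel
theorem c3 : ((Finset.range 256).filter (fun p => P3 (vecOf p))).card = 15 := by decide +kernel
theorem c4 : ((Finset.range 256).filter (fun p => P4 (vecOf p))).card = 4 := by decide +kernel

theorem f13 : fm e1 e3 = 0 := by decide +kernel
theorem f23 : fm e2 e3 = 0 := by decide +kernel
theorem f14 : fm e1 e4 = 0 := by decide +kernel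
theorem f24 : fm e2 e4 = 0 := by decide +kernel
theorem i1 : idxOf e1 ≠ 0 := by decide +kernel
theorem i3 : idxOf e3 ≠ 0 := by decide +kernel

theorem idx_ne_of_image (M : Sp4) {v : V4} (h : idxOf v ≠ 0) : idxOf (M.1.mulVec v) ≠ 0 := by
  intro h0
  have h1 : M.1.mulVec v = 0 := by
    have h2 := vecOf_idxOf (M.1.mulVec v)
    rw [h0] at h2
    rw [← h2]
    decide +kernel
  have h2 : alpha0 M v = alpha0 M 0 := by
    rw [alpha0_apply, alpha0_apply, h1, Matrix.mulVec_zero]
  have h3 := (alpha0 M).injective h2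
  rw [h3] at h
  exact h (by decide +kernel)

/-- the order of the symplectic group over the field with four elements is at most 979200 -/
theorem card_Sp4_le : Nat.card Sp4 ≤ 979200 := by
  classical
  let St := fun v : V4 => MulAction.stabilizer (Equiv.Perm V4) v
  let H0 : Subgroup (Equiv.Perm V4) := alpha0.range
  let H1 := H0 ⊓ St e1
  let H2 := H1 ⊓ St e2
  let H3 := H2 ⊓ St e3
  let H4 := H3 ⊓ St e4
  have hH0 : Nat.card H0 = Nat.card Sp4 := (Nat.card_congr (MonoidHom.ofInjective alpha0_inj).toEquiv).symm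
  haveI : Finite (Equiv.Perm V4) := inferInstance
  have s1 : Nat.card H0 ≤ 255 * Nat.card H1 := by
    have := card_le_step H0 e1 (TT P1) (by
      rintro _ ⟨M, rfl⟩
      exact mem_TT (idx_ne_of_image M i1))
    calc _ ≤ _ := this
      _ ≤ _ := Nat.mul_le_mul_right _ ((card_TT_le P1).trans c1.le)
  have s2 : Nat.card H1 ≤ 64 * Nat.card H2 := by
    have := card_le_step H1 e2 (TT P2) (by
      rintro h ⟨⟨M, rfl⟩, h1⟩
      have h1' : M.1.mulVec e1 = e1 := h1
      refine mem_TT ?_
      show fm e1 (M.1.mulVec e2) = fm e1 e2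
      conv_lhs => rw [← h1']
      exact fm_pres M _ _)
    calc _ ≤ _ := this
      _ ≤ _ := Nat.mul_le_mul_right _ ((card_TT_le P2).trans c2.le)
  have s3 : Nat.card H2 ≤ 15 * Nat.card H3 := by
    have := card_le_step H2 e3 (TT P3) (by
      rintro h ⟨⟨⟨M, rfl⟩, h1⟩, h2⟩
      have h1' : M.1.mulVec e1 = e1 := h1
      have h2' : M.1.mulVec e2 = e2 := h2
      refine mem_TT ⟨idx_ne_of_image M i3, ?_, ?_⟩
      · show fm e1 (M.1.mulVec e3) = 0
        conv_lhs => rw [← h1']
        rw [fm_pres, f13]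
      · show fm e2 (M.1.mulVec e3) = 0
        conv_lhs => rw [← h2']
        rw [fm_pres, f23])
    calc _ ≤ _ := this
      _ ≤ _ := Nat.mul_le_mul_right _ ((card_TT_le P3).trans c3.le)
  have s4 : Nat.card H3 ≤ 4 * Nat.card H4 := by
    have := card_le_step H3 e4 (TT P4) (by
      rintro h ⟨⟨⟨⟨M, rfl⟩, h1⟩, h2⟩, h3⟩
      have h1' : M.1.mulVec e1 = e1 := h1
      have h2' : M.1.mulVec e2 = e2 := h2
      have h3' : M.1.mulVec e3 = e3 := h3
      refine mem_TT ⟨?_, ?_, ?_⟩
      · show fm e1 (M.1.mulVec e4) = 0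
        conv_lhs => rw [← h1']
        rw [fm_pres, f14]
      · show fm e2 (M.1.mulVec e4) = 0
        conv_lhs => rw [← h2']
        rw [fm_pres, f24]
      · show fm e3 (M.1.mulVec e4) = fm e3 e4
        conv_lhs => rw [← h3']
        rw [fm_pres])
    calc _ ≤ _ := this
      _ ≤ _ := Nat.mul_le_mul_right _ ((card_TT_le P4).trans c4.le)
  have s5 : Nat.card H4 = 1 := by
    have : H4 = ⊥ := by
      rw [eq_bot_iff]
      rintro h ⟨⟨⟨⟨⟨M, rfl⟩, h1⟩, h2⟩, h3⟩, h4⟩
      have h1' : M.1.mulVec e1 = e1 := h1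
      have h2' : M.1.mulVec e2 = e2 := h2
      have h3' : M.1.mulVec e3 = e3 := h3
      have h4' : M.1.mulVec e4 = e4 := h4
      have hM : M = 1 := by
        apply Subtype.ext
        have e1s : e1 = Pi.single (.inl 0) 1 := by decide +kernel
        have e2s : e2 = Pi.single (.inr 0) 1 := by decide +kernel
        have e3s : e3 = Pi.single (.inl 1) 1 := by decide +kernel
        have e4s : e4 = Pi.single (.inr 1) 1 := by decide +kernel
        have hc : ∀ j : I4, M.1.mulVec (Pi.single j 1) = Pi.single j 1 := by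
          rintro (a | a)
          · fin_cases a
            · show M.1.mulVec (Pi.single (.inl 0) 1) = Pi.single (.inl 0) 1
              rw [← e1s]
              exact h1'
            · show M.1.mulVec (Pi.single (.inl 1) 1) = Pi.single (.inl 1) 1
              rw [← e3s]
              exact h3'
          · fin_cases a
            · show M.1.mulVec (Pi.single (.inr 0) 1) = Pi.single (.inr 0) 1
              rw [← e2s]
              exact h2'
            · show M.1.mulVec (Pi.single (.inr 1) 1) = Pi.single (.inr 1) 1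
              rw [← e4s]
              exact h4'
        ext i j
        have h5 := congrFun (hc j) i
        simpa [Matrix.one_apply, Pi.single_apply] using h5
      rw [hM, map_one]
      exact Subgroup.one_mem _
    rw [this]
    simp
  rw [← hH0]
  omega

/-- the group is finite -/
instance instFiniteSp4 : Finite Sp4 := Finite.of_injective alpha alpha_inj

end Cfsg.Agent.Lib.F4Sp
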