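import Cfsg.Agent.Lib.F4Iso
import Cfsg.Prelude.Def_Spor_J3

/-! Numeric codes for vectors and matrices over the field with 4 elements, indexed by `Spor.F9`. -/

set_option autoImplicit false
set_option maxRecDepth 100000

namespace Cfsg.Agent.Lib.F9Code

open Cfsg Cfsg.Spor Matrix Cfsg.Agent.Lib.F4Sp Cfsg.Agent.F4Iso

/-- vectors -/
abbrev V9 : Type := F9 → F4

/-- position of a coordinate -/
def pos (z : F9) : ℕ := 3 * z.1.val + z.2.val

/-- the vector of a number -/
def vec9 (n : ℕ) : V9 := fun z => dig n (pos z)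

/-- the digit in terms of two bits -/
def mk (a b : Bool) : F4 := (⟨(cond a 1 0) + 2 * (cond b 1 0), by cases a <;> cases b <;> decide⟩ : Fin 4)

theorem mod4_bits (y : ℕ) : y % 4 = (cond (y.testBit 0) 1 0) + 2 * (cond (y.testBit 1) 1 0) := by
  have h0 : y.testBit 0 = decide (y % 2 = 1) := by
    simp [Nat.testBit_zero]
  have h1 : y.testBit 1 = decide (y / 2 % 2 = 1) := by
    rw [show (1 : ℕ) = 0 + 1 from rfl, Nat.testBit_succ]
    simp [Nat.testBit_zero]
  rw [h0, h1]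
  by_cases h2 : y % 2 = 1 <;> by_cases h3 : y / 2 % 2 = 1 <;> simp [h2, h3] <;> omega

theorem dig_mk (n k : ℕ) : dig n k = mk (n.testBit (2 * k)) (n.testBit (2 * k + 1)) := by
  apply Fin.ext (n := 4)
  show (n >>> (2 * k)) % 4 = _
  rw [mod4_bits, Nat.testBit_shiftRight, Nat.testBit_shiftRight]
  rfl

theorem mk_add : ∀ a b c d : Bool, mk (xor a c) (xor b d) = mk a b + mk c d := by decide

theorem dig_xor (a b k : ℕ) : dig (Nat.xor a b) k = dig a k + dig b k := by
  rw [dig_mk, dig_mk, dig_mk, ← mk_add]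
  show mk ((a ^^^ b).testBit (2 * k)) ((a ^^^ b).testBit (2 * k + 1)) = _
  rw [Nat.testBit_xor, Nat.testBit_xor]

/-- multiplication by the primitive element, digit by digit -/
noncomputable def mw (n : ℕ) : ℕ :=
  Nat.xor (Nat.land (Nat.shiftRight n 1) (nat_lit 87381))
    (Nat.shiftLeft (Nat.xor (Nat.land n (nat_lit 87381)) (Nat.land (Nat.shiftRight n 1) (nat_lit 87381))) 1)

theorem mk_w : ∀ a b : Bool, w * mk a b = mk b (xor a b) := by decide

theorem L_even : ∀ k, k < 9 → (87381 : ℕ).testBit (2 * k) = true := by decide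

theorem L_odd : ∀ k, k < 9 → (87381 : ℕ).testBit (2 * k + 1) = false := by decide

theorem mw_bit0 (n k : ℕ) (hk : k < 9) : (mw n).testBit (2 * k) = n.testBit (2 * k + 1) := by
  show (((n >>> 1) &&& 87381) ^^^ (((n &&& 87381) ^^^ ((n >>> 1) &&& 87381)) <<< 1)).testBit (2 * k) = _
  rw [Nat.testBit_xor, Nat.testBit_and, Nat.testBit_shiftRight, L_even k hk]
  have h1 : (1 + 2 * k) = 2 * k + 1 := by omega
  rw [h1, Bool.and_true]
  rcases Nat.eq_zero_or_pos k with rfl | hpos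
  · simp
  · obtain ⟨j, rfl⟩ : ∃ j, k = j + 1 := ⟨k - 1, by omega⟩
    have h2 : 2 * (j + 1) = 2 * j + 1 + 1 := by ring
    have hj : j < 9 := by omega
    rw [h2, Nat.testBit_shiftLeft]
    simp only [ge_iff_le, show 1 ≤ 2 * j + 1 + 1 by omega, decide_true, Bool.true_and, Nat.add_sub_cancel]
    rw [Nat.testBit_xor, Nat.testBit_and, Nat.testBit_and, L_odd j hj]
    simp

theorem mw_bit1 (n k : ℕ) (hk : k < 9) :
    (mw n).testBit (2 * k + 1) = xor (n.testBit (2 * k)) (n.testBit (2 * k + 1)) := by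
  show (((n >>> 1) &&& 87381) ^^^ (((n &&& 87381) ^^^ ((n >>> 1) &&& 87381)) <<< 1)).testBit (2 * k + 1) = _
  rw [Nat.testBit_xor, Nat.testBit_and, L_odd k hk, Bool.and_false, Bool.false_xor,
    Nat.testBit_shiftLeft]
  simp only [ge_iff_le, show 1 ≤ 2 * k + 1 by omega, decide_true, Bool.true_and, Nat.add_sub_cancel]
  rw [Nat.testBit_xor, Nat.testBit_and, Nat.testBit_and, Nat.testBit_shiftRight, L_even k hk]
  have h1 : (1 + 2 * k) = 2 * k + 1 := by omega
  rw [h1]
  simp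

theorem dig_mw (n k : ℕ) (hk : k < 9) : dig (mw n) k = w * dig n k := by
  rw [dig_mk, dig_mk, mw_bit0 n k hk, mw_bit1 n k hk, mk_w]

/-- multiplication by a digit -/
noncomputable def cm (d x : ℕ) : ℕ :=
  Bool.rec (motive := fun _ => ℕ)
    (Bool.rec (motive := fun _ => ℕ)
      (Bool.rec (motive := fun _ => ℕ) (mw (mw x)) (mw x) (Nat.beq d 2))
      x (Nat.beq d 1))
    0 (Nat.beq d 0)

/-- the digit as a number -/
noncomputable def dg (n k : ℕ) : ℕ := Nat.land (Nat.shiftRight n (Nat.mul 2 k)) 3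

theorem dg_val (n k : ℕ) : dg n k = val4 (dig n k) := by
  show (n >>> (2 * k)) &&& 3 = (n >>> (2 * k)) % 4
  exact Nat.and_two_pow_sub_one_eq_mod _ 2

theorem dig_zero (k : ℕ) : dig 0 k = 0 := by
  apply Fin.ext (n := 4)
  show (0 >>> (2 * k)) % 4 = 0
  simp

/-- a field element from a number -/
def ofN (d : ℕ) (hd : d < 4) : F4 := (⟨d, hd⟩ : Fin 4)

theorem dig_cm (d x k : ℕ) (hk : k < 9) (hd : d < 4) :
    dig (cm d x) k = ofN d hd * dig x k := by
  interval_cases d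
  · show dig 0 k = _
    rw [dig_zero]
    exact (zero_mul _).symm
  · show dig x k = _
    exact (one_mul _).symm
  · show dig (mw x) k = _
    rw [dig_mw x k hk]
    rfl
  · show dig (mw (mw x)) k = _
    rw [dig_mw _ k hk, dig_mw x k hk, ← mul_assoc]
    rfl

/-- application of a matrix given by its columns to a number -/
noncomputable def app (c : ℕ → ℕ) (n : ℕ) : ℕ :=
  Nat.xor (cm (dg n 0) (c 0)) (Nat.xor (cm (dg n 1) (c 1)) (Nat.xor (cm (dg n 2) (c 2))
    (Nat.xor (cm (dg n 3) (c 3)) (Nat.xor (cm (dg n 4) (c 4)) (Nat.xor (cm (dg n 5) (c 5))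
    (Nat.xor (cm (dg n 6) (c 6)) (Nat.xor (cm (dg n 7) (c 7)) (cm (dg n 8) (c 8)))))))))

/-- the matrix with given columns -/
def mat9 (c : ℕ → ℕ) : Matrix F9 F9 F4 := Matrix.of fun u z => dig (c (pos z)) (pos u)

theorem pos_lt (z : F9) : pos z < 9 := by
  revert z
  decide

theorem dig_dg (n j k : ℕ) (hk : k < 9) (x : ℕ) : dig (cm (dg n j) x) k = dig n j * dig x k := by
  have h1 : dg n j < 4 := by
    rw [dg_val]
    exact val4_lt _
  rw [dig_cm _ _ _ hk h1]
  congr 1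
  apply Fin.ext (n := 4)
  exact dg_val n j

theorem dig_app (c : ℕ → ℕ) (n k : ℕ) (hk : k < 9) : dig (app c n) k =
    dig n 0 * dig (c 0) k + (dig n 1 * dig (c 1) k + (dig n 2 * dig (c 2) k + (dig n 3 * dig (c 3) k +
    (dig n 4 * dig (c 4) k + (dig n 5 * dig (c 5) k + (dig n 6 * dig (c 6) k + (dig n 7 * dig (c 7) k +
    dig n 8 * dig (c 8) k))))))) := by
  unfold app
  simp only [dig_xor, dig_dg _ _ k hk]

theorem sum_F9 (f : F9 → F4) : ∑ z, f z =
    f (0, 0) + (f (0, 1) + (f (0, 2) + (f (1, 0) + (f (1, 1) + (f (1, 2) + (f (2, 0) + (f (2, 1) + f (2, 2)))))))) := by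
  have h3 : ∀ g : ZMod 3 → F4, ∑ r, g r = g 0 + g 1 + g 2 := fun g => Fin.sum_univ_three (M := F4) g
  rw [Fintype.sum_prod_type]
  simp only [h3]
  abel

theorem mat9_mulVec (c : ℕ → ℕ) (n : ℕ) : mat9 c *ᵥ vec9 n = vec9 (app c n) := by
  funext u
  show ∑ z, mat9 c u z * vec9 n z = dig (app c n) (pos u)
  rw [sum_F9, dig_app c n _ (pos_lt u)]
  show dig (c (pos (0, 0))) (pos u) * dig n (pos (0, 0)) + (dig (c (pos (0, 1))) (pos u) * dig n (pos (0, 1)) +
    (dig (c (pos (0, 2))) (pos u) * dig n (pos (0, 2)) + (dig (c (pos (1, 0))) (pos u) * dig n (pos (1, 0)) +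
    (dig (c (pos (1, 1))) (pos u) * dig n (pos (1, 1)) + (dig (c (pos (1, 2))) (pos u) * dig n (pos (1, 2)) +
    (dig (c (pos (2, 0))) (pos u) * dig n (pos (2, 0)) + (dig (c (pos (2, 1))) (pos u) * dig n (pos (2, 1)) +
    dig (c (pos (2, 2))) (pos u) * dig n (pos (2, 2))))))))) = _
  have e0 : pos (0, 0) = 0 := rfl
  have e1 : pos (0, 1) = 1 := rfl
  have e2 : pos (0, 2) = 2 := rfl
  have e3 : pos (1, 0) = 3 := rfl
  have e4 : pos (1, 1) = 4 := rfl
  have e5 : pos (1, 2) = 5 := rfl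
  have e6 : pos (2, 0) = 6 := rfl
  have e7 : pos (2, 1) = 7 := rfl
  have e8 : pos (2, 2) = 8 := rfl
  rw [e0, e1, e2, e3, e4, e5, e6, e7, e8]
  simp only [mul_comm]

/-- columns of a product -/
noncomputable def mmul (a b : ℕ → ℕ) (k : ℕ) : ℕ := app a (b k)

theorem col_mat9 (c : ℕ → ℕ) (z : F9) : (fun u => mat9 c u z) = vec9 (c (pos z)) := rfl

theorem mat9_mul (a b : ℕ → ℕ) : mat9 a * mat9 b = mat9 (mmul a b) := by
  ext u z
  have h := congrFun (mat9_mulVec a (b (pos z))) u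
  rw [← col_mat9 b z] at h
  exact h

/-- The identity columns. -/
def idc (k : ℕ) : ℕ := 4 ^ k

theorem mat9_idc : mat9 idc = 1 := by
  have h : ∀ u z : F9, dig (idc (pos z)) (pos u) = if u = z then (1 : F4) else 0 := by
    decide +kernel
  ext u z
  rw [Matrix.one_apply]
  exact h u z

theorem vec9_inj {n m : ℕ} (hn : n < 2 ^ 18) (hm : m < 2 ^ 18) (h : vec9 n = vec9 m) : n = m := by
  have key : ∀ x : ℕ, x < 2 ^ 18 → x = val4 (dig x 0) + 4 * val4 (dig x 1) + 16 * val4 (dig x 2) +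
      64 * val4 (dig x 3) + 256 * val4 (dig x 4) + 1024 * val4 (dig x 5) + 4096 * val4 (dig x 6) +
      16384 * val4 (dig x 7) + 65536 * val4 (dig x 8) := by
    intro x hx
    have h1 : ∀ k, val4 (dig x k) = (x >>> (2 * k)) % 4 := fun k => rfl
    simp only [h1, Nat.shiftRight_eq_div_pow]
    norm_num
    omega
  have e0 : dig n 0 = dig m 0 := congrFun h (0, 0)
  have e1 : dig n 1 = dig m 1 := congrFun h (0, 1)
  have e2 : dig n 2 = dig m 2 := congrFun h (0, 2)
  have e3 : dig n 3 = dig m 3 := congrFun h (1, 0)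
  have e4 : dig n 4 = dig m 4 := congrFun h (1, 1)
  have e5 : dig n 5 = dig m 5 := congrFun h (1, 2)
  have e6 : dig n 6 = dig m 6 := congrFun h (2, 0)
  have e7 : dig n 7 = dig m 7 := congrFun h (2, 1)
  have e8 : dig n 8 = dig m 8 := congrFun h (2, 2)
  rw [key n hn, key m hm, e0, e1, e2, e3, e4, e5, e6, e7, e8]

theorem vec9_mw (n : ℕ) : vec9 (mw n) = w • vec9 n := by
  funext z
  exact dig_mw n _ (pos_lt z)

end Cfsg.Agent.Lib.F9Code
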