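import Cfsg.Agent.Lib.PermChain6
import Cfsg.Agent.Lib.F9Code

/-! A group of 9 × 9 matrices over the field with 4 elements acting on a set of lines given by codes;
the comparison with a permutation chain on these lines. -/

set_option autoImplicit false
set_option linter.unusedSimpArgs false
set_option linter.unusedVariables false
set_option linter.style.haveILetI false
set_option maxRecDepth 100000

namespace Cfsg.Agent.Lib.F9Line

open Cfsg Cfsg.Spor Matrix Cfsg.Agent.Lib.F4Sp Cfsg.Agent.F4Iso Cfsg.Agent.Lib.F9Code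
open Cfsg.Agent.Lib.PChain Cfsg.Agent.Lib.PermChain Cfsg.Agent.Lib.PermChain2

/-- the matrix group -/
abbrev GL9 : Type := GL F9 F4

/-- equal up to a scalar -/
noncomputable def seqL (a b : ℕ) : Bool :=
  or (Nat.beq a b) (or (Nat.beq a (mw b)) (Nat.beq a (mw (mw b))))

/-- a letter acts on the lines like a matrix -/
noncomputable def lineY (D : PD) (LV : ℕ → ℕ) (c : ℕ → ℕ) (x p : ℕ) : Bool :=
  seqL (app c (LV p)) (LV (letter D x p))

/-- the codes of the lines are normalised and increasing -/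
noncomputable def lvY (N : ℕ) (LV : ℕ → ℕ) (p : ℕ) : Bool :=
  and (or (Nat.ble N (Nat.succ p)) (Nat.blt (LV p) (LV (Nat.succ p))))
    (and (Nat.blt (LV p) (nat_lit 262144))
      (and (Nat.blt (LV p) (mw (LV p))) (and (Nat.blt (mw (LV p)) (nat_lit 262144))
        (and (Nat.blt (LV p) (mw (mw (LV p)))) (Nat.blt (mw (mw (LV p))) (nat_lit 262144))))))

theorem F4_cases : ∀ c : F4, c ≠ 0 → c = 1 ∨ c = w ∨ c = w * w := by decide

section
variable {D : PD} {LV : ℕ → ℕ}

/-- the vector of a line -/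
def vL (LV : ℕ → ℕ) (p : ℕ) : V9 := vec9 (LV p)

/-- `g` permutes the lines like `σ` -/
def LP (D : PD) (LV : ℕ → ℕ) (g : GL9) (σ : Equiv.Perm (Fin D.N)) : Prop :=
  ∀ p : Fin D.N, ∃ c : F4, c ≠ 0 ∧ (g : Matrix F9 F9 F4) *ᵥ vL LV p = c • vL LV (σ p)

theorem LV_mono (hLV : ∀ p, p < D.N → lvY D.N LV p = true) {p q : ℕ} (hpq : p < q) (hq : q < D.N) :
    LV p < LV q := by
  induction q with
  | zero => omega
  | succ q ih =>
    have h1 := hLV q (by omega)
    simp only [lvY, Bool.and_eq_true, Bool.or_eq_true, Nat.ble_eq, Nat.blt_eq] at h1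
    have h2 : LV q < LV (q + 1) := by
      rcases h1.1 with h | h
      · have : q + 1 = Nat.succ q := rfl
        omega
      · exact h
    rcases Nat.lt_succ_iff_lt_or_eq.1 hpq with h | h
    · exact (ih h (by omega)).trans h2
    · rw [h]; exact h2

theorem LV_inj (hLV : ∀ p, p < D.N → lvY D.N LV p = true) {p q : ℕ} (hp : p < D.N) (hq : q < D.N)
    (h : LV p = LV q) : p = q := by
  rcases Nat.lt_trichotomy p q with h1 | h1 | h1
  · have := LV_mono hLV h1 hq
    omega
  · exact h1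
  · have := LV_mono hLV h1 hp
    omega

theorem line_inj (hLV : ∀ p, p < D.N → lvY D.N LV p = true) {p q : ℕ} (hp : p < D.N) (hq : q < D.N) {c : F4}
    (hc : c ≠ 0) (h : vL LV p = c • vL LV q) : p = q := by
  have hP := hLV p hp
  have hQ := hLV q hq
  simp only [lvY, Bool.and_eq_true, Nat.blt_eq] at hP hQ
  obtain ⟨-, a1, a2, a3, a4, a5⟩ := hP
  obtain ⟨-, b1, b2, b3, b4, b5⟩ := hQ
  rcases F4_cases c hc with rfl | rfl | rfl
  · rw [one_smul] at h
    exact LV_inj hLV hp hq (vec9_inj a1 b1 h)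
  · have h1 : vec9 (LV p) = vec9 (mw (LV q)) := by
      rw [vec9_mw]; exact h
    have h2 := vec9_inj a1 b3 h1
    -- `w² • p = q`
    have h3 : vec9 (mw (mw (LV p))) = vec9 (LV q) := by
      rw [h2, vec9_mw, vec9_mw, vec9_mw, smul_smul, smul_smul]
      have : w * w * w = 1 := by decide
      rw [this, one_smul]
    have h4 := vec9_inj a5 b1 h3
    omega
  · have h1 : vec9 (LV p) = vec9 (mw (mw (LV q))) := by
      rw [vec9_mw, vec9_mw, smul_smul]; exact h
    have h2 := vec9_inj a1 b5 h1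
    have h3 : vec9 (mw (LV p)) = vec9 (LV q) := by
      rw [h2, vec9_mw, vec9_mw, vec9_mw, smul_smul, smul_smul]
      have : w * w * w = 1 := by decide
      rw [this, one_smul]
    have h4 := vec9_inj a3 b1 h3
    omega

theorem LP_one : LP D LV 1 1 := by
  intro p
  refine ⟨1, one_ne_zero, ?_⟩
  simp

theorem LP_mul {g h : GL9} {σ τ : Equiv.Perm (Fin D.N)} (h1 : LP D LV g σ) (h2 : LP D LV h τ) :
    LP D LV (g * h) (σ * τ) := by
  intro p
  obtain ⟨c, hc, e⟩ := h2 p
  obtain ⟨c', hc', e'⟩ := h1 (τ p)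
  refine ⟨c * c', mul_ne_zero hc hc', ?_⟩
  show ((g : Matrix F9 F9 F4) * (h : Matrix F9 F9 F4)) *ᵥ vL LV p = _
  rw [← Matrix.mulVec_mulVec, e, Matrix.mulVec_smul, e', smul_smul]
  rfl

theorem LP_inv {g : GL9} {σ : Equiv.Perm (Fin D.N)} (h1 : LP D LV g σ) : LP D LV g⁻¹ σ⁻¹ := by
  intro p
  obtain ⟨c, hc, e⟩ := h1 (σ⁻¹ p)
  have e2 : σ (σ⁻¹ p) = p := by simp
  rw [e2] at e
  refine ⟨c⁻¹, inv_ne_zero hc, ?_⟩
  have h3 : ((g⁻¹ : GL9) : Matrix F9 F9 F4) * (g : Matrix F9 F9 F4) = 1 := by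
    have := congrArg Units.val (inv_mul_cancel g)
    simpa using this
  have h4 : ((g⁻¹ : GL9) : Matrix F9 F9 F4) *ᵥ ((g : Matrix F9 F9 F4) *ᵥ vL LV (σ⁻¹ p)) = vL LV (σ⁻¹ p) := by
    rw [Matrix.mulVec_mulVec, h3, Matrix.one_mulVec]
  rw [e, Matrix.mulVec_smul] at h4
  have h5 : c⁻¹ • (c • ((g⁻¹ : GL9) : Matrix F9 F9 F4) *ᵥ vL LV p) = c⁻¹ • vL LV (σ⁻¹ p) := by
    rw [h4]
  rw [smul_smul, inv_mul_cancel₀ hc, one_smul] at h5
  exact h5

theorem LP_unique (hLV : ∀ p, p < D.N → lvY D.N LV p = true) {g : GL9} {σ τ : Equiv.Perm (Fin D.N)}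
    (h1 : LP D LV g σ) (h2 : LP D LV g τ) : σ = τ := by
  ext p
  obtain ⟨c, hc, e⟩ := h1 p
  obtain ⟨c', hc', e'⟩ := h2 p
  have h3 : c • vL LV (σ p) = c' • vL LV (τ p) := by rw [← e, e']
  have h4 : vL LV (σ p) = (c⁻¹ * c') • vL LV (τ p) := by
    rw [← smul_smul, ← h3, smul_smul, inv_mul_cancel₀ hc, one_smul]
  have h5 := line_inj hLV (σ p).2 (τ p).2 (mul_ne_zero (inv_ne_zero hc) hc') h4
  exact h5

/-- the scalar matrices -/
def IsScal (g : GL9) : Prop := ∃ c : F4, c ≠ 0 ∧ (g : Matrix F9 F9 F4) = c • (1 : Matrix F9 F9 F4)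

theorem LP_of_scal (hLV : ∀ p, p < D.N → lvY D.N LV p = true) {g : GL9} (hg : IsScal g)
    {σ : Equiv.Perm (Fin D.N)} (h : LP D LV g σ) : σ = 1 := by
  obtain ⟨c, hc, e⟩ := hg
  ext p
  obtain ⟨c', hc', e'⟩ := h p
  rw [e, Matrix.smul_mulVec, Matrix.one_mulVec] at e'
  have h4 : vL LV p = (c⁻¹ * c') • vL LV (σ p) := by
    rw [← smul_smul, ← e', smul_smul, inv_mul_cancel₀ hc, one_smul]
  have h5 := line_inj hLV p.2 (σ p).2 (mul_ne_zero (inv_ne_zero hc) hc') h4
  show (σ p : ℕ) = p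
  exact h5.symm

theorem LP_scal (g : GL9) (hg : IsScal g) : LP D LV g 1 := by
  obtain ⟨c, hc, e⟩ := hg
  intro p
  refine ⟨c, hc, ?_⟩
  rw [e, Matrix.smul_mulVec, Matrix.one_mulVec]
  rfl

/-- the frame -/
structure Frame (D : PD) (LV : ℕ → ℕ) (U : ℕ) : Prop where
  e : ∀ z : F9, ∃ b ∈ D.B, b < D.N ∧ LV b = 4 ^ pos z
  u : ∃ b ∈ D.B, b < D.N ∧ LV b = U
  nz : ∀ z : F9, vec9 U z ≠ 0

theorem vec9_single : ∀ z u : F9, vec9 (4 ^ pos z) u = (Pi.single z (1 : F4) : V9) u := by
  decide +kernel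

theorem scal_of_frame {U : ℕ} (hF : Frame D LV U) {g : GL9} {σ : Equiv.Perm (Fin D.N)} (h : LP D LV g σ)
    (hfix : ∀ b, b ∈ D.B → (hb : b < D.N) → σ ⟨b, hb⟩ = ⟨b, hb⟩) : IsScal g := by
  -- the columns
  have hcol : ∀ z : F9, ∃ c : F4, c ≠ 0 ∧ ∀ u, (g : Matrix F9 F9 F4) u z = if u = z then c else 0 := by
    intro z
    obtain ⟨b, hb, hlt, he⟩ := hF.e z
    obtain ⟨c, hc, e⟩ := h ⟨b, hlt⟩
    rw [hfix b hb hlt] at e
    refine ⟨c, hc, ?_⟩
    intro u
    have h1 := congrFun e u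
    simp only [vL, he] at h1
    have h2 : vec9 (4 ^ pos z) = Pi.single z (1 : F4) := funext (vec9_single z)
    rw [h2, Matrix.mulVec_single_one] at h1
    have h3 : (g : Matrix F9 F9 F4) u z = c * (Pi.single z (1 : F4) : V9) u := h1
    rw [h3]
    by_cases huz : u = z
    · subst huz
      simp
    · simp [huz]
  choose c hc hM using hcol
  obtain ⟨b, hb, hlt, he⟩ := hF.u
  obtain ⟨c0, hc0, e⟩ := h ⟨b, hlt⟩
  rw [hfix b hb hlt] at e
  refine ⟨c0, hc0, ?_⟩
  have hdiag : ∀ z, c z = c0 := by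
    intro z
    have h1 := congrFun e z
    simp only [vL, he] at h1
    have h2 : ((g : Matrix F9 F9 F4) *ᵥ vec9 U) z = c z * vec9 U z := by
      show ∑ y, (g : Matrix F9 F9 F4) z y * vec9 U y = _
      rw [Finset.sum_eq_single z]
      · rw [hM z z, if_pos rfl]
      · intro y _ hy
        rw [hM y z, if_neg (Ne.symm hy), zero_mul]
      · simp
    rw [h2] at h1
    have h3 : c z * vec9 U z = c0 * vec9 U z := h1
    exact mul_right_cancel₀ (hF.nz z) h3
  ext u z
  rw [hM z u, Matrix.smul_apply, Matrix.one_apply, hdiag]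
  by_cases huz : u = z <;> simp [huz]

/-- a lift of faithfulness -/
theorem faith_of_frame (hLV : ∀ p, p < D.N → lvY D.N LV p = true) {U : ℕ} (hF : Frame D LV U)
    (hB : baseOK D = true) {g : GL9} {σ : Equiv.Perm (Fin D.N)} (h : LP D LV g σ)
    (hfix : enc D σ = D.B) : σ = 1 := by
  have h1 : ∀ b, b ∈ D.B → (hb : b < D.N) → σ ⟨b, hb⟩ = ⟨b, hb⟩ := by
    intro b hb hlt
    have h2 : ∀ l : List ℕ, b ∈ l → l.map (pv σ) = l → pv σ b = b := by
      intro l
      induction l with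
      | nil => simp
      | cons a l ih =>
        intro h3 h4
        simp only [List.map_cons, List.cons.injEq] at h4
        rcases List.mem_cons.1 h3 with h5 | h5
        · rw [h5]; exact h4.1
        · exact ih h5 h4.2
    have h3 := h2 D.B hb hfix
    simp only [pv, dif_pos hlt] at h3
    have h4 : σ⁻¹ ⟨b, hlt⟩ = ⟨b, hlt⟩ := Fin.ext h3
    rw [Equiv.Perm.inv_eq_iff_eq] at h4
    exact h4.symm
  exact LP_of_scal hLV (scal_of_frame hF h h1) h

end

section sift
variable {C : Type} {G : Type*} [Group G] {d : CD C} {gen : ℕ → G} {enc' : G → C}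

theorem sift_exists (hS : Sem d gen enc') (hC : Checked d) :
    ∀ r j, r + j = d.k → ∀ g, sift d r j (enc' g) = true →
      ∃ h ∈ K d gen j, d.eqOne (enc' (g * h⁻¹)) = true := by
  intro r
  induction r with
  | zero =>
    intro j hj g h
    rw [sift_zero] at h
    exact ⟨1, one_mem _, by simpa using h⟩
  | succ r ih =>
    intro j hj g h
    have hj2 : j < d.k := by omega
    rw [sift_succ, Bool.and_eq_true, Bool.and_eq_true, Nat.ble_eq, Nat.blt_eq] at h
    have hL : InLevel d j (d.nd j (enc' g)) := ⟨h.1, h.2.1⟩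
    have h2 := h.2.2
    rw [unw_eq hS] at h2
    obtain ⟨h', hh', e⟩ := ih (j + 1) (by omega) _ h2
    refine ⟨h' * rep d gen (d.nd j (enc' g)), mul_mem ((hS.incl j hj2) hh') (rep_mem hS hC hj2 _ hL), ?_⟩
    have : g * (h' * rep d gen (d.nd j (enc' g)))⁻¹ = g * (rep d gen (d.nd j (enc' g)))⁻¹ * h'⁻¹ := by
      group
    rw [this]
    exact e

end sift

section main
variable {D : PD} {LV : ℕ → ℕ} {U : ℕ}

/-- a sifted element of the enveloping group lies in the group of the chain -/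
theorem mem_of_sift (hC : Cert D) (hLV : ∀ p, p < D.N → lvY D.N LV p = true) (hF : Frame D LV U)
    {g : GL9} {σ : Equiv.Perm (Fin D.N)} (hg : LP D LV g σ) (hK : ∀ τ ∈ KK D 0, ∃ g', LP D LV g' τ)
    (hs : sift (cd D) D.k 0 (enc D σ) = true) : σ ∈ KK D 0 := by
  obtain ⟨h, hh, e⟩ := sift_exists hC.sem hC.checked D.k 0 rfl σ hs
  have e2 : enc D (σ * h⁻¹) = D.B := leq_sound _ _ e
  obtain ⟨g', hg'⟩ := hK h hh
  have h3 : σ * h⁻¹ = 1 := faith_of_frame hLV hF hC.base (LP_mul hg (LP_inv hg')) e2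
  have h4 : σ = h := by
    rw [mul_inv_eq_one] at h3
    exact h3
  rw [h4]
  exact hh

/-- the letters: the code of an element -/
theorem enc_gp (hL : lettersOK D) (hB : baseOK D = true) (x : ℕ) :
    enc D (gp D x) = D.B.map (letter D x) := by
  unfold enc
  apply List.map_congr_left
  intro b hb
  have h1 := (List.all_eq_true.1 hB) b hb
  simp only [Nat.blt_eq] at h1
  simp only [pv, dif_pos h1]
  rw [gp_inv_apply hL]

/-- The surjection of the matrix group onto the group of the chain and its consequences. -/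
structure Link (D : PD) (LV : ℕ → ℕ) (U : ℕ) (Γ : Subgroup GL9) : Prop where
  cert : Cert D
  lv : ∀ p, p < D.N → lvY D.N LV p = true
  frame : Frame D LV U
  up : ∀ g ∈ Γ, ∃ σ ∈ KK D 0, LP D LV g σ
  down : ∀ σ ∈ KK D 0, ∃ g ∈ Γ, LP D LV g σ
  om : ∃ g ∈ Γ, (g : Matrix F9 F9 F4) = w • (1 : Matrix F9 F9 F4)

variable {Γ : Subgroup GL9}

/-- the homomorphism -/
noncomputable def phi (hL : Link D LV U Γ) : Γ →* KK D 0 :=
  MonoidHom.mk' (fun g => ⟨(hL.up g g.2).choose, (hL.up g g.2).choose_spec.1⟩) (by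
    intro a b
    apply Subtype.ext
    exact LP_unique hL.lv (hL.up _ (a * b).2).choose_spec.2
      (LP_mul (hL.up _ a.2).choose_spec.2 (hL.up _ b.2).choose_spec.2))

theorem phi_spec (hL : Link D LV U Γ) (g : Γ) : LP D LV g (phi hL g : Equiv.Perm (Fin D.N)) :=
  (hL.up g g.2).choose_spec.2

theorem phi_surj (hL : Link D LV U Γ) : Function.Surjective (phi hL) := by
  rintro ⟨σ, hσ⟩
  obtain ⟨g, hg, e⟩ := hL.down σ hσ
  refine ⟨⟨g, hg⟩, Subtype.ext ?_⟩
  exact LP_unique hL.lv (phi_spec hL ⟨g, hg⟩) e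

theorem ker_iff (hL : Link D LV U Γ) (g : Γ) : g ∈ (phi hL).ker ↔ IsScal (g : GL9) := by
  rw [MonoidHom.mem_ker]
  constructor
  · intro h
    have h1 := phi_spec hL g
    rw [h] at h1
    apply scal_of_frame (D := D) (LV := LV) hL.frame (σ := 1) h1
    intro b _ _
    rfl
  · intro h
    apply Subtype.ext
    exact LP_of_scal hL.lv h (phi_spec hL g)

theorem scal_central {g h : GL9} (hg : IsScal g) : g * h = h * g := by
  obtain ⟨c, hc, e⟩ := hg
  apply Units.ext
  show (g : Matrix F9 F9 F4) * (h : Matrix F9 F9 F4) = (h : Matrix F9 F9 F4) * (g : Matrix F9 F9 F4)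
  rw [e]
  simp

theorem card_nz : Nat.card { c : F4 // c ≠ 0 } = 3 := by
  rw [Nat.card_eq_fintype_card, Fintype.card_subtype]
  decide

/-- the kernel has three elements -/
theorem card_ker (hL : Link D LV U Γ) : Nat.card (phi hL).ker = 3 := by
  classical
  obtain ⟨om, hom, e⟩ := hL.om
  have hscal : IsScal om := ⟨w, by decide, e⟩
  have hkom : (⟨om, hom⟩ : Γ) ∈ (phi hL).ker := (ker_iff hL _).2 hscal
  have hom2 : ((om * om : GL9) : Matrix F9 F9 F4) = (w * w) • (1 : Matrix F9 F9 F4) := by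
    show (om : Matrix F9 F9 F4) * (om : Matrix F9 F9 F4) = _
    rw [e, smul_mul_smul_comm, one_mul]
  -- an explicit bijection with the three scalars
  have hmat : ∀ g : (phi hL).ker, ∃ c : F4, c ≠ 0 ∧ (((g : Γ) : GL9) : Matrix F9 F9 F4) = c • (1 : Matrix F9 F9 F4) :=
    fun g => (ker_iff hL _).1 g.2
  have hne : ∀ a b : F4, a • (1 : Matrix F9 F9 F4) = b • (1 : Matrix F9 F9 F4) → a = b := by
    intro a b h
    have := congrFun (congrFun h (0, 0)) (0, 0)
    simpa using this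
  let f : (phi hL).ker → { c : F4 // c ≠ 0 } := fun g => ⟨(hmat g).choose, (hmat g).choose_spec.1⟩
  have hf : Function.Bijective f := by
    constructor
    · intro a b hab
      apply Subtype.ext
      apply Subtype.ext
      apply Units.ext
      rw [(hmat a).choose_spec.2, (hmat b).choose_spec.2]
      exact congrArg (· • (1 : Matrix F9 F9 F4)) (congrArg Subtype.val hab)
    · rintro ⟨c, hc⟩
      rcases F4_cases c hc with rfl | rfl | rfl
      · refine ⟨1, Subtype.ext ?_⟩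
        apply hne
        rw [← (hmat 1).choose_spec.2]
        simp
      · refine ⟨⟨⟨om, hom⟩, hkom⟩, Subtype.ext ?_⟩
        apply hne
        rw [← (hmat _).choose_spec.2]
        exact e
      · have hk2 : (⟨om * om, mul_mem hom hom⟩ : Γ) ∈ (phi hL).ker :=
          (ker_iff hL _).2 ⟨w * w, by decide, hom2⟩
        refine ⟨⟨⟨om * om, mul_mem hom hom⟩, hk2⟩, Subtype.ext ?_⟩
        apply hne
        rw [← (hmat _).choose_spec.2]
        exact hom2
  rw [Nat.card_eq_of_bijective f hf]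
  exact card_nz

theorem card_gamma (hL : Link D LV U Γ) (hfin : Finite (KK D 0)) :
    Nat.card Γ = 3 * Nat.card (KK D 0) := by
  have h1 := Subgroup.card_eq_card_quotient_mul_card_subgroup (phi hL).ker
  have h2 : Nat.card (Γ ⧸ (phi hL).ker) = Nat.card (KK D 0) :=
    Nat.card_congr (QuotientGroup.quotientKerEquivOfSurjective _ (phi_surj hL)).toEquiv
  rw [h1, h2, card_ker hL, mul_comm]

theorem center_eq (hL : Link D LV U Γ) (hS : IsSimpleGroup (KK D 0)) (hnc : ∃ a b : KK D 0, a * b ≠ b * a) :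
    Subgroup.center Γ = (phi hL).ker := by
  apply le_antisymm
  · intro z hz
    have h1 : phi hL z ∈ Subgroup.center (KK D 0) := by
      rw [Subgroup.mem_center_iff]
      intro y
      obtain ⟨y', rfl⟩ := phi_surj hL y
      rw [← map_mul, ← map_mul, (Subgroup.mem_center_iff.1 hz) y']
    have h2 : Subgroup.center (KK D 0) = ⊥ := by
      rcases hS.eq_bot_or_eq_top_of_normal (Subgroup.center (KK D 0)) inferInstance with h | h
      · exact h
      · exfalso
        obtain ⟨a, b, hab⟩ := hnc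
        apply hab
        have : a ∈ Subgroup.center (KK D 0) := by rw [h]; trivial
        exact (Subgroup.mem_center_iff.1 this b).symm
    rw [h2, Subgroup.mem_bot] at h1
    exact h1
  · intro z hz
    rw [Subgroup.mem_center_iff]
    intro y
    apply Subtype.ext
    exact scal_central ((ker_iff hL z).1 hz) |>.symm

theorem card_center (hL : Link D LV U Γ) (hS : IsSimpleGroup (KK D 0)) (hnc : ∃ a b : KK D 0, a * b ≠ b * a) :
    Nat.card (Subgroup.center Γ) = 3 := by
  rw [center_eq hL hS hnc]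
  exact card_ker hL

/-- the quotient by the centre -/
theorem quot_iso (hL : Link D LV U Γ) (hS : IsSimpleGroup (KK D 0)) (hnc : ∃ a b : KK D 0, a * b ≠ b * a) :
    Nonempty (Γ ⧸ Subgroup.center Γ ≃* KK D 0) :=
  ⟨(QuotientGroup.quotientMulEquivOfEq (center_eq hL hS hnc)).trans
    (QuotientGroup.quotientKerEquivOfSurjective _ (phi_surj hL))⟩

end main

end Cfsg.Agent.Lib.F9Line
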