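import Cfsg.Agent.Lib.CharGal
import Cfsg.Agent.Lib.FGSBasic

set_option autoImplicit false

/-! Solvability by induction on normal sections, and some applications of Burnside's lemma. -/

namespace Cfsg.Agent.Lib.FGS2

universe u

/-- A property inherited by normal subgroups and quotients and forcing solvability of simple groups
forces solvability. -/
theorem solvable_of_hereditary (Q : ∀ (G : Type u) [Group G] [Finite G], Prop)
    (hsimple : ∀ (G : Type u) [Group G] [Finite G] [IsSimpleGroup G], Q G → Group.IsSolvable G)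
    (hsub : ∀ (G : Type u) [Group G] [Finite G] (N : Subgroup G) [N.Normal], Q G → Q N)
    (hquo : ∀ (G : Type u) [Group G] [Finite G] (N : Subgroup G) [N.Normal], Q G → Q (G ⧸ N)) :
    ∀ (G : Type u) [Group G] [Finite G], Q G → Group.IsSolvable G := by
  have key : ∀ (n : ℕ) (G : Type u) [Group G] [Finite G], Nat.card G = n → Q G → Group.IsSolvable G := by
    intro n
    induction n using Nat.strong_induction_on with
    | _ n ih =>
      intro G _ _ hn hQ
      by_cases hs : IsSimpleGroup G
      · exact hsimple G hQ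
      · by_cases hnt : Nontrivial G
        · have hex : ∃ N : Subgroup G, N.Normal ∧ N ≠ ⊥ ∧ N ≠ ⊤ := by
            by_contra hcon
            push Not at hcon
            apply hs
            refine { eq_bot_or_eq_top_of_normal := ?_ }
            intro H hH
            by_cases hb : H = ⊥
            · exact Or.inl hb
            · exact Or.inr (hcon H hH hb)
          obtain ⟨N, hN, hN1, hN2⟩ := hex
          have hNcard : Nat.card N * N.index = Nat.card G := N.card_mul_index
          have hNpos : 0 < Nat.card N := Nat.card_pos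
          have hidxpos : 0 < N.index := Nat.pos_of_ne_zero Subgroup.index_ne_zero_of_finite
          have h1 : 1 < N.index := by
            have : N.index ≠ 1 := fun h => hN2 (Subgroup.index_eq_one.mp h)
            omega
          have h2 : 1 < Nat.card N := by
            have : Nat.card N ≠ 1 := fun h => hN1 (Subgroup.card_eq_one.mp h)
            omega
          have hN3 : Nat.card N < n := by
            rw [← hn, ← hNcard]
            nlinarith
          have hN4 : Nat.card (G ⧸ N) < n := by
            rw [← hn, ← hNcard, ← Subgroup.index_eq_card]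
            nlinarith
          have hs1 : Group.IsSolvable N := ih _ hN3 N rfl (hsub G N hQ)
          have hs2 : Group.IsSolvable (G ⧸ N) := ih _ hN4 (G ⧸ N) rfl (hquo G N hQ)
          exact Group.isSolvable_of_ker_le_range N.subtype (QuotientGroup.mk' N) (by
            intro g hg
            rw [QuotientGroup.ker_mk'] at hg
            exact ⟨⟨g, hg⟩, rfl⟩)
        · rw [not_nontrivial_iff_subsingleton] at hnt
          infer_instance
  exact fun G _ _ hQ => key _ G rfl hQ

/-- Relative index into a normal subgroup divides the index. -/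
theorem relIndex_normal_dvd_index {G : Type*} [Group G] [Finite G] (N H : Subgroup G) [N.Normal] :
    H.relIndex N ∣ H.index := by
  rw [Lib.FGSBasic.relIndex_eq_relIndex_sup N H]
  exact Subgroup.relIndex_dvd_index_of_le le_sup_right

/-- A group with an abelian subgroup of prime power index is solvable. -/
theorem solvable_of_abelian_index_primePow {p : ℕ} (hp : p.Prime) (G : Type u) [Group G] [Finite G]
    (A : Subgroup G) (hA : IsMulCommutative A) (k : ℕ) (hk : A.index = p ^ k) : Group.IsSolvable G := by
  refine solvable_of_hereditary (fun G _ _ => ∃ A : Subgroup G, IsMulCommutative A ∧ ∃ k : ℕ, A.index = p ^ k)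
    ?_ ?_ ?_ G ⟨A, hA, k, hk⟩
  · rintro G _ _ _ ⟨A, hA, k, hk⟩
    by_cases hbot : A = ⊥
    · have h1 : Nat.card G = p ^ k := by
        rw [← hk, hbot, Subgroup.index_bot]
      haveI : Fact p.Prime := ⟨hp⟩
      have := (IsPGroup.of_card h1).isNilpotent
      infer_instance
    · obtain ⟨a, ha, ha1⟩ : ∃ a, a ∈ A ∧ a ≠ 1 := by
        obtain ⟨x, hx⟩ := (Subgroup.ne_bot_iff_exists_ne_one).1 hbot
        exact ⟨x.1, x.2, fun h => hx (Subtype.ext h)⟩
      have hle : A ≤ Subgroup.centralizer ({a} : Set G) := by
        intro x hx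
        apply Subgroup.mem_centralizer_singleton_iff.2
        haveI := hA
        exact Lib.FGSBasic.mul_comm_of_mem A hx ha
      have hd : (Subgroup.centralizer ({a} : Set G)).index ∣ p ^ k := hk ▸ Subgroup.index_dvd_of_le hle
      obtain ⟨j, _, hj⟩ := (Nat.dvd_prime_pow hp).1 hd
      haveI := Fintype.ofFinite G
      have hprime := Lib.CharGal.prime_card_of_prime_power_class p j hp a ha1 hj
      haveI : Fact (Nat.card G).Prime := ⟨hprime⟩
      have hcyc : IsCyclic G := isCyclic_of_prime_card (p := Nat.card G) (by rw [Nat.card_eq_fintype_card])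
      exact Group.isSolvable_of_comm (fun a b => (IsCyclic.isMulCommutative (α := G)).is_comm.comm a b)
  · rintro G _ _ N _ ⟨A, hA, k, hk⟩
    refine ⟨A.subgroupOf N, ⟨⟨fun a b => ?_⟩⟩, ?_⟩
    · apply Subtype.ext
      apply Subtype.ext
      haveI := hA
      exact Lib.FGSBasic.mul_comm_of_mem A a.2 b.2
    · have h5 : A.relIndex N ∣ A.index := relIndex_normal_dvd_index N A
      obtain ⟨j, _, hj⟩ := (Nat.dvd_prime_pow hp).1 (hk ▸ h5)
      exact ⟨j, hj⟩
  · rintro G _ _ N _ ⟨A, hA, k, hk⟩
    refine ⟨A.map (QuotientGroup.mk' N), ⟨⟨fun a b => ?_⟩⟩, ?_⟩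
    · obtain ⟨x, hx, hxa⟩ := a.2
      obtain ⟨y, hy, hyb⟩ := b.2
      apply Subtype.ext
      show a.1 * b.1 = b.1 * a.1
      rw [← hxa, ← hyb, ← map_mul, ← map_mul]
      haveI := hA
      rw [Lib.FGSBasic.mul_comm_of_mem A hx hy]
    · have h5 := Subgroup.index_map_dvd A (QuotientGroup.mk'_surjective N)
      obtain ⟨j, _, hj⟩ := (Nat.dvd_prime_pow hp).1 (hk ▸ h5)
      exact ⟨j, hj⟩

/-- Lift of a `p'`-element of a quotient to a `p'`-element. -/
theorem exists_lift_coprime {G : Type*} [Group G] [Finite G] (N : Subgroup G) [N.Normal] {p : ℕ}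
    [Fact p.Prime] (y : G ⧸ N) (hy : (orderOf y).Coprime p) :
    ∃ x : G, (x : G ⧸ N) = y ∧ (orderOf x).Coprime p := by
  obtain ⟨g, rfl⟩ := QuotientGroup.mk_surjective y
  obtain ⟨a, b, ha', -, hab, ⟨k, hk⟩, hb⟩ := Lib.FGSBasic.exists_p_decomp p g
  refine ⟨b, ?_, hb⟩
  have ha : ((a : G) : G ⧸ N) = 1 := by
    have h1 : orderOf ((a : G) : G ⧸ N) ∣ p ^ k := by
      rw [← hk]
      exact orderOf_map_dvd (QuotientGroup.mk' N) a
    obtain ⟨z, hz⟩ := Subgroup.mem_zpowers_iff.1 ha'
    have h2 : orderOf ((a : G) : G ⧸ N) ∣ orderOf ((g : G) : G ⧸ N) := by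
      apply orderOf_dvd_of_pow_eq_one
      rw [← hz, QuotientGroup.mk_zpow, ← zpow_natCast, ← zpow_mul, mul_comm, zpow_mul, zpow_natCast,
        pow_orderOf_eq_one, one_zpow]
    have h3 : Nat.Coprime (orderOf ((a : G) : G ⧸ N)) (p ^ k) :=
      Nat.Coprime.coprime_dvd_left h2 (Nat.Coprime.pow_right k hy)
    have h4 : orderOf ((a : G) : G ⧸ N) = 1 := Nat.Coprime.eq_one_of_dvd h3 h1
    exact orderOf_eq_one_iff.1 h4
  rw [← hab, QuotientGroup.mk_mul, ha, one_mul]

/-- The property `all p'-elements have p-power class size` forces solvability. -/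
theorem solvable_of_p_regular_classes {p : ℕ} [hp : Fact p.Prime] (G : Type u) [Group G] [Finite G]
    (h : ∀ x : G, (orderOf x).Coprime p → ∃ k : ℕ, (Subgroup.centralizer ({x} : Set G)).index = p ^ k) :
    Group.IsSolvable G := by
  refine solvable_of_hereditary
    (fun G _ _ => ∀ x : G, (orderOf x).Coprime p → ∃ k : ℕ, (Subgroup.centralizer ({x} : Set G)).index = p ^ k)
    ?_ ?_ ?_ G h
  · intro G _ _ _ h
    by_cases hex : ∃ x : G, x ≠ 1 ∧ (orderOf x).Coprime p
    · obtain ⟨x, hx1, hx⟩ := hex
      obtain ⟨k, hk⟩ := h x hx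
      haveI := Fintype.ofFinite G
      have hprime := Lib.CharGal.prime_card_of_prime_power_class p k hp.out x hx1 hk
      haveI : Fact (Nat.card G).Prime := ⟨hprime⟩
      have hcyc : IsCyclic G := isCyclic_of_prime_card (p := Nat.card G) (by rw [Nat.card_eq_fintype_card])
      exact Group.isSolvable_of_comm (fun a b => (IsCyclic.isMulCommutative (α := G)).is_comm.comm a b)
    · push Not at hex
      have hpg : IsPGroup p G := by
        rw [IsPGroup.iff_orderOf]
        intro g
        obtain ⟨a, b, -, -, hab, ⟨k, hk⟩, hb⟩ := Lib.FGSBasic.exists_p_decomp p g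
        have hb1 : b = 1 := by
          by_contra hne
          exact hex b hne hb
        rw [hb1, mul_one] at hab
        exact ⟨k, by rw [← hab, hk]⟩
      have := hpg.isNilpotent
      infer_instance
  · intro G _ _ N _ h x hx
    have hx' : (orderOf (x : G)).Coprime p := by simpa using hx
    obtain ⟨k, hk⟩ := h x hx'
    have h5 : (Subgroup.centralizer ({(x : G)} : Set G)).relIndex N ∣ (Subgroup.centralizer ({(x : G)} : Set G)).index :=
      relIndex_normal_dvd_index N _
    obtain ⟨j, _, hj⟩ := (Nat.dvd_prime_pow hp.out).1 (hk ▸ h5)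
    refine ⟨j, ?_⟩
    rw [← hj, Subgroup.relIndex]
    congr 1
    ext y
    simp [Subgroup.mem_subgroupOf, Subgroup.mem_centralizer_singleton_iff, Subtype.ext_iff]
  · intro G _ _ N _ h y hy
    obtain ⟨x, rfl, hx⟩ := exists_lift_coprime N y hy
    obtain ⟨k, hk⟩ := h x hx
    have hle : (Subgroup.centralizer ({x} : Set G)).map (QuotientGroup.mk' N) ≤
        Subgroup.centralizer ({(x : G ⧸ N)} : Set (G ⧸ N)) := by
      rintro _ ⟨c, hc, rfl⟩
      rw [SetLike.mem_coe, Subgroup.mem_centralizer_singleton_iff] at hc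
      rw [Subgroup.mem_centralizer_singleton_iff]
      show ((c : G) : G ⧸ N) * x = x * c
      rw [← QuotientGroup.mk_mul, hc, QuotientGroup.mk_mul]
    have h1 := Subgroup.index_dvd_of_le hle
    have h2 := Subgroup.index_map_dvd (Subgroup.centralizer ({x} : Set G)) (QuotientGroup.mk'_surjective N)
    obtain ⟨j, _, hj⟩ := (Nat.dvd_prime_pow hp.out).1 (hk ▸ h1.trans h2)
    exact ⟨j, hj⟩

end Cfsg.Agent.Lib.FGS2
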