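import Cfsg.Agent.S3939
import Cfsg.Agent.Lib.H1Core
import Cfsg.Agent.Lib.H1SZ

set_option autoImplicit false

/-! Nilpotency from commuting of coprime prime-power elements; elements of the Fitting subgroup. -/

namespace Cfsg.Agent.Lib.FGS4

open Subgroup
open Cfsg

variable {G : Type*} [Group G] [Finite G]

/-- A finite group in which elements of prime-power orders for distinct primes commute is nilpotent. -/
theorem nilp_of_comm
    (h : ∀ (p q a b : ℕ) (x y : G), p.Prime → q.Prime → p ≠ q → orderOf x = p ^ a → orderOf y = q ^ b →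
      x * y = y * x) : Group.IsNilpotent G := by
  refine ((Group.isNilpotent_of_finite_tfae (G := G)).out 0 3).mpr ?_
  intro p hp P
  have hpp : p.Prime := hp.out
  obtain ⟨a, ha⟩ := Cfsg.Agent.S3939.index_prime_pow_of_contains hpp
    (Subgroup.normalizer ((P : Subgroup G) : Set G)) (by
      intro r b x hr hrp hx
      have hc : ∀ u ∈ (P : Subgroup G), x * u = u * x := by
        intro u hu
        have hu' : ∃ k, orderOf u = p ^ k := by
          obtain ⟨k, hk⟩ := IsPGroup.iff_orderOf.mp P.2 ⟨u, hu⟩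
          refine ⟨k, ?_⟩
          rw [← hk, Subgroup.orderOf_mk]
        obtain ⟨k, hk⟩ := hu'
        exact (h r p b k x u hr hpp hrp hx hk)
      rw [Subgroup.mem_normalizer_iff]
      intro u
      constructor
      · intro hu
        have : x * u * x⁻¹ = u := by rw [hc u hu]; group
        rw [this]; exact hu
      · intro hu
        have h3 : x * u * x⁻¹ = u := by
          have h1 : x * (x * u * x⁻¹) = (x * u * x⁻¹) * x := hc _ hu
          have h2 : x⁻¹ * (x * (x * u * x⁻¹)) = x⁻¹ * ((x * u * x⁻¹) * x) := by rw [h1]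
          simpa [mul_assoc] using h2
        rwa [h3] at hu)
  have hle : (P : Subgroup G) ≤ Subgroup.normalizer ((P : Subgroup G) : Set G) := Subgroup.le_normalizer
  have hdvd : (Subgroup.normalizer ((P : Subgroup G) : Set G)).index ∣ (P : Subgroup G).index :=
    Subgroup.index_dvd_of_le hle
  have hnd := P.not_dvd_index
  have ha0 : a = 0 := by
    by_contra hne
    apply hnd
    refine dvd_trans ?_ hdvd
    rw [ha]
    exact dvd_pow_self p hne
  rw [ha0, pow_zero, Subgroup.index_eq_one] at ha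
  exact Subgroup.normalizer_eq_top_iff.mp ha

/-- A `q`-element of the Fitting subgroup lies in `O_q`. -/
theorem mem_pCore_of_mem_fitting {q b : ℕ} (hq : q.Prime) (x : G) (hx : x ∈ fittingSubgroup G)
    (ho : orderOf x = q ^ b) : x ∈ pCore q G := by
  haveI : Fact q.Prime := ⟨hq⟩
  haveI := Cfsg.Agent.Lib.H1Core.fittingSubgroup_normal G
  have hnil := Cfsg.Agent.Lib.H1Core.fittingSubgroup_isNilpotent (G := G)
  haveI := hnil
  obtain ⟨P⟩ : Nonempty (Sylow q (fittingSubgroup G)) := inferInstance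
  have hn := Cfsg.Agent.Lib.H1Core.sylow_map_normal_of_nilpotent _ hnil P
  have hpg : IsPGroup q ((P : Subgroup (fittingSubgroup G)).map (fittingSubgroup G).subtype) :=
    P.2.map _
  have hle := Cfsg.Agent.Lib.H1Core.le_pCore hn hpg
  apply hle
  refine ⟨⟨x, hx⟩, ?_, rfl⟩
  have hPn : (P : Subgroup (fittingSubgroup G)).Normal := inferInstance
  exact Cfsg.Agent.Lib.FGSBasic.mem_sylow_of_normal P hPn ⟨b, by rw [Subgroup.orderOf_mk]; exact ho⟩

/-- `p`-subgroups inside the Fitting group: `O_p ≤ F`, with `p`-elements. -/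
theorem exists_minimal_normal_le {X : Type*} [Group X] [Finite X] (C : Subgroup X) (hC : C.Normal) (hne : C ≠ ⊥) :
    ∃ D : Subgroup X, D.Normal ∧ D ≠ ⊥ ∧ D ≤ C ∧ ∀ M : Subgroup X, M.Normal → M ≤ D → M = ⊥ ∨ M = D := by
  classical
  obtain ⟨D, hD, hmin⟩ := Set.Finite.exists_minimal (s := {D : Subgroup X | D.Normal ∧ D ≠ ⊥ ∧ D ≤ C})
    (Set.toFinite _) ⟨C, hC, hne, le_rfl⟩
  refine ⟨D, hD.1, hD.2.1, hD.2.2, ?_⟩
  intro M hMn hMD
  by_cases hM : M = ⊥
  · exact Or.inl hM
  · right
    exact le_antisymm hMD (hmin ⟨hMn, hM, hMD.trans hD.2.2⟩ hMD)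

end Cfsg.Agent.Lib.FGS4
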