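import Cfsg.Agent.Lib.Fi22PD
set_option autoImplicit false
set_option maxRecDepth 1000000
namespace Cfsg.Agent.Lib.Fi22PD
open Cfsg.Agent.Lib.PChain Cfsg.Agent.Lib.PermChain Cfsg.Agent.Lib.PermChain2 Cfsg.Agent.Lib.PermChain4

theorem cL_0 : allR (letterY dD) 0 1 = true := by decide +kernel
theorem cL_1 : allR (letterY dD) 1 2 = true := by decide +kernel
theorem cL_2 : allR (letterY dD) 2 3 = true := by decide +kernel
theorem cL_3 : allR (letterY dD) 3 4 = true := by decide +kernel
theorem cL_4 : allR (letterY dD) 4 5 = true := by decide +kernel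
theorem cL_5 : allR (letterY dD) 5 6 = true := by decide +kernel
theorem cL_6 : allR (letterY dD) 6 7 = true := by decide +kernel
theorem cL_7 : allR (letterY dD) 7 8 = true := by decide +kernel
theorem cL_8 : allR (letterY dD) 8 9 = true := by decide +kernel
theorem cL_9 : allR (letterY dD) 9 10 = true := by decide +kernel
theorem cL_10 : allR (letterY dD) 10 11 = true := by decide +kernel
theorem cL_11 : allR (letterY dD) 11 12 = true := by decide +kernel
theorem cL_12 : allR (letterY dD) 12 13 = true := by decide +kernel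
theorem cL_13 : allR (letterY dD) 13 14 = true := by decide +kernel
theorem cL_14 : allR (letterY dD) 14 15 = true := by decide +kernel
theorem cL_15 : allR (letterY dD) 15 16 = true := by decide +kernel
theorem cL_16 : allR (letterY dD) 16 17 = true := by decide +kernel
theorem cL_17 : allR (letterY dD) 17 18 = true := by decide +kernel
theorem cL_18 : allR (letterY dD) 18 19 = true := by decide +kernel
theorem cL_19 : allR (letterY dD) 19 20 = true := by decide +kernel
theorem cL_20 : allR (letterY dD) 20 21 = true := by decide +kernel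
theorem cL_21 : allR (letterY dD) 21 22 = true := by decide +kernel
theorem cL_22 : allR (letterY dD) 22 23 = true := by decide +kernel
theorem cL_23 : allR (letterY dD) 23 24 = true := by decide +kernel
theorem cL_24 : allR (letterY dD) 24 25 = true := by decide +kernel
theorem cL_25 : allR (letterY dD) 25 26 = true := by decide +kernel
theorem cL_26 : allR (letterY dD) 26 27 = true := by decide +kernel
theorem cL_27 : allR (letterY dD) 27 28 = true := by decide +kernel
theorem cL_28 : allR (letterY dD) 28 29 = true := by decide +kernel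
theorem cL_29 : allR (letterY dD) 29 30 = true := by decide +kernel
theorem cL_30 : allR (letterY dD) 30 31 = true := by decide +kernel
theorem cL_31 : allR (letterY dD) 31 32 = true := by decide +kernel
theorem cL_32 : allR (letterY dD) 32 33 = true := by decide +kernel
theorem cL : RangeOK (letterY dD) 0 33 := (((((((((((((((((((((((((((((((((RangeOK.of_allR cL_0)).trans (RangeOK.of_allR cL_1)).trans (RangeOK.of_allR cL_2)).trans (RangeOK.of_allR cL_3)).trans (RangeOK.of_allR cL_4)).trans (RangeOK.of_allR cL_5)).trans (RangeOK.of_allR cL_6)).trans (RangeOK.of_allR cL_7)).trans (RangeOK.of_allR cL_8)).trans (RangeOK.of_allR cL_9)).trans (RangeOK.of_allR cL_10)).trans (RangeOK.of_allR cL_11)).trans (RangeOK.of_allR cL_12)).trans (RangeOK.of_allR cL_13)).trans (RangeOK.of_allR cL_14)).trans (RangeOK.of_allR cL_15)).trans (RangeOK.of_allR cL_16)).trans (RangeOK.of_allR cL_17)).trans (RangeOK.of_allR cL_18)).trans (RangeOK.of_allR cL_19)).trans (RangeOK.of_allR cL_20)).trans (RangeOK.of_allR cL_21)).trans (RangeOK.of_allR cL_22)).trans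 (RangeOK.of_allR cL_23)).trans (RangeOK.of_allR cL_24)).trans (RangeOK.of_allR cL_25)).trans (RangeOK.of_allR cL_26)).trans (RangeOK.of_allR cL_27)).trans (RangeOK.of_allR cL_28)).trans (RangeOK.of_allR cL_29)).trans (RangeOK.of_allR cL_30)).trans (RangeOK.of_allR cL_31)).trans (RangeOK.of_allR cL_32)
theorem cB : baseOK dD = true := by decide +kernel
theorem cN : numOK dD = true := by decide +kernel
theorem cS : shapeOK (cd dD) = true := by decide +kernel
theorem cH0_0 : allR (hwY dD 0) 2 3 = true := by decide +kernel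
theorem cH0_1 : allR (hwY dD 0) 3 4 = true := by decide +kernel
theorem cH0 : RangeOK (hwY dD 0) 2 4 := ((RangeOK.of_allR cH0_0)).trans (RangeOK.of_allR cH0_1)
theorem cH1_0 : allR (hwY dD 1) 4 5 = true := by decide +kernel
theorem cH1_1 : allR (hwY dD 1) 5 6 = true := by decide +kernel
theorem cH1 : RangeOK (hwY dD 1) 4 6 := ((RangeOK.of_allR cH1_0)).trans (RangeOK.of_allR cH1_1)
theorem cH2_0 : allR (hwY dD 2) 6 7 = true := by decide +kernel
theorem cH2_1 : allR (hwY dD 2) 7 8 = true := by decide +kernel
theorem cH2 : RangeOK (hwY dD 2) 6 8 := ((RangeOK.of_allR cH2_0)).trans (RangeOK.of_allR cH2_1)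
theorem cH3_0 : allR (hwY dD 3) 8 9 = true := by decide +kernel
theorem cH3_1 : allR (hwY dD 3) 9 10 = true := by decide +kernel
theorem cH3_2 : allR (hwY dD 3) 10 11 = true := by decide +kernel
theorem cH3 : RangeOK (hwY dD 3) 8 11 := (((RangeOK.of_allR cH3_0)).trans (RangeOK.of_allR cH3_1)).trans (RangeOK.of_allR cH3_2)
theorem cH4_0 : allR (hwY dD 4) 11 12 = true := by decide +kernel
theorem cH4_1 : allR (hwY dD 4) 12 13 = true := by decide +kernel
theorem cH4_2 : allR (hwY dD 4) 13 14 = true := by decide +kernel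
theorem cH4_3 : allR (hwY dD 4) 14 15 = true := by decide +kernel
theorem cH4_4 : allR (hwY dD 4) 15 16 = true := by decide +kernel
theorem cH4_5 : allR (hwY dD 4) 16 17 = true := by decide +kernel
theorem cH4_6 : allR (hwY dD 4) 17 18 = true := by decide +kernel
theorem cH4_7 : allR (hwY dD 4) 18 19 = true := by decide +kernel
theorem cH4_8 : allR (hwY dD 4) 19 20 = true := by decide +kernel
theorem cH4_9 : allR (hwY dD 4) 20 21 = true := by decide +kernel
theorem cH4 : RangeOK (hwY dD 4) 11 21 := ((((((((((RangeOK.of_allR cH4_0)).trans (RangeOK.of_allR cH4_1)).trans (RangeOK.of_allR cH4_2)).trans (RangeOK.of_allR cH4_3)).trans (RangeOK.of_allR cH4_4)).trans (RangeOK.of_allR cH4_5)).trans (RangeOK.of_allR cH4_6)).trans (RangeOK.of_allR cH4_7)).trans (RangeOK.of_allR cH4_8)).trans (RangeOK.of_allR cH4_9)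
theorem cH : hwAll dD := by
  intro j hj
  have hj' : j < 6 := hj
  interval_cases j
  · exact cH0
  · exact cH1
  · exact cH2
  · exact cH3
  · exact cH4
  · exact RangeOK.nil _ _
theorem cV0_0 : allR (levelP (cd dD) 0) 0 256 = true := by decide +kernel
theorem cV0_1 : allR (levelP (cd dD) 0) 256 512 = true := by decide +kernel
theorem cV0_2 : allR (levelP (cd dD) 0) 512 768 = true := by decide +kernel
theorem cV0_3 : allR (levelP (cd dD) 0) 768 1024 = true := by decide +kernel
theorem cV0_4 : allR (levelP (cd dD) 0) 1024 1280 = true := by decide +kernel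
theorem cV0_5 : allR (levelP (cd dD) 0) 1280 1536 = true := by decide +kernel
theorem cV0_6 : allR (levelP (cd dD) 0) 1536 1792 = true := by decide +kernel
theorem cV0_7 : allR (levelP (cd dD) 0) 1792 2048 = true := by decide +kernel
theorem cV0_8 : allR (levelP (cd dD) 0) 2048 2304 = true := by decide +kernel
theorem cV0_9 : allR (levelP (cd dD) 0) 2304 2560 = true := by decide +kernel
theorem cV0_10 : allR (levelP (cd dD) 0) 2560 2816 = true := by decide +kernel
theorem cV0_11 : allR (levelP (cd dD) 0) 2816 3072 = true := by decide +kernel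
theorem cV0_12 : allR (levelP (cd dD) 0) 3072 3328 = true := by decide +kernel
theorem cV0_13 : allR (levelP (cd dD) 0) 3328 3510 = true := by decide +kernel
theorem cV0 : RangeOK (levelP (cd dD) 0) 0 3510 := ((((((((((((((RangeOK.of_allR cV0_0)).trans (RangeOK.of_allR cV0_1)).trans (RangeOK.of_allR cV0_2)).trans (RangeOK.of_allR cV0_3)).trans (RangeOK.of_allR cV0_4)).trans (RangeOK.of_allR cV0_5)).trans (RangeOK.of_allR cV0_6)).trans (RangeOK.of_allR cV0_7)).trans (RangeOK.of_allR cV0_8)).trans (RangeOK.of_allR cV0_9)).trans (RangeOK.of_allR cV0_10)).trans (RangeOK.of_allR cV0_11)).trans (RangeOK.of_allR cV0_12)).trans (RangeOK.of_allR cV0_13)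
theorem cV1_0 : allR (levelP (cd dD) 1) 3510 3766 = true := by decide +kernel
theorem cV1_1 : allR (levelP (cd dD) 1) 3766 4022 = true := by decide +kernel
theorem cV1_2 : allR (levelP (cd dD) 1) 4022 4203 = true := by decide +kernel
theorem cV1 : RangeOK (levelP (cd dD) 1) 3510 4203 := (((RangeOK.of_allR cV1_0)).trans (RangeOK.of_allR cV1_1)).trans (RangeOK.of_allR cV1_2)
theorem cV2_0 : allR (levelP (cd dD) 2) 4203 4383 = true := by decide +kernel
theorem cV2 : RangeOK (levelP (cd dD) 2) 4203 4383 := (RangeOK.of_allR cV2_0)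
theorem cV3_0 : allR (levelP (cd dD) 3) 4383 4386 = true := by decide +kernel
theorem cV3 : RangeOK (levelP (cd dD) 3) 4383 4386 := (RangeOK.of_allR cV3_0)
theorem cV4_0 : allR (levelP (cd dD) 4) 4386 4434 = true := by decide +kernel
theorem cV4 : RangeOK (levelP (cd dD) 4) 4386 4434 := (RangeOK.of_allR cV4_0)
theorem cV5_0 : allR (levelP (cd dD) 5) 4434 4690 = true := by decide +kernel
theorem cV5_1 : allR (levelP (cd dD) 5) 4690 4946 = true := by decide +kernel
theorem cV5_2 : allR (levelP (cd dD) 5) 4946 5202 = true := by decide +kernel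
theorem cV5_3 : allR (levelP (cd dD) 5) 5202 5458 = true := by decide +kernel
theorem cV5 : RangeOK (levelP (cd dD) 5) 4434 5458 := ((((RangeOK.of_allR cV5_0)).trans (RangeOK.of_allR cV5_1)).trans (RangeOK.of_allR cV5_2)).trans (RangeOK.of_allR cV5_3)
theorem cV : ∀ j, j < dD.k → RangeOK (levelP (cd dD) j) (dD.off j) (dD.off (j + 1)) := by
  intro j hj
  have hj' : j < 6 := hj
  interval_cases j
  · exact cV0
  · exact cV1
  · exact cV2
  · exact cV3
  · exact cV4
  · exact cV5
theorem gP0_0 : allR (presY dD gE 0) 0 512 = true := by decide +kernel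
theorem gP0_1 : allR (presY dD gE 0) 512 1024 = true := by decide +kernel
theorem gP0_2 : allR (presY dD gE 0) 1024 1536 = true := by decide +kernel
theorem gP0_3 : allR (presY dD gE 0) 1536 2048 = true := by decide +kernel
theorem gP0_4 : allR (presY dD gE 0) 2048 2560 = true := by decide +kernel
theorem gP0_5 : allR (presY dD gE 0) 2560 3072 = true := by decide +kernel
theorem gP0_6 : allR (presY dD gE 0) 3072 3510 = true := by decide +kernel
theorem gP0 : RangeOK (presY dD gE 0) 0 3510 := (((((((RangeOK.of_allR gP0_0)).trans (RangeOK.of_allR gP0_1)).trans (RangeOK.of_allR gP0_2)).trans (RangeOK.of_allR gP0_3)).trans (RangeOK.of_allR gP0_4)).trans (RangeOK.of_allR gP0_5)).trans (RangeOK.of_allR gP0_6)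
theorem gQ0_0 : allR (bitY dD gE 0) 0 512 = true := by decide +kernel
theorem gQ0_1 : allR (bitY dD gE 0) 512 1024 = true := by decide +kernel
theorem gQ0_2 : allR (bitY dD gE 0) 1024 1536 = true := by decide +kernel
theorem gQ0_3 : allR (bitY dD gE 0) 1536 2048 = true := by decide +kernel
theorem gQ0_4 : allR (bitY dD gE 0) 2048 2560 = true := by decide +kernel
theorem gQ0_5 : allR (bitY dD gE 0) 2560 3072 = true := by decide +kernel
theorem gQ0_6 : allR (bitY dD gE 0) 3072 3510 = true := by decide +kernel
theorem gQ0 : RangeOK (bitY dD gE 0) 0 3510 := (((((((RangeOK.of_allR gQ0_0)).trans (RangeOK.of_allR gQ0_1)).trans (RangeOK.of_allR gQ0_2)).trans (RangeOK.of_allR gQ0_3)).trans (RangeOK.of_allR gQ0_4)).trans (RangeOK.of_allR gQ0_5)).trans (RangeOK.of_allR gQ0_6)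
theorem gP1_0 : allR (presY dD gE 1) 0 512 = true := by decide +kernel
theorem gP1_1 : allR (presY dD gE 1) 512 1024 = true := by decide +kernel
theorem gP1_2 : allR (presY dD gE 1) 1024 1536 = true := by decide +kernel
theorem gP1_3 : allR (presY dD gE 1) 1536 2048 = true := by decide +kernel
theorem gP1_4 : allR (presY dD gE 1) 2048 2560 = true := by decide +kernel
theorem gP1_5 : allR (presY dD gE 1) 2560 3072 = true := by decide +kernel
theorem gP1_6 : allR (presY dD gE 1) 3072 3510 = true := by decide +kernel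
theorem gP1 : RangeOK (presY dD gE 1) 0 3510 := (((((((RangeOK.of_allR gP1_0)).trans (RangeOK.of_allR gP1_1)).trans (RangeOK.of_allR gP1_2)).trans (RangeOK.of_allR gP1_3)).trans (RangeOK.of_allR gP1_4)).trans (RangeOK.of_allR gP1_5)).trans (RangeOK.of_allR gP1_6)
theorem gQ1_0 : allR (bitY dD gE 1) 0 512 = true := by decide +kernel
theorem gQ1_1 : allR (bitY dD gE 1) 512 1024 = true := by decide +kernel
theorem gQ1_2 : allR (bitY dD gE 1) 1024 1536 = true := by decide +kernel
theorem gQ1_3 : allR (bitY dD gE 1) 1536 2048 = true := by decide +kernel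
theorem gQ1_4 : allR (bitY dD gE 1) 2048 2560 = true := by decide +kernel
theorem gQ1_5 : allR (bitY dD gE 1) 2560 3072 = true := by decide +kernel
theorem gQ1_6 : allR (bitY dD gE 1) 3072 3510 = true := by decide +kernel
theorem gQ1 : RangeOK (bitY dD gE 1) 0 3510 := (((((((RangeOK.of_allR gQ1_0)).trans (RangeOK.of_allR gQ1_1)).trans (RangeOK.of_allR gQ1_2)).trans (RangeOK.of_allR gQ1_3)).trans (RangeOK.of_allR gQ1_4)).trans (RangeOK.of_allR gQ1_5)).trans (RangeOK.of_allR gQ1_6)
theorem gP : ∀ x, dD.lt 0 ≤ x → x < dD.lt 1 → RangeOK (presY dD gE x) 0 dD.N := by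
  intro x h1 h2
  have h1' : 0 ≤ x := h1
  have h2' : x < 2 := h2
  interval_cases x
  · exact gP0
  · exact gP1
theorem gQ : ∀ x, dD.lt 0 ≤ x → x < dD.lt 1 → RangeOK (bitY dD gE x) 0 dD.N := by
  intro x h1 h2
  have h1' : 0 ≤ x := h1
  have h2' : x < 2 := h2
  interval_cases x
  · exact gQ0
  · exact gQ1
theorem gS_0 : allR (setY dD gE) 0 41 = true := by decide +kernel
theorem gS : RangeOK (setY dD gE) 0 41 := (RangeOK.of_allR gS_0)
theorem gD_0 : allR (pointY dD gE) 0 1024 = true := by decide +kernel
theorem gD_1 : allR (pointY dD gE) 1024 2048 = true := by decide +kernel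
theorem gD_2 : allR (pointY dD gE) 2048 3072 = true := by decide +kernel
theorem gD_3 : allR (pointY dD gE) 3072 3510 = true := by decide +kernel
theorem gD : RangeOK (pointY dD gE) 0 3510 := ((((RangeOK.of_allR gD_0)).trans (RangeOK.of_allR gD_1)).trans (RangeOK.of_allR gD_2)).trans (RangeOK.of_allR gD_3)
theorem gG : GCertB dD gE where
  pres := gP
  bits := gQ
  sets := gS
  points := gD

theorem cert : Cert dD where
  letters := cL
  base := cB
  hw := cH
  num := cN
  shape := cS
  levels := cV
  faith := faith_of_graph cL cB gG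

theorem sT : transOK dD = true := by decide +kernel
theorem sF : subOK dD sS = true := by decide +kernel
theorem sR : rootsOK dD sS = true := by decide +kernel
theorem sV : trivOK dD sS = true := by decide +kernel
theorem sD : divOK dD sS = true := by decide +kernel
theorem sP0_0 : allR (powY dD 13 0) 0 2048 = true := by decide +kernel
theorem sP0_1 : allR (powY dD 13 0) 2048 3510 = true := by decide +kernel
theorem sP0 : RangeOK (powY dD 13 0) 0 3510 := ((RangeOK.of_allR sP0_0)).trans (RangeOK.of_allR sP0_1)
theorem sP1_0 : allR (powY dD 13 1) 0 2048 = true := by decide +kernel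
theorem sP1_1 : allR (powY dD 13 1) 2048 3510 = true := by decide +kernel
theorem sP1 : RangeOK (powY dD 13 1) 0 3510 := ((RangeOK.of_allR sP1_0)).trans (RangeOK.of_allR sP1_1)
theorem sP : powOK dD 13 := by
  intro x h1 h2
  have h1' : 0 ≤ x := h1
  have h2' : x < 2 := h2
  interval_cases x
  · exact sP0
  · exact sP1

end Cfsg.Agent.Lib.Fi22PD
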