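import Mathlib

set_option autoImplicit false

namespace Cfsg.Agent.Lib.Frob72

open MulAction

/-- A group of order 72 acting sharply 2-transitively on 9 points has a regular normal subgroup of order 9. -/
theorem frob72 {Q X : Type*} [Group Q] [MulAction Q X] [Finite Q] [Finite X] (hQ : Nat.card Q = 72) (hX : Nat.card X = 9)
    (htr : IsPretransitive Q X) (h2 : ∀ (g : Q) (a b : X), a ≠ b → g • a = a → g • b = b → g = 1) :
    ∃ N : Subgroup Q, N.Normal ∧ Nat.card N = 9 ∧ ∀ g, g ∈ N ↔ (g = 1 ∨ ∀ x : X, g • x ≠ x) := by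
  classical
  haveI : Fintype Q := Fintype.ofFinite Q
  haveI : Fintype X := Fintype.ofFinite X
  haveI : Fact (Nat.Prime 3) := ⟨Nat.prime_three⟩
  have hstab : ∀ x : X, Nat.card (stabilizer Q x) = 8 := by
    intro x
    have h1 := Subgroup.card_mul_index (stabilizer Q x)
    rw [index_stabilizer, orbit_eq_univ, Set.ncard_univ, hX, hQ] at h1
    omega
  obtain ⟨K, hK⟩ := Sylow.exists_subgroup_card_pow_prime (G := Q) 3 (n := 2) (by rw [hQ]; norm_num)
  have hK9 : Nat.card K = 9 := by rw [hK]; norm_num
  let S : Finset Q := Finset.univ.filter (fun g => g = 1 ∨ ∀ x : X, g • x ≠ x)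
  have hKS : ∀ g ∈ K, g ∈ S := by
    intro g hg
    rw [Finset.mem_filter]
    refine ⟨Finset.mem_univ _, ?_⟩
    by_cases hg1 : g = 1
    · exact Or.inl hg1
    right
    intro x hx
    apply hg1
    have h1 : orderOf g ∣ 9 := by
      have := Subgroup.orderOf_dvd_natCard K hg
      rwa [hK9] at this
    have h3 : orderOf g ∣ 8 := by
      have := Subgroup.orderOf_dvd_natCard (stabilizer Q x) hx
      rwa [hstab] at this
    have h4 : orderOf g ∣ 1 := by
      have := Nat.dvd_gcd h1 h3
      simpa using this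
    exact orderOf_eq_one_iff.1 (Nat.dvd_one.1 h4)
  -- count via Burnside
  have hb : ∑ g : Q, Nat.card (fixedBy X g) = 72 := by
    haveI : Fintype (orbitRel.Quotient Q X) := Fintype.ofFinite _
    have h1 := sum_card_fixedBy_eq_card_orbits_mul_card_group Q X
    haveI := (pretransitive_iff_subsingleton_quotient Q X).1 htr
    have hpos : 0 < Nat.card X := by omega
    obtain ⟨x₀⟩ : Nonempty X := (Nat.card_pos_iff.1 hpos).1
    have hone : Fintype.card (Quotient (orbitRel Q X)) = 1 :=
      Fintype.card_eq_one_iff.2 ⟨Quotient.mk'' x₀, fun y => Subsingleton.elim _ _⟩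
    rw [hone, one_mul, ← Nat.card_eq_fintype_card (α := Q), hQ] at h1
    rw [← h1]
    exact Finset.sum_congr rfl fun g _ => Nat.card_eq_fintype_card
  have hval : ∀ g : Q, Nat.card (fixedBy X g) = (if g = 1 then 9 else 0) + (if g ∉ S then 1 else 0) := by
    intro g
    by_cases hg : g = 1
    · subst hg
      simp only [if_true]
      have hmem : (1 : Q) ∈ S := by simp [S]
      simp only [hmem, not_true_eq_false, if_false, add_zero]
      rw [← hX]
      apply Nat.card_congr
      exact Equiv.subtypeUnivEquiv (fun x => by simp)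
    · rw [if_neg hg, zero_add]
      by_cases hS : g ∈ S
      · rw [if_neg (by simpa using hS)]
        have h1 := (Finset.mem_filter.1 hS).2.resolve_left hg
        rw [Nat.card_eq_zero]
        left
        exact ⟨fun x => h1 x.1 x.2⟩
      · rw [if_pos hS]
        have h1 : ∃ x : X, g • x = x := by
          by_contra hcon
          push Not at hcon
          exact hS (Finset.mem_filter.2 ⟨Finset.mem_univ _, Or.inr hcon⟩)
        obtain ⟨x, hx⟩ := h1
        rw [Nat.card_eq_one_iff_unique]
        refine ⟨⟨?_⟩, ⟨⟨x, hx⟩⟩⟩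
        rintro ⟨y, hy⟩ ⟨z, hz⟩
        apply Subtype.ext
        by_contra hyz
        exact hg (h2 g y z hyz hy hz)
  have hScard : S.card = 9 := by
    rw [Finset.sum_congr rfl fun g _ => hval g, Finset.sum_add_distrib, Finset.sum_ite_eq', if_pos (Finset.mem_univ _)] at hb
    simp only [Finset.sum_boole, Nat.cast_id] at hb
    have h1 : (Finset.univ.filter (fun g : Q => g ∉ S)).card + S.card = 72 := by
      have := Finset.card_filter_add_card_filter_not (s := (Finset.univ : Finset Q)) (fun g : Q => g ∉ S)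
      simp only [not_not, Finset.filter_mem_eq_inter, Finset.univ_inter, Finset.card_univ] at this
      rw [this, ← Nat.card_eq_fintype_card, hQ]
    omega
  have hKeq : ∀ g, g ∈ K ↔ g ∈ S := by
    let K' : Finset Q := Finset.univ.filter (· ∈ K)
    have hK' : K' ⊆ S := fun g hg => hKS g (Finset.mem_filter.1 hg).2
    have hcard : S.card ≤ K'.card := by
      rw [hScard]
      have : K'.card = 9 := by
        rw [← hK9, Nat.card_eq_fintype_card, Fintype.card_subtype]
      omega
    have heq := Finset.eq_of_subset_of_card_le hK' hcard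
    intro g
    rw [← heq]
    simp [K']
  refine ⟨K, ⟨fun n hn c => ?_⟩, hK9, fun g => ?_⟩
  · rw [hKeq] at hn ⊢
    rw [Finset.mem_filter] at hn ⊢
    refine ⟨Finset.mem_univ _, ?_⟩
    rcases hn.2 with h | h
    · left
      rw [h]
      group
    · right
      intro x hx
      apply h (c⁻¹ • x)
      have e : (c * n * c⁻¹) • x = c • n • c⁻¹ • x := by simp [mul_smul]
      rw [e] at hx
      have h3 := congrArg (c⁻¹ • ·) hx
      simpa using h3
  · rw [hKeq, Finset.mem_filter]
    simp

/-- Recognising the quaternion group of order 8. -/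
theorem q8_iso {Γ : Type*} [Group Γ] [Finite Γ] (hΓ : Nat.card Γ = 8) (a b : Γ) (ha4 : a ^ 4 = 1) (hb : b ^ 2 = a ^ 2)
    (hba : b * a * b⁻¹ = a⁻¹) (ha2 : a ^ 2 ≠ 1) : Nonempty (Γ ≃* QuaternionGroup 2) := by
  classical
  let A : ZMod (2 * 2) → Γ := fun i => a ^ i.val
  have hA : ∀ i j, A (i + j) = A i * A j := by
    intro i j
    simp only [A]
    rw [ZMod.val_add, ← pow_add]
    exact (pow_eq_pow_mod (i.val + j.val) ha4).symm
  have hA0 : A 0 = 1 := by
    simp [A]
  have hAneg : ∀ i, A (-i) = (A i)⁻¹ := by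
    intro i
    rw [eq_inv_iff_mul_eq_one, ← hA, neg_add_cancel, hA0]
  have hcomm : ∀ i j, A i * A j = A j * A i := by
    intro i j
    rw [← hA, ← hA, add_comm]
  have hbinv : b⁻¹ * a * b = a⁻¹ := by
    have h1 : b⁻¹ * a⁻¹ * b = a := by
      rw [← hba]
      group
    have h2 := congrArg (·⁻¹) h1
    simp only [mul_inv_rev, inv_inv] at h2
    rw [← h2]
    group
  have hbA : ∀ i, A i * b = b * (A i)⁻¹ := by
    intro i
    simp only [A]
    have h1 : b⁻¹ * a ^ i.val * b = (a⁻¹) ^ i.val := by
      rw [← hbinv]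
      have := conj_pow (a := b⁻¹) (b := a) (i := i.val)
      simpa using this.symm
    have h2 : a ^ i.val * b = b * (b⁻¹ * a ^ i.val * b) := by group
    rw [h2, h1, inv_pow]
  have hA2 : A ((2 : ℕ) : ZMod (2 * 2)) = a ^ 2 := by
    simp only [A]
    congr 1
  let f0 : QuaternionGroup 2 → Γ := fun x => match x with
    | QuaternionGroup.a i => A i
    | QuaternionGroup.xa i => b * A i
  let f : QuaternionGroup 2 →* Γ := MonoidHom.mk' f0 (by
    intro x y
    cases x with
    | a i =>
      cases y with
      | a j =>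
        simp only [QuaternionGroup.a_mul_a, f0]
        exact hA i j
      | xa j =>
        simp only [QuaternionGroup.a_mul_xa, f0]
        rw [← mul_assoc, hbA, mul_assoc, sub_eq_add_neg, hA, hAneg, ← hAneg, hcomm]
    | xa i =>
      cases y with
      | a j =>
        simp only [QuaternionGroup.xa_mul_a, f0]
        rw [hA, mul_assoc]
      | xa j =>
        simp only [QuaternionGroup.xa_mul_xa, f0]
        have e : (((2 : ℕ) : ZMod (2 * 2)) + j - i) = ((2 : ℕ) : ZMod (2 * 2)) + (j + (-i)) := by ring
        rw [e, hA, hA, hAneg, hA2, ← hb]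
        calc b ^ 2 * (A j * (A i)⁻¹) = b * (b * (A i)⁻¹) * A j := by
              rw [show (A j * (A i)⁻¹) = (A i)⁻¹ * A j by
                rw [← hAneg, hcomm], sq]
              simp only [mul_assoc]
          _ = b * A i * (b * A j) := by rw [← hbA]; group)
  have hfa : f (QuaternionGroup.a 2) = a ^ 2 := by
    show A 2 = a ^ 2
    exact hA2
  have hinj : Function.Injective f := by
    rw [injective_iff_map_eq_one]
    intro x hx
    have hdec : ∀ x : QuaternionGroup 2, x = 1 ∨ x = QuaternionGroup.a 2 ∨ x ^ 2 = QuaternionGroup.a 2 := by decide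
    rcases hdec x with h | h | h
    · exact h
    · exfalso
      rw [h, hfa] at hx
      exact ha2 hx
    · exfalso
      have := congrArg f h
      rw [map_pow, hx, one_pow, hfa] at this
      exact ha2 this.symm
  have hcard : Nat.card (QuaternionGroup 2) = 8 := by
    rw [Nat.card_eq_fintype_card, QuaternionGroup.card]
  have hbij : Function.Bijective f := by
    rw [Nat.bijective_iff_injective_and_card]
    exact ⟨hinj, by rw [hcard, hΓ]⟩
  exact ⟨(MulEquiv.ofBijective f hbij).symm⟩

/-- Sharp 2-transitivity from the orders. -/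
theorem two_free {Q X : Type*} [Group Q] [MulAction Q X] [Finite Q] [Finite X] (hQ : Nat.card Q = 72) (hX : Nat.card X = 9)
    (htr : IsPretransitive Q X) (h2 : ∀ a b c : X, a ≠ b → a ≠ c → ∃ g : Q, g • a = a ∧ g • b = c) :
    ∀ (g : Q) (a b : X), a ≠ b → g • a = a → g • b = b → g = 1 := by
  classical
  intro g a b hab hga hgb
  have hstab : Nat.card (stabilizer Q a) = 8 := by
    have h1 := Subgroup.card_mul_index (stabilizer Q a)
    rw [index_stabilizer, orbit_eq_univ, Set.ncard_univ, hX, hQ] at h1
    omega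
  have horb : orbit (stabilizer Q a) b = {a}ᶜ := by
    ext c
    constructor
    · rintro ⟨⟨h, hh⟩, rfl⟩ hc
      have h3 : h • b = a := hc
      have h4 : h • a = a := hh
      exact hab (smul_left_cancel h (h4.trans h3.symm))
    · intro hc
      obtain ⟨h, h1, h3⟩ := h2 a b c hab (fun e => hc e.symm)
      exact ⟨⟨h, h1⟩, h3⟩
  have hcompl : ({a}ᶜ : Set X).ncard = 8 := by
    rw [Set.ncard_compl, Set.ncard_singleton, hX]
  have h3 := Subgroup.card_mul_index (stabilizer (stabilizer Q a) b)
  rw [index_stabilizer, horb, hcompl, hstab] at h3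
  have h4 : Nat.card (stabilizer (stabilizer Q a) b) = 1 := by omega
  have hmem : (⟨g, hga⟩ : stabilizer Q a) ∈ stabilizer (stabilizer Q a) b := hgb
  have := (Nat.card_eq_one_iff_unique.1 h4).1.elim ⟨⟨g, hga⟩, hmem⟩ ⟨1, Subgroup.one_mem _⟩
  have h5 := congrArg (fun x => ((x.1 : stabilizer Q a) : Q)) this
  simpa using h5

end Cfsg.Agent.Lib.Frob72
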