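import Mathlib
import Cfsg.Agent.Lib.FGSBasic

/-!
Frobenius' theorem on the number of solutions of `x ^ n = 1` in a finite group (seat helper2).
-/

namespace Cfsg.Agent.Lib.FrobCount

open Subgroup

universe u

variable {G : Type u} [Group G]

/-- The number of generators of `zpowers x`. -/
theorem card_same_zpowers [Finite G] (x : G) :
    Nat.card {y : G // zpowers y = zpowers x} = (orderOf x).totient := by
  classical
  haveI := Fintype.ofFinite (zpowers x)
  have h := IsCyclic.card_orderOf_eq_totient (α := zpowers x) (d := orderOf x) (by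
     rw [← Nat.card_eq_fintype_card, Nat.card_zpowers])
  rw [← h, ← Fintype.card_subtype, ← Nat.card_eq_fintype_card]
  apply Nat.card_congr
  refine ⟨fun y => ⟨⟨y.1, by have h3 := mem_zpowers y.1; rwa [y.2] at h3⟩, ?_⟩, fun a => ⟨a.1.1, ?_⟩, ?_, ?_⟩
  · rw [Subgroup.orderOf_mk, ← Nat.card_zpowers, y.2, Nat.card_zpowers]
  · have h1 : zpowers a.1.1 ≤ zpowers x := by
      rw [zpowers_le]; exact a.1.2
    apply Subgroup.eq_of_le_of_card_ge h1
    rw [Nat.card_zpowers, Nat.card_zpowers, Subgroup.orderOf_coe]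
    exact a.2.ge
  · intro y; rfl
  · intro a; rfl

/-- A set closed under passing to other generators of the same cyclic subgroup. -/
theorem dvd_card_of_closed [Finite G] (R : Set G) (m : ℕ)
    (hcl : ∀ x ∈ R, ∀ y, zpowers y = zpowers x → y ∈ R)
    (hm : ∀ x ∈ R, m ∣ (orderOf x).totient) : m ∣ Nat.card R := by
  classical
  haveI := Fintype.ofFinite G
  have e : Nat.card R = (Finset.univ.filter (· ∈ R)).card := by
    rw [Nat.card_eq_fintype_card, Fintype.card_subtype]
  rw [e, Finset.card_eq_sum_card_image (fun x : G => zpowers x)]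
  apply Finset.dvd_sum
  intro C hC
  obtain ⟨x, hx, rfl⟩ := Finset.mem_image.1 hC
  have hxR : x ∈ R := by simpa using hx
  have : ((Finset.univ.filter (· ∈ R)).filter (fun a => zpowers a = zpowers x)).card
      = (orderOf x).totient := by
    rw [← card_same_zpowers x, Nat.card_eq_fintype_card, Fintype.card_subtype]
    congr 1
    ext y
    simp only [Finset.mem_filter, Finset.mem_univ, true_and]
    exact ⟨fun h => h.2, fun h => ⟨hcl x hxR y h, h⟩⟩
  rw [this]
  exact hm x hxR

/-- Divisibility of a sum of a class function on a group, classwise. -/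
theorem dvd_sum_of_class {P : Type*} [Group P] [Fintype P] [DecidableEq P] (f : P → ℕ)
    (hf : ∀ r q, f (r * q * r⁻¹) = f q) (m : ℕ)
    (hm : ∀ q, q ≠ 1 → m ∣ (centralizer {q}).index * f q) :
    m ∣ ∑ q ∈ Finset.univ.erase (1 : P), f q := by
  classical
  have e : ∑ q ∈ Finset.univ.erase (1 : P), f q = ∑ q, if q = 1 then 0 else f q := by
    rw [← Finset.add_sum_erase _ _ (Finset.mem_univ (1 : P))]
    simp only [if_true, zero_add]
    apply Finset.sum_congr rfl
    intro q hq
    rw [if_neg (Finset.ne_of_mem_erase hq)]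
  rw [e, ← Finset.sum_fiberwise _ (fun q : P => ConjClasses.mk q)]
  apply Finset.dvd_sum
  intro c _
  obtain ⟨q, rfl⟩ := ConjClasses.mk_surjective c
  have hconst : ∀ y ∈ Finset.univ.filter (fun y : P => ConjClasses.mk y = ConjClasses.mk q),
      (if y = 1 then 0 else f y) = if q = 1 then 0 else f q := by
    intro y hy
    have h1 : IsConj y q := ConjClasses.mk_eq_mk_iff_isConj.1 (by simpa using hy)
    obtain ⟨r, hr⟩ := isConj_iff.1 h1
    subst hr
    have h2 : r * y * r⁻¹ = 1 ↔ y = 1 := by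
      constructor
      · intro h
        have : y = r⁻¹ * (r * y * r⁻¹) * r := by group
        rw [this, h]; simp
      · rintro rfl; simp
    simp only [h2, hf]
  rw [Finset.sum_congr rfl hconst, Finset.sum_const, smul_eq_mul]
  have hcard : (Finset.univ.filter (fun y : P => ConjClasses.mk y = ConjClasses.mk q)).card
      = (centralizer {q}).index := by
    rw [← FGSBasic.card_conj_eq_index q, Nat.card_eq_fintype_card, Fintype.card_subtype]
    congr 1
    ext y
    simp only [Finset.mem_filter, Finset.mem_univ, true_and, ConjClasses.mk_eq_mk_iff_isConj]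
    exact ⟨fun h => h.symm, fun h => h.symm⟩
  rw [hcard]
  by_cases hq : q = 1
  · simp [hq]
  · rw [if_neg hq]; exact hm q hq


/-- arithmetic: if `o ∣ p * n'`, `¬ o ∣ n'` then `o` has the full `p`-part of `p * n'`. -/
theorem pow_dvd_of_not_dvd {p : ℕ} (hp : p.Prime) {o n' a : ℕ} (hn' : n' ≠ 0) (h : o ∣ p * n')
    (hno : ¬ o ∣ n') (ha : p ^ a ∣ p * n') : p ^ a ∣ o := by
  have hpn : p * n' ≠ 0 := mul_ne_zero hp.ne_zero hn'
  have ho : o ≠ 0 := fun h0 => hpn (by rw [h0] at h; exact Nat.eq_zero_of_zero_dvd h)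
  have h1 : o.factorization ≤ (p * n').factorization :=
    (Nat.factorization_le_iff_dvd ho hpn).2 h
  have h2 : ¬ o.factorization ≤ n'.factorization := fun hle =>
    hno ((Nat.factorization_le_iff_dvd ho hn').1 hle)
  rw [Finsupp.le_def] at h2
  push Not at h2
  obtain ⟨q, hq⟩ := h2
  have h3 := h1 q
  rw [Nat.factorization_mul hp.ne_zero hn'] at h3
  simp only [Finsupp.add_apply] at h3
  have hqp : q = p := by
    by_contra hne
    have : p.factorization q = 0 := by
      rw [hp.factorization]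
      simp [Finsupp.single_apply, Ne.symm hne]
    omega
  subst hqp
  rw [hp.pow_dvd_iff_le_factorization ho]
  have h4 := (hp.pow_dvd_iff_le_factorization hpn).1 ha
  rw [Nat.factorization_mul hp.ne_zero hn', hp.factorization] at h4
  simp only [Finsupp.add_apply, Finsupp.single_eq_same] at h4
  omega

/-- The induction hypothesis of Frobenius' theorem. -/
def IHyp (p : ℕ) (G : Type u) [Group G] : Prop :=
  ∀ (H : Type u) [Group H] [Finite H], Nat.card H < Nat.card G → ∀ n a : ℕ, n ≠ 0 →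
    p ^ a ∣ n → p ^ a ∣ Nat.card H → p ^ a ∣ Nat.card {g : H // g ^ n = 1}

theorem card_lt_of_ne_top [Finite G] {C : Subgroup G} (h : C ≠ ⊤) : Nat.card C < Nat.card G := by
  by_contra hc
  push Not at hc
  exact h (Subgroup.eq_of_le_of_card_ge le_top (by rwa [Subgroup.card_top]))

theorem case_free [Finite G] (p : ℕ) [Fact p.Prime] (IH : IHyp p G)
    (hZ : ¬ p ∣ Nat.card (center G)) (n a : ℕ) (hn : n ≠ 0) (h1 : p ^ a ∣ n)
    (h2 : p ^ a ∣ Nat.card G) : p ^ a ∣ Nat.card {g : G // g ^ n = 1} := by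
  classical
  haveI := Fintype.ofFinite G
  have hp : p.Prime := Fact.out
  obtain ⟨P, hP⟩ := Sylow.exists_subgroup_card_pow_prime p h2
  haveI : Fintype P := Fintype.ofFinite _
  let X := {g : G // g ^ n = 1}
  haveI : Fintype X := Fintype.ofFinite _
  let act : MulAction P X :=
    { smul := fun q x => ⟨q.1 * x.1 * q.1⁻¹, by
        show (q.1 * x.1 * q.1⁻¹) ^ n = 1
        rw [conj_pow, x.2]; simp⟩
      one_smul := by
        intro x; apply Subtype.ext
        show (1 : G) * x.1 * (1 : G)⁻¹ = x.1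
        simp
      mul_smul := by
        intro a b x; apply Subtype.ext
        show (a.1 * b.1) * x.1 * (a.1 * b.1)⁻¹ = a.1 * (b.1 * x.1 * b.1⁻¹) * a.1⁻¹
        group }
  haveI : ∀ q : P, Fintype (MulAction.fixedBy X q) := fun q => Fintype.ofFinite _
  haveI : Fintype (MulAction.orbitRel.Quotient P X) := Fintype.ofFinite _
  have burn := MulAction.sum_card_fixedBy_eq_card_orbits_mul_card_group P X
  let F : P → ℕ := fun q => Nat.card {x : G // x ^ n = 1 ∧ q.1 * x = x * q.1}
  have hFix : ∀ q : P, Fintype.card (MulAction.fixedBy X q) = F q := by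
    intro q
    rw [← Nat.card_eq_fintype_card]
    apply Nat.card_congr
    refine ⟨fun x => ⟨x.1.1, x.1.2, ?_⟩, fun x => ⟨⟨x.1, x.2.1⟩, ?_⟩, ?_, ?_⟩
    · have hx := x.2
      have hx2 : q.1 * x.1.1 * q.1⁻¹ = x.1.1 := congrArg Subtype.val hx
      calc q.1 * x.1.1 = (q.1 * x.1.1 * q.1⁻¹) * q.1 := by group
        _ = x.1.1 * q.1 := by rw [hx2]
    · apply Subtype.ext
      show q.1 * x.1 * q.1⁻¹ = x.1
      rw [x.2.2]; simp
    · intro x; rfl
    · intro x; rfl
  simp only [hFix] at burn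
  have hF1 : F 1 = Nat.card {g : G // g ^ n = 1} := by
    apply Nat.card_congr
    exact Equiv.subtypeEquivRight (fun x => by simp)
  have hf : ∀ r q : P, F (r * q * r⁻¹) = F q := by
    intro r q
    apply Nat.card_congr
    refine ⟨fun x => ⟨r.1⁻¹ * x.1 * r.1, ?_, ?_⟩, fun x => ⟨r.1 * x.1 * r.1⁻¹, ?_, ?_⟩, ?_, ?_⟩
    · have := x.2.1
      have e := conj_pow (a := r.1⁻¹) (b := x.1) (i := n)
      simp only [inv_inv] at e
      rw [e, this]; simp
    · have := x.2.2
      have e : r.1 * q.1 * r.1⁻¹ * x.1 = x.1 * (r.1 * q.1 * r.1⁻¹) := this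
      have : q.1 * (r.1⁻¹ * x.1 * r.1) = r.1⁻¹ * (r.1 * q.1 * r.1⁻¹ * x.1) * r.1 := by group
      rw [this, e]; group
    · have := x.2.1
      rw [conj_pow, this]; simp
    · have := x.2.2
      show r.1 * q.1 * r.1⁻¹ * (r.1 * x.1 * r.1⁻¹) = (r.1 * x.1 * r.1⁻¹) * (r.1 * q.1 * r.1⁻¹)
      have e1 : r.1 * q.1 * r.1⁻¹ * (r.1 * x.1 * r.1⁻¹) = r.1 * (q.1 * x.1) * r.1⁻¹ := by group
      have e2 : (r.1 * x.1 * r.1⁻¹) * (r.1 * q.1 * r.1⁻¹) = r.1 * (x.1 * q.1) * r.1⁻¹ := by group
      rw [e1, e2, this]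
    · intro x; apply Subtype.ext; simp only; group
    · intro x; apply Subtype.ext; simp only; group
  have hsum : p ^ a ∣ ∑ q ∈ Finset.univ.erase (1 : P), F q := by
    apply dvd_sum_of_class F hf
    intro q hq
    let C : Subgroup G := centralizer {q.1}
    let K : Subgroup P := centralizer {q}
    have hne : C ≠ ⊤ := by
      intro hC
      have hq1 : q.1 ∈ center G := by
        rw [Subgroup.mem_center_iff]
        intro g
        have : g ∈ C := by rw [hC]; trivial
        exact Subgroup.mem_centralizer_singleton_iff.1 this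
      apply hZ
      have h3 : orderOf q ∣ p ^ a := by
        rw [← hP]; exact orderOf_dvd_natCard q
      obtain ⟨b, _, hb⟩ := (Nat.dvd_prime_pow hp).1 h3
      have h4 : orderOf (⟨q.1, hq1⟩ : center G) = orderOf q := by
        rw [Subgroup.orderOf_mk, Subgroup.orderOf_coe]
      have h5 : orderOf q ∣ Nat.card (center G) := by
        rw [← h4]; exact orderOf_dvd_natCard _
      have hb0 : b ≠ 0 := by
        rintro rfl
        apply hq
        rw [pow_zero] at hb
        exact orderOf_eq_one_iff.1 hb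
      exact (dvd_pow_self p hb0).trans (hb ▸ h5)
    have hlt : Nat.card C < Nat.card G := card_lt_of_ne_top hne
    have hK : Nat.card K ∣ p ^ a := by
      rw [← hP]; exact Subgroup.card_subgroup_dvd_card K
    obtain ⟨b, hb, hKb⟩ := (Nat.dvd_prime_pow hp).1 hK
    have hKC : K.map P.subtype ≤ C := by
      rintro _ ⟨y, hy, rfl⟩
      have : y * q = q * y := Subgroup.mem_centralizer_singleton_iff.1 hy
      exact Subgroup.mem_centralizer_singleton_iff.2 (congrArg Subtype.val this)
    have h3 : p ^ b ∣ Nat.card C := by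
      rw [← hKb, ← Subgroup.card_map_of_injective P.subtype_injective]
      exact Subgroup.card_dvd_of_le hKC
    have h4 := IH C hlt n b hn ((pow_dvd_pow p hb).trans h1) h3
    have e : Nat.card {g : C // g ^ n = 1} = F q := by
      apply Nat.card_congr
      refine ⟨fun x => ⟨x.1.1, ?_, ?_⟩, fun x => ⟨⟨x.1, ?_⟩, ?_⟩, ?_, ?_⟩
      · have := congrArg Subtype.val x.2
        simpa using this
      · have := Subgroup.mem_centralizer_singleton_iff.1 x.1.2
        exact this.symm
      · exact Subgroup.mem_centralizer_singleton_iff.2 x.2.2.symm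
      · apply Subtype.ext
        simpa using x.2.1
      · intro x; rfl
      · intro x; rfl
    rw [e] at h4
    have h5 : Nat.card K * K.index = p ^ a := by
      rw [Subgroup.card_mul_index, hP]
    rw [hKb] at h5
    rw [← h5, mul_comm]
    exact mul_dvd_mul_left _ h4
  have hdvd : p ^ a ∣ ∑ q : P, F q := by
    rw [burn, ← Nat.card_eq_fintype_card (α := P), hP]
    exact dvd_mul_left _ _
  rw [← Finset.add_sum_erase _ _ (Finset.mem_univ (1 : P))] at hdvd
  rw [← hF1]
  exact (Nat.dvd_add_left hsum).1 hdvd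


theorem case_central [Finite G] (p : ℕ) [Fact p.Prime] (IH : IHyp p G) (z : G)
    (hz : z ∈ center G) (hzo : orderOf z = p) (n a : ℕ) (hn : n ≠ 0) (h1 : p ^ a ∣ n)
    (h2 : p ^ a ∣ Nat.card G) : p ^ a ∣ Nat.card {g : G // g ^ n = 1} := by
  classical
  rcases a with _ | a
  · simp
  have hp : p.Prime := Fact.out
  let N : Subgroup G := zpowers z
  have hNcen : ∀ y ∈ N, ∀ g : G, y * g = g * y := by
    intro y hy g
    obtain ⟨k, rfl⟩ := mem_zpowers_iff.1 hy
    have : z ^ k ∈ center G := (center G).zpow_mem hz k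
    exact (Subgroup.mem_center_iff.1 this g).symm
  haveI hN : N.Normal := ⟨by
    intro y hy g
    rw [← hNcen y hy g]
    simpa using hy⟩
  have hzp : ∀ y ∈ N, y ^ p = 1 := by
    intro y hy
    obtain ⟨k, rfl⟩ := mem_zpowers_iff.1 hy
    rw [← zpow_natCast, zpow_comm, zpow_natCast z p, ← hzo, pow_orderOf_eq_one, one_zpow]
  have hcardN : Nat.card N = p := by rw [Nat.card_zpowers, hzo]
  have hpn : p ∣ n := dvd_trans (dvd_pow_self p (Nat.succ_ne_zero a)) h1
  obtain ⟨n', rfl⟩ := hpn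
  have hn' : n' ≠ 0 := fun h => hn (by rw [h]; simp)
  have ha' : p ^ a ∣ n' := by
    rw [pow_succ'] at h1
    exact Nat.dvd_of_mul_dvd_mul_left hp.pos h1
  have hQcard : Nat.card G = p * Nat.card (G ⧸ N) := by
    rw [Subgroup.card_eq_card_quotient_mul_card_subgroup N, hcardN, mul_comm]
  have hQ : p ^ a ∣ Nat.card (G ⧸ N) := by
    rw [hQcard, pow_succ'] at h2
    exact Nat.dvd_of_mul_dvd_mul_left hp.pos h2
  have hGpos : 0 < Nat.card (G ⧸ N) := Nat.card_pos
  have hlt : Nat.card (G ⧸ N) < Nat.card G := by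
    rw [hQcard]
    have := hp.two_le
    nlinarith
  let π : G → G ⧸ N := QuotientGroup.mk
  let Xb : Set (G ⧸ N) := π '' {g : G | g ^ (p * n') = 1}
  have hX : {g : G | g ^ (p * n') = 1} = π ⁻¹' Xb := by
    ext g
    constructor
    · intro h; exact ⟨g, h, rfl⟩
    · rintro ⟨x, hx, hxg⟩
      have h3 : x⁻¹ * g ∈ N := QuotientGroup.eq.1 hxg
      have h4 : g = x * (x⁻¹ * g) := by group
      have hc : Commute x (x⁻¹ * g) := (hNcen _ h3 x).symm
      show g ^ (p * n') = 1
      rw [h4, hc.mul_pow]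
      have hx' : x ^ (p * n') = 1 := hx
      rw [hx', one_mul, pow_mul, hzp _ h3, one_pow]
  have hcard : Nat.card {g : G // g ^ (p * n') = 1} = p * Nat.card Xb := by
    have e1 : {g : G // g ^ (p * n') = 1} ≃ (π ⁻¹' Xb) := Equiv.setCongr hX
    rw [Nat.card_congr e1]
    have e2 := QuotientGroup.preimageMkEquivSubgroupProdSet N Xb
    have e3 : Nat.card (π ⁻¹' Xb) = Nat.card (N × Xb) := Nat.card_congr e2
    rw [e3, Nat.card_prod, hcardN]
  rw [hcard, pow_succ']
  apply mul_dvd_mul_left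
  let Y : Set (G ⧸ N) := {y | y ^ n' = 1}
  have hYX : Y ⊆ Xb := by
    intro y hy
    obtain ⟨g, rfl⟩ := QuotientGroup.mk_surjective y
    refine ⟨g, ?_, rfl⟩
    have h3 : ((g ^ n' : G) : G ⧸ N) = 1 := by
      rw [QuotientGroup.mk_pow]; exact hy
    have h4 : g ^ n' ∈ N := (QuotientGroup.eq_one_iff _).1 h3
    show g ^ (p * n') = 1
    rw [mul_comm, pow_mul, hzp _ h4]
  let R : Set (G ⧸ N) := Xb \ Y
  have hsplit : Nat.card Xb = Nat.card R + Nat.card Y := by
    simp only [Nat.card_coe_set_eq]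
    exact (Set.ncard_diff_add_ncard_of_subset hYX).symm
  have hY : p ^ a ∣ Nat.card Y := IH (G ⧸ N) hlt n' a hn' ha' hQ
  have hR : p ^ a ∣ Nat.card R := by
    apply dvd_card_of_closed R
    · rintro xb ⟨⟨x, hx, rfl⟩, hxY⟩ y hy
      have hyx : y ∈ zpowers (π x) := by rw [← hy]; exact mem_zpowers y
      have hxy : π x ∈ zpowers y := by rw [hy]; exact mem_zpowers _
      obtain ⟨k, rfl⟩ := mem_zpowers_iff.1 hyx
      constructor
      · refine ⟨x ^ k, ?_, rfl⟩
        have hx' : x ^ (p * n') = 1 := hx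
        show (x ^ k) ^ (p * n') = 1
        rw [← zpow_natCast, zpow_comm, zpow_natCast, hx', one_zpow]
      · intro hyY
        apply hxY
        obtain ⟨l, hl⟩ := mem_zpowers_iff.1 hxy
        have hyY' : (π x ^ k) ^ n' = 1 := hyY
        show π x ^ n' = 1
        rw [← hl, ← zpow_natCast, zpow_comm, zpow_natCast, hyY', one_zpow]
    · rintro xb ⟨⟨x, hx, rfl⟩, hxY⟩
      have hx' : x ^ (p * n') = 1 := hx
      have h3 : orderOf (π x) ∣ p * n' := by
        apply orderOf_dvd_of_pow_eq_one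
        show ((x : G ⧸ N)) ^ (p * n') = 1
        rw [← QuotientGroup.mk_pow, hx']; rfl
      have h4 : ¬ orderOf (π x) ∣ n' := fun h => hxY (orderOf_dvd_iff_pow_eq_one.1 h)
      have h5 := pow_dvd_of_not_dvd hp hn' h3 h4 h1
      have h6 := Nat.totient_dvd_of_dvd h5
      rw [Nat.totient_prime_pow_succ hp] at h6
      exact (dvd_mul_right _ _).trans h6
  rw [hsplit]
  exact dvd_add hR hY

/-- Frobenius' theorem, prime power form. -/
theorem frobenius_key (p : ℕ) [Fact p.Prime] : ∀ (N : ℕ) (G : Type u) [Group G] [Finite G],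
    Nat.card G = N → ∀ n a : ℕ, n ≠ 0 → p ^ a ∣ n → p ^ a ∣ Nat.card G →
      p ^ a ∣ Nat.card {g : G // g ^ n = 1} := by
  intro N
  induction N using Nat.strong_induction_on with
  | _ N ih =>
    intro G _ _ hG n a hn h1 h2
    have IH : IHyp p G := by
      intro H _ _ hlt n a hn h1 h2
      exact ih (Nat.card H) (hG ▸ hlt) H rfl n a hn h1 h2
    by_cases hZ : p ∣ Nat.card (center G)
    · obtain ⟨z, hz⟩ := exists_prime_orderOf_dvd_card' p hZ
      exact case_central p IH z.1 z.2 (by rw [Subgroup.orderOf_coe, hz]) n a hn h1 h2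
    · exact case_free p IH hZ n a hn h1 h2

/-- Frobenius' theorem, prime power form. -/
theorem pow_dvd_card_pow_eq_one [Finite G] (p : ℕ) [Fact p.Prime] {n a : ℕ} (hn : n ≠ 0)
    (h1 : p ^ a ∣ n) (h2 : p ^ a ∣ Nat.card G) : p ^ a ∣ Nat.card {g : G // g ^ n = 1} :=
  frobenius_key p _ G rfl n a hn h1 h2

/-- Frobenius' theorem: `gcd (n, |G|)` divides the number of solutions of `x ^ n = 1`. -/
theorem gcd_dvd_card_pow_eq_one [Finite G] {n : ℕ} (hn : n ≠ 0) :
    Nat.gcd n (Nat.card G) ∣ Nat.card {g : G // g ^ n = 1} := by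
  have hg : Nat.gcd n (Nat.card G) ≠ 0 := Nat.gcd_ne_zero_left hn
  haveI : Nonempty {g : G // g ^ n = 1} := ⟨⟨1, one_pow n⟩⟩
  have hc : Nat.card {g : G // g ^ n = 1} ≠ 0 := Nat.card_pos.ne'
  rw [← Nat.factorization_prime_le_iff_dvd hg hc]
  intro p hp
  haveI : Fact p.Prime := ⟨hp⟩
  rw [← hp.pow_dvd_iff_le_factorization hc]
  have h3 : p ^ (Nat.gcd n (Nat.card G)).factorization p ∣ Nat.gcd n (Nat.card G) :=
    Nat.ordProj_dvd _ _
  exact pow_dvd_card_pow_eq_one p hn (h3.trans (Nat.gcd_dvd_left _ _))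
    (h3.trans (Nat.gcd_dvd_right _ _))

/-- Frobenius' theorem. -/
theorem dvd_card_pow_eq_one [Finite G] {m : ℕ} (hm : m ∣ Nat.card G) :
    m ∣ Nat.card {g : G // g ^ m = 1} := by
  have hm0 : m ≠ 0 := fun h => by
    rw [h] at hm
    exact Nat.card_pos.ne' (Nat.eq_zero_of_zero_dvd hm)
  have := gcd_dvd_card_pow_eq_one (G := G) hm0
  rwa [Nat.gcd_eq_left hm] at this


/-- Number of solutions of `y ^ n = 1` commuting with `u`. -/
noncomputable def F (n : ℕ) (u : G) : ℕ := Nat.card {y : G // y ^ n = 1 ∧ u * y = y * u}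

theorem F_conj (n : ℕ) (r u : G) : F n (r * u * r⁻¹) = F n u := by
  apply Nat.card_congr
  refine ⟨fun x => ⟨r⁻¹ * x.1 * r, ?_, ?_⟩, fun x => ⟨r * x.1 * r⁻¹, ?_, ?_⟩, ?_, ?_⟩
  · have := x.2.1
    have e := conj_pow (a := r⁻¹) (b := x.1) (i := n)
    simp only [inv_inv] at e
    rw [e, this]; simp
  · have := x.2.2
    have e : r * u * r⁻¹ * x.1 = x.1 * (r * u * r⁻¹) := this
    have : u * (r⁻¹ * x.1 * r) = r⁻¹ * (r * u * r⁻¹ * x.1) * r := by group
    rw [this, e]; group
  · have := x.2.1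
    rw [conj_pow, this]; simp
  · have := x.2.2
    show r * u * r⁻¹ * (r * x.1 * r⁻¹) = (r * x.1 * r⁻¹) * (r * u * r⁻¹)
    have e1 : r * u * r⁻¹ * (r * x.1 * r⁻¹) = r * (u * x.1) * r⁻¹ := by group
    have e2 : (r * x.1 * r⁻¹) * (r * u * r⁻¹) = r * (x.1 * u) * r⁻¹ := by group
    rw [e1, e2, this]
  · intro x; apply Subtype.ext; simp only; group
  · intro x; apply Subtype.ext; simp only; group

theorem card_centralizer_solutions (n : ℕ) (u : G) :
    Nat.card {g : centralizer {u} // g ^ n = 1} = F n u := by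
  apply Nat.card_congr
  refine ⟨fun x => ⟨x.1.1, ?_, ?_⟩, fun x => ⟨⟨x.1, ?_⟩, ?_⟩, ?_, ?_⟩
  · have := congrArg Subtype.val x.2
    simpa using this
  · have := Subgroup.mem_centralizer_singleton_iff.1 x.1.2
    exact this.symm
  · exact Subgroup.mem_centralizer_singleton_iff.2 x.2.2.symm
  · apply Subtype.ext
    simpa using x.2.1
  · intro x; rfl
  · intro x; rfl

theorem F_pos [Finite G] (n : ℕ) (u : G) : 0 < F n u := by
  haveI : Nonempty {y : G // y ^ n = 1 ∧ u * y = y * u} := ⟨⟨1, one_pow n, by simp⟩⟩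
  exact Nat.card_pos

/-- Frobenius in the centralizer combined with the class size. -/
theorem dvd_index_mul_F [Finite G] {n k : ℕ} (hn : n ≠ 0) (u : G) (hk : k ∣ n)
    (hkG : k ∣ Nat.card G) : k ∣ (centralizer {u}).index * F n u := by
  have h1 : k ∣ Nat.card (centralizer {u}) * (centralizer {u}).index := by
    rwa [Subgroup.card_mul_index]
  have h2 := Nat.dvd_gcd_mul_iff_dvd_mul.2 h1
  have h3 : Nat.gcd n (Nat.card (centralizer {u})) ∣ F n u := by
    rw [← card_centralizer_solutions]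
    exact gcd_dvd_card_pow_eq_one hn
  have h4 : Nat.gcd k (Nat.card (centralizer {u})) ∣ F n u :=
    (Nat.gcd_dvd_gcd_of_dvd_left _ hk).trans h3
  rw [mul_comm]
  exact h2.trans (mul_dvd_mul_right h4 _)

theorem pow_zpow_gcdA {q r : ℕ} (hc : q.Coprime r) {w : G} (hw : w ^ r = 1) :
    (w ^ q) ^ Nat.gcdA q r = w := by
  have hb : (q : ℤ) * Nat.gcdA q r + r * Nat.gcdB q r = 1 := by
    have := Nat.gcd_eq_gcd_ab q r
    rw [hc] at this
    simpa using this.symm
  calc (w ^ q) ^ Nat.gcdA q r = (w ^ q) ^ Nat.gcdA q r * (w ^ r) ^ Nat.gcdB q r := by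
        rw [hw, one_zpow, mul_one]
    _ = w ^ ((q : ℤ) * Nat.gcdA q r + r * Nat.gcdB q r) := by
        rw [zpow_add, zpow_mul, zpow_mul, zpow_natCast, zpow_natCast]
    _ = w := by rw [hb, zpow_one]

/-- Uniqueness of the decomposition into commuting parts of coprime exponents. -/
theorem jordan_unique {q r : ℕ} (hc : q.Coprime r) {u y u' y' : G}
    (h1 : u ^ r = 1) (h2 : y ^ q = 1) (h3 : u * y = y * u)
    (h1' : u' ^ r = 1) (h2' : y' ^ q = 1) (h3' : u' * y' = y' * u')
    (h : u * y = u' * y') : u = u' ∧ y = y' := by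
  have e1 : (u * y) ^ q = u ^ q := by
    rw [(show Commute u y from h3).mul_pow, h2, mul_one]
  have e2 : (u' * y') ^ q = u' ^ q := by
    rw [(show Commute u' y' from h3').mul_pow, h2', mul_one]
  have e3 : u ^ q = u' ^ q := by rw [← e1, ← e2, h]
  have e4 : u = u' := by
    rw [← pow_zpow_gcdA hc h1, e3, pow_zpow_gcdA hc h1']
  refine ⟨e4, ?_⟩
  subst e4
  exact mul_left_cancel h

/-- Existence of the decomposition into commuting parts of coprime exponents. -/
theorem exists_jordan {q r : ℕ} (hc : q.Coprime r) (g : G) (hg : g ^ (q * r) = 1) :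
    ∃ u y : G, u ^ r = 1 ∧ y ^ q = 1 ∧ u * y = y * u ∧ g = u * y := by
  obtain ⟨a, b, hab⟩ := FGSBasic.exists_zpow_bezout g hc
  refine ⟨(g ^ q) ^ a, (g ^ r) ^ b, ?_, ?_, ?_, hab.symm⟩
  · rw [← zpow_natCast, zpow_comm, zpow_natCast, ← pow_mul, hg, one_zpow]
  · rw [← zpow_natCast, zpow_comm, zpow_natCast, ← pow_mul, mul_comm, hg, one_zpow]
  · exact (Commute.zpow_zpow ((Commute.refl g).pow_pow _ _) _ _).eq

/-- Counting formula: elements with a decomposition are counted by the centralizer. -/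
theorem card_jordan [Finite G] {q r : ℕ} (hc : q.Coprime r) (P : G → Prop)
    [Fintype {u : G // u ^ r = 1 ∧ P u}] :
    Nat.card {g : G // ∃ u y : G, u ^ r = 1 ∧ P u ∧ y ^ q = 1 ∧ u * y = y * u ∧ g = u * y}
      = ∑ u : {u : G // u ^ r = 1 ∧ P u}, F q u.1 := by
  unfold F
  rw [← Nat.card_sigma]
  symm
  apply Nat.card_congr
  refine Equiv.ofBijective (fun x => ⟨x.1.1 * x.2.1, x.1.1, x.2.1, x.1.2.1, x.1.2.2, x.2.2.1,
    x.2.2.2, rfl⟩) ⟨?_, ?_⟩
  · rintro ⟨⟨u, hu⟩, ⟨y, hy⟩⟩ ⟨⟨u', hu'⟩, ⟨y', hy'⟩⟩ h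
    have h0 : u * y = u' * y' := congrArg Subtype.val h
    obtain ⟨rfl, rfl⟩ := jordan_unique hc hu.1 hy.1 hy.2 hu'.1 hy'.1 hy'.2 h0
    rfl
  · rintro ⟨g, u, y, h1, h2, h3, h4, rfl⟩
    exact ⟨⟨⟨u, h1, h2⟩, ⟨y, h3, h4⟩⟩, rfl⟩

/-- Classwise divisibility of sums over conjugation invariant subsets. -/
theorem dvd_sum_subtype {P : Type*} [Group P] [Fintype P] (U : P → Prop)
    [Fintype {u : P // U u}] (hU : ∀ r q, U q → U (r * q * r⁻¹)) (f : P → ℕ)
    (hf : ∀ r q, f (r * q * r⁻¹) = f q) (m : ℕ)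
    (hm : ∀ q, U q → m ∣ (centralizer {q}).index * f q) :
    m ∣ ∑ u : {u : P // U u}, f u.1 := by
  classical
  have e : ∑ u : {u : P // U u}, f u.1 = ∑ q, if U q then f q else 0 := by
    rw [← Finset.sum_filter]
    symm
    apply Finset.sum_subtype
    simp
  rw [e, ← Finset.sum_fiberwise _ (fun q : P => ConjClasses.mk q)]
  apply Finset.dvd_sum
  intro c _
  obtain ⟨q, rfl⟩ := ConjClasses.mk_surjective c
  have hconst : ∀ y ∈ Finset.univ.filter (fun y : P => ConjClasses.mk y = ConjClasses.mk q),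
      (if U y then f y else 0) = if U q then f q else 0 := by
    intro y hy
    have h1 : IsConj y q := ConjClasses.mk_eq_mk_iff_isConj.1 (by simpa using hy)
    obtain ⟨r, hr⟩ := isConj_iff.1 h1
    subst hr
    have h2 : U (r * y * r⁻¹) ↔ U y := by
      constructor
      · intro h
        have := hU r⁻¹ _ h
        have e2 : r⁻¹ * (r * y * r⁻¹) * r⁻¹⁻¹ = y := by group
        rwa [e2] at this
      · exact hU r y
    simp only [h2, hf]
  rw [Finset.sum_congr rfl hconst, Finset.sum_const, smul_eq_mul]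
  have hcard : (Finset.univ.filter (fun y : P => ConjClasses.mk y = ConjClasses.mk q)).card
      = (centralizer {q}).index := by
    rw [← FGSBasic.card_conj_eq_index q, Nat.card_eq_fintype_card, Fintype.card_subtype]
    congr 1
    ext y
    simp only [Finset.mem_filter, Finset.mem_univ, true_and, ConjClasses.mk_eq_mk_iff_isConj]
    exact ⟨fun h => h.symm, fun h => h.symm⟩
  rw [hcard]
  by_cases hq : U q
  · rw [if_pos hq]; exact hm q hq
  · simp [hq]

end Cfsg.Agent.Lib.FrobCount
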