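import Mathlib
import Cfsg.Prelude.Def_Solvable
import Cfsg.Agent.Lib.H1Frob
import Cfsg.Agent.Lib.H1Core

set_option autoImplicit false

/-! Frobenius complement and kernel in `N ⊔ H` from a fixed-point-free action. -/

namespace Cfsg.Agent.Lib.FrobFpf

open Subgroup Cfsg
open scoped Pointwise

variable {G : Type*} [Group G] [Finite G]

/-- `H` acting fixed-point-freely on the normal subgroup `N`: Frobenius in `N ⊔ H`. -/
theorem frob_of_fpf (N H : Subgroup G) [hNn : N.Normal] (hinf : N ⊓ H = ⊥) (hN : N ≠ ⊥) (hH : H ≠ ⊥)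
    (hfpf : ∀ h ∈ H, ∀ n ∈ N, h * n = n * h → h = 1 ∨ n = 1) :
    IsFrobeniusComplement (H.subgroupOf (N ⊔ H)) ∧
      frobeniusKernel (H.subgroupOf (N ⊔ H)) = (N.subgroupOf (N ⊔ H) : Set ↥(N ⊔ H)) := by
  classical
  have hinf' : ∀ x, x ∈ N → x ∈ H → x = 1 := by
    intro x h1 h2
    have : x ∈ N ⊓ H := ⟨h1, h2⟩
    rw [hinf] at this
    exact Subgroup.mem_bot.mp this
  obtain ⟨⟨h₁, hh₁⟩, hh₁1⟩ := Subgroup.ne_bot_iff_exists_ne_one.mp hH
  obtain ⟨⟨n₁, hn₁⟩, hn₁1⟩ := Subgroup.ne_bot_iff_exists_ne_one.mp hN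
  have hn₁1' : n₁ ≠ 1 := fun h => hn₁1 (Subtype.ext h)
  have hh₁1' : h₁ ≠ 1 := fun h => hh₁1 (Subtype.ext h)
  have hfrob : IsFrobeniusComplement (H.subgroupOf (N ⊔ H)) := by
    refine ⟨?_, ?_, ?_⟩
    · intro hb
      have h1 : (⟨h₁, (le_sup_right : H ≤ N ⊔ H) hh₁⟩ : ↥(N ⊔ H)) ∈ H.subgroupOf (N ⊔ H) :=
        Subgroup.mem_subgroupOf.mpr hh₁
      rw [hb] at h1
      exact hh₁1' (congrArg Subtype.val (Subgroup.mem_bot.mp h1))
    · intro ht
      have h1 : (⟨n₁, (le_sup_left : N ≤ N ⊔ H) hn₁⟩ : ↥(N ⊔ H)) ∈ H.subgroupOf (N ⊔ H) := by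
        rw [ht]; exact Subgroup.mem_top _
      exact hn₁1' (hinf' _ hn₁ (Subgroup.mem_subgroupOf.mp h1))
    · intro g hg
      rw [eq_bot_iff]
      rintro x ⟨hx1, hx2⟩
      have hx1' : (x : G) ∈ H := Subgroup.mem_subgroupOf.mp hx1
      have hx2' : g⁻¹ * x * g ∈ H.subgroupOf (N ⊔ H) := Lib.H1Core.mem_conj_smul.mp hx2
      have hy : (g : G)⁻¹ * x * g ∈ H := Subgroup.mem_subgroupOf.mp hx2'
      obtain ⟨n, hn, h₀, hh₀, hg0⟩ := Subgroup.mem_sup_of_normal_left.mp g.2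
      set y' : G := h₀ * ((g : G)⁻¹ * x * g) * h₀⁻¹ with hy'
      have hy'H : y' ∈ H := H.mul_mem (H.mul_mem hh₀ hy) (H.inv_mem hh₀)
      have hxy : (x : G) = n * y' * n⁻¹ := by
        rw [hy', ← hg0]; group
      have hxy2 : (x : G) * y'⁻¹ ∈ N := by
        have h1 : (x : G) * y'⁻¹ = n * (y' * n⁻¹ * y'⁻¹) := by rw [hxy]; group
        rw [h1]
        exact N.mul_mem hn (hNn.conj_mem _ (N.inv_mem hn) y')
      have hxy3 : (x : G) = y' := by
        have h1 := hinf' _ hxy2 (H.mul_mem hx1' (H.inv_mem hy'H))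
        exact mul_inv_eq_one.mp h1
      have hcomm : y' * n = n * y' := by
        have h1 : n * y' * n⁻¹ = y' := hxy.symm.trans hxy3
        rw [mul_inv_eq_iff_eq_mul] at h1
        exact h1.symm
      rcases hfpf y' hy'H n hn hcomm with h1 | h1
      · rw [h1] at hxy3
        exact Subgroup.mem_bot.mpr (Subtype.ext hxy3)
      · exfalso
        apply hg
        apply Subgroup.mem_subgroupOf.mpr
        rw [← hg0, h1, one_mul]
        exact hh₀
  refine ⟨hfrob, ?_⟩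
  have hsub : (N.subgroupOf (N ⊔ H) : Set ↥(N ⊔ H)) ⊆ frobeniusKernel (H.subgroupOf (N ⊔ H)) := by
    intro z hz
    by_cases hz1 : z = 1
    · exact Or.inl hz1
    · right
      intro g hg
      have hg' : g⁻¹ * z * g ∈ H.subgroupOf (N ⊔ H) := Lib.H1Core.mem_conj_smul.mp hg
      have hzN : (z : G) ∈ N := Subgroup.mem_subgroupOf.mp hz
      have h1 : (g : G)⁻¹ * z * g ∈ H := Subgroup.mem_subgroupOf.mp hg'
      have h2 : (g : G)⁻¹ * z * g ∈ N := by
        have := hNn.conj_mem _ hzN (g : G)⁻¹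
        simpa using this
      have h3 := hinf' _ h2 h1
      apply hz1
      apply Subtype.ext
      have h4 : (z : G) = g * ((g : G)⁻¹ * z * g) * (g : G)⁻¹ := by group
      rw [h4, h3]
      simp
  have hcardA : Nat.card ↥(N ⊔ H) = Nat.card N * Nat.card H := by
    have h1 := Subgroup.card_mul_index (N.subgroupOf (N ⊔ H))
    have h2 : Nat.card (N.subgroupOf (N ⊔ H)) = Nat.card N :=
      Nat.card_congr (Subgroup.subgroupOfEquivOfLe le_sup_left).toEquiv
    have h3 : (N.subgroupOf (N ⊔ H)).index = Nat.card H := by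
      show N.relIndex (N ⊔ H) = Nat.card H
      rw [Subgroup.relIndex_sup_left, ← Subgroup.inf_relIndex_right, hinf, Subgroup.relIndex]
      rw [Subgroup.bot_subgroupOf, Subgroup.index_bot]
    rw [h2, h3] at h1
    exact h1.symm
  have hcardK := Lib.H1Frob.card_kernel hfrob
  have hidx : (H.subgroupOf (N ⊔ H)).index = Nat.card N := by
    have h1 := Subgroup.card_mul_index (H.subgroupOf (N ⊔ H))
    have h2 : Nat.card (H.subgroupOf (N ⊔ H)) = Nat.card H :=
      Nat.card_congr (Subgroup.subgroupOfEquivOfLe le_sup_right).toEquiv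
    rw [h2, hcardA, mul_comm] at h1
    exact Nat.eq_of_mul_eq_mul_right Nat.card_pos h1
  symm
  apply Set.eq_of_subset_of_ncard_le hsub _ (Set.toFinite _)
  rw [← Nat.card_coe_set_eq, ← Nat.card_coe_set_eq, hcardK, hidx]
  have h2 : Nat.card ((N.subgroupOf (N ⊔ H) : Subgroup ↥(N ⊔ H)) : Set ↥(N ⊔ H)) = Nat.card N :=
    Nat.card_congr (Subgroup.subgroupOfEquivOfLe le_sup_left).toEquiv
  rw [h2]

end Cfsg.Agent.Lib.FrobFpf
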