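import Mathlib
import Cfsg.Agent.Lib.FusLift
import Cfsg.Agent.Lib.FusAlp

/-! The Frattini condition for a subsystem over a strongly closed subgroup; subsystems of `p`-power index. -/

set_option autoImplicit false
set_option linter.unusedSectionVars false

namespace Cfsg.Agent.Lib.FusFrat

open Cfsg Cfsg.FusionSystem Cfsg.Agent.Lib.FusBasic Cfsg.Agent.Lib.FusAut Cfsg.Agent.Lib.FusSat Cfsg.Agent.Lib.FusAlp Cfsg.Agent.Lib.FusNorm Cfsg.Agent.Lib.FusHyp Cfsg.Agent.Lib.FusLift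

section
variable {Ω : Type*} [Group Ω] {S : Subgroup Ω} [Finite S] {p : ℕ} [Fact p.Prime] {T : Subgroup Ω}

/-- the Frattini predicate -/
def Fr (F : Cfsg.FusionSystem S) (E : Cfsg.FusionSystem T) (P : Subgroup Ω) (φ : P →* Ω) : Prop :=
  ∃ α ∈ F.autGroup T, ∃ φ₀ ∈ E.Hom P, ∀ (x : P) (hx : φ₀ x ∈ T), φ x = ((α ⟨φ₀ x, hx⟩ : T) : Ω)

/-- transport of maps of `E` by elements of `Aut_F(T)` -/
def Tr (F : Cfsg.FusionSystem S) (E : Cfsg.FusionSystem T) : Prop :=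
  ∀ {α : MulAut T} (_ : α ∈ F.autGroup T) {P : Subgroup Ω} {φ : P →* Ω} (hφ : φ ∈ E.Hom P) {U : Subgroup Ω}
    (_ : ∀ u ∈ U, ∃ x : P, ((α ⟨x, src_le E hφ x.2⟩ : T) : Ω) = u),
    ∃ χ ∈ E.Hom U, ∀ (x : P) (u : U), (u : Ω) = ((α ⟨x, src_le E hφ x.2⟩ : T) : Ω) → χ u = ((α ⟨φ x, val_mem E hφ x⟩ : T) : Ω)

theorem aut_of {F : Cfsg.FusionSystem S} (hT : F.StronglyClosed T) {ψ : T →* Ω} (hψ : ψ ∈ F.Hom T) :
    ∃ α ∈ F.autGroup T, ∀ x : T, ((α x : T) : Ω) = ψ x := by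
  haveI : Finite T := finite_of_le hT.1
  have hinj := inj F hψ
  have hr : ψ.range = T := by
    apply Subgroup.eq_of_le_of_card_ge
    · rintro _ ⟨x, rfl⟩
      exact hT.2 T le_rfl ψ hψ x
    · exact (Nat.card_congr (MonoidHom.ofInjective hinj).toEquiv).le
  refine ⟨isoOf ψ hinj hr, ?_, fun x => rfl⟩
  apply mem_autGroup_of
  exact hom_congr F hψ (fun x => rfl)

/-- the subsystem of maps satisfying the Frattini condition on the part in `T` -/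
def sys (F : Cfsg.FusionSystem S) (E : Cfsg.FusionSystem T) (hT : F.StronglyClosed T) (hTr : Tr F E) : Cfsg.FusionSystem S :=
  subsystem F (fun P φ => Fr F E (P ⊓ T) (φ.comp (Subgroup.inclusion inf_le_left)))
    (by
      intro P g hP hg
      have hc : conjHom T g ∈ F.Hom T := F.conj_mem hT.1 hg
      obtain ⟨α, hα, eα⟩ := aut_of hT hc
      refine ⟨α, hα, (P ⊓ T).subtype, subtype_mem E inf_le_right, fun x hx => ?_⟩
      exact (eα ⟨x, x.2.2⟩).symm)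
    (by
      rintro P Q φ ψ hφ hψ ⟨α, hα, φ₀, hφ₀, e1⟩ ⟨β, hβ, ψ₀, hψ₀, e2⟩ h
      have hPS := src_le F hφ
      have hφT : ∀ x : ↥(P ⊓ T), φ (Subgroup.inclusion inf_le_left x) ∈ Q ⊓ T := by
        intro x
        refine ⟨h _, ?_⟩
        have := e1 x (val_mem E hφ₀ x)
        rw [show (φ.comp (Subgroup.inclusion inf_le_left)) x = φ (Subgroup.inclusion inf_le_left x) from rfl] at this
        rw [this]
        exact Subtype.coe_prop _
      have hainv : α⁻¹ ∈ F.autGroup T := Subgroup.inv_mem _ hα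
      have hU : ∀ u ∈ φ₀.range, ∃ w : ↥(Q ⊓ T), (((α⁻¹) ⟨w, src_le E hψ₀ w.2⟩ : T) : Ω) = u := by
        rintro _ ⟨x, rfl⟩
        refine ⟨⟨_, hφT x⟩, ?_⟩
        have := e1 x (val_mem E hφ₀ x)
        have e3 : (⟨φ (Subgroup.inclusion inf_le_left x), (hφT x).2⟩ : T) = α ⟨φ₀ x, val_mem E hφ₀ x⟩ := Subtype.ext this
        show (((α⁻¹) ⟨φ (Subgroup.inclusion inf_le_left x), (hφT x).2⟩ : T) : Ω) = _
        rw [e3]
        simp
      obtain ⟨ξ, hξ, eξ⟩ := hTr hainv hψ₀ hU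
      have hcomp : ξ.comp (φ₀.rangeRestrict) ∈ E.Hom (P ⊓ T) := by
        refine comp_mem' E hφ₀ hξ (fun x => ⟨x, rfl⟩) (fun x => rfl)
      refine ⟨β * α, Subgroup.mul_mem _ hβ hα, _, hcomp, fun x hx => ?_⟩
      set w : ↥(Q ⊓ T) := ⟨_, hφT x⟩ with hw
      have h3 := e1 x (val_mem E hφ₀ x)
      have e3 : (⟨φ (Subgroup.inclusion inf_le_left x), (hφT x).2⟩ : T) = α ⟨φ₀ x, val_mem E hφ₀ x⟩ := Subtype.ext h3
      have h4 := eξ w ⟨φ₀ x, ⟨x, rfl⟩⟩ (by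
        show φ₀ x = (((α⁻¹) ⟨φ (Subgroup.inclusion inf_le_left x), (hφT x).2⟩ : T) : Ω)
        rw [e3]
        simp)
      have h5 : (⟨(ξ.comp φ₀.rangeRestrict) x, hx⟩ : T) = (α⁻¹) ⟨ψ₀ w, val_mem E hψ₀ w⟩ := Subtype.ext h4
      have h6 : ((β * α) ⟨(ξ.comp φ₀.rangeRestrict) x, hx⟩ : T) = β ⟨ψ₀ w, val_mem E hψ₀ w⟩ := by
        rw [h5]
        simp
      rw [h6]
      have h7 := e2 w (val_mem E hψ₀ w)
      rw [← h7]
      rfl)
    (by
      rintro P φ ψ hφ ⟨α, hα, φ₀, hφ₀, e1⟩ hψ hψx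
      obtain ⟨θ, hθ, eθ⟩ := E.inv_mem hφ₀
      have hPS := src_le F hφ
      -- elements of the target
      have hpre : ∀ v ∈ φ.range ⊓ T, ∃ x : ↥(P ⊓ T), φ (Subgroup.inclusion inf_le_left x) = v := by
        rintro v ⟨⟨x₁, rfl⟩, hv⟩
        have h1 : ψ ⟨φ x₁, ⟨x₁, rfl⟩⟩ ∈ T :=
          hT.2 (φ.range ⊓ T) inf_le_right (ψ.comp (Subgroup.inclusion inf_le_left)) (res_mem F inf_le_left hψ) ⟨_, ⟨x₁, rfl⟩, hv⟩
        rw [hψx] at h1
        exact ⟨⟨x₁, x₁.2, h1⟩, rfl⟩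
      have hU : ∀ v ∈ φ.range ⊓ T, ∃ u : φ₀.range, ((α ⟨u, src_le E hθ u.2⟩ : T) : Ω) = v := by
        intro v hv
        obtain ⟨x, rfl⟩ := hpre v hv
        refine ⟨⟨φ₀ x, ⟨x, rfl⟩⟩, ?_⟩
        exact (e1 x (val_mem E hφ₀ x)).symm
      obtain ⟨χ, hχ, eχ⟩ := hTr hα hθ hU
      refine ⟨α⁻¹, Subgroup.inv_mem _ hα, χ, hχ, fun v hv => ?_⟩
      obtain ⟨x, ex⟩ := hpre v v.2
      have h1 := e1 x (val_mem E hφ₀ x)
      have h2 := eχ ⟨φ₀ x, ⟨x, rfl⟩⟩ v (by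
        rw [← ex]
        exact h1)
      have h3 : (⟨χ v, hv⟩ : T) = α ⟨θ ⟨φ₀ x, ⟨x, rfl⟩⟩, val_mem E hθ _⟩ := Subtype.ext h2
      rw [h3]
      have h4 : (⟨θ ⟨φ₀ x, ⟨x, rfl⟩⟩, val_mem E hθ _⟩ : T) = ⟨x, x.2.2⟩ := Subtype.ext (eθ x)
      rw [h4]
      have h5 : ((α⁻¹ (α ⟨x, x.2.2⟩) : T) : Ω) = x := by simp
      rw [h5]
      show ψ ⟨v, v.2.1⟩ = x
      have h6 : (⟨v, v.2.1⟩ : φ.range) = ⟨φ (Subgroup.inclusion inf_le_left x), ⟨_, rfl⟩⟩ := Subtype.ext ex.symm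
      rw [h6]
      exact hψx _)

theorem mem_sys {F : Cfsg.FusionSystem S} {E : Cfsg.FusionSystem T} {hT : F.StronglyClosed T} {hTr : Tr F E} {P : Subgroup Ω} {φ : P →* Ω} :
    φ ∈ (sys F E hT hTr).Hom P ↔ φ ∈ F.Hom P ∧ Fr F E (P ⊓ T) (φ.comp (Subgroup.inclusion inf_le_left)) := Iff.rfl


/-- A saturated system inside `F` over a subgroup of `U` lies in every subsystem over `U` of `p`-power index. -/
theorem le_of_ppower {U : Subgroup Ω} (hS : IsPGroup p S) {F : Cfsg.FusionSystem S} {E : Cfsg.FusionSystem T} {F₀ : Cfsg.FusionSystem U}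
    (hEsat : E.IsSaturated p) (hsub : E.IsSubsystemOf F) (hTS : T ≤ S) (hTU : T ≤ U) (hidx : F₀.HasPPowerIndexIn F p) :
    E.IsSubsystemOf F₀ := by
  haveI : Finite T := finite_of_le hTS
  have hT' : IsPGroup p T := hS.to_le hTS
  let E' : Cfsg.FusionSystem T := subsystem E (fun P φ => φ ∈ F₀.Hom P)
    (by
      intro P g hP hg
      exact F₀.conj_mem (hP.trans hTU) (hTU hg))
    (by
      intro P Q φ ψ _ _ h1 h2 h
      exact F₀.comp_mem h1 h2 h)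
    (by
      intro P φ ψ _ h1 _ hx
      obtain ⟨ψ', hψ', e⟩ := F₀.inv_mem h1
      refine hom_congr F₀ hψ' ?_
      rintro ⟨_, x, rfl⟩
      rw [e x]
      exact hx x)
  have hle : E ≤ E' := by
    apply le_of_autGroup_le hT' E hEsat E'
    intro R hR a ha
    have hRT : R ≤ T := hR.1
    have hFA := fullyAutomized_of_fullyNormalized hT' E hEsat hR
    obtain ⟨β, hβ, c, hc, e⟩ := frattini_aut E hFA ⟨a, ha⟩
    have h1 : ((β : E.autGroup R) : MulAut R) ∈ E'.autGroup R := by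
      refine Subgroup.closure_induction (p := fun (β : ↥(E.autGroup R)) _ => ((β : ↥(E.autGroup R)) : MulAut R) ∈ E'.autGroup R) ?_ ?_ ?_ ?_ hβ
      · intro γ hγ
        have h2 : (γ : MulAut R) ∈ F.autGroup R := by
          apply mem_autGroup_of
          exact hsub R ((mem_autGroup_iff E hRT).1 γ.2)
        have h3 : (⟨γ, h2⟩ : ↥(F.autGroup R)) ∈ pResidual p (F.autGroup R) := by
          apply Subgroup.subset_closure
          show Nat.Coprime (orderOf (⟨γ, h2⟩ : ↥(F.autGroup R))) p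
          rw [Subgroup.orderOf_mk]
          have h4 : Nat.Coprime (orderOf γ) p := hγ
          rwa [Subgroup.orderOf_coe] at *
        have h5 : (γ : MulAut R) ∈ F₀.autGroup R := hidx.2.2 R (hRT.trans hTU) ⟨_, h3, rfl⟩
        apply mem_autGroup_of
        exact ⟨(mem_autGroup_iff E hRT).1 γ.2, (mem_autGroup_iff F₀ (hRT.trans hTU)).1 h5⟩
      · exact Subgroup.one_mem _
      · intro x y _ _ hx hy
        exact Subgroup.mul_mem _ hx hy
      · intro x _ hx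
        exact Subgroup.inv_mem _ hx
    have h2 : c ∈ E'.autGroup R := autInduced_le_autGroup E' hRT hc
    have e' : a = ((β : E.autGroup R) : MulAut R) * c := e
    rw [e']
    exact Subgroup.mul_mem _ h1 h2
  intro P φ hφ
  exact (hle P hφ).2

end

end Cfsg.Agent.Lib.FusFrat
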