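import Mathlib
import Cfsg.Agent.Lib.FusNorm
import Cfsg.Agent.Lib.FusSat

set_option autoImplicit false

/-! Transvection groups on an abelian `p`-group: the configuration of two Sylow subgroups of order `p`
inside a group of automorphisms. -/

namespace Cfsg.Agent.Lib.FusTransv

open Subgroup Cfsg.Agent.Lib.FusNorm Cfsg.Agent.Lib.FusSat

universe u

/-- `κ` fixes `Zh` pointwise and has commutators in `⟨a⟩` -/
def IsTv {G : Type u} [Group G] (Zh : Subgroup G) (a : G) (κ : MulAut G) : Prop :=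
  (∀ z ∈ Zh, κ z = z) ∧ ∀ y, κ y * y⁻¹ ∈ zpowers a

variable {G : Type u} [CommGroup G] [Finite G] {p : ℕ} [hp : Fact p.Prime]

omit [Finite G] hp in
theorem IsTv.conj {Zh : Subgroup G} {a : G} {κ : MulAut G} (h : IsTv Zh a κ) (g : MulAut G) :
    IsTv (Zh.map g.toMonoidHom) (g a) (g * κ * g⁻¹) := by
  constructor
  · rintro _ ⟨z, hz, rfl⟩
    show g (κ (g⁻¹ (g z))) = g z
    have : g⁻¹ (g z) = z := by simp
    rw [this, h.1 z hz]
  · intro y
    have e : (g * κ * g⁻¹) y * y⁻¹ = g (κ (g⁻¹ y) * (g⁻¹ y)⁻¹) := by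
      have : g (g⁻¹ y) = y := by simp
      show g (κ (g⁻¹ y)) * y⁻¹ = _
      rw [map_mul, map_inv, this]
    rw [e]
    obtain ⟨n, hn⟩ := h.2 (g⁻¹ y)
    rw [← hn, map_zpow]
    exact Subgroup.zpow_mem _ (Subgroup.mem_zpowers _) n

/-- automorphisms acting trivially on the chain `⊤ ≥ c₂ ≥ c₁ ≥ 1` -/
def K3 (c₁ c₂ : Subgroup G) (h : c₁ ≤ c₂) : Subgroup (MulAut G) where
  carrier := {α | (∀ x, α x * x⁻¹ ∈ c₂) ∧ (∀ x ∈ c₂, α x * x⁻¹ ∈ c₁) ∧ ∀ x ∈ c₁, α x = x}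
  one_mem' := by
    refine ⟨fun x => ?_, fun x _ => ?_, fun x _ => rfl⟩
    · show x * x⁻¹ ∈ c₂
      simp [c₂.one_mem]
    · show x * x⁻¹ ∈ c₁
      simp [c₁.one_mem]
  mul_mem' := by
    rintro α β ⟨h1, h2, h3⟩ ⟨h4, h5, h6⟩
    have e : ∀ x, (α * β) x * x⁻¹ = (α (β x) * (β x)⁻¹) * (β x * x⁻¹) := by
      intro x
      show α (β x) * x⁻¹ = _
      rw [mul_assoc, inv_mul_cancel_left]
    refine ⟨fun x => ?_, fun x hx => ?_, fun x hx => ?_⟩
    · rw [e]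
      exact c₂.mul_mem (h1 _) (h4 _)
    · rw [e]
      have hb : β x ∈ c₂ := by
        have : β x = (β x * x⁻¹) * x := by simp
        rw [this]
        exact c₂.mul_mem (h (h5 x hx)) hx
      exact c₁.mul_mem (h2 _ hb) (h5 x hx)
    · show α (β x) = x
      rw [h6 x hx, h3 x hx]
  inv_mem' := by
    rintro α ⟨h1, h2, h3⟩
    have hz : ∀ x, α (α⁻¹ x) = x := fun x => by simp
    have e : ∀ x, α⁻¹ x * x⁻¹ = (α (α⁻¹ x) * (α⁻¹ x)⁻¹)⁻¹ := by
      intro x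
      rw [hz, mul_inv_rev, inv_inv]
    refine ⟨fun x => ?_, fun x hx => ?_, fun x hx => ?_⟩
    · rw [e]
      exact c₂.inv_mem (h1 _)
    · rw [e]
      apply c₁.inv_mem
      apply h2
      have h5 := h1 (α⁻¹ x)
      rw [hz] at h5
      have : α⁻¹ x = x * (x * (α⁻¹ x)⁻¹)⁻¹ := by
        rw [mul_inv_rev, inv_inv, mul_comm (α⁻¹ x), mul_inv_cancel_left]
      rw [this]
      exact c₂.mul_mem hx (c₂.inv_mem h5)
    · have := h3 x hx
      show α⁻¹ x = x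
      apply (MulEquiv.symm_apply_eq α).2
      exact this.symm

theorem K3_pgroup (hG : IsPGroup p G) (c₁ c₂ : Subgroup G) (h : c₁ ≤ c₂) : IsPGroup p (K3 c₁ c₂ h) := by
  apply isPGroup_of_coprime_one
  rintro α ⟨h1, h2, h3⟩ hco
  have e : ∀ x, α (x⁻¹ * α x) = x⁻¹ * α x → α x = x := fun x hx => aut_fix_step hG hco hx
  have hc : ∀ x, x⁻¹ * α x = α x * x⁻¹ := fun x => mul_comm _ _
  have h4 : ∀ x ∈ c₂, α x = x := by
    intro x hx
    apply e
    rw [hc]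
    exact h3 _ (h2 x hx)
  ext x
  apply e
  rw [hc]
  exact h4 _ (h1 x)

/-- The key lemma: a Sylow subgroup consisting of transvections and a distinct conjugate have
independent centres. -/
theorem pair (hG : IsPGroup p G) {A T : Subgroup (MulAut G)}
    (hmax : ∀ W : Subgroup (MulAut G), IsPGroup p W → W ≤ A → T ≤ W → W = T) (hTA : T ≤ A)
    {Zh : Subgroup G} {a : G} (ha : a ∈ Zh) (hTv : ∀ κ ∈ T, IsTv Zh a κ) {g : MulAut G} (hg : g ∈ A)
    (hgn : g ∉ Subgroup.normalizer (T : Set (MulAut G))) : a ∉ Zh.map g.toMonoidHom := by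
  classical
  intro hmem
  have hga : g⁻¹ a ∈ Zh := by
    obtain ⟨z, hz, e⟩ := hmem
    have e' : g z = a := e
    rw [← e']
    simpa using hz
  let c₁ := zpowers a
  let c₂ := zpowers a ⊔ zpowers (g a)
  have hle : c₁ ≤ c₂ := le_sup_left
  let W := K3 c₁ c₂ hle ⊓ A
  have hWp : IsPGroup p W := (K3_pgroup hG c₁ c₂ hle).to_le inf_le_left
  have hfixz : ∀ κ ∈ T, ∀ x ∈ c₁, κ x = x := by
    rintro κ hκ _ ⟨n, rfl⟩
    show κ (a ^ n) = a ^ n
    rw [map_zpow, (hTv κ hκ).1 a ha]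
  have hTW : T ≤ W := by
    intro κ hκ
    refine ⟨⟨fun x => hle ((hTv κ hκ).2 x), fun x _ => (hTv κ hκ).2 x, hfixz κ hκ⟩, hTA hκ⟩
  have he := hmax W hWp inf_le_right hTW
  apply hgn
  apply mem_normalizer_of_conj_le'
  intro κ hκ
  have hfix2 : ∀ x ∈ c₂, (g * κ * g⁻¹) x = x := by
    have h1 : (g * κ * g⁻¹) a = a := by
      show g (κ (g⁻¹ a)) = a
      rw [(hTv κ hκ).1 _ hga]
      simp
    have h2 : (g * κ * g⁻¹) (g a) = g a := by
      show g (κ (g⁻¹ (g a))) = g a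
      have : g⁻¹ (g a) = a := by simp
      rw [this, (hTv κ hκ).1 a ha]
    intro x hx
    obtain ⟨u, ⟨i, rfl⟩, v, ⟨j, rfl⟩, rfl⟩ := Subgroup.mem_sup.1 hx
    show (g * κ * g⁻¹) (a ^ i * (g a) ^ j) = a ^ i * (g a) ^ j
    rw [map_mul, map_zpow, map_zpow, h1, h2]
  have hconj : g * κ * g⁻¹ ∈ W := by
    refine ⟨⟨fun x => ?_, fun x hx => ?_, fun x hx => hfix2 x (hle hx)⟩, A.mul_mem (A.mul_mem hg (hTA hκ)) (A.inv_mem hg)⟩
    · have := ((hTv κ hκ).conj g).2 x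
      exact (le_sup_right : zpowers (g a) ≤ c₂) this
    · rw [hfix2 x hx, mul_inv_cancel]
      exact c₁.one_mem
  rw [he] at hconj
  exact hconj

/-- the version for the conjugate centre -/
theorem pair' (hG : IsPGroup p G) {A T : Subgroup (MulAut G)}
    (hmax : ∀ W : Subgroup (MulAut G), IsPGroup p W → W ≤ A → T ≤ W → W = T) (hTA : T ≤ A)
    {Zh : Subgroup G} {a : G} (ha : a ∈ Zh) (hTv : ∀ κ ∈ T, IsTv Zh a κ) {g : MulAut G} (hg : g ∈ A)
    (hgn : g ∉ Subgroup.normalizer (T : Set (MulAut G))) : g a ∉ Zh := by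
  intro h
  apply pair hG hmax hTA ha hTv (A.inv_mem hg) (fun hn => hgn (by simpa using Subgroup.inv_mem _ hn))
  exact ⟨g a, h, by simp⟩

theorem top_eq_sup {Zh : Subgroup G} (hidx : Zh.index = p) {b : G} (hb : b ∉ Zh) (y : G) :
    ∃ z ∈ Zh, ∃ j : ℤ, y = z * b ^ j := by
  have hP : p.Prime := Fact.out
  have h1 : (⊤ : Subgroup G) = Zh ⊔ zpowers b := by
    have hXpos : 0 < Nat.card Zh := Nat.card_pos
    have hc : Nat.card (⊤ : Subgroup G) = p * Nat.card Zh := by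
      rw [Subgroup.card_top, ← Subgroup.card_mul_index Zh, hidx, mul_comm]
    have h2 : Nat.card Zh ∣ Nat.card (Zh ⊔ zpowers b : Subgroup G) := Subgroup.card_dvd_of_le le_sup_left
    have h3 : Nat.card (Zh ⊔ zpowers b : Subgroup G) ∣ p * Nat.card Zh := hc ▸ Subgroup.card_dvd_of_le le_top
    obtain ⟨d, hd⟩ := h2
    rw [hd, mul_comm] at h3
    have h4 : d ∣ p := Nat.dvd_of_mul_dvd_mul_right hXpos h3
    rcases (Nat.dvd_prime hP).1 h4 with rfl | rfl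
    · exfalso
      have h5 : Zh = Zh ⊔ zpowers b := Subgroup.eq_of_le_of_card_ge le_sup_left (by rw [hd, mul_one])
      apply hb
      rw [h5]
      exact Subgroup.mem_sup_right (Subgroup.mem_zpowers b)
    · exact (Subgroup.eq_of_le_of_card_ge le_top (by rw [hd, hc, mul_comm])).symm
  have h2 : y ∈ Zh ⊔ zpowers b := by
    rw [← h1]
    trivial
  obtain ⟨z, hz, _, ⟨j, rfl⟩, rfl⟩ := Subgroup.mem_sup.1 h2
  exact ⟨z, hz, j, rfl⟩

/-- The decomposition `G = ⟨a⟩ ⟨b⟩ (Zh ∩ Zh')`. -/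
theorem decomp {Zh Zh' : Subgroup G} (hi : Zh.index = p) (hi' : Zh'.index = p) {a b : G} (ha : a ∈ Zh) (ha' : a ∉ Zh') (hb : b ∉ Zh) (y : G) :
    ∃ (i j : ℤ), ∃ u ∈ Zh ⊓ Zh', y = a ^ i * b ^ j * u := by
  obtain ⟨z, hz, j, e⟩ := top_eq_sup hi hb y
  obtain ⟨u, hu, i, e'⟩ := top_eq_sup hi' ha' z
  refine ⟨i, j, u, ⟨?_, hu⟩, ?_⟩
  · have : u = z * (a ^ i)⁻¹ := by rw [e']; simp
    rw [this]
    exact Zh.mul_mem hz (Zh.inv_mem (Zh.zpow_mem ha i))
  · rw [e, e']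
    simp only [mul_assoc, mul_left_comm, mul_comm]

/-- two automorphisms agreeing on `a`, `b` and `Zh ∩ Zh'` agree -/
theorem aut_ext {Zh Zh' : Subgroup G} (hi : Zh.index = p) (hi' : Zh'.index = p) {a b : G} (ha : a ∈ Zh) (ha' : a ∉ Zh') (hb : b ∉ Zh)
    {α β : MulAut G} (h1 : α a = β a) (h2 : α b = β b) (h3 : ∀ u ∈ Zh ⊓ Zh', α u = β u) : α = β := by
  ext y
  obtain ⟨i, j, u, hu, rfl⟩ := decomp hi hi' ha ha' hb y
  rw [map_mul, map_mul, map_zpow, map_zpow, h1, h2, h3 u hu, map_mul, map_mul, map_zpow, map_zpow]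

theorem index_map_aut (Zh : Subgroup G) (g : MulAut G) : (Zh.map g.toMonoidHom).index = Zh.index := by
  have h1 := Subgroup.card_mul_index Zh
  have h2 := Subgroup.card_mul_index (Zh.map g.toMonoidHom)
  rw [Subgroup.card_map_of_injective g.injective] at h2
  rw [← h1] at h2
  exact Nat.eq_of_mul_eq_mul_left Nat.card_pos h2

/-- coordinates of a nontrivial transvection -/
theorem tv_coord {Zh : Subgroup G} (hi : Zh.index = p) {a b : G} (ha1 : a ^ p = 1) {τ : MulAut G} (hτ : IsTv Zh a τ) (hτ1 : τ ≠ 1) (hb : b ∉ Zh) :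
    ∃ u : ℤ, τ b = a ^ u * b ∧ ¬ (p : ℤ) ∣ u := by
  obtain ⟨u, hu⟩ := hτ.2 b
  have hu' : a ^ u = τ b * b⁻¹ := hu
  refine ⟨u, by rw [hu', inv_mul_cancel_right], fun hd => hτ1 ?_⟩
  obtain ⟨c, rfl⟩ := hd
  rw [zpow_mul, zpow_natCast, ha1, one_zpow] at hu'
  have hb1 : τ b = b := (mul_inv_eq_one.1 hu'.symm)
  ext y
  obtain ⟨z, hz, j, rfl⟩ := top_eq_sup hi hb y
  show τ (z * b ^ j) = z * b ^ j
  rw [map_mul, map_zpow, hb1, hτ.1 z hz]

theorem zpow_eq_one_of_dvd {a : G} (ha1 : a ^ p = 1) {u : ℤ} (h : (p : ℤ) ∣ u) : a ^ u = 1 := by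
  obtain ⟨c, rfl⟩ := h
  rw [zpow_mul, zpow_natCast, ha1, one_zpow]

section data

variable (hG : IsPGroup p G) {A T : Subgroup (MulAut G)}
    (hmax : ∀ W : Subgroup (MulAut G), IsPGroup p W → W ≤ A → T ≤ W → W = T) (hTA : T ≤ A)
    {Zh : Subgroup G} (hi : Zh.index = p) {a : G} (ha : a ∈ Zh) (ha1 : a ^ p = 1) (hTv : ∀ κ ∈ T, IsTv Zh a κ)
    {τ : MulAut G} (hτT : τ ∈ T) (hτ1 : τ ≠ 1) {g : MulAut G} (hg : g ∈ A)
    (hgn : g ∉ Subgroup.normalizer (T : Set (MulAut G)))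

include hG hmax hTA hi ha ha1 hTv hτT hτ1 hg hgn

/-- the element `t` acting as `-1` on `⟨a, g a⟩`, for odd `p` -/
theorem exists_t (hp2 : p ≠ 2) :
    ∃ t ∈ A, t a = a⁻¹ ∧ t (g a) = (g a)⁻¹ ∧ (∀ u ∈ Zh ⊓ Zh.map g.toMonoidHom, t u = u) ∧ ∀ κ ∈ T, t * κ = κ * t := by
  have hP : p.Prime := Fact.out
  set b := g a with hb
  set Zh' := Zh.map g.toMonoidHom with hZh'
  have hb1 : b ^ p = 1 := by rw [hb, ← map_pow, ha1, map_one]
  have hi' : Zh'.index = p := by rw [hZh', index_map_aut, hi]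
  have hab : a ∉ Zh' := pair hG hmax hTA ha hTv hg hgn
  have hba : b ∉ Zh := pair' hG hmax hTA ha hTv hg hgn
  have hbZ' : b ∈ Zh' := ⟨a, ha, rfl⟩
  have hTv' : IsTv Zh' b (g * τ * g⁻¹) := (hTv τ hτT).conj g
  have hτ'1 : g * τ * g⁻¹ ≠ 1 := by
    intro h
    apply hτ1
    have := congrArg (fun x => g⁻¹ * x * g) h
    simpa [mul_assoc] using this
  obtain ⟨u, hu, hud⟩ := tv_coord hi ha1 (hTv τ hτT) hτ1 hba
  obtain ⟨v, hv, hvd⟩ := tv_coord hi' hb1 hTv' hτ'1 hab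
  set τ' := g * τ * g⁻¹ with hτ'
  have hτ'A : τ' ∈ A := A.mul_mem (A.mul_mem hg (hTA hτT)) (A.inv_mem hg)
  have hτa : τ a = a := (hTv τ hτT).1 a ha
  have hτ'b : τ' b = b := hTv'.1 b hbZ'
  have hu0 : (u : ZMod p) ≠ 0 := fun h => hud ((ZMod.intCast_zmod_eq_zero_iff_dvd u p).1 h)
  have hv0 : (v : ZMod p) ≠ 0 := fun h => hvd ((ZMod.intCast_zmod_eq_zero_iff_dvd v p).1 h)
  let e : ℕ := (-((u : ZMod p) * (v : ZMod p))⁻¹).val
  have he : ((u * (v * e) + 1 : ℤ) : ZMod p) = 0 := by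
    push_cast
    have h1 : ((e : ℕ) : ZMod p) = -((u : ZMod p) * (v : ZMod p))⁻¹ := ZMod.natCast_zmod_val _
    rw [h1]
    field_simp
    ring
  have hdvd : (p : ℤ) ∣ u * (v * e) + 1 := (ZMod.intCast_zmod_eq_zero_iff_dvd _ p).1 he
  set v₁ : ℤ := v * e with hv₁
  have Ha : a ^ (u * v₁) * a = 1 := by
    rw [← zpow_add_one]
    exact zpow_eq_one_of_dvd ha1 hdvd
  have Hb : b ^ (v₁ * u) * b = 1 := by
    rw [← zpow_add_one, mul_comm]
    exact zpow_eq_one_of_dvd hb1 hdvd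
  have hτ''pow : ∀ n : ℕ, (τ' ^ n) a = b ^ (v * n) * a := by
    intro n
    induction n with
    | zero => simp
    | succ n ih =>
      have e1 : (τ' ^ (n + 1)) a = τ' ((τ' ^ n) a) := by rw [pow_succ']; rfl
      rw [e1, ih, map_mul, map_zpow, hτ'b, hv, ← mul_assoc, ← zpow_add]
      congr 2
      push_cast
      ring
  set τ'' := τ' ^ e with hτ''
  have E3 : τ'' a = b ^ v₁ * a := hτ''pow e
  have hfix'' : ∀ z ∈ Zh', τ'' z = z := by
    intro z hz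
    have : ∀ n : ℕ, (τ' ^ n) z = z := by
      intro n
      induction n with
      | zero => rfl
      | succ n ih =>
        have e1 : (τ' ^ (n + 1)) z = τ' ((τ' ^ n) z) := by rw [pow_succ']; rfl
        rw [e1, ih, hTv'.1 z hz]
    exact this e
  have E4 : τ'' b = b := hfix'' b hbZ'
  have hτ''A : τ'' ∈ A := A.pow_mem hτ'A e
  let w : MulAut G := τ * τ'' * τ
  have hwA : w ∈ A := A.mul_mem (A.mul_mem (hTA hτT) hτ''A) (hTA hτT)
  have hwa : w a = b ^ v₁ := by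
    show τ (τ'' (τ a)) = _
    rw [hτa, E3, map_mul, map_zpow, hu, hτa, mul_zpow, ← zpow_mul, mul_right_comm, Ha, one_mul]
  have hwb : w b = a ^ u := by
    show τ (τ'' (τ b)) = _
    rw [hu, map_mul, map_zpow, E3, E4, mul_zpow, ← zpow_mul, mul_right_comm, Hb, one_mul, map_zpow, hτa]
  refine ⟨w * w, A.mul_mem hwA hwA, ?_, ?_, ?_, ?_⟩
  · show w (w a) = a⁻¹
    rw [hwa, map_zpow, hwb, ← zpow_mul]
    exact eq_inv_of_mul_eq_one_left Ha
  · show w (w b) = b⁻¹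
    rw [hwb, map_zpow, hwa, ← zpow_mul]
    exact eq_inv_of_mul_eq_one_left Hb
  · rintro y ⟨hy1, hy2⟩
    have h1 : τ y = y := (hTv τ hτT).1 y hy1
    have h2 : τ'' y = y := hfix'' y hy2
    have h3 : w y = y := by
      show τ (τ'' (τ y)) = y
      rw [h1, h2, h1]
    show w (w y) = y
    rw [h3, h3]
  · intro κ hκ
    have hκa : κ a = a := (hTv κ hκ).1 a ha
    obtain ⟨k, hk⟩ := (hTv κ hκ).2 b
    have hk' : κ b = a ^ k * b := by
      have : a ^ k = κ b * b⁻¹ := hk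
      rw [this, inv_mul_cancel_right]
    have hta : (w * w) a = a⁻¹ := by
      show w (w a) = a⁻¹
      rw [hwa, map_zpow, hwb, ← zpow_mul]
      exact eq_inv_of_mul_eq_one_left Ha
    have htb : (w * w) b = b⁻¹ := by
      show w (w b) = b⁻¹
      rw [hwb, map_zpow, hwa, ← zpow_mul]
      exact eq_inv_of_mul_eq_one_left Hb
    apply aut_ext hi hi' ha hab hba
    · show (w * w) (κ a) = κ ((w * w) a)
      rw [hκa, hta, map_inv, hκa]
    · show (w * w) (κ b) = κ ((w * w) b)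
      rw [hk', map_mul, map_zpow, hta, htb, map_inv, hk', inv_zpow, mul_inv_rev, mul_comm]
    · rintro y ⟨hy1, hy2⟩
      have h1 : τ y = y := (hTv τ hτT).1 y hy1
      have h2 : τ'' y = y := hfix'' y hy2
      have h3 : w y = y := by
        show τ (τ'' (τ y)) = y
        rw [h1, h2, h1]
      show (w * w) (κ y) = κ ((w * w) y)
      have h4 : κ y = y := (hTv κ hκ).1 y hy1
      have h5 : (w * w) y = y := by
        show w (w y) = y
        rw [h3, h3]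
      rw [h4, h5, h4]

/-- the structure for `p = 2`: exactly three Sylow subgroups -/
theorem three_syl (hp2 : p = 2) {h : MulAut G} (hh : h ∈ A) :
    h ∈ Subgroup.normalizer (T : Set (MulAut G)) ∨ g⁻¹ * h ∈ Subgroup.normalizer (T : Set (MulAut G)) ∨
      (τ * g)⁻¹ * h ∈ Subgroup.normalizer (T : Set (MulAut G)) := by
  by_contra hall
  push_neg at hall
  obtain ⟨h1, h2, h3⟩ := hall
  have hba : g a ∉ Zh := pair' hG hmax hTA ha hTv hg hgn
  obtain ⟨u, hu, hud⟩ := tv_coord hi ha1 (hTv τ hτT) hτ1 hba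
  have hau : a ^ u = a := by
    subst hp2
    have hodd : Odd u := by
      rw [← Int.not_even_iff_odd, even_iff_two_dvd]
      exact_mod_cast hud
    obtain ⟨c, rfl⟩ := hodd
    rw [zpow_add_one, zpow_mul, zpow_ofNat, ha1, one_zpow, one_mul]
  rw [hau] at hu
  have hH : (Zh.map h.toMonoidHom).index = 2 := by
    rw [index_map_aut, hi, hp2]
  have e1 : a ∉ Zh.map h.toMonoidHom := pair hG hmax hTA ha hTv hh h1
  have e2 : g a ∉ Zh.map h.toMonoidHom := by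
    intro hm
    obtain ⟨z, hz, e⟩ := hm
    have e' : h z = g a := e
    apply pair hG hmax hTA ha hTv (A.mul_mem (A.inv_mem hg) hh) h2
    refine ⟨z, hz, ?_⟩
    show g⁻¹ (h z) = a
    rw [e']
    simp
  have e3 : a * g a ∉ Zh.map h.toMonoidHom := by
    intro hm
    obtain ⟨z, hz, e⟩ := hm
    have e' : h z = a * g a := e
    apply pair hG hmax hTA ha hTv (A.mul_mem (A.inv_mem (A.mul_mem (hTA hτT) hg)) hh) h3
    refine ⟨z, hz, ?_⟩
    show (τ * g)⁻¹ (h z) = a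
    rw [e', ← hu]
    apply (MulEquiv.symm_apply_eq (τ * g)).2
    rfl
  have := (Subgroup.mul_mem_iff_of_index_two hH (a := a) (b := g a)).2
  apply e3
  apply this
  exact ⟨fun h => absurd h e1, fun h => absurd h e2⟩

/-- representatives for the normalizer of `T` for `p = 2` -/
theorem rep2 (hp2 : p = 2) (hTτ : ∀ κ ∈ T, κ = 1 ∨ κ = τ) :
    ∀ h ∈ A, ∃ κ₀ n : MulAut G, h = κ₀ * n ∧ n ∈ A ∧ n ∈ Subgroup.normalizer (T : Set (MulAut G)) ∧
      (∀ u ∈ Zh ⊓ Zh.map g.toMonoidHom, κ₀ u = u) ∧ (∀ y, κ₀ y * y⁻¹ ∈ zpowers a ⊔ zpowers (g a)) ∧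
      κ₀ ∈ A ∧ (h ∉ Subgroup.normalizer (T : Set (MulAut G)) → κ₀ a = g a ∨ κ₀ a = a * g a) := by
  have hP : p.Prime := Fact.out
  set b := g a with hb
  set Zh' := Zh.map g.toMonoidHom with hZh'
  have hb1 : b ^ p = 1 := by rw [hb, ← map_pow, ha1, map_one]
  have hi' : Zh'.index = p := by rw [hZh', index_map_aut, hi]
  have hab : a ∉ Zh' := pair hG hmax hTA ha hTv hg hgn
  have hba : b ∉ Zh := pair' hG hmax hTA ha hTv hg hgn
  have hbZ' : b ∈ Zh' := ⟨a, ha, rfl⟩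
  have hTv' : IsTv Zh' b (g * τ * g⁻¹) := (hTv τ hτT).conj g
  have hτ'1 : g * τ * g⁻¹ ≠ 1 := by
    intro h
    apply hτ1
    have := congrArg (fun x => g⁻¹ * x * g) h
    simpa [mul_assoc] using this
  obtain ⟨u, hu, hud⟩ := tv_coord hi ha1 (hTv τ hτT) hτ1 hba
  obtain ⟨v, hv, hvd⟩ := tv_coord hi' hb1 hTv' hτ'1 hab
  set τ' := g * τ * g⁻¹ with hτ'
  have hodd : ∀ {c : G} {w : ℤ}, c ^ p = 1 → ¬ (p : ℤ) ∣ w → c ^ w = c := by
    intro c w hc hw
    subst hp2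
    have hodd : Odd w := by
      rw [← Int.not_even_iff_odd, even_iff_two_dvd]
      exact_mod_cast hw
    obtain ⟨d, rfl⟩ := hodd
    rw [zpow_add_one, zpow_mul, zpow_ofNat, hc, one_zpow, one_mul]
  rw [hodd ha1 hud] at hu
  rw [hodd hb1 hvd] at hv
  have ha2 : a * a = 1 := by rw [← pow_two, ← hp2, ha1]
  have hb2 : b * b = 1 := by rw [← pow_two, ← hp2, hb1]
  have hτa : τ a = a := (hTv τ hτT).1 a ha
  have hτ'b : τ' b = b := hTv'.1 b hbZ'
  let ρ : MulAut G := τ * τ'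
  have hτ'A : τ' ∈ A := A.mul_mem (A.mul_mem hg (hTA hτT)) (A.inv_mem hg)
  have hρA : ρ ∈ A := A.mul_mem (hTA hτT) hτ'A
  have hρa : ρ a = b := by
    show τ (τ' a) = b
    rw [hv, map_mul, hu, hτa, mul_comm a b, mul_assoc, ha2, mul_one]
  have hρb : ρ b = a * b := by
    show τ (τ' b) = _
    rw [hτ'b, hu]
  have hconj : ρ * τ = τ' * ρ := by
    apply aut_ext hi hi' ha hab hba
    · show ρ (τ a) = τ' (ρ a)
      rw [hτa, hρa, hτ'b]
    · show ρ (τ b) = τ' (ρ b)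
      rw [hu, map_mul, hρa, hρb, map_mul, hv, hτ'b, mul_left_comm, mul_assoc, hb2, mul_one, mul_comm, mul_assoc, hb2, mul_one]
    · rintro y ⟨hy1, hy2⟩
      have h1 : τ y = y := (hTv τ hτT).1 y hy1
      have h2 : τ' y = y := hTv'.1 y hy2
      show ρ (τ y) = τ' (ρ y)
      have h3 : ρ y = y := by
        show τ (τ' y) = y
        rw [h2, h1]
      rw [h1, h3, h2]
  -- `ρ⁻¹ g` normalizes `T`
  have hn₀ : ρ⁻¹ * g ∈ Subgroup.normalizer (T : Set (MulAut G)) := by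
    apply mem_normalizer_of_conj_le'
    intro κ hκ
    rcases hTτ κ hκ with rfl | rfl
    · simp [T.one_mem]
    · have : ρ⁻¹ * g * κ * (ρ⁻¹ * g)⁻¹ = κ := by
        have h1 : g * κ * g⁻¹ = τ' := rfl
        have h2 : ρ⁻¹ * τ' * ρ = κ := by
          rw [mul_assoc, ← hconj]
          simp
        calc ρ⁻¹ * g * κ * (ρ⁻¹ * g)⁻¹ = ρ⁻¹ * (g * κ * g⁻¹) * ρ := by group
          _ = ρ⁻¹ * τ' * ρ := rfl
          _ = κ := h2
      rw [this]
      exact hκ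
  have hκ₁ : ∀ y, ρ y * y⁻¹ ∈ zpowers a ⊔ zpowers b := by
    intro y
    have e : ρ y * y⁻¹ = (τ (τ' y) * (τ' y)⁻¹) * (τ' y * y⁻¹) := by
      show τ (τ' y) * y⁻¹ = _
      rw [mul_assoc, inv_mul_cancel_left]
    rw [e]
    exact Subgroup.mul_mem _ (Subgroup.mem_sup_left ((hTv τ hτT).2 _)) (Subgroup.mem_sup_right (hTv'.2 y))
  have hfixρ : ∀ y ∈ Zh ⊓ Zh', ρ y = y := by
    rintro y ⟨hy1, hy2⟩
    show τ (τ' y) = y
    rw [hTv'.1 y hy2, (hTv τ hτT).1 y hy1]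
  intro h hh
  rcases three_syl hG hmax hTA hi ha ha1 hTv hτT hτ1 hg hgn hp2 hh with h1 | h2 | h3
  · refine ⟨1, h, by simp, hh, h1, fun _ _ => rfl, fun y => ?_, A.one_mem, fun hn => absurd h1 hn⟩
    show y * y⁻¹ ∈ _
    rw [mul_inv_cancel]
    exact Subgroup.one_mem _
  · refine ⟨ρ, ρ⁻¹ * g * (g⁻¹ * h), ?_, ?_, Subgroup.mul_mem _ hn₀ h2, hfixρ, hκ₁, hρA, fun _ => Or.inl hρa⟩
    · group
    · exact A.mul_mem (A.mul_mem (A.inv_mem hρA) hg) (A.mul_mem (A.inv_mem hg) hh)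
  · refine ⟨τ * ρ, ρ⁻¹ * g * ((τ * g)⁻¹ * h), ?_, ?_, Subgroup.mul_mem _ hn₀ h3, ?_, ?_, A.mul_mem (hTA hτT) hρA, fun _ => Or.inr ?_⟩
    · group
    · exact A.mul_mem (A.mul_mem (A.inv_mem hρA) hg) (A.mul_mem (A.inv_mem (A.mul_mem (hTA hτT) hg)) hh)
    · intro y hy
      show τ (ρ y) = y
      rw [hfixρ y hy, (hTv τ hτT).1 y hy.1]
    · intro y
      have e : (τ * ρ) y * y⁻¹ = (τ (ρ y) * (ρ y)⁻¹) * (ρ y * y⁻¹) := by
        show τ (ρ y) * y⁻¹ = _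
        rw [mul_assoc, inv_mul_cancel_left]
      rw [e]
      exact Subgroup.mul_mem _ (Subgroup.mem_sup_left ((hTv τ hτT).2 _)) (hκ₁ y)
    · show τ (ρ a) = a * b
      rw [hρa, hu]

end data

end Cfsg.Agent.Lib.FusTransv
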