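import Mathlib
import Cfsg.Agent.Lib.FusNorm
import Cfsg.Agent.Lib.H1Frat
import Cfsg.Agent.Lib.FusGroup

/-! Automorphisms acting on cyclic sections; chains of invariant subgroups with cyclic steps. -/

set_option autoImplicit false
set_option linter.unusedSectionVars false
set_option linter.unusedVariables false

namespace Cfsg.Agent.Lib.FusSuper

open Cfsg Polynomial

section eigen

theorem eigen_mod {W : Type*} [AddCommGroup W] {p : ℕ} [Fact p.Prime] [Module (ZMod p) W] [Finite W] [Nontrivial W]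
    (F : Module.End (ZMod p) W) (hF1 : F ^ (p - 1) = 1) : ∃ (r : ZMod p) (v : W), v ≠ 0 ∧ F v = r • v := by
  have hp : p.Prime := Fact.out
  have hFp : F ^ p - F = 0 := by
    have h1 : F ^ p = F ^ (p - 1) * F := by
      rw [← pow_succ, Nat.sub_add_cancel hp.one_lt.le]
    rw [h1, hF1, one_mul, sub_self]
  haveI : FiniteDimensional (ZMod p) W := Module.Finite.of_finite
  have hann : aeval F (X ^ p - X : (ZMod p)[X]) = 0 := by
    simp only [map_sub, map_pow, aeval_X]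
    exact hFp
  have hdvd := minpoly.dvd (ZMod p) F hann
  have hne : (X ^ p - X : (ZMod p)[X]) ≠ 0 := FiniteField.X_pow_card_sub_X_ne_zero (ZMod p) hp.one_lt
  have hsp : (minpoly (ZMod p) F).Splits := (GaloisField.splits_zmod_X_pow_sub_X p).of_dvd hne hdvd
  have hint : IsIntegral (ZMod p) F := Algebra.IsIntegral.isIntegral F
  have hdeg : (minpoly (ZMod p) F).degree ≠ 0 := (minpoly.degree_pos hint).ne'
  obtain ⟨r, hr⟩ := hsp.exists_eval_eq_zero hdeg
  have hev : Module.End.HasEigenvalue F r := Module.End.hasEigenvalue_of_isRoot hr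
  obtain ⟨v, hv⟩ := hev.exists_hasEigenvector
  exact ⟨r, v, hv.2, hv.apply_eq_smul⟩

theorem eigen_add' {W : Type*} [AddCommGroup W] [Finite W] [Nontrivial W] {p : ℕ} [Fact p.Prime] [Module (ZMod p) W]
    (f : W →+ W) (hf : ∀ v : W, f^[p - 1] v = v) :
    ∃ (n : ℕ) (v : W), v ≠ 0 ∧ f v = n • v := by
  let F : Module.End (ZMod p) W := f.toZModLinearMap p
  have hFit : ∀ (k : ℕ) (x : W), (F ^ k) x = f^[k] x := by
    intro k x
    rw [Module.End.pow_apply]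
    rfl
  have hF1 : F ^ (p - 1) = 1 := by
    apply LinearMap.ext
    intro x
    rw [hFit, hf]
    rfl
  obtain ⟨r, v, hv, h1⟩ := eigen_mod F hF1
  refine ⟨r.val, v, hv, ?_⟩
  have h2 : r • v = r.val • v := by
    rw [← Nat.cast_smul_eq_nsmul (ZMod p) r.val v, ZMod.natCast_zmod_val]
  rw [h2] at h1
  exact h1

theorem eigen_add {W : Type*} [AddCommGroup W] [Finite W] [Nontrivial W] {p : ℕ} [Fact p.Prime]
    (hexp : ∀ v : W, p • v = 0) (f : W →+ W) (hf : ∀ v : W, f^[p - 1] v = v) :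
    ∃ (n : ℕ) (v : W), v ≠ 0 ∧ f v = n • v :=
  @eigen_add' W _ _ _ p _ (AddCommGroup.zmodModule hexp) f hf

theorem eigen_comm {V : Type*} [CommGroup V] [Finite V] [Nontrivial V] {p : ℕ} [Fact p.Prime]
    (hexp : ∀ v : V, v ^ p = 1) (f : V →* V) (hf : ∀ v : V, f^[p - 1] v = v) :
    ∃ (n : ℕ) (v : V), v ≠ 1 ∧ f v = v ^ n := by
  haveI : Finite (Additive V) := inferInstanceAs (Finite V)
  haveI : Nontrivial (Additive V) := inferInstanceAs (Nontrivial V)
  obtain ⟨n, v, hv, h1⟩ := eigen_add (W := Additive V) (p := p)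
    (fun v => by
      show Additive.ofMul ((Additive.toMul v) ^ p) = 0
      rw [hexp]
      rfl)
    (MonoidHom.toAdditive f)
    (fun v => by
      have : ∀ k : ℕ, ∀ x : Additive V, (MonoidHom.toAdditive f)^[k] x = Additive.ofMul (f^[k] (Additive.toMul x)) := by
        intro k x
        induction k with
        | zero => rfl
        | succ k ih =>
          rw [Function.iterate_succ_apply', Function.iterate_succ_apply', ih]
          rfl
      rw [this, hf]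
      rfl)
  exact ⟨n, Additive.toMul v, hv, h1⟩

/-- an endomorphism of an elementary abelian group with `f^(p-1) = 1` has an eigenvector -/
theorem eigen_group {V : Type*} [Group V] [Finite V] [Nontrivial V] {p : ℕ} [Fact p.Prime]
    (hc : ∀ a b : V, a * b = b * a) (hexp : ∀ v : V, v ^ p = 1) (f : V →* V) (hf : ∀ v : V, f^[p - 1] v = v) :
    ∃ (n : ℕ) (v : V), v ≠ 1 ∧ f v = v ^ n := by
  letI : CommGroup V := { (inferInstance : Group V) with mul_comm := hc }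
  exact eigen_comm hexp f hf

/-- a power map of finite `p`-power order and order prime to `p` has order dividing `p - 1` -/
theorem exp_lemma {Y : Type*} [Group Y] {p : ℕ} [Fact p.Prime] {y : Y} {b : ℕ} (hy : orderOf y = p ^ b) {m d : ℕ}
    (hd : d.Coprime p) (h : y ^ (m ^ d) = y) : y ^ (m ^ (p - 1)) = y := by
  have hp : p.Prime := Fact.out
  rcases Nat.eq_zero_or_pos b with rfl | hb
  · have : y = 1 := by
      rw [pow_zero] at hy
      exact orderOf_eq_one_iff.1 hy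
    rw [this, one_pow]
  have hd0 : d ≠ 0 := by
    rintro rfl
    have : p = 1 := by simpa using hd
    exact hp.one_lt.ne' this
  haveI : NeZero (p ^ b) := ⟨pow_ne_zero _ hp.ne_zero⟩
  have h1 : (m ^ d) ≡ 1 [MOD p ^ b] := by
    rw [← hy]
    apply (pow_eq_pow_iff_modEq).1
    rw [h, pow_one]
  have h2 : ((m : ZMod (p ^ b))) ^ d = 1 := by
    have := (ZMod.natCast_eq_natCast_iff _ _ _).2 h1
    simpa using this
  have hu : IsUnit (m : ZMod (p ^ b)) := IsUnit.of_pow_eq_one h2 hd0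
  obtain ⟨u, hu⟩ := hu
  have h3 : u ^ d = 1 := by
    apply Units.ext
    rw [Units.val_pow_eq_pow_val, hu, h2]
    rfl
  have h4 : u ^ (Nat.totient (p ^ b)) = 1 := by
    have := ZMod.pow_totient u
    exact this
  have h5 : u ^ (d.gcd (Nat.totient (p ^ b))) = 1 := pow_gcd_eq_one.2 ⟨h3, h4⟩
  have h6 : d.gcd (Nat.totient (p ^ b)) ∣ p - 1 := by
    rw [Nat.totient_prime_pow hp hb]
    have h7 : d.Coprime (p ^ (b - 1)) := hd.pow_right _
    rw [Nat.Coprime.gcd_mul_left_cancel_right _ h7.symm]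
    exact Nat.gcd_dvd_right _ _
  have h8 : u ^ (p - 1) = 1 := by
    obtain ⟨c, hc⟩ := h6
    rw [hc, pow_mul, h5, one_pow]
  have h9 : ((m : ZMod (p ^ b))) ^ (p - 1) = 1 := by
    rw [← hu, ← Units.val_pow_eq_pow_val, h8]
    rfl
  have h10 : (m ^ (p - 1)) ≡ 1 [MOD p ^ b] := by
    apply (ZMod.natCast_eq_natCast_iff _ _ _).1
    simpa using h9
  have h11 : y ^ (m ^ (p - 1)) = y ^ 1 := by
    apply (pow_eq_pow_iff_modEq).2
    rw [hy]
    exact h10
  rw [h11, pow_one]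

end eigen

section step

variable {G : Type*} [Group G] [Finite G] {p : ℕ} [Fact p.Prime]

/-- invariance of a subgroup under a group of automorphisms -/
def Inv (A : Subgroup (MulAut G)) (U : Subgroup G) : Prop := ∀ a ∈ A, ∀ x ∈ U, a x ∈ U

theorem step (hG : IsPGroup p G) {A H : Subgroup (MulAut G)} (hInn : Inn G ≤ A) (hHA : H ≤ A)
    (hAH : ∀ a ∈ A, ∃ g : G, ∃ h ∈ H, a = MulAut.conj g * h)
    (hcomm : ∀ h ∈ H, ∀ k ∈ H, h * k = k * h) (hexp : ∀ h ∈ H, h ^ (p - 1) = 1) {c : Subgroup G} (hc : Inv A c) (hne : c ≠ ⊤) :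
    ∃ (W : Subgroup G) (x : G), c < W ∧ Inv A W ∧ W = c ⊔ Subgroup.zpowers x := by
  have hp : p.Prime := Fact.out
  haveI hcn : c.Normal := ⟨fun n hn g => hc _ (hInn ⟨g, rfl⟩) n hn⟩
  let π : G →* G ⧸ c := QuotientGroup.mk' c
  have hπ : Function.Surjective π := QuotientGroup.mk'_surjective c
  have hπ1 : ∀ x, π x = 1 ↔ x ∈ c := fun x => QuotientGroup.eq_one_iff x
  have hcomap : ∀ a ∈ A, c ≤ c.comap (a : MulAut G).toMonoidHom := fun a ha x hx => hc a ha x hx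
  let bar : A → (G ⧸ c →* G ⧸ c) := fun a => QuotientGroup.map c c (a : MulAut G).toMonoidHom (hcomap a.1 a.2)
  have hbar : ∀ (a : A) (x : G), bar a (π x) = π ((a : MulAut G) x) := fun a x => rfl
  have hbar_mul : ∀ (a b : A) (y : G ⧸ c), bar (a * b) y = bar a (bar b y) := by
    intro a b y
    obtain ⟨x, rfl⟩ := hπ y
    rfl
  have hbar_one : ∀ y : G ⧸ c, bar 1 y = y := by
    intro y
    obtain ⟨x, rfl⟩ := hπ y
    rfl
  haveI : Nontrivial (G ⧸ c) := by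
    obtain ⟨x, hx⟩ : ∃ x, x ∉ c := by
      by_contra h
      push_neg at h
      exact hne (Subgroup.eq_top_iff' c |>.2 h)
    exact ⟨⟨π x, 1, fun h => hx ((hπ1 x).1 h)⟩⟩
  have hYp : IsPGroup p (G ⧸ c) := hG.of_surjective π hπ
  haveI : Finite (Subgroup (G ⧸ c)) := Finite.of_injective (fun K : Subgroup (G ⧸ c) => (K : Set (G ⧸ c))) SetLike.coe_injective
  let InvY : Subgroup (G ⧸ c) → Prop := fun V => ∀ a : A, ∀ v ∈ V, bar a v ∈ V
  obtain ⟨V, ⟨hV1, hV2⟩, hVmin⟩ := (Set.toFinite {V : Subgroup (G ⧸ c) | V ≠ ⊥ ∧ InvY V}).exists_minimal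
    ⟨⊤, top_ne_bot, fun a v _ => Subgroup.mem_top _⟩
  have hmin : ∀ U : Subgroup (G ⧸ c), U ≤ V → U ≠ ⊥ → InvY U → U = V :=
    fun U hUV h1 h2 => le_antisymm hUV (hVmin ⟨h1, h2⟩ hUV)
  haveI hVn : V.Normal := by
    constructor
    intro v hv y
    obtain ⟨g, rfl⟩ := hπ y
    obtain ⟨x, rfl⟩ := hπ v
    have := hV2 ⟨MulAut.conj g, hInn ⟨g, rfl⟩⟩ (π x) hv
    rw [hbar] at this
    have e : π ((MulAut.conj g) x) = π g * π x * (π g)⁻¹ := by
      rw [MulAut.conj_apply, map_mul, map_mul, map_inv]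
    rwa [e] at this
  haveI : Group.IsNilpotent (G ⧸ c) := hYp.isNilpotent
  have hcen : V ≤ Subgroup.center (G ⧸ c) := by
    have h1 : V ⊓ Subgroup.center (G ⧸ c) ≠ ⊥ := Cfsg.Agent.Lib.H1Frat.normal_inf_center_ne_bot V hV1
    have h2 : InvY (V ⊓ Subgroup.center (G ⧸ c)) := by
      rintro a v ⟨hv1, hv2⟩
      refine ⟨hV2 a v hv1, Subgroup.mem_center_iff.2 fun y => ?_⟩
      have h3 : y = bar a (bar a⁻¹ y) := by
        rw [← hbar_mul, mul_inv_cancel, hbar_one]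
      rw [h3, ← map_mul, ← map_mul, (Subgroup.mem_center_iff.1 hv2 _)]
    have h3 := hmin _ inf_le_left h1 h2
    rw [← h3]
    exact inf_le_right
  have hcV : ∀ u ∈ V, ∀ v ∈ V, u * v = v * u := fun u hu v hv => (Subgroup.mem_center_iff.1 (hcen hu) v).symm
  have hbarInn : ∀ (a : A) (v : G ⧸ c), ∀ (g : G) (h : A), (a : MulAut G) = MulAut.conj g * (h : MulAut G) → bar h v ∈ V → bar a v = bar h v := by
    intro a v g h ea hv
    obtain ⟨x, rfl⟩ := hπ v
    rw [hbar] at hv ⊢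
    rw [hbar, ea]
    have e : π ((MulAut.conj g * (h : MulAut G)) x) = π g * π ((h : MulAut G) x) * (π g)⁻¹ := by
      show π (g * (h : MulAut G) x * g⁻¹) = _
      rw [map_mul, map_mul, map_inv]
    rw [e, Subgroup.mem_center_iff.1 (hcen hv) (π g)]
    group
  have hbarA : ∀ a : A, ∃ k : A, (k : MulAut G) ∈ H ∧ ∀ v ∈ V, bar a v = bar k v := by
    intro a
    obtain ⟨g, h, hh, e⟩ := hAH a a.2
    exact ⟨⟨h, hHA hh⟩, hh, fun v hv => hbarInn a v g ⟨h, hHA hh⟩ e (hV2 _ v hv)⟩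
  have hexpV : ∀ v ∈ V, v ^ p = 1 := by
    let U : Subgroup (G ⧸ c) :=
      { carrier := {v | v ∈ V ∧ v ^ p = 1}
        one_mem' := ⟨V.one_mem, one_pow p⟩
        mul_mem' := by
          rintro a b ⟨ha, ha'⟩ ⟨hb, hb'⟩
          refine ⟨V.mul_mem ha hb, ?_⟩
          have : Commute a b := hcV a ha b hb
          rw [this.mul_pow, ha', hb', one_mul]
        inv_mem' := by
          rintro a ⟨ha, ha'⟩
          exact ⟨V.inv_mem ha, by rw [inv_pow, ha', inv_one]⟩ }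
    have hU1 : U ≠ ⊥ := by
      obtain ⟨⟨v, hv⟩, hv1⟩ := Subgroup.ne_bot_iff_exists_ne_one.1 hV1
      have hv1' : v ≠ 1 := fun h => hv1 (Subtype.ext h)
      classical
      have hex : ∃ k, v ^ p ^ k = 1 := hYp v
      have hk0 : Nat.find hex ≠ 0 := by
        intro h0
        have h1 := Nat.find_spec hex
        rw [h0, pow_zero, pow_one] at h1
        exact hv1' h1
      obtain ⟨k, hk⟩ := Nat.exists_eq_succ_of_ne_zero hk0
      have h2 := Nat.find_spec hex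
      rw [hk] at h2
      have h3 : v ^ p ^ k ≠ 1 := Nat.find_min hex (by omega)
      refine Subgroup.ne_bot_iff_exists_ne_one.2 ⟨⟨v ^ p ^ k, V.pow_mem hv _, ?_⟩, fun h => h3 (congrArg Subtype.val h)⟩
      rw [← pow_mul, ← pow_succ]
      exact h2
    have hU2 : InvY U := by
      rintro a v ⟨h1, h2⟩
      exact ⟨hV2 a v h1, by rw [← map_pow, h2, map_one]⟩
    have h3 := hmin U (fun v hv => hv.1) hU1 hU2
    intro v hv
    rw [← h3] at hv
    exact hv.2
  have hc' : ∀ a b : V, a * b = b * a := fun a b => Subtype.ext (hcV a a.2 b b.2)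
  have hexp' : ∀ v : V, v ^ p = 1 := fun v => Subtype.ext (hexpV v v.2)
  haveI : Nontrivial V := (Subgroup.nontrivial_iff_ne_bot V).2 hV1
  have hscal : ∀ h (hh : h ∈ H), ∃ n : ℕ, ∀ v ∈ V, bar ⟨h, hHA hh⟩ v = v ^ n := by
    intro h hh
    let res : V →* V := ((bar ⟨h, hHA hh⟩).comp V.subtype).codRestrict V (fun v => hV2 _ v v.2)
    have hit : ∀ (k : ℕ) (v : V), ((res^[k] v : V) : G ⧸ c) = bar ⟨h ^ k, Subgroup.pow_mem _ (hHA hh) k⟩ v := by
      intro k v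
      induction k with
      | zero =>
        exact (hbar_one _).symm
      | succ k ih =>
        rw [Function.iterate_succ_apply']
        show bar ⟨h, hHA hh⟩ ((res^[k] v : V) : G ⧸ c) = _
        rw [ih, ← hbar_mul]
        congr 2
        apply Subtype.ext
        show h * h ^ k = h ^ (k + 1)
        rw [pow_succ']
    have hit' : ∀ v : V, res^[p - 1] v = v := by
      intro v
      apply Subtype.ext
      rw [hit]
      have e : (⟨h ^ (p - 1), Subgroup.pow_mem _ (hHA hh) _⟩ : A) = 1 := Subtype.ext (hexp h hh)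
      rw [e, hbar_one]
    obtain ⟨n, v₀, hv₀, hn⟩ := eigen_group hc' hexp' res hit'
    let U : Subgroup (G ⧸ c) :=
      { carrier := {v | v ∈ V ∧ bar ⟨h, hHA hh⟩ v = v ^ n}
        one_mem' := ⟨V.one_mem, by rw [map_one, one_pow]⟩
        mul_mem' := by
          rintro a b ⟨ha, ha'⟩ ⟨hb, hb'⟩
          refine ⟨V.mul_mem ha hb, ?_⟩
          have : Commute a b := hcV a ha b hb
          rw [map_mul, ha', hb', this.mul_pow]
        inv_mem' := by
          rintro a ⟨ha, ha'⟩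
          exact ⟨V.inv_mem ha, by rw [map_inv, ha', inv_pow]⟩ }
    have hU1 : U ≠ ⊥ := by
      refine Subgroup.ne_bot_iff_exists_ne_one.2 ⟨⟨v₀, v₀.2, ?_⟩, fun h => hv₀ (Subtype.ext (Subtype.mk.inj h))⟩
      have := congrArg Subtype.val hn
      exact this
    have hU2 : InvY U := by
      rintro a v ⟨h1, h2⟩
      refine ⟨hV2 a v h1, ?_⟩
      obtain ⟨k, hk, ek⟩ := hbarA a
      rw [ek v h1, ← hbar_mul]
      have e3 : (⟨h, hHA hh⟩ * k : A) = k * ⟨h, hHA hh⟩ := Subtype.ext (hcomm h hh k hk)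
      rw [e3, hbar_mul, h2, map_pow]
    have h3 := hmin U (fun v hv => hv.1) hU1 hU2
    refine ⟨n, fun v hv => ?_⟩
    rw [← h3] at hv
    exact hv.2
  obtain ⟨⟨v₀, hv₀⟩, hv₁⟩ := Subgroup.ne_bot_iff_exists_ne_one.1 hV1
  have hv₁' : v₀ ≠ 1 := fun h => hv₁ (Subtype.ext h)
  have hcyc : Subgroup.zpowers v₀ = V := by
    apply hmin
    · exact Subgroup.zpowers_le.2 hv₀
    · exact Subgroup.zpowers_ne_bot.2 hv₁'
    · rintro a _ ⟨j, rfl⟩
      obtain ⟨k, hk, ek⟩ := hbarA a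
      obtain ⟨n, hn⟩ := hscal k hk
      have e4 : bar a v₀ = v₀ ^ n := by
        rw [ek v₀ hv₀]
        exact hn v₀ hv₀
      show bar a (v₀ ^ j) ∈ _
      rw [map_zpow, e4]
      exact Subgroup.zpow_mem _ (Subgroup.npow_mem_zpowers _ _) _
  obtain ⟨x, hx⟩ := hπ v₀
  have hxW : x ∈ V.comap π := by
    show π x ∈ V
    rw [hx]
    exact hv₀
  have hcW : c ≤ V.comap π := by
    intro y hy
    show π y ∈ V
    rw [(hπ1 y).2 hy]
    exact V.one_mem
  refine ⟨V.comap π, x, lt_of_le_of_ne hcW ?_, ?_, ?_⟩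
  · intro h
    rw [← h] at hxW
    apply hv₁'
    rw [← hx]
    exact (hπ1 x).2 hxW
  · intro a ha y hy
    exact hV2 ⟨a, ha⟩ (π y) hy
  · apply le_antisymm
    · intro y hy
      have h1 : π y ∈ V := hy
      rw [← hcyc] at h1
      obtain ⟨j, hj⟩ := h1
      have h2 : (x ^ j)⁻¹ * y ∈ c := by
        rw [← hπ1, map_mul, map_inv, map_zpow, hx]
        change v₀ ^ j = π y at hj
        rw [hj]
        group
      have h3 : y = x ^ j * ((x ^ j)⁻¹ * y) := by group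
      rw [h3]
      exact Subgroup.mul_mem _ (Subgroup.mem_sup_right (Subgroup.zpow_mem_zpowers x j)) (Subgroup.mem_sup_left h2)
    · exact sup_le hcW (Subgroup.zpowers_le.2 hxW)

/-- a chain from `c` to the whole group of invariant subgroups with cyclic steps -/
theorem chain_exists (hG : IsPGroup p G) {A H : Subgroup (MulAut G)} (hInn : Inn G ≤ A) (hHA : H ≤ A)
    (hAH : ∀ a ∈ A, ∃ g : G, ∃ h ∈ H, a = MulAut.conj g * h)
    (hcomm : ∀ h ∈ H, ∀ k ∈ H, h * k = k * h) (hexp : ∀ h ∈ H, h ^ (p - 1) = 1) (c : Subgroup G) (hc : Inv A c) :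
    ∃ (m : ℕ) (d : ℕ → Subgroup G), d 0 = c ∧ d m = ⊤ ∧ (∀ i, Inv A (d i)) ∧ ∀ i, d i ≤ d (i + 1) ∧ ∃ x, d (i + 1) = d i ⊔ Subgroup.zpowers x := by
  induction hk : Nat.card G - Nat.card c using Nat.strong_induction_on generalizing c with
  | _ k ih =>
    by_cases hne : c = ⊤
    · subst hne
      refine ⟨0, fun _ => ⊤, rfl, rfl, fun _ => fun a _ x _ => Subgroup.mem_top _, fun i => ⟨le_rfl, 1, ?_⟩⟩
      simp
    · obtain ⟨W, x, hlt, hW, hWc⟩ := step hG hInn hHA hAH hcomm hexp hc hne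
      have hcard : Nat.card c < Nat.card W := lt_of_le_of_ne (Subgroup.card_le_of_le hlt.le) (fun h => hlt.ne (Subgroup.eq_of_le_of_card_ge hlt.le h.ge))
      have hcardG : Nat.card W ≤ Nat.card G := Subgroup.card_le_card_group W
      obtain ⟨m, d, h0, hm, hinv, hstep⟩ := ih (Nat.card G - Nat.card W) (by omega) W hW rfl
      refine ⟨m + 1, fun i => Nat.casesOn i c d, rfl, hm, ?_, ?_⟩
      · intro i
        cases i with
        | zero => exact hc
        | succ i => exact hinv i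
      · intro i
        cases i with
        | zero =>
          refine ⟨?_, x, ?_⟩
          · show c ≤ d 0
            rw [h0]
            exact hlt.le
          · show d 0 = c ⊔ Subgroup.zpowers x
            rw [h0, hWc]
        | succ i => exact hstep i

end step

section action

variable {Ω : Type*} [Group Ω]

theorem cyc_quot {C E : Subgroup Ω} {z : Ω} (hE : E = C ⊔ Subgroup.zpowers z) (hN : E ≤ Subgroup.normalizer (C : Set Ω))
    [(C.subgroupOf E).Normal] : IsCyclic (↥E ⧸ C.subgroupOf E) := by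
  have hzE : z ∈ E := by
    rw [hE]
    exact Subgroup.mem_sup_right (Subgroup.mem_zpowers z)
  refine ⟨⟨QuotientGroup.mk' (C.subgroupOf E) ⟨z, hzE⟩, fun a => ?_⟩⟩
  obtain ⟨e, rfl⟩ := QuotientGroup.mk'_surjective (C.subgroupOf E) a
  have he : (e : Ω) ∈ Subgroup.zpowers z ⊔ C := by
    rw [sup_comm, ← hE]
    exact e.2
  have hT : Subgroup.zpowers z ≤ Subgroup.normalizer (C : Set Ω) := Subgroup.zpowers_le.2 (hN hzE)
  obtain ⟨t, ⟨j, rfl⟩, c', hc', et⟩ := Cfsg.Agent.Lib.FusGroup.mem_sup_of_le_normalizer hT he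
  refine ⟨j, ?_⟩
  show (QuotientGroup.mk' (C.subgroupOf E) ⟨z, hzE⟩) ^ j = _
  rw [← map_zpow]
  apply QuotientGroup.eq.2
  apply Subgroup.mem_subgroupOf.2
  have e1 : (((⟨z, hzE⟩ : E) ^ j)⁻¹ * e : E) = ((z ^ j)⁻¹ * (e : Ω)) := rfl
  have e2 : (z ^ j)⁻¹ * (e : Ω) = c' := by
    rw [← et]
    group
  show ((((⟨z, hzE⟩ : E) ^ j)⁻¹ * e : E) : Ω) ∈ C
  rw [e1, e2]
  exact hc'

/-- an automorphism preserving a section with cyclic quotient acts on it as a power map -/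
theorem pow_action {X E C : Subgroup Ω} [Finite E] [(C.subgroupOf E).Normal] [IsCyclic (↥E ⧸ C.subgroupOf E)] (σ : MulAut X)
    (h1 : ∀ x : X, (x : Ω) ∈ E → ((σ x : X) : Ω) ∈ E) (h2 : ∀ x : X, (x : Ω) ∈ C → ((σ x : X) : Ω) ∈ C) :
    ∃ m : ℕ, ∀ (x : X) (hx : (x : Ω) ∈ E), QuotientGroup.mk' (C.subgroupOf E) ⟨((σ x : X) : Ω), h1 x hx⟩ = (QuotientGroup.mk' (C.subgroupOf E) ⟨x, hx⟩) ^ m := by
  let q := QuotientGroup.mk' (C.subgroupOf E)
  let D : Subgroup X := E.subgroupOf X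
  let i : D →* ↥E := { toFun := fun x => ⟨x.1.1, x.2⟩, map_one' := rfl, map_mul' := fun _ _ => rfl }
  let f : D →* (↥E ⧸ C.subgroupOf E) := q.comp i
  obtain ⟨⟨_, y, rfl⟩, hy⟩ := IsCyclic.exists_monoid_generator (α := f.range)
  have gen : ∀ x : D, ∃ k : ℕ, f x = f y ^ k := by
    intro x
    obtain ⟨k, hk⟩ := hy ⟨f x, ⟨x, rfl⟩⟩
    exact ⟨k, (congrArg Subtype.val hk).symm⟩
  have hyE : (((y : X) : Ω)) ∈ E := y.2
  obtain ⟨m, hm⟩ := gen ⟨σ y, h1 y hyE⟩
  refine ⟨m, fun x hx => ?_⟩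
  obtain ⟨k, hk⟩ := gen ⟨x, hx⟩
  have ht : (((x⁻¹ * (y : X) ^ k : X)) : Ω) ∈ C := by
    have h3 : q ⟨x, hx⟩ = q ((⟨(y : X), hyE⟩ : E) ^ k) := by
      rw [map_pow]
      exact hk
    have h4 := QuotientGroup.eq.1 h3
    exact Subgroup.mem_subgroupOf.1 h4
  have hσt := h2 _ ht
  have e1 : q ⟨((σ x : X) : Ω), h1 x hx⟩ = q ⟨((σ y : X) : Ω), h1 y hyE⟩ ^ k := by
    rw [← map_pow]
    apply QuotientGroup.eq.2
    apply Subgroup.mem_subgroupOf.2
    rw [map_mul, map_inv, map_pow] at hσt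
    exact hσt
  have e2 : q ⟨((σ y : X) : Ω), h1 y hyE⟩ = f y ^ m := hm
  have e3 : q ⟨(x : Ω), hx⟩ = f y ^ k := hk
  show q ⟨((σ x : X) : Ω), h1 x hx⟩ = q ⟨(x : Ω), hx⟩ ^ m
  rw [e1, e2, e3, ← pow_mul, ← pow_mul, mul_comm]

/-- two such automorphisms commute on the section -/
theorem comm_action {X E C : Subgroup Ω} [Finite E] [(C.subgroupOf E).Normal] [IsCyclic (↥E ⧸ C.subgroupOf E)] (σ τ : MulAut X)
    (h1 : ∀ x : X, (x : Ω) ∈ E → ((σ x : X) : Ω) ∈ E) (h2 : ∀ x : X, (x : Ω) ∈ C → ((σ x : X) : Ω) ∈ C)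
    (h3 : ∀ x : X, (x : Ω) ∈ E → ((τ x : X) : Ω) ∈ E) (h4 : ∀ x : X, (x : Ω) ∈ C → ((τ x : X) : Ω) ∈ C) (x : X) (hx : (x : Ω) ∈ E) :
    ((τ (σ x) : X) : Ω)⁻¹ * ((σ (τ x) : X) : Ω) ∈ C := by
  obtain ⟨a, ha⟩ := pow_action σ h1 h2
  obtain ⟨b, hb⟩ := pow_action τ h3 h4
  have e1 : QuotientGroup.mk' (C.subgroupOf E) ⟨((τ (σ x) : X) : Ω), h3 _ (h1 x hx)⟩ = QuotientGroup.mk' (C.subgroupOf E) ⟨((σ (τ x) : X) : Ω), h1 _ (h3 x hx)⟩ := by
    rw [hb _ (h1 x hx), ha x hx, ha _ (h3 x hx), hb x hx, ← pow_mul, ← pow_mul, mul_comm]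
  exact Subgroup.mem_subgroupOf.1 (QuotientGroup.eq.1 e1)

variable {m : ℕ}

/-- the automorphisms of `X` stabilising the chain `c` -/
def St (X : Subgroup Ω) [Finite X] (c : Fin (m + 1) → Subgroup Ω) (hle : ∀ i : Fin m, c i.castSucc ≤ c i.succ) : Subgroup (MulAut X) :=
  ⨅ i : Fin m, Cfsg.Agent.Lib.FusNorm.stabPair X (c i.castSucc) (c i.succ) (hle i)

theorem mem_St {X : Subgroup Ω} [Finite X] {c : Fin (m + 1) → Subgroup Ω} {hle : ∀ i : Fin m, c i.castSucc ≤ c i.succ} {κ : MulAut X} :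
    κ ∈ St X c hle ↔ ∀ (i : Fin m) (x : X), (x : Ω) ∈ c i.succ → (x : Ω)⁻¹ * ((κ x : X) : Ω) ∈ c i.castSucc := by
  unfold St
  rw [Subgroup.mem_iInf]
  rfl

theorem St_one {p : ℕ} [Fact p.Prime] {X : Subgroup Ω} [Finite X] (hX : IsPGroup p X) {c : Fin (m + 1) → Subgroup Ω} {hle : ∀ i : Fin m, c i.castSucc ≤ c i.succ}
    (h0 : c 0 = ⊥) (hl : X ≤ c (Fin.last m)) {κ : MulAut X} (hκ : κ ∈ St X c hle) (hco : (orderOf κ).Coprime p) : κ = 1 := by
  have h1 : ∀ i : Fin (m + 1), ∀ x : X, (x : Ω) ∈ c i → κ x = x := by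
    intro i
    induction i using Fin.induction with
    | zero =>
      intro x hx
      rw [h0, Subgroup.mem_bot] at hx
      have : x = 1 := Subtype.ext hx
      rw [this, map_one]
    | succ i ih =>
      intro x hx
      apply Cfsg.Agent.Lib.FusNorm.aut_fix_step hX hco
      apply ih
      exact mem_St.1 hκ i x hx
  ext x
  exact congrArg Subtype.val (h1 (Fin.last m) x (hl x.2))

theorem St_pgroup {p : ℕ} [Fact p.Prime] {X : Subgroup Ω} [Finite X] (hX : IsPGroup p X) {c : Fin (m + 1) → Subgroup Ω} {hle : ∀ i : Fin m, c i.castSucc ≤ c i.succ}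
    (h0 : c 0 = ⊥) (hl : X ≤ c (Fin.last m)) : IsPGroup p (St X c hle) :=
  Cfsg.Agent.Lib.FusNorm.isPGroup_of_coprime_one _ (fun _ hκ hco => St_one hX h0 hl hκ hco)

theorem St_conj {X : Subgroup Ω} [Finite X] {c : Fin (m + 1) → Subgroup Ω} {hle : ∀ i : Fin m, c i.castSucc ≤ c i.succ} {γ κ : MulAut X}
    (h1 : ∀ (i : Fin (m + 1)) (x : X), (x : Ω) ∈ c i → ((γ x : X) : Ω) ∈ c i) (h2 : ∀ (i : Fin (m + 1)) (x : X), (x : Ω) ∈ c i → ((γ⁻¹ x : X) : Ω) ∈ c i)
    (hκ : κ ∈ St X c hle) : γ * κ * γ⁻¹ ∈ St X c hle := by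
  unfold St at hκ ⊢
  rw [Subgroup.mem_iInf] at hκ ⊢
  intro i
  exact Cfsg.Agent.Lib.FusNorm.stabPair_conj (h2 i.succ) (h1 i.castSucc) (hκ i)

theorem comm_St {X : Subgroup Ω} [Finite X] {c : Fin (m + 1) → Subgroup Ω} {hle : ∀ i : Fin m, c i.castSucc ≤ c i.succ} {σ τ : MulAut X}
    (hfin : ∀ i, Finite (c i)) (hN : ∀ i : Fin m, c i.succ ≤ Subgroup.normalizer (c i.castSucc : Set Ω))
    (hz : ∀ i : Fin m, ∃ z, c i.succ = c i.castSucc ⊔ Subgroup.zpowers z)
    (h1 : ∀ (i : Fin (m + 1)) (x : X), (x : Ω) ∈ c i → ((σ x : X) : Ω) ∈ c i) (h2 : ∀ (i : Fin (m + 1)) (x : X), (x : Ω) ∈ c i → ((τ x : X) : Ω) ∈ c i)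
    (h3 : ∀ (i : Fin (m + 1)) (x : X), (x : Ω) ∈ c i → ((σ⁻¹ x : X) : Ω) ∈ c i) (h4 : ∀ (i : Fin (m + 1)) (x : X), (x : Ω) ∈ c i → ((τ⁻¹ x : X) : Ω) ∈ c i) :
    σ * τ * σ⁻¹ * τ⁻¹ ∈ St X c hle := by
  apply mem_St.2
  intro i x hx
  haveI := hfin i.succ
  haveI : ((c i.castSucc).subgroupOf (c i.succ)).Normal := (Subgroup.normal_subgroupOf_iff_le_normalizer (hle i)).2 (hN i)
  obtain ⟨z, hz⟩ := hz i
  haveI : IsCyclic (↥(c i.succ) ⧸ (c i.castSucc).subgroupOf (c i.succ)) := cyc_quot hz (hN i)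
  have h5 := comm_action σ τ (h1 i.succ) (h1 i.castSucc) (h2 i.succ) (h2 i.castSucc) (σ⁻¹ (τ⁻¹ x)) (h3 i.succ _ (h4 i.succ x hx))
  have e1 : τ (σ (σ⁻¹ (τ⁻¹ x))) = x := by simp
  rw [e1] at h5
  exact h5

end action

end Cfsg.Agent.Lib.FusSuper
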