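import Mathlib
import Cfsg.Agent.Lib.FusSuper
import Cfsg.Agent.Lib.FusEss
import Cfsg.Agent.Lib.FusNorm

set_option autoImplicit false

namespace Cfsg.Agent.Lib.FusChainEss

open Cfsg Cfsg.FusionSystem Cfsg.Agent.Lib.FusBasic Cfsg.Agent.Lib.FusAut Cfsg.Agent.Lib.FusSat Cfsg.Agent.Lib.FusNorm Cfsg.Agent.Lib.FusSuper

universe u

variable {Ω : Type u} [Group Ω] {S : Subgroup Ω} [Finite S] {p : ℕ} [hp : Fact p.Prime]

/-- An essential subgroup whose `F`-automorphisms stabilise a chain with cyclic factors does not exist. -/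
theorem chain_contra' (hS : IsPGroup p S) (F : Cfsg.FusionSystem S) (hF : F.IsSaturated p) {P : Subgroup Ω} (hE : F.IsEssential p P)
    {m : ℕ} {c : Fin (m + 1) → Subgroup Ω} (h0 : c 0 = ⊥) (hl : P ≤ c (Fin.last m))
    (hle : ∀ i : Fin m, c i.castSucc ≤ c i.succ) (hfin : ∀ i, Finite (c i))
    (hN : ∀ i : Fin m, c i.succ ≤ Subgroup.normalizer (c i.castSucc : Set Ω))
    (hz : ∀ i : Fin m, ∃ z, c i.succ = c i.castSucc ⊔ Subgroup.zpowers z)
    (hpres : ∀ γ ∈ F.autGroup P, ∀ (i : Fin (m + 1)) (x : P), (x : Ω) ∈ c i → ((γ x : P) : Ω) ∈ c i) : False := by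
  have hr : F.IsRadical p P := essential_radical hS F hE
  have hPS : P ≤ S := hr.1
  haveI : Finite P := finite_of_le hPS
  have hcent := hE.1.2 P (isConj_refl F hPS)
  have hlt := Cfsg.Agent.Lib.FusEss.essential_lt hS F hF hE
  have hSP : S ≤ P := by
    apply le_of_conj_mem_core hS F hr hcent le_rfl Subgroup.le_normalizer
    intro v hv hvn
    have hind : cAut P ⟨v, hvn⟩ ∈ autInducedBy S P := mem_autInducedBy'.2 ⟨v, hv, fun x => rfl⟩
    have htA : cAut P ⟨v, hvn⟩ ∈ F.autGroup P := autInduced_le_autGroup F hPS hind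
    have htp : IsPGroup p (Subgroup.zpowers (cAut P ⟨v, hvn⟩)) := (isPGroup_autInduced hS P).to_le (Subgroup.zpowers_le.2 hind)
    have hSt : IsPGroup p (St P c hle) := St_pgroup (hS.to_le hPS) h0 hl
    have hnorm : Subgroup.zpowers (cAut P ⟨v, hvn⟩) ≤ Subgroup.normalizer (St P c hle : Set (MulAut P)) :=
      Subgroup.zpowers_le.2 (mem_normalizer_of_conj_le' (fun κ hκ => St_conj (hpres _ htA) (hpres _ (Subgroup.inv_mem _ htA)) hκ))
    have hKp : IsPGroup p ↥(Subgroup.zpowers (cAut P ⟨v, hvn⟩) ⊔ St P c hle) := IsPGroup.to_sup_of_normal_right' htp hSt hnorm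
    apply mem_core_of_pgroup F _ hKp ?_ (Subgroup.mem_sup_left (Subgroup.mem_zpowers _)) htA
    intro γ hγ κ hκ
    have hle2 : Subgroup.zpowers (cAut P ⟨v, hvn⟩) ⊔ St P c hle ≤ (Subgroup.zpowers (cAut P ⟨v, hvn⟩) ⊔ St P c hle).comap (MulAut.conj γ).toMonoidHom := by
      apply sup_le
      · apply Subgroup.zpowers_le.2
        show γ * cAut P ⟨v, hvn⟩ * γ⁻¹ ∈ Subgroup.zpowers (cAut P ⟨v, hvn⟩) ⊔ St P c hle
        have h1 := comm_St (hle := hle) hfin hN hz (hpres _ hγ) (hpres _ htA) (hpres _ (Subgroup.inv_mem _ hγ)) (hpres _ (Subgroup.inv_mem _ htA))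
        have h3 : γ * cAut P ⟨v, hvn⟩ * γ⁻¹ = (γ * cAut P ⟨v, hvn⟩ * γ⁻¹ * (cAut P ⟨v, hvn⟩)⁻¹) * cAut P ⟨v, hvn⟩ := by group
        rw [h3]
        exact Subgroup.mul_mem _ (Subgroup.mem_sup_right h1) (Subgroup.mem_sup_left (Subgroup.mem_zpowers _))
      · intro κ' hκ'
        exact Subgroup.mem_sup_right (St_conj (hpres _ hγ) (hpres _ (Subgroup.inv_mem _ hγ)) hκ')
    exact hle2 hκ
  exact absurd hSP (not_le_of_gt hlt)

/-- A step of prime index inside a `p`-group. -/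
theorem step_of_card {G : Type*} [Group G] [Finite G] (hG : IsPGroup p G) {X Y : Subgroup G} (hle : X ≤ Y)
    (hc : Nat.card Y = p * Nat.card X) : (∃ z, Y = X ⊔ Subgroup.zpowers z) ∧ Y ≤ Subgroup.normalizer (X : Set G) := by
  have hP : p.Prime := Fact.out
  have hXpos : 0 < Nat.card X := Nat.card_pos
  have hne : X ≠ Y := by
    rintro rfl
    have : p * Nat.card X = 1 * Nat.card X := by rw [← hc, one_mul]
    have := Nat.eq_of_mul_eq_mul_right hXpos this
    exact hP.one_lt.ne' this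
  have hlt : X < Y := lt_of_le_of_ne hle hne
  constructor
  · obtain ⟨z, hzY, hzX⟩ := SetLike.exists_of_lt hlt
    refine ⟨z, ?_⟩
    have hsup : X ⊔ Subgroup.zpowers z ≤ Y := sup_le hle (Subgroup.zpowers_le.2 hzY)
    have h1 : Nat.card X ∣ Nat.card (X ⊔ Subgroup.zpowers z : Subgroup G) := Subgroup.card_dvd_of_le le_sup_left
    have h2 : Nat.card (X ⊔ Subgroup.zpowers z : Subgroup G) ∣ p * Nat.card X := hc ▸ Subgroup.card_dvd_of_le hsup
    obtain ⟨d, hd⟩ := h1
    rw [hd, mul_comm] at h2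
    have h3 : d ∣ p := Nat.dvd_of_mul_dvd_mul_right hXpos h2
    rcases (Nat.dvd_prime hP).1 h3 with rfl | rfl
    · exfalso
      have h4 : X = X ⊔ Subgroup.zpowers z := Subgroup.eq_of_le_of_card_ge le_sup_left (by rw [hd, mul_one])
      apply hzX
      rw [h4]
      exact Subgroup.mem_sup_right (Subgroup.mem_zpowers z)
    · exact (Subgroup.eq_of_le_of_card_ge hsup (by rw [hd, hc, mul_comm])).symm
  · have hidx : (X.subgroupOf Y).index = p := by
      have h1 := Subgroup.card_mul_index (X.subgroupOf Y)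
      have h2 : Nat.card (X.subgroupOf Y) = Nat.card X := Nat.card_congr (Subgroup.subgroupOfEquivOfLe hle).toEquiv
      rw [h2, hc, mul_comm p] at h1
      exact Nat.eq_of_mul_eq_mul_left hXpos h1
    have hYp : IsPGroup p Y := hG.to_subgroup Y
    obtain ⟨n, hn⟩ := IsPGroup.iff_card.1 hYp
    have hn0 : n ≠ 0 := by
      rintro rfl
      rw [pow_zero] at hn
      rw [hc] at hn
      have := Nat.eq_one_of_mul_eq_one_right hn
      exact hP.one_lt.ne' this
    have hmf : (Nat.card Y).minFac = p := by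
      rw [hn]
      exact Nat.Prime.pow_minFac hP hn0
    have hnorm : (X.subgroupOf Y).Normal := Subgroup.normal_of_index_eq_minFac_card (by rw [hidx, hmf])
    intro y hy
    rw [Subgroup.mem_normalizer_iff]
    intro x
    constructor
    · intro hx
      have := hnorm.conj_mem ⟨x, hle hx⟩ (Subgroup.mem_subgroupOf.2 hx) ⟨y, hy⟩
      exact Subgroup.mem_subgroupOf.1 this
    · intro hx
      have := hnorm.conj_mem ⟨y * x * y⁻¹, hle hx⟩ (Subgroup.mem_subgroupOf.2 hx) ⟨y⁻¹, Y.inv_mem hy⟩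
      have h5 := Subgroup.mem_subgroupOf.1 this
      have h6 : y⁻¹ * (y * x * y⁻¹) * y⁻¹⁻¹ = x := by group
      have h7 : ((⟨y⁻¹, Y.inv_mem hy⟩ * ⟨y * x * y⁻¹, hle hx⟩ * (⟨y⁻¹, Y.inv_mem hy⟩ : Y)⁻¹ : Y) : G) = y⁻¹ * (y * x * y⁻¹) * y⁻¹⁻¹ := rfl
      rw [h7, h6] at h5
      exact h5

/-- The chain theorem, chain of subgroups of `P` itself with steps of order `p`. -/
theorem chain_contra (hS : IsPGroup p S) (F : Cfsg.FusionSystem S) (hF : F.IsSaturated p) {P : Subgroup Ω} (hE : F.IsEssential p P)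
    {m : ℕ} {c : Fin (m + 1) → Subgroup P} (h0 : c 0 = ⊥) (hl : c (Fin.last m) = ⊤)
    (hle : ∀ i : Fin m, c i.castSucc ≤ c i.succ)
    (hc : ∀ i : Fin m, Nat.card (c i.succ) = p * Nat.card (c i.castSucc))
    (hpres : ∀ γ ∈ F.autGroup P, ∀ (i : Fin (m + 1)) (x : P), x ∈ c i → γ x ∈ c i) : False := by
  have hPS : P ≤ S := hE.1.1
  haveI : Finite P := finite_of_le hPS
  have hPp : IsPGroup p P := hS.to_le hPS
  apply chain_contra' hS F hF hE (c := fun i => (c i).map P.subtype)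
  · show (c 0).map P.subtype = ⊥
    rw [h0, Subgroup.map_bot]
  · show P ≤ (c (Fin.last m)).map P.subtype
    rw [hl]
    intro x hx
    exact ⟨⟨x, hx⟩, trivial, rfl⟩
  · intro i
    exact Subgroup.map_mono (hle i)
  · intro i
    exact finite_of_le (Subgroup.map_subtype_le _ |>.trans hPS)
  · intro i
    obtain ⟨-, h2⟩ := step_of_card hPp (hle i) (hc i)
    rintro _ ⟨y, hy, rfl⟩
    rw [Subgroup.mem_normalizer_iff]
    intro x
    have hyn := h2 hy
    rw [Subgroup.mem_normalizer_iff] at hyn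
    constructor
    · rintro ⟨x', hx', rfl⟩
      exact ⟨y * x' * y⁻¹, (hyn x').1 hx', rfl⟩
    · rintro ⟨x', hx', he⟩
      have hxP : x ∈ P := by
        have h3 : (y : Ω) * x * (y : Ω)⁻¹ ∈ P := by
          have := x'.2
          rw [show (x' : Ω) = (y : Ω) * x * (y : Ω)⁻¹ from he] at this
          exact this
        have h4 : x = (y : Ω)⁻¹ * ((y : Ω) * x * (y : Ω)⁻¹) * y := by group
        rw [h4]
        exact P.mul_mem (P.mul_mem (P.inv_mem y.2) h3) y.2
      have h5 : x' = y * ⟨x, hxP⟩ * y⁻¹ := Subtype.ext he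
      rw [h5] at hx'
      exact ⟨⟨x, hxP⟩, (hyn _).2 hx', rfl⟩
  · intro i
    obtain ⟨⟨z, hz⟩, -⟩ := step_of_card hPp (hle i) (hc i)
    refine ⟨(z : Ω), ?_⟩
    show (c i.succ).map P.subtype = (c i.castSucc).map P.subtype ⊔ Subgroup.zpowers (z : Ω)
    rw [hz, Subgroup.map_sup, MonoidHom.map_zpowers]
    rfl
  · rintro γ hγ i x ⟨y, hy, e⟩
    have e' : x = y := Subtype.ext e.symm
    subst e'
    exact ⟨_, hpres γ hγ i x hy, rfl⟩

end Cfsg.Agent.Lib.FusChainEss
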