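import Mathlib
import Cfsg.Prelude.Def_PLocal
import Cfsg.Prelude.Def_FusionSystem

set_option autoImplicit false
set_option linter.unusedSectionVars false
set_option linter.unusedVariables false

/-!
The elements of the group `Qd(p)`.
-/

namespace Cfsg.Agent.Lib.QdBasic

open Cfsg

variable {p : ℕ} [Fact p.Prime]

/-- the special linear group of degree two -/
abbrev SL2 (p : ℕ) := Matrix.SpecialLinearGroup (Fin 2) (ZMod p)

/-- the plane -/
abbrev Pl (p : ℕ) := Fin 2 → ZMod p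

/-- action on the plane -/
def act (σ : SL2 p) (v : Pl p) : Pl p := (σ : Matrix (Fin 2) (Fin 2) (ZMod p)).mulVec v

theorem act_mul (σ τ : SL2 p) (v : Pl p) : act (σ * τ) v = act σ (act τ v) := by
  show ((σ * τ : SL2 p) : Matrix (Fin 2) (Fin 2) (ZMod p)).mulVec v = _
  rw [Matrix.SpecialLinearGroup.coe_mul, ← Matrix.mulVec_mulVec]
  rfl

theorem act_one (v : Pl p) : act (1 : SL2 p) v = v := by
  simp [act]

theorem act_add (σ : SL2 p) (v w : Pl p) : act σ (v + w) = act σ v + act σ w := by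
  simp [act, Matrix.mulVec_add]

theorem act_zero (σ : SL2 p) : act σ (0 : Pl p) = 0 := by
  simp [act]

theorem act_neg (σ : SL2 p) (v : Pl p) : act σ (-v) = - act σ v := by
  simp [act, Matrix.mulVec_neg]

theorem act_inv_act (σ : SL2 p) (v : Pl p) : act σ⁻¹ (act σ v) = v := by
  rw [← act_mul, inv_mul_cancel, act_one]

theorem act_act_inv (σ : SL2 p) (v : Pl p) : act σ (act σ⁻¹ v) = v := by
  rw [← act_mul, mul_inv_cancel, act_one]

/-- faithfulness -/
theorem eq_of_act_eq {σ τ : SL2 p} (h : ∀ v, act σ v = act τ v) : σ = τ := by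
  apply Subtype.ext
  ext i j
  have h1 := congrFun (h (Pi.single j 1)) i
  simpa [act, Matrix.mulVec_single_one] using h1

/-- the matrix of an affine map -/
def mkM (σ : SL2 p) (v : Pl p) : Matrix (Fin 3) (Fin 3) (ZMod p) :=
  !![(σ : Matrix (Fin 2) (Fin 2) (ZMod p)) 0 0, (σ : Matrix (Fin 2) (Fin 2) (ZMod p)) 0 1, v 0;
     (σ : Matrix (Fin 2) (Fin 2) (ZMod p)) 1 0, (σ : Matrix (Fin 2) (Fin 2) (ZMod p)) 1 1, v 1;
     0, 0, 1]

theorem sl2_det (σ : SL2 p) : (σ : Matrix (Fin 2) (Fin 2) (ZMod p)) 0 0 * (σ : Matrix (Fin 2) (Fin 2) (ZMod p)) 1 1 -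
    (σ : Matrix (Fin 2) (Fin 2) (ZMod p)) 0 1 * (σ : Matrix (Fin 2) (Fin 2) (ZMod p)) 1 0 = 1 := by
  have h := σ.2
  rwa [Matrix.det_fin_two] at h

theorem mkM_det (σ : SL2 p) (v : Pl p) : (mkM σ v).det = 1 := by
  rw [Matrix.det_fin_three]
  simp only [mkM, Matrix.of_apply, Matrix.cons_val', Matrix.cons_val_zero, Matrix.cons_val_one, Matrix.cons_val_fin_one, Matrix.cons_val]
  have h := sl2_det σ
  linear_combination h

/-- the element of `SL₃` -/
def mkS (σ : SL2 p) (v : Pl p) : Matrix.SpecialLinearGroup (Fin 3) (ZMod p) := ⟨mkM σ v, mkM_det σ v⟩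

/-- the element of `Qd(p)` -/
def mk (σ : SL2 p) (v : Pl p) : qd p :=
  ⟨mkS σ v, Subgroup.subset_closure (by
    refine ⟨?_, ?_, ?_⟩ <;> simp [mkS, mkM])⟩

theorem mk_mul (σ τ : SL2 p) (v w : Pl p) : mk σ v * mk τ w = mk (σ * τ) (v + act σ w) := by
  apply Subtype.ext
  apply Subtype.ext
  show mkM σ v * mkM τ w = mkM (σ * τ) (v + act σ w)
  ext i j
  fin_cases i <;> fin_cases j <;>
    simp [mkM, Matrix.mul_apply, Fin.sum_univ_three, act, Matrix.mulVec, dotProduct, Fin.sum_univ_two, Matrix.SpecialLinearGroup.coe_mul] <;> ring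

theorem mk_one : mk (1 : SL2 p) (0 : Pl p) = 1 := by
  apply Subtype.ext
  apply Subtype.ext
  show mkM (1 : SL2 p) (0 : Pl p) = 1
  ext i j
  fin_cases i <;> fin_cases j <;> simp [mkM]

theorem exists_mk (M : qd p) : ∃ σ v, M = mk σ v := by
  obtain ⟨M, hM⟩ := M
  have hlast : (M : Matrix (Fin 3) (Fin 3) (ZMod p)) 2 0 = 0 ∧ (M : Matrix (Fin 3) (Fin 3) (ZMod p)) 2 1 = 0 ∧
      (M : Matrix (Fin 3) (Fin 3) (ZMod p)) 2 2 = 1 := by
    induction hM using Subgroup.closure_induction with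
    | mem x hx => exact hx
    | one => simp
    | mul x y _ _ hx hy =>
      obtain ⟨h1, h2, h3⟩ := hx
      obtain ⟨h4, h5, h6⟩ := hy
      simp [Matrix.SpecialLinearGroup.coe_mul, Matrix.mul_apply, Fin.sum_univ_three, h1, h2, h3, h4, h5, h6]
    | inv x _ hx =>
      obtain ⟨h1, h2, h3⟩ := hx
      have hm : (x : Matrix (Fin 3) (Fin 3) (ZMod p)) * ((x⁻¹ : Matrix.SpecialLinearGroup (Fin 3) (ZMod p)) : Matrix (Fin 3) (Fin 3) (ZMod p)) = 1 := by
        rw [← Matrix.SpecialLinearGroup.coe_mul, mul_inv_cancel, Matrix.SpecialLinearGroup.coe_one]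
      have e : ∀ j, ((x⁻¹ : Matrix.SpecialLinearGroup (Fin 3) (ZMod p)) : Matrix (Fin 3) (Fin 3) (ZMod p)) 2 j = (1 : Matrix (Fin 3) (Fin 3) (ZMod p)) 2 j := by
        intro j
        have := congrFun (congrFun hm 2) j
        rw [Matrix.mul_apply, Fin.sum_univ_three, h1, h2, h3] at this
        simpa using this
      refine ⟨?_, ?_, ?_⟩
      · rw [e]; simp
      · rw [e]; simp
      · rw [e]; simp
  obtain ⟨h1, h2, h3⟩ := hlast
  have hdet : (M : Matrix (Fin 3) (Fin 3) (ZMod p)) 0 0 * (M : Matrix (Fin 3) (Fin 3) (ZMod p)) 1 1 -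
      (M : Matrix (Fin 3) (Fin 3) (ZMod p)) 0 1 * (M : Matrix (Fin 3) (Fin 3) (ZMod p)) 1 0 = 1 := by
    have h := M.2
    rw [Matrix.det_fin_three, h1, h2, h3] at h
    linear_combination h
  let σ : SL2 p := ⟨!![(M : Matrix (Fin 3) (Fin 3) (ZMod p)) 0 0, (M : Matrix (Fin 3) (Fin 3) (ZMod p)) 0 1;
      (M : Matrix (Fin 3) (Fin 3) (ZMod p)) 1 0, (M : Matrix (Fin 3) (Fin 3) (ZMod p)) 1 1], by
    rw [Matrix.det_fin_two]
    simpa using hdet⟩
  refine ⟨σ, ![(M : Matrix (Fin 3) (Fin 3) (ZMod p)) 0 2, (M : Matrix (Fin 3) (Fin 3) (ZMod p)) 1 2], ?_⟩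
  apply Subtype.ext
  apply Subtype.ext
  show (M : Matrix (Fin 3) (Fin 3) (ZMod p)) = mkM σ _
  ext i j
  fin_cases i <;> fin_cases j <;> simp [mkM, σ, h1, h2, h3]

/-- inverses -/
theorem mk_inv (σ : SL2 p) (v : Pl p) : (mk σ v)⁻¹ = mk σ⁻¹ (- act σ⁻¹ v) := by
  apply inv_eq_of_mul_eq_one_left
  rw [mk_mul, neg_add_cancel, inv_mul_cancel, mk_one]

/-- conjugation of translations -/
theorem mk_conj (σ : SL2 p) (v w : Pl p) : mk σ v * mk 1 w * (mk σ v)⁻¹ = mk 1 (act σ w) := by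
  rw [mk_inv, mk_mul, mk_mul, mul_one, act_neg, act_act_inv, mul_inv_cancel]
  have e : v + act σ w + -v = act σ w := by abel
  rw [e]

theorem mk_inj {σ τ : SL2 p} {v w : Pl p} (h : mk σ v = mk τ w) : σ = τ ∧ v = w := by
  have h1 : mkM σ v = mkM τ w := congrArg (fun z : qd p => ((z : Matrix.SpecialLinearGroup (Fin 3) (ZMod p)) : Matrix (Fin 3) (Fin 3) (ZMod p))) h
  constructor
  · apply Subtype.ext
    ext i j
    fin_cases i <;> fin_cases j
    · exact congrFun (congrFun h1 0) 0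
    · exact congrFun (congrFun h1 0) 1
    · exact congrFun (congrFun h1 1) 0
    · exact congrFun (congrFun h1 1) 1
  · ext i
    fin_cases i
    · exact congrFun (congrFun h1 0) 2
    · exact congrFun (congrFun h1 1) 2

end Cfsg.Agent.Lib.QdBasic
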