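import Mathlib
import Cfsg.Agent.Lib.FusTransv
import Cfsg.Agent.S5185
import Cfsg.Agent.Lib.FusFrat
import Cfsg.Agent.Lib.FusEss
import Cfsg.Agent.Lib.FusAlp

set_option autoImplicit false
set_option linter.unusedSectionVars false

namespace Cfsg.Agent.Lib.FusTransv2

open Subgroup Cfsg Cfsg.FusionSystem Cfsg.Agent.Lib.FusBasic Cfsg.Agent.Lib.FusAut Cfsg.Agent.Lib.FusSat Cfsg.Agent.Lib.FusNorm Cfsg.Agent.Lib.FusFrat Cfsg.Agent.Lib.FusTransv

universe u

section abstract

variable {H : Type*} [Group H] [Finite H] {p : ℕ} [hp : Fact p.Prime]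

theorem setup_abs (hH : IsPGroup p H) (hna : ¬ ∀ a b : H, a * b = b * a) (hZ : (center H).index ≤ p ^ 2) :
    (center H).index = p ^ 2 ∧ (∀ x : H, x ^ p ∈ center H) ∧
    ∃ a x r : H, a = x * r * x⁻¹ * r⁻¹ ∧ a ∈ center H ∧ a ≠ 1 ∧ a ^ p = 1 ∧ ∀ s t : H, s * t * s⁻¹ * t⁻¹ ∈ zpowers a := by
  classical
  have hP : p.Prime := Fact.out
  set Z := center H with hZd
  have hcomm : ¬ IsCyclic (H ⧸ Z) := by
    intro hcyc
    have := commutative_of_cyclic_center_quotient (QuotientGroup.mk' Z) (by rw [QuotientGroup.ker_mk'])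
    exact hna this
  obtain ⟨n, hn⟩ := IsPGroup.iff_card.1 hH
  have hdvd : Z.index ∣ p ^ n := by
    rw [← hn]
    exact Subgroup.index_dvd_card _
  obtain ⟨j, -, hj⟩ := (Nat.dvd_prime_pow hP).1 hdvd
  have hj2 : j ≤ 2 := by
    have : p ^ j ≤ p ^ 2 := hj ▸ hZ
    exact (Nat.pow_le_pow_iff_right hP.one_lt).1 this
  have hj2' : j = 2 := by
    by_contra hne
    have hj' : j = 0 ∨ j = 1 := by omega
    apply hcomm
    rcases hj' with rfl | rfl
    · have h1 : Nat.card (H ⧸ Z) = 1 := by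
        have : Z.index = 1 := by rw [hj, pow_zero]
        exact this
      haveI := (Nat.card_eq_one_iff_unique.1 h1).1
      exact isCyclic_of_subsingleton
    · exact isCyclic_of_prime_card (p := p) (by
        have : Z.index = p := by rw [hj, pow_one]
        exact this)
  subst hj2'
  have hQ2 : Nat.card (H ⧸ Z) = p ^ 2 := hj
  have hQab' : IsMulCommutative (H ⧸ Z) := IsPGroup.isMulCommutative_of_card_eq_prime_sq hQ2
  have hQab : ∀ q r : H ⧸ Z, q * r = r * q := fun q r => hQab'.is_comm.comm q r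
  have hQe : ∀ q : H ⧸ Z, q ^ p = 1 := by
    intro q
    have h1 : orderOf q ∣ p ^ 2 := by rw [← hQ2]; exact orderOf_dvd_natCard q
    obtain ⟨k, hk, hk2⟩ := (Nat.dvd_prime_pow hP).1 h1
    have hk' : k ≠ 2 := by
      rintro rfl
      exact hcomm (isCyclic_of_orderOf_eq_card q (by rw [hk2, hQ2]))
    have h2 : orderOf q ∣ p := by
      rw [hk2]
      have : k ≤ 1 := by omega
      exact (pow_dvd_pow p this).trans (by rw [pow_one])
    exact orderOf_dvd_iff_pow_eq_one.1 h2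
  have hpowZ : ∀ x : H, x ^ p ∈ Z := by
    intro x
    have h1 := hQe (QuotientGroup.mk' Z x)
    rw [← map_pow, ← MonoidHom.mem_ker, QuotientGroup.ker_mk'] at h1
    exact h1
  refine ⟨hj, hpowZ, ?_⟩
  -- a basis of the quotient
  obtain ⟨v, hv⟩ : ∃ v : H ⧸ Z, v ≠ 1 := by
    haveI : Nontrivial (H ⧸ Z) := by
      apply Finite.one_lt_card_iff_nontrivial.1
      rw [hQ2]
      exact Nat.one_lt_pow (by norm_num) hP.one_lt
    exact exists_ne 1
  obtain ⟨w, hw⟩ : ∃ w : H ⧸ Z, w ∉ zpowers v := by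
    by_contra hall
    push_neg at hall
    have h1 : zpowers v = ⊤ := by
      ext x
      exact ⟨fun _ => trivial, fun _ => hall x⟩
    have h2 : Nat.card (zpowers v) = p ^ 2 := by rw [h1, Subgroup.card_top, hQ2]
    rw [Nat.card_zpowers, orderOf_eq_prime (hQe v) hv] at h2
    have : p ^ 1 = p ^ 2 := by rw [pow_one]; exact h2
    have := Nat.pow_right_injective hP.two_le this
    omega
  have hb := Cfsg.Agent.S5185.cc_bij hQab hQe hQ2 hv hw
  obtain ⟨r, hr⟩ := QuotientGroup.mk'_surjective Z v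
  obtain ⟨x, hx⟩ := QuotientGroup.mk'_surjective Z w
  have hform : ∀ s : H, ∃ (i j : ℕ) (z : H), z ∈ Z ∧ s = r ^ i * x ^ j * z := by
    intro s
    obtain ⟨u, hu⟩ := hb.2 (QuotientGroup.mk' Z s)
    rw [Cfsg.Agent.S5185.cc_apply, ← hr, ← hx, ← map_pow, ← map_pow, ← map_mul] at hu
    have h2 := QuotientGroup.eq.1 hu
    refine ⟨(Multiplicative.toAdd u 0).val, (Multiplicative.toAdd u 1).val, _, h2, ?_⟩
    rw [mul_inv_cancel_left]
  set a := x * r * x⁻¹ * r⁻¹ with ha
  have haZ : a ∈ Z := by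
    have h1 : QuotientGroup.mk' Z a = 1 := by
      simp only [ha, map_mul, map_inv]
      rw [hQab _ (QuotientGroup.mk' Z r)]
      group
    rw [← MonoidHom.mem_ker, QuotientGroup.ker_mk'] at h1
    exact h1
  have hNn : (zpowers a).Normal := by
    refine ⟨fun n hn g => ?_⟩
    have hc : ∀ m ∈ zpowers a, m ∈ Z := fun m hm => (Subgroup.zpowers_le.2 haZ) hm
    have := (Subgroup.mem_center_iff.1 (hc n hn)) g
    rw [this, mul_inv_cancel_right]
    exact hn
  set N := zpowers a with hN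
  have hcr : Commute (QuotientGroup.mk' N r) (QuotientGroup.mk' N x) := by
    have h1 : QuotientGroup.mk' N a = 1 := by
      rw [← MonoidHom.mem_ker, QuotientGroup.ker_mk']
      exact Subgroup.mem_zpowers a
    simp only [ha, map_mul, map_inv] at h1
    rw [mul_inv_eq_one, mul_inv_eq_iff_eq_mul] at h1
    exact h1.symm
  have hcz : ∀ z ∈ Z, ∀ q : H ⧸ N, Commute (QuotientGroup.mk' N z) q := by
    intro z hz q
    obtain ⟨t, rfl⟩ := QuotientGroup.mk'_surjective N q
    show _ * _ = _ * _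
    rw [← map_mul, ← map_mul, (Subgroup.mem_center_iff.1 hz t).symm]
  have hcomms : ∀ s t : H, s * t * s⁻¹ * t⁻¹ ∈ N := by
    intro s t
    obtain ⟨i, j, z, hz, rfl⟩ := hform s
    obtain ⟨k, l, z', hz', rfl⟩ := hform t
    have h0 : Commute (QuotientGroup.mk' N (r ^ i * x ^ j * z)) (QuotientGroup.mk' N (r ^ k * x ^ l * z')) := by
      simp only [map_mul, map_pow]
      apply Commute.mul_left
      · apply Commute.mul_left
        · apply Commute.mul_right
          · apply Commute.mul_right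
            · exact (Commute.refl _).pow_pow _ _
            · exact hcr.pow_pow _ _
          · exact (hcz z' hz' _).symm
        · apply Commute.mul_right
          · apply Commute.mul_right
            · exact hcr.symm.pow_pow _ _
            · exact (Commute.refl _).pow_pow _ _
          · exact (hcz z' hz' _).symm
      · exact hcz z hz _
    have h1 : QuotientGroup.mk' N ((r ^ i * x ^ j * z) * (r ^ k * x ^ l * z') * (r ^ i * x ^ j * z)⁻¹ * (r ^ k * x ^ l * z')⁻¹) = 1 := by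
      rw [map_mul, map_mul, map_mul, map_inv, map_inv, h0.eq]
      group
    rw [← MonoidHom.mem_ker, QuotientGroup.ker_mk'] at h1
    exact h1
  have ha1 : a ≠ 1 := by
    intro h
    apply hna
    intro s t
    have h1 := hcomms s t
    rw [hN, h, Subgroup.zpowers_one_eq_bot, Subgroup.mem_bot, mul_inv_eq_one, mul_inv_eq_iff_eq_mul] at h1
    exact h1
  have hap : a ^ p = 1 := by
    have hst : ∀ n : ℕ, x ^ n * r * (x ^ n)⁻¹ = a ^ n * r := by
      intro n
      induction n with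
      | zero => simp
      | succ n ih =>
        have e : x ^ (n + 1) * r * (x ^ (n + 1))⁻¹ = x * (x ^ n * r * (x ^ n)⁻¹) * x⁻¹ := by
          rw [pow_succ']
          group
        rw [e, ih, pow_succ']
        have h2 : x * (a ^ n * r) * x⁻¹ = a ^ n * (x * r * x⁻¹) := by
          have hc : x * a ^ n = a ^ n * x := (Subgroup.mem_center_iff.1 (Z.pow_mem haZ n) x)
          rw [← mul_assoc, hc]
          group
        rw [h2]
        have h3 : x * r * x⁻¹ = a * r := by
          rw [ha]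
          group
        rw [h3]
        have hc : a * a ^ n = a ^ n * a := (Commute.self_pow a n).eq
        rw [hc]
        group
    have h1 := hst p
    have h2 := (Subgroup.mem_center_iff.1 (hpowZ x)) r
    rw [← h2, mul_inv_cancel_right] at h1
    exact (mul_eq_right.1 h1.symm)
  exact ⟨a, x, r, rfl, haZ, ha1, hap, hcomms⟩

end abstract

section fusion

variable {Ω : Type*} [Group Ω] {S : Subgroup Ω} [Finite S] {p : ℕ} [hp : Fact p.Prime]

/-- the centre of `S` inside `Ω` -/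
abbrev Zs (S : Subgroup Ω) : Subgroup Ω := S ⊓ Subgroup.centralizer (S : Set Ω)

theorem mem_Zs {z : Ω} : z ∈ Zs S ↔ z ∈ S ∧ ∀ s ∈ S, s * z = z * s := by
  rw [Subgroup.mem_inf, Subgroup.mem_centralizer_iff]
  rfl

theorem Zs_eq_map : Zs S = (center S).map S.subtype := by
  ext z
  rw [mem_Zs]
  constructor
  · rintro ⟨hz, h⟩
    refine ⟨⟨z, hz⟩, Subgroup.mem_center_iff.2 fun g => Subtype.ext (h g g.2), rfl⟩
  · rintro ⟨⟨w, hw⟩, hc, rfl⟩
    refine ⟨hw, fun s hs => ?_⟩
    exact congrArg Subtype.val (Subgroup.mem_center_iff.1 hc ⟨s, hs⟩)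

/-- the basic structure of a group whose centre has index `p²` -/
structure Ctx (S : Subgroup Ω) (p : ℕ) (a : Ω) : Prop where
  ha : a ∈ Zs S
  ha1 : a ≠ 1
  hap : a ^ p = 1
  hcomm : ∀ s ∈ S, ∀ t ∈ S, s * t * s⁻¹ * t⁻¹ ∈ zpowers a
  hidx : (center S).index = p ^ 2
  hpow : ∀ s ∈ S, s ^ p ∈ Zs S
  hgen : ∃ x ∈ S, ∃ r ∈ S, a = x * r * x⁻¹ * r⁻¹

theorem exists_ctx (hS : IsPGroup p S) (hna : ¬ ∀ a b : S, a * b = b * a) (hZ : (center S).index ≤ p ^ 2) : ∃ a, Ctx S p a := by
  obtain ⟨h1, h2, a, x, r, e, h3, h4, h5, h6⟩ := setup_abs hS hna hZ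
  have hmemZ : ∀ z : S, z ∈ center S → (z : Ω) ∈ Zs S := by
    intro z hz
    rw [Zs_eq_map]
    exact ⟨z, hz, rfl⟩
  refine ⟨(a : Ω), ⟨hmemZ a h3, fun h => h4 (Subtype.ext h), congrArg Subtype.val h5, ?_, h1, ?_, ?_⟩⟩
  · intro s hs t ht
    obtain ⟨n, hn⟩ := h6 ⟨s, hs⟩ ⟨t, ht⟩
    refine ⟨n, ?_⟩
    have := congrArg Subtype.val hn
    simpa using this
  · intro s hs
    exact hmemZ _ (h2 ⟨s, hs⟩)
  · refine ⟨x, x.2, r, r.2, ?_⟩
    rw [e]
    rfl

/-- `R` is an abelian subgroup strictly between `Z(S)` and `S` -/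
structure Good (S : Subgroup Ω) (R : Subgroup Ω) : Prop where
  le : R ≤ S
  hZ : Zs S ≤ R
  ne : R ≠ S
  ne' : Zs S ≠ R
  ab : ∀ y y' : R, y * y' = y' * y

variable {a : Ω} {R : Subgroup Ω}

theorem card_Zs_mul (hc : Ctx S p a) : Nat.card S = p ^ 2 * Nat.card (Zs S) := by
  have h1 := Subgroup.card_mul_index (center S)
  rw [hc.hidx] at h1
  have h2 : Nat.card (Zs S) = Nat.card (center S) := by
    rw [Zs_eq_map]
    exact Subgroup.card_map_of_injective (Subgroup.subtype_injective S)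
  rw [h2, ← h1, mul_comm]

theorem card_between (hS : IsPGroup p S) (hc : Ctx S p a) (hle : R ≤ S) (hZ : Zs S ≤ R) (hne : R ≠ S) (hne' : Zs S ≠ R) :
    Nat.card R = p * Nat.card (Zs S) ∧ Nat.card S = p * Nat.card R := by
  have hP : p.Prime := Fact.out
  have hcS := card_Zs_mul hc
  haveI : Finite R := finite_of_le hle
  haveI : Finite (Zs S) := finite_of_le inf_le_left
  obtain ⟨d, hd⟩ : Nat.card (Zs S) ∣ Nat.card R := Subgroup.card_dvd_of_le hZ
  obtain ⟨e, he⟩ : Nat.card R ∣ Nat.card S := Subgroup.card_dvd_of_le hle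
  have hpos : 0 < Nat.card (Zs S) := Nat.card_pos
  have h1 : d * e = p ^ 2 := by
    rw [he, hd] at hcS
    have : Nat.card (Zs S) * (d * e) = Nat.card (Zs S) * p ^ 2 := by
      rw [← mul_assoc, hcS]
      ring
    exact Nat.eq_of_mul_eq_mul_left hpos this
  have hd2 : d ∣ p ^ 2 := ⟨e, h1.symm⟩
  obtain ⟨i, hi, rfl⟩ := (Nat.dvd_prime_pow hP).1 hd2
  have he2 : e ∣ p ^ 2 := ⟨p ^ i, by rw [← h1, mul_comm]⟩
  obtain ⟨j, hj, rfl⟩ := (Nat.dvd_prime_pow hP).1 he2
  have hi0 : i ≠ 0 := by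
    rintro rfl
    exact hne' (Subgroup.eq_of_le_of_card_ge hZ (by rw [hd, pow_zero, mul_one]))
  have hj0 : j ≠ 0 := by
    rintro rfl
    exact hne (Subgroup.eq_of_le_of_card_ge hle (by rw [he, pow_zero, mul_one]))
  have hij : i + j = 2 := by
    rw [← pow_add] at h1
    exact Nat.pow_right_injective hP.two_le h1
  have hi1 : i = 1 := by omega
  have hj1 : j = 1 := by omega
  subst hi1 hj1
  constructor
  · rw [hd, pow_one, mul_comm]
  · rw [he, pow_one, mul_comm]

theorem good_card (hS : IsPGroup p S) (hc : Ctx S p a) (hR : Good S R) :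
    Nat.card R = p * Nat.card (Zs S) ∧ Nat.card S = p * Nat.card R :=
  card_between hS hc hR.le hR.hZ hR.ne hR.ne'

theorem good_index (hS : IsPGroup p S) (hc : Ctx S p a) (hR : Good S R) : ((Zs S).subgroupOf R).index = p := by
  have hP : p.Prime := Fact.out
  haveI : Finite R := finite_of_le hR.le
  haveI : Finite (Zs S) := finite_of_le inf_le_left
  have h1 := Subgroup.card_mul_index ((Zs S).subgroupOf R)
  have h2 : Nat.card ((Zs S).subgroupOf R) = Nat.card (Zs S) := Nat.card_congr (Subgroup.subgroupOfEquivOfLe hR.hZ).toEquiv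
  rw [h2, (good_card hS hc hR).1, mul_comm p] at h1
  exact Nat.eq_of_mul_eq_mul_left Nat.card_pos h1

theorem good_normal (hc : Ctx S p a) (hR : Good S R) {s y : Ω} (hs : s ∈ S) (hy : y ∈ R) : s * y * s⁻¹ ∈ R := by
  obtain ⟨n, hn⟩ := hc.hcomm s hs y (hR.le hy)
  have h1 : a ^ n = s * y * s⁻¹ * y⁻¹ := hn
  have h2 : s * y * s⁻¹ = a ^ n * y := by
    rw [h1]
    group
  rw [h2]
  exact R.mul_mem (R.zpow_mem (hR.hZ hc.ha) n) hy

theorem good_fn (hc : Ctx S p a) (hR : Good S R) (F : Cfsg.FusionSystem S) : F.IsFullyNormalized R := by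
  haveI : Finite R := finite_of_le hR.le
  refine ⟨hR.le, fun Q hQ => ?_⟩
  haveI := finite_normalizerIn (S := S) Q
  haveI := finite_normalizerIn (S := S) R
  have h1 : normalizerIn S R = S := by
    apply le_antisymm inf_le_left
    intro s hs
    exact Subgroup.mem_inf.2 ⟨hs, mem_normalizer_of_conj_le' fun y hy => good_normal hc hR hs hy⟩
  rw [h1]
  exact Subgroup.card_le_of_le inf_le_left

/-- the data needed for the abstract transvection lemmas -/
theorem data_R (hS : IsPGroup p S) {F : Cfsg.FusionSystem S} (hF : F.IsSaturated p) (hc : Ctx S p a) (hR : Good S R) :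
    (∀ W : Subgroup (MulAut R), IsPGroup p W → W ≤ F.autGroup R → autInducedBy S R ≤ W → W = autInducedBy S R) ∧
    autInducedBy S R ≤ F.autGroup R ∧ ((Zs S).subgroupOf R).index = p ∧
    (⟨a, hR.hZ hc.ha⟩ : R) ∈ (Zs S).subgroupOf R ∧ (⟨a, hR.hZ hc.ha⟩ : R) ^ p = 1 ∧
    ∀ κ ∈ autInducedBy S R, IsTv ((Zs S).subgroupOf R) (⟨a, hR.hZ hc.ha⟩ : R) κ := by
  haveI : Finite R := finite_of_le hR.le
  have hFA := fullyAutomized_of_fullyNormalized hS F hF (good_fn hc hR F)
  have hTA := autInduced_le_autGroup F hR.le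
  refine ⟨?_, hTA, good_index hS hc hR, Subgroup.mem_subgroupOf.2 hc.ha, Subtype.ext hc.hap, ?_⟩
  · intro W hW hWA hTW
    obtain ⟨P, hP⟩ := hFA.2
    have h1 : IsPGroup p (W.subgroupOf (F.autGroup R)) := hW.comap_of_injective _ Subtype.coe_injective
    have h2 : (P : Subgroup (F.autGroup R)) ≤ W.subgroupOf (F.autGroup R) := by
      rw [hP]
      intro x hx
      exact Subgroup.mem_subgroupOf.2 (hTW (Subgroup.mem_subgroupOf.1 hx))
    have h3 := P.is_maximal' h1 h2
    apply le_antisymm _ hTW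
    intro w hw
    have h4 : (⟨w, hWA hw⟩ : F.autGroup R) ∈ W.subgroupOf (F.autGroup R) := Subgroup.mem_subgroupOf.2 hw
    rw [h3, hP] at h4
    exact Subgroup.mem_subgroupOf.1 h4
  · intro κ hκ
    obtain ⟨s, hs, e⟩ := mem_autInducedBy'.1 hκ
    constructor
    · intro z hz
      apply Subtype.ext
      rw [e]
      have hz' : (z : Ω) ∈ Zs S := Subgroup.mem_subgroupOf.1 hz
      rw [(mem_Zs.1 hz').2 s hs, mul_inv_cancel_right]
    · intro y
      obtain ⟨n, hn⟩ := hc.hcomm s hs y (hR.le y.2)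
      refine ⟨n, ?_⟩
      apply Subtype.ext
      have hn' : a ^ n = s * y * s⁻¹ * (y : Ω)⁻¹ := hn
      show a ^ n = ((κ y : R) : Ω) * (y : Ω)⁻¹
      rw [hn', e]

/-- elements of `Aut_F(R)` normalizing `Aut_S(R)` extend to `S` -/
theorem ext_aut (hS : IsPGroup p S) {F : Cfsg.FusionSystem S} (hF : F.IsSaturated p) (hc : Ctx S p a) (hR : Good S R)
    {t : MulAut R} (ht : t ∈ F.autGroup R) (hn : t ∈ Subgroup.normalizer (autInducedBy S R : Set (MulAut R))) :
    ∃ θ ∈ F.autGroup S, ∀ y : R, ((θ ⟨y, hR.le y.2⟩ : S) : Ω) = ((t y : R) : Ω) := by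
  classical
  haveI : Finite R := finite_of_le hR.le
  have hrec := receptive_of_fullyNormalized hS F hF (good_fn hc hR F)
  have hφ : R.subtype.comp t.toMonoidHom ∈ F.Hom R := (mem_autGroup_iff F hR.le).1 ht
  have hrange : (R.subtype.comp t.toMonoidHom).range = R := by
    ext y
    constructor
    · rintro ⟨x, rfl⟩
      exact (t x).2
    · intro hy
      refine ⟨t.symm ⟨y, hy⟩, ?_⟩
      show ((t (t.symm ⟨y, hy⟩) : R) : Ω) = y
      simp
  obtain ⟨ψ, hψ, eψ⟩ := hrec.2 R _ hφ hrange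
  have hSext : S ≤ extender S R (R.subtype.comp t.toMonoidHom) := by
    intro s hs
    apply Subgroup.subset_closure
    have hsn : s ∈ Subgroup.normalizer (R : Set Ω) := mem_normalizer_of_conj_le' fun y hy => good_normal hc hR hs hy
    have hind : cAut R ⟨s, hsn⟩ ∈ autInducedBy S R := mem_autInducedBy'.2 ⟨s, hs, fun x => rfl⟩
    have h1 : t * cAut R ⟨s, hsn⟩ * t⁻¹ ∈ autInducedBy S R := (Subgroup.mem_normalizer_iff.1 hn _).1 hind
    obtain ⟨h, hh, e⟩ := mem_autInducedBy'.1 h1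
    refine ⟨hs, hsn, h, hh, fun x hx => ?_⟩
    have h2 := e (t x)
    have h3 : (t * cAut R ⟨s, hsn⟩ * t⁻¹) (t x) = t (cAut R ⟨s, hsn⟩ x) := by
      show t (cAut R ⟨s, hsn⟩ (t⁻¹ (t x))) = _
      simp
    rw [h3] at h2
    exact h2
  have hres := res_mem F hSext hψ
  obtain ⟨θ, hθ, e⟩ := aut_of (⟨le_rfl, fun _ _ _ hφ x => val_mem F hφ x⟩ : F.StronglyClosed S) hres
  refine ⟨θ, hθ, fun y => ?_⟩
  rw [e]
  exact eψ y y.2 (hSext (hR.le y.2))

/-- a `p`-element of `Aut_F(S)` acts trivially on the centre -/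
theorem center_fix (hS : IsPGroup p S) {F : Cfsg.FusionSystem S} (hF : F.IsSaturated p) {ρ : MulAut S} (hρ : ρ ∈ F.autGroup S)
    (h : ∀ z : S, (z : Ω) ∈ Zs S → (ρ ^ p) z = z) : ∀ z : S, (z : Ω) ∈ Zs S → ρ z = z := by
  have hP : p.Prime := Fact.out
  have hFA := fullyAutomized_of_fullyNormalized hS F hF (fullyNormalized_top hS F)
  obtain ⟨b, c, hc, he⟩ := Nat.exists_eq_pow_mul_and_not_dvd (orderOf_pos ρ).ne' p hP.ne_one
  have hzS : ∀ (α : MulAut S) (z : S), (z : Ω) ∈ Zs S → ((α z : S) : Ω) ∈ Zs S := by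
    intro α z hz
    rw [Zs_eq_map] at hz ⊢
    obtain ⟨w, hw, e⟩ := hz
    have e' : w = z := Subtype.ext e
    subst e'
    have hw' : w ∈ center S := hw
    refine ⟨α w, ?_, rfl⟩
    show α w ∈ center S
    rw [Subgroup.mem_center_iff] at hw' ⊢
    intro g
    have := hw' (α.symm g)
    have h2 := congrArg α this
    simpa using h2
  have hc1 : ∀ z : S, (z : Ω) ∈ Zs S → (ρ ^ c) z = z := by
    have hord : orderOf (ρ ^ c) = p ^ b := by
      rw [orderOf_pow_of_dvd (by
        rintro rfl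
        exact hc (dvd_zero _)) ⟨p ^ b, by rw [he, mul_comm]⟩]
      rw [he]
      exact Nat.mul_div_cancel _ (Nat.pos_of_ne_zero (by
        rintro rfl
        exact hc (dvd_zero _)))
    have hBp : IsPGroup p (zpowers (ρ ^ c)) := IsPGroup.of_card (n := b) (by rw [Nat.card_zpowers, hord])
    have hB : zpowers (ρ ^ c) ≤ F.autGroup S := Subgroup.zpowers_le.2 (Subgroup.pow_mem _ hρ c)
    obtain ⟨α, hα, hconj⟩ := exists_conj_aut hS F hFA hB hBp
    obtain ⟨s, hs, es⟩ := mem_autInducedBy'.1 (hconj _ (Subgroup.mem_zpowers _))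
    intro z hz
    have h1 := es (α z)
    have h2 := (mem_Zs.1 (hzS α z hz)).2 s hs
    rw [h2, mul_inv_cancel_right] at h1
    have h3 : (α * ρ ^ c * α⁻¹) (α z) = α z := Subtype.ext h1
    have h4 : (α * ρ ^ c * α⁻¹) (α z) = α ((ρ ^ c) z) := by
      show α ((ρ ^ c) (α⁻¹ (α z))) = _
      simp
    rw [h4] at h3
    exact α.injective h3
  -- Bezout
  have hco : IsCoprime (p : ℤ) (c : ℤ) := by
    rw [Int.isCoprime_iff_gcd_eq_one]
    have : Nat.Coprime p c := (Nat.Prime.coprime_iff_not_dvd hP).2 hc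
    simpa using this
  obtain ⟨x, y, hxy⟩ := hco
  let K : Subgroup (MulAut S) :=
    { carrier := {κ | ∀ z : S, (z : Ω) ∈ Zs S → κ z = z}
      one_mem' := fun _ _ => rfl
      mul_mem' := by
        intro κ κ' h1 h2 z hz
        show κ (κ' z) = z
        rw [h2 z hz, h1 z hz]
      inv_mem' := by
        intro κ h1 z hz
        apply (MulEquiv.symm_apply_eq κ).2
        exact (h1 z hz).symm }
  have hK1 : ρ ^ p ∈ K := h
  have hK2 : ρ ^ c ∈ K := hc1
  have e : ρ = (ρ ^ p) ^ x * (ρ ^ c) ^ y := by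
    rw [← zpow_natCast, ← zpow_natCast, ← zpow_mul, ← zpow_mul, ← zpow_add]
    have : (p : ℤ) * x + c * y = 1 := by linarith [hxy]
    rw [this, zpow_one]
  have hρK : ρ ∈ K := by
    rw [e]
    exact K.mul_mem (K.zpow_mem hK1 x) (K.zpow_mem hK2 y)
  exact hρK

end fusion

end Cfsg.Agent.Lib.FusTransv2
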