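import Mathlib
import Cfsg.Agent.Lib.FusTransv2

set_option autoImplicit false
set_option linter.unusedSectionVars false

/-! Saturated fusion systems over a nonabelian `p`-group with an abelian subgroup of index `p`. -/

namespace Cfsg.Agent.Lib.FusAbIdx

open scoped commutatorElement
open Subgroup Cfsg Cfsg.FusionSystem Cfsg.Agent.Lib.FusBasic Cfsg.Agent.Lib.FusAut Cfsg.Agent.Lib.FusSat Cfsg.Agent.Lib.FusNorm Cfsg.Agent.Lib.FusTransv Cfsg.Agent.Lib.FusTransv2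

section abstract

variable {G : Type*} [CommGroup G] [Finite G] {p : ℕ} [hp : Fact p.Prime]

/-- A Sylow subgroup of transvection type with a non-normalizing element has order `p`. -/
theorem T_order (hG : IsPGroup p G) {A T : Subgroup (MulAut G)}
    (hmax : ∀ W : Subgroup (MulAut G), IsPGroup p W → W ≤ A → T ≤ W → W = T) (hTA : T ≤ A) (hTp : IsPGroup p T)
    {Zh : Subgroup G} (hi : Zh.index = p) (hT : ∀ κ ∈ T, (∀ z ∈ Zh, κ z = z) ∧ ∀ y, κ y * y⁻¹ ∈ Zh)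
    {g : MulAut G} (hg : g ∈ A) (hgn : g ∉ Subgroup.normalizer (T : Set (MulAut G))) {τ : MulAut G} (hτ : τ ∈ T) (hτ1 : τ ≠ 1) :
    τ ^ p = 1 ∧ ∀ κ ∈ T, ∃ i : ℤ, κ = τ ^ i := by
  classical
  have hP : p.Prime := Fact.out
  have hU : T ≤ K3 Zh Zh le_rfl := fun κ hκ => ⟨(hT κ hκ).2, fun x _ => (hT κ hκ).2 x, (hT κ hκ).1⟩
  have hUT : ∀ κ ∈ K3 Zh Zh le_rfl, κ ∈ A → κ ∈ T := by
    intro κ h1 h2
    have h3 := hmax (K3 Zh Zh le_rfl ⊓ A) ((K3_pgroup hG Zh Zh le_rfl).to_le inf_le_left) inf_le_right (le_inf hU hTA)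
    rw [← h3]
    exact Subgroup.mem_inf.2 ⟨h1, h2⟩
  have hinv : ∀ (h : MulAut G), (∀ z ∈ Zh, h z ∈ Zh) → ∀ z ∈ Zh, h⁻¹ z ∈ Zh := by
    intro h h1 z hz
    have hle : Zh.map h.toMonoidHom ≤ Zh := by
      rintro _ ⟨w, hw, rfl⟩
      exact h1 w hw
    have hc : Nat.card Zh ≤ Nat.card (Zh.map h.toMonoidHom) :=
      (Subgroup.card_map_of_injective h.injective).ge
    have he := Subgroup.eq_of_le_of_card_ge hle hc
    have hz' : z ∈ Zh.map h.toMonoidHom := by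
      rw [he]
      exact hz
    obtain ⟨w, hw, rfl⟩ := hz'
    have : h⁻¹ (h w) = w := by simp
    show h⁻¹ (h w) ∈ Zh
    rw [this]
    exact hw
  have hconjK : ∀ (h : MulAut G), (∀ z ∈ Zh, h z ∈ Zh) → (∀ z ∈ Zh, h⁻¹ z ∈ Zh) → ∀ κ ∈ K3 Zh Zh le_rfl, h * κ * h⁻¹ ∈ K3 Zh Zh le_rfl := by
    rintro h h1 h2 κ ⟨k1, k2, k3⟩
    have e1 : ∀ x, (h * κ * h⁻¹) x * x⁻¹ = h (κ (h⁻¹ x) * (h⁻¹ x)⁻¹) := by
      intro x
      have : h (h⁻¹ x) = x := by simp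
      show h (κ (h⁻¹ x)) * x⁻¹ = _
      rw [map_mul, map_inv, this]
    refine ⟨fun x => ?_, fun x _ => ?_, fun x hx => ?_⟩
    · rw [e1]
      exact h1 _ (k1 _)
    · rw [e1]
      exact h1 _ (k1 _)
    · show h (κ (h⁻¹ x)) = x
      rw [k3 _ (h2 x hx)]
      simp
  have hnormZ : ∀ h ∈ A, (∀ z ∈ Zh, h z ∈ Zh) → h ∈ Subgroup.normalizer (T : Set (MulAut G)) := by
    intro h hh hpres
    have hpres' := hinv h hpres
    rw [Subgroup.mem_normalizer_iff]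
    intro κ
    constructor
    · intro hκ
      exact hUT _ (hconjK h hpres hpres' κ (hU hκ)) (A.mul_mem (A.mul_mem hh (hTA hκ)) (A.inv_mem hh))
    · intro hκ
      have h3 := hconjK h⁻¹ hpres' (by simpa using hpres) _ (hU hκ)
      have e : h⁻¹ * (h * κ * h⁻¹) * h⁻¹⁻¹ = κ := by group
      rw [e] at h3
      have hκA : κ ∈ A := by
        have e2 : κ = h⁻¹ * (h * κ * h⁻¹) * h := by group
        rw [e2]
        exact A.mul_mem (A.mul_mem (A.inv_mem hh) (hTA hκ)) hh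
      exact hUT _ h3 hκA
  obtain ⟨z₀, hz₀, hgz₀⟩ : ∃ z₀ ∈ Zh, g z₀ ∉ Zh := by
    by_contra hall
    push_neg at hall
    exact hgn (hnormZ g hg hall)
  set y := g z₀ with hy
  set Zh' := Zh.map g.toMonoidHom with hZh'
  have hi' : Zh'.index = p := by rw [hZh', index_map_aut, hi]
  have hfix : ∀ t ∈ T, t ≠ 1 → t y * y⁻¹ ∉ Zh' := by
    intro t ht ht1 hc
    have hcZ : t y * y⁻¹ ∈ Zh := (hT t ht).2 y
    have hfixt := (hT t ht).1
    have ht' : ∀ w ∈ Zh', t w ∈ Zh' := by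
      intro w hw
      obtain ⟨z, hz, j, e⟩ := top_eq_sup hi hgz₀ w
      have hyZ' : y ∈ Zh' := ⟨z₀, hz₀, rfl⟩
      have hzZ' : z ∈ Zh' := by
        have : z = w * (y ^ j)⁻¹ := by rw [e]; simp
        rw [this]
        exact Zh'.mul_mem hw (Zh'.inv_mem (Zh'.zpow_mem hyZ' j))
      have e2 : t w = w * (t y * y⁻¹) ^ j := by
        rw [e, map_mul, map_zpow, hfixt z hz, mul_zpow, inv_zpow]
        rw [mul_assoc]
        congr 1
        rw [mul_comm, mul_assoc, inv_mul_cancel, mul_one]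
      rw [e2]
      exact Zh'.mul_mem hw (Zh'.zpow_mem hc j)
    have hhA : g⁻¹ * t * g ∈ A := A.mul_mem (A.mul_mem (A.inv_mem hg) (hTA ht)) hg
    have hpres : ∀ z ∈ Zh, (g⁻¹ * t * g) z ∈ Zh := by
      intro z hz
      obtain ⟨w, hw, e⟩ := ht' (g z) ⟨z, hz, rfl⟩
      show g⁻¹ (t (g z)) ∈ Zh
      rw [← e]
      have : g⁻¹ (g w) = w := by simp
      show g⁻¹ (g w) ∈ Zh
      rw [this]
      exact hw
    have hN := hnormZ _ hhA hpres
    have hpow : IsPGroup p (zpowers (g⁻¹ * t * g)) := by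
      obtain ⟨k, hk⟩ := hTp ⟨t, ht⟩
      have hk' : t ^ (p ^ k) = 1 := congrArg Subtype.val hk
      have h1 : (g⁻¹ * t * g) ^ (p ^ k) = 1 := by
        have e : g⁻¹ * t * g = g⁻¹ * t * g⁻¹⁻¹ := by rw [inv_inv]
        rw [e, conj_pow, hk']
        simp
      obtain ⟨j, -, hj⟩ := (Nat.dvd_prime_pow hP).1 (orderOf_dvd_of_pow_eq_one h1)
      exact IsPGroup.of_card (n := j) (by rw [Nat.card_zpowers, hj])
    have hW : IsPGroup p ↥(zpowers (g⁻¹ * t * g) ⊔ T) :=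
      IsPGroup.to_sup_of_normal_right' hpow hTp (Subgroup.zpowers_le.2 hN)
    have h3 := hmax _ hW (sup_le (Subgroup.zpowers_le.2 hhA) hTA) le_sup_right
    have hhT : g⁻¹ * t * g ∈ T := by
      rw [← h3]
      exact (le_sup_left : zpowers (g⁻¹ * t * g) ≤ _) (Subgroup.mem_zpowers _)
    have h4 := (hT _ hhT).1 z₀ hz₀
    have hty : t y = y := by
      have e : g⁻¹ (t (g z₀)) = z₀ := h4
      have e2 := (MulEquiv.symm_apply_eq g).1 e
      exact e2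
    apply ht1
    ext x
    obtain ⟨z, hz, j, e⟩ := top_eq_sup hi hgz₀ x
    rw [e, map_mul, map_zpow, hfixt z hz, hty]
    rfl
  have hc₀Z : τ y * y⁻¹ ∈ Zh := (hT τ hτ).2 y
  have hc₀n := hfix τ hτ hτ1
  set c₀ := τ y * y⁻¹ with hc₀
  have hτy : τ y = c₀ * y := by rw [hc₀]; simp
  have hτj : ∀ j : ℤ, (τ ^ j) y = c₀ ^ j * y := by
    intro j
    induction j using Int.induction_on with
    | zero => simp
    | succ n ih =>
      rw [zpow_add_one, MulAut.mul_apply, hτy, map_mul, ih, (hT _ (T.zpow_mem hτ _)).1 _ hc₀Z, zpow_add_one]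
      simp only [zpow_natCast, mul_comm, mul_left_comm, mul_assoc]
    | pred n ih =>
      have h1 : τ⁻¹ y = c₀⁻¹ * y := by
        apply (MulEquiv.symm_apply_eq τ).2
        rw [map_mul, map_inv, (hT τ hτ).1 _ hc₀Z, hτy]
        simp
      rw [zpow_sub_one, MulAut.mul_apply, h1, map_mul, map_inv, ih, (hT _ (T.zpow_mem hτ _)).1 _ hc₀Z, zpow_sub_one]
      simp only [mul_comm, mul_left_comm, mul_assoc]
  constructor
  · by_contra hne
    apply hfix (τ ^ p) (T.pow_mem hτ p) hne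
    have e : (τ ^ p) y * y⁻¹ = c₀ ^ p := by
      have := hτj p
      rw [zpow_natCast, zpow_natCast] at this
      rw [this]
      simp
    rw [e, ← hi']
    exact Subgroup.pow_index_mem Zh' c₀
  · intro κ hκ
    obtain ⟨u, hu, i, e⟩ := top_eq_sup hi' hc₀n (κ y * y⁻¹)
    refine ⟨i, ?_⟩
    by_contra hne
    have h1 : κ * (τ ^ i)⁻¹ ≠ 1 := fun h => hne (mul_inv_eq_one.1 h)
    apply hfix _ (T.mul_mem hκ (T.inv_mem (T.zpow_mem hτ i))) h1
    have e2 : (κ * (τ ^ i)⁻¹) y * y⁻¹ = u := by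
      have h2 : (τ ^ i)⁻¹ y = (c₀ ^ i)⁻¹ * y := by
        apply (MulEquiv.symm_apply_eq _).2
        rw [map_mul, map_inv, hτj, (hT _ (T.zpow_mem hτ _)).1 _ (Zh.zpow_mem hc₀Z i)]
        simp
      rw [MulAut.mul_apply, h2, map_mul, map_inv, (hT κ hκ).1 _ (Zh.zpow_mem hc₀Z i)]
      have h3 : κ y = u * c₀ ^ i * y := by rw [← e]; simp
      rw [h3]
      simp [mul_comm, mul_left_comm, mul_assoc]
    rw [e2]
    exact hu

end abstract

section generic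

variable {Ω : Type*} [Group Ω] {p : ℕ} [hp : Fact p.Prime]

theorem index_of_dec {T H : Subgroup Ω} [Finite T] (hHT : H ≤ T) (hn : ∀ t ∈ T, ∀ c ∈ H, t * c * t⁻¹ ∈ H) {y : Ω} (hy : y ∈ T) (hyH : y ∉ H)
    (hyp : y ^ p ∈ H) (hdec : ∀ t ∈ T, ∃ i : ℤ, (y ^ i)⁻¹ * t ∈ H) : (H.subgroupOf T).index = p := by
  have hP : p.Prime := Fact.out
  haveI hN : (H.subgroupOf T).Normal := ⟨fun c hc g => Subgroup.mem_subgroupOf.2 (hn g g.2 c hc)⟩
  set q : T ⧸ H.subgroupOf T := QuotientGroup.mk' _ (⟨y, hy⟩ : T) with hq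
  have hq1 : q ≠ 1 := by
    intro h
    rw [hq, ← MonoidHom.mem_ker, QuotientGroup.ker_mk'] at h
    exact hyH (Subgroup.mem_subgroupOf.1 h)
  have hqp : q ^ p = 1 := by
    rw [hq, ← map_pow, ← MonoidHom.mem_ker, QuotientGroup.ker_mk']
    exact Subgroup.mem_subgroupOf.2 hyp
  have hord : orderOf q = p := orderOf_eq_prime hqp hq1
  have htop : zpowers q = ⊤ := by
    rw [eq_top_iff]
    intro r _
    obtain ⟨t, rfl⟩ := QuotientGroup.mk'_surjective _ r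
    obtain ⟨i, hi⟩ := hdec t t.2
    refine ⟨i, ?_⟩
    show q ^ i = _
    rw [hq, ← map_zpow]
    apply QuotientGroup.eq.2
    apply Subgroup.mem_subgroupOf.2
    simpa using hi
  show Nat.card (T ⧸ H.subgroupOf T) = p
  rw [← Subgroup.card_top, ← htop, Nat.card_zpowers, hord]

theorem dec_of_index {T H : Subgroup Ω} [Finite T] (hT : IsPGroup p T) (hi : (H.subgroupOf T).index = p) {y : Ω} (hy : y ∈ T) (hyH : y ∉ H) :
    (∀ t ∈ T, ∀ c ∈ H, c ∈ T → t * c * t⁻¹ ∈ H) ∧ y ^ p ∈ H ∧ ∀ t ∈ T, ∃ i : ℤ, (y ^ i)⁻¹ * t ∈ H := by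
  have hP : p.Prime := Fact.out
  obtain ⟨n, hn⟩ := IsPGroup.iff_card.1 hT
  have hn0 : n ≠ 0 := by
    rintro rfl
    have h1 : Nat.card T = 1 := by rw [hn, pow_zero]
    have h2 : (H.subgroupOf T).index ∣ Nat.card T := Subgroup.index_dvd_card _
    rw [hi, h1] at h2
    exact hP.one_lt.ne' (Nat.dvd_one.1 h2)
  haveI hN : (H.subgroupOf T).Normal := by
    apply Subgroup.normal_of_index_eq_minFac_card
    rw [hi, hn, Nat.Prime.pow_minFac hP hn0]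
  set q : T ⧸ H.subgroupOf T := QuotientGroup.mk' _ (⟨y, hy⟩ : T) with hq
  have hq1 : q ≠ 1 := by
    intro h
    rw [hq, ← MonoidHom.mem_ker, QuotientGroup.ker_mk'] at h
    exact hyH (Subgroup.mem_subgroupOf.1 h)
  have hcq : Nat.card (T ⧸ H.subgroupOf T) = p := hi
  have hqp : q ^ p = 1 := by
    rw [← hcq]
    exact pow_card_eq_one'
  have hord : orderOf q = p := orderOf_eq_prime hqp hq1
  have htop : zpowers q = ⊤ := Subgroup.eq_top_of_card_eq _ (by rw [Nat.card_zpowers, hord, hcq])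
  refine ⟨fun t ht c hc hcT => ?_, ?_, fun t ht => ?_⟩
  · have h1 : (⟨c, hcT⟩ : T) ∈ H.subgroupOf T := Subgroup.mem_subgroupOf.2 hc
    exact Subgroup.mem_subgroupOf.1 (hN.conj_mem _ h1 ⟨t, ht⟩)
  · rw [hq, ← map_pow, ← MonoidHom.mem_ker, QuotientGroup.ker_mk'] at hqp
    exact Subgroup.mem_subgroupOf.1 hqp
  · have h1 : QuotientGroup.mk' (H.subgroupOf T) (⟨t, ht⟩ : T) ∈ zpowers q := by
      rw [htop]
      trivial
    obtain ⟨i, hi'⟩ := h1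
    refine ⟨i, ?_⟩
    have hi2 : q ^ i = _ := hi'
    rw [hq, ← map_zpow] at hi2
    have h3 := QuotientGroup.eq.1 hi2
    have h4 := Subgroup.mem_subgroupOf.1 h3
    simpa using h4

end generic

section fusion

variable {Ω : Type*} [Group Ω] {S : Subgroup Ω} [Finite S] {p : ℕ} [hp : Fact p.Prime] {A P : Subgroup Ω} {F : Cfsg.FusionSystem S}

/-- `A` is an abelian subgroup of index `p` in the nonabelian group `S` -/
structure AbI (S A : Subgroup Ω) (p : ℕ) : Prop where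
  le : A ≤ S
  ab : ∀ x ∈ A, ∀ y ∈ A, x * y = y * x
  idx : (A.subgroupOf S).index = p
  na : ∃ s ∈ S, ∃ t ∈ S, s * t ≠ t * s

theorem exists_out (h : AbI S A p) : ∃ x ∈ S, x ∉ A := by
  by_contra hall
  push_neg at hall
  obtain ⟨s, hs, t, ht, e⟩ := h.na
  exact e (h.ab s (hall s hs) t (hall t ht))

theorem dec (hS : IsPGroup p S) (h : AbI S A p) {x : Ω} (hx : x ∈ S) (hxA : x ∉ A) :
    x ^ p ∈ A ∧ ∀ t ∈ S, ∃ i : ℤ, (x ^ i)⁻¹ * t ∈ A := by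
  obtain ⟨-, h2, h3⟩ := dec_of_index hS h.idx hx hxA
  exact ⟨h2, h3⟩

theorem nrm (hS : IsPGroup p S) (h : AbI S A p) {t c : Ω} (ht : t ∈ S) (hc : c ∈ A) : t * c * t⁻¹ ∈ A := by
  obtain ⟨x, hx, hxA⟩ := exists_out h
  exact (dec_of_index hS h.idx hx hxA).1 t ht c hc (h.le hc)

theorem comm_A (hS : IsPGroup p S) (h : AbI S A p) {s t : Ω} (hs : s ∈ S) (ht : t ∈ S) : s * t * s⁻¹ * t⁻¹ ∈ A := by
  haveI hN : (A.subgroupOf S).Normal := ⟨fun c hc g => Subgroup.mem_subgroupOf.2 (nrm hS h g.2 (Subgroup.mem_subgroupOf.1 hc))⟩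
  haveI : IsCyclic (S ⧸ A.subgroupOf S) := isCyclic_of_prime_card (p := p) h.idx
  obtain ⟨g, hg⟩ := IsCyclic.exists_generator (α := S ⧸ A.subgroupOf S)
  have hc : ∀ a b : S ⧸ A.subgroupOf S, a * b = b * a := by
    intro a b
    obtain ⟨i, rfl⟩ := Subgroup.mem_zpowers_iff.1 (hg a)
    obtain ⟨j, rfl⟩ := Subgroup.mem_zpowers_iff.1 (hg b)
    exact ((Commute.refl g).zpow_zpow i j).eq
  have h1 : QuotientGroup.mk' (A.subgroupOf S) ((⟨s, hs⟩ : S) * ⟨t, ht⟩ * (⟨s, hs⟩ : S)⁻¹ * (⟨t, ht⟩ : S)⁻¹) = 1 := by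
    simp only [map_mul, map_inv]
    rw [hc _ (QuotientGroup.mk' (A.subgroupOf S) ⟨t, ht⟩)]
    group
  rw [← MonoidHom.mem_ker, QuotientGroup.ker_mk'] at h1
  exact Subgroup.mem_subgroupOf.1 h1

theorem Zs_le_A (hS : IsPGroup p S) (h : AbI S A p) : Zs S ≤ A := by
  intro z hz
  by_contra hzA
  obtain ⟨hzS, hzc⟩ := mem_Zs.1 hz
  obtain ⟨-, h3⟩ := dec hS h hzS hzA
  obtain ⟨s, hs, t, ht, e⟩ := h.na
  apply e
  obtain ⟨i, hi⟩ := h3 s hs
  obtain ⟨j, hj⟩ := h3 t ht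
  have hzi : ∀ k : ℤ, z ^ k ∈ Zs S := fun k => Subgroup.zpow_mem _ hz k
  have es : s = z ^ i * ((z ^ i)⁻¹ * s) := by group
  have et : t = z ^ j * ((z ^ j)⁻¹ * t) := by group
  rw [es, et]
  set c := (z ^ i)⁻¹ * s
  set d := (z ^ j)⁻¹ * t
  have hcS := h.le hi
  have hdS := h.le hj
  have h1 : c * z ^ j = z ^ j * c := (mem_Zs.1 (hzi j)).2 c hcS
  have h2 : d * z ^ i = z ^ i * d := (mem_Zs.1 (hzi i)).2 d hdS
  have h4 : z ^ i * z ^ j = z ^ j * z ^ i := ((Commute.refl z).zpow_zpow i j).eq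
  calc z ^ i * c * (z ^ j * d) = z ^ i * (c * z ^ j) * d := by group
    _ = (z ^ i * z ^ j) * (c * d) := by rw [h1]; group
    _ = (z ^ j * z ^ i) * (d * c) := by rw [h4, h.ab c hi d hj]
    _ = z ^ j * (d * z ^ i) * c := by rw [h2]; group
    _ = z ^ j * d * (z ^ i * c) := by group

theorem Zs_of (hS : IsPGroup p S) (h : AbI S A p) {x c : Ω} (hx : x ∈ S) (hxA : x ∉ A) (hc : c ∈ A) (hcx : c * x = x * c) : c ∈ Zs S := by
  rw [mem_Zs]
  refine ⟨h.le hc, fun s hs => ?_⟩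
  obtain ⟨-, h3⟩ := dec hS h hx hxA
  obtain ⟨i, hi⟩ := h3 s hs
  have es : s = x ^ i * ((x ^ i)⁻¹ * s) := by group
  set d := (x ^ i)⁻¹ * s
  have h1 : x ^ i * c = c * x ^ i := ((Commute.symm hcx).zpow_left i).eq
  rw [es]
  calc x ^ i * d * c = x ^ i * (c * d) := by rw [h.ab c hc d hi]; group
    _ = (x ^ i * c) * d := by group
    _ = c * (x ^ i * d) := by rw [h1]; group

/-- the commutator map on `A` -/
noncomputable def psi (hS : IsPGroup p S) (h : AbI S A p) {x : Ω} (hx : x ∈ S) : A →* A where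
  toFun c := ⟨(c : Ω) * x * (c : Ω)⁻¹ * x⁻¹, by
    have : (c : Ω) * x * (c : Ω)⁻¹ * x⁻¹ = c * (x * (c : Ω)⁻¹ * x⁻¹) := by group
    rw [this]
    exact A.mul_mem c.2 (nrm hS h hx (A.inv_mem c.2))⟩
  map_one' := by
    apply Subtype.ext
    simp
  map_mul' := by
    intro c d
    apply Subtype.ext
    show ((c * d : A) : Ω) * x * ((c * d : A) : Ω)⁻¹ * x⁻¹ = ((c : Ω) * x * (c : Ω)⁻¹ * x⁻¹) * ((d : Ω) * x * (d : Ω)⁻¹ * x⁻¹)
    have h1 := nrm hS h hx (A.inv_mem c.2)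
    have h2 := nrm hS h hx (A.inv_mem d.2)
    have h3 := h.ab _ h1 _ d.2
    have e1 : ((c * d : A) : Ω) * x * ((c * d : A) : Ω)⁻¹ * x⁻¹ = (c : Ω) * d * (x * (d : Ω)⁻¹ * x⁻¹) * (x * (c : Ω)⁻¹ * x⁻¹) := by
      simp only [Subgroup.coe_mul]
      group
    have e2 : ((c : Ω) * x * (c : Ω)⁻¹ * x⁻¹) * ((d : Ω) * x * (d : Ω)⁻¹ * x⁻¹) = (c : Ω) * ((x * (c : Ω)⁻¹ * x⁻¹) * d) * (x * (d : Ω)⁻¹ * x⁻¹) := by
      group
    have h4 := h.ab _ h2 _ h1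
    rw [e1, e2]
    generalize x * (d : Ω)⁻¹ * x⁻¹ = e at *
    generalize x * (c : Ω)⁻¹ * x⁻¹ = f at *
    rw [h3]
    simp only [mul_assoc]
    rw [h4]

theorem psi_coe (hS : IsPGroup p S) (h : AbI S A p) {x : Ω} (hx : x ∈ S) (c : A) : ((psi hS h hx c : A) : Ω) = c * x * (c : Ω)⁻¹ * x⁻¹ := rfl

theorem psi_zpow (hS : IsPGroup p S) (h : AbI S A p) {x c : Ω} (hx : x ∈ S) (hc : c ∈ A) (n : ℤ) :
    (c ^ n) * x * (c ^ n)⁻¹ * x⁻¹ = (c * x * c⁻¹ * x⁻¹) ^ n := by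
  have h6 : ((psi hS h hx (⟨c, hc⟩ ^ n) : A) : Ω) = (((psi hS h hx ⟨c, hc⟩) ^ n : A) : Ω) := congrArg Subtype.val (map_zpow _ _ n)
  rw [psi_coe, Subgroup.coe_zpow, Subgroup.coe_zpow, psi_coe] at h6
  exact h6

theorem psi_inv_mul (hS : IsPGroup p S) (h : AbI S A p) {x c d : Ω} (hx : x ∈ S) (hc : c ∈ A) (hd : d ∈ A) :
    (c⁻¹ * d) * x * (c⁻¹ * d)⁻¹ * x⁻¹ = (c * x * c⁻¹ * x⁻¹)⁻¹ * (d * x * d⁻¹ * x⁻¹) := by
  have h6 : ((psi hS h hx ((⟨c, hc⟩ : A)⁻¹ * ⟨d, hd⟩) : A) : Ω) = (((psi hS h hx ⟨c, hc⟩)⁻¹ * psi hS h hx ⟨d, hd⟩ : A) : Ω) := by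
    rw [map_mul, map_inv]
  simp only [psi_coe, Subgroup.coe_mul, Subgroup.coe_inv] at h6
  exact h6

theorem ex_x (h : AbI S A p) (hE : F.IsEssential p P) (hPA : P ≠ A) : ∃ x ∈ P, x ∉ A := by
  by_contra hall
  push_neg at hall
  apply hPA
  apply le_antisymm hall
  intro c hc
  apply hE.1.2 P (isConj_refl F hE.1.1)
  rw [mem_centralizerIn]
  exact ⟨h.le hc, fun y hy => h.ab y (hall y hy) c hc⟩

theorem Zs_le_P (hE : F.IsEssential p P) : Zs S ≤ P := by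
  intro z hz
  apply hE.1.2 P (isConj_refl F hE.1.1)
  rw [mem_centralizerIn]
  exact ⟨(mem_Zs.1 hz).1, fun y hy => ((mem_Zs.1 hz).2 y (hE.1.1 hy))⟩

theorem exists_a (hS : IsPGroup p S) (hF : F.IsSaturated p) (h : AbI S A p) (hE : F.IsEssential p P) {x : Ω} (hxP : x ∈ P) (hxA : x ∉ A) :
    ∃ a ∈ A, a ∉ P ∧ a ∈ normalizerIn S P := by
  have hlt := Cfsg.Agent.Lib.FusEss.essential_lt hS F hF hE
  obtain ⟨s, hsN, hsP⟩ := SetLike.exists_of_lt (normalizerIn_gt hS hlt)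
  obtain ⟨hsS, hsn⟩ := mem_normalizerIn.1 hsN
  obtain ⟨-, h3⟩ := dec hS h (hE.1.1 hxP) hxA
  obtain ⟨i, hi⟩ := h3 s hsS
  refine ⟨_, hi, fun h4 => hsP ?_, ?_⟩
  · have e : s = x ^ i * ((x ^ i)⁻¹ * s) := by group
    rw [e]
    exact P.mul_mem (P.zpow_mem hxP i) h4
  · rw [mem_normalizerIn]
    refine ⟨S.mul_mem (S.inv_mem (S.zpow_mem (hE.1.1 hxP) i)) hsS, ?_⟩
    have h5 : x ^ i ∈ Subgroup.normalizer (P : Set Ω) := Subgroup.le_normalizer (P.zpow_mem hxP i)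
    exact Subgroup.mul_mem _ (Subgroup.inv_mem _ h5) hsn

/-- an element of `S` whose conjugation map on `P` is trivial lies in `P` -/
theorem mem_of_triv (hE : F.IsEssential p P) {s : Ω} (hs : s ∈ S) (h : ∀ y ∈ P, s * y * s⁻¹ = y) : s ∈ P := by
  apply hE.1.2 P (isConj_refl F hE.1.1)
  rw [mem_centralizerIn]
  refine ⟨hs, fun y hy => ?_⟩
  have := h y hy
  rw [mul_inv_eq_iff_eq_mul] at this
  exact this.symm

/-- elements normalizing `P` with a generator -/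
theorem index_norm (hE : F.IsEssential p P) {a : Ω} (haS : a ∈ normalizerIn S P) (haP : a ∉ P) (hap : a ^ p ∈ P)
    (hdec : ∀ s ∈ normalizerIn S P, ∃ i : ℤ, (a ^ i)⁻¹ * s ∈ P) : (P.subgroupOf (S ⊓ Subgroup.normalizer (P : Set Ω))).index = p := by
  have hPS := hE.1.1
  haveI : Finite ↥(S ⊓ Subgroup.normalizer (P : Set Ω)) := finite_of_le inf_le_left
  apply index_of_dec (T := S ⊓ Subgroup.normalizer (P : Set Ω)) (le_inf hPS Subgroup.le_normalizer) _ haS haP hap hdec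
  intro t ht c hc
  exact (Subgroup.mem_normalizer_iff.1 (Subgroup.mem_inf.1 ht).2 c).1 hc

section abelian

/-- the structure of an abelian essential subgroup -/
theorem abelian_struct (hS : IsPGroup p S) (hF : F.IsSaturated p) (h : AbI S A p) (hE : F.IsEssential p P) (hab : ∀ y y' : P, y * y' = y' * y)
    {x : Ω} (hxP : x ∈ P) (hxA : x ∉ A) :
    P = Zs S ⊔ zpowers x ∧ P ⊓ A ≤ Zs S ∧ ∃ a ∈ A, a ∉ P ∧ a ∈ normalizerIn S P ∧ a ^ p ∈ P ∧ ∀ s ∈ normalizerIn S P, ∃ i : ℤ, (a ^ i)⁻¹ * s ∈ P := by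
  classical
  have hP : p.Prime := Fact.out
  have hPS : P ≤ S := hE.1.1
  haveI hfP : Finite P := finite_of_le hPS
  have hxS := hPS hxP
  have hZP := Zs_le_P hE
  have hinf : P ⊓ A ≤ Zs S := by
    intro b hb
    obtain ⟨hbP, hbA⟩ := Subgroup.mem_inf.1 hb
    exact Zs_of hS h hxS hxA hbA (congrArg Subtype.val (hab ⟨b, hbP⟩ ⟨x, hxP⟩))
  obtain ⟨hxp, h3⟩ := dec hS h hxS hxA
  have hdecP : ∀ t ∈ P, ∃ i : ℤ, (x ^ i)⁻¹ * t ∈ Zs S := by
    intro t ht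
    obtain ⟨i, hi⟩ := h3 t (hPS ht)
    exact ⟨i, hinf (Subgroup.mem_inf.2 ⟨P.mul_mem (P.inv_mem (P.zpow_mem hxP i)) ht, hi⟩)⟩
  have heq : P = Zs S ⊔ zpowers x := by
    apply le_antisymm
    · intro t ht
      obtain ⟨i, hi⟩ := hdecP t ht
      have e : t = (x ^ i)⁻¹ * t * (((x ^ i)⁻¹ * t)⁻¹ * t) := by group
      have e' : t = (t * (x ^ i)⁻¹) * x ^ i := by group
      rw [e']
      refine Subgroup.mul_mem _ (Subgroup.mem_sup_left ?_) (Subgroup.mem_sup_right (Subgroup.zpow_mem _ (Subgroup.mem_zpowers x) i))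
      have e2 : t * (x ^ i)⁻¹ = x ^ i * ((x ^ i)⁻¹ * t) * (x ^ i)⁻¹ := by group
      rw [e2]
      have h5 := (mem_Zs.1 hi).2 (x ^ i) (S.zpow_mem hxS i)
      rw [h5, mul_inv_cancel_right]
      exact hi
    · exact sup_le hZP (Subgroup.zpowers_le.2 hxP)
  refine ⟨heq, hinf, ?_⟩
  obtain ⟨a, haA, haP, haN⟩ := exists_a hS hF h hE hxP hxA
  obtain ⟨haS, han0⟩ := mem_normalizerIn.1 haN
  have han : a ∈ Subgroup.normalizer (P : Set Ω) := han0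
  refine ⟨a, haA, haP, haN, ?_⟩
  -- the automizer
  have hFA := fullyAutomized_of_fullyNormalized hS F hF hE.2.1
  have hTA := autInduced_le_autGroup F hPS
  have hTp := isPGroup_autInduced hS P
  have hmax : ∀ W : Subgroup (MulAut P), IsPGroup p W → W ≤ F.autGroup P → autInducedBy S P ≤ W → W = autInducedBy S P := by
    intro W hW hWA hTW
    obtain ⟨Q, hQ⟩ := hFA.2
    have h1 : IsPGroup p (W.subgroupOf (F.autGroup P)) := hW.comap_of_injective _ Subtype.coe_injective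
    have h2 : (Q : Subgroup (F.autGroup P)) ≤ W.subgroupOf (F.autGroup P) := by
      rw [hQ]
      intro y hy
      exact Subgroup.mem_subgroupOf.2 (hTW (Subgroup.mem_subgroupOf.1 hy))
    have h3 := Q.is_maximal' h1 h2
    apply le_antisymm _ hTW
    intro w hw
    have h4 : (⟨w, hWA hw⟩ : F.autGroup P) ∈ W.subgroupOf (F.autGroup P) := Subgroup.mem_subgroupOf.2 hw
    rw [h3, hQ] at h4
    exact Subgroup.mem_subgroupOf.1 h4
  have hi : ((Zs S).subgroupOf P).index = p := by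
    apply index_of_dec hZP _ hxP (fun h5 => hxA (Zs_le_A hS h h5)) (hinf (Subgroup.mem_inf.2 ⟨P.pow_mem hxP p, hxp⟩)) hdecP
    intro t ht c hc
    rw [(mem_Zs.1 hc).2 t (hPS ht), mul_inv_cancel_right]
    exact hc
  have hTv : ∀ κ ∈ autInducedBy S P, (∀ z ∈ (Zs S).subgroupOf P, κ z = z) ∧ ∀ y : P, κ y * y⁻¹ ∈ (Zs S).subgroupOf P := by
    intro κ hκ
    obtain ⟨s, hs, e⟩ := mem_autInducedBy'.1 hκ
    constructor
    · intro z hz
      apply Subtype.ext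
      rw [e, (mem_Zs.1 (Subgroup.mem_subgroupOf.1 hz)).2 s hs, mul_inv_cancel_right]
    · intro y
      apply Subgroup.mem_subgroupOf.2
      apply hinf
      refine Subgroup.mem_inf.2 ⟨(κ y * y⁻¹).2, ?_⟩
      show ((κ y : P) : Ω) * (y : Ω)⁻¹ ∈ A
      rw [e]
      exact comm_A hS h hs (hPS y.2)
  -- a non-normalizing element
  have hrad := essential_radical hS F hE
  have hInn : Inn P = ⊥ := by
    rw [eq_bot_iff]
    rintro _ ⟨g, rfl⟩
    rw [Subgroup.mem_bot]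
    ext y
    show ((g * y * g⁻¹ : P) : Ω) = y
    rw [hab g y, mul_inv_cancel_right]
  have hcore : Cfsg.pCore p ↥(F.autGroup P) = ⊥ := by
    have h1 := hrad.2
    rw [hInn] at h1
    exact (Subgroup.map_eq_bot_iff_of_injective _ (Subgroup.subtype_injective _)).1 h1
  set τ := cAut P ⟨a, han⟩ with hτd
  have hτT : τ ∈ autInducedBy S P := mem_autInducedBy'.2 ⟨a, haS, fun _ => rfl⟩
  have hκ1 : ∀ (s : Ω) (hs : s ∈ S) (hn : s ∈ Subgroup.normalizer (P : Set Ω)), cAut P ⟨s, hn⟩ = 1 → s ∈ P := by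
    intro s hs hn e
    apply mem_of_triv hE hs
    intro y hy
    have := congrArg (fun f : MulAut P => ((f ⟨y, hy⟩ : P) : Ω)) e
    exact this
  have hτ1 : τ ≠ 1 := fun e => haP (hκ1 a haS han e)
  obtain ⟨g, hg, hgn⟩ : ∃ g ∈ F.autGroup P, g ∉ Subgroup.normalizer (autInducedBy S P : Set (MulAut P)) := by
    by_contra hall
    push_neg at hall
    have hnorm : ((autInducedBy S P).subgroupOf (F.autGroup P)).Normal := ⟨fun n hn g => by
      have hn' : (n : MulAut P) ∈ autInducedBy S P := Subgroup.mem_subgroupOf.1 hn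
      exact Subgroup.mem_subgroupOf.2 ((Subgroup.mem_normalizer_iff.1 (hall g g.2) _).1 hn')⟩
    have hpg : IsPGroup p ((autInducedBy S P).subgroupOf (F.autGroup P)) :=
      hTp.comap_of_injective _ Subtype.coe_injective
    have h1 := Cfsg.Agent.Lib.H1Core.le_pCore hnorm hpg
    rw [hcore, le_bot_iff] at h1
    have h2 : (⟨τ, hTA hτT⟩ : F.autGroup P) ∈ (autInducedBy S P).subgroupOf (F.autGroup P) := Subgroup.mem_subgroupOf.2 hτT
    rw [h1, Subgroup.mem_bot] at h2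
    exact hτ1 (congrArg Subtype.val h2)
  letI iC : CommGroup P := { (inferInstance : Group P) with mul_comm := hab }
  obtain ⟨hτp, hτall⟩ := T_order (hS.to_le hPS) hmax hTA hTp hi hTv hg hgn hτT hτ1
  have hcz : ∀ i : ℤ, τ ^ i = cAut P (⟨a, han⟩ ^ i) := fun i => by rw [map_zpow]
  have hzc : ∀ i : ℤ, a ^ i ∈ Subgroup.normalizer (P : Set Ω) := fun i => Subgroup.zpow_mem _ han i
  refine ⟨?_, ?_⟩
  · apply hκ1 _ (S.pow_mem haS p) (Subgroup.pow_mem _ han p)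
    have : τ ^ p = cAut P ⟨a ^ p, Subgroup.pow_mem _ han p⟩ := by
      rw [hτd, ← map_pow]
      rfl
    rw [← this, hτp]
  · intro s hs
    obtain ⟨hsS, hsn0⟩ := mem_normalizerIn.1 hs
    have hsn : s ∈ Subgroup.normalizer (P : Set Ω) := hsn0
    obtain ⟨i, e⟩ := hτall _ (mem_autInducedBy'.2 ⟨s, hsS, fun _ => rfl⟩ : cAut P ⟨s, hsn⟩ ∈ autInducedBy S P)
    refine ⟨i, ?_⟩
    apply hκ1 _ (S.mul_mem (S.inv_mem (S.zpow_mem haS i)) hsS) (Subgroup.mul_mem _ (Subgroup.inv_mem _ (hzc i)) hsn)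
    have e2 : cAut P ⟨(a ^ i)⁻¹ * s, Subgroup.mul_mem _ (Subgroup.inv_mem _ (hzc i)) hsn⟩ = (cAut P (⟨a, han⟩ ^ i))⁻¹ * cAut P ⟨s, hsn⟩ := by
      rw [← map_inv, ← map_mul]
      rfl
    rw [e2, ← hcz, e, inv_mul_cancel]

end abelian

/-- a stable automorphism is inner -/
theorem inn_of_chain (hS : IsPGroup p S) (hE : F.IsEssential p P) {V : Subgroup Ω}
    (hV : ∀ γ ∈ F.autGroup P, ∀ x : P, (x : Ω) ∈ V → ((γ x : P) : Ω) ∈ V) {κ : MulAut P} (hκA : κ ∈ F.autGroup P)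
    (h1 : ∀ x : P, (x : Ω) ∈ V → κ x = x) (h2 : ∀ x : P, (x : Ω)⁻¹ * ((κ x : P) : Ω) ∈ V) : κ ∈ Inn P := by
  classical
  have hPS : P ≤ S := hE.1.1
  haveI hfP : Finite P := finite_of_le hPS
  have hrad := essential_radical hS F hE
  let K : Subgroup (MulAut P) := stabPair P ⊥ V bot_le ⊓ stabPair P V ⊤ le_top
  have hκK : κ ∈ K := by
    refine Subgroup.mem_inf.2 ⟨fun x hx => ?_, fun x _ => h2 x⟩
    rw [h1 x hx, inv_mul_cancel]
    exact Subgroup.one_mem _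
  have := mem_core_of_stable F K (by
      intro γ hγ κ' hκ'
      obtain ⟨hk1, hk2⟩ := Subgroup.mem_inf.1 hκ'
      refine Subgroup.mem_inf.2 ⟨stabPair_conj (fun x hx => hV _ (Subgroup.inv_mem _ hγ) x hx) (fun x hx => ?_) hk1, stabPair_conj (fun x _ => trivial) (fun x hx => hV γ hγ x hx) hk2⟩
      have hx1 : x = 1 := Subtype.ext (Subgroup.mem_bot.1 hx)
      rw [hx1, map_one]
      exact Subgroup.one_mem _)
    (by
      intro κ' hκ' _ hco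
      obtain ⟨hk1, hk2⟩ := Subgroup.mem_inf.1 hκ'
      have h3 : ∀ x : P, (x : Ω) ∈ V → κ' x = x := by
        intro x hx
        have h4 := hk1 x hx
        rw [Subgroup.mem_bot, inv_mul_eq_one] at h4
        exact Subtype.ext h4.symm
      ext x
      have h5 := hk2 x trivial
      have : κ' x = x := aut_fix_step (hS.to_le hPS) hco (h3 _ h5)
      rw [this]
      rfl) hκK hκA
  rw [hrad.2] at this
  exact this

theorem mem_of_inn (hE : F.IsEssential p P) {s : Ω} (hs : s ∈ S) (hn : s ∈ Subgroup.normalizer (P : Set Ω)) (h : cAut P ⟨s, hn⟩ ∈ Inn P) : s ∈ P := by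
  obtain ⟨w, e⟩ := h
  have hm : (w : Ω)⁻¹ * s ∈ P := by
    apply mem_of_triv hE (S.mul_mem (S.inv_mem (hE.1.1 w.2)) hs)
    intro y hy
    have h1 : (w : Ω) * (⟨y, hy⟩ : P) * (w : Ω)⁻¹ = s * y * s⁻¹ :=
      congrArg (fun f : MulAut P => ((f ⟨y, hy⟩ : P) : Ω)) e
    have h2 : s * y * s⁻¹ = w * y * (w : Ω)⁻¹ := h1.symm
    calc (w : Ω)⁻¹ * s * y * ((w : Ω)⁻¹ * s)⁻¹ = (w : Ω)⁻¹ * (s * y * s⁻¹) * w := by group
      _ = y := by rw [h2]; group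
  have e2 : s = w * ((w : Ω)⁻¹ * s) := by group
  rw [e2]
  exact P.mul_mem w.2 hm

theorem comm_of_parts {z y y' c d : Ω} {i j : ℤ} (h1 : y = z ^ i * c) (h2 : y' = z ^ j * d) (hc : c * z ^ j = z ^ j * c) (hd : d * z ^ i = z ^ i * d)
    (hcd : c * d = d * c) : y * y' = y' * y := by
  have h4 : z ^ i * z ^ j = z ^ j * z ^ i := ((Commute.refl z).zpow_zpow i j).eq
  rw [h1, h2]
  calc z ^ i * c * (z ^ j * d) = z ^ i * (c * z ^ j) * d := by group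
    _ = (z ^ i * z ^ j) * (c * d) := by rw [hc]; group
    _ = (z ^ j * z ^ i) * (d * c) := by rw [h4, hcd]
    _ = z ^ j * (d * z ^ i) * c := by rw [hd]; group
    _ = z ^ j * d * (z ^ i * c) := by group

/-- conjugation by `c ∈ A` when the commutator with `x` is central -/
theorem conj_form (hS : IsPGroup p S) (h : AbI S A p) {c x t : Ω} (hc : c ∈ A) (hx : x ∈ S) (hζ : c * x * c⁻¹ * x⁻¹ ∈ Zs S) {i : ℤ} (ht : (x ^ i)⁻¹ * t ∈ A) :
    c * t * c⁻¹ = (c * x * c⁻¹ * x⁻¹) ^ i * t := by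
  set ζ := c * x * c⁻¹ * x⁻¹ with hζd
  have e1 : c * x * c⁻¹ = ζ * x := by rw [hζd]; group
  have hcomm : Commute ζ x := (mem_Zs.1 hζ).2 x hx |>.symm
  have e2 : c * x ^ i * c⁻¹ = ζ ^ i * x ^ i := by
    rw [← hcomm.mul_zpow, ← e1, conj_zpow]
  set b := (x ^ i)⁻¹ * t with hb
  have et : t = x ^ i * b := by rw [hb]; group
  have e3 : c * b * c⁻¹ = b := by
    rw [h.ab c hc b ht, mul_inv_cancel_right]
  rw [et]
  calc c * (x ^ i * b) * c⁻¹ = (c * x ^ i * c⁻¹) * (c * b * c⁻¹) := by group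
    _ = _ := by rw [e2, e3]; group

theorem mem_Z2 {y : Ω} : y ∈ (_root_.upperCentralSeries S 2).map S.subtype ↔ y ∈ S ∧ ∀ s ∈ S, y * s * y⁻¹ * s⁻¹ ∈ Zs S := by
  constructor
  · rintro ⟨w, hw, rfl⟩
    refine ⟨w.2, fun s hs => ?_⟩
    have h1 := (_root_.mem_upperCentralSeries_succ_iff (G := S) (n := 1) (x := w)).1 hw ⟨s, hs⟩
    rw [_root_.upperCentralSeries_one] at h1
    rw [Zs_eq_map]
    exact ⟨_, h1, rfl⟩
  · rintro ⟨hy, h2⟩
    refine ⟨⟨y, hy⟩, ?_, rfl⟩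
    apply (_root_.mem_upperCentralSeries_succ_iff (G := S) (n := 1) (x := ⟨y, hy⟩)).2
    intro s
    rw [_root_.upperCentralSeries_one]
    have h3 := h2 s s.2
    rw [Zs_eq_map] at h3
    obtain ⟨w, hw, e⟩ := h3
    have e' : w = ⁅(⟨y, hy⟩ : S), s⁆ := by
      apply Subtype.ext
      rw [commutatorElement_def]
      exact e
    rw [← e']
    exact hw

/-- the structure of a nonabelian essential subgroup -/
theorem nonab_struct (hS : IsPGroup p S) (hF : F.IsSaturated p) (h : AbI S A p) (hE : F.IsEssential p P) (hna : ¬ ∀ y y' : P, y * y' = y' * y)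
    {x : Ω} (hxP : x ∈ P) (hxA : x ∉ A) :
    ((_root_.upperCentralSeries S 2).map S.subtype ≤ A ∧ P = (_root_.upperCentralSeries S 2).map S.subtype ⊔ zpowers x) ∧
    (∃ a ∈ A, a ∉ P ∧ a ∈ normalizerIn S P ∧ a ^ p ∈ P ∧ ∀ s ∈ normalizerIn S P, ∃ i : ℤ, (a ^ i)⁻¹ * s ∈ P) ∧
    ∃ w ∈ A, w ∉ Zs S ∧ w ^ p ∈ Zs S ∧ w * x * w⁻¹ * x⁻¹ ∈ Zs S ∧ ∀ c ∈ A, c * x * c⁻¹ * x⁻¹ ∈ Zs S → ∃ i : ℤ, (w ^ i)⁻¹ * c ∈ Zs S := by
  classical
  have hP : p.Prime := Fact.out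
  have hPS : P ≤ S := hE.1.1
  haveI hfP : Finite P := finite_of_le hPS
  have hxS := hPS hxP
  have hZP := Zs_le_P hE
  have hZA := Zs_le_A hS h
  have hZc : ∀ z : Ω, z ∈ P → (∀ y ∈ P, z * y = y * z) → z ∈ Zs S := by
    intro z hz hc
    have hzA : z ∈ A := by
      by_contra hzA
      apply hna
      intro y y'
      obtain ⟨-, h3⟩ := dec hS h (hPS hz) hzA
      obtain ⟨i, hi⟩ := h3 y (hPS y.2)
      obtain ⟨j, hj⟩ := h3 y' (hPS y'.2)
      have hzi : ∀ k : ℤ, ∀ t ∈ P, t * z ^ k = z ^ k * t := by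
        intro k t ht
        have hcm : Commute t z := (hc t ht).symm
        exact (hcm.zpow_right k).eq
      apply Subtype.ext
      show (y : Ω) * y' = y' * y
      exact comm_of_parts (z := z) (i := i) (j := j) (c := (z ^ i)⁻¹ * y) (d := (z ^ j)⁻¹ * y') (by group) (by group)
        (hzi j _ (P.mul_mem (P.inv_mem (P.zpow_mem hz i)) y.2)) (hzi i _ (P.mul_mem (P.inv_mem (P.zpow_mem hz j)) y'.2)) (h.ab _ hi _ hj)
    exact Zs_of hS h hxS hxA hzA (hc x hxP)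
  have hchar : ∀ (α : MulAut P) (z : P), (z : Ω) ∈ Zs S → ((α z : P) : Ω) ∈ Zs S := by
    intro α z hz
    apply hZc _ (α z).2
    intro y hy
    have h1 : z * α⁻¹ ⟨y, hy⟩ = α⁻¹ ⟨y, hy⟩ * z := Subtype.ext ((mem_Zs.1 hz).2 _ (hPS (α⁻¹ ⟨y, hy⟩).2)).symm
    have h2 := congrArg α h1
    simp only [map_mul] at h2
    have h3 : α (α⁻¹ ⟨y, hy⟩) = ⟨y, hy⟩ := by simp
    rw [h3] at h2
    exact congrArg Subtype.val h2
  obtain ⟨hxp, h3⟩ := dec hS h hxS hxA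
  have hdecP : ∀ t ∈ P, ∃ i : ℤ, (x ^ i)⁻¹ * t ∈ P ⊓ A := by
    intro t ht
    obtain ⟨i, hi⟩ := h3 t (hPS ht)
    exact ⟨i, Subgroup.mem_inf.2 ⟨P.mul_mem (P.inv_mem (P.zpow_mem hxP i)) ht, hi⟩⟩
  have hstar : ∀ c ∈ A, c * x * c⁻¹ * x⁻¹ ∈ Zs S → c ∈ P := by
    intro c hc hζ
    have hconj : ∀ t ∈ P, ∃ i : ℤ, c * t * c⁻¹ = (c * x * c⁻¹ * x⁻¹) ^ i * t := by
      intro t ht
      obtain ⟨i, hi⟩ := h3 t (hPS ht)
      exact ⟨i, conj_form hS h hc hxS hζ hi⟩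
    have hcn : c ∈ Subgroup.normalizer (P : Set Ω) := mem_normalizer_of_conj_le' (fun t ht => by
      obtain ⟨i, e⟩ := hconj t ht
      rw [e]
      exact P.mul_mem (P.zpow_mem (hZP hζ) i) ht)
    have hcS := h.le hc
    have hκA : cAut P ⟨c, hcn⟩ ∈ F.autGroup P := autInduced_le_autGroup F hPS (mem_autInducedBy'.2 ⟨c, hcS, fun _ => rfl⟩)
    apply mem_of_inn hE hcS hcn
    apply inn_of_chain hS hE (V := Zs S) (fun γ _ y hy => hchar γ y hy) hκA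
    · intro z hz
      apply Subtype.ext
      show c * (z : Ω) * c⁻¹ = z
      rw [(mem_Zs.1 hz).2 c hcS, mul_inv_cancel_right]
    · intro t
      obtain ⟨i, e⟩ := hconj t t.2
      show (t : Ω)⁻¹ * (c * t * c⁻¹) ∈ Zs S
      rw [e]
      have h5 := (mem_Zs.1 (Subgroup.zpow_mem _ hζ i)).2 t (hPS t.2)
      rw [← h5, inv_mul_cancel_left]
      exact Subgroup.zpow_mem _ hζ i
  obtain ⟨a, haA, haP, haN⟩ := exists_a hS hF h hE hxP hxA
  obtain ⟨haS, han0⟩ := mem_normalizerIn.1 haN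
  have han : a ∈ Subgroup.normalizer (P : Set Ω) := han0
  obtain ⟨g, hg, b, hbA, hgb⟩ : ∃ g ∈ F.autGroup P, ∃ b : P, (b : Ω) ∈ A ∧ ((g b : P) : Ω) ∉ A := by
    by_contra hall
    push_neg at hall
    have hκA : cAut P ⟨a, han⟩ ∈ F.autGroup P := autInduced_le_autGroup F hPS (mem_autInducedBy'.2 ⟨a, haS, fun _ => rfl⟩)
    apply haP
    apply mem_of_inn hE haS han
    apply inn_of_chain hS hE (V := P ⊓ A) (fun γ hγ y hy => Subgroup.mem_inf.2 ⟨(γ y).2, hall γ hγ y (Subgroup.mem_inf.1 hy).2⟩) hκA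
    · intro z hz
      apply Subtype.ext
      show a * (z : Ω) * a⁻¹ = z
      rw [h.ab a haA z (Subgroup.mem_inf.1 hz).2, mul_inv_cancel_right]
    · intro t
      refine Subgroup.mem_inf.2 ⟨P.mul_mem (P.inv_mem t.2) (cAut P ⟨a, han⟩ t).2, ?_⟩
      show (t : Ω)⁻¹ * (a * t * a⁻¹) ∈ A
      have h5 := comm_A hS h (S.inv_mem (hPS t.2)) haS
      have e : (t : Ω)⁻¹ * (a * t * a⁻¹) = (t : Ω)⁻¹ * a * ((t : Ω)⁻¹)⁻¹ * a⁻¹ := by group
      rw [e]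
      exact h5
  have hwS : ((g b : P) : Ω) ∈ S := hPS (g b).2
  have hcentral : ∀ u : P, (u : Ω) ∈ A → ((g⁻¹ u : P) : Ω) ∈ A → (u : Ω) ∈ Zs S := by
    intro u hu hu'
    apply hZc _ u.2
    intro t ht
    obtain ⟨-, h4⟩ := dec hS h hwS hgb
    obtain ⟨i, hi⟩ := h4 t (hPS ht)
    have h5 : (g⁻¹ u) * b = b * (g⁻¹ u) := Subtype.ext (h.ab _ hu' _ hbA)
    have h6 := congrArg g h5
    simp only [map_mul] at h6
    have h7 : g (g⁻¹ u) = u := by simp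
    rw [h7] at h6
    have h8 : (u : Ω) * ((g b : P) : Ω) = ((g b : P) : Ω) * u := congrArg Subtype.val h6
    have h9 : (u : Ω) * ((g b : P) : Ω) ^ i = ((g b : P) : Ω) ^ i * u := ((show Commute (u : Ω) ((g b : P) : Ω) from h8).zpow_right i).eq
    have e : t = ((g b : P) : Ω) ^ i * (((g b : P) : Ω) ^ i)⁻¹ * t := by group
    set c := (((g b : P) : Ω) ^ i)⁻¹ * t with hc
    have et : t = ((g b : P) : Ω) ^ i * c := by rw [hc]; group
    rw [et, ← mul_assoc, h9, mul_assoc, mul_assoc, h.ab _ hu _ hi]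
  obtain ⟨y, hyA, hy'⟩ : ∃ y : P, (y : Ω) ∈ A ∧ ((g⁻¹ y : P) : Ω) ∉ A := by
    by_contra hall
    push_neg at hall
    haveI : Finite ↥(P ⊓ A) := finite_of_le (inf_le_left.trans hPS)
    let f : ↥(P ⊓ A) → ↥(P ⊓ A) := fun z => ⟨(g⁻¹ ⟨z, (Subgroup.mem_inf.1 z.2).1⟩ : P), Subgroup.mem_inf.2 ⟨(g⁻¹ ⟨z, (Subgroup.mem_inf.1 z.2).1⟩ : P).2, hall _ (Subgroup.mem_inf.1 z.2).2⟩⟩
    have hf : Function.Injective f := by
      intro z z' e
      have e' : ((g⁻¹ ⟨z, (Subgroup.mem_inf.1 z.2).1⟩ : P) : Ω) = ((g⁻¹ ⟨z', (Subgroup.mem_inf.1 z'.2).1⟩ : P) : Ω) := Subtype.mk.inj e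
      have h4 : g⁻¹ ⟨z, (Subgroup.mem_inf.1 z.2).1⟩ = g⁻¹ ⟨z', (Subgroup.mem_inf.1 z'.2).1⟩ := Subtype.ext e'
      have h5 := (MulEquiv.injective _) h4
      exact Subtype.ext (Subtype.mk.inj h5)
    obtain ⟨z, hz⟩ := (Finite.injective_iff_surjective.1 hf) ⟨b, Subgroup.mem_inf.2 ⟨b.2, hbA⟩⟩
    have e' : ((g⁻¹ ⟨z, (Subgroup.mem_inf.1 z.2).1⟩ : P) : Ω) = (b : Ω) := Subtype.mk.inj hz
    have h4 : g⁻¹ ⟨z, (Subgroup.mem_inf.1 z.2).1⟩ = b := Subtype.ext e'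
    have h5 : g b = ⟨z, (Subgroup.mem_inf.1 z.2).1⟩ := by
      rw [← h4]
      simp
    apply hgb
    rw [h5]
    exact (Subgroup.mem_inf.1 z.2).2
  have hy'S : ((g⁻¹ y : P) : Ω) ∈ S := hPS (g⁻¹ y).2
  obtain ⟨hy'p, hy'd⟩ := dec hS h hy'S hy'
  have hyZ : (y : Ω) ∉ Zs S := fun h5 => hy' (hZA (hchar g⁻¹ y h5))
  have hyp : (y : Ω) ^ p ∈ Zs S := by
    have h5 := hcentral (y ^ p) (by
      rw [Subgroup.coe_pow]
      exact A.pow_mem hyA p) (by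
      rw [map_pow, Subgroup.coe_pow]
      exact hy'p)
    rw [Subgroup.coe_pow] at h5
    exact h5
  have hyd : ∀ b' ∈ P ⊓ A, ∃ i : ℤ, ((y : Ω) ^ i)⁻¹ * b' ∈ Zs S := by
    intro b' hb'
    obtain ⟨hb'P, hb'A⟩ := Subgroup.mem_inf.1 hb'
    obtain ⟨i, hi⟩ := hy'd _ (hPS (g⁻¹ ⟨b', hb'P⟩).2)
    refine ⟨i, ?_⟩
    have h5 := hcentral ((y ^ i)⁻¹ * ⟨b', hb'P⟩) (by
      show (((y ^ i : P) : Ω))⁻¹ * b' ∈ A
      rw [Subgroup.coe_zpow]
      exact A.mul_mem (A.inv_mem (A.zpow_mem hyA i)) hb'A) (by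
      rw [map_mul, map_inv, map_zpow]
      show ((((g⁻¹ y) ^ i : P) : Ω))⁻¹ * ((g⁻¹ ⟨b', hb'P⟩ : P) : Ω) ∈ A
      rw [Subgroup.coe_zpow]
      exact hi)
    have e : (((y ^ i)⁻¹ * ⟨b', hb'P⟩ : P) : Ω) = ((y : Ω) ^ i)⁻¹ * b' := by
      simp
    rw [e] at h5
    exact h5
  have hBS : P ⊓ A ≤ S := inf_le_left.trans hPS
  haveI hfB : Finite ↥(P ⊓ A) := finite_of_le hBS
  have hZB : Zs S ≤ P ⊓ A := le_inf hZP hZA
  have hyB : (y : Ω) ∈ P ⊓ A := Subgroup.mem_inf.2 ⟨y.2, hyA⟩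
  have hidxB : ((Zs S).subgroupOf (P ⊓ A)).index = p := by
    apply index_of_dec hZB _ hyB hyZ hyp hyd
    intro t ht c hc
    rw [(mem_Zs.1 hc).2 t (hBS ht), mul_inv_cancel_right]
    exact hc
  have hζP : a * x * a⁻¹ * x⁻¹ ∈ P ⊓ A := by
    refine Subgroup.mem_inf.2 ⟨P.mul_mem ((Subgroup.mem_normalizer_iff.1 han x).1 hxP) (P.inv_mem hxP), comm_A hS h haS hxS⟩
  have hζZ : a * x * a⁻¹ * x⁻¹ ∉ Zs S := fun h5 => haP (hstar a haA h5)
  obtain ⟨-, hζp, hζd⟩ := dec_of_index (hS.to_le hBS) hidxB hζP hζZ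
  have hψpow : ∀ n : ℤ, (a ^ n) * x * (a ^ n)⁻¹ * x⁻¹ = (a * x * a⁻¹ * x⁻¹) ^ n := fun n => psi_zpow hS h hxS haA n
  have hapP : a ^ p ∈ P := by
    apply hstar _ (A.pow_mem haA p)
    have h5 := hψpow p
    rw [zpow_natCast, zpow_natCast] at h5
    rw [h5]
    exact hζp
  have hdecN : ∀ s ∈ normalizerIn S P, ∃ i : ℤ, (a ^ i)⁻¹ * s ∈ P := by
    intro s hs
    obtain ⟨hsS, hsn0⟩ := mem_normalizerIn.1 hs
    have hsn : s ∈ Subgroup.normalizer (P : Set Ω) := hsn0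
    obtain ⟨i₀, hi₀⟩ := h3 s⁻¹ (S.inv_mem hsS)
    have hcA : s * x ^ i₀ ∈ A := by
      have := A.inv_mem hi₀
      simpa using this
    have hcn : s * x ^ i₀ ∈ Subgroup.normalizer (P : Set Ω) := Subgroup.mul_mem _ hsn (Subgroup.le_normalizer (P.zpow_mem hxP i₀))
    have hψc : (s * x ^ i₀) * x * (s * x ^ i₀)⁻¹ * x⁻¹ ∈ P ⊓ A :=
      Subgroup.mem_inf.2 ⟨P.mul_mem ((Subgroup.mem_normalizer_iff.1 hcn x).1 hxP) (P.inv_mem hxP), comm_A hS h (h.le hcA) hxS⟩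
    obtain ⟨j, hj⟩ := hζd _ hψc
    refine ⟨j, ?_⟩
    have hc' : (a ^ j)⁻¹ * (s * x ^ i₀) ∈ A := A.mul_mem (A.inv_mem (A.zpow_mem haA j)) hcA
    have h5 : (a ^ j)⁻¹ * (s * x ^ i₀) ∈ P := by
      apply hstar _ hc'
      rw [psi_inv_mul hS h hxS (A.zpow_mem haA j) hcA, hψpow j]
      exact hj
    have e : (a ^ j)⁻¹ * s = ((a ^ j)⁻¹ * (s * x ^ i₀)) * (x ^ i₀)⁻¹ := by group
    rw [e]
    exact P.mul_mem h5 (P.inv_mem (P.zpow_mem hxP i₀))
  -- `P / Z` is abelian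
  have hidx1 : ((P ⊓ A).subgroupOf P).index = p := by
    apply index_of_dec (T := P) inf_le_left _ hxP (fun h5 => hxA (Subgroup.mem_inf.1 h5).2) (Subgroup.mem_inf.2 ⟨P.pow_mem hxP p, hxp⟩) (fun t ht => hdecP t ht)
    intro t ht c hc
    obtain ⟨hcP, hcA⟩ := Subgroup.mem_inf.1 hc
    exact Subgroup.mem_inf.2 ⟨P.mul_mem (P.mul_mem ht hcP) (P.inv_mem ht), nrm hS h (hPS ht) hcA⟩
  haveI hfZ : Finite (Zs S) := finite_of_le inf_le_left
  have hcard1 : Nat.card P = p * Nat.card ↥(P ⊓ A) := by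
    have h5 := Subgroup.card_mul_index ((P ⊓ A).subgroupOf P)
    rw [hidx1, Nat.card_congr (Subgroup.subgroupOfEquivOfLe (inf_le_left : P ⊓ A ≤ P)).toEquiv] at h5
    rw [← h5, mul_comm]
  have hcard2 : Nat.card ↥(P ⊓ A) = p * Nat.card (Zs S) := by
    have h5 := Subgroup.card_mul_index ((Zs S).subgroupOf (P ⊓ A))
    rw [hidxB, Nat.card_congr (Subgroup.subgroupOfEquivOfLe hZB).toEquiv] at h5
    rw [← h5, mul_comm]
  have hidx2 : Nat.card (P ⧸ (Zs S).subgroupOf P) = p ^ 2 := by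
    have h5 := Subgroup.card_mul_index ((Zs S).subgroupOf P)
    rw [Nat.card_congr (Subgroup.subgroupOfEquivOfLe hZP).toEquiv, hcard1, hcard2] at h5
    have h6 : Nat.card (Zs S) * ((Zs S).subgroupOf P).index = Nat.card (Zs S) * p ^ 2 := by
      rw [h5]
      ring
    exact Nat.eq_of_mul_eq_mul_left Nat.card_pos h6
  haveI hnZ : ((Zs S).subgroupOf P).Normal := ⟨fun n hn t => by
    have hn' : (n : Ω) ∈ Zs S := Subgroup.mem_subgroupOf.1 hn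
    have : t * n * t⁻¹ = n := by
      apply Subtype.ext
      show (t : Ω) * n * (t : Ω)⁻¹ = n
      rw [(mem_Zs.1 hn').2 t (hPS t.2), mul_inv_cancel_right]
    rw [this]
    exact hn⟩
  have hPZ : ∀ t ∈ P, ∀ t' ∈ P, t * t' * t⁻¹ * t'⁻¹ ∈ Zs S := by
    intro t ht t' ht'
    have hcomm : IsMulCommutative (P ⧸ (Zs S).subgroupOf P) := IsPGroup.isMulCommutative_of_card_eq_prime_sq hidx2
    have h5 : QuotientGroup.mk' ((Zs S).subgroupOf P) ((⟨t, ht⟩ : P) * ⟨t', ht'⟩ * (⟨t, ht⟩ : P)⁻¹ * (⟨t', ht'⟩ : P)⁻¹) = 1 := by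
      simp only [map_mul, map_inv]
      rw [hcomm.is_comm.comm _ (QuotientGroup.mk' ((Zs S).subgroupOf P) ⟨t', ht'⟩)]
      group
    rw [← MonoidHom.mem_ker, QuotientGroup.ker_mk'] at h5
    exact Subgroup.mem_subgroupOf.1 h5
  have hZ2A : (_root_.upperCentralSeries S 2).map S.subtype ≤ A := by
    intro z hz
    by_contra hzA
    obtain ⟨hzS, -⟩ := mem_Z2.1 hz
    obtain ⟨-, h4⟩ := dec hS h hzS hzA
    obtain ⟨i, hi⟩ := h4 x hxS
    apply haP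
    apply hstar a haA
    have hzi : z ^ i ∈ (_root_.upperCentralSeries S 2).map S.subtype := Subgroup.zpow_mem _ hz i
    have h5 := (mem_Z2.1 hzi).2 a haS
    set d := (z ^ i)⁻¹ * x with hd
    have ex : x = z ^ i * d := by rw [hd]; group
    have h6 : a * d = d * a := h.ab a haA d hi
    have e : a * x * a⁻¹ * x⁻¹ = (z ^ i * a * (z ^ i)⁻¹ * a⁻¹)⁻¹ := by
      rw [ex]
      calc a * (z ^ i * d) * a⁻¹ * (z ^ i * d)⁻¹ = a * z ^ i * (d * a⁻¹ * d⁻¹) * (z ^ i)⁻¹ := by group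
        _ = a * z ^ i * a⁻¹ * (z ^ i)⁻¹ := by
          have h7 : d * a⁻¹ * d⁻¹ = a⁻¹ := by
            have h8 : d * a⁻¹ = a⁻¹ * d := ((show Commute a d from h6).inv_left).eq.symm
            rw [h8, mul_inv_cancel_right]
          rw [h7]
        _ = _ := by group
    rw [e]
    exact Subgroup.inv_mem _ h5
  have hZ2P : (_root_.upperCentralSeries S 2).map S.subtype ≤ P := by
    intro z hz
    exact hstar z (hZ2A hz) ((mem_Z2.1 hz).2 x hxS)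
  refine ⟨⟨hZ2A, ?_⟩, ⟨a, haA, haP, haN, hapP, hdecN⟩, (y : Ω), hyA, hyZ, hyp, hPZ _ y.2 _ hxP, ?_⟩
  · apply le_antisymm
    · intro t ht
      obtain ⟨i, hi⟩ := hdecP t ht
      obtain ⟨hi1, hi2⟩ := Subgroup.mem_inf.1 hi
      have e : t = x ^ i * ((x ^ i)⁻¹ * t) := by group
      rw [e]
      refine Subgroup.mul_mem _ (Subgroup.mem_sup_right (Subgroup.zpow_mem _ (Subgroup.mem_zpowers x) i)) (Subgroup.mem_sup_left ?_)
      apply mem_Z2.2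
      refine ⟨hPS hi1, fun s hs => ?_⟩
      obtain ⟨k, hk⟩ := h3 s hs
      set b := (x ^ i)⁻¹ * t with hb
      set c := (x ^ k)⁻¹ * s with hc
      have es : s = x ^ k * c := by rw [hc]; group
      have h5 := hPZ b hi1 (x ^ k) (P.zpow_mem hxP k)
      have h6 : b * c = c * b := h.ab b hi2 c hk
      have e2 : b * s * b⁻¹ * s⁻¹ = b * x ^ k * b⁻¹ * (x ^ k)⁻¹ := by
        rw [es]
        calc b * (x ^ k * c) * b⁻¹ * (x ^ k * c)⁻¹ = b * x ^ k * (c * b⁻¹ * c⁻¹) * (x ^ k)⁻¹ := by group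
          _ = _ := by
            have h7 : c * b⁻¹ * c⁻¹ = b⁻¹ := by
              have h8 : c * b⁻¹ = b⁻¹ * c := ((show Commute b c from h6).inv_left).eq.symm
              rw [h8, mul_inv_cancel_right]
            rw [h7]
      rw [e2]
      exact h5
    · exact sup_le hZ2P (Subgroup.zpowers_le.2 hxP)
  · intro c hc hζ
    have hcP := hstar c hc hζ
    exact hyd c (Subgroup.mem_inf.2 ⟨hcP, hc⟩)

/-- the summary -/
theorem summary (hS : IsPGroup p S) (hF : F.IsSaturated p) (h : AbI S A p) (hE : F.IsEssential p P) (hPA : P ≠ A) :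
    ∃ x ∈ P, x ∉ A ∧ (((∀ y y' : P, y * y' = y' * y) ∧ P = Zs S ⊔ zpowers x) ∨
        ((_root_.upperCentralSeries S 2).map S.subtype ≤ A ∧ P = (_root_.upperCentralSeries S 2).map S.subtype ⊔ zpowers x)) ∧
      (P.subgroupOf (S ⊓ Subgroup.normalizer (P : Set Ω))).index = p ∧
      ∃ w ∈ A, w ∉ Zs S ∧ w ^ p ∈ Zs S ∧ w * x * w⁻¹ * x⁻¹ ∈ Zs S ∧ ∀ c ∈ A, c * x * c⁻¹ * x⁻¹ ∈ Zs S → ∃ i : ℤ, (w ^ i)⁻¹ * c ∈ Zs S := by
  classical
  obtain ⟨x, hxP, hxA⟩ := ex_x h hE hPA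
  have hPS : P ≤ S := hE.1.1
  haveI hfP : Finite P := finite_of_le hPS
  have hxS := hPS hxP
  refine ⟨x, hxP, hxA, ?_⟩
  by_cases hab : ∀ y y' : P, y * y' = y' * y
  · obtain ⟨heq, hinf, a, haA, haP, haN, hap, hdec⟩ := abelian_struct hS hF h hE hab hxP hxA
    obtain ⟨haS, han0⟩ := mem_normalizerIn.1 haN
    have han : a ∈ Subgroup.normalizer (P : Set Ω) := han0
    refine ⟨Or.inl ⟨hab, heq⟩, index_norm hE haN haP hap hdec, a, haA, fun h5 => haP (Zs_le_P hE h5),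
      hinf (Subgroup.mem_inf.2 ⟨hap, A.pow_mem haA p⟩), ?_, ?_⟩
    · exact hinf (Subgroup.mem_inf.2 ⟨P.mul_mem ((Subgroup.mem_normalizer_iff.1 han x).1 hxP) (P.inv_mem hxP), comm_A hS h haS hxS⟩)
    · intro c hc hζ
      have hcS := h.le hc
      obtain ⟨-, h3⟩ := dec hS h hxS hxA
      have hcn : c ∈ Subgroup.normalizer (P : Set Ω) := mem_normalizer_of_conj_le' (fun t ht => by
        obtain ⟨i, hi⟩ := h3 t (hPS ht)
        rw [conj_form hS h hc hxS hζ hi]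
        exact P.mul_mem (P.zpow_mem (Zs_le_P hE hζ) i) ht)
      obtain ⟨i, hi⟩ := hdec c (mem_normalizerIn.2 ⟨hcS, hcn⟩)
      exact ⟨i, hinf (Subgroup.mem_inf.2 ⟨hi, A.mul_mem (A.inv_mem (A.zpow_mem haA i)) hc⟩)⟩
  · obtain ⟨h1, ⟨a, haA, haP, haN, hap, hdec⟩, h2⟩ := nonab_struct hS hF h hE hab hxP hxA
    exact ⟨Or.inr h1, index_norm hE haN haP hap hdec, h2⟩

end fusion

end Cfsg.Agent.Lib.FusAbIdx
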