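import Mathlib
import Cfsg.Prelude.Def_PLocal
import Cfsg.Agent.Lib.PMin3

set_option autoImplicit false
set_option linter.unusedSectionVars false
set_option linter.unusedVariables false
set_option linter.style.haveILetI false

/-!
# Minimal counterexamples to normal `p`-complement theorems: the structure and the main theorem
-/

namespace Cfsg.Agent.Lib.PZJ

open Subgroup Cfsg Cfsg.Agent.Lib.PQuad Cfsg.Agent.Lib.PNilp Cfsg.Agent.Lib.H1Core Cfsg.Agent.Lib.PQA
open scoped commutatorElement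

universe u

section Structure

variable {p : ℕ} [Fact p.Prime] {G : Type u} [Group G] [Finite G]

/-- An element with coprime order information: trivial. -/
theorem eq_one_of_pow_of_coprime {x : G} {m k : ℕ} (hm : Nat.Coprime m p) (h1 : x ^ m = 1) (h2 : x ^ (p ^ k) = 1) :
    x = 1 := by
  have h3 := Nat.dvd_gcd (orderOf_dvd_of_pow_eq_one h1) (orderOf_dvd_of_pow_eq_one h2)
  rw [Nat.Coprime.pow_right k hm] at h3
  exact orderOf_eq_one_iff.1 (Nat.dvd_one.1 h3)

/-- Step (v) of the minimal counterexample: `G` is stable and `O_p(G)` contains its centralizer. -/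
theorem step_v (hp : p ≠ 2) (P : Sylow p G)
    (hi : ∀ H : Subgroup G, (P : Subgroup G) ≤ H → H ≠ ⊤ → HasNormalPComplement p ↥H)
    (hO : pPrimeCore p G = ⊥) (hbar : HasNormalPComplement p (G ⧸ pCore p G)) :
    centralizer (pCore p G : Set G) ≤ pCore p G ∧ Stab p G := by
  classical
  haveI hDn : (pCore p G).Normal := pCore_normal p G
  have hDp : IsPGroup p (pCore p G) := pCore_isPGroup p
  have hDP : pCore p G ≤ (P : Subgroup G) := pCore_le_sylow p P
  rw [hasNormalPComplement_iff] at hbar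
  obtain ⟨Nb, hNbn, hNbc, hNbq⟩ := hbar
  haveI := hNbn
  have hsurj := QuotientGroup.mk'_surjective (pCore p G)
  set π := QuotientGroup.mk' (pCore p G) with hπ
  have hker : ∀ x : G, π x = 1 ↔ x ∈ pCore p G := fun x => by
    rw [hπ, QuotientGroup.mk'_apply, QuotientGroup.eq_one_iff]
  let K : Subgroup G := Nb.comap π
  haveI hKn : K.Normal := Subgroup.Normal.comap hNbn π
  have hDK : pCore p G ≤ K := by
    intro x hx
    rw [mem_comap, (hker x).2 hx]
    exact one_mem _
  have hNbpow : ∀ y ∈ Nb, y ^ Nat.card Nb = 1 := fun y hy => by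
    have := pow_card_eq_one' (x := (⟨y, hy⟩ : Nb))
    exact congrArg Subtype.val this
  have hKp : ∀ x ∈ K, ∃ m : ℕ, Nat.Coprime m p ∧ x ^ m ∈ pCore p G := by
    intro x hx
    refine ⟨Nat.card Nb, hNbc, (hker _).1 ?_⟩
    rw [map_pow]
    exact hNbpow _ hx
  have hGK : ∀ g : G, ∃ n : ℕ, g ^ (p ^ n) ∈ K := by
    intro g
    obtain ⟨n, hn⟩ := (isPGroup_iff_pow_pow_eq_one.1 hNbq) (π g : (G ⧸ pCore p G) ⧸ Nb)
    refine ⟨n, ?_⟩
    rw [← QuotientGroup.mk_pow, QuotientGroup.eq_one_iff] at hn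
    rw [mem_comap, map_pow]
    exact hn
  -- `C_G(D) ≤ D`
  have hrel : (pCore p G).relIndex K = Nat.card Nb := by
    have h3 := Subgroup.relIndex_ker (K := K) π
    have h4 : K.map π = Nb := Subgroup.map_comap_eq_self_of_surjective hsurj _
    rw [h4, hπ, QuotientGroup.ker_mk'] at h3
    exact h3
  have hGKq : IsPGroup p (G ⧸ K) := by
    rw [isPGroup_iff_pow_pow_eq_one]
    intro y
    obtain ⟨g, rfl⟩ := QuotientGroup.mk_surjective y
    obtain ⟨n, hn⟩ := hGK g
    refine ⟨n, ?_⟩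
    rw [← QuotientGroup.mk_pow, QuotientGroup.eq_one_iff]
    exact hn
  have hsol : IsPSolvable p G := isPSolvable_of_series (pCore p G) K hDK hDp (by rw [hrel]; exact hNbc) hGKq
  have hc : centralizer (pCore p G : Set G) ≤ pCore p G :=
    Cfsg.Agent.Lib.PSolv.centralizer_le_of_isPSolvable hO (Cfsg.Agent.Lib.PSolv.isPSolvable_subgroup hsol _)
  refine ⟨hc, ?_⟩
  -- the image of `P`
  let Pb : Sylow p (G ⧸ pCore p G) := P.mapSurjective hsurj
  have hPbcoe : (Pb : Subgroup (G ⧸ pCore p G)) = (P : Subgroup G).map π := rfl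
  have hinter : ∀ y ∈ (Pb : Subgroup (G ⧸ pCore p G)), y ∈ Nb → y = 1 := by
    intro y hy hyN
    obtain ⟨k, hk⟩ := (isPGroup_iff_pow_pow_eq_one.1 Pb.2) ⟨y, hy⟩
    exact eq_one_of_pow_of_coprime hNbc (hNbpow y hyN) (congrArg Subtype.val hk)
  have hPbinf : ∀ Yb : Subgroup (G ⧸ pCore p G), Yb ≤ Nb → (Pb : Subgroup (G ⧸ pCore p G)) ⊓ Yb = ⊥ := by
    intro Yb hYb
    rw [eq_bot_iff]
    intro y hy
    exact mem_bot.2 (hinter y (mem_inf.1 hy).1 (hYb (mem_inf.1 hy).2))
  have hPbN : (Pb : Subgroup (G ⧸ pCore p G)) ≤ normalizer ((Nb : Subgroup _) : Set (G ⧸ pCore p G)) := by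
    rw [normalizer_eq_top_iff.2 hNbn]; exact le_top
  -- no proper invariant subgroup
  have hnoproper : ∀ Yb : Subgroup (G ⧸ pCore p G), Yb ≤ Nb →
      (Pb : Subgroup (G ⧸ pCore p G)) ≤ normalizer (Yb : Set (G ⧸ pCore p G)) → Yb ≠ Nb → Yb = ⊥ := by
    intro Yb hYbN hPYb hne
    let Y : Subgroup G := Yb.comap π
    let X : Subgroup G := Y ⊔ (P : Subgroup G)
    have hPX : (P : Subgroup G) ≤ X := le_sup_right
    have hXne : X ≠ ⊤ := by
      intro hX
      have h1 : Yb ⊔ (Pb : Subgroup (G ⧸ pCore p G)) = ⊤ := by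
        have h2 := congrArg (Subgroup.map π) hX
        rw [Subgroup.map_sup, Subgroup.map_comap_eq_self_of_surjective hsurj, ← MonoidHom.range_eq_map,
          MonoidHom.range_eq_top.2 hsurj] at h2
        exact h2
      have h3 := Cfsg.Agent.Lib.PQuad.card_sup_mul_inf_of_normalizes _ _ hPYb
      have h4 := Cfsg.Agent.Lib.PQuad.card_sup_mul_inf_of_normalizes _ _ hPbN
      rw [hPbinf Yb hYbN, sup_comm, h1] at h3
      rw [hPbinf Nb le_rfl, sup_eq_top_of_isPGroup_quotient Pb Nb hNbq] at h4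
      have h5 : Nat.card Pb * Nat.card Yb = Nat.card Pb * Nat.card Nb := by
        change _ = (Nat.card ↥(Pb : Subgroup (G ⧸ pCore p G))) * Nat.card Nb
        rw [← h3, ← h4]
      have h6 : Nat.card Yb = Nat.card Nb := Nat.eq_of_mul_eq_mul_left Nat.card_pos h5
      exact hne (Subgroup.eq_of_le_of_card_ge hYbN h6.ge)
    have hnpc := hi X hPX hXne
    rw [hasNormalPComplement_iff] at hnpc
    obtain ⟨X₀, hX₀n, hX₀c, hX₀q⟩ := hnpc
    haveI := hX₀n
    have hDX : pCore p G ≤ X := hDP.trans hPX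
    have hX₀pow : ∀ y ∈ X₀, y ^ Nat.card X₀ = 1 := fun y hy => by
      have := pow_card_eq_one' (x := (⟨y, hy⟩ : X₀))
      exact congrArg Subtype.val this
    have hcop1 : ∀ c ∈ X₀, ((c : ↥X) : G) ∈ pCore p G → c = 1 := by
      intro c hc1 hc2
      obtain ⟨k, hk⟩ := (isPGroup_iff_pow_pow_eq_one.1 hDp) ⟨c, hc2⟩
      have hk' : ((c : ↥X) : G) ^ (p ^ k) = 1 := congrArg Subtype.val hk
      exact eq_one_of_pow_of_coprime hX₀c (hX₀pow c hc1) (Subtype.ext hk')
    have hX₀bot : X₀ = ⊥ := by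
      rw [eq_bot_iff]
      intro x hx
      have hxC : ((x : ↥X) : G) ∈ centralizer (pCore p G : Set G) := by
        rw [mem_centralizer_iff]
        intro d hd
        have hd' : d ∈ X := hDX hd
        have h1 : x * (⟨d, hd'⟩ : ↥X) * x⁻¹ * (⟨d, hd'⟩ : ↥X)⁻¹ ∈ X₀ := by
          have := hX₀n.conj_mem _ (inv_mem hx) (⟨d, hd'⟩ : ↥X)
          have e : x * (⟨d, hd'⟩ : ↥X) * x⁻¹ * (⟨d, hd'⟩ : ↥X)⁻¹ =
              x * ((⟨d, hd'⟩ : ↥X) * x⁻¹ * (⟨d, hd'⟩ : ↥X)⁻¹) := by group
          rw [e]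
          exact mul_mem hx this
        have h2 : ((x * (⟨d, hd'⟩ : ↥X) * x⁻¹ * (⟨d, hd'⟩ : ↥X)⁻¹ : ↥X) : G) ∈ pCore p G := by
          have : ((x * (⟨d, hd'⟩ : ↥X) * x⁻¹ * (⟨d, hd'⟩ : ↥X)⁻¹ : ↥X) : G) =
              ((x : ↥X) : G) * d * ((x : ↥X) : G)⁻¹ * d⁻¹ := rfl
          rw [this]
          exact mul_mem (hDn.conj_mem d hd _) (inv_mem hd)
        have h3 := hcop1 _ h1 h2
        have h4 : ((x : ↥X) : G) * d * ((x : ↥X) : G)⁻¹ * d⁻¹ = 1 := congrArg Subtype.val h3
        have h5 : ((x : ↥X) : G) * d * ((x : ↥X) : G)⁻¹ = d := mul_inv_eq_one.1 h4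
        calc d * ((x : ↥X) : G) = (((x : ↥X) : G) * d * ((x : ↥X) : G)⁻¹) * ((x : ↥X) : G) := by rw [h5]
          _ = _ := by group
      exact mem_bot.2 (hcop1 x hx (hc hxC))
    have hXp : IsPGroup p ↥X := by
      rw [isPGroup_iff_pow_pow_eq_one]
      intro x
      obtain ⟨k, hk⟩ := (isPGroup_iff_pow_pow_eq_one.1 hX₀q) (x : ↥X ⧸ X₀)
      refine ⟨k, ?_⟩
      rw [← QuotientGroup.mk_pow, QuotientGroup.eq_one_iff, hX₀bot, mem_bot] at hk
      exact hk
    rw [eq_bot_iff]
    intro y hy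
    obtain ⟨x, rfl⟩ := hsurj y
    have hxX : x ∈ X := (le_sup_left : Y ≤ X) hy
    obtain ⟨k, hk⟩ := (isPGroup_iff_pow_pow_eq_one.1 hXp) ⟨x, hxX⟩
    have hk' : x ^ (p ^ k) = 1 := congrArg Subtype.val hk
    refine mem_bot.2 (eq_one_of_pow_of_coprime (k := k) hNbc (hNbpow _ (hYbN hy)) ?_)
    rw [← map_pow, hk', map_one]
  -- the complement is abelian
  have habelian : ∀ x ∈ Nb, ∀ y ∈ Nb, x * y = y * x := by
    by_cases hNbot : Nb = ⊥
    · intro x hx y hy
      rw [hNbot, mem_bot] at hx hy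
      rw [hx, hy]
    have hcard1 : Nat.card Nb ≠ 1 := fun h => hNbot ((Subgroup.eq_bot_iff_card _).2 h)
    obtain ⟨q, hq, hqd⟩ := Nat.exists_prime_and_dvd hcard1
    haveI : Fact q.Prime := ⟨hq⟩
    have hcop : (Nat.card (Pb : Subgroup (G ⧸ pCore p G))).Coprime (Nat.card Nb) := by
      obtain ⟨k, hk⟩ := IsPGroup.iff_card.1 Pb.2
      rw [hk]
      exact Nat.Coprime.pow_left k hNbc.symm
    haveI : Group.IsNilpotent ↥(Pb : Subgroup (G ⧸ pCore p G)) := Pb.2.isNilpotent
    obtain ⟨R, ⟨hRN, hRq, hRi⟩, hPR⟩ := Cfsg.Agent.Lib.H1Cop.exists_invariant_sylow hPbN hcop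
      (Or.inl inferInstance) q
    have hRne : R ≠ ⊥ := by
      rintro rfl
      apply hRi
      rw [Subgroup.relIndex_bot_left]
      exact hqd
    have hReq : R = Nb := by
      by_contra h
      exact hRne (hnoproper R hRN hPR h)
    have hNq : IsPGroup q Nb := by rw [← hReq]; exact hRq
    haveI hNnt : Nontrivial ↥Nb := (Subgroup.nontrivial_iff_ne_bot Nb).2 hNbot
    have hcen : Nontrivial (center ↥Nb) := hNq.center_nontrivial
    obtain ⟨z, hz⟩ := exists_ne (1 : center ↥Nb)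
    let Zb : Subgroup (G ⧸ pCore p G) := Nb ⊓ centralizer (Nb : Set (G ⧸ pCore p G))
    haveI : (centralizer (Nb : Set (G ⧸ pCore p G))).Normal := Subgroup.normal_centralizer
    have hZbn : Zb.Normal := inferInstance
    have hZbne : Zb ≠ ⊥ := by
      intro hb
      apply hz
      have h1 : ((z : ↥Nb) : G ⧸ pCore p G) ∈ Zb := by
        refine mem_inf.2 ⟨(z : ↥Nb).2, ?_⟩
        rw [mem_centralizer_iff]
        intro j hj
        have := (mem_center_iff.1 z.2) ⟨j, hj⟩
        exact congrArg Subtype.val this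
      rw [hb, mem_bot] at h1
      exact Subtype.ext (Subtype.ext h1)
    have hZbeq : Zb = Nb := by
      by_contra h
      refine hZbne (hnoproper Zb inf_le_left ?_ h)
      rw [normalizer_eq_top_iff.2 hZbn]; exact le_top
    intro x hx y hy
    have hy' : y ∈ Zb := by rw [hZbeq]; exact hy
    exact ((mem_centralizer_iff.1 (mem_inf.1 hy').2) x hx).symm ▸ rfl
  have hab : ∀ x ∈ K, ∀ y ∈ K, ⁅x, y⁆ ∈ pCore p G := by
    intro x hx y hy
    apply (hker _).1
    rw [map_commutatorElement, commutatorElement_eq_one_iff_mul_comm]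
    exact habelian _ hx _ hy
  exact stab_of_structure hp K hDK hab hKp hGK

end Structure

section Main

variable {p : ℕ} [Fact p.Prime] {ι : Type}
variable {Q L : ι → ∀ (G : Type u) [Group G], Subgroup G → Subgroup G}

/-- **The general normal `p`-complement theorem** via local functors. -/
theorem npc_main (hp : p ≠ 2) (hL : LocalAxioms p Q L)
    (F : ∀ (G : Type u) [Group G] [Finite G] (P : Sylow p G), pPrimeCore p G = ⊥ →
      centralizer (pCore p G : Set G) ≤ pCore p G → Stab p G →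
      (∀ i, HasNormalPComplement p ↥(L i G (P : Subgroup G))) → HasNormalPComplement p G) :
    ∀ (G : Type u) [Group G] [Finite G] (P : Sylow p G),
      (∀ i, HasNormalPComplement p ↥(L i G (P : Subgroup G))) → HasNormalPComplement p G := by
  have key : ∀ n : ℕ, ∀ (G : Type u) [Group G] [Finite G], Nat.card G = n → ∀ (P : Sylow p G),
      (∀ i, HasNormalPComplement p ↥(L i G (P : Subgroup G))) → HasNormalPComplement p G := by
    intro n
    induction n using Nat.strong_induction_on with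
    | _ n ih =>
      intro G _ _ hG P hyp
      by_contra hnot
      have IH : IndHyp p L G := by
        intro X _ _ hX S hS
        exact ih (Nat.card X) (by rw [← hG]; exact hX) X rfl S hS
      have hi := step_i hL P IH hyp
      have hO := step_ii hL P IH hyp hnot
      have hD := step_iii hL P IH hyp hnot
      have hbar := step_iv hL P IH hyp hD
      obtain ⟨hc, hst⟩ := step_v hp P hi hO hbar
      exact hnot (F G P hO hc hst hyp)
  exact fun G _ _ P hyp => key _ G rfl P hyp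

end Main

end Cfsg.Agent.Lib.PZJ
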