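import Mathlib
import Cfsg.Agent.Lib.FusGT5
import Cfsg.Agent.Lib.PZJ6
import Cfsg.Agent.Lib.PMin5

/-! A group-level ZJ-type theorem for a family of abelian subgroups whose intersections are invariant. -/

set_option autoImplicit false
set_option linter.unusedSectionVars false

namespace Cfsg.Agent.Lib.FusAxGT

open Cfsg Subgroup
open Cfsg.Agent.Lib.PZJ Cfsg.Agent.Lib.H1Core Cfsg.Agent.Lib.PNilp Cfsg.Agent.Lib.PGlaub
open scoped commutatorElement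

universe u

section Grp

variable {G : Type*} [Group G] [Finite G] {p : ℕ} [Fact p.Prime]

theorem inf_family_normal (hc : centralizer (pCore p G : Set G) ≤ pCore p G) (hst : Stab p G)
    (P : Sylow p G) (𝒜 : Set (Subgroup G)) (hA : ∀ A ∈ 𝒜, A ≤ (P : Subgroup G))
    (hab : ∀ A ∈ 𝒜, IsMulCommutative ↥A) (hne : 𝒜.Nonempty)
    (hinv : ∀ Q : Subgroup G, Q ≤ (P : Subgroup G) → (∃ A ∈ 𝒜, A ≤ Q) → ∀ g ∈ normalizer (Q : Set G),
      ∀ x ∈ (⨅ A ∈ {A : Subgroup G | A ∈ 𝒜 ∧ A ≤ Q}, A), g * x * g⁻¹ ∈ (⨅ A ∈ {A : Subgroup G | A ∈ 𝒜 ∧ A ≤ Q}, A))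
    (hrep : ∀ B : Subgroup G, B ≤ (P : Subgroup G) → ⁅⁅B, B⁆, B⁆ = ⊥ → (∃ A ∈ 𝒜, ⁅B, B⁆ ≤ A ∧ ¬ B ≤ A) →
      ∃ A ∈ 𝒜, ⁅B, B⁆ ≤ A ∧ ¬ B ≤ A ∧ B ≤ normalizer (A : Set G)) :
    (⨅ A ∈ 𝒜, A).Normal := by
  classical
  obtain ⟨A₀, hA₀⟩ := hne
  set Z : Subgroup G := ⨅ A ∈ 𝒜, A with hZ
  have hZA : ∀ A ∈ 𝒜, Z ≤ A := fun A hA' => iInf₂_le A hA'
  have hZP : Z ≤ (P : Subgroup G) := (hZA A₀ hA₀).trans (hA A₀ hA₀)
  have hIeq : (⨅ A ∈ {A : Subgroup G | A ∈ 𝒜 ∧ A ≤ (P : Subgroup G)}, A) = Z := by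
    apply le_antisymm
    · exact le_iInf₂ fun A hA' => iInf₂_le A ⟨hA', hA A hA'⟩
    · exact le_iInf₂ fun A hA' => iInf₂_le A hA'.1
  have hPN : (P : Subgroup G) ≤ normalizer (Z : Set G) := by
    intro n hn
    refine mem_normalizer_of_conj_mem ?_
    intro z hz
    have h1 := hinv (P : Subgroup G) le_rfl ⟨A₀, hA₀, hA A₀ hA₀⟩ n (Subgroup.le_normalizer hn) z (by rw [hIeq]; exact hz)
    rwa [hIeq] at h1
  have hZab : IsMulCommutative ↥Z := by
    refine isMulComm_of_forall fun a ha b hb => ?_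
    exact Cfsg.Agent.Lib.PQuad.comm_of_isMulComm (hab A₀ hA₀) (hZA A₀ hA₀ ha) (hZA A₀ hA₀ hb)
  haveI hDn : (pCore p G).Normal := pCore_normal p G
  have hDP' := pCore_le_sylow p P
  have hZD : Z ≤ pCore p G := le_pCore_of_abelian hc hst P Z hZab hZP hPN
  refine zj_abstract P Z hZP hPN (fun W hWZ hWc => ?_)
  haveI hZ0n : Z.normalCore.Normal := Z.normalCore_normal
  have hWC : W ≤ centralizer ((Z.normalCore : Subgroup G) : Set G) := by
    intro w hw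
    rw [mem_centralizer_iff]
    intro z hz
    exact Cfsg.Agent.Lib.PQuad.comm_of_isMulComm hZab (Z.normalCore_le hz) (hWZ hw)
  obtain ⟨hBD, hBC, hBc⟩ := closure_props Z.normalCore (pCore p G) W (hWZ.trans hZD) hWC
    (fun w hw g hg => hWc w hw g (hDP' hg))
  set B : Subgroup G := normalClosure (W : Set G) with hB
  haveI hBn : B.Normal := normalClosure_normal
  have hBB : ⁅B, B⁆ ≤ Z.normalCore := by
    rw [commutator_le]
    intro x hx y hy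
    exact hBc x hx y (hBD hy)
  refine le_iInf₂ fun A hA' => ?_
  by_contra hnot
  have hB2 : ⁅⁅B, B⁆, B⁆ = ⊥ := by
    rw [eq_bot_iff, commutator_le]
    intro x hx y hy
    have h1 := (mem_centralizer_iff.1 (hBC hy)) x (hBB hx)
    rw [commutatorElement_def, mem_bot, h1]
    group
  have hBP : B ≤ (P : Subgroup G) := hBD.trans hDP'
  obtain ⟨A', hA'm, h1, h2, h3⟩ := hrep B hBP hB2 ⟨A, hA', hBB.trans (Z.normalCore_le.trans (hZA A hA')), hnot⟩
  have hBp : IsPGroup p ↥B := P.2.to_le hBP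
  obtain ⟨M, hMn, hCM, hidx, hM⟩ := hst B hBn hBp
  haveI : M.Normal := hMn
  haveI hCn : (centralizer (B : Set G)).Normal := Subgroup.normal_centralizer
  have hA'M : A' ≤ M := hM A' (P.2.to_le (hA A' hA'm)) (quadratic_of_normalizes (hab A' hA'm) h3)
  set Q : Subgroup G := (P : Subgroup G) ⊓ M with hQ
  have hQP : Q ≤ (P : Subgroup G) := inf_le_left
  have hA'Q : A' ≤ Q := le_inf (hA A' hA'm) hA'M
  set Y : Subgroup G := ⨅ A ∈ {A : Subgroup G | A ∈ 𝒜 ∧ A ≤ Q}, A with hY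
  have hZY : Z ≤ Y := le_iInf₂ fun A hA2 => hZA A hA2.1
  have hYA' : Y ≤ A' := iInf₂_le A' ⟨hA'm, hA'Q⟩
  apply h2
  refine le_trans ?_ hYA'
  rw [hB, normalClosure, closure_le]
  intro x hx
  obtain ⟨w, hw, hwx⟩ := Group.mem_conjugatesOfSet_iff.1 hx
  obtain ⟨g, rfl⟩ := isConj_iff.1 hwx
  have hw1 : (w : G) ∈ W := hw
  have hwB : w ∈ B := subset_normalClosure hw
  -- Frattini
  have hF := Sylow.normalizer_sup_eq_top (sylowOfNormal P M)
  have hg : g ∈ normalizer (((sylowOfNormal P M : Sylow p M) : Subgroup M).map M.subtype : Subgroup G) ⊔ M := by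
    rw [hF]; exact mem_top _
  obtain ⟨n, hn, m, hm, rfl⟩ := Subgroup.mem_sup_of_normal_right.1 hg
  have hP0 : ((sylowOfNormal P M : Sylow p M) : Subgroup M).map M.subtype = Q := by
    rw [coe_sylowOfNormal, Subgroup.map_comap_eq, range_subtype, inf_comm]
  rw [hP0] at hn
  obtain ⟨c, hc', t, ht, rfl⟩ := exists_factor P M _ hCM hidx m hm
  have htQ : t ∈ Q := by
    refine mem_inf.2 ⟨ht, ?_⟩
    have h5 : c⁻¹ * (c * t) ∈ M := mul_mem (inv_mem (hCM hc')) hm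
    simpa using h5
  have hc2 : t⁻¹ * c * t ∈ centralizer (B : Set G) := by
    have := hCn.conj_mem c hc' t⁻¹
    simpa using this
  have hnt : n * t ∈ normalizer (Q : Set G) := mul_mem hn (Subgroup.le_normalizer htQ)
  have h6 := hinv Q hQP ⟨A', hA'm, hA'Q⟩ (n * t) hnt w (hZY (hWZ hw1))
  have h7 : w * (t⁻¹ * c * t) = (t⁻¹ * c * t) * w := (mem_centralizer_iff.1 hc2) w hwB
  have e : n * (c * t) * w * (n * (c * t))⁻¹ = n * t * w * (n * t)⁻¹ := by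
    have e1 : n * (c * t) = (n * t) * (t⁻¹ * c * t) := by group
    rw [e1]
    have e2 : (n * t) * (t⁻¹ * c * t) * w = (n * t) * (w * (t⁻¹ * c * t)) := by
      rw [h7]; group
    rw [e2]
    group
  show n * (c * t) * w * (n * (c * t))⁻¹ ∈ _
  rw [e]
  exact h6

end Grp


section Fus

open Cfsg.FusionSystem Cfsg.Agent.Lib.FusBasic Cfsg.Agent.Lib.FusAut Cfsg.Agent.Lib.FusSat Cfsg.Agent.Lib.FusNorm
  Cfsg.Agent.Lib.FusReal Cfsg.Agent.Lib.FusReal2 Cfsg.Agent.Lib.FusGT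

variable {p : ℕ} [Fact p.Prime] {Ω : Type u} [Group Ω] {S : Subgroup Ω} [Finite S] {F : FusionSystem S}

/-- a normal centric bad subgroup modulo which everything is `p`-nilpotent -/
theorem exists_core_mod (hp : p ≠ 2) (hS : IsPGroup p S) (hF : F.IsSaturated p) (hI : ¬ Inner F) :
    ∃ Q : Subgroup Ω, Q ≤ S ∧ S ≤ Subgroup.normalizer (Q : Set Ω) ∧ Bad F p Q ∧ centralizerIn S Q ≤ Q ∧
      ∀ {U : Subgroup Ω}, Q ≤ U → U ≤ S → ∀ {α : MulAut U}, α ∈ F.autGroup U →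
        (∀ x : U, (x : Ω) ∈ Q → ((α x : U) : Ω) ∈ Q) → ∃ k : ℕ, ∀ x : U, (x : Ω)⁻¹ * (((α ^ p ^ k) x : U) : Ω) ∈ Q := by
  classical
  have hIH : GTStmt ZJ p (Nat.card S) := gt_stmt hp _
  have hW1 : ∀ {Ω : Type u} [Group Ω] (T : Subgroup Ω) [Finite T], IsPGroup p T → T ≠ ⊥ → ZJ T ≠ ⊥ :=
    fun T _ hT hT1 => zj_ne_bot hT hT1
  have hW2 : ∀ {Ω : Type u} [Group Ω] (T : Subgroup Ω), ZJ T ≤ T := fun T => zj_le T
  have hW3 : ∀ {Ω : Type u} [Group Ω] (T : Subgroup Ω), Subgroup.normalizer (T : Set Ω) ≤ Subgroup.normalizer (ZJ T : Set Ω) :=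
    fun T _ hg => zj_normalized hg
  have hfin : {U : Subgroup Ω | U ≠ ⊥ ∧ F.IsFullyNormalized U ∧ Bad F p U}.Finite :=
    finite_subgroups_le.subset fun U hU => hU.2.1.1
  obtain ⟨U₀, h1, h2, h3⟩ := exists_bad_fn hS hF hI
  obtain ⟨Q, ⟨hQ1, hQFN, hQb⟩, hmax⟩ := Set.exists_max_image _
    (fun U : Subgroup Ω => Nat.card ↥(normalizerIn S U) * (Nat.card S + 1) + Nat.card U) hfin ⟨U₀, h1, h2, h3⟩
  have hQS := hQFN.1
  have hcardS : Nat.card Q ≤ Nat.card S := Subgroup.card_le_of_le hQS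
  have hTS : normalizerIn S Q = S := by
    by_contra hne
    have hTne : normalizerIn S Q ≠ ⊥ := by
      intro h
      apply hQ1
      have : Q ≤ normalizerIn S Q := fun x hx => ⟨hQS hx, Subgroup.le_normalizer hx⟩
      rw [h] at this
      exact le_bot_iff.1 this
    haveI : Finite ↥(normalizerIn S Q) := finite_normalizerIn Q
    have hpT : IsPGroup p ↥(normalizerIn S Q) := hS.to_le inf_le_left
    have hcardT : Nat.card ↥(normalizerIn S Q) < Nat.card S := card_lt_of_le_of_ne inf_le_left hne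
    obtain ⟨Y, hY1, hYFN, hYb, hlt⟩ := step_up ⟨ZJ _, hW1 _ hpT hTne, hW2 _, hW3 _, fun E hE hIE => hIH _ _ hpT E hE hcardT hIE⟩ hS hF hQFN hQ1 hQb hne
    have h4 : Nat.card ↥(normalizerIn S Y) * (Nat.card S + 1) + Nat.card Y ≤ Nat.card ↥(normalizerIn S Q) * (Nat.card S + 1) + Nat.card Q := hmax Y ⟨hY1, hYFN, hYb⟩
    have h5 := Nat.mul_le_mul_right (Nat.card S + 1) (Nat.succ_le_of_lt hlt)
    have h6 : Nat.succ (Nat.card ↥(normalizerIn S Q)) * (Nat.card S + 1) = Nat.card ↥(normalizerIn S Q) * (Nat.card S + 1) + (Nat.card S + 1) := Nat.succ_mul _ _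
    omega
  have hSN : S ≤ Subgroup.normalizer (Q : Set Ω) := fun s hs => (hTS.ge hs).2
  have hmaxV : ∀ V : Subgroup Ω, Q < V → V ≤ S → S ≤ Subgroup.normalizer (V : Set Ω) → ¬ Bad F p V := by
    intro V hlt hVS hVN hVb
    have hV1 : V ≠ ⊥ := by
      rintro rfl
      exact not_lt_bot hlt
    have h4 : Nat.card ↥(normalizerIn S V) * (Nat.card S + 1) + Nat.card V ≤ Nat.card ↥(normalizerIn S Q) * (Nat.card S + 1) + Nat.card Q := hmax V ⟨hV1, fn_of_normalized hVS hVN, hVb⟩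
    rw [normalizerIn_eq hVN, hTS] at h4
    haveI : Finite V := finite_of_le hVS
    have h5 : Nat.card Q < Nat.card V := card_lt_of_le_of_ne hlt.le hlt.ne
    omega
  have hmod : ∀ {U : Subgroup Ω}, Q ≤ U → U ≤ S → ∀ {α : MulAut U}, α ∈ F.autGroup U →
        (∀ x : U, (x : Ω) ∈ Q → ((α x : U) : Ω) ∈ Q) → ∃ k : ℕ, ∀ x : U, (x : Ω)⁻¹ * (((α ^ p ^ k) x : U) : Ω) ∈ Q :=
    fun {U} hQU hUS {α} hα hinv => core_mod hIH hW1 hW3 hS hF hQS hQ1 hSN hmaxV hQU hUS hα hinv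
  exact ⟨Q, hQS, hSN, hQb, core_centric hS hF hQS hSN hQb hmaxV hmod, hmod⟩

/-- automorphisms from conjugations in a realizing group -/
theorem aut_of_conj {Q : Subgroup Ω} {E : FusionSystem (normalizerIn S Q)} (hE : F.IsNormalizerSystem Q E)
    {L : Type*} [Group L] {ι : ↥(normalizerIn S Q) →* L} (hr : E.IsRealizedBy ι) (g : L)
    {U : Subgroup Ω} (hUT : U ≤ normalizerIn S Q) (hU : U ≤ S) (hg : ∀ x : U, g * ι ⟨x, hUT x.2⟩ * g⁻¹ ∈ (U.subgroupOf (normalizerIn S Q)).map ι) :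
    ∃ α : MulAut U, α ∈ F.autGroup U ∧ ∀ x : U, ι ⟨((α x : U) : Ω), hUT (α x).2⟩ = g * ι ⟨x, hUT x.2⟩ * g⁻¹ := by
  classical
  have h1 : ∀ x : U, g * ι ⟨x, hUT x.2⟩ * g⁻¹ ∈ ι.range := by
    intro x
    obtain ⟨t, -, ht⟩ := hg x
    exact ⟨t, ht⟩
  obtain ⟨ψ, hψ, hψv, hψe⟩ := exists_conj_hom hr g hUT h1
  have hψF : ψ ∈ F.Hom U := normalizerSystem_sub hE U hψ
  haveI : Finite U := finite_of_le hU
  have hψU : ∀ u : U, ψ u ∈ U := by
    intro u
    obtain ⟨t, ht, ht2⟩ := hg u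
    rw [← hψe u] at ht2
    have := hr.1 ht2
    have h3 : (t : Ω) = ψ u := congrArg Subtype.val this
    rw [← h3]
    exact ht
  have hr₀ := range_eq_of_le (inj F hψF) hψU
  refine ⟨isoOf ψ (inj F hψF) hr₀, mem_autGroup_of F (hom_congr F hψF (fun _ => rfl)), fun x => ?_⟩
  exact hψe x

/-- the quotient by `Q` of a local model has a normal `p`-complement -/
theorem quot_npc {Q : Subgroup Ω} (hQS : Q ≤ S) (hSN : S ≤ Subgroup.normalizer (Q : Set Ω))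
    {E : FusionSystem (normalizerIn S Q)} (hE : F.IsNormalizerSystem Q E)
    {L : Type*} [Group L] [Finite L] {ι : ↥(normalizerIn S Q) →* L} (hr : E.IsRealizedBy ι)
    (P : Sylow p L) (hP : (P : Subgroup L) = ι.range) (K : Subgroup L) [hKn : K.Normal]
    (hK : ∀ t, ι t ∈ K ↔ (t : Ω) ∈ Q) (hKP : K ≤ (P : Subgroup L))
    (hmod : ∀ {U : Subgroup Ω}, Q ≤ U → U ≤ S → ∀ {α : MulAut U}, α ∈ F.autGroup U →
        (∀ x : U, (x : Ω) ∈ Q → ((α x : U) : Ω) ∈ Q) → ∃ k : ℕ, ∀ x : U, (x : Ω)⁻¹ * (((α ^ p ^ k) x : U) : Ω) ∈ Q) :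
    HasNormalPComplement p (L ⧸ K) := by
  classical
  have hTS : normalizerIn S Q = S := normalizerIn_eq hSN
  have hsurj := QuotientGroup.mk'_surjective K
  let Pb : Sylow p (L ⧸ K) := P.mapSurjective hsurj
  have hPb : (Pb : Subgroup (L ⧸ K)) = (P : Subgroup L).map (QuotientGroup.mk' K) := rfl
  refine hasNormalPComplement_of_automizer Pb ?_
  intro Hb hHb gb hgb hco
  obtain ⟨g, rfl⟩ := hsurj gb
  set π := QuotientGroup.mk' K with hπ
  have hker : ∀ x : L, π x = 1 ↔ x ∈ K := fun x => by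
    rw [hπ, QuotientGroup.mk'_apply, QuotientGroup.eq_one_iff]
  let H : Subgroup L := Hb.comap π
  have hHP : H ≤ (P : Subgroup L) := by
    intro x hx
    have h1 : π x ∈ Hb := hx
    have h2 := hHb h1
    rw [hPb] at h2
    obtain ⟨y, hy, hyx⟩ := h2
    have h3 : y⁻¹ * x ∈ K := by
      rw [← hker, map_mul, map_inv, ← hyx]
      group
    have h4 : x = y * (y⁻¹ * x) := by group
    rw [h4]
    exact mul_mem hy (hKP h3)
  let U : Subgroup Ω := (H.comap ι).map (normalizerIn S Q).subtype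
  have hUT : U ≤ normalizerIn S Q := by
    rintro _ ⟨t, -, rfl⟩
    exact t.2
  have hUS : U ≤ S := hUT.trans inf_le_left
  have hUmem : ∀ t : ↥(normalizerIn S Q), (t : Ω) ∈ U ↔ ι t ∈ H := by
    intro t
    constructor
    · rintro ⟨t', ht', he⟩
      rw [← Subtype.ext he]
      exact ht'
    · intro h
      exact ⟨t, h, rfl⟩
  have hconj : ∀ h ∈ H, g * h * g⁻¹ ∈ H := by
    intro h hh
    have h1 : π h ∈ Hb := hh
    show π (g * h * g⁻¹) ∈ Hb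
    rw [map_mul, map_mul, map_inv]
    exact (mem_normalizer_iff.1 hgb _).1 h1
  have hHrange : ∀ h ∈ H, h ∈ ι.range := fun h hh => by
    rw [← hP]
    exact hHP hh
  have hUeq : (U.subgroupOf (normalizerIn S Q)).map ι = H := by
    apply le_antisymm
    · rintro _ ⟨t, ht, rfl⟩
      exact (hUmem t).1 ht
    · intro h hh
      obtain ⟨t, rfl⟩ := hHrange h hh
      exact ⟨t, (hUmem t).2 hh, rfl⟩
  obtain ⟨α, hα, hαe⟩ := aut_of_conj hE hr g hUT hUS (fun x => by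
    rw [hUeq]
    exact hconj _ ((hUmem ⟨x, hUT x.2⟩).1 x.2))
  have hQT : Q ≤ normalizerIn S Q := hQS.trans hTS.ge
  have hKH : K ≤ H := by
    intro x hx
    show π x ∈ Hb
    rw [(hker x).2 hx]
    exact one_mem _
  have hQU : Q ≤ U := by
    intro x hx
    exact (hUmem ⟨x, hQT hx⟩).2 (hKH ((hK ⟨x, hQT hx⟩).2 hx))
  have hinv : ∀ x : U, (x : Ω) ∈ Q → ((α x : U) : Ω) ∈ Q := by
    intro x hx
    have h1 := (hK _).1 (by
      rw [hαe x]
      exact hKn.conj_mem _ ((hK ⟨x, hUT x.2⟩).2 hx) g)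
    exact h1
  obtain ⟨k, hk⟩ := hmod hQU hUS hα hinv
  have hpow : ∀ (n : ℕ) (x : U), ι ⟨(((α ^ n) x : U) : Ω), hUT ((α ^ n) x).2⟩ = g ^ n * ι ⟨x, hUT x.2⟩ * (g ^ n)⁻¹ := by
    intro n
    induction n with
    | zero =>
      intro x
      simp
    | succ n ih =>
      intro x
      have e1 : (α ^ (n + 1)) x = α ((α ^ n) x) := by
        rw [pow_succ', MulAut.mul_apply]
      rw [e1, hαe, ih, pow_succ']
      group
  have hcent : (π g) ^ p ^ k ∈ Subgroup.centralizer (Hb : Set (L ⧸ K)) := by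
    rw [mem_centralizer_iff]
    intro hb hhb
    obtain ⟨h, rfl⟩ := hsurj hb
    have hh : h ∈ H := hhb
    obtain ⟨t, rfl⟩ := hHrange h hh
    have htU : (t : Ω) ∈ U := (hUmem t).2 hh
    have h1 := hk ⟨t, htU⟩
    have h2 := (hK ⟨_, mul_mem (inv_mem (hUT htU)) (hUT ((α ^ p ^ k) ⟨t, htU⟩).2)⟩).2 h1
    have h3 : ι ⟨_, mul_mem (inv_mem (hUT htU)) (hUT ((α ^ p ^ k) ⟨t, htU⟩).2)⟩ = (ι t)⁻¹ * ι ⟨(((α ^ p ^ k) ⟨t, htU⟩ : U) : Ω), hUT ((α ^ p ^ k) ⟨t, htU⟩).2⟩ := by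
      rw [← map_inv, ← map_mul]
      exact congrArg ι (Subtype.ext rfl)
    rw [h3, hpow] at h2
    have h4 := (hker _).2 h2
    have h5 : (⟨((⟨t, htU⟩ : U) : Ω), hUT (⟨t, htU⟩ : U).2⟩ : ↥(normalizerIn S Q)) = t := Subtype.ext rfl
    rw [h5, map_mul, map_mul, map_mul, map_inv, map_inv, map_pow] at h4
    exact eq_mul_inv_iff_mul_eq.1 (inv_mul_eq_one.1 h4)
  obtain ⟨m, hm⟩ := exists_pow_eq_self_of_coprime (x := π g) (n := p ^ k) (Nat.Coprime.pow_left k hco.symm)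
  rw [← hm]
  exact pow_mem hcent m

end Fus

end Cfsg.Agent.Lib.FusAxGT
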