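import Mathlib
import Cfsg.Agent.Lib.FusGen1

set_option autoImplicit false
set_option linter.unusedSectionVars false
set_option linter.unusedVariables false

/-!
Generation of fusion by the centralizer of `p`-th powers of central elements and a normalizer:
the constrained case.
-/

namespace Cfsg.Agent.Lib.FusGen

open Cfsg Cfsg.FusionSystem Cfsg.Agent.Lib.FusZC Cfsg.Agent.Lib.FusGZ Cfsg.Agent.Lib.FusBasic Cfsg.Agent.Lib.FusNorm2
  Cfsg.Agent.Lib.FusSat Cfsg.Agent.Lib.FusKNorm Cfsg.Agent.Lib.H1Core Cfsg.Agent.S5253 Cfsg.Agent.Lib.FusReal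
  Cfsg.Agent.Lib.FusFree Cfsg.Agent.Lib.FusGT

universe u

variable {Ω : Type u} [Group Ω] {S : Subgroup Ω} {F : FusionSystem S} {p : ℕ} [Fact p.Prime]
  {W : ∀ (Q : Type u) [Group Q], Subgroup Q}

/-- the subgroup generated by the `p`-th powers of the central elements -/
abbrev VS (p : ℕ) (S : Subgroup Ω) : Subgroup Ω := Cfsg.powerClosure p 1 (S ⊓ Subgroup.centralizer (S : Set Ω))

theorem VS_le : VS p S ≤ S := by
  rw [VS, Cfsg.powerClosure, Subgroup.closure_le]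
  rintro _ ⟨x, hx, rfl⟩
  exact S.pow_mem hx.1 _

theorem le_centralizer_VS : S ≤ Subgroup.centralizer (VS p S : Set Ω) := by
  intro s hs
  have h : VS p S ≤ Subgroup.centralizer ({s} : Set Ω) := by
    rw [VS, Cfsg.powerClosure, Subgroup.closure_le]
    rintro _ ⟨x, hx, rfl⟩
    refine Subgroup.pow_mem _ ?_ _
    rw [Subgroup.mem_centralizer_iff]
    intro t ht
    have ht' : t = s := ht
    rw [ht']
    exact Subgroup.mem_centralizer_iff.1 hx.2 s hs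
  rw [Subgroup.mem_centralizer_iff]
  intro v hv
  exact (Subgroup.mem_centralizer_iff.1 (h hv) s rfl).symm

/-- the constrained case -/
theorem con_gen (hW : IsPF p W) (hq : HQ p W) [Finite S] (hS : IsPGroup p S) (hF : F.IsSaturated p)
    {Q : Subgroup Ω} (hQ : F.IsNormal Q) (hC : centralizerIn S Q ≤ Q) (E : FusionSystem S)
    (hC₀ : ∀ P, F.centralizerHom (VS p S) P ⊆ E.Hom P) (hN₀ : ∀ P, F.normalizerHom (YOf W S) P ⊆ E.Hom P) :
    ∀ P, F.Hom P ⊆ E.Hom P := by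
  classical
  have hQS := hQ.1
  haveI : Finite Q := finite_of_le hQS
  obtain ⟨L, _, ι, hLM, hLn, hLc⟩ := exists_model_core hS hF hQ hC
  obtain ⟨hFinL, hr, ⟨T₁, hT₁⟩, hcL⟩ := hLM
  haveI : Finite L := hFinL
  let e₀ : S ≃* ↥(ι.range) := MonoidHom.ofInjective hr.1
  have hT₁' : ι.range = (T₁ : Subgroup L) := hT₁.symm
  let ee : S ≃* ↥(T₁ : Subgroup L) := e₀.trans (MulEquiv.subgroupCongr hT₁')
  have hee : ∀ x : S, ((ee x : ↥(T₁ : Subgroup L)) : L) = ι x := fun x => rfl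
  have hwT := hW.iso ↥S ↥(T₁ : Subgroup L) hS ee
  have hYS : YOf W S ≤ S := YOf_le
  have hSY : S ≤ Subgroup.normalizer (YOf W S : Set Ω) := le_normalizer_yof hW hS
  haveI : Finite ↥(YOf W S) := finite_of_le hYS
  -- a criterion for subgroups on which conjugation by `g` stays in the range
  have hKsub : ∀ (g : L), ∃ K : Subgroup S, ∀ x : S, x ∈ K ↔ g * ι x * g⁻¹ ∈ ι.range := by
    intro g
    refine ⟨((ι.range).map (MulAut.conj g⁻¹).toMonoidHom).comap ι, fun x => ?_⟩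
    constructor
    · rintro ⟨y, hy, e1⟩
      have e2 : g⁻¹ * y * g⁻¹⁻¹ = ι x := e1
      rw [← e2]
      simpa [mul_assoc] using hy
    · intro h
      refine ⟨_, h, ?_⟩
      show g⁻¹ * (g * ι x * g⁻¹) * g⁻¹⁻¹ = ι x
      group
  let Good : Subgroup L → L → Prop := fun Q' g =>
    ∀ (Q₀ : Subgroup Ω) (hQ₀ : Q₀ ≤ S), (Q₀.subgroupOf S).map ι = Q' → ∀ (φ : Q₀ →* Ω) (hv : ∀ x, φ x ∈ S),
      (∀ x : Q₀, ι ⟨φ x, hv x⟩ = g * ι ⟨x, hQ₀ x.2⟩ * g⁻¹) → φ ∈ E.Hom Q₀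
  have hG : GoodFam p W (T₁ : Subgroup L) Good := by
    refine ⟨?_, ?_, ?_, ?_⟩
    · -- conjugation by elements of the Sylow subgroup
      intro Q' s hQ' hs Q₀ hQ₀ hm φ hv hφ
      rw [hT₁] at hs
      obtain ⟨s₀, rfl⟩ := hs
      refine hom_congr E (E.conj_mem hQ₀ s₀.2) (fun x => ?_)
      have h1 : (⟨φ x, hv x⟩ : S) = s₀ * ⟨x, hQ₀ x.2⟩ * s₀⁻¹ := by
        apply hr.1
        rw [hφ x, map_mul, map_mul, map_inv]
      exact congrArg (fun z : S => (z : Ω)) h1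
    · -- composition
      intro Q' g h hQ' hg hh hGg hGh Q₀ hQ₀ hm φ hv hφ
      have hxm : ∀ x : Q₀, ι ⟨x, hQ₀ x.2⟩ ∈ Q' := by
        intro x
        rw [← hm]
        exact ⟨⟨x, hQ₀ x.2⟩, x.2, rfl⟩
      have hx₁ : ∀ x : Q₀, g * ι ⟨x, hQ₀ x.2⟩ * g⁻¹ ∈ ι.range := by
        intro x
        rw [← hT₁]
        exact hg _ (hxm x)
      obtain ⟨φ₁, hφ₁F, hv₁, hφ₁e⟩ := exists_conj_hom hr g hQ₀ hx₁
      have hφ₁E := hGg Q₀ hQ₀ hm φ₁ hv₁ hφ₁e
      have hQ₁ : φ₁.range ≤ S := by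
        rintro _ ⟨y, rfl⟩
        exact hv₁ y
      have hm₁ : (φ₁.range.subgroupOf S).map ι = Q'.map (MulAut.conj g).toMonoidHom := by
        ext z
        constructor
        · rintro ⟨⟨w, hwS⟩, ⟨y, hy⟩, rfl⟩
          have hy' : φ₁ y = w := hy
          subst hy'
          rw [show ι ⟨φ₁ y, hwS⟩ = g * ι ⟨y, hQ₀ y.2⟩ * g⁻¹ from hφ₁e y]
          exact ⟨_, hxm y, rfl⟩
        · rintro ⟨_, hz, rfl⟩
          rw [← hm] at hz
          obtain ⟨⟨w, hwS⟩, hw, rfl⟩ := hz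
          have hw' : w ∈ Q₀ := hw
          exact ⟨⟨φ₁ ⟨w, hw'⟩, hv₁ _⟩, ⟨⟨w, hw'⟩, rfl⟩, hφ₁e ⟨w, hw'⟩⟩
      have hx₂ : ∀ x : φ₁.range, h * ι ⟨x, hQ₁ x.2⟩ * h⁻¹ ∈ ι.range := by
        rintro ⟨_, ⟨y, rfl⟩⟩
        rw [← hT₁]
        have h1 := hh _ (hxm y)
        rwa [show ι ⟨φ₁ y, hQ₁ ⟨y, rfl⟩⟩ = g * ι ⟨y, hQ₀ y.2⟩ * g⁻¹ from hφ₁e y]
      obtain ⟨φ₂, hφ₂F, hv₂, hφ₂e⟩ := exists_conj_hom hr h hQ₁ hx₂
      have hφ₂E := hGh φ₁.range hQ₁ hm₁ φ₂ hv₂ hφ₂e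
      refine comp_mem' E hφ₁E hφ₂E (fun x => ⟨x, rfl⟩) (fun x => ?_)
      have h1 : (⟨φ x, hv x⟩ : S) = ⟨φ₂ ⟨φ₁ x, ⟨x, rfl⟩⟩, hv₂ _⟩ := by
        apply hr.1
        rw [hφ x, hφ₂e ⟨φ₁ x, ⟨x, rfl⟩⟩, show ι ⟨φ₁ x, hQ₁ ⟨x, rfl⟩⟩ = g * ι ⟨x, hQ₀ x.2⟩ * g⁻¹ from hφ₁e x]
        group
      exact congrArg (fun z : S => (z : Ω)) h1
    · -- the centralizer
      intro Q' c hQ' hc hfix Q₀ hQ₀ hm φ hv hφ
      apply hC₀
      have hφF : φ ∈ F.Hom Q₀ := mem_of_conj hr hQ₀ hv c hφ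
      have hRS : Q₀ ⊔ VS p S ≤ S := sup_le hQ₀ VS_le
      obtain ⟨K, hK⟩ := hKsub c
      -- powers of central elements are fixed
      have hfx : ∀ v ∈ VS p S, ∃ hvS : v ∈ S, c * ι ⟨v, hvS⟩ * c⁻¹ = ι ⟨v, hvS⟩ := by
        intro v hv'
        rw [VS, Cfsg.powerClosure] at hv'
        induction hv' using Subgroup.closure_induction with
        | mem x hx =>
          obtain ⟨y, hy, rfl⟩ := hx
          have hyS : y ∈ S := hy.1
          refine ⟨S.pow_mem hyS _, ?_⟩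
          have h1 : (⟨y ^ p ^ 1, S.pow_mem hyS _⟩ : S) = (⟨y, hyS⟩ : S) ^ p := by
            apply Subtype.ext
            simp
          rw [h1, map_pow]
          refine hfix _ ?_ ?_
          · rw [hT₁]
            exact ⟨_, rfl⟩
          · rw [Subgroup.mem_centralizer_iff]
            intro t ht
            rw [SetLike.mem_coe, hT₁] at ht
            obtain ⟨s, rfl⟩ := ht
            rw [← map_mul, ← map_mul]
            congr 1
            apply Subtype.ext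
            exact Subgroup.mem_centralizer_iff.1 hy.2 s s.2
        | one =>
          refine ⟨S.one_mem, ?_⟩
          have h1 : (⟨1, S.one_mem⟩ : S) = 1 := rfl
          rw [h1, map_one]
          group
        | mul a b _ _ ha hb =>
          obtain ⟨h1, h2⟩ := ha
          obtain ⟨h3, h4⟩ := hb
          refine ⟨S.mul_mem h1 h3, ?_⟩
          have h5 : (⟨a * b, S.mul_mem h1 h3⟩ : S) = ⟨a, h1⟩ * ⟨b, h3⟩ := rfl
          rw [h5, map_mul]
          calc c * (ι ⟨a, h1⟩ * ι ⟨b, h3⟩) * c⁻¹ = (c * ι ⟨a, h1⟩ * c⁻¹) * (c * ι ⟨b, h3⟩ * c⁻¹) := by group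
            _ = _ := by rw [h2, h4]
        | inv a _ ha =>
          obtain ⟨h1, h2⟩ := ha
          refine ⟨S.inv_mem h1, ?_⟩
          have h5 : (⟨a⁻¹, S.inv_mem h1⟩ : S) = (⟨a, h1⟩ : S)⁻¹ := rfl
          rw [h5, map_inv]
          calc c * (ι ⟨a, h1⟩)⁻¹ * c⁻¹ = (c * ι ⟨a, h1⟩ * c⁻¹)⁻¹ := by group
            _ = _ := by rw [h2]
      have hxm : ∀ x : Q₀, ι ⟨x, hQ₀ x.2⟩ ∈ Q' := by
        intro x
        rw [← hm]
        exact ⟨⟨x, hQ₀ x.2⟩, x.2, rfl⟩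
      have hRK : Q₀ ⊔ VS p S ≤ K.map S.subtype := by
        apply sup_le
        · intro x hx
          refine ⟨⟨x, hQ₀ hx⟩, (hK _).2 ?_, rfl⟩
          rw [← hT₁]
          exact hc _ (hxm ⟨x, hx⟩)
        · intro v hv'
          obtain ⟨hvS, h1⟩ := hfx v hv'
          refine ⟨⟨v, hvS⟩, (hK _).2 ?_, rfl⟩
          rw [h1]
          exact ⟨_, rfl⟩
      have hRg : ∀ x : ↥(Q₀ ⊔ VS p S), c * ι ⟨x, hRS x.2⟩ * c⁻¹ ∈ ι.range := by
        intro x
        obtain ⟨y, hy, e1⟩ := hRK x.2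
        have e2 : (⟨x, hRS x.2⟩ : S) = y := Subtype.ext e1.symm
        rw [e2]
        exact (hK y).1 hy
      obtain ⟨ψ, hψ, hψv, hψe⟩ := exists_conj_hom hr c hRS hRg
      have hle := le_centralizer_VS (p := p) (S := S)
      refine ⟨hφF, fun x hx => ⟨hQ₀ hx, hle (hQ₀ hx)⟩, fun x => ⟨hv x, hle (hv x)⟩, ψ, hψ, fun x => ?_, fun x => ?_⟩
      · have h1 : (⟨ψ (Subgroup.inclusion le_sup_left x), hψv _⟩ : S) = ⟨φ x, hv x⟩ := by
          apply hr.1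
          rw [hψe, hφ x]
          rfl
        exact congrArg (fun z : S => (z : Ω)) h1
      · obtain ⟨hvS, h0⟩ := hfx x x.2
        have h1 : (⟨ψ (Subgroup.inclusion le_sup_right x), hψv _⟩ : S) = ⟨x, hvS⟩ := by
          apply hr.1
          rw [hψe]
          exact h0
        exact congrArg (fun z : S => (z : Ω)) h1
    · -- the normalizer
      intro Q' g hQ' hc hg Q₀ hQ₀ hm φ hv hφ
      apply hN₀
      have hφF : φ ∈ F.Hom Q₀ := mem_of_conj hr hQ₀ hv g hφ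
      have hRS : Q₀ ⊔ YOf W S ≤ S := sup_le hQ₀ hYS
      obtain ⟨K, hKm⟩ := hKsub g
      have hYn : ∀ (y : S), y ∈ W ↥S → ∃ y' : S, y' ∈ W ↥S ∧ ι y' = g * ι y * g⁻¹ := by
        intro y hy
        have h1 : ι y ∈ (W ↥(T₁ : Subgroup L)).map (T₁ : Subgroup L).subtype := by
          rw [← hwT]
          exact ⟨ee y, ⟨y, hy, rfl⟩, rfl⟩
        have h2 := (Subgroup.mem_normalizer_iff.1 hg (ι y)).1 h1
        obtain ⟨⟨t, ht⟩, ht', e2⟩ := h2
        have e3 : t = g * ι y * g⁻¹ := e2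
        rw [← hwT] at ht'
        obtain ⟨y', hy', e4⟩ := ht'
        refine ⟨y', hy', ?_⟩
        have e5 : ι y' = t := congrArg Subtype.val e4
        rw [e5, e3]
      have hxm : ∀ x : Q₀, ι ⟨x, hQ₀ x.2⟩ ∈ Q' := by
        intro x
        rw [← hm]
        exact ⟨⟨x, hQ₀ x.2⟩, x.2, rfl⟩
      have hRK : Q₀ ⊔ YOf W S ≤ K.map S.subtype := by
        apply sup_le
        · intro x hx
          refine ⟨⟨x, hQ₀ hx⟩, (hKm _).2 ?_, rfl⟩
          rw [← hT₁]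
          exact hc _ (hxm ⟨x, hx⟩)
        · intro x hx
          obtain ⟨y, hy, rfl⟩ := hx
          refine ⟨y, (hKm _).2 ?_, rfl⟩
          obtain ⟨y', -, e1⟩ := hYn y hy
          exact ⟨y', e1⟩
      have hRg : ∀ x : ↥(Q₀ ⊔ YOf W S), g * ι ⟨x, hRS x.2⟩ * g⁻¹ ∈ ι.range := by
        intro x
        obtain ⟨y, hy, e1⟩ := hRK x.2
        have e2 : (⟨x, hRS x.2⟩ : S) = y := Subtype.ext e1.symm
        rw [e2]
        exact (hKm y).1 hy
      obtain ⟨ψ, hψ, hψv, hψe⟩ := exists_conj_hom hr g hRS hRg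
      have hmapY : ((YOf W S).subgroupOf (Q₀ ⊔ YOf W S)).map ψ = YOf W S := by
        have hle : ((YOf W S).subgroupOf (Q₀ ⊔ YOf W S)).map ψ ≤ YOf W S := by
          rintro _ ⟨⟨x, hxR⟩, hx, rfl⟩
          have hx' : x ∈ YOf W S := hx
          obtain ⟨h0, h1⟩ := mem_YOf.1 hx'
          obtain ⟨y', hy', e1⟩ := hYn ⟨x, h0⟩ h1
          have h2 := hψe ⟨x, hxR⟩
          have h3 : (⟨ψ ⟨x, hxR⟩, hψv _⟩ : S) = y' := by
            apply hr.1
            rw [h2, e1]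
          have h4 : ψ ⟨x, hxR⟩ = y' := congrArg Subtype.val h3
          rw [h4]
          exact ⟨y', hy', rfl⟩
        apply Subgroup.eq_of_le_of_card_ge hle
        have hinj := inj F hψ
        rw [Subgroup.card_map_of_injective hinj]
        exact (Nat.card_congr (Subgroup.subgroupOfEquivOfLe (le_sup_right : YOf W S ≤ Q₀ ⊔ YOf W S)).toEquiv).ge
      refine ⟨hφF, fun x hx => ⟨hQ₀ hx, hSY (hQ₀ hx)⟩, fun x => ⟨hv x, hSY (hv x)⟩, ψ, hψ, fun x => ?_, hmapY⟩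
      have h1 : (⟨ψ (Subgroup.inclusion le_sup_left x), hψv _⟩ : S) = ⟨φ x, hv x⟩ := by
        apply hr.1
        rw [hψe, hφ x]
        rfl
      exact congrArg (fun z : S => (z : Ω)) h1
  intro P φ hφ
  obtain ⟨hP, hv, g, hg⟩ := exists_conj_of_mem hr hφ
  have hleT : (P.subgroupOf S).map ι ≤ (T₁ : Subgroup L) := by
    rw [hT₁]
    exact Subgroup.map_le_range _ _
  have hgT : ∀ x ∈ (P.subgroupOf S).map ι, g * x * g⁻¹ ∈ (T₁ : Subgroup L) := by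
    rintro _ ⟨⟨x, hxS⟩, hx, rfl⟩
    have hx' : x ∈ P := hx
    have h1 := hg ⟨x, hx'⟩
    rw [hT₁]
    exact ⟨_, h1⟩
  exact gen_quad hW hq _ L rfl T₁ hcL Good hG _ g hleT hgT P hP rfl φ hv hg

end Cfsg.Agent.Lib.FusGen
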