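import Mathlib
import Cfsg.Agent.Lib.FusGE2

set_option autoImplicit false
set_option linter.unusedSectionVars false
set_option linter.unusedVariables false

/-!
Generation of fusion by the centralizer of `p`-th powers of central elements and a normalizer:
the induction.
-/

namespace Cfsg.Agent.Lib.FusGE

open Cfsg Cfsg.FusionSystem Cfsg.Agent.Lib.FusZC Cfsg.Agent.Lib.FusGZ Cfsg.Agent.Lib.FusBasic Cfsg.Agent.Lib.FusNorm2
  Cfsg.Agent.Lib.FusSat Cfsg.Agent.Lib.FusKNorm Cfsg.Agent.Lib.H1Core Cfsg.Agent.S5253 Cfsg.Agent.Lib.FusReal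
  Cfsg.Agent.Lib.FusFree Cfsg.Agent.Lib.FusGT Cfsg.Agent.Lib.FusNorm Cfsg.Agent.Lib.FusAlp Cfsg.Agent.Lib.FusAut
  Cfsg.Agent.Lib.FusQuot Cfsg.Agent.Lib.FusReal2 Cfsg.Agent.Lib.FusModel2 Cfsg.Agent.Lib.FusGen

universe u

variable {Ω : Type u} [Group Ω] {S : Subgroup Ω} {F : FusionSystem S} {p : ℕ} [Fact p.Prime]
  {W : ∀ (Q : Type u) [Group Q], Subgroup Q}

theorem VSn_mono {e : ℕ} {T : Subgroup Ω} (hTS : T ≤ S) (hZT : S ⊓ Subgroup.centralizer (S : Set Ω) ≤ T) : VSn p e S ≤ VSn p e T := by
  rw [VSn, VSn, Cfsg.powerClosure, Cfsg.powerClosure, Subgroup.closure_le]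
  rintro _ ⟨x, hx, rfl⟩
  refine Subgroup.subset_closure ⟨x, Subgroup.mem_inf.2 ⟨hZT hx, Subgroup.mem_centralizer_iff.2 fun t ht => ?_⟩, rfl⟩
  exact Subgroup.mem_centralizer_iff.1 (Subgroup.mem_inf.1 hx).2 t (hTS ht)

/-- the centralizer maps of a subsystem -/
theorem cent_to_EE {e : ℕ} {T : Subgroup Ω} (hTS : T ≤ S) (hZT : S ⊓ Subgroup.centralizer (S : Set Ω) ≤ T) {D : FusionSystem T}
    (hsub : ∀ P, D.Hom P ⊆ F.Hom P) {E : FusionSystem S} (hC₀ : ∀ P, F.centralizerHom (VSn p e S) P ⊆ E.Hom P) :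
    ∀ P, D.centralizerHom (VSn p e T) P ⊆ (restrictSys E hTS).Hom P := by
  intro P φ hφ
  obtain ⟨h1, h2, h3, ψ, hψ, he, hf⟩ := hφ
  have hPT : P ≤ T := h2.trans inf_le_left
  have hv : ∀ x, φ x ∈ T := fun x => (h3 x).1
  have hVS : VSn p e S ≤ VSn p e T := VSn_mono hTS hZT
  have hle := le_centralizer_VSn (p := p) (S := S) (n := e)
  have hsup : P ⊔ VSn p e S ≤ P ⊔ VSn p e T := sup_le_sup_left hVS P
  refine ⟨hC₀ P ⟨hsub P h1, fun x hx => ⟨hTS (hPT hx), hle (hTS (hPT hx))⟩, fun x => ⟨hTS (hv x), hle (hTS (hv x))⟩,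
    ψ.comp (Subgroup.inclusion hsup), res_mem F hsup (hsub _ hψ), fun x => he x, fun x => ?_⟩, hPT, hv⟩
  exact hf ⟨x, hVS x.2⟩

/-- the induction statement -/
def GClaimE (p e : ℕ) [Fact p.Prime] (𝒜 : ∀ (Ω : Type u) [Group Ω], Subgroup Ω → Prop) (W : ∀ (Q : Type u) [Group Q], Subgroup Q) (n : ℕ) : Prop :=
  ∀ (Ω : Type u) [Group Ω] (S : Subgroup Ω) [Finite S], Nat.card S = n → IsPGroup p S → 𝒜 Ω S → ∀ F : FusionSystem S,
    F.IsSaturated p → ∀ E : FusionSystem S, (∀ P, F.centralizerHom (VSn p e S) P ⊆ E.Hom P) →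
      (∀ P, F.normalizerHom (YOf W S) P ⊆ E.Hom P) → ∀ P, F.Hom P ⊆ E.Hom P

/-- the step for a subgroup normal in the system -/
theorem normal_genE {e : ℕ} {𝒜 : ∀ (Ω : Type u) [Group Ω], Subgroup Ω → Prop} (hA : Adm 𝒜) (hW : IsPF p W) (hWC : HC p W) (hq : HQE p e 𝒜 W) [Finite S] (hS : IsPGroup p S) (hSA : 𝒜 Ω S) (hF : F.IsSaturated p)
    {Y : Subgroup Ω} (hY : F.IsNormal Y) (E : FusionSystem S)
    (hC₀ : ∀ P, F.centralizerHom (VSn p e S) P ⊆ E.Hom P) (hN₀ : ∀ P, F.normalizerHom (YOf W S) P ⊆ E.Hom P)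
    (hup : ∀ Y', Y < Y' → Y' ≤ S → S ≤ Subgroup.normalizer (Y' : Set Ω) → ∀ P, F.normalizerHom Y' P ⊆ E.Hom P)
    (hIH : ∀ m < Nat.card S, GClaimE p e 𝒜 W m) : ∀ P, F.Hom P ⊆ E.Hom P := by
  classical
  by_cases hC : centralizerIn S Y ≤ Y
  · exact con_genE hA hW hq hSA hS hF hY hC E hC₀ hN₀
  have hYS := hY.1
  haveI : Finite Y := finite_of_le hYS
  have hSY : S ≤ Subgroup.normalizer (Y : Set Ω) := hscOf hY
  have hYsc := stronglyClosed_of_normal F hY
  have hess : ∀ R, (R = S ∨ F.IsEssential p R) → Y < R := by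
    rintro R (rfl | hR)
    · exact lt_of_le_of_ne hYS (fun e => hC (inf_le_left.trans e.ge))
    · have hRad := essential_radical hS F hR
      have hcen := hR.1.2 R (isConj_refl F hR.1.1)
      have hYR := normal_le_of_radical hS F hY hRad hcen
      refine lt_of_le_of_ne hYR (fun e => ?_)
      subst e
      exact hC hcen
  have key : ∀ k V, Y < V → F.IsFullyNormalized V → Nat.card S - Nat.card ↥(normalizerIn S V) = k →
      ∀ P, F.normalizerHom V P ⊆ E.Hom P := by
    intro k
    induction k using Nat.strong_induction_on with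
    | _ k ihk =>
      intro V hYV hV hk
      by_cases hT : normalizerIn S V = S
      · exact hup V hYV hV.1 (hT.ge.trans inf_le_right)
      · have hTS : normalizerIn S V ≤ S := inf_le_left
        haveI hTfin : Finite ↥(normalizerIn S V) := finite_of_le hTS
        have hTlt : normalizerIn S V < S := lt_of_le_of_ne hTS hT
        have hTcard : Nat.card ↥(normalizerIn S V) < Nat.card S := card_lt_of_lt' hTlt
        have hTp : IsPGroup p ↥(normalizerIn S V) := hS.to_le hTS
        have hZT : S ⊓ Subgroup.centralizer (S : Set Ω) ≤ normalizerIn S V := cen_le_norm hV.1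
        obtain ⟨N₂, hN₂⟩ := S5096.result F V hV.1
        have Nsat := saturated_normalizer hS hF hV hN₂
        have hsub : ∀ P, N₂.Hom P ⊆ F.Hom P := by
          intro P ξ hξ
          rw [hN₂] at hξ
          exact hξ.1
        have hVT : V ≤ normalizerIn S V := le_inf hV.1 Subgroup.le_normalizer
        have hUT : YOf W (normalizerIn S V) ≤ normalizerIn S V := YOf_le
        have hUS : YOf W (normalizerIn S V) ≤ S := hUT.trans hTS
        have hTU : normalizerIn S V ≤ Subgroup.normalizer (YOf W (normalizerIn S V) : Set Ω) := le_normalizer_yof hW hTp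
        haveI : Finite ↥(YOf W (normalizerIn S V)) := finite_of_le hUS
        have hUY : ¬ YOf W (normalizerIn S V) ≤ Y := by
          intro h
          apply hC
          have h1 := cen_le_of_yof hW hWC hS hV.1 (h.trans hYV.le)
          refine le_trans ?_ (h1.trans h)
          refine inf_le_inf_left _ ?_
          intro c hc
          rw [Subgroup.mem_centralizer_iff] at hc ⊢
          intro u hu
          exact hc u (h hu)
        -- the subgroup `U₁`
        have hU₁S : YOf W (normalizerIn S V) ⊔ Y ≤ S := sup_le hUS hYS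
        haveI hU₁f : Finite ↥(YOf W (normalizerIn S V) ⊔ Y) := finite_of_le hU₁S
        have hYU₁ : Y < YOf W (normalizerIn S V) ⊔ Y := lt_of_le_of_ne le_sup_right (fun e => hUY (le_sup_left.trans e.ge))
        have hNU1 : normalizerIn S (normalizerIn S V) ≤ normalizerIn S (YOf W (normalizerIn S V)) :=
          le_inf inf_le_left (inf_le_right.trans (yof_norm hW hTp))
        have hNU2 : normalizerIn S (YOf W (normalizerIn S V)) ≤ normalizerIn S (YOf W (normalizerIn S V) ⊔ Y) := by
          intro s hs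
          exact ⟨hs.1, sup_norm hs.2 (hSY hs.1)⟩
        haveI : Finite ↥(normalizerIn S (YOf W (normalizerIn S V) ⊔ Y)) := finite_of_le inf_le_left
        haveI : Finite ↥(normalizerIn S (normalizerIn S V)) := finite_of_le inf_le_left
        have hTlt2 : normalizerIn S V < normalizerIn S (normalizerIn S V) := normalizerIn_gt hS hTlt
        have hcardU : Nat.card ↥(normalizerIn S V) < Nat.card ↥(normalizerIn S (YOf W (normalizerIn S V) ⊔ Y)) :=
          lt_of_lt_of_le (card_lt_of_lt' hTlt2) (Subgroup.card_le_of_le (hNU1.trans hNU2))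
        obtain ⟨U', hconj, hU'⟩ := exists_fullyNormalized_conj F hU₁S
        haveI : Finite ↥(normalizerIn S U') := finite_of_le inf_le_left
        have hcardU' : Nat.card ↥(normalizerIn S (YOf W (normalizerIn S V) ⊔ Y)) ≤ Nat.card ↥(normalizerIn S U') :=
          hU'.2 _ (isConj_symm F hconj)
        have hU'le : Nat.card ↥(normalizerIn S U') ≤ Nat.card S := Subgroup.card_le_of_le inf_le_left
        have hYU' : Y < U' := by
          obtain ⟨ξ, hξ, hr⟩ := hconj
          have h1 : Y ≤ U' := by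
            have hle : (Y.subgroupOf (YOf W (normalizerIn S V) ⊔ Y)).map ξ ≤ Y := by
              rintro _ ⟨⟨y, hy₀⟩, hy, rfl⟩
              have hy' : y ∈ Y := hy
              have hres := hYsc.2 Y le_rfl _ (res_mem F (le_sup_right : Y ≤ YOf W (normalizerIn S V) ⊔ Y) hξ) ⟨y, hy'⟩
              exact hres
            have heq : (Y.subgroupOf (YOf W (normalizerIn S V) ⊔ Y)).map ξ = Y := by
              apply Subgroup.eq_of_le_of_card_ge hle
              rw [Subgroup.card_map_of_injective (inj F hξ)]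
              exact (Nat.card_congr (Subgroup.subgroupOfEquivOfLe (le_sup_right : Y ≤ YOf W (normalizerIn S V) ⊔ Y)).toEquiv).ge
            rw [← heq, ← hr]
            rintro _ ⟨y, -, rfl⟩
            exact ⟨y, rfl⟩
          refine lt_of_le_of_ne h1 ?_
          rintro rfl
          have h2 := isConj_card F (show F.IsConj _ _ from ⟨ξ, hξ, hr⟩)
          have h3 := card_lt_of_lt' hYU₁
          omega
        have hU'E : ∀ P, F.normalizerHom U' P ⊆ E.Hom P :=
          ihk _ (by
            have h1 : Nat.card ↥(normalizerIn S V) ≤ Nat.card S := hTcard.le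
            omega) U' hYU' hU' rfl
        have hpart : ∀ P : Subgroup Ω, P ≤ S → Nat.card ↥(normalizerIn S V) < Nat.card P → F.Hom P ⊆ E.Hom P := by
          refine alperin_partial₂ hS hF E _ (fun R hRFN hRc hRe α hα => ?_)
          have hRS := hRFN.1
          haveI : Finite R := finite_of_le hRS
          haveI : Finite ↥(normalizerIn S R) := finite_of_le inf_le_left
          have hcardR : Nat.card R ≤ Nat.card ↥(normalizerIn S R) :=
            Subgroup.card_le_of_le (le_inf hRS Subgroup.le_normalizer)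
          have hcardR2 : Nat.card ↥(normalizerIn S R) ≤ Nat.card S := Subgroup.card_le_of_le inf_le_left
          exact mem_autGroup_of E (ihk _ (by omega) R (hess R hRe) hRFN rfl R (aut_mem_normalizerHom hRS hα))
        obtain ⟨ψ, hψ, hψv, hψR⟩ := exists_map_normalizer hS F (fullyAutomized_of_fullyNormalized hS F hF hU')
          (receptive_of_fullyNormalized hS F hF hU') hconj
        have hψE := hpart (normalizerIn S (YOf W (normalizerIn S V) ⊔ Y)) inf_le_left hcardU hψ
        have hC₂ := cent_to_EE hTS hZT hsub hC₀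
        have hN₂E : ∀ P, N₂.normalizerHom (YOf W (normalizerIn S V)) P ⊆ (restrictSys E hTS).Hom P := by
          intro P φ hφ
          obtain ⟨hφN, hPN, hvN, φ₁, hφ₁, he, hm⟩ := hφ
          have hφ₁F := hsub _ hφ₁
          obtain ⟨ψ₂, hψ₂, he₂, hm₂⟩ := hY.2 _ φ₁ hφ₁F
          have hPT : P ≤ normalizerIn S V := hPN.trans inf_le_left
          have hPS : P ≤ S := hPT.trans hTS
          have hRS : (P ⊔ YOf W (normalizerIn S V)) ⊔ Y ≤ S := sup_le (sup_le hPS hUS) hYS
          haveI : Finite ↥((P ⊔ YOf W (normalizerIn S V)) ⊔ Y) := finite_of_le hRS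
          have hY'R : YOf W (normalizerIn S V) ⊔ Y ≤ (P ⊔ YOf W (normalizerIn S V)) ⊔ Y :=
            sup_le (le_sup_right.trans le_sup_left) le_sup_right
          have hmap : ((YOf W (normalizerIn S V) ⊔ Y).subgroupOf ((P ⊔ YOf W (normalizerIn S V)) ⊔ Y)).map ψ₂ = YOf W (normalizerIn S V) ⊔ Y := by
            have hle : ((YOf W (normalizerIn S V) ⊔ Y).subgroupOf ((P ⊔ YOf W (normalizerIn S V)) ⊔ Y)).map ψ₂ ≤ YOf W (normalizerIn S V) ⊔ Y := by
              have hK : YOf W (normalizerIn S V) ⊔ Y ≤ ((YOf W (normalizerIn S V) ⊔ Y).comap ψ₂).map ((P ⊔ YOf W (normalizerIn S V)) ⊔ Y).subtype := by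
                apply sup_le
                · intro v hv
                  have hvR : v ∈ P ⊔ YOf W (normalizerIn S V) := (le_sup_right : YOf W (normalizerIn S V) ≤ P ⊔ YOf W (normalizerIn S V)) hv
                  refine ⟨⟨v, (le_sup_left : P ⊔ YOf W (normalizerIn S V) ≤ (P ⊔ YOf W (normalizerIn S V)) ⊔ Y) hvR⟩, Subgroup.mem_comap.2 ?_, rfl⟩
                  have h1 : ψ₂ ⟨v, (le_sup_left : P ⊔ YOf W (normalizerIn S V) ≤ (P ⊔ YOf W (normalizerIn S V)) ⊔ Y) hvR⟩ = φ₁ ⟨v, hvR⟩ := he₂ ⟨v, hvR⟩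
                  have h2 : φ₁ ⟨v, hvR⟩ ∈ YOf W (normalizerIn S V) := hm.le ⟨⟨v, hvR⟩, hv, rfl⟩
                  rw [h1]
                  exact (le_sup_left : YOf W (normalizerIn S V) ≤ YOf W (normalizerIn S V) ⊔ Y) h2
                · intro y hy
                  refine ⟨⟨y, (le_sup_right : Y ≤ (P ⊔ YOf W (normalizerIn S V)) ⊔ Y) hy⟩, Subgroup.mem_comap.2 ?_, rfl⟩
                  have h2 : ψ₂ ⟨y, (le_sup_right : Y ≤ (P ⊔ YOf W (normalizerIn S V)) ⊔ Y) hy⟩ ∈ Y :=
                    hm₂.le ⟨⟨y, (le_sup_right : Y ≤ (P ⊔ YOf W (normalizerIn S V)) ⊔ Y) hy⟩, hy, rfl⟩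
                  exact (le_sup_right : Y ≤ YOf W (normalizerIn S V) ⊔ Y) h2
              rintro _ ⟨r, hr, rfl⟩
              obtain ⟨r', hr', e1⟩ := hK hr
              have e2 : r' = r := Subtype.ext e1
              rw [← e2]
              exact hr'
            apply Subgroup.eq_of_le_of_card_ge hle
            rw [Subgroup.card_map_of_injective (inj F hψ₂)]
            exact (Nat.card_congr (Subgroup.subgroupOfEquivOfLe hY'R).toEquiv).ge
          have hBN : (P ⊔ YOf W (normalizerIn S V)) ⊔ Y ≤ normalizerIn S (YOf W (normalizerIn S V) ⊔ Y) := by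
            refine sup_le (sup_le ?_ ?_) ?_
            · intro x hx
              exact ⟨hPS hx, sup_norm (hPN hx).2 (hSY (hPS hx))⟩
            · intro x hx
              exact ⟨hUS hx, sup_norm (Subgroup.le_normalizer hx) (hSY (hUS hx))⟩
            · intro x hx
              exact ⟨hYS hx, sup_norm (hTU (hVT (hYV.le hx))) (Subgroup.le_normalizer hx)⟩
          have hv := Cfsg.Agent.Lib.FusQuot.val_norm hψ₂ hBN hY'R hmap
          have hφ₂E := transport_E E hU'.1 hψ hψv hψR hψE hU'E hBN hY'R hψ₂ hv hmap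
          have hPR : P ≤ (P ⊔ YOf W (normalizerIn S V)) ⊔ Y := le_sup_left.trans le_sup_left
          refine ⟨res_mem' E hPR hφ₂E (fun x => ?_), hPT, fun x => (N₂.le_of_mem hφN).2 x⟩
          rw [← he x, ← he₂]
          rfl
        have hres := hIH _ hTcard Ω (normalizerIn S V) rfl hTp (hA.mono Ω S _ hTS hSA) N₂ Nsat (restrictSys E hTS) hC₂ hN₂E
        intro P φ hφ
        rw [← hN₂] at hφ
        exact (hres P hφ).1
  have hle : F ≤ E := by
    refine alperin_goldschmidt F hS hF E (fun R hR α hα => ?_)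
    have hRFN : F.IsFullyNormalized R := by
      rcases hR with rfl | hR
      · exact fullyNormalized_top hS F
      · exact hR.2.1
    exact mem_autGroup_of E (key _ R (hess R hR) hRFN rfl R (aut_mem_normalizerHom hRFN.1 hα))
  exact hle

/-- the main theorem -/
theorem gen_mainE {e : ℕ} {𝒜 : ∀ (Ω : Type u) [Group Ω], Subgroup Ω → Prop} (hA : Adm 𝒜) (hW : IsPF p W) (hWC : HC p W) (hq : HQE p e 𝒜 W) (n : ℕ) : GClaimE p e 𝒜 W n := by
  induction n using Nat.strong_induction_on with
  | _ n ih =>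
    intro Ω _ S _ hcard hS hSA F hF E hC₀ hN₀
    subst hcard
    classical
    have O : ∀ k Y, Y ≤ S → S ≤ Subgroup.normalizer (Y : Set Ω) → Nat.card S - Nat.card Y = k → ∀ P, F.normalizerHom Y P ⊆ E.Hom P := by
      intro k
      induction k using Nat.strong_induction_on with
      | _ k ihk =>
        intro Y hYS hSN hk
        obtain ⟨N₁, hN₁⟩ := S5096.result F Y hYS
        have hfn : F.IsFullyNormalized Y := fn_of_norm hYS hSN
        have Nsat := saturated_normalizer hS hF hfn hN₁
        have hT : normalizerIn S Y = S := le_antisymm inf_le_left (le_inf le_rfl hSN)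
        have hNY : N₁.IsNormal Y := normal_in_normalizer hYS hN₁
        haveI hTfin : Finite ↥(normalizerIn S Y) := finite_of_le inf_le_left
        have hTS : normalizerIn S Y ≤ S := inf_le_left
        have hTp : IsPGroup p ↥(normalizerIn S Y) := hS.to_le inf_le_left
        have hcardT : Nat.card ↥(normalizerIn S Y) = Nat.card S := by rw [hT]
        have hsub : ∀ P, N₁.Hom P ⊆ F.Hom P := by
          intro P ξ hξ
          rw [hN₁] at hξ
          exact hξ.1
        have hZT : S ⊓ Subgroup.centralizer (S : Set Ω) ≤ normalizerIn S Y := by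
          rw [hT]
          exact inf_le_left
        have hmono : ∀ {Q P : Subgroup Ω} {φ : P →* Ω}, φ ∈ N₁.normalizerHom Q P → φ ∈ F.normalizerHom Q P := by
          intro Q P φ hφ
          obtain ⟨h1, h2, h3, ψ, hψ, he, hm⟩ := hφ
          rw [hN₁] at h1 hψ
          have hm' : normalizerIn (normalizerIn S Y) Q ≤ normalizerIn S Q := inf_le_inf_right _ inf_le_left
          exact ⟨h1.1, h2.trans hm', fun x => hm' (h3 x), ψ, hψ.1, he, hm⟩
        have hC₁ := cent_to_EE hTS hZT hsub hC₀
        have hN₁E : ∀ P, N₁.normalizerHom (YOf W (normalizerIn S Y)) P ⊆ (restrictSys E hTS).Hom P := by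
          intro P φ hφ
          rw [YOf_congr hT] at hφ
          have h1 := hmono hφ
          have h2 := N₁.le_of_mem hφ.1
          exact ⟨hN₀ P h1, h2.1, h2.2⟩
        have hup' : ∀ Y', Y < Y' → Y' ≤ normalizerIn S Y → normalizerIn S Y ≤ Subgroup.normalizer (Y' : Set Ω) →
            ∀ P, N₁.normalizerHom Y' P ⊆ (restrictSys E hTS).Hom P := by
          intro Y' hYY' hY'T hTY' P φ hφ
          have hY'S : Y' ≤ S := hY'T.trans inf_le_left
          haveI : Finite Y' := finite_of_le hY'S
          haveI : Finite Y := finite_of_le hYS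
          have h1 : Nat.card Y < Nat.card Y' := card_lt_of_lt' hYY'
          have h2 : Nat.card Y' ≤ Nat.card S := Subgroup.card_le_of_le hY'S
          have h3 := N₁.le_of_mem hφ.1
          exact ⟨ihk _ (by omega) Y' hY'S (hT.ge.trans hTY') rfl P (hmono hφ), h3.1, h3.2⟩
        have hIH' : ∀ m < Nat.card ↥(normalizerIn S Y), GClaimE p e 𝒜 W m := by
          intro m hm
          exact ih m (hcardT ▸ hm)
        have hfinal := normal_genE hA hW hWC hq hTp (hA.mono Ω S _ hTS hSA) Nsat hNY (restrictSys E hTS) hC₁ hN₁E hup' hIH'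
        intro P φ hφ
        rw [← hN₁] at hφ
        exact (hfinal P hφ).1
    have hbot : S ≤ Subgroup.normalizer (((⊥ : Subgroup Ω) : Subgroup Ω) : Set Ω) := by
      intro s _
      rw [Subgroup.mem_normalizer_iff]
      intro h
      simp only [Subgroup.mem_bot]
      constructor
      · rintro rfl
        simp
      · intro h1
        have : s * h = s := by
          rwa [mul_inv_eq_one] at h1
        simpa using this
    have hb := O _ ⊥ bot_le hbot rfl
    intro P φ hφ
    have hPS := src_le F hφ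
    have hPT : P ≤ normalizerIn S ⊥ := fun y hy => ⟨hPS hy, hbot (hPS hy)⟩
    refine hb P (mem_normHom bot_le hφ hPT (fun y => ⟨val_mem F hφ y, hbot (val_mem F hφ y)⟩) ?_)
    rw [eq_bot_iff]
    rintro _ ⟨y, hy, rfl⟩
    have hy' : (y : Ω) ∈ (⊥ : Subgroup Ω) := hy
    have hy1 : y = 1 := Subtype.ext (Subgroup.mem_bot.1 hy')
    rw [hy1, map_one]
    exact Subgroup.one_mem _

end Cfsg.Agent.Lib.FusGE
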