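import Mathlib
import Cfsg.Agent.Lib.FusKNorm

/-! Existence of the `K`-normalizer system. -/

set_option autoImplicit false
set_option linter.unusedSectionVars false
set_option linter.unusedVariables false

namespace Cfsg.Agent.Lib.FusKSys

open Cfsg Cfsg.FusionSystem Cfsg.Agent.Lib.FusBasic Cfsg.Agent.Lib.FusAut Cfsg.Agent.Lib.FusSat Cfsg.Agent.Lib.FusKNorm

variable {Ω : Type*} [Group Ω] {S : Subgroup Ω}

theorem exists_KSystem [Finite S] (F : FusionSystem S) {Q : Subgroup Ω} (hQ : Q ≤ S) (K : Subgroup (MulAut Q)) :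
    ∃ E : FusionSystem (normIn S Q K), IsKSystem F Q K (normIn S Q K) E := by
  haveI : Finite Q := finite_of_le hQ
  have hTS : normIn S Q K ≤ S := normIn_le
  refine ⟨{ Hom := fun X => {φ | X ≤ normIn S Q K ∧ (∀ x, φ x ∈ normIn S Q K) ∧ ∃ ψ ∈ F.Hom (X ⊔ Q),
              (∀ x : X, ψ (Subgroup.inclusion le_sup_left x) = φ x) ∧ ∃ κ ∈ K, ∀ q : Q, ψ (Subgroup.inclusion le_sup_right q) = κ q}
            le_of_mem := ?_, injective_of_mem := ?_, conj_mem := ?_, comp_mem := ?_, inv_mem := ?_ }, fun X φ => Iff.rfl⟩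
  · rintro P φ ⟨hP, hv, -⟩
    exact ⟨hP, hv⟩
  · rintro P φ ⟨-, -, ψ, hψ, a, -⟩ x y hxy
    rw [← a, ← a] at hxy
    have := inj F hψ hxy
    exact Subtype.ext (congrArg (fun z : ↥(P ⊔ Q) => (z : Ω)) this)
  · intro P g hP hg
    have hPS : P ≤ S := hP.trans hTS
    have hgS : g ∈ S := hTS hg
    obtain ⟨-, hgN, hgK⟩ := mem_normIn.1 hg
    refine ⟨hP, fun x => ?_, conjHom (P ⊔ Q) g, F.conj_mem (sup_le hPS hQ) hgS, fun x => rfl, cAut Q ⟨g, hgN⟩, hgK, fun q => rfl⟩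
    exact (normIn S Q K).mul_mem ((normIn S Q K).mul_mem hg (hP x.2)) ((normIn S Q K).inv_mem hg)
  · rintro P R φ ψ ⟨hP, hv, φ', hφ', a, κ₁, hκ₁, b⟩ ⟨hR, hvR, ψ', hψ', c, κ₂, hκ₂, d⟩ h
    have hval : ∀ x : ↥(P ⊔ Q), φ' x ∈ R ⊔ Q := by
      intro x
      refine map_sup_le (A := P ⊔ Q) φ' le_rfl (fun y hy => ?_) (fun y hy => ?_) x x.2
      · have := a ⟨y, hy⟩
        have e : φ' y = φ ⟨y, hy⟩ := this
        rw [e]
        exact (le_sup_left : R ≤ R ⊔ Q) (h _)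
      · have := b ⟨y, hy⟩
        have e : φ' y = κ₁ ⟨y, hy⟩ := this
        rw [e]
        exact (le_sup_right : Q ≤ R ⊔ Q) (κ₁ _).2
    refine ⟨hP, fun x => hvR _, ψ'.comp (φ'.codRestrict (R ⊔ Q) hval), F.comp_mem hφ' hψ' hval, fun x => ?_, κ₂ * κ₁, K.mul_mem hκ₂ hκ₁, fun q => ?_⟩
    · have e := a x
      show ψ' ⟨φ' (Subgroup.inclusion le_sup_left x), _⟩ = ψ ⟨φ x, _⟩
      rw [← c ⟨φ x, h x⟩]
      congr 1
      exact Subtype.ext e
    · have e := b q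
      show ψ' ⟨φ' (Subgroup.inclusion le_sup_right q), _⟩ = ((κ₂ (κ₁ q) : Q) : Ω)
      rw [← d (κ₁ q)]
      congr 1
      exact Subtype.ext e
  · rintro P φ ⟨hP, hv, φ', hφ', a, κ, hκ, b⟩
    obtain ⟨ω, hω, -, hωx⟩ := exists_inv F hφ' rfl
    have hle : φ.range ≤ φ'.range := by
      rintro _ ⟨x, rfl⟩
      exact ⟨_, a x⟩
    have hQle : Q ≤ φ'.range := by
      intro q hq
      refine ⟨Subgroup.inclusion le_sup_right (κ⁻¹ ⟨q, hq⟩), ?_⟩
      rw [b]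
      have : κ (κ⁻¹ ⟨q, hq⟩) = ⟨q, hq⟩ := by
        show (κ * κ⁻¹) _ = _
        simp
      rw [this]
    have hle2 : φ.range ⊔ Q ≤ φ'.range := sup_le hle hQle
    have hω1 : ∀ x : P, ω ⟨φ x, hle ⟨x, rfl⟩⟩ = (x : Ω) := by
      intro x
      have h5 := hωx (Subgroup.inclusion le_sup_left x)
      have h6 : φ' (Subgroup.inclusion le_sup_left x) ∈ φ'.range := ⟨_, rfl⟩
      have h7 := h5 h6
      have h8 : (⟨φ' (Subgroup.inclusion le_sup_left x), h6⟩ : φ'.range) = ⟨φ x, hle ⟨x, rfl⟩⟩ := Subtype.ext (a x)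
      rw [h8] at h7
      exact h7
    refine ⟨ω.comp (Subgroup.inclusion hle), ⟨?_, ?_, ω.comp (Subgroup.inclusion hle2), res_mem F hle2 hω, fun x => rfl, κ⁻¹, K.inv_mem hκ, fun q => ?_⟩, fun x => hω1 x⟩
    · rintro _ ⟨x, rfl⟩
      exact hv x
    · rintro ⟨_, x, rfl⟩
      show ω ⟨φ x, _⟩ ∈ _
      rw [hω1 x]
      exact hP x.2
    · have h5 := hωx (Subgroup.inclusion le_sup_right (κ⁻¹ q))
      have h6 : φ' (Subgroup.inclusion le_sup_right (κ⁻¹ q)) ∈ φ'.range := ⟨_, rfl⟩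
      have h7 := h5 h6
      have h8 : (⟨φ' (Subgroup.inclusion le_sup_right (κ⁻¹ q)), h6⟩ : φ'.range) = ⟨q, hQle q.2⟩ := by
        apply Subtype.ext
        show φ' (Subgroup.inclusion le_sup_right (κ⁻¹ q)) = q
        rw [b]
        have : κ (κ⁻¹ q) = q := by
          show (κ * κ⁻¹) _ = _
          simp
        rw [this]
      rw [h8] at h7
      exact h7

end Cfsg.Agent.Lib.FusKSys
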