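import Mathlib
import Cfsg.Agent.Lib.FusSubModel
import Cfsg.Agent.Lib.FusSat

/-! A finite group with a normal Klein four-subgroup on which it induces the full automorphism group involves `S₄`. -/

set_option autoImplicit false
set_option linter.unusedSectionVars false
set_option linter.unusedVariables false

namespace Cfsg.Agent.Lib.FusS4

open Cfsg Subgroup

section

variable {Γ : Type*} [Group Γ]

theorem comm_of_exp2 {X : Subgroup Γ} (hXe : ∀ x ∈ X, x * x = 1) {x y : Γ} (hx : x ∈ X) (hy : y ∈ X) : x * y = y * x := by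
  have h1 := hXe _ (mul_mem hx hy)
  have h2 := hXe x hx
  have h3 := hXe y hy
  calc x * y = x * (x * y * (x * y)) * y := by rw [h1]; group
    _ = (x * x) * y * x * (y * y) := by group
    _ = y * x := by rw [h2, h3]; group

theorem four_cases [Finite Γ] {X : Subgroup Γ} (hX4 : Nat.card X = 4) (hXe : ∀ x ∈ X, x * x = 1)
    {z y : Γ} (hz : z ∈ X) (hy : y ∈ X) (hz1 : z ≠ 1) (hy1 : y ≠ 1) (hyz : y ≠ z) :
    ∀ w ∈ X, w = 1 ∨ w = z ∨ w = y ∨ w = y * z := by
  classical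
  haveI := Fintype.ofFinite X
  let A : Finset X := {1, ⟨z, hz⟩, ⟨y, hy⟩, ⟨y * z, mul_mem hy hz⟩}
  have hcard : A.card = 4 := by
    have h1 : (1 : X) ≠ ⟨z, hz⟩ := fun h => hz1 (congrArg Subtype.val h).symm
    have h2 : (1 : X) ≠ ⟨y, hy⟩ := fun h => hy1 (congrArg Subtype.val h).symm
    have h3 : (1 : X) ≠ ⟨y * z, mul_mem hy hz⟩ := fun h => by
      have e : 1 = y * z := congrArg Subtype.val h
      have e2 := hXe y hy
      apply hyz
      calc y = y * (y * z) := by rw [← e]; group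
        _ = (y * y) * z := by group
        _ = z := by rw [e2]; group
    have h4 : (⟨z, hz⟩ : X) ≠ ⟨y, hy⟩ := fun h => hyz (congrArg Subtype.val h).symm
    have h5 : (⟨z, hz⟩ : X) ≠ ⟨y * z, mul_mem hy hz⟩ := fun h => by
      have e : z = y * z := congrArg Subtype.val h
      exact hy1 (by simpa using e.symm)
    have h6 : (⟨y, hy⟩ : X) ≠ ⟨y * z, mul_mem hy hz⟩ := fun h => by
      have e : y = y * z := congrArg Subtype.val h
      exact hz1 (by simpa using e.symm)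
    simp [A, Finset.card_insert_of_notMem, h1, h2, h3, h4, h5, h6]
  have huniv : A = Finset.univ := by
    apply Finset.eq_univ_of_card
    rw [hcard, ← Nat.card_eq_fintype_card, hX4]
  intro w hw
  have h := Finset.mem_univ (⟨w, hw⟩ : X)
  rw [← huniv] at h
  simp only [A, Finset.mem_insert, Finset.mem_singleton] at h
  rcases h with h | h | h | h
  · exact Or.inl (congrArg Subtype.val h)
  · exact Or.inr (Or.inl (congrArg Subtype.val h))
  · exact Or.inr (Or.inr (Or.inl (congrArg Subtype.val h)))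
  · exact Or.inr (Or.inr (Or.inr (congrArg Subtype.val h)))

end

section

variable {Γ : Type*} [Group Γ] [Finite Γ] (X : Subgroup Γ) [hXn : X.Normal]

/-- conjugation -/
abbrev cj (g x : Γ) : Γ := g * x * g⁻¹

theorem cj_mul_left (g x y : Γ) : cj g (x * y) = cj g x * cj g y := by
  simp only [cj]; group

theorem cj_comp (g h x : Γ) : cj g (cj h x) = cj (g * h) x := by
  simp only [cj]; group

variable {X}

/-- the orbit structure of a fixed-point-free element -/
theorem fpf_orbit (hX4 : Nat.card X = 4) (hXe : ∀ x ∈ X, x * x = 1) {r : Γ} (hr : ∀ x ∈ X, cj r x = x → x = 1)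
    {x : Γ} (hx : x ∈ X) (hx1 : x ≠ 1) :
    cj r (cj r x) = cj r x * x ∧ cj r (cj r (cj r x)) = x ∧ ∀ w ∈ X, w = 1 ∨ w = x ∨ w = cj r x ∨ w = cj r (cj r x) := by
  have hy : cj r x ∈ X := hXn.conj_mem x hx r
  have hy1 : cj r x ≠ 1 := fun h => hx1 (by
    have : r * x * r⁻¹ = 1 := h
    have h2 : r * x = r := by rwa [mul_inv_eq_one] at this
    exact mul_eq_left.1 h2)
  have hyx : cj r x ≠ x := fun h => hx1 (hr x hx h)
  have hy2 : cj r (cj r x) ∈ X := hXn.conj_mem _ hy r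
  have hyy : cj r (cj r x) ≠ cj r x := fun h => hy1 (hr _ hy h)
  have hy21 : cj r (cj r x) ≠ 1 := fun h => hy1 (by
    have : r * cj r x * r⁻¹ = 1 := h
    have h2 : r * cj r x = r := by rwa [mul_inv_eq_one] at this
    exact mul_eq_left.1 h2)
  have hcomm : ∀ {a b : Γ}, a ∈ X → b ∈ X → a * b = b * a := fun ha hb => comm_of_exp2 hXe ha hb
  have hcases := four_cases hX4 hXe hx hy hx1 hy1 hyx
  have h2 : cj r (cj r x) = cj r x * x := by
    rcases hcases _ hy2 with h | h | h | h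
    · exact absurd h hy21
    · -- then `y x` is fixed
      exfalso
      have h3 : cj r (cj r x * x) = cj r x * x := by
        rw [cj_mul_left, h, hcomm hx hy]
      have h4 := hr _ (mul_mem hy hx) h3
      apply hyx
      have e := hXe x hx
      calc cj r x = cj r x * x * x := by rw [mul_assoc, e, mul_one]
        _ = x := by rw [h4, one_mul]
    · exact absurd h hyy
    · exact h
  refine ⟨h2, ?_, ?_⟩
  · rw [h2, cj_mul_left, h2, mul_assoc, hcomm hx hy, ← mul_assoc, hXe _ hy, one_mul]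
  · intro w hw
    rcases hcases w hw with h | h | h | h
    · exact Or.inl h
    · exact Or.inr (Or.inl h)
    · exact Or.inr (Or.inr (Or.inl h))
    · exact Or.inr (Or.inr (Or.inr (by rw [h, h2])))


theorem cj_mem {g x : Γ} (hx : x ∈ X) : cj g x ∈ X := hXn.conj_mem x hx g

theorem cj_eq_one {g x : Γ} (h : cj g x = 1) : x = 1 := by
  have h1 : g * x * g⁻¹ = 1 := h
  have h2 : g * x = g := by rwa [mul_inv_eq_one] at h1
  exact mul_eq_left.1 h2

theorem cj_inj {g x y : Γ} (h : cj g x = cj g y) : x = y := by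
  have h1 : g * x * g⁻¹ = g * y * g⁻¹ := h
  exact mul_left_cancel (mul_right_cancel h1)

variable (X) in
/-- the action on `X` as permutations -/
noncomputable def rh : Γ →* Equiv.Perm ↥X := (MulAut.toPerm ↥X).comp MulAut.conjNormal

theorem rh_val (g : Γ) (x : X) : ((rh X g x : X) : Γ) = cj g x := rfl

/-- the sign character -/
noncomputable def sg (X : Subgroup Γ) [X.Normal] : Γ →* ℤˣ := by
  classical
  haveI := Fintype.ofFinite X
  exact (Equiv.Perm.sign).comp (rh X)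

theorem sg_eq_one_of_cube {g : Γ} (h : ∀ x ∈ X, cj g (cj g (cj g x)) = x) : sg X g = 1 := by
  have h3 : g ^ 3 = g * g * g := by rw [pow_succ, pow_two]
  have h1 : sg X (g ^ 3) = 1 := by
    have : rh X (g ^ 3) = 1 := by
      ext x
      rw [rh_val, h3, ← cj_comp, ← cj_comp]
      exact h x x.2
    unfold sg
    simp only [MonoidHom.coe_comp, Function.comp_apply]
    rw [this, map_one]
  rw [map_pow] at h1
  rcases Int.units_eq_one_or (sg X g) with h2 | h2
  · exact h2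
  · rw [h2] at h1
    exact absurd h1 (by decide)

theorem sg_eq_neg {a : Γ} (hX4 : Nat.card X = 4) (hXe : ∀ x ∈ X, x * x = 1) {x y : Γ} (hx : x ∈ X) (hy : y ∈ X)
    (hx1 : x ≠ 1) (hax : cj a x = x) (hay : cj a y ≠ y) : sg X a = -1 := by
  classical
  haveI := Fintype.ofFinite X
  have hy1 : y ≠ 1 := by
    rintro rfl
    apply hay
    simp [cj]
  have hyx : y ≠ x := by
    rintro rfl
    exact hay hax
  have hc := four_cases hX4 hXe hx hy hx1 hy1 hyx
  have hayx : cj a y = y * x := by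
    rcases hc _ (cj_mem hy) with h | h | h | h
    · exact absurd (cj_eq_one h) hy1
    · exact absurd (cj_inj (h.trans hax.symm)) hyx
    · exact absurd h hay
    · exact h
  have hy' : y * x ∈ X := mul_mem hy hx
  have hne : (⟨y, hy⟩ : X) ≠ ⟨y * x, hy'⟩ := fun h => by
    have e : y = y * x := congrArg Subtype.val h
    exact hx1 (by simpa using e.symm)
  have key : rh X a = Equiv.swap (⟨y, hy⟩ : X) ⟨y * x, hy'⟩ := by
    ext w
    rw [rh_val]
    have hxx := hXe x hx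
    have hax2 : cj a (y * x) = y := by
      rw [cj_mul_left, hayx, hax, mul_assoc, hxx, mul_one]
    rcases hc w w.2 with h | h | h | h
    · have hw : w = 1 := Subtype.ext h
      rw [hw, Equiv.swap_apply_of_ne_of_ne (fun e => hy1 (congrArg Subtype.val e).symm)
        (fun e => by
          have e' : 1 = y * x := congrArg Subtype.val e
          apply hyx
          have := hXe y hy
          calc y = y * (y * x) := by rw [← e']; group
            _ = (y * y) * x := by group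
            _ = x := by rw [this]; group)]
      simp [cj]
    · have hw : w = ⟨x, hx⟩ := Subtype.ext h
      rw [hw, Equiv.swap_apply_of_ne_of_ne (fun e => hyx (congrArg Subtype.val e).symm)
        (fun e => by
          have e' : x = y * x := congrArg Subtype.val e
          exact hy1 (by simpa using e'.symm))]
      exact hax
    · have hw : w = ⟨y, hy⟩ := Subtype.ext h
      rw [hw, Equiv.swap_apply_left]
      exact hayx
    · have hw : w = ⟨y * x, hy'⟩ := Subtype.ext h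
      rw [hw, Equiv.swap_apply_right]
      exact hax2
  unfold sg
  simp only [MonoidHom.coe_comp, Function.comp_apply]
  rw [key]
  convert Equiv.Perm.sign_swap hne

/-- an element of sign `-1` -/
theorem exists_of_sg {a : Γ} (hX4 : Nat.card X = 4) (hXe : ∀ x ∈ X, x * x = 1) (ha : sg X a ≠ 1) :
    ∃ x ∈ X, ∃ y ∈ X, x ≠ 1 ∧ y ≠ 1 ∧ y ≠ x ∧ cj a x = x ∧ cj a y = y * x := by
  classical
  by_cases hfp : ∀ x ∈ X, cj a x = x → x = 1
  · -- fixed point free
    refine absurd (sg_eq_one_of_cube (X := X) (fun x hx => ?_)) ha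
    by_cases hx1 : x = 1
    · subst hx1
      simp [cj]
    · exact (fpf_orbit hX4 hXe hfp hx hx1).2.1
  · push Not at hfp
    obtain ⟨x, hx, hax, hx1⟩ := hfp
    by_cases hmv : ∀ y ∈ X, cj a y = y
    · refine absurd ?_ ha
      have : rh X a = 1 := by
        ext w
        exact hmv w w.2
      unfold sg
      simp only [MonoidHom.coe_comp, Function.comp_apply]
      rw [this, map_one]
    · push Not at hmv
      obtain ⟨y, hy, hay⟩ := hmv
      have hy1 : y ≠ 1 := by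
        rintro rfl
        apply hay
        simp [cj]
      have hyx : y ≠ x := by
        rintro rfl
        exact hay hax
      refine ⟨x, hx, y, hy, hx1, hy1, hyx, hax, ?_⟩
      rcases four_cases hX4 hXe hx hy hx1 hy1 hyx _ (cj_mem (g := a) hy) with h | h | h | h
      · exact absurd (cj_eq_one h) hy1
      · exact absurd (cj_inj (h.trans hax.symm)) hyx
      · exact absurd h hay
      · exact h

/-- The main lemma. -/
theorem involves_s4 (hX4 : Nat.card X = 4) (hXe : ∀ x ∈ X, x * x = 1) {r a : Γ}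
    (hr : ∀ x ∈ X, cj r x = x → x = 1) (ha1 : ∃ x ∈ X, x ≠ 1 ∧ cj a x = x) (ha2 : ∃ y ∈ X, cj a y ≠ y) :
    Involves (Equiv.Perm (Fin 4)) Γ := by
  classical
  have hcube : ∀ x ∈ X, cj r (cj r (cj r x)) = x := by
    intro x hx
    by_cases hx1 : x = 1
    · subst hx1
      simp [cj]
    · exact (fpf_orbit hX4 hXe hr hx hx1).2.1
  have hrY : sg X r = 1 := sg_eq_one_of_cube hcube
  have hsa : sg X a = -1 := by
    obtain ⟨x, hx, hx1, hax⟩ := ha1
    obtain ⟨y, hy, hay⟩ := ha2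
    exact sg_eq_neg hX4 hXe hx hy hx1 hax hay
  -- the `3`-part of `r`
  obtain ⟨e, m, hm, hord⟩ := Nat.exists_eq_pow_mul_and_not_dvd (orderOf_pos r).ne' 3 (by norm_num)
  let r' : Γ := r ^ (m * m)
  have hr'pow : r' ^ 3 ^ e = 1 := by
    show (r ^ (m * m)) ^ 3 ^ e = 1
    rw [← pow_mul]
    have : m * m * 3 ^ e = (3 ^ e * m) * m := by ring
    rw [this, ← hord, pow_mul, pow_orderOf_eq_one, one_pow]
  have hm3 : ∃ q, m * m = 3 * q + 1 := by
    have h3 : m % 3 = 1 ∨ m % 3 = 2 := by omega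
    refine ⟨m * m / 3, ?_⟩
    have : m * m % 3 = 1 := by
      rw [Nat.mul_mod]
      rcases h3 with h | h <;> rw [h]
    omega
  have hcjpow3 : ∀ (n : ℕ) (x : Γ), x ∈ X → cj (r ^ (3 * n)) x = x := by
    intro n
    induction n with
    | zero =>
      intro x _
      simp [cj]
    | succ n ih =>
      intro x hx
      have e1 : r ^ (3 * (n + 1)) = r ^ (3 * n) * (r * r * r) := by
        rw [mul_add, pow_add]
        group
      rw [e1, ← cj_comp, ← cj_comp, ← cj_comp]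
      rw [hcube x hx]
      exact ih x hx
  have hr'cj : ∀ x ∈ X, cj r' x = cj r x := by
    intro x hx
    obtain ⟨q, hq⟩ := hm3
    show cj (r ^ (m * m)) x = _
    rw [hq, pow_succ, ← cj_comp]
    exact hcjpow3 q _ (cj_mem hx)
  have hr'fp : ∀ x ∈ X, cj r' x = x → x = 1 := fun x hx h => hr x hx ((hr'cj x hx).symm.trans h)
  have hr'Y : r' ∈ (sg X).ker := by
    rw [MonoidHom.mem_ker]
    show sg X (r ^ (m * m)) = 1
    rw [map_pow, hrY, one_pow]
  -- the Sylow subgroup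
  let Y : Subgroup Γ := (sg X).ker
  haveI hYn : Y.Normal := MonoidHom.normal_ker _
  haveI : Fact (Nat.Prime 3) := ⟨by norm_num⟩
  have hZ3 : IsPGroup 3 ↥(Subgroup.zpowers (⟨r', hr'Y⟩ : ↥Y)) := by
    rintro ⟨_, k, rfl⟩
    refine ⟨e, Subtype.ext (Subtype.ext ?_)⟩
    show (r' ^ k) ^ 3 ^ e = 1
    rw [← zpow_natCast (r' ^ k), ← zpow_mul, mul_comm, zpow_mul, zpow_natCast, hr'pow, one_zpow]
  obtain ⟨T, hT⟩ := hZ3.exists_le_sylow
  have htT : (⟨r', hr'Y⟩ : ↥Y) ∈ (T : Subgroup ↥Y) := hT (Subgroup.mem_zpowers _)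
  let T' : Subgroup Γ := (T : Subgroup ↥Y).map Y.subtype
  have hr'T' : r' ∈ T' := ⟨_, htT, rfl⟩
  let M : Subgroup Γ := normalizer (T' : Set Γ)
  have hr'M : r' ∈ M := Subgroup.le_normalizer hr'T'
  have hF : M ⊔ Y = ⊤ := Sylow.normalizer_sup_eq_top T
  have haT : a ∈ M ⊔ Y := by rw [hF]; exact mem_top a
  obtain ⟨μ, hμ, y, hy, he⟩ := Subgroup.mem_sup_of_normal_right.1 haT
  have hμs : sg X μ ≠ 1 := by
    intro h
    have h1 : sg X a = 1 := by
      rw [← he, map_mul, h, one_mul]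
      exact hy
    rw [hsa] at h1
    exact absurd h1 (by decide)
  obtain ⟨x₁, hx₁, y₀, hy₀, hx₁1, hy₀1, hy₀x, hμx, hμy⟩ := exists_of_sg hX4 hXe hμs
  -- `M` meets `X` trivially
  have hT'p : IsPGroup 3 ↥T' := T.2.map _
  have hMX : ∀ x ∈ X, x ∈ M → x = 1 := by
    intro x hx hxM
    have hw1 : x * r' * x⁻¹ * r'⁻¹ ∈ X := by
      have e1 : x * r' * x⁻¹ * r'⁻¹ = x * cj r' x⁻¹ := by simp only [cj]; group
      rw [e1]
      exact mul_mem hx (cj_mem (inv_mem hx))
    have hw2 : x * r' * x⁻¹ * r'⁻¹ ∈ T' :=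
      mul_mem ((mem_normalizer_iff.1 hxM _).1 hr'T') (inv_mem hr'T')
    obtain ⟨k, hk⟩ := hT'p ⟨_, hw2⟩
    have hk' : (x * r' * x⁻¹ * r'⁻¹) ^ 3 ^ k = 1 := congrArg Subtype.val hk
    have h2 := hXe _ hw1
    have hw3 : x * r' * x⁻¹ * r'⁻¹ = 1 := by
      have h3 : orderOf (x * r' * x⁻¹ * r'⁻¹) ∣ 2 := orderOf_dvd_of_pow_eq_one (by rw [pow_two]; exact h2)
      have h4 : orderOf (x * r' * x⁻¹ * r'⁻¹) ∣ 3 ^ k := orderOf_dvd_of_pow_eq_one hk'
      have h5 : Nat.Coprime 2 (3 ^ k) := Nat.Coprime.pow_right k (by norm_num)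
      have h6 := Nat.dvd_gcd h3 h4
      rw [h5.gcd_eq_one] at h6
      exact orderOf_eq_one_iff.1 (Nat.dvd_one.1 h6)
    refine hr'fp x hx ?_
    have h7 : x * r' * x⁻¹ = r' := mul_inv_eq_one.1 hw3
    show r' * x * r'⁻¹ = x
    have h8 : x * r' = r' * x := by
      calc x * r' = x * r' * x⁻¹ * x := by group
        _ = r' * x := by rw [h7]
    rw [← h8]
    group
  -- the transvections
  have hrans : ∀ z ∈ X, z ≠ 1 → ∃ s ∈ M, ∃ y ∈ X, y ≠ 1 ∧ y ≠ z ∧ cj s z = z ∧ cj s y = y * z := by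
    intro z hz hz1
    have horb := (fpf_orbit hX4 hXe hr'fp hx₁ hx₁1).2.2 z hz
    have hmk : ∀ g ∈ M, cj g x₁ = z → ∃ s ∈ M, ∃ y ∈ X, y ≠ 1 ∧ y ≠ z ∧ cj s z = z ∧ cj s y = y * z := by
      intro g hg hgz
      refine ⟨g * μ * g⁻¹, mul_mem (mul_mem hg hμ) (inv_mem hg), cj g y₀, cj_mem hy₀, fun h => hy₀1 (cj_eq_one h), ?_, ?_, ?_⟩
      · intro h
        rw [← hgz] at h
        exact hy₀x (cj_inj h)
      · rw [← hgz, cj_comp]
        have e1 : g * μ * g⁻¹ * g = g * μ := by group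
        rw [e1, ← cj_comp, hμx]
      · have e1 : cj (g * μ * g⁻¹) (cj g y₀) = cj g (cj μ y₀) := by
          simp only [cj]; group
        rw [e1, hμy, cj_mul_left, hgz]
    rcases horb with h | h | h | h
    · exact absurd h hz1
    · exact hmk 1 (one_mem _) (by rw [h]; simp [cj])
    · exact hmk r' hr'M h.symm
    · refine hmk (r' * r') (mul_mem hr'M hr'M) ?_
      rw [h, ← cj_comp]
  -- the action on cosets
  let Γ₁ : Subgroup Γ := M ⊔ X
  have hMΓ : M ≤ Γ₁ := le_sup_left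
  have hXΓ : X ≤ Γ₁ := le_sup_right
  let M' : Subgroup ↥Γ₁ := M.subgroupOf Γ₁
  let b : ↥X → (↥Γ₁ ⧸ M') := fun x => ((⟨x, hXΓ x.2⟩ : ↥Γ₁) : ↥Γ₁ ⧸ M')
  have hbinj : Function.Injective b := by
    intro x y h
    have h1 := QuotientGroup.eq.1 h
    have h2 : (x : Γ)⁻¹ * y ∈ M := Subgroup.mem_subgroupOf.1 h1
    have h3 := hMX _ (mul_mem (inv_mem x.2) y.2) h2
    apply Subtype.ext
    exact inv_mul_eq_one.1 h3
  have hbsurj : Function.Surjective b := by
    intro w
    obtain ⟨h, rfl⟩ := QuotientGroup.mk_surjective w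
    obtain ⟨m, hm, x, hx, hmx⟩ := Subgroup.mem_sup_of_normal_right.1 h.2
    refine ⟨⟨cj m x, cj_mem hx⟩, ?_⟩
    refine QuotientGroup.eq.2 (Subgroup.mem_subgroupOf.2 ?_)
    have e1 : (((⟨cj m x, hXΓ (cj_mem hx)⟩ : ↥Γ₁)⁻¹ * h : ↥Γ₁) : Γ) = m := by
      show (cj m x)⁻¹ * (h : Γ) = m
      rw [← hmx]
      simp only [cj]
      group
    rw [e1]
    exact hm
  let τ : ↥Γ₁ →* Equiv.Perm (↥Γ₁ ⧸ M') := MulAction.toPermHom ↥Γ₁ (↥Γ₁ ⧸ M')
  have hτ : ∀ (g : ↥Γ₁) (x : ↥X) (y : ↥X), ((g : Γ) * x)⁻¹ * y ∈ M → τ g (b x) = b y := by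
    intro g x y h
    show ((g * ⟨x, hXΓ x.2⟩ : ↥Γ₁) : ↥Γ₁ ⧸ M') = _
    exact QuotientGroup.eq.2 (Subgroup.mem_subgroupOf.2 h)
  -- every transposition is in the image
  have hswap : ∀ u v : ↥Γ₁ ⧸ M', u ≠ v → Equiv.swap u v ∈ τ.range := by
    intro u v huv
    obtain ⟨x, rfl⟩ := hbsurj u
    obtain ⟨x', rfl⟩ := hbsurj v
    have hxx' : (x : Γ) ≠ x' := fun h => huv (congrArg b (Subtype.ext h))
    have hz : (x : Γ)⁻¹ * x' ∈ X := mul_mem (inv_mem x.2) x'.2
    have hz1 : (x : Γ)⁻¹ * x' ≠ 1 := fun h => hxx' (inv_mul_eq_one.1 h)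
    obtain ⟨s, hs, y, hy, hy1, hyz, hsz, hsy⟩ := hrans _ hz hz1
    let z : Γ := (x : Γ)⁻¹ * x'
    have hzz : z * z = 1 := hXe _ hz
    let c : Γ := (x : Γ) * y⁻¹
    have hc : c ∈ X := mul_mem x.2 (inv_mem hy)
    let g : ↥Γ₁ := ⟨c * s * c⁻¹, mul_mem (mul_mem (hXΓ hc) (hMΓ hs)) (inv_mem (hXΓ hc))⟩
    refine ⟨g, ?_⟩
    have hact : ∀ w : ↥X, τ g (b w) = b ⟨c * cj s (c⁻¹ * w), mul_mem hc (cj_mem (mul_mem (inv_mem hc) w.2))⟩ := by
      intro w
      apply hτ
      show (c * s * c⁻¹ * (w : Γ))⁻¹ * (c * (s * (c⁻¹ * w) * s⁻¹)) ∈ M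
      have e1 : (c * s * c⁻¹ * (w : Γ))⁻¹ * (c * (s * (c⁻¹ * w) * s⁻¹)) = s⁻¹ := by group
      rw [e1]
      exact inv_mem hs
    have hcy : c * y = x := by show (x : Γ) * y⁻¹ * y = x; group
    have hxzz : (x : Γ) * z = x' := by show (x : Γ) * ((x : Γ)⁻¹ * x') = x'; group
    have hcyz : c * (y * z) = x' := by rw [← mul_assoc, hcy, hxzz]
    ext w'
    obtain ⟨w, rfl⟩ := hbsurj w'
    rw [hact w]
    have hd : c⁻¹ * (w : Γ) ∈ X := mul_mem (inv_mem hc) w.2
    have hw : (w : Γ) = c * (c⁻¹ * w) := by group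
    rcases four_cases hX4 hXe hz hy hz1 hy1 hyz _ hd with h | h | h | h
    · -- fixed
      have e1 : c * cj s (c⁻¹ * (w : Γ)) = w := by
        rw [h]
        have : (w : Γ) = c := by rw [hw, h, mul_one]
        rw [this]
        simp [cj]
      have hne1 : w ≠ x := fun e => by
        have : (x : Γ) = c := by rw [← e, hw, h, mul_one]
        rw [← hcy] at this
        exact hy1 (by simpa using this)
      have hne2 : w ≠ x' := fun e => by
        have : (x' : Γ) = c := by rw [← e, hw, h, mul_one]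
        rw [← hcyz] at this
        have h3 : y * z = 1 := by simpa using this
        apply hyz
        calc y = y * (z * z) := by rw [hzz, mul_one]
          _ = (y * z) * z := by group
          _ = z := by rw [h3, one_mul]
      rw [Equiv.swap_apply_of_ne_of_ne (fun e => hne1 (hbinj e)) (fun e => hne2 (hbinj e))]
      exact congrArg b (Subtype.ext e1)
    · have e1 : c * cj s (c⁻¹ * (w : Γ)) = w := by
        rw [h, hsz, ← h]
        group
      have hne1 : w ≠ x := fun e => by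
        have h3 : (x : Γ) = c * z := by rw [← e, hw, h]
        rw [← hcy] at h3
        exact hyz (mul_left_cancel h3)
      have hne2 : w ≠ x' := fun e => by
        have h3 : (x' : Γ) = c * z := by rw [← e, hw, h]
        rw [← hcyz] at h3
        have h4 : y * z = z := mul_left_cancel h3
        exact hy1 (mul_eq_right.1 h4)
      rw [Equiv.swap_apply_of_ne_of_ne (fun e => hne1 (hbinj e)) (fun e => hne2 (hbinj e))]
      exact congrArg b (Subtype.ext e1)
    · have e0 : w = x := Subtype.ext (by rw [hw, h, hcy])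
      subst e0
      rw [Equiv.swap_apply_left]
      exact congrArg b (Subtype.ext (by
        show c * cj s (c⁻¹ * (w : Γ)) = x'
        rw [h, hsy, hcyz]))
    · have e0 : w = x' := Subtype.ext (by rw [hw, h, hcyz])
      subst e0
      rw [Equiv.swap_apply_right]
      exact congrArg b (Subtype.ext (by
        show c * cj s (c⁻¹ * (w : Γ)) = x
        have e5 : y * z * z = y := by rw [mul_assoc, hzz, mul_one]
        rw [h, cj_mul_left, hsy, hsz, e5, hcy]))
  have hsurj : Function.Surjective τ := by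
    rw [← MonoidHom.range_eq_top, eq_top_iff, ← Equiv.Perm.closure_isSwap, Subgroup.closure_le]
    rintro σ ⟨u, v, huv, rfl⟩
    exact hswap u v huv
  -- identification with `Fin 4`
  have hbij : Function.Bijective b := ⟨hbinj, hbsurj⟩
  have hcardΞ : Nat.card (↥Γ₁ ⧸ M') = 4 := by
    rw [← Nat.card_congr (Equiv.ofBijective b hbij), hX4]
  have e4 : (↥Γ₁ ⧸ M') ≃ Fin 4 := by
    haveI : Finite (↥Γ₁ ⧸ M') := inferInstance
    exact (Finite.equivFinOfCardEq hcardΞ)
  let π : ↥Γ₁ →* Equiv.Perm (Fin 4) := (Equiv.permCongrHom e4).toMonoidHom.comp τ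
  have hπ : Function.Surjective π := (Equiv.permCongrHom e4).surjective.comp hsurj
  exact FusSubModel.involves_of_le (K := Γ₁) (FusSubModel.involves_iff.2 ⟨⊤, π.comp (⊤ : Subgroup ↥Γ₁).subtype, fun q => by
    obtain ⟨h, hh⟩ := hπ q
    exact ⟨⟨h, mem_top h⟩, hh⟩⟩)

end

/-- Producing `S₄` from a dihedral-type action on an elementary abelian `2`-group. -/
theorem s4_prod {G : Type*} [Group G] [Finite G] {V₁ : Subgroup G} {r a : G} {m : ℕ} (hm : Odd m)
    (hVe : ∀ v ∈ V₁, v * v = 1)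
    (hrV : ∀ v ∈ V₁, cj r v ∈ V₁) (hrV' : ∀ v ∈ V₁, cj r⁻¹ v ∈ V₁) (haV : ∀ v ∈ V₁, cj a v ∈ V₁)
    (hrm : ∀ v ∈ V₁, cj (r ^ m) v = v)
    (h3 : ∀ v ∈ V₁, cj a (cj r v) = cj r⁻¹ (cj a v))
    (h5 : ∃ v ∈ V₁, cj r v ≠ v)
    (h6 : ∀ x ∈ V₁, ∀ y ∈ V₁, cj a x ≠ x → cj a y ≠ y → cj a (x * y) = x * y) :
    Involves (Equiv.Perm (Fin 4)) G := by
  classical
  have hcomm : ∀ {x y : G}, x ∈ V₁ → y ∈ V₁ → x * y = y * x := fun hx hy => comm_of_exp2 hVe hx hy
  let X : Subgroup G :=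
    { carrier := {x | ∃ v ∈ V₁, x = v * cj r v}
      mul_mem' := by
        rintro _ _ ⟨v, hv, rfl⟩ ⟨w, hw, rfl⟩
        refine ⟨v * w, mul_mem hv hw, ?_⟩
        rw [cj_mul_left]
        have h1 := hcomm (hrV v hv) hw
        calc v * cj r v * (w * cj r w) = v * (cj r v * w) * cj r w := by simp only [mul_assoc]
          _ = v * (w * cj r v) * cj r w := by rw [h1]
          _ = _ := by simp only [mul_assoc]
      one_mem' := ⟨1, one_mem _, by simp [cj]⟩
      inv_mem' := by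
        rintro _ ⟨v, hv, rfl⟩
        have hx : v * cj r v ∈ V₁ := mul_mem hv (hrV v hv)
        have h1 : (v * cj r v)⁻¹ = v * cj r v := inv_eq_of_mul_eq_one_left (hVe _ hx)
        exact ⟨v, hv, h1⟩ }
  have hXV : X ≤ V₁ := by
    rintro _ ⟨v, hv, rfl⟩
    exact mul_mem hv (hrV v hv)
  have hXe : ∀ x ∈ X, x * x = 1 := fun x hx => hVe x (hXV hx)
  have hXfp : ∀ x ∈ X, cj r x = x → x = 1 := by
    rintro x ⟨v, hv, hxe⟩ hfix
    have hstep : cj r v = v * x := by
      rw [hxe, ← mul_assoc, hVe v hv, one_mul]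
    have hpow : ∀ i : ℕ, cj (r ^ i) v = v * x ^ i := by
      intro i
      induction i with
      | zero => simp [cj]
      | succ i ih =>
        have e1 : cj r (x ^ i) = x ^ i := by
          show r * x ^ i * r⁻¹ = x ^ i
          rw [← conj_pow]
          exact congrArg (· ^ i) hfix
        rw [pow_succ', ← cj_comp, ih, cj_mul_left, hstep, e1, pow_succ', mul_assoc]
    have h1 := hpow m
    rw [hrm v hv] at h1
    have h2 : x ^ m = 1 := by simpa using h1.symm
    obtain ⟨k, rfl⟩ := hm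
    have h4 : x ^ 2 = 1 := by rw [pow_two]; exact hVe x (hXV ⟨v, hv, hxe⟩)
    rw [pow_succ, pow_mul, h4, one_pow, one_mul] at h2
    exact h2
  have hXr : ∀ x ∈ X, cj r x ∈ X := by
    rintro _ ⟨v, hv, rfl⟩
    exact ⟨cj r v, hrV v hv, cj_mul_left _ _ _⟩
  have hinvcancel : ∀ x : G, cj r (cj r⁻¹ x) = x := by
    intro x
    rw [cj_comp]
    simp [cj]
  have hinvcancel' : ∀ x : G, cj r⁻¹ (cj r x) = x := by
    intro x
    rw [cj_comp]
    simp [cj]
  have hXr' : ∀ x ∈ X, cj r⁻¹ x ∈ X := by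
    rintro _ ⟨v, hv, rfl⟩
    refine ⟨cj r⁻¹ v, hrV' v hv, ?_⟩
    rw [cj_mul_left, hinvcancel', hinvcancel]
  have hXa : ∀ x ∈ X, cj a x ∈ X := by
    rintro _ ⟨v, hv, rfl⟩
    refine ⟨cj r⁻¹ (cj a v), hrV' _ (haV v hv), ?_⟩
    rw [cj_mul_left, h3 v hv, hinvcancel]
    exact hcomm (haV v hv) (hrV' _ (haV v hv))
  -- the key
  have hkey : ∀ z ∈ X, cj a z = z → cj a (cj r⁻¹ z) = cj r⁻¹ z → z = 1 := by
    intro z hz h1 h2
    have h4 := h3 _ (hrV' z (hXV hz))
    rw [hinvcancel, h1, h2] at h4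
    have h5' : cj r (cj r z) = z := by
      conv_lhs => rw [h4]
      rw [hinvcancel, hinvcancel]
    have h7 : ∀ k : ℕ, cj (r ^ (2 * k)) z = z := by
      intro k
      induction k with
      | zero => simp [cj]
      | succ k ih =>
        have e1 : r ^ (2 * (k + 1)) = r * r * r ^ (2 * k) := by
          rw [mul_add, mul_one, pow_add, pow_two]
          have : r ^ (2 * k) * (r * r) = r * r * r ^ (2 * k) := by
            rw [← pow_two, ← pow_add, ← pow_add, add_comm]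
          exact this
        rw [e1, ← cj_comp, ih, ← cj_comp, h5']
    obtain ⟨k, hk⟩ := hm
    have h8 := hrm z (hXV hz)
    have e2 : r ^ m = r * r ^ (2 * k) := by
      rw [hk, pow_succ']
    rw [e2, ← cj_comp, h7] at h8
    exact hXfp z hz h8
  -- the two-valued tags
  have hprod : ∀ x ∈ V₁, ∀ y ∈ V₁, (cj a x = x ↔ cj a y = y) → cj a (x * y) = x * y := by
    intro x hx y hy hiff
    by_cases h : cj a x = x
    · rw [cj_mul_left, h, hiff.1 h]
    · exact h6 x hx y hy h (fun e => h (hiff.2 e))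
  have hinj : Function.Injective (fun x : X => ((decide (cj a (x : G) = x), decide (cj a (cj r⁻¹ (x : G)) = cj r⁻¹ (x : G))) : Bool × Bool)) := by
    intro x y hxy
    have h1 : decide (cj a (x : G) = x) = decide (cj a (y : G) = y) := congrArg Prod.fst hxy
    have h2 : decide (cj a (cj r⁻¹ (x : G)) = cj r⁻¹ (x : G)) = decide (cj a (cj r⁻¹ (y : G)) = cj r⁻¹ (y : G)) := congrArg Prod.snd hxy
    rw [decide_eq_decide] at h1 h2
    have hz1 := hprod _ (hXV x.2) _ (hXV y.2) h1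
    have hz2 := hprod _ (hrV' _ (hXV x.2)) _ (hrV' _ (hXV y.2)) h2
    rw [← cj_mul_left] at hz2
    have hz := hkey _ (mul_mem x.2 y.2) hz1 hz2
    apply Subtype.ext
    have e := hXe _ y.2
    calc (x : G) = x * y * y := by rw [mul_assoc, e, mul_one]
      _ = y := by rw [hz, one_mul]
  have hle : Nat.card X ≤ 4 := by
    have := Nat.card_le_card_of_injective _ hinj
    simpa [Nat.card_eq_fintype_card] using this
  obtain ⟨v₀, hv₀, hv₀r⟩ := h5
  have hx₀ : v₀ * cj r v₀ ∈ X := ⟨v₀, hv₀, rfl⟩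
  have hx₀1 : v₀ * cj r v₀ ≠ 1 := by
    intro h
    apply hv₀r
    have e := hVe v₀ hv₀
    calc cj r v₀ = (v₀ * v₀) * cj r v₀ := by rw [e, one_mul]
      _ = v₀ * (v₀ * cj r v₀) := by rw [mul_assoc]
      _ = v₀ := by rw [h, mul_one]
  obtain ⟨x₀, hx₀X, hx₀ne⟩ : ∃ x₀ ∈ X, x₀ ≠ 1 := ⟨_, hx₀, hx₀1⟩
  have hrx₀ : cj r x₀ ≠ x₀ := fun h => hx₀ne (hXfp x₀ hx₀X h)
  have hrx₀1 : cj r x₀ ≠ 1 := fun h => hx₀ne (cj_eq_one h)
  have hge : 3 ≤ Nat.card X := by
    let f : Fin 3 → X := ![1, ⟨x₀, hx₀X⟩, ⟨cj r x₀, hXr _ hx₀X⟩]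
    have hf : Function.Injective f := by
      intro i j hij
      have h0 : ∀ (i j : Fin 3), (f i : G) = f j → i = j := by
        intro i j h
        fin_cases i <;> fin_cases j <;> simp [f] at h ⊢
        all_goals first
          | exact absurd h.symm hx₀ne
          | exact absurd h.symm hrx₀1
          | exact absurd h hx₀ne
          | exact absurd h.symm hrx₀
          | exact absurd h hrx₀1
          | exact absurd h hrx₀
      exact h0 i j (congrArg Subtype.val hij)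
    have := Nat.card_le_card_of_injective f hf
    simpa using this
  have heven : 2 ∣ Nat.card X := by
    have h1 : orderOf (⟨x₀, hx₀X⟩ : X) = 2 := by
      apply orderOf_eq_prime
      · apply Subtype.ext
        show x₀ ^ 2 = 1
        rw [pow_two]
        exact hXe x₀ hx₀X
      · intro h
        exact hx₀ne (congrArg Subtype.val h)
    rw [← h1]
    exact orderOf_dvd_natCard _
  have hX4 : Nat.card X = 4 := by omega
  -- the normalizer
  let Γ : Subgroup G := normalizer (X : Set G)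
  have hrΓ : r ∈ Γ := Cfsg.Agent.Lib.FusSat.mem_normalizer_of_conj_le' fun x hx => hXr x hx
  have haΓ : a ∈ Γ := Cfsg.Agent.Lib.FusSat.mem_normalizer_of_conj_le' fun x hx => hXa x hx
  have hXΓ : X ≤ Γ := Subgroup.le_normalizer
  let X' : Subgroup Γ := X.subgroupOf Γ
  haveI hX'n : X'.Normal := Subgroup.normal_subgroupOf_iff_le_normalizer hXΓ |>.2 (by
    intro g hg
    exact hg)
  have hX'4 : Nat.card X' = 4 := by
    rw [← hX4]
    exact Nat.card_congr (Subgroup.subgroupOfEquivOfLe hXΓ).toEquiv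
  have hmemX' : ∀ g : Γ, g ∈ X' ↔ (g : G) ∈ X := fun g => Subgroup.mem_subgroupOf
  refine FusSubModel.involves_of_le (K := Γ) (involves_s4 (X := X') (r := ⟨r, hrΓ⟩) (a := ⟨a, haΓ⟩) hX'4 ?_ ?_ ?_ ?_)
  · intro x hx
    exact Subtype.ext (hXe _ ((hmemX' x).1 hx))
  · intro x hx h
    have h1 : cj r (x : G) = x := congrArg Subtype.val h
    exact Subtype.ext (hXfp _ ((hmemX' x).1 hx) h1)
  · -- fixed point
    by_cases h1 : cj a x₀ = x₀
    · exact ⟨⟨x₀, hXΓ hx₀X⟩, (hmemX' _).2 hx₀X, fun h => hx₀ne (congrArg Subtype.val h), Subtype.ext h1⟩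
    by_cases h2 : cj a (cj r x₀) = cj r x₀
    · have hm1 := hXr _ hx₀X
      exact ⟨⟨cj r x₀, hXΓ hm1⟩, (hmemX' _).2 hm1, fun h => hrx₀1 (congrArg Subtype.val h), Subtype.ext h2⟩
    · have hm1 := mul_mem hx₀X (hXr _ hx₀X)
      refine ⟨⟨x₀ * cj r x₀, hXΓ hm1⟩, (hmemX' _).2 hm1, fun h => ?_, Subtype.ext (h6 _ (hXV hx₀X) _ (hXV (hXr _ hx₀X)) h1 h2)⟩
      have h3' : x₀ * cj r x₀ = 1 := congrArg Subtype.val h
      apply hrx₀
      have e := hXe x₀ hx₀X
      calc cj r x₀ = (x₀ * x₀) * cj r x₀ := by rw [e, one_mul]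
        _ = x₀ * (x₀ * cj r x₀) := by rw [mul_assoc]
        _ = x₀ := by rw [h3', mul_one]
  · -- moved point
    by_contra hcon
    push Not at hcon
    have hall : ∀ x ∈ X, cj a x = x := fun x hx => by
      have h1 := hcon ⟨x, hXΓ hx⟩ ((hmemX' _).2 hx)
      exact congrArg Subtype.val h1
    exact hx₀ne (hkey x₀ hx₀X (hall _ hx₀X) (hall _ (hXr' _ hx₀X)))

/-- The eigenvector lemma. -/
theorem exists_eigen {H : Type*} [Group H] [Finite H] (N A : Subgroup H) (hNab : ∀ x ∈ N, ∀ y ∈ N, x * y = y * x)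
    (hNodd : ∀ x ∈ N, ∃ m : ℕ, Odd m ∧ x ^ m = 1) (hAab : ∀ x ∈ A, ∀ y ∈ A, x * y = y * x)
    (hAN : ∀ a ∈ A, ∀ x ∈ N, a * x * a⁻¹ ∈ N) (hA2 : ∀ a ∈ A, a * a = 1) {a₀ : H} (ha₀ : a₀ ∈ A)
    (hne : ∃ y ∈ N, a₀ * y ≠ y * a₀) :
    ∃ T : Subgroup H, T ≤ A ∧ ∃ z ∈ N, z ≠ 1 ∧ a₀ * z * a₀⁻¹ = z⁻¹ ∧ (∀ t ∈ T, t * z = z * t) ∧
      ∀ a ∈ A, a ∈ T ∨ a * a₀⁻¹ ∈ T := by
  classical
  have hfin : {T : Subgroup H | T ≤ A ∧ ∃ y ∈ N, (∀ t ∈ T, t * y = y * t) ∧ a₀ * y ≠ y * a₀}.Finite := Set.toFinite _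
  obtain ⟨T, ⟨hTA, y, hyN, hyT, hy⟩, hmax⟩ := Set.exists_max_image _ (fun T : Subgroup H => Nat.card T) hfin
    (by
      obtain ⟨y, hy, hne⟩ := hne
      refine ⟨⊥, ⟨bot_le, y, hy, ?_, hne⟩⟩
      intro t ht
      rw [Subgroup.mem_bot.1 ht]
      simp)
  -- a general device for the fixed points
  have hcard : ∀ T' : Subgroup H, T < T' → T' ≤ A → ∀ w ∈ N, (∀ t ∈ T', t * w = w * t) → a₀ * w = w * a₀ := by
    intro T' hlt hT'A w hw hwT
    by_contra hcon
    have h1 := hmax T' ⟨hT'A, w, hw, hwT, hcon⟩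
    have h2 : Nat.card T < Nat.card T' := by
      refine lt_of_le_of_ne (Subgroup.card_le_of_le hlt.le) (fun e => hlt.ne ?_)
      exact Subgroup.eq_of_le_of_card_ge hlt.le e.ge
    omega
  have ha₀inv : a₀⁻¹ = a₀ := inv_eq_of_mul_eq_one_left (hA2 a₀ ha₀)
  -- `z = (a₀ y a₀⁻¹) y⁻¹`
  let z : H := a₀ * y * a₀⁻¹ * y⁻¹
  have hay : a₀ * y * a₀⁻¹ ∈ N := hAN a₀ ha₀ y hyN
  have hzN : z ∈ N := mul_mem hay (inv_mem hyN)
  have hz1 : z ≠ 1 := by
    intro h
    apply hy
    have h1 : a₀ * y * a₀⁻¹ = y := mul_inv_eq_one.1 h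
    calc a₀ * y = a₀ * y * a₀⁻¹ * a₀ := by group
      _ = y * a₀ := by rw [h1]
  have hazz : a₀ * z * a₀⁻¹ = z⁻¹ := by
    have h1 : a₀ * z * a₀⁻¹ = (a₀ * a₀) * y * (a₀ * a₀)⁻¹ * (a₀ * y * a₀⁻¹)⁻¹ := by
      show a₀ * (a₀ * y * a₀⁻¹ * y⁻¹) * a₀⁻¹ = _
      group
    rw [h1, hA2 a₀ ha₀]
    simp only [one_mul, inv_one, mul_one]
    show _ = (a₀ * y * a₀⁻¹ * y⁻¹)⁻¹
    group
  have hzT : ∀ t ∈ T, t * z = z * t := by
    intro t ht
    have h1 : t * y = y * t := hyT t ht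
    have h2 : t * a₀ = a₀ * t := hAab t (hTA ht) a₀ ha₀
    have h3 : t * a₀⁻¹ = a₀⁻¹ * t := by rw [ha₀inv, h2]
    have h4 : t * y⁻¹ = y⁻¹ * t := by
      calc t * y⁻¹ = y⁻¹ * (y * t) * y⁻¹ := by group
        _ = y⁻¹ * (t * y) * y⁻¹ := by rw [h1]
        _ = y⁻¹ * t := by group
    show t * (a₀ * y * a₀⁻¹ * y⁻¹) = a₀ * y * a₀⁻¹ * y⁻¹ * t
    calc t * (a₀ * y * a₀⁻¹ * y⁻¹) = (t * a₀) * y * a₀⁻¹ * y⁻¹ := by group
      _ = a₀ * (t * y) * a₀⁻¹ * y⁻¹ := by rw [h2]; group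
      _ = a₀ * y * (t * a₀⁻¹) * y⁻¹ := by rw [h1]; group
      _ = a₀ * y * a₀⁻¹ * (t * y⁻¹) := by rw [h3]; group
      _ = _ := by rw [h4]; group
  have hodd : ∀ w ∈ N, w * w = 1 → w = 1 := by
    intro w hw h
    obtain ⟨m, ⟨k, rfl⟩, hm⟩ := hNodd w hw
    have h2 : w ^ 2 = 1 := by rw [pow_two, h]
    rw [pow_succ, pow_mul, h2, one_pow, one_mul] at hm
    exact hm
  refine ⟨T, hTA, z, hzN, hz1, hazz, hzT, fun a ha => ?_⟩
  by_cases haT : a ∈ T
  · exact Or.inl haT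
  right
  by_contra haT'
  have haa₀ : a * a₀⁻¹ ∈ A := mul_mem ha (inv_mem ha₀)
  -- the sup with `a`
  have hsup : ∀ b ∈ A, b ∉ T → ∀ w ∈ N, (∀ t ∈ T, t * w = w * t) → b * w = w * b → a₀ * w = w * a₀ := by
    intro b hb hbT w hw hwT hbw
    refine hcard (T ⊔ zpowers b) ?_ (sup_le hTA (by rw [zpowers_le]; exact hb)) w hw ?_
    · refine lt_of_le_of_ne le_sup_left (fun e => hbT ?_)
      rw [e]
      exact (le_sup_right : zpowers b ≤ _) (mem_zpowers b)
    · intro t ht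
      have : T ⊔ zpowers b ≤ centralizer ({w} : Set H) := by
        refine sup_le (fun t ht => ?_) ?_
        · exact Subgroup.mem_centralizer_singleton_iff.2 (hwT t ht)
        · rw [zpowers_le]
          exact Subgroup.mem_centralizer_singleton_iff.2 hbw
      exact Subgroup.mem_centralizer_singleton_iff.1 (this ht)
  -- `a` inverts `z`
  let w : H := z * (a * z * a⁻¹)
  have hazN : a * z * a⁻¹ ∈ N := hAN a ha z hzN
  have hwN : w ∈ N := mul_mem hzN hazN
  have haa : a * a = 1 := hA2 a ha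
  have hainv : a⁻¹ = a := inv_eq_of_mul_eq_one_left haa
  have ha₀a : a₀ * a = a * a₀ := hAab a₀ ha₀ a ha
  have hwT : ∀ t ∈ T, t * w = w * t := by
    intro t ht
    have h1 := hzT t ht
    have h2 : t * a = a * t := hAab t (hTA ht) a ha
    show t * (z * (a * z * a⁻¹)) = z * (a * z * a⁻¹) * t
    rw [hainv]
    calc t * (z * (a * z * a)) = (t * z) * a * z * a := by group
      _ = z * (t * a) * z * a := by rw [h1]; group
      _ = z * a * (t * z) * a := by rw [h2]; group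
      _ = z * a * z * (t * a) := by rw [h1]; group
      _ = z * a * z * (a * t) := by rw [h2]
      _ = _ := by group
  have hwa : a * w = w * a := by
    show a * (z * (a * z * a⁻¹)) = z * (a * z * a⁻¹) * a
    rw [hainv]
    have h1 : a * z * a ∈ N := by
      have := hazN
      rwa [hainv] at this
    have h2 := hNab _ hzN _ h1
    calc a * (z * (a * z * a)) = (a * z * a) * z * a := by group
      _ = z * (a * z * a) * a := by rw [← h2]
  have hwz := hsup a ha haT w hwN hwT hwa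
  have hazw : a₀ * w * a₀⁻¹ = w⁻¹ := by
    show a₀ * (z * (a * z * a⁻¹)) * a₀⁻¹ = (z * (a * z * a⁻¹))⁻¹
    have h1 : a₀ * (a * z * a⁻¹) * a₀⁻¹ = a * (a₀ * z * a₀⁻¹) * a⁻¹ := by
      have e1 : a₀⁻¹ * a⁻¹ = a⁻¹ * a₀⁻¹ := by rw [← mul_inv_rev, ← mul_inv_rev, ha₀a]
      calc a₀ * (a * z * a⁻¹) * a₀⁻¹ = (a₀ * a) * z * (a⁻¹ * a₀⁻¹) := by group
        _ = (a * a₀) * z * (a₀⁻¹ * a⁻¹) := by rw [ha₀a, e1]
        _ = _ := by group
    have h2 : a₀ * (z * (a * z * a⁻¹)) * a₀⁻¹ = (a₀ * z * a₀⁻¹) * (a₀ * (a * z * a⁻¹) * a₀⁻¹) := by group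
    rw [h2, h1, hazz]
    have h3 := hNab _ (inv_mem hzN) _ (hAN a ha _ (inv_mem hzN))
    rw [h3]
    group
  have hw1 : w = 1 := by
    apply hodd w hwN
    have h1 : a₀ * w * a₀⁻¹ = w := by rw [hwz]; group
    rw [hazw] at h1
    calc w * w = w * w⁻¹ := by rw [h1]
      _ = 1 := by group
  have hzinv : a * z * a⁻¹ = z⁻¹ := by
    have : z * (a * z * a⁻¹) = 1 := hw1
    exact (inv_eq_of_mul_eq_one_right this).symm
  -- `a a₀⁻¹` fixes `z`
  have hb : (a * a₀⁻¹) * z = z * (a * a₀⁻¹) := by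
    have h1 : a₀⁻¹ * z * a₀ = z⁻¹ := by
      rw [ha₀inv]
      have := hazz
      rwa [ha₀inv] at this
    have h2 : a₀⁻¹ * z = z⁻¹ * a₀⁻¹ := by
      rw [← h1]
      group
    have h3 : a * z⁻¹ * a⁻¹ = z := by
      have h4 : a * z⁻¹ * a⁻¹ = (a * z * a⁻¹)⁻¹ := by group
      rw [h4, hzinv, inv_inv]
    have h5 : a * z⁻¹ = z * a := by
      calc a * z⁻¹ = (a * z⁻¹ * a⁻¹) * a := by group
        _ = z * a := by rw [h3]
    calc (a * a₀⁻¹) * z = a * (a₀⁻¹ * z) := by group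
      _ = a * (z⁻¹ * a₀⁻¹) := by rw [h2]
      _ = (a * z⁻¹) * a₀⁻¹ := by group
      _ = (z * a) * a₀⁻¹ := by rw [h5]
      _ = _ := by group
  have h6 := hsup _ haa₀ haT' z hzN hzT hb
  apply hz1
  apply hodd z hzN
  have h7 : a₀ * z * a₀⁻¹ = z := by rw [h6]; group
  rw [hazz] at h7
  calc z * z = z * z⁻¹ := by rw [h7]
    _ = 1 := by group

end Cfsg.Agent.Lib.FusS4
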