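import Mathlib
import Cfsg.Agent.Lib.FusReal
import Cfsg.Agent.Lib.FusAut

/-! The fusion system on `Q` of a group of automorphisms of `Q` containing the inner ones; saturation when the
group is generated by `Inn Q` and a subgroup of order prime to `p`. -/

set_option autoImplicit false
set_option linter.unusedSectionVars false
set_option linter.unusedVariables false

namespace Cfsg.Agent.Lib.FusSemi

open Cfsg Cfsg.FusionSystem Cfsg.Agent.Lib.FusBasic Cfsg.Agent.Lib.FusSat Cfsg.Agent.Lib.FusAut Cfsg.Agent.Lib.FusGroup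

variable {Ω : Type*} [Group Ω] {Q : Subgroup Ω}

/-- the system over `Q` whose maps are the restrictions of the members of `A` -/
def autSys (A : Subgroup (MulAut Q)) (hA : Inn Q ≤ A) : FusionSystem Q where
  Hom P := {φ | ∃ hP : P ≤ Q, ∃ a ∈ A, ∀ x : P, φ x = ((a ⟨x, hP x.2⟩ : Q) : Ω)}
  le_of_mem := by
    rintro P φ ⟨hP, a, ha, e⟩
    exact ⟨hP, fun x => by
      rw [e]
      exact Subtype.coe_prop _⟩
  injective_of_mem := by
    rintro P φ ⟨hP, a, ha, e⟩ x y hxy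
    rw [e, e] at hxy
    have h1 := a.injective (Subtype.ext hxy)
    have h2 : (x : Ω) = y := Subtype.mk.inj h1
    exact Subtype.ext h2
  conj_mem := by
    intro P g hP hg
    exact ⟨hP, MulAut.conj ⟨g, hg⟩, hA ⟨_, rfl⟩, fun x => rfl⟩
  comp_mem := by
    rintro P R φ ψ ⟨hP, a, ha, e⟩ ⟨hR, b, hb, e'⟩ h
    refine ⟨hP, b * a, A.mul_mem hb ha, fun x => ?_⟩
    have h1 : (ψ.comp (φ.codRestrict R h)) x = ψ ⟨φ x, h x⟩ := rfl
    rw [h1, e' ⟨φ x, h x⟩]
    have h2 : (⟨φ x, hR (h x)⟩ : Q) = a ⟨x, hP x.2⟩ := Subtype.ext (e x)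
    show ((b ⟨φ x, hR (h x)⟩ : Q) : Ω) = ((b (a ⟨x, hP x.2⟩) : Q) : Ω)
    rw [h2]
  inv_mem := by
    rintro P φ ⟨hP, a, ha, e⟩
    have hR : φ.range ≤ Q := by
      rintro _ ⟨x, rfl⟩
      rw [e]
      exact Subtype.coe_prop _
    refine ⟨(Q.subtype.comp (a⁻¹).toMonoidHom).comp (Subgroup.inclusion hR), ⟨hR, a⁻¹, A.inv_mem ha, fun x => rfl⟩, fun x => ?_⟩
    have h2 : (⟨φ x, hR ⟨x, rfl⟩⟩ : Q) = a ⟨x, hP x.2⟩ := Subtype.ext (e x)
    show ((a⁻¹ ⟨φ x, hR ⟨x, rfl⟩⟩ : Q) : Ω) = x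
    rw [h2]
    simp

theorem mem_autSys {A : Subgroup (MulAut Q)} {hA : Inn Q ≤ A} {P : Subgroup Ω} {φ : P →* Ω} :
    φ ∈ (autSys A hA).Hom P ↔ ∃ hP : P ≤ Q, ∃ a ∈ A, ∀ x : P, φ x = ((a ⟨x, hP x.2⟩ : Q) : Ω) := Iff.rfl

theorem autGroup_autSys (A : Subgroup (MulAut Q)) (hA : Inn Q ≤ A) : (autSys A hA).autGroup Q = A := by
  ext γ
  rw [mem_autGroup_iff _ le_rfl]
  constructor
  · rintro ⟨hP, a, ha, e⟩
    have : γ = a := by
      ext x
      exact e x
    rw [this]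
    exact ha
  · intro h
    exact ⟨le_rfl, γ, h, fun x => rfl⟩

theorem inn_normal (X : Type*) [Group X] : (Inn X).Normal := by
  constructor
  rintro _ ⟨g, rfl⟩ f
  refine ⟨f g, ?_⟩
  ext x
  show f g * x * (f g)⁻¹ = f (g * f⁻¹ x * g⁻¹)
  simp

/-- saturation when `A = Inn Q ⊔ H` with `H` of order prime to `p` -/
theorem autSys_saturated {p : ℕ} [Fact p.Prime] [Finite Q] (hQ : IsPGroup p Q) (H : Subgroup (MulAut Q)) (hco : Nat.Coprime (Nat.card H) p) :
    (autSys (Inn Q ⊔ H) le_sup_left).IsSaturated p := by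
  classical
  have hp : p.Prime := Fact.out
  haveI : Finite H := inferInstance
  haveI : Finite (Q ⋊[H.subtype] H) := Finite.of_equiv _ SemidirectProduct.equivProd.symm
  let ι : Q →* Q ⋊[H.subtype] H := SemidirectProduct.inl
  have hinj : Function.Injective ι := SemidirectProduct.inl_injective
  have hconj : ∀ (u : Q) (h : H) (x : Q), ((SemidirectProduct.inl u * SemidirectProduct.inr h : Q ⋊[H.subtype] H)) * ι x * (SemidirectProduct.inl u * SemidirectProduct.inr h)⁻¹ = ι (u * (h : MulAut Q) x * u⁻¹) := by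
    intro u h x
    have h1 : (ι ((h : MulAut Q) x) : Q ⋊[H.subtype] H) = SemidirectProduct.inr h * ι x * SemidirectProduct.inr h⁻¹ := SemidirectProduct.inl_aut (φ := H.subtype) h x
    rw [map_mul, map_mul, map_inv, h1, mul_inv_rev, map_inv]
    show SemidirectProduct.inl u * SemidirectProduct.inr h * ι x * ((SemidirectProduct.inr h)⁻¹ * (SemidirectProduct.inl u)⁻¹) = SemidirectProduct.inl u * (SemidirectProduct.inr h * ι x * (SemidirectProduct.inr h)⁻¹) * (SemidirectProduct.inl u)⁻¹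
    group
  have hr : (autSys (Inn Q ⊔ H) le_sup_left).IsRealizedBy ι := by
    refine ⟨hinj, fun P hP φ hφ => ⟨?_, ?_⟩⟩
    · rintro ⟨hP', a, ha, e⟩
      rw [sup_comm] at ha
      have hN : H ≤ Subgroup.normalizer ((Inn Q : Subgroup (MulAut Q)) : Set (MulAut Q)) := by
        haveI := inn_normal Q
        rw [Subgroup.normalizer_eq_top (Inn Q)]
        exact le_top
      obtain ⟨t, ht, _, ⟨g₀, rfl⟩, rfl⟩ := mem_sup_of_le_normalizer hN ha
      refine ⟨SemidirectProduct.inl 1 * SemidirectProduct.inr ⟨t, ht⟩ * SemidirectProduct.inl g₀, fun x => ?_⟩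
      have h1 : (⟨φ x, hφ x⟩ : Q) = t (g₀ * ⟨x, hP x.2⟩ * g₀⁻¹) := Subtype.ext (e x)
      rw [h1]
      have h2 := hconj 1 ⟨t, ht⟩ (g₀ * ⟨x, hP x.2⟩ * g₀⁻¹)
      simp only [one_mul, mul_one, inv_one] at h2
      rw [← h2]
      simp only [map_mul, map_inv, one_mul, map_one]
      show _ = SemidirectProduct.inr ⟨t, ht⟩ * ι g₀ * ι ⟨x, hP x.2⟩ * (SemidirectProduct.inr ⟨t, ht⟩ * ι g₀)⁻¹
      group
    · rintro ⟨g, eg⟩
      refine ⟨hP, MulAut.conj g.left * (g.right : MulAut Q), Subgroup.mul_mem _ (Subgroup.mem_sup_left ⟨_, rfl⟩) (Subgroup.mem_sup_right g.right.2), fun x => ?_⟩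
      have h1 := eg x
      rw [← SemidirectProduct.inl_left_mul_inr_right g] at h1
      rw [hconj] at h1
      have h2 := hinj h1
      exact congrArg Subtype.val h2
  have hpg : IsPGroup p ι.range := IsPGroup.of_surjective hQ ι.rangeRestrict ι.rangeRestrict_surjective
  have hidx : ¬ p ∣ ι.range.index := by
    have h1 : ι.range = (SemidirectProduct.rightHom : Q ⋊[H.subtype] H →* H).ker := SemidirectProduct.range_inl_eq_ker_rightHom
    rw [h1, Subgroup.index_ker, MonoidHom.range_eq_top.2 SemidirectProduct.rightHom_surjective, Nat.card_congr Subgroup.topEquiv.toEquiv]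
    intro hd
    have h2 := Nat.Coprime.eq_one_of_dvd hco.symm hd
    exact hp.one_lt.ne' h2
  exact Cfsg.Agent.Lib.FusReal.saturated_of_realized hr (IsPGroup.toSylow hpg hidx) (IsPGroup.toSylow_coe hpg hidx)

end Cfsg.Agent.Lib.FusSemi
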