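import Mathlib
import Cfsg.Agent.Lib.FusNorm

/-! Coprime automorphisms that fix all invariant subgroups of small exponent. -/

set_option autoImplicit false
set_option linter.unusedSectionVars false
set_option linter.unusedVariables false

namespace Cfsg.Agent.Lib.FusSmall

open Cfsg.Agent.Lib.FusNorm

theorem pow_comm_eq {K : Type*} [Group K] (x y c : K) (hc : y * x = c * (x * y)) (hcx : Commute c x)
    (hcy : Commute c y) (n : ℕ) : y ^ n * x = c ^ n * (x * y ^ n) := by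
  induction n with
  | zero => simp
  | succ n ih =>
    have h1 : c ^ n * y = y * c ^ n := ((hcy.pow_left n).eq)
    calc y ^ (n + 1) * x = y ^ n * (y * x) := by rw [pow_succ]; group
      _ = y ^ n * (c * (x * y)) := by rw [hc]
      _ = c * (y ^ n * x) * y := by
          have : y ^ n * c = c * y ^ n := ((hcy.pow_right n).eq).symm
          rw [← mul_assoc, this]
          group
      _ = c * (c ^ n * (x * y ^ n)) * y := by rw [ih]
      _ = c ^ (n + 1) * (x * y ^ (n + 1)) := by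
          rw [pow_succ', pow_succ]
          group

theorem pow_mul_comm {K : Type*} [Group K] (x y c : K) (hc : y * x = c * (x * y)) (hcx : Commute c x)
    (hcy : Commute c y) (n : ℕ) : (x * y) ^ n = x ^ n * y ^ n * c ^ (n.choose 2) := by
  induction n with
  | zero => simp
  | succ n ih =>
    have hch : (n + 1).choose 2 = n + n.choose 2 := by
      rw [Nat.choose_succ_succ' n 1, Nat.choose_one_right]
    have hcxy : Commute (c ^ n.choose 2) (x * y) := (hcx.mul_right hcy).pow_left _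
    have h1 := pow_comm_eq x y c hc hcx hcy n
    have hcn : c ^ n * x = x * c ^ n := (hcx.pow_left n).eq
    calc (x * y) ^ (n + 1) = (x * y) ^ n * (x * y) := pow_succ _ _
      _ = x ^ n * y ^ n * c ^ n.choose 2 * (x * y) := by rw [ih]
      _ = x ^ n * y ^ n * ((x * y) * c ^ n.choose 2) := by rw [mul_assoc, hcxy.eq]
      _ = x ^ n * (y ^ n * x) * y * c ^ n.choose 2 := by group
      _ = x ^ n * (c ^ n * (x * y ^ n)) * y * c ^ n.choose 2 := by rw [h1]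
      _ = x ^ n * ((c ^ n * x) * y ^ n) * y * c ^ n.choose 2 := by group
      _ = x ^ n * ((x * c ^ n) * y ^ n) * y * c ^ n.choose 2 := by rw [hcn]
      _ = x ^ (n + 1) * (c ^ n * y ^ n) * y * c ^ n.choose 2 := by
          rw [pow_succ]; group
      _ = x ^ (n + 1) * (y ^ n * c ^ n) * y * c ^ n.choose 2 := by
          rw [(((hcy.pow_left n).pow_right n).eq)]
      _ = x ^ (n + 1) * y ^ n * (c ^ n * y) * c ^ n.choose 2 := by group
      _ = x ^ (n + 1) * y ^ n * (y * c ^ n) * c ^ n.choose 2 := by rw [(hcy.pow_left n).eq]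
      _ = x ^ (n + 1) * y ^ (n + 1) * c ^ (n + 1).choose 2 := by
          rw [hch, pow_add c, pow_succ y]
          group

theorem choose_pow_one {K : Type*} [Group K] {p e : ℕ} [Fact p.Prime] (he : (p ≠ 2 ∧ e = p) ∨ (p = 2 ∧ e = 4)) {c : K}
    (hc : c ^ p = 1) : c ^ (e.choose 2) = 1 := by
  have hd : p ∣ e.choose 2 := by
    rcases he with ⟨h2, rfl⟩ | ⟨rfl, rfl⟩
    · have hpp : e.Prime := Fact.out
      apply hpp.dvd_choose_self (by norm_num)
      have := hpp.two_le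
      omega
    · decide
  obtain ⟨k, hk⟩ := hd
  rw [hk, pow_mul, hc, one_pow]

variable {P : Type*} [Group P] [Finite P] {p : ℕ} [Fact p.Prime]

theorem small_fix (hP : IsPGroup p P) (e : ℕ) (he : (p ≠ 2 ∧ e = p) ∨ (p = 2 ∧ e = 4))
    (A : Subgroup (MulAut P)) (hInn : ∀ g : P, MulAut.conj g ∈ A)
    (PP : Set (MulAut P)) (hPPA : PP ⊆ A) (hPPconj : ∀ a ∈ A, ∀ κ ∈ PP, a * κ * a⁻¹ ∈ PP)
    (hPPcop : ∀ κ ∈ PP, (orderOf κ).Coprime p)
    (M : Subgroup P) (hMinv : ∀ a ∈ A, ∀ x ∈ M, a x ∈ M)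
    (h : ∀ D : Subgroup P, D ≤ M → (∀ a ∈ A, ∀ x ∈ D, a x ∈ D) → (∀ x ∈ D, x ^ e = 1) →
      ∀ κ ∈ PP, ∀ x ∈ D, κ x = x) :
    ∀ κ ∈ PP, ∀ x ∈ M, κ x = x := by
  -- the fixed part
  let W₀ : Subgroup P :=
    { carrier := {x | x ∈ M ∧ ∀ κ ∈ PP, κ x = x}
      mul_mem' := by
        rintro a b ⟨ha, ha'⟩ ⟨hb, hb'⟩
        refine ⟨M.mul_mem ha hb, fun κ hκ => ?_⟩
        rw [map_mul, ha' κ hκ, hb' κ hκ]
      one_mem' := ⟨M.one_mem, fun κ _ => map_one κ⟩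
      inv_mem' := by
        rintro a ⟨ha, ha'⟩
        refine ⟨M.inv_mem ha, fun κ hκ => ?_⟩
        rw [map_inv, ha' κ hκ] }
  have hW : ∀ x, x ∈ W₀ ↔ x ∈ M ∧ ∀ κ ∈ PP, κ x = x := fun x => Iff.rfl
  have hWinv : ∀ a ∈ A, ∀ x ∈ W₀, a x ∈ W₀ := by
    rintro a ha x ⟨hx, hx'⟩
    refine ⟨hMinv a ha x hx, fun κ hκ => ?_⟩
    have h1 := hPPconj a⁻¹ (A.inv_mem ha) κ hκ
    have h2 := hx' _ h1
    have h3 : (a⁻¹ * κ * a⁻¹⁻¹) x = a⁻¹ (κ (a x)) := by simp [MulAut.mul_apply]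
    rw [h3] at h2
    have h4 := congrArg a h2
    simpa using h4
  have hWn : ∀ (g : P), ∀ x ∈ W₀, g * x * g⁻¹ ∈ W₀ := by
    intro g x hx
    exact hWinv _ (hInn g) x hx
  by_contra hcon
  push_neg at hcon
  obtain ⟨κ₀, hκ₀, x₀, hx₀, hne⟩ := hcon
  have hnot : ¬ M ≤ W₀ := by
    intro hle
    exact hne ((hle hx₀).2 κ₀ hκ₀)
  -- the centralizer of the fixed part
  let C : Subgroup P :=
    { carrier := {x | x ∈ M ∧ ∀ w ∈ W₀, x * w = w * x}
      mul_mem' := by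
        rintro a b ⟨ha, ha'⟩ ⟨hb, hb'⟩
        refine ⟨M.mul_mem ha hb, fun w hw => ?_⟩
        rw [mul_assoc, hb' w hw, ← mul_assoc, ha' w hw, mul_assoc]
      one_mem' := ⟨M.one_mem, fun w _ => by simp⟩
      inv_mem' := by
        rintro a ⟨ha, ha'⟩
        refine ⟨M.inv_mem ha, fun w hw => ?_⟩
        have := ha' w hw
        rw [inv_mul_eq_iff_eq_mul, ← mul_assoc, this, mul_assoc, mul_inv_cancel, mul_one] }
  have hC : ∀ x, x ∈ C ↔ x ∈ M ∧ ∀ w ∈ W₀, x * w = w * x := fun x => Iff.rfl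
  have hCinv : ∀ a ∈ A, ∀ x ∈ C, a x ∈ C := by
    rintro a ha x ⟨hx, hx'⟩
    refine ⟨hMinv a ha x hx, fun w hw => ?_⟩
    have h1 := hx' _ (hWinv a⁻¹ (A.inv_mem ha) w hw)
    have h2 := congrArg a h1
    simpa [map_mul] using h2
  -- step: elements with commutator in the fixed part
  by_cases hCW : C ≤ W₀
  · apply hnot
    intro x hx
    refine ⟨hx, fun κ hκ => ?_⟩
    have hco := hPPcop κ hκ
    have hκA : κ ∈ A := hPPA hκ
    have hy : x⁻¹ * κ x ∈ C := by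
      refine ⟨M.mul_mem (M.inv_mem hx) (hMinv κ hκA x hx), fun w hw => ?_⟩
      have h1 : x * w * x⁻¹ ∈ W₀ := hWn x w hw
      have h2 := h1.2 κ hκ
      have h3 : κ x * w * (κ x)⁻¹ = x * w * x⁻¹ := by
        rw [← h2, map_mul, map_mul, map_inv, hw.2 κ hκ]
      have h4 : κ x * w = x * w * x⁻¹ * κ x := by
        rw [← h3]
        group
      calc x⁻¹ * κ x * w = x⁻¹ * (κ x * w) := by group
        _ = x⁻¹ * (x * w * x⁻¹ * κ x) := by rw [h4]
        _ = w * (x⁻¹ * κ x) := by group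
    exact aut_fix_step hP hco ((hCW hy).2 κ hκ)
  · -- a central element of the quotient
    obtain ⟨c₀, hc₀, hc₀W⟩ := SetLike.not_le_iff_exists.1 hCW
    have hN : Group.IsNilpotent P := hP.isNilpotent
    obtain ⟨n, hn⟩ := hN.nilpotent'
    have hex : ∃ i, ∃ x, x ∈ C ∧ x ∉ W₀ ∧ x ∈ Subgroup.upperCentralSeries P i :=
      ⟨n, c₀, hc₀, hc₀W, by rw [hn]; trivial⟩
    classical
    have hspec := Nat.find_spec hex
    have hmin := fun j (hj : j < Nat.find hex) => Nat.find_min hex hj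
    obtain ⟨x₁, hx₁C, hx₁W, hx₁Z⟩ := hspec
    -- the commutators with `x₁`
    let K₁ : Subgroup P :=
      { carrier := {x | x ∈ C ∧ ∀ g : P, x * g * x⁻¹ * g⁻¹ ∈ W₀}
        mul_mem' := by
          rintro x y ⟨hx, hx'⟩ ⟨hy, hy'⟩
          refine ⟨C.mul_mem hx hy, fun g => ?_⟩
          have h1 := W₀.mul_mem (hWn x _ (hy' g)) (hx' g)
          have e1 : x * y * g * (x * y)⁻¹ * g⁻¹ = x * (y * g * y⁻¹ * g⁻¹) * x⁻¹ * (x * g * x⁻¹ * g⁻¹) := by group
          rw [e1]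
          exact h1
        one_mem' := ⟨C.one_mem, fun g => by simp [W₀.one_mem]⟩
        inv_mem' := by
          rintro x ⟨hx, hx'⟩
          refine ⟨C.inv_mem hx, fun g => ?_⟩
          have h1 := hWn x⁻¹ _ (W₀.inv_mem (hx' g))
          have e1 : x⁻¹ * g * x⁻¹⁻¹ * g⁻¹ = x⁻¹ * (x * g * x⁻¹ * g⁻¹)⁻¹ * x⁻¹⁻¹ := by group
          rw [e1]
          exact h1 }
    have hK₁ : ∀ x, x ∈ K₁ ↔ x ∈ C ∧ ∀ g : P, x * g * x⁻¹ * g⁻¹ ∈ W₀ := fun x => Iff.rfl
    have hx₁K : x₁ ∈ K₁ := by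
      refine ⟨hx₁C, fun g => ?_⟩
      have hne0 : Nat.find hex ≠ 0 := by
        intro h0
        rw [h0] at hx₁Z
        apply hx₁W
        have : x₁ = 1 := Subgroup.mem_bot.1 hx₁Z
        rw [this]
        exact W₀.one_mem
      obtain ⟨j, hj⟩ := Nat.exists_eq_succ_of_ne_zero hne0
      have hlt : j < Nat.find hex := by omega
      have hnot := hmin j hlt
      rw [hj] at hx₁Z
      have h1 := (Subgroup.mem_upperCentralSeries_succ_iff (G := P) (n := j) (x := x₁)).1 hx₁Z g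
      by_contra hcontra
      apply hnot
      refine ⟨x₁ * g * x₁⁻¹ * g⁻¹, ?_, hcontra, h1⟩
      have e1 : x₁ * g * x₁⁻¹ * g⁻¹ = x₁ * (g * x₁⁻¹ * g⁻¹) := by group
      rw [e1]
      refine C.mul_mem hx₁C ?_
      exact hCinv _ (hInn g) _ (C.inv_mem hx₁C)
    have hK₁inv : ∀ a ∈ A, ∀ x ∈ K₁, a x ∈ K₁ := by
      rintro a ha x ⟨hx, hx'⟩
      refine ⟨hCinv a ha x hx, fun g => ?_⟩
      have h1 := hWinv a ha _ (hx' (a⁻¹ g))
      have e1 : a (x * a⁻¹ g * x⁻¹ * (a⁻¹ g)⁻¹) = a x * g * (a x)⁻¹ * g⁻¹ := by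
        simp [map_mul, map_inv]
      rwa [e1] at h1
    -- the `p`-th power in the fixed part
    have hp := (Fact.out : p.Prime)
    obtain ⟨x₂, hx₂K, hx₂W, hx₂p⟩ : ∃ x₂, x₂ ∈ K₁ ∧ x₂ ∉ W₀ ∧ x₂ ^ p ∈ W₀ := by
      obtain ⟨k, hk⟩ := hP x₁
      have hex2 : ∃ k, x₁ ^ (p ^ k) ∈ W₀ := ⟨k, by rw [hk]; exact W₀.one_mem⟩
      have hs := Nat.find_spec hex2
      have hm := fun j (hj : j < Nat.find hex2) => Nat.find_min hex2 hj
      have hne0 : Nat.find hex2 ≠ 0 := by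
        intro h0
        rw [h0] at hs
        apply hx₁W
        simpa using hs
      obtain ⟨j, hj⟩ := Nat.exists_eq_succ_of_ne_zero hne0
      refine ⟨x₁ ^ (p ^ j), K₁.pow_mem hx₁K _, hm j (by omega), ?_⟩
      rw [hj, Nat.succ_eq_add_one, pow_succ, pow_mul] at hs
      exact hs
    -- the subgroup `K₀`
    have hcomm : ∀ x y, x ∈ K₁ → y ∈ K₁ → y * x * y⁻¹ * x⁻¹ ∈ W₀ := fun x y hx hy => hy.2 x
    have hcx : ∀ x w, x ∈ K₁ → w ∈ W₀ → Commute w x := fun x w hx hw => ((hx.1.2 w hw)).symm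
    let K₀ : Subgroup P :=
      { carrier := {x | x ∈ K₁ ∧ x ^ p ∈ W₀}
        mul_mem' := by
          rintro x y ⟨hx, hx'⟩ ⟨hy, hy'⟩
          refine ⟨K₁.mul_mem hx hy, ?_⟩
          have hc := hcomm x y hx hy
          rw [pow_mul_comm x y (y * x * y⁻¹ * x⁻¹) (by group) (hcx x _ hx hc) (hcx y _ hy hc) p]
          exact W₀.mul_mem (W₀.mul_mem hx' hy') (W₀.pow_mem hc _)
        one_mem' := ⟨K₁.one_mem, by simp [W₀.one_mem]⟩
        inv_mem' := by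
          rintro x ⟨hx, hx'⟩
          refine ⟨K₁.inv_mem hx, ?_⟩
          rw [inv_pow]
          exact W₀.inv_mem hx' }
    have hK₀ : ∀ x, x ∈ K₀ ↔ x ∈ K₁ ∧ x ^ p ∈ W₀ := fun x => Iff.rfl
    have hK₀inv : ∀ a ∈ A, ∀ x ∈ K₀, a x ∈ K₀ := by
      rintro a ha x ⟨hx, hx'⟩
      refine ⟨hK₁inv a ha x hx, ?_⟩
      rw [← map_pow]
      exact hWinv a ha _ hx'
    have hx₂K₀ : x₂ ∈ K₀ := ⟨hx₂K, hx₂p⟩
    -- the `e`-th power map
    have hpow : ∀ x y, x ∈ K₀ → y ∈ K₀ → (x * y) ^ e = x ^ e * y ^ e := by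
      intro x y hx hy
      have hc := hcomm x y hx.1 hy.1
      rw [pow_mul_comm x y (y * x * y⁻¹ * x⁻¹) (by group) (hcx x _ hx.1 hc) (hcx y _ hy.1 hc) e]
      have h1 := pow_comm_eq x y (y * x * y⁻¹ * x⁻¹) (by group) (hcx x _ hx.1 hc) (hcx y _ hy.1 hc) p
      have h2 : y ^ p * x = x * y ^ p := (hcx x _ hx.1 hy.2).eq
      rw [h2] at h1
      have h3 : (y * x * y⁻¹ * x⁻¹) ^ p = 1 := mul_eq_right.1 h1.symm
      rw [choose_pow_one he h3, mul_one]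
    have hpe : ∀ x, x ∈ K₀ → x ^ e ∈ W₀ := by
      rintro x ⟨-, hx⟩
      rcases he with ⟨-, rfl⟩ | ⟨rfl, rfl⟩
      · exact hx
      · have : x ^ 4 = (x ^ 2) ^ 2 := by rw [← pow_mul]
        rw [this]
        exact W₀.pow_mem hx 2
    let D₀ : Subgroup P :=
      { carrier := {x | x ∈ K₀ ∧ x ^ e = 1}
        mul_mem' := by
          rintro x y ⟨hx, hx'⟩ ⟨hy, hy'⟩
          refine ⟨K₀.mul_mem hx hy, ?_⟩
          rw [hpow x y hx hy, hx', hy', one_mul]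
        one_mem' := ⟨K₀.one_mem, by simp⟩
        inv_mem' := by
          rintro x ⟨hx, hx'⟩
          refine ⟨K₀.inv_mem hx, ?_⟩
          rw [inv_pow, hx', inv_one] }
    have hD₀ : ∀ x, x ∈ D₀ ↔ x ∈ K₀ ∧ x ^ e = 1 := fun x => Iff.rfl
    have hD := h D₀ (fun x hx => hx.1.1.1.1) (by
      rintro a ha x ⟨hx, hx'⟩
      refine ⟨hK₀inv a ha x hx, ?_⟩
      rw [← map_pow, hx', map_one]) (fun x hx => hx.2)
    apply hx₂W
    refine ⟨hx₂K.1.1, fun κ hκ => ?_⟩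
    have hκA : κ ∈ A := hPPA hκ
    have hy : x₂⁻¹ * κ x₂ ∈ D₀ := by
      have h1 := hK₀inv κ hκA x₂ hx₂K₀
      refine ⟨K₀.mul_mem (K₀.inv_mem hx₂K₀) h1, ?_⟩
      rw [hpow _ _ (K₀.inv_mem hx₂K₀) h1, ← map_pow, (hpe x₂ hx₂K₀).2 κ hκ, inv_pow]
      simp
    exact aut_fix_step hP (hPPcop κ hκ) (hD κ hκ _ hy)

end Cfsg.Agent.Lib.FusSmall
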