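import Mathlib
import Cfsg.Agent.Lib.FusSmall
import Cfsg.Agent.Lib.FusHyp
import Cfsg.Agent.Lib.FusGT

/-! Tools for the small-exponent control results. -/

set_option autoImplicit false
set_option linter.unusedSectionVars false
set_option linter.unusedVariables false

namespace Cfsg.Agent.Lib.FusSmall

open Cfsg Cfsg.FusionSystem Cfsg.Agent.Lib.FusBasic Cfsg.Agent.Lib.FusAut Cfsg.Agent.Lib.FusSat
open Cfsg.Agent.Lib.FusNorm Cfsg.Agent.Lib.FusHyp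

variable {Ω : Type*} [Group Ω] {S : Subgroup Ω} {p : ℕ} [Fact p.Prime]

/-- the upper central series of `S` inside `Ω` -/
def ZS (S : Subgroup Ω) (i : ℕ) : Subgroup Ω := (Subgroup.upperCentralSeries ↥S i).map S.subtype

theorem ZS_le (i : ℕ) : ZS S i ≤ S := by
  rintro _ ⟨x, -, rfl⟩
  exact x.2

theorem ZS_conj {i : ℕ} {x s : Ω} (hx : x ∈ ZS S (i + 1)) (hs : s ∈ S) : x⁻¹ * (s * x * s⁻¹) ∈ ZS S i := by
  obtain ⟨y, hy, rfl⟩ := hx
  have h1 := (Subgroup.mem_upperCentralSeries_succ_iff (G := ↥S) (n := i) (x := y⁻¹)).1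
    (Subgroup.inv_mem _ hy) ⟨s, hs⟩
  refine ⟨_, h1, ?_⟩
  show ((y : Ω))⁻¹ * s * ((y : Ω))⁻¹⁻¹ * s⁻¹ = _
  simp only [Subgroup.subtype_apply, inv_inv, mul_assoc]

theorem ZS_top [Finite S] (hS : IsPGroup p S) : ∃ n, ∀ x ∈ S, x ∈ ZS S n := by
  have hN : Group.IsNilpotent S := hS.isNilpotent
  obtain ⟨n, hn⟩ := hN.nilpotent'
  refine ⟨n, fun x hx => ⟨⟨x, hx⟩, ?_, rfl⟩⟩
  rw [hn]
  trivial

theorem fix_chain [Finite S] (hS : IsPGroup p S) {R : Subgroup Ω} (hR : R ≤ S) [Finite R] {κ : MulAut R}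
    (hco : (orderOf κ).Coprime p) (D : Subgroup R) (hD : ∀ x ∈ D, κ x ∈ D)
    (hstep : ∀ i, ∀ x ∈ D, (x : Ω) ∈ ZS S (i + 1) → (x : Ω)⁻¹ * (κ x : Ω) ∈ ZS S i) : ∀ x ∈ D, κ x = x := by
  have hRp : IsPGroup p R := hS.to_le hR
  have hall : ∀ i, ∀ x ∈ D, (x : Ω) ∈ ZS S i → κ x = x := by
    intro i
    induction i with
    | zero =>
      intro x _ hx
      obtain ⟨y, hy, e⟩ := hx
      have h1 : y = 1 := Subgroup.mem_bot.1 hy
      have h2 : (x : Ω) = 1 := by rw [← e, h1]; rfl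
      have h3 : x = 1 := Subtype.ext h2
      rw [h3, map_one]
    | succ i ih =>
      intro x hx hxZ
      apply aut_fix_step hRp hco
      apply ih _ (D.mul_mem (D.inv_mem hx) (hD x hx))
      exact hstep i x hx hxZ
  obtain ⟨n, hn⟩ := ZS_top hS
  exact fun x hx => hall n x hx (hn _ (hR x.2))

/-- the restriction of an automorphism to a cyclic subgroup -/
theorem res_zpowers (F : FusionSystem S) {R : Subgroup Ω} (hR : R ≤ S) {κ : MulAut R} (hκ : κ ∈ F.autGroup R) (x : R) :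
    ∃ φ : (Subgroup.zpowers (x : Ω)) →* Ω, φ ∈ F.homSet (Subgroup.zpowers (x : Ω)) (Subgroup.zpowers ((κ x : R) : Ω)) ∧
      ∀ h, φ ⟨x, h⟩ = κ x := by
  have hle : Subgroup.zpowers (x : Ω) ≤ R := by
    rw [Subgroup.zpowers_le]
    exact x.2
  have hψ := (mem_autGroup_iff F hR).1 hκ
  refine ⟨_, ⟨res_mem F hle hψ, ?_⟩, fun h => rfl⟩
  rintro ⟨y, k, rfl⟩
  refine ⟨k, ?_⟩
  have e : (⟨(x : Ω) ^ k, hle ⟨k, rfl⟩⟩ : R) = x ^ k := Subtype.ext (by simp)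
  show ((κ x : R) : Ω) ^ k = ((κ ⟨(x : Ω) ^ k, hle ⟨k, rfl⟩⟩ : R) : Ω)
  rw [e, map_zpow]
  simp

theorem card_small {e : ℕ} (he : (p ≠ 2 ∧ e = p) ∨ (p = 2 ∧ e = 4)) {x : Ω} (h1 : x ≠ 1) (h2 : x ^ e = 1) :
    Nat.card (Subgroup.zpowers x) = p ∨ Nat.card (Subgroup.zpowers x) = 4 := by
  rw [Nat.card_zpowers]
  have hd := orderOf_dvd_of_pow_eq_one h2
  have hne : orderOf x ≠ 1 := by
    intro h
    exact h1 (orderOf_eq_one_iff.1 h)
  rcases he with ⟨-, rfl⟩ | ⟨rfl, rfl⟩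
  · left
    exact ((Nat.dvd_prime Fact.out).1 hd).resolve_left hne
  · have : orderOf x ∣ 2 ^ 2 := hd
    obtain ⟨k, hk, e⟩ := (Nat.dvd_prime_pow Nat.prime_two).1 this
    interval_cases k
    · simp at e
      exact absurd e h1
    · left
      simpa using e
    · right
      simpa using e

/-- applying a hypothesis on cyclic subgroups of small order -/
theorem exists_small_map (F : FusionSystem S) {R H : Subgroup Ω} (hR : R ≤ S) {e : ℕ} (he : (p ≠ 2 ∧ e = p) ∨ (p = 2 ∧ e = 4))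
    (X : ∀ A : Subgroup Ω, Set (A →* Ω))
    (h : ∀ A B : Subgroup Ω, A ≤ H → B ≤ H → IsCyclic ↥A → (Nat.card ↥A = p ∨ Nat.card ↥A = 4) → IsCyclic ↥B →
      (Nat.card ↥B = p ∨ Nat.card ↥B = 4) → F.homSet A B ⊆ X A)
    {κ : MulAut R} (hκ : κ ∈ F.autGroup R) (x : R) (hxH : (x : Ω) ∈ H) (hyH : ((κ x : R) : Ω) ∈ H) (hx1 : x ≠ 1) (hxe : x ^ e = 1) :
    ∃ φ ∈ X (Subgroup.zpowers (x : Ω)), ∀ h, φ ⟨x, h⟩ = κ x := by
  obtain ⟨φ, hφ, hφx⟩ := res_zpowers F hR hκ x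
  refine ⟨φ, h _ _ ?_ ?_ inferInstance (card_small he ?_ ?_) inferInstance (card_small he ?_ ?_) hφ, hφx⟩
  · rwa [Subgroup.zpowers_le]
  · rwa [Subgroup.zpowers_le]
  · intro e0
    exact hx1 (Subtype.ext e0)
  · have := congrArg (fun z : R => (z : Ω)) hxe
    simpa using this
  · intro e0
    apply hx1
    have h1 : κ x = 1 := Subtype.ext e0
    simpa using h1
  · have h2 : κ x ^ e = 1 := by rw [← map_pow, hxe, map_one]
    have := congrArg (fun z : R => (z : Ω)) h2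
    simpa using this

theorem orderOf_conj_aut {G : Type*} [Group G] (a x : G) : orderOf (a * x * a⁻¹) = orderOf x := by
  have := orderOf_injective (MulAut.conj a).toMonoidHom (MulAut.conj a).injective x
  rw [← this]
  rfl

/-- the radical lemma for subgroups controlled on small invariant subgroups -/
theorem radical_small [Finite S] (hS : IsPGroup p S) (F : FusionSystem S) {R : Subgroup Ω} (hRad : F.IsRadical p R)
    (hcent : centralizerIn S R ≤ R) (M : Subgroup Ω)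
    (hMA : ∀ a ∈ F.autGroup R, ∀ x : R, (x : Ω) ∈ M → ((a x : R) : Ω) ∈ M)
    (hκM : ∀ κ ∈ F.autGroup R, (orderOf κ).Coprime p → ∀ x : R, (x : Ω)⁻¹ * ((κ x : R) : Ω) ∈ M)
    {e : ℕ} (he : (p ≠ 2 ∧ e = p) ∨ (p = 2 ∧ e = 4))
    (hD : ∀ D : Subgroup R, D ≤ M.subgroupOf R → (∀ a ∈ F.autGroup R, ∀ x ∈ D, a x ∈ D) → (∀ x ∈ D, x ^ e = 1) →
      ∃ K : Subgroup (MulAut R), (∀ γ ∈ F.autGroup R, ∀ ψ ∈ K, γ * ψ * γ⁻¹ ∈ K) ∧
        (∀ v ∈ S, ∀ hv : v ∈ Subgroup.normalizer (R : Set Ω), cAut R ⟨v, hv⟩ ∈ K) ∧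
        (∀ κ ∈ K, κ ∈ F.autGroup R → (orderOf κ).Coprime p → ∀ x ∈ D, κ x = x)) : S ≤ R := by
  have hRS : R ≤ S := hRad.1
  haveI : Finite R := finite_of_le hRS
  have hRp : IsPGroup p R := hS.to_le hRS
  classical
  -- the intersection of the chosen subgroups
  let Ds : Set (Subgroup R) := {D | D ≤ M.subgroupOf R ∧ (∀ a ∈ F.autGroup R, ∀ x ∈ D, a x ∈ D) ∧ ∀ x ∈ D, x ^ e = 1}
  have hch : ∀ D : Ds, ∃ K : Subgroup (MulAut R), (∀ γ ∈ F.autGroup R, ∀ ψ ∈ K, γ * ψ * γ⁻¹ ∈ K) ∧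
        (∀ v ∈ S, ∀ hv : v ∈ Subgroup.normalizer (R : Set Ω), cAut R ⟨v, hv⟩ ∈ K) ∧
        (∀ κ ∈ K, κ ∈ F.autGroup R → (orderOf κ).Coprime p → ∀ x ∈ (D : Subgroup R), κ x = x) :=
    fun D => hD D D.2.1 D.2.2.1 D.2.2.2
  choose K hK1 hK2 hK3 using hch
  let KK : Subgroup (MulAut R) := ⨅ D : Ds, K D
  have hKK : ∀ ψ, ψ ∈ KK ↔ ∀ D : Ds, ψ ∈ K D := fun ψ => Subgroup.mem_iInf
  have hA : ∀ γ ∈ F.autGroup R, ∀ κ ∈ KK, γ * κ * γ⁻¹ ∈ KK := fun γ hγ κ hκ =>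
    (hKK _).2 fun D => hK1 D γ hγ κ ((hKK κ).1 hκ D)
  have hp' : ∀ κ ∈ KK, κ ∈ F.autGroup R → (orderOf κ).Coprime p → κ = 1 := by
    intro κ hκK hκA hco
    have hfix := small_fix hRp e he (F.autGroup R) (fun g => inn_le_autGroup F hRS ⟨g, rfl⟩)
      {κ | κ ∈ KK ∧ κ ∈ F.autGroup R ∧ (orderOf κ).Coprime p} (fun κ hκ => hκ.2.1)
      (fun a ha κ hκ => ⟨hA a ha κ hκ.1, Subgroup.mul_mem _ (Subgroup.mul_mem _ ha hκ.2.1) (Subgroup.inv_mem _ ha), by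
        rw [orderOf_conj_aut]
        exact hκ.2.2⟩) (fun κ hκ => hκ.2.2)
      (M.subgroupOf R) (fun a ha x hx => hMA a ha x hx)
      (fun D hDM hDA hDe κ hκ => hK3 ⟨D, hDM, hDA, hDe⟩ κ ((hKK κ).1 hκ.1 _) hκ.2.1 hκ.2.2)
      κ ⟨hκK, hκA, hco⟩
    apply MulEquiv.ext
    intro x
    have h2 : x⁻¹ * κ x ∈ M.subgroupOf R := by
      rw [Subgroup.mem_subgroupOf]
      exact hκM κ hκA hco x
    exact aut_fix_step hRp hco (hfix _ h2)
  apply le_of_conj_mem_core hS F hRad hcent le_rfl (fun s hs => by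
    apply Subgroup.mem_normalizer_iff.2
    intro x
    constructor
    · intro hx
      exact S.mul_mem (S.mul_mem hs hx) (S.inv_mem hs)
    · intro hx
      have : x = s⁻¹ * (s * x * s⁻¹) * s := by group
      rw [this]
      exact S.mul_mem (S.mul_mem (S.inv_mem hs) hx) hs)
  intro v hv hvn
  have hAv : cAut R ⟨v, hvn⟩ ∈ F.autGroup R :=
    autInduced_le_autGroup F hRS (mem_autInducedBy'.2 ⟨v, hv, fun x => rfl⟩)
  exact mem_core_of_stable F KK hA hp' ((hKK _).2 fun D => hK2 D v hv hvn) hAv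

theorem ZS_mono (i : ℕ) : ZS S i ≤ ZS S (i + 1) := by
  rintro _ ⟨y, hy, rfl⟩
  exact ⟨y, Subgroup.upperCentralSeries_mono ↥S (Nat.le_succ i) hy, rfl⟩

theorem mem_ZS_succ {i : ℕ} {x : Ω} (hx : x ∈ S) (h : ∀ y ∈ S, x * y * x⁻¹ * y⁻¹ ∈ ZS S i) : x ∈ ZS S (i + 1) := by
  refine ⟨⟨x, hx⟩, ?_, rfl⟩
  apply (Subgroup.mem_upperCentralSeries_succ_iff (G := ↥S) (n := i) (x := ⟨x, hx⟩)).2
  intro y
  obtain ⟨z, hz, e⟩ := h y y.2
  have : z = (⟨x, hx⟩ : S) * y * (⟨x, hx⟩ : S)⁻¹ * y⁻¹ := Subtype.ext e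
  rw [commutatorElement_def, ← this]
  exact hz

theorem ZS_comm {i : ℕ} {x y : Ω} (hx : x ∈ ZS S (i + 1)) (hy : y ∈ S) : x * y * x⁻¹ * y⁻¹ ∈ ZS S i := by
  obtain ⟨z, hz, rfl⟩ := hx
  have h1 := (Subgroup.mem_upperCentralSeries_succ_iff (G := ↥S) (n := i) (x := z)).1 hz ⟨y, hy⟩
  exact ⟨_, h1, rfl⟩

/-- maps onto `S` preserve the upper central series -/
theorem ZS_map {T : Subgroup Ω} (hST : S ≤ T) (ψ : T →* Ω) (hmap : (S.subgroupOf T).map ψ = S) (j : ℕ) :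
    ∀ x, ∀ hx : x ∈ ZS S j, ψ ⟨x, hST (ZS_le j hx)⟩ ∈ ZS S j := by
  induction j with
  | zero =>
    intro x hx
    have hx0 := hx
    obtain ⟨y, hy, e⟩ := hx0
    have h1 : y = 1 := Subgroup.mem_bot.1 hy
    have h2 : x = 1 := by rw [← e, h1]; rfl
    have : (⟨x, hST (ZS_le 0 hx)⟩ : T) = 1 := Subtype.ext h2
    rw [this, map_one]
    exact (ZS S 0).one_mem
  | succ j ih =>
    intro x hx
    have hxS : x ∈ S := ZS_le _ hx
    have hm : ψ ⟨x, hST hxS⟩ ∈ S := by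
      rw [← hmap]
      exact ⟨_, hxS, rfl⟩
    apply mem_ZS_succ hm
    intro y hy
    rw [← hmap] at hy
    obtain ⟨t, ht, rfl⟩ := hy
    have ht' : (t : Ω) ∈ S := ht
    have h1 := ih _ (ZS_comm hx ht')
    have e1 : (⟨x * t * x⁻¹ * (t : Ω)⁻¹, hST (ZS_le j (ZS_comm hx ht'))⟩ : T) = ⟨x, hST hxS⟩ * t * ⟨x, hST hxS⟩⁻¹ * t⁻¹ :=
      Subtype.ext rfl
    rw [e1, map_mul, map_mul, map_mul, map_inv, map_inv] at h1
    exact h1

end Cfsg.Agent.Lib.FusSmall
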