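import Mathlib
import Cfsg.Agent.Lib.FusSmall

/-! Critical subgroups relative to a group of automorphisms. -/

set_option autoImplicit false
set_option linter.unusedSectionVars false
set_option linter.unusedVariables false

namespace Cfsg.Agent.Lib.FusSmall

open Cfsg.Agent.Lib.FusNorm

variable {P : Type*} [Group P] [Finite P] {p : ℕ} [Fact p.Prime]

/-- the fixed part of a family of automorphisms -/
def fixS (M : Subgroup P) (PP : Set (MulAut P)) : Subgroup P where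
  carrier := {x | x ∈ M ∧ ∀ κ ∈ PP, κ x = x}
  mul_mem' := by
    rintro a b ⟨ha, ha'⟩ ⟨hb, hb'⟩
    refine ⟨M.mul_mem ha hb, fun κ hκ => ?_⟩
    rw [map_mul, ha' κ hκ, hb' κ hκ]
  one_mem' := ⟨M.one_mem, fun κ _ => map_one κ⟩
  inv_mem' := by
    rintro a ⟨ha, ha'⟩
    refine ⟨M.inv_mem ha, fun κ hκ => ?_⟩
    rw [map_inv, ha' κ hκ]

theorem exists_K (hP : IsPGroup p P)
    (A : Subgroup (MulAut P)) (hInn : ∀ g : P, MulAut.conj g ∈ A)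
    (PP : Set (MulAut P)) (hPPA : PP ⊆ A) (hPPconj : ∀ a ∈ A, ∀ κ ∈ PP, a * κ * a⁻¹ ∈ PP)
    (hPPcop : ∀ κ ∈ PP, (orderOf κ).Coprime p)
    (M : Subgroup P) (hMinv : ∀ a ∈ A, ∀ x ∈ M, a x ∈ M) (hnot : ¬ M ≤ fixS M PP) :
    ∃ K₀ : Subgroup P, K₀ ≤ M ∧ (∀ x ∈ K₀, ∀ w ∈ fixS M PP, x * w = w * x) ∧
      (∀ x ∈ K₀, ∀ g : P, x * g * x⁻¹ * g⁻¹ ∈ fixS M PP) ∧ (∀ x ∈ K₀, x ^ p ∈ fixS M PP) ∧
      (∀ a ∈ A, ∀ x ∈ K₀, a x ∈ K₀) ∧ ¬ K₀ ≤ fixS M PP := by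
  set W₀ := fixS M PP with hW₀
  have hWinv : ∀ a ∈ A, ∀ x ∈ W₀, a x ∈ W₀ := by
    rintro a ha x ⟨hx, hx'⟩
    refine ⟨hMinv a ha x hx, fun κ hκ => ?_⟩
    have h1 := hPPconj a⁻¹ (A.inv_mem ha) κ hκ
    have h2 := hx' _ h1
    have h3 : (a⁻¹ * κ * a⁻¹⁻¹) x = a⁻¹ (κ (a x)) := by simp [MulAut.mul_apply]
    rw [h3] at h2
    have h4 := congrArg a h2
    simpa using h4
  have hWn : ∀ (g : P), ∀ x ∈ W₀, g * x * g⁻¹ ∈ W₀ := by
    intro g x hx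
    exact hWinv _ (hInn g) x hx
  -- the centralizer of the fixed part
  let C : Subgroup P :=
    { carrier := {x | x ∈ M ∧ ∀ w ∈ W₀, x * w = w * x}
      mul_mem' := by
        rintro a b ⟨ha, ha'⟩ ⟨hb, hb'⟩
        refine ⟨M.mul_mem ha hb, fun w hw => ?_⟩
        rw [mul_assoc, hb' w hw, ← mul_assoc, ha' w hw, mul_assoc]
      one_mem' := ⟨M.one_mem, fun w _ => by simp⟩
      inv_mem' := by
        rintro a ⟨ha, ha'⟩
        refine ⟨M.inv_mem ha, fun w hw => ?_⟩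
        have := ha' w hw
        rw [inv_mul_eq_iff_eq_mul, ← mul_assoc, this, mul_assoc, mul_inv_cancel, mul_one] }
  have hC : ∀ x, x ∈ C ↔ x ∈ M ∧ ∀ w ∈ W₀, x * w = w * x := fun x => Iff.rfl
  have hCinv : ∀ a ∈ A, ∀ x ∈ C, a x ∈ C := by
    rintro a ha x ⟨hx, hx'⟩
    refine ⟨hMinv a ha x hx, fun w hw => ?_⟩
    have h1 := hx' _ (hWinv a⁻¹ (A.inv_mem ha) w hw)
    have h2 := congrArg a h1
    simpa [map_mul] using h2
  have hCW : ¬ C ≤ W₀ := by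
    intro hCW
    apply hnot
    intro x hx
    refine ⟨hx, fun κ hκ => ?_⟩
    have hco := hPPcop κ hκ
    have hκA : κ ∈ A := hPPA hκ
    have hy : x⁻¹ * κ x ∈ C := by
      refine ⟨M.mul_mem (M.inv_mem hx) (hMinv κ hκA x hx), fun w hw => ?_⟩
      have h1 : x * w * x⁻¹ ∈ W₀ := hWn x w hw
      have h2 := h1.2 κ hκ
      have h3 : κ x * w * (κ x)⁻¹ = x * w * x⁻¹ := by
        rw [← h2, map_mul, map_mul, map_inv, hw.2 κ hκ]
      have h4 : κ x * w = x * w * x⁻¹ * κ x := by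
        rw [← h3]
        group
      calc x⁻¹ * κ x * w = x⁻¹ * (κ x * w) := by group
        _ = x⁻¹ * (x * w * x⁻¹ * κ x) := by rw [h4]
        _ = w * (x⁻¹ * κ x) := by group
    exact aut_fix_step hP hco ((hCW hy).2 κ hκ)
  obtain ⟨c₀, hc₀, hc₀W⟩ := SetLike.not_le_iff_exists.1 hCW
  have hN : Group.IsNilpotent P := hP.isNilpotent
  obtain ⟨n, hn⟩ := hN.nilpotent'
  have hex : ∃ i, ∃ x, x ∈ C ∧ x ∉ W₀ ∧ x ∈ Subgroup.upperCentralSeries P i :=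
    ⟨n, c₀, hc₀, hc₀W, by rw [hn]; trivial⟩
  classical
  have hspec := Nat.find_spec hex
  have hmin := fun j (hj : j < Nat.find hex) => Nat.find_min hex hj
  obtain ⟨x₁, hx₁C, hx₁W, hx₁Z⟩ := hspec
  let K₁ : Subgroup P :=
    { carrier := {x | x ∈ C ∧ ∀ g : P, x * g * x⁻¹ * g⁻¹ ∈ W₀}
      mul_mem' := by
        rintro x y ⟨hx, hx'⟩ ⟨hy, hy'⟩
        refine ⟨C.mul_mem hx hy, fun g => ?_⟩
        have h1 := W₀.mul_mem (hWn x _ (hy' g)) (hx' g)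
        have e1 : x * y * g * (x * y)⁻¹ * g⁻¹ = x * (y * g * y⁻¹ * g⁻¹) * x⁻¹ * (x * g * x⁻¹ * g⁻¹) := by group
        rw [e1]
        exact h1
      one_mem' := ⟨C.one_mem, fun g => by simp [W₀.one_mem]⟩
      inv_mem' := by
        rintro x ⟨hx, hx'⟩
        refine ⟨C.inv_mem hx, fun g => ?_⟩
        have h1 := hWn x⁻¹ _ (W₀.inv_mem (hx' g))
        have e1 : x⁻¹ * g * x⁻¹⁻¹ * g⁻¹ = x⁻¹ * (x * g * x⁻¹ * g⁻¹)⁻¹ * x⁻¹⁻¹ := by group
        rw [e1]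
        exact h1 }
  have hx₁K : x₁ ∈ K₁ := by
    refine ⟨hx₁C, fun g => ?_⟩
    have hne0 : Nat.find hex ≠ 0 := by
      intro h0
      rw [h0] at hx₁Z
      apply hx₁W
      have : x₁ = 1 := Subgroup.mem_bot.1 hx₁Z
      rw [this]
      exact W₀.one_mem
    obtain ⟨j, hj⟩ := Nat.exists_eq_succ_of_ne_zero hne0
    have hlt : j < Nat.find hex := by omega
    have hnot := hmin j hlt
    rw [hj] at hx₁Z
    have h1 := (Subgroup.mem_upperCentralSeries_succ_iff (G := P) (n := j) (x := x₁)).1 hx₁Z g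
    by_contra hcontra
    apply hnot
    refine ⟨x₁ * g * x₁⁻¹ * g⁻¹, ?_, hcontra, h1⟩
    have e1 : x₁ * g * x₁⁻¹ * g⁻¹ = x₁ * (g * x₁⁻¹ * g⁻¹) := by group
    rw [e1]
    refine C.mul_mem hx₁C ?_
    exact hCinv _ (hInn g) _ (C.inv_mem hx₁C)
  have hK₁inv : ∀ a ∈ A, ∀ x ∈ K₁, a x ∈ K₁ := by
    rintro a ha x ⟨hx, hx'⟩
    refine ⟨hCinv a ha x hx, fun g => ?_⟩
    have h1 := hWinv a ha _ (hx' (a⁻¹ g))
    have e1 : a (x * a⁻¹ g * x⁻¹ * (a⁻¹ g)⁻¹) = a x * g * (a x)⁻¹ * g⁻¹ := by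
      simp [map_mul, map_inv]
    rwa [e1] at h1
  obtain ⟨x₂, hx₂K, hx₂W, hx₂p⟩ : ∃ x₂, x₂ ∈ K₁ ∧ x₂ ∉ W₀ ∧ x₂ ^ p ∈ W₀ := by
    obtain ⟨k, hk⟩ := hP x₁
    have hex2 : ∃ k, x₁ ^ (p ^ k) ∈ W₀ := ⟨k, by rw [hk]; exact W₀.one_mem⟩
    have hs := Nat.find_spec hex2
    have hm := fun j (hj : j < Nat.find hex2) => Nat.find_min hex2 hj
    have hne0 : Nat.find hex2 ≠ 0 := by
      intro h0
      rw [h0] at hs
      apply hx₁W
      simpa using hs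
    obtain ⟨j, hj⟩ := Nat.exists_eq_succ_of_ne_zero hne0
    refine ⟨x₁ ^ (p ^ j), K₁.pow_mem hx₁K _, hm j (by omega), ?_⟩
    rw [hj, Nat.succ_eq_add_one, pow_succ, pow_mul] at hs
    exact hs
  have hcomm : ∀ x y, x ∈ K₁ → y ∈ K₁ → y * x * y⁻¹ * x⁻¹ ∈ W₀ := fun x y hx hy => hy.2 x
  have hcx : ∀ x w, x ∈ K₁ → w ∈ W₀ → Commute w x := fun x w hx hw => ((hx.1.2 w hw)).symm
  refine ⟨{ carrier := {x | x ∈ K₁ ∧ x ^ p ∈ W₀}
            mul_mem' := ?_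
            one_mem' := ⟨K₁.one_mem, by simp [W₀.one_mem]⟩
            inv_mem' := ?_ }, ?_, ?_, ?_, ?_, ?_, ?_⟩
  · rintro x y ⟨hx, hx'⟩ ⟨hy, hy'⟩
    refine ⟨K₁.mul_mem hx hy, ?_⟩
    have hc := hcomm x y hx hy
    rw [pow_mul_comm x y (y * x * y⁻¹ * x⁻¹) (by group) (hcx x _ hx hc) (hcx y _ hy hc) p]
    exact W₀.mul_mem (W₀.mul_mem hx' hy') (W₀.pow_mem hc _)
  · rintro x ⟨hx, hx'⟩
    refine ⟨K₁.inv_mem hx, ?_⟩
    rw [inv_pow]
    exact W₀.inv_mem hx'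
  · rintro x ⟨hx, -⟩
    exact hx.1.1
  · rintro x ⟨hx, -⟩ w hw
    exact hx.1.2 w hw
  · rintro x ⟨hx, -⟩ g
    exact hx.2 g
  · rintro x ⟨-, hx⟩
    exact hx
  · rintro a ha x ⟨hx, hx'⟩
    refine ⟨hK₁inv a ha x hx, ?_⟩
    rw [← map_pow]
    exact hWinv a ha _ hx'
  · intro hle
    exact hx₂W (hle ⟨hx₂K, hx₂p⟩)

/-- the critical property -/
structure IsCrit (A : Subgroup (MulAut P)) (M C : Subgroup P) (p : ℕ) : Prop where
  le : C ≤ M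
  inv : ∀ a ∈ A, ∀ x ∈ C, a x ∈ C
  pow : ∀ x ∈ C, x ^ p ∈ C ∧ ∀ y ∈ C, x ^ p * y = y * x ^ p
  comm : ∀ x ∈ C, ∀ g : P, (g * x * g⁻¹ * x⁻¹ ∈ C) ∧ ∀ y ∈ C, (g * x * g⁻¹ * x⁻¹) * y = y * (g * x * g⁻¹ * x⁻¹)

theorem isCrit_bot (A : Subgroup (MulAut P)) (M : Subgroup P) : IsCrit A M ⊥ p where
  le := bot_le
  inv := by
    intro a ha x hx
    rw [Subgroup.mem_bot.1 hx, map_one]
    exact Subgroup.one_mem _
  pow := by
    intro x hx
    rw [Subgroup.mem_bot.1 hx]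
    simp
  comm := by
    intro x hx g
    rw [Subgroup.mem_bot.1 hx]
    simp

/-- a maximal critical subgroup controls coprime automorphisms -/
theorem exists_crit (hP : IsPGroup p P) (A : Subgroup (MulAut P)) (hInn : ∀ g : P, MulAut.conj g ∈ A)
    (M : Subgroup P) (hMinv : ∀ a ∈ A, ∀ x ∈ M, a x ∈ M) :
    ∃ C : Subgroup P, IsCrit A M C p ∧
      ∀ κ ∈ A, (orderOf κ).Coprime p → (∀ x ∈ C, κ x = x) → ∀ x ∈ M, κ x = x := by
  classical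
  obtain ⟨C, hC, hmax⟩ := Set.exists_max_image {C : Subgroup P | IsCrit A M C p} (fun C => Nat.card C) (Set.toFinite _) ⟨⊥, isCrit_bot A M⟩
  refine ⟨C, hC, ?_⟩
  -- the family
  let PP : Set (MulAut P) := {κ | κ ∈ A ∧ (orderOf κ).Coprime p ∧ ∀ x ∈ C, κ x = x}
  have hPPconj : ∀ a ∈ A, ∀ κ ∈ PP, a * κ * a⁻¹ ∈ PP := by
    rintro a ha κ ⟨h1, h2, h3⟩
    refine ⟨A.mul_mem (A.mul_mem ha h1) (A.inv_mem ha), ?_, fun x hx => ?_⟩
    · have := orderOf_injective (MulAut.conj a).toMonoidHom (MulAut.conj a).injective κ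
      rw [show a * κ * a⁻¹ = (MulAut.conj a).toMonoidHom κ from rfl, this]
      exact h2
    · have h4 := h3 _ (hC.inv _ (A.inv_mem ha) x hx)
      show a (κ (a⁻¹ x)) = x
      rw [h4]
      simp
  by_cases hall : M ≤ fixS M PP
  · intro κ hκ hco hfix x hx
    exact (hall hx).2 κ ⟨hκ, hco, hfix⟩
  exfalso
  obtain ⟨K₀, hK1, hK2, hK3, hK4, hK5, hK6⟩ := exists_K hP A hInn PP (fun κ h => h.1) hPPconj (fun κ h => h.2.1) M hMinv hall
  have hCW : C ≤ fixS M PP := fun x hx => ⟨hC.le hx, fun κ hκ => hκ.2.2 x hx⟩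
  have hKn : (K₀).Normal := ⟨fun x hx g => hK5 _ (hInn g) x hx⟩
  have hKC : ∀ k ∈ K₀, ∀ c ∈ C, k * c = c * k := fun k hk c hc => hK2 k hk c (hCW hc)
  -- the bigger subgroup
  have hmem : ∀ x, x ∈ C ⊔ K₀ ↔ ∃ c ∈ C, ∃ k ∈ K₀, c * k = x := fun x => Subgroup.mem_sup_of_normal_right
  have hcentral : ∀ z, z ∈ C ⊔ K₀ → (∀ c ∈ C, z * c = c * z) → (∀ k ∈ K₀, z * k = k * z) →
      ∀ y ∈ C ⊔ K₀, z * y = y * z := by
    intro z _ h1 h2 y hy
    obtain ⟨c, hc, k, hk, rfl⟩ := (hmem y).1 hy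
    rw [← mul_assoc, h1 c hc, mul_assoc, h2 k hk, mul_assoc]
  have hKpow : ∀ k ∈ K₀, k ^ p ∈ K₀ := fun k hk => K₀.pow_mem hk p
  have hnew : IsCrit A M (C ⊔ K₀) p := by
    refine ⟨sup_le hC.le hK1, ?_, ?_, ?_⟩
    · intro a ha x hx
      obtain ⟨c, hc, k, hk, rfl⟩ := (hmem x).1 hx
      rw [map_mul]
      exact Subgroup.mul_mem _ ((le_sup_left : C ≤ C ⊔ K₀) (hC.inv a ha c hc)) ((le_sup_right : K₀ ≤ C ⊔ K₀) (hK5 a ha k hk))
    · intro x hx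
      obtain ⟨c, hc, k, hk, rfl⟩ := (hmem x).1 hx
      have hcomm : Commute c k := (hKC k hk c hc).symm
      rw [hcomm.mul_pow]
      have h1 := hC.pow c hc
      have hin : c ^ p * k ^ p ∈ C ⊔ K₀ :=
        Subgroup.mul_mem _ ((le_sup_left : C ≤ C ⊔ K₀) h1.1) ((le_sup_right : K₀ ≤ C ⊔ K₀) (hKpow k hk))
      refine ⟨hin, hcentral _ hin ?_ ?_⟩
      · intro c' hc'
        have h2 := hKC _ (hKpow k hk) c' hc'
        rw [mul_assoc, h2, ← mul_assoc, h1.2 c' hc', mul_assoc]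
      · intro k' hk'
        have h2 := hK2 k' hk' _ (hK4 k hk)
        have h3 := hKC k' hk' _ h1.1
        rw [mul_assoc, ← h2, ← mul_assoc, ← h3, mul_assoc]
    · intro x hx g
      obtain ⟨c, hc, k, hk, rfl⟩ := (hmem x).1 hx
      have h1 := hC.comm c hc g
      -- the commutator of `k`
      have hz2 : g * k * g⁻¹ * k⁻¹ ∈ K₀ := K₀.mul_mem (hK5 _ (hInn g) k hk) (K₀.inv_mem hk)
      have hz2W : g * k * g⁻¹ * k⁻¹ ∈ fixS M PP := by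
        have := (fixS M PP).inv_mem (hK3 k hk g)
        have e : (k * g * k⁻¹ * g⁻¹)⁻¹ = g * k * g⁻¹ * k⁻¹ := by group
        rwa [e] at this
      have e1 : g * (c * k) * g⁻¹ * (c * k)⁻¹ = (g * c * g⁻¹ * c⁻¹) * (g * k * g⁻¹ * k⁻¹) := by
        have h3 := hKC _ hz2 c hc
        calc g * (c * k) * g⁻¹ * (c * k)⁻¹ = (g * c * g⁻¹ * c⁻¹) * (c * (g * k * g⁻¹ * k⁻¹)) * c⁻¹ := by group
          _ = (g * c * g⁻¹ * c⁻¹) * ((g * k * g⁻¹ * k⁻¹) * c) * c⁻¹ := by rw [h3]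
          _ = _ := by group
      rw [e1]
      have hin : (g * c * g⁻¹ * c⁻¹) * (g * k * g⁻¹ * k⁻¹) ∈ C ⊔ K₀ :=
        Subgroup.mul_mem _ ((le_sup_left : C ≤ C ⊔ K₀) h1.1) ((le_sup_right : K₀ ≤ C ⊔ K₀) hz2)
      refine ⟨hin, hcentral _ hin ?_ ?_⟩
      · intro c' hc'
        have h2 := hKC _ hz2 c' hc'
        rw [mul_assoc, h2, ← mul_assoc, h1.2 c' hc', mul_assoc]
      · intro k' hk'
        have h2 := hK2 k' hk' _ hz2W
        have h3 := hKC k' hk' _ h1.1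
        rw [mul_assoc, ← h2, ← mul_assoc, ← h3, mul_assoc]
  have hle := hmax _ hnew
  have hlt : C < C ⊔ K₀ := by
    refine lt_of_le_of_ne le_sup_left ?_
    intro e
    apply hK6
    have : K₀ ≤ C := by
      rw [e]
      exact le_sup_right
    exact this.trans hCW
  have hlt' : Nat.card C < Nat.card ↥(C ⊔ K₀) := by
    by_contra hcon
    push_neg at hcon
    exact hlt.ne (Subgroup.eq_of_le_of_card_ge hlt.le hcon)
  exact absurd hle (not_le.2 hlt')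

theorem exists_U (hP : IsPGroup p P) (e : ℕ) (he : (p ≠ 2 ∧ e = p) ∨ (p = 2 ∧ e = 4))
    (A : Subgroup (MulAut P)) (hInn : ∀ g : P, MulAut.conj g ∈ A)
    (M : Subgroup P) (hMinv : ∀ a ∈ A, ∀ x ∈ M, a x ∈ M) :
    ∃ U : Subgroup P, U ≤ M ∧ (∀ a ∈ U, ∀ b ∈ U, a * b = b * a) ∧ (∀ u ∈ U, u ^ e = 1) ∧
      (∀ g : P, ∀ u ∈ U, g * u * g⁻¹ ∈ U) ∧
      ∀ κ ∈ A, (orderOf κ).Coprime p → (∀ u ∈ U, κ u = u) → ∀ x ∈ M, κ x = x := by
  classical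
  obtain ⟨C, hC, hC₂⟩ := exists_crit hP A hInn M hMinv
  have hpow : ∀ x ∈ C, ∀ y ∈ C, (x * y) ^ e = x ^ e * y ^ e := by
    intro x hx y hy
    have h1 := hC.comm x hx y
    have hcx : Commute (y * x * y⁻¹ * x⁻¹) x := h1.2 x hx
    have hcy : Commute (y * x * y⁻¹ * x⁻¹) y := h1.2 y hy
    have h2 := pow_comm_eq x y (y * x * y⁻¹ * x⁻¹) (by group) hcx hcy p
    have h3 : y ^ p * x = x * y ^ p := (hC.pow y hy).2 x hx
    rw [h3] at h2
    have h4 : (y * x * y⁻¹ * x⁻¹) ^ p = 1 := mul_eq_right.1 h2.symm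
    rw [pow_mul_comm x y (y * x * y⁻¹ * x⁻¹) (by group) hcx hcy e, choose_pow_one he h4, mul_one]
  let D : Subgroup P :=
    { carrier := {x | x ∈ C ∧ x ^ e = 1}
      mul_mem' := by
        rintro x y ⟨hx, hx'⟩ ⟨hy, hy'⟩
        refine ⟨C.mul_mem hx hy, ?_⟩
        rw [hpow x hx y hy, hx', hy', one_mul]
      one_mem' := ⟨C.one_mem, by simp⟩
      inv_mem' := by
        rintro x ⟨hx, hx'⟩
        refine ⟨C.inv_mem hx, ?_⟩
        rw [inv_pow, hx', inv_one] }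
  have hD : ∀ x, x ∈ D ↔ x ∈ C ∧ x ^ e = 1 := fun x => Iff.rfl
  have hDinv : ∀ a ∈ A, ∀ x ∈ D, a x ∈ D := by
    rintro a ha x ⟨hx, hx'⟩
    refine ⟨hC.inv a ha x hx, ?_⟩
    rw [← map_pow, hx', map_one]
  obtain ⟨U, hU, hmax⟩ := Set.exists_max_image
    {U : Subgroup P | U ≤ D ∧ (∀ a ∈ U, ∀ b ∈ U, a * b = b * a) ∧ ∀ g : P, ∀ u ∈ U, g * u * g⁻¹ ∈ U}
    (fun U => Nat.card U) (Set.toFinite _)
    ⟨⊥, bot_le, by
      intro a ha b hb
      rw [Subgroup.mem_bot.1 ha, Subgroup.mem_bot.1 hb], by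
      intro g u hu
      rw [Subgroup.mem_bot.1 hu]
      simp⟩
  obtain ⟨hUD, hUc, hUn⟩ := hU
  have hUN : U.Normal := ⟨fun x hx g => hUn g x hx⟩
  have hCD : ∀ x ∈ D, (∀ u ∈ U, x * u = u * x) → x ∈ U := by
    intro x₀ hx₀ hx₀c
    by_contra hx₀U
    have hN : Group.IsNilpotent P := hP.isNilpotent
    obtain ⟨n, hn⟩ := hN.nilpotent'
    have hex : ∃ i, ∃ x, x ∈ D ∧ (∀ u ∈ U, x * u = u * x) ∧ x ∉ U ∧ x ∈ Subgroup.upperCentralSeries P i :=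
      ⟨n, x₀, hx₀, hx₀c, hx₀U, by rw [hn]; trivial⟩
    have hspec := Nat.find_spec hex
    have hmin := fun j (hj : j < Nat.find hex) => Nat.find_min hex hj
    obtain ⟨x₁, hx₁D, hx₁c, hx₁U, hx₁Z⟩ := hspec
    have hx₁g : ∀ g : P, x₁ * g * x₁⁻¹ * g⁻¹ ∈ U := by
      intro g
      have hne0 : Nat.find hex ≠ 0 := by
        intro h0
        rw [h0] at hx₁Z
        apply hx₁U
        have : x₁ = 1 := Subgroup.mem_bot.1 hx₁Z
        rw [this]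
        exact U.one_mem
      obtain ⟨j, hj⟩ := Nat.exists_eq_succ_of_ne_zero hne0
      have hlt : j < Nat.find hex := by omega
      have hnot := hmin j hlt
      rw [hj] at hx₁Z
      have h1 := (Subgroup.mem_upperCentralSeries_succ_iff (G := P) (n := j) (x := x₁)).1 hx₁Z g
      by_contra hcontra
      apply hnot
      refine ⟨x₁ * g * x₁⁻¹ * g⁻¹, ?_, ?_, hcontra, h1⟩
      · have e1 : x₁ * g * x₁⁻¹ * g⁻¹ = x₁ * (g * x₁⁻¹ * g⁻¹) := by group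
        rw [e1]
        exact D.mul_mem hx₁D (hDinv _ (hInn g) _ (D.inv_mem hx₁D))
      · intro u hu
        -- the conjugate of `x₁⁻¹` centralizes `U`
        have h2 : g * x₁⁻¹ * g⁻¹ * u = u * (g * x₁⁻¹ * g⁻¹) := by
          have h3 := hx₁c _ (hUn g⁻¹ u hu)
          have h4 : x₁⁻¹ * (g⁻¹ * u * g⁻¹⁻¹) = (g⁻¹ * u * g⁻¹⁻¹) * x₁⁻¹ :=
            (Commute.inv_left (show Commute x₁ _ from h3)).eq
          calc g * x₁⁻¹ * g⁻¹ * u = g * (x₁⁻¹ * (g⁻¹ * u * g⁻¹⁻¹)) * g⁻¹ := by group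
            _ = g * ((g⁻¹ * u * g⁻¹⁻¹) * x₁⁻¹) * g⁻¹ := by rw [h4]
            _ = u * (g * x₁⁻¹ * g⁻¹) := by group
        calc x₁ * g * x₁⁻¹ * g⁻¹ * u = x₁ * (g * x₁⁻¹ * g⁻¹ * u) := by group
          _ = x₁ * (u * (g * x₁⁻¹ * g⁻¹)) := by rw [h2]
          _ = (x₁ * u) * (g * x₁⁻¹ * g⁻¹) := by group
          _ = (u * x₁) * (g * x₁⁻¹ * g⁻¹) := by rw [hx₁c u hu]
          _ = u * (x₁ * g * x₁⁻¹ * g⁻¹) := by group
    -- the bigger abelian normal subgroup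
    have hmem : ∀ y, y ∈ Subgroup.zpowers x₁ ⊔ U ↔ ∃ a ∈ Subgroup.zpowers x₁, ∃ b ∈ U, a * b = y :=
      fun y => Subgroup.mem_sup_of_normal_right
    have hcz : ∀ a ∈ Subgroup.zpowers x₁, ∀ u ∈ U, a * u = u * a := by
      rintro _ ⟨k, rfl⟩ u hu
      exact ((Commute.zpow_left (show Commute x₁ u from hx₁c u hu) k).eq)
    have hzz : ∀ a ∈ Subgroup.zpowers x₁, ∀ b ∈ Subgroup.zpowers x₁, a * b = b * a := by
      rintro _ ⟨k, rfl⟩ _ ⟨m, rfl⟩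
      exact (Commute.zpow_zpow_self x₁ k m).eq
    have hnew : Subgroup.zpowers x₁ ⊔ U ∈ {U : Subgroup P | U ≤ D ∧ (∀ a ∈ U, ∀ b ∈ U, a * b = b * a) ∧ ∀ g : P, ∀ u ∈ U, g * u * g⁻¹ ∈ U} := by
      refine ⟨sup_le ?_ hUD, ?_, ?_⟩
      · rw [Subgroup.zpowers_le]
        exact hx₁D
      · intro a ha b hb
        obtain ⟨a₁, ha₁, a₂, ha₂, rfl⟩ := (hmem a).1 ha
        obtain ⟨b₁, hb₁, b₂, hb₂, rfl⟩ := (hmem b).1 hb
        calc a₁ * a₂ * (b₁ * b₂) = a₁ * (a₂ * b₁) * b₂ := by group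
          _ = a₁ * (b₁ * a₂) * b₂ := by rw [hcz b₁ hb₁ a₂ ha₂]
          _ = (a₁ * b₁) * (a₂ * b₂) := by group
          _ = (b₁ * a₁) * (b₂ * a₂) := by rw [hzz a₁ ha₁ b₁ hb₁, hUc a₂ ha₂ b₂ hb₂]
          _ = b₁ * (a₁ * b₂) * a₂ := by group
          _ = b₁ * (b₂ * a₁) * a₂ := by rw [hcz a₁ ha₁ b₂ hb₂]
          _ = b₁ * b₂ * (a₁ * a₂) := by group
      · intro g y hy
        have hgx : g * x₁ * g⁻¹ ∈ Subgroup.zpowers x₁ ⊔ U := by
          have h1 := hx₁g g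
          have h2 : g * x₁ * g⁻¹ = (x₁ * g * x₁⁻¹ * g⁻¹)⁻¹ * x₁ := by group
          rw [h2]
          refine Subgroup.mul_mem _ ((le_sup_right : U ≤ Subgroup.zpowers x₁ ⊔ U) (U.inv_mem h1)) ?_
          exact (le_sup_left : Subgroup.zpowers x₁ ≤ Subgroup.zpowers x₁ ⊔ U) (Subgroup.mem_zpowers x₁)
        obtain ⟨a, ⟨k, rfl⟩, b, hb, rfl⟩ := (hmem y).1 hy
        have e1 : g * (x₁ ^ k * b) * g⁻¹ = (g * x₁ * g⁻¹) ^ k * (g * b * g⁻¹) := by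
          rw [conj_zpow]
          group
        show g * ((fun z => x₁ ^ z) k * b) * g⁻¹ ∈ _
        simp only
        rw [e1]
        exact Subgroup.mul_mem _ (Subgroup.zpow_mem _ hgx k) ((le_sup_right : U ≤ Subgroup.zpowers x₁ ⊔ U) (hUn g b hb))
    have hle := hmax _ hnew
    have hlt : U < Subgroup.zpowers x₁ ⊔ U := by
      refine lt_of_le_of_ne le_sup_right ?_
      intro e
      apply hx₁U
      rw [e]
      exact (le_sup_left : Subgroup.zpowers x₁ ≤ Subgroup.zpowers x₁ ⊔ U) (Subgroup.mem_zpowers x₁)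
    have hlt' : Nat.card U < Nat.card ↥(Subgroup.zpowers x₁ ⊔ U) := by
      by_contra hcon
      push_neg at hcon
      exact hlt.ne (Subgroup.eq_of_le_of_card_ge hlt.le hcon)
    exact absurd hle (not_le.2 hlt')
  refine ⟨U, fun x hx => hC.le (hUD hx).1, hUc, fun u hu => (hUD hu).2, hUn, ?_⟩
  intro κ hκ hco hfix
  apply hC₂ κ hκ hco
  have hfixD : ∀ x ∈ D, κ x = x := by
    intro x hx
    apply aut_fix_step hP hco
    have hy : x⁻¹ * κ x ∈ D := D.mul_mem (D.inv_mem hx) (hDinv κ hκ x hx)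
    apply hfix
    apply hCD _ hy
    intro u hu
    have h1 : x * u * x⁻¹ ∈ U := hUn x u hu
    have h2 := hfix _ h1
    have h3 : κ x * u * (κ x)⁻¹ = x * u * x⁻¹ := by
      rw [← h2, map_mul, map_mul, map_inv, hfix u hu]
    have h4 : κ x * u = x * u * x⁻¹ * κ x := by
      rw [← h3]
      group
    calc x⁻¹ * κ x * u = x⁻¹ * (κ x * u) := by group
      _ = x⁻¹ * (x * u * x⁻¹ * κ x) := by rw [h4]
      _ = u * (x⁻¹ * κ x) := by group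
  have hedvd : ∀ y : P, y ^ p = 1 → y ^ e = 1 := by
    intro y hy
    rcases he with ⟨-, rfl⟩ | ⟨rfl, rfl⟩
    · exact hy
    · have : y ^ 4 = (y ^ 2) ^ 2 := by rw [← pow_mul]
      rw [this, hy, one_pow]
  have hfixZ : ∀ k, ∀ z, z ∈ C → (∀ y ∈ C, z * y = y * z) → z ^ (p ^ k) = 1 → κ z = z := by
    intro k
    induction k with
    | zero =>
      intro z _ _ hz
      have : z = 1 := by simpa using hz
      rw [this, map_one]
    | succ k ih =>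
      intro z hzC hzc hz
      have hzp : z ^ p ∈ C := C.pow_mem hzC p
      have h1 : κ (z ^ p) = z ^ p := by
        apply ih _ hzp
        · intro y hy
          exact ((Commute.pow_left (show Commute z y from hzc y hy) p).eq)
        · rw [← pow_mul, ← pow_succ']
          exact hz
      apply aut_fix_step hP hco
      apply hfixD
      have hκz : κ z ∈ C := hC.inv κ hκ z hzC
      refine ⟨C.mul_mem (C.inv_mem hzC) hκz, hedvd _ ?_⟩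
      have hcomm : Commute z⁻¹ (κ z) := Commute.inv_left (show Commute z (κ z) from hzc _ hκz)
      rw [hcomm.mul_pow, ← map_pow, h1, inv_pow, inv_mul_cancel]
  have hfixP : ∀ x ∈ C, κ (x ^ e) = x ^ e := by
    intro x hx
    obtain ⟨k, hk⟩ := hP (x ^ e)
    apply hfixZ k _ (C.pow_mem hx e) _ hk
    intro y hy
    rcases he with ⟨-, rfl⟩ | ⟨rfl, rfl⟩
    · exact (hC.pow x hx).2 y hy
    · have h1 : x ^ 4 = (x ^ 2) ^ 2 := by rw [← pow_mul]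
      rw [h1]
      exact ((Commute.pow_left (show Commute (x ^ 2) y from (hC.pow x hx).2 y hy) 2).eq)
  intro x hx
  apply aut_fix_step hP hco
  apply hfixD
  have hκx : κ x ∈ C := hC.inv κ hκ x hx
  refine ⟨C.mul_mem (C.inv_mem hx) hκx, ?_⟩
  rw [hpow _ (C.inv_mem hx) _ hκx, ← map_pow, hfixP x hx, inv_pow, inv_mul_cancel]

end Cfsg.Agent.Lib.FusSmall
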