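import Mathlib
import Cfsg.Agent.Lib.FusSmall2
import Cfsg.Agent.Lib.FusSmall3
import Cfsg.Agent.Lib.FusKSys

/-! Small-exponent abelian subgroups control fusion. -/

set_option autoImplicit false
set_option linter.unusedSectionVars false
set_option linter.unusedVariables false

namespace Cfsg.Agent.Lib.FusSmall

open Cfsg Cfsg.FusionSystem Cfsg.Agent.Lib.FusBasic Cfsg.Agent.Lib.FusAut Cfsg.Agent.Lib.FusSat
open Cfsg.Agent.Lib.FusNorm Cfsg.Agent.Lib.FusHyp Cfsg.Agent.Lib.FusKNorm Cfsg.Agent.Lib.FusKSys Cfsg.Agent.Lib.H1Core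

variable {Ω : Type*} [Group Ω] {S : Subgroup Ω} [Finite S] {p : ℕ} [Fact p.Prime]

theorem exists_fullyK (F : FusionSystem S) {P : Subgroup Ω} (hP : P ≤ S) (Δ : Subgroup (MulAut P)) :
    ∃ (P' : Subgroup Ω) (φ : P →* Ω) (hφ : φ ∈ F.Hom P) (hr : φ.range = P'),
      FullyK F P' (Δ.map (MulAut.congr (isoOf φ (inj F hφ) hr)).toMonoidHom) := by
  classical
  haveI : Finite P := finite_of_le hP
  let f : {φ : P →* Ω // φ ∈ F.Hom P} → ℕ := fun φ =>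
    Nat.card (normIn S φ.1.range (Δ.map (MulAut.congr (isoOf φ.1 (inj F φ.2) rfl)).toMonoidHom))
  have hne : (Set.range f).Nonempty := ⟨_, ⟨⟨P.subtype, subtype_mem F hP⟩, rfl⟩⟩
  have hbd : BddAbove (Set.range f) := by
    refine ⟨Nat.card S, ?_⟩
    rintro _ ⟨φ, rfl⟩
    exact Subgroup.card_le_of_le normIn_le
  obtain ⟨φ₀, hφ₀⟩ := Nat.sSup_mem hne hbd
  refine ⟨φ₀.1.range, φ₀.1, φ₀.2, rfl, hP |> fun _ => ?_, ?_⟩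
  · rintro _ ⟨x, rfl⟩
    exact val_mem F φ₀.2 x
  · intro P'' ψ hψ hr
    have hv : ∀ x : P, φ₀.1 x ∈ φ₀.1.range := fun x => ⟨x, rfl⟩
    let χ : P →* Ω := ψ.comp (φ₀.1.codRestrict _ hv)
    have hχ : χ ∈ F.Hom P := F.comp_mem φ₀.2 hψ hv
    have hχr : χ.range = P'' := by
      rw [← hr]
      ext y
      constructor
      · rintro ⟨x, rfl⟩
        exact ⟨_, rfl⟩
      · rintro ⟨⟨_, x, rfl⟩, rfl⟩
        exact ⟨x, rfl⟩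
    have heq : normIn S P'' ((Δ.map (MulAut.congr (isoOf φ₀.1 (inj F φ₀.2) rfl)).toMonoidHom).map
        (MulAut.congr (isoOf ψ (inj F hψ) hr)).toMonoidHom) =
        normIn S χ.range (Δ.map (MulAut.congr (isoOf χ (inj F hχ) rfl)).toMonoidHom) := by
      ext h
      rw [mem_normIn_map hψ hr, mem_normIn_map hχ rfl]
      refine and_congr_right fun _ => ?_
      constructor
      · rintro ⟨_, ⟨δ, hδ, rfl⟩, hd⟩
        refine ⟨δ, hδ, fun x => ?_⟩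
        have h1 := hd ⟨φ₀.1 x, hv x⟩
        have h2 : ((MulEquiv.toMonoidHom (MulAut.congr (isoOf φ₀.1 (inj F φ₀.2) rfl))) δ) ⟨φ₀.1 x, hv x⟩ = ⟨φ₀.1 (δ x), hv _⟩ := by
          show (isoOf φ₀.1 (inj F φ₀.2) rfl) (δ ((isoOf φ₀.1 (inj F φ₀.2) rfl).symm ⟨φ₀.1 x, hv x⟩)) = _
          have : (isoOf φ₀.1 (inj F φ₀.2) rfl).symm ⟨φ₀.1 x, hv x⟩ = x := by
            rw [MulEquiv.symm_apply_eq]
            rfl
          rw [this]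
          rfl
        rw [h2] at h1
        exact h1
      · rintro ⟨δ, hδ, hd⟩
        refine ⟨_, ⟨δ, hδ, rfl⟩, ?_⟩
        rintro ⟨_, x, rfl⟩
        have h2 : ((MulEquiv.toMonoidHom (MulAut.congr (isoOf φ₀.1 (inj F φ₀.2) rfl))) δ) ⟨φ₀.1 x, hv x⟩ = ⟨φ₀.1 (δ x), hv _⟩ := by
          show (isoOf φ₀.1 (inj F φ₀.2) rfl) (δ ((isoOf φ₀.1 (inj F φ₀.2) rfl).symm ⟨φ₀.1 x, hv x⟩)) = _
          have : (isoOf φ₀.1 (inj F φ₀.2) rfl).symm ⟨φ₀.1 x, hv x⟩ = x := by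
            rw [MulEquiv.symm_apply_eq]
            rfl
          rw [this]
          rfl
        rw [h2]
        exact hd x
    rw [heq]
    have h1 : f ⟨χ, hχ⟩ ≤ sSup (Set.range f) := le_csSup hbd ⟨_, rfl⟩
    rw [← hφ₀] at h1
    exact h1

set_option maxHeartbeats 1000000 in
theorem key_D (hS : IsPGroup p S) (E F : FusionSystem S) (hF : F.IsSaturated p) (hEF : E.IsSubsystemOf F)
    {Q U Us : Subgroup Ω} (hQS : Q ≤ S) (hUQ : U ≤ Q) (hUn : ∀ h ∈ Q, ∀ x ∈ U, h * x * h⁻¹ ∈ U)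
    (hmax : ∀ R : Subgroup Ω, Nat.card Q < Nat.card R → ∀ φ ∈ F.Hom R, φ ∈ E.Hom R)
    (hX : ∀ g ∈ F.autGroup Q, (orderOf g).Coprime p → (∀ u : Q, (u : Ω) ∈ U → g u = u) → g = 1)
    (Ks : Subgroup (MulAut Us)) (hK : FullyK F Us Ks)
    {ι₁ ι₂ : Q →* Ω} (hι₁ : ι₁ ∈ E.Hom Q) (hι₂ : ι₂ ∈ F.Hom Q)
    (hv₁ : ∀ x, ι₁ x ∈ normIn S Us Ks) (hv₂ : ∀ x, ι₂ x ∈ normIn S Us Ks)
    (hUs1 : ∀ x : Q, (x : Ω) ∈ U → ι₁ x ∈ Us) (hUs2 : ∀ y ∈ Us, ∃ x : Q, (x : Ω) ∈ U ∧ ι₁ x = y)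
    (hKs : ∀ κ ∈ Ks, ∃ h : Q, ∀ (x : Q) (hx : (x : Ω) ∈ U) (hy : ι₁ x ∈ Us), ((κ ⟨ι₁ x, hy⟩ : Us) : Ω) = ι₁ (h * x * h⁻¹))
    (hag : ∀ x : Q, (x : Ω) ∈ U → ι₂ x = ι₁ x) : ι₂ ∈ E.Hom Q := by
  have hUsS : Us ≤ S := hK.1
  haveI : Finite Us := finite_of_le hUsS
  haveI : Finite Q := finite_of_le hQS
  obtain ⟨Ft, hFt⟩ := exists_KSystem F hUsS Ks
  have hYS : normIn S Us Ks ≤ S := normIn_le
  haveI : Finite (normIn S Us Ks) := finite_of_le hYS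
  have hYp : IsPGroup p (normIn S Us Ks) := hS.to_le hYS
  have hsat : Ft.IsSaturated p := saturated_KSystem hS hF hK (fun g => Iff.rfl) hFt
  -- membership in the `K`-system
  have hA : ∀ (R : Subgroup Ω) (hR : R ≤ normIn S Us Ks) (hUR : Us ≤ R) (ρ : R →* Ω), ρ ∈ F.Hom R →
      (∀ x, ρ x ∈ normIn S Us Ks) → ∀ κ ∈ Ks, (∀ u : Us, ρ ⟨u, hUR u.2⟩ = κ u) → ρ ∈ Ft.Hom R := by
    intro R hR hUR ρ hρ hv κ hκ hu
    exact (hFt R ρ).2 ⟨hR, hv, ρ.comp (Subgroup.inclusion (sup_le le_rfl hUR)), res_mem F _ hρ, fun x => rfl, κ, hκ, fun q => hu q⟩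
  have hB : ∀ (R : Subgroup Ω) (ρ : R →* Ω), ρ ∈ Ft.Hom R → ρ ∈ F.Hom R := by
    intro R ρ hρ
    obtain ⟨-, -, ψ, hψ, hext, -⟩ := (hFt R ρ).1 hρ
    exact hom_congr F (res_mem F le_sup_left hψ) (fun x => (hext x).symm)
  have hC : ∀ (R : Subgroup Ω) (hUR : Us ≤ R) (ρ : R →* Ω), ρ ∈ Ft.Hom R → ∃ κ ∈ Ks, ∀ u : Us, ρ ⟨u, hUR u.2⟩ = κ u := by
    intro R hUR ρ hρ
    obtain ⟨-, -, ψ, hψ, hext, κ, hκ, hq⟩ := (hFt R ρ).1 hρ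
    refine ⟨κ, hκ, fun u => ?_⟩
    rw [← hext ⟨u, hUR u.2⟩, ← hq u]
    rfl
  have hX₀Y : ι₁.range ≤ normIn S Us Ks := by
    rintro _ ⟨x, rfl⟩
    exact hv₁ x
  have hX₂Y : ι₂.range ≤ normIn S Us Ks := by
    rintro _ ⟨x, rfl⟩
    exact hv₂ x
  have hUsX₀ : Us ≤ ι₁.range := fun y hy => by
    obtain ⟨x, -, e⟩ := hUs2 y hy
    exact ⟨x, e⟩
  have hUsX₂ : Us ≤ ι₂.range := fun y hy => by
    obtain ⟨x, hx, e⟩ := hUs2 y hy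
    exact ⟨x, (hag x hx).trans e⟩
  have hι₁F : ι₁ ∈ F.Hom Q := hEF Q hι₁
  -- the two images are conjugate in the `K`-system
  obtain ⟨ω₁, hω₁, hω₁r, hω₁x⟩ := exists_inv F hι₁F rfl
  have hω₁v : ∀ y, ω₁ y ∈ Q := fun y => hω₁r.le ⟨y, rfl⟩
  have hρ₀F := F.comp_mem hω₁ hι₂ hω₁v
  have hconj₀₂ : Ft.IsConj ι₁.range ι₂.range := by
    refine ⟨_, hA _ hX₀Y hUsX₀ _ hρ₀F (fun x => hv₂ _) 1 Ks.one_mem (fun u => ?_), ?_⟩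
    · obtain ⟨x, hx, e⟩ := hUs2 u u.2
      have e1 : (⟨(u : Ω), hUsX₀ u.2⟩ : ι₁.range) = ⟨ι₁ x, ⟨x, rfl⟩⟩ := Subtype.ext e.symm
      show ι₂ ⟨ω₁ ⟨(u : Ω), hUsX₀ u.2⟩, _⟩ = (u : Ω)
      have e2 : ω₁ ⟨(u : Ω), hUsX₀ u.2⟩ = x := by
        rw [e1]
        exact hω₁x x _
      have e3 : (⟨ω₁ ⟨(u : Ω), hUsX₀ u.2⟩, hω₁v _⟩ : Q) = x := Subtype.ext e2
      rw [e3, hag x hx, e]
    · ext y
      constructor
      · rintro ⟨x, rfl⟩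
        exact ⟨_, rfl⟩
      · rintro ⟨x, rfl⟩
        refine ⟨⟨ι₁ x, ⟨x, rfl⟩⟩, ?_⟩
        show ι₂ ⟨ω₁ ⟨ι₁ x, ⟨x, rfl⟩⟩, _⟩ = ι₂ x
        congr 1
        exact Subtype.ext (hω₁x x _)
  obtain ⟨Xt, hconj, hFN⟩ := exists_fullyNormalized_conj Ft hX₀Y
  have hFA := fullyAutomized_of_fullyNormalized hYp Ft hsat hFN
  have hRec := receptive_of_fullyNormalized hYp Ft hsat hFN
  have hXtY : Xt ≤ normIn S Us Ks := hFN.1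
  have hXtS : Xt ≤ S := hXtY.trans hYS
  haveI : Finite Xt := finite_of_le hXtS
  -- moving to `Xt` by maps of `E`
  have hL : ∀ R : Subgroup Ω, R ≤ normIn S Us Ks → Nat.card R = Nat.card Q → Ft.IsConj R Xt →
      ∃ μ : R →* Ω, μ ∈ Ft.Hom R ∧ μ ∈ E.Hom R ∧ μ.range = Xt := by
    intro R hR hc hcj
    by_cases hRY : R = normIn S Us Ks
    · haveI : Finite R := finite_of_le (hR.trans hYS)
      have hXt : Xt = R := by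
        apply Subgroup.eq_of_le_of_card_ge (hXtY.trans hRY.ge)
        rw [isConj_card Ft hcj]
      refine ⟨R.subtype, subtype_mem Ft hR, subtype_mem E (hR.trans hYS), ?_⟩
      rw [hXt]
      exact Subgroup.range_subtype R
    · have hlt : R < normIn S Us Ks := lt_of_le_of_ne hR hRY
      have hgt := normalizerIn_gt hYp hlt
      obtain ⟨lam, hlam, -, hmapl⟩ := exists_map_normalizer hYp Ft hFA hRec hcj
      haveI : Finite (normalizerIn (normIn S Us Ks) R) := finite_of_le (inf_le_left.trans hYS)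
      haveI : Finite R := finite_of_le (hR.trans hYS)
      have hc2 : Nat.card Q < Nat.card (normalizerIn (normIn S Us Ks) R) := by
        rw [← hc]
        by_contra hcon
        push_neg at hcon
        exact hgt.ne (Subgroup.eq_of_le_of_card_ge hgt.le hcon)
      have hlamE := hmax _ hc2 _ (hB _ _ hlam)
      refine ⟨lam.comp (Subgroup.inclusion hgt.le), res_mem Ft hgt.le hlam, res_mem E hgt.le hlamE, ?_⟩
      rw [← hmapl]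
      ext y
      constructor
      · rintro ⟨x, rfl⟩
        exact ⟨Subgroup.inclusion hgt.le x, x.2, rfl⟩
      · rintro ⟨x, hx, rfl⟩
        exact ⟨⟨x, hx⟩, rfl⟩
  have hcard₁ : Nat.card ι₁.range = Nat.card Q := (isConj_card E ⟨ι₁, hι₁, rfl⟩).symm
  have hcard₂ : Nat.card ι₂.range = Nat.card Q := (isConj_card F ⟨ι₂, hι₂, rfl⟩).symm
  obtain ⟨μ₀, hμ₀t, hμ₀E, hμ₀r⟩ := hL _ hX₀Y hcard₁ hconj
  obtain ⟨μ₂, hμ₂t, hμ₂E, hμ₂r⟩ := hL _ hX₂Y hcard₂ (isConj_trans Ft (isConj_symm Ft hconj₀₂) hconj)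
  obtain ⟨κ₀, hκ₀, hκ₀u⟩ := hC _ hUsX₀ μ₀ hμ₀t
  obtain ⟨κ₂, hκ₂, hκ₂u⟩ := hC _ hUsX₂ μ₂ hμ₂t
  -- the two maps to `Xt`
  have hv1 : ∀ x : Q, ι₁ x ∈ ι₁.range := fun x => ⟨x, rfl⟩
  have hv2 : ∀ x : Q, ι₂ x ∈ ι₂.range := fun x => ⟨x, rfl⟩
  let i₁ : Q →* Ω := μ₀.comp (ι₁.codRestrict ι₁.range hv1)
  let i₂ : Q →* Ω := μ₂.comp (ι₂.codRestrict ι₂.range hv2)
  have hi₁E : i₁ ∈ E.Hom Q := E.comp_mem hι₁ hμ₀E hv1
  have hi₁F : i₁ ∈ F.Hom Q := hEF Q hi₁E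
  have hi₂F : i₂ ∈ F.Hom Q := F.comp_mem hι₂ (hEF _ hμ₂E) hv2
  have hi₁r : i₁.range = Xt := by
    rw [← hμ₀r]
    ext y
    constructor
    · rintro ⟨x, rfl⟩
      exact ⟨_, rfl⟩
    · rintro ⟨⟨_, x, rfl⟩, rfl⟩
      exact ⟨x, rfl⟩
  have hi₂r : i₂.range = Xt := by
    rw [← hμ₂r]
    ext y
    constructor
    · rintro ⟨x, rfl⟩
      exact ⟨_, rfl⟩
    · rintro ⟨⟨_, x, rfl⟩, rfl⟩
      exact ⟨x, rfl⟩
  have hi₁X : ∀ x : Q, i₁ x ∈ Xt := fun x => by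
    rw [← hi₁r]
    exact ⟨x, rfl⟩
  have hi₂X : ∀ x : Q, i₂ x ∈ Xt := fun x => by
    rw [← hi₂r]
    exact ⟨x, rfl⟩
  have hi₁U : ∀ (x : Q) (hx : (x : Ω) ∈ U), i₁ x = κ₀ ⟨ι₁ x, hUs1 x hx⟩ := fun x hx => hκ₀u ⟨ι₁ x, hUs1 x hx⟩
  have hi₂U : ∀ (x : Q) (hx : (x : Ω) ∈ U), i₂ x = κ₂ ⟨ι₁ x, hUs1 x hx⟩ := by
    intro x hx
    have h1 := hκ₂u ⟨ι₁ x, hUs1 x hx⟩
    rw [← h1]
    show μ₂ ⟨ι₂ x, _⟩ = _
    congr 1
    exact Subtype.ext (hag x hx)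
  have hi₁Us : ∀ (x : Q), (x : Ω) ∈ U → i₁ x ∈ Us := fun x hx => by
    rw [hi₁U x hx]
    exact (κ₀ _).2
  have hsurj : ∀ y : Us, ∃ x : Q, (x : Ω) ∈ U ∧ i₁ x = y := by
    intro y
    obtain ⟨x, hx, e⟩ := hUs2 _ (κ₀⁻¹ y).2
    refine ⟨x, hx, ?_⟩
    rw [hi₁U x hx]
    have e1 : (⟨ι₁ x, hUs1 x hx⟩ : Us) = κ₀⁻¹ y := Subtype.ext e
    rw [e1]
    show ((κ₀ (κ₀⁻¹ y) : Us) : Ω) = y
    have : κ₀ (κ₀⁻¹ y) = y := by
      show (κ₀ * κ₀⁻¹) y = y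
      simp
    rw [this]
  have hUsXt : Us ≤ Xt := by
    intro y hy
    obtain ⟨x, -, e⟩ := hsurj ⟨y, hy⟩
    rw [← hi₁r]
    exact ⟨x, e⟩
  -- the automorphism of `Xt`
  let e₁ : Q ≃* Xt := isoOf i₁ (inj F hi₁F) hi₁r
  let e₂ : Q ≃* Xt := isoOf i₂ (inj F hi₂F) hi₂r
  have he₁ : ∀ x, ((e₁ x : Xt) : Ω) = i₁ x := fun x => rfl
  have he₂ : ∀ x, ((e₂ x : Xt) : Ω) = i₂ x := fun x => rfl
  let g : MulAut Xt := e₁.symm.trans e₂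
  have hg : ∀ x : Q, g (e₁ x) = e₂ x := by
    intro x
    show e₂ (e₁.symm (e₁ x)) = e₂ x
    rw [e₁.symm_apply_apply]
  obtain ⟨ω, hω, hωr, hωx⟩ := exists_inv F hi₁F hi₁r
  have hωv : ∀ y, ω y ∈ Q := fun y => hωr.le ⟨y, rfl⟩
  have hωe : ∀ (y : Xt), (⟨ω y, hωv y⟩ : Q) = e₁.symm y := by
    intro y
    rw [MulEquiv.eq_symm_apply]
    apply Subtype.ext
    obtain ⟨x, rfl⟩ := e₁.surjective y
    have e1 : ω (e₁ x) = x := hωx x (hi₁X x)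
    have e2 : (⟨ω (e₁ x), hωv _⟩ : Q) = x := Subtype.ext e1
    rw [e2]
  have hgF : Xt.subtype.comp g.toMonoidHom ∈ F.Hom Xt := by
    refine comp_mem' F hω hi₂F hωv (fun y => ?_)
    rw [hωe]
    rfl
  have hgU : ∀ u : Us, (Xt.subtype.comp g.toMonoidHom) ⟨u, hUsXt u.2⟩ = (κ₂ * κ₀⁻¹) u := by
    intro u
    obtain ⟨x, hx, e⟩ := hsurj u
    have e1 : (⟨(u : Ω), hUsXt u.2⟩ : Xt) = e₁ x := Subtype.ext e.symm
    have e3 : κ₀ ⟨ι₁ x, hUs1 x hx⟩ = u := Subtype.ext ((hi₁U x hx).symm.trans e)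
    have e2 : κ₀⁻¹ u = ⟨ι₁ x, hUs1 x hx⟩ := by
      rw [← e3]
      show (κ₀⁻¹ * κ₀) _ = _
      simp
    show ((g ⟨(u : Ω), hUsXt u.2⟩ : Xt) : Ω) = ((κ₂ (κ₀⁻¹ u) : Us) : Ω)
    rw [e1, hg, e2, he₂, hi₂U x hx]
  have hgA : g ∈ Ft.autGroup Xt := mem_autGroup_of Ft (hA Xt hXtY hUsXt _ hgF (fun y => hXtY (g y).2) (κ₂ * κ₀⁻¹)
    (Ks.mul_mem hκ₂ (Ks.inv_mem hκ₀)) hgU)
  -- the element of `Xt` inducing the action on `Us`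
  obtain ⟨h, hh⟩ := hKs (κ₀⁻¹ * κ₂) (Ks.mul_mem (Ks.inv_mem hκ₀) hκ₂)
  have hconjU : ∀ x : Q, (x : Ω) ∈ U → i₂ x = i₁ h * i₁ x * (i₁ h)⁻¹ := by
    intro x hx
    have hxh : ((h * x * h⁻¹ : Q) : Ω) ∈ U := hUn h h.2 x hx
    have e1 : i₁ h * i₁ x * (i₁ h)⁻¹ = i₁ (h * x * h⁻¹) := by
      simp only [map_mul, map_inv]
    rw [e1, hi₁U _ hxh, hi₂U x hx]
    have e2 : (⟨ι₁ (h * x * h⁻¹), hUs1 _ hxh⟩ : Us) = (κ₀⁻¹ * κ₂) ⟨ι₁ x, hUs1 x hx⟩ :=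
      Subtype.ext (hh x hx _).symm
    rw [e2]
    show ((κ₂ _ : Us) : Ω) = ((κ₀ (κ₀⁻¹ (κ₂ _)) : Us) : Ω)
    have : ∀ z : Us, κ₀ (κ₀⁻¹ z) = z := fun z => by
      show (κ₀ * κ₀⁻¹) z = z
      simp
    rw [this]
  let c : MulAut Xt := MulAut.conj (e₁ h)
  have hcA : c ∈ Ft.autGroup Xt := inn_le_autGroup Ft hXtY ⟨e₁ h, rfl⟩
  let g₀ : MulAut Xt := c⁻¹ * g
  have hg₀A : g₀ ∈ Ft.autGroup Xt := Subgroup.mul_mem _ (Subgroup.inv_mem _ hcA) hgA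
  have hg₀fix : ∀ u : Xt, (u : Ω) ∈ Us → g₀ u = u := by
    intro u hu
    obtain ⟨x, hx, e⟩ := hsurj ⟨u, hu⟩
    have e1 : u = e₁ x := Subtype.ext e.symm
    rw [e1]
    show c⁻¹ (g (e₁ x)) = e₁ x
    have h1 : e₂ x = c (e₁ x) := Subtype.ext (hconjU x hx)
    rw [hg, h1]
    show (c⁻¹ * c) (e₁ x) = e₁ x
    simp
  have hle : (⊥ : Subgroup Ω) ≤ Us := bot_le
  have hg₀K : g₀ ∈ stabPair Xt ⊥ Us hle := by
    intro x hx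
    rw [hg₀fix x hx]
    simp
  have hAK : ∀ γ ∈ Ft.autGroup Xt, ∀ ψ ∈ stabPair Xt ⊥ Us hle, γ * ψ * γ⁻¹ ∈ stabPair Xt ⊥ Us hle := by
    intro γ hγ ψ hψ
    refine stabPair_conj (fun x hx => ?_) (fun x hx => ?_) hψ
    · obtain ⟨κ, hκ, hκu⟩ := hC Xt hUsXt (Xt.subtype.comp (γ⁻¹ : MulAut Xt).toMonoidHom)
        ((mem_autGroup_iff Ft hXtY).1 (Subgroup.inv_mem _ hγ))
      have h1 := hκu ⟨x, hx⟩
      have h2 : ((γ⁻¹ x : Xt) : Ω) = ((κ ⟨x, hx⟩ : Us) : Ω) := h1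
      rw [h2]
      exact (κ _).2
    · have : x = 1 := Subtype.ext (Subgroup.mem_bot.1 hx)
      rw [this, map_one]
      exact Subgroup.one_mem _
  have hp' : ∀ κ ∈ stabPair Xt ⊥ Us hle, κ ∈ Ft.autGroup Xt → (orderOf κ).Coprime p → κ = 1 := by
    intro k hkK hkA hco
    have hkF : k ∈ F.autGroup Xt := mem_autGroup_of F (hB _ _ ((mem_autGroup_iff Ft hXtY).1 hkA))
    let e' : Xt ≃* Q := isoOf ω (inj F hω) hωr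
    have hk'' := congr_mem_autGroup F hω hωr hkF
    have hord : orderOf (MulAut.congr e' k) = orderOf k := MulEquiv.orderOf_eq (MulAut.congr e') k
    have hfix : ∀ u : Q, (u : Ω) ∈ U → (MulAut.congr e' k) u = u := by
      intro u hu
      show e' (k (e'.symm u)) = u
      have h1 : e'.symm u = e₁ u := by
        rw [MulEquiv.symm_apply_eq]
        apply Subtype.ext
        exact (hωx u (hi₁X u)).symm
      have h2 : (e₁ u : Ω)⁻¹ * ((k (e₁ u) : Xt) : Ω) = 1 := Subgroup.mem_bot.1 (hkK (e₁ u) (hi₁Us u hu))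
      have h3 : k (e₁ u) = e₁ u := by
        apply Subtype.ext
        rw [inv_mul_eq_one] at h2
        exact h2.symm
      rw [h1, h3]
      apply Subtype.ext
      exact hωx u (hi₁X u)
    have h1 := hX _ hk'' (by rw [hord]; exact hco) hfix
    exact (MulAut.congr e').injective (h1.trans (map_one _).symm)
  have hcore := mem_core_of_stable Ft (stabPair Xt ⊥ Us hle) hAK hp' hg₀K hg₀A
  obtain ⟨a, ha, hae⟩ := hcore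
  obtain ⟨R, hR⟩ := hFA.2
  have h5 := pCore_le_sylow p R ha
  rw [hR] at h5
  have h6 : g₀ ∈ autInducedBy (normIn S Us Ks) Xt := by
    rw [← hae]
    exact h5
  obtain ⟨y, hy, hyg⟩ := mem_autInducedBy'.1 h6
  have hs : ((e₁ h : Xt) : Ω) * y ∈ S := S.mul_mem (hXtS (e₁ h).2) (hYS hy)
  have hi₂ : ∀ q : Q, i₂ q = ((e₁ h : Xt) : Ω) * y * i₁ q * (((e₁ h : Xt) : Ω) * y)⁻¹ := by
    intro q
    have h1 : e₂ q = c (g₀ (e₁ q)) := by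
      show e₂ q = c (c⁻¹ (g (e₁ q)))
      rw [hg]
      show e₂ q = (c * c⁻¹) (e₂ q)
      simp
    have h2 : ((g₀ (e₁ q) : Xt) : Ω) = y * i₁ q * y⁻¹ := hyg (e₁ q)
    have h3 : ((c (g₀ (e₁ q)) : Xt) : Ω) = ((e₁ h : Xt) : Ω) * ((g₀ (e₁ q) : Xt) : Ω) * ((e₁ h : Xt) : Ω)⁻¹ := rfl
    rw [← he₂, h1, h3, h2]
    group
  have hi₂E : i₂ ∈ E.Hom Q := comp_mem' E hi₁E (E.conj_mem hXtS hs) hi₁X (fun q => hi₂ q)
  obtain ⟨ω₂, hω₂, -, hω₂x⟩ := exists_inv E hμ₂E hμ₂r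
  exact comp_mem' E hi₂E hω₂ hi₂X (fun x => (hω₂x ⟨ι₂ x, hv2 x⟩ (hi₂X x)).symm)

set_option maxHeartbeats 1000000 in
/-- Small-exponent abelian subgroups of the hyperfocal subgroup control fusion. -/
theorem small_control (hS : IsPGroup p S) (E F : FusionSystem S) (hE : E.IsSaturated p) (hF : F.IsSaturated p)
    (hEF : E.IsSubsystemOf F) {e : ℕ} (he : (p ≠ 2 ∧ e = p) ∨ (p = 2 ∧ e = 4))
    (hag : ∀ A B : Subgroup Ω, A ≤ F.hyperfocalSubgroup p → B ≤ F.hyperfocalSubgroup p →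
      (∀ a ∈ A, ∀ b ∈ A, a * b = b * a) → (∀ a ∈ B, ∀ b ∈ B, a * b = b * a) → (∀ a ∈ A, a ^ e = 1) → (∀ b ∈ B, b ^ e = 1) →
      E.homSet A B = F.homSet A B) : ∀ P, E.Hom P = F.Hom P := by
  classical
  have hsc := hyper_stronglyClosed hS F hF
  suffices h : ∀ P, F.Hom P ⊆ E.Hom P from fun P => Set.Subset.antisymm (hEF P) (h P)
  by_contra hcon
  push_neg at hcon
  obtain ⟨P₀, hP₀⟩ := hcon
  obtain ⟨φ₀, hφ₀, hφ₀E⟩ := Set.not_subset.1 hP₀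
  let B : Set (Subgroup Ω) := {P | ∃ φ : P →* Ω, φ ∈ F.Hom P ∧ φ ∉ E.Hom P}
  have hBfin : B.Finite := finite_subgroups_le.subset (fun P ⟨φ, hφ, _⟩ => src_le F hφ)
  obtain ⟨Q, ⟨φ, hφ, hφE⟩, hmaxB⟩ := Set.exists_max_image B (fun P => Nat.card P) hBfin ⟨P₀, φ₀, hφ₀, hφ₀E⟩
  have hQS : Q ≤ S := src_le F hφ
  haveI : Finite Q := finite_of_le hQS
  have hQp : IsPGroup p Q := hS.to_le hQS
  have hmax : ∀ R : Subgroup Ω, Nat.card Q < Nat.card R → ∀ ψ ∈ F.Hom R, ψ ∈ E.Hom R := by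
    intro R hR ψ hψ
    by_contra hn
    exact absurd (hmaxB R ⟨ψ, hψ, hn⟩) (not_le.2 hR)
  -- the subgroup `U`
  obtain ⟨U₀, hU₀M, hU₀c, hU₀e, hU₀n, hU₀fix⟩ := exists_U hQp e he (F.autGroup Q) (fun g => inn_le_autGroup F hQS ⟨g, rfl⟩)
    ((F.hyperfocalSubgroup p).subgroupOf Q) (fun a ha x hx => sc_aut F hsc hQS ha x hx)
  let U : Subgroup Ω := U₀.map Q.subtype
  have hmemU : ∀ x : Q, (x : Ω) ∈ U ↔ x ∈ U₀ := by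
    intro x
    constructor
    · rintro ⟨y, hy, e⟩
      have : y = x := Subtype.ext e
      rwa [← this]
    · intro hx
      exact ⟨x, hx, rfl⟩
  have hUQ : U ≤ Q := by
    rintro _ ⟨x, -, rfl⟩
    exact x.2
  have hUS : U ≤ S := hUQ.trans hQS
  haveI : Finite U := finite_of_le hUS
  have hUn : ∀ h ∈ Q, ∀ x ∈ U, h * x * h⁻¹ ∈ U := by
    rintro h hh _ ⟨x, hx, rfl⟩
    exact ⟨⟨h, hh⟩ * x * ⟨h, hh⟩⁻¹, hU₀n _ x hx, rfl⟩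
  have hUH : U ≤ F.hyperfocalSubgroup p := by
    rintro _ ⟨x, hx, rfl⟩
    exact hU₀M hx
  have hUc : ∀ a ∈ U, ∀ b ∈ U, a * b = b * a := by
    rintro _ ⟨a, ha, rfl⟩ _ ⟨b, hb, rfl⟩
    have := congrArg (fun z : Q => (z : Ω)) (hU₀c a ha b hb)
    exact this
  have hUe : ∀ a ∈ U, a ^ e = 1 := by
    rintro _ ⟨a, ha, rfl⟩
    have := congrArg (fun z : Q => (z : Ω)) (hU₀e a ha)
    simpa using this
  have hX : ∀ g ∈ F.autGroup Q, (orderOf g).Coprime p → (∀ u : Q, (u : Ω) ∈ U → g u = u) → g = 1 := by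
    intro g hg hco hfix
    have h1 := hU₀fix g hg hco (fun u hu => hfix u ((hmemU u).2 hu))
    apply MulEquiv.ext
    intro x
    have h2 : x⁻¹ * g x ∈ (F.hyperfocalSubgroup p).subgroupOf Q := by
      rw [Subgroup.mem_subgroupOf]
      exact mem_hyper F p hQS ⟨g, hg⟩ (Subgroup.subset_closure (by
        show (orderOf (⟨g, hg⟩ : F.autGroup Q)).Coprime p
        rw [Subgroup.orderOf_mk]
        exact hco)) x
    exact aut_fix_step hQp hco (h1 _ h2)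
  -- images of small subgroups
  have hsmall : ∀ (A : Subgroup Ω) (ψ : A →* Ω), ψ ∈ F.Hom A → A ≤ F.hyperfocalSubgroup p → (∀ a ∈ A, ∀ b ∈ A, a * b = b * a) →
      (∀ a ∈ A, a ^ e = 1) → ψ.range ≤ F.hyperfocalSubgroup p ∧ (∀ a ∈ ψ.range, ∀ b ∈ ψ.range, a * b = b * a) ∧ ∀ a ∈ ψ.range, a ^ e = 1 := by
    intro A ψ hψ hAH hAc hAe
    refine ⟨?_, ?_, ?_⟩
    · rintro _ ⟨x, rfl⟩
      exact hsc.2 A hAH ψ hψ x
    · rintro _ ⟨a, rfl⟩ _ ⟨b, rfl⟩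
      rw [← map_mul, ← map_mul]
      congr 1
      exact Subtype.ext (hAc _ a.2 _ b.2)
    · rintro _ ⟨a, rfl⟩
      rw [← map_pow]
      have : a ^ e = 1 := Subtype.ext (by simpa using hAe _ a.2)
      rw [this, map_one]
  -- the automorphisms induced by `Q`
  have hK₀p : IsPGroup p (autInducedBy Q U) := isPGroup_autInduced hQp U
  have hK₀A : autInducedBy Q U ≤ F.autGroup U := by
    intro α hα
    obtain ⟨g, hg, hgα⟩ := mem_autInducedBy'.1 hα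
    exact autInduced_le_autGroup F hUS (mem_autInducedBy'.2 ⟨g, hQS hg, hgα⟩)
  obtain ⟨Us, τ, hτ, hτr, hK⟩ := exists_fullyK F hUS (autInducedBy Q U)
  obtain ⟨Ks, hKs⟩ : ∃ Ks, Ks = (autInducedBy Q U).map (MulAut.congr (isoOf τ (inj F hτ) hτr)).toMonoidHom := ⟨_, rfl⟩
  rw [← hKs] at hK
  have hUsS : Us ≤ S := hK.1
  haveI : Finite Us := finite_of_le hUsS
  have hUsm := hsmall U τ hτ hUH hUc hUe
  rw [hτr] at hUsm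
  obtain ⟨hUsH, hUsc, hUse⟩ := hUsm
  have hτE : τ ∈ E.Hom U := by
    have h1 : τ ∈ F.homSet U Us := ⟨hτ, fun x => hτr.le ⟨x, rfl⟩⟩
    rw [← hag U Us hUH hUsH hUc hUsc hUe hUse] at h1
    exact h1.1
  have hKsp : IsPGroup p Ks := by
    rw [hKs]
    exact hK₀p.map _
  have hKsA : Ks ≤ F.autGroup Us := by
    rw [hKs]
    rintro _ ⟨δ, hδ, rfl⟩
    exact congr_mem_autGroup F hτ hτr (hK₀A hδ)
  have hreal : ∀ κ ∈ Ks, ∃ m ∈ normIn S Us Ks, ∀ x : Us, ((κ x : Us) : Ω) = m * x * m⁻¹ := by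
    intro κ hκ
    have h1 := le_of_fullyK hS hF hK Ks hKsA le_rfl hKsp ((autInduced_normIn_le (F := F) hUsS).trans inf_le_right) hκ
    exact mem_autInducedBy'.1 h1
  have hKE : FullyK E Us Ks := ⟨hK.1, fun P' ψ hψ hr' => hK.2 P' ψ (hEF _ hψ) hr'⟩
  -- extensions in `E`
  have hext : ∀ (W V : Subgroup Ω) (hWS : W ≤ S) (hVW : V ≤ W) (σ : V →* Ω) (hσ : σ ∈ E.Hom V) (hσr : σ.range = Us),
      (∀ g ∈ W, ∀ x ∈ V, g * x * g⁻¹ ∈ V) →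
      (∀ g ∈ W, ∃ κ ∈ Ks, ∀ (x : V) (hx : g * (x : Ω) * g⁻¹ ∈ V) (hy : σ x ∈ Us), σ ⟨g * x * g⁻¹, hx⟩ = κ ⟨σ x, hy⟩) →
      ∃ θ : W →* Ω, θ ∈ E.Hom W ∧ (∀ x : V, θ ⟨x, hVW x.2⟩ = σ x) ∧ ∀ w, θ w ∈ normIn S Us Ks := by
    intro W V hWS hVW σ hσ hσr hn hW
    haveI : Finite V := finite_of_le (hVW.trans hWS)
    have hWN : W ≤ Subgroup.normalizer (V : Set Ω) := fun g hg => mem_normalizer_of_conj_le' (hn g hg)
    have hm : ∀ g ∈ W, ∃ m ∈ normIn S Us Ks, ∀ (x : V) (hx : g * (x : Ω) * g⁻¹ ∈ V), σ ⟨g * x * g⁻¹, hx⟩ = m * σ x * m⁻¹ := by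
      intro g hg
      obtain ⟨κ, hκ, hd⟩ := hW g hg
      obtain ⟨m, hm, hme⟩ := hreal κ hκ
      refine ⟨m, hm, fun x hx => ?_⟩
      have hy : σ x ∈ Us := hσr.le ⟨x, rfl⟩
      rw [hd x hx hy, hme ⟨σ x, hy⟩]
    obtain ⟨ψ, hψ, h1, h2⟩ := ext_of_fullyK hS hE hKE hσ hσr hWS hWN hm
    refine ⟨ψ.comp (Subgroup.inclusion le_sup_left), res_mem E le_sup_left hψ, fun x => ?_, fun w => h2 w⟩
    rw [← h1 x]
    rfl
  -- the transported conjugations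
  have hUN : ∀ h ∈ Q, h ∈ Subgroup.normalizer (U : Set Ω) := fun h hh => mem_normalizer_of_conj_le' (hUn h hh)
  have hκh : ∀ h ∈ Q, ∃ κ ∈ Ks, ∀ (x : U) (hx : h * (x : Ω) * h⁻¹ ∈ U) (hy : τ x ∈ Us), ((κ ⟨τ x, hy⟩ : Us) : Ω) = τ ⟨h * x * h⁻¹, hx⟩ := by
    intro h hh
    have hc : cAut U ⟨h, hUN h hh⟩ ∈ autInducedBy Q U := mem_autInducedBy'.2 ⟨h, hh, fun x => rfl⟩
    refine ⟨MulAut.congr (isoOf τ (inj F hτ) hτr) (cAut U ⟨h, hUN h hh⟩), ?_, fun x hx hy => ?_⟩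
    · rw [hKs]
      exact ⟨_, hc, rfl⟩
    · have e1 : (⟨τ x, hy⟩ : Us) = isoOf τ (inj F hτ) hτr x := Subtype.ext rfl
      rw [e1]
      show ((isoOf τ (inj F hτ) hτr (cAut U ⟨h, hUN h hh⟩ ((isoOf τ (inj F hτ) hτr).symm (isoOf τ (inj F hτ) hτr x))) : Us) : Ω) = _
      rw [MulEquiv.symm_apply_apply]
      rfl
  have hKsform : ∀ κ ∈ Ks, ∃ h ∈ Q, ∀ (x : U) (hx : h * (x : Ω) * h⁻¹ ∈ U) (hy : τ x ∈ Us), ((κ ⟨τ x, hy⟩ : Us) : Ω) = τ ⟨h * x * h⁻¹, hx⟩ := by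
    intro κ hκ
    rw [hKs] at hκ
    obtain ⟨δ, hδ, rfl⟩ := hκ
    obtain ⟨h, hh, hhδ⟩ := mem_autInducedBy'.1 hδ
    refine ⟨h, hh, fun x hx hy => ?_⟩
    have e1 : (⟨τ x, hy⟩ : Us) = isoOf τ (inj F hτ) hτr x := Subtype.ext rfl
    rw [e1]
    show ((isoOf τ (inj F hτ) hτr (δ ((isoOf τ (inj F hτ) hτr).symm (isoOf τ (inj F hτ) hτr x))) : Us) : Ω) = _
    rw [MulEquiv.symm_apply_apply]
    show τ (δ x) = _
    congr 1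
    exact Subtype.ext (hhδ x)
  -- the first extension
  obtain ⟨θ₁, hθ₁E, hθ₁, hθ₁v⟩ := hext Q U hQS hUQ τ hτE hτr hUn (fun g hg => by
    obtain ⟨κ, hκ, hd⟩ := hκh g hg
    exact ⟨κ, hκ, fun x hx hy => (hd x hx hy).symm⟩)
  -- the second extension
  let φU : U →* Ω := φ.comp (Subgroup.inclusion hUQ)
  have hφU : φU ∈ F.Hom U := res_mem F hUQ hφ
  obtain ⟨ψ, hψ, hψr, hψx⟩ := exists_inv F hφU rfl
  have hψv : ∀ y, ψ y ∈ U := fun y => hψr.le ⟨y, rfl⟩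
  let τ₂ : φU.range →* Ω := τ.comp (ψ.codRestrict U hψv)
  have hτ₂F : τ₂ ∈ F.Hom φU.range := F.comp_mem hψ hτ hψv
  have hτ₂val : ∀ (u : U) (hy : φU u ∈ φU.range), τ₂ ⟨φU u, hy⟩ = τ u := by
    intro u hy
    show τ ⟨ψ ⟨φU u, hy⟩, _⟩ = τ u
    congr 1
    exact Subtype.ext (hψx u hy)
  have hτ₂r : τ₂.range = Us := by
    rw [← hτr]
    ext y
    constructor
    · rintro ⟨x, rfl⟩
      exact ⟨_, rfl⟩
    · rintro ⟨u, rfl⟩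
      exact ⟨⟨φU u, ⟨u, rfl⟩⟩, hτ₂val u _⟩
  have hU₂sm := hsmall U φU hφU hUH hUc hUe
  obtain ⟨hU₂H, hU₂c, hU₂e⟩ := hU₂sm
  have hτ₂E : τ₂ ∈ E.Hom φU.range := by
    have h1 : τ₂ ∈ F.homSet φU.range Us := ⟨hτ₂F, fun x => hτ₂r.le ⟨x, rfl⟩⟩
    rw [← hag _ Us hU₂H hUsH hU₂c hUsc hU₂e hUse] at h1
    exact h1.1
  have hφS : φ.range ≤ S := by
    rintro _ ⟨x, rfl⟩
    exact val_mem F hφ x
  have hU₂le : φU.range ≤ φ.range := by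
    rintro _ ⟨x, rfl⟩
    exact ⟨_, rfl⟩
  have hcφ : ∀ (h : Q) (u : U) (hu : (h : Ω) * u * (h : Ω)⁻¹ ∈ U), φ h * φU u * (φ h)⁻¹ = φU ⟨_, hu⟩ := by
    intro h u hu
    have e1 : (Subgroup.inclusion hUQ ⟨_, hu⟩ : Q) = h * Subgroup.inclusion hUQ u * h⁻¹ := Subtype.ext rfl
    show φ h * φ (Subgroup.inclusion hUQ u) * (φ h)⁻¹ = φ (Subgroup.inclusion hUQ ⟨_, hu⟩)
    rw [e1, map_mul, map_mul, map_inv]
  obtain ⟨θ₂, hθ₂E, hθ₂, hθ₂v⟩ := hext φ.range φU.range hφS hU₂le τ₂ hτ₂E hτ₂r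
    (by
      rintro _ ⟨h, rfl⟩ _ ⟨u, rfl⟩
      rw [hcφ h u (hUn h h.2 u u.2)]
      exact ⟨_, rfl⟩)
    (by
      rintro _ ⟨h, rfl⟩
      obtain ⟨κ, hκ, hd⟩ := hκh h h.2
      refine ⟨κ, hκ, ?_⟩
      rintro ⟨_, u, rfl⟩ hx hy
      have h1 := hd u (hUn h h.2 u u.2) (hτr.le ⟨u, rfl⟩)
      have e3 : (⟨τ₂ ⟨φU u, MonoidHom.mem_range.2 ⟨u, rfl⟩⟩, hy⟩ : Us) = ⟨τ u, hτr.le ⟨u, rfl⟩⟩ := Subtype.ext (hτ₂val u _)
      calc τ₂ ⟨φ h * φU u * (φ h)⁻¹, hx⟩ = τ₂ ⟨φU ⟨_, hUn h h.2 u u.2⟩, MonoidHom.mem_range.2 ⟨_, rfl⟩⟩ :=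
            congrArg τ₂ (Subtype.ext (hcφ h u _))
        _ = τ ⟨_, hUn h h.2 u u.2⟩ := hτ₂val _ _
        _ = ((κ ⟨τ u, hτr.le ⟨u, rfl⟩⟩ : Us) : Ω) := h1.symm
        _ = ((κ ⟨τ₂ ⟨φU u, MonoidHom.mem_range.2 ⟨u, rfl⟩⟩, hy⟩ : Us) : Ω) := congrArg (fun z : Us => ((κ z : Us) : Ω)) e3.symm)
  have hv : ∀ x : Q, φ x ∈ φ.range := fun x => ⟨x, rfl⟩
  have hι₂F : θ₂.comp (φ.codRestrict φ.range hv) ∈ F.Hom Q := F.comp_mem hφ (hEF _ hθ₂E) hv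
  have hθ₁' : ∀ (x : Q) (hx : (x : Ω) ∈ U), θ₁ x = τ ⟨x, hx⟩ := fun x hx => hθ₁ ⟨x, hx⟩
  have hι₂E := key_D hS E F hF hEF hQS hUQ hUn hmax hX Ks hK hθ₁E hι₂F hθ₁v (fun x => hθ₂v _)
    (fun x hx => by
      rw [hθ₁' x hx]
      exact hτr.le ⟨_, rfl⟩)
    (fun y hy => by
      rw [← hτr] at hy
      obtain ⟨u, rfl⟩ := hy
      exact ⟨⟨u, hUQ u.2⟩, u.2, hθ₁ u⟩)
    (fun κ hκ => by
      obtain ⟨h, hh, hd⟩ := hKsform κ hκ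
      refine ⟨⟨h, hh⟩, fun x hx hy => ?_⟩
      have hxh := hUn h hh x hx
      have e1 : (⟨θ₁ x, hy⟩ : Us) = ⟨τ ⟨x, hx⟩, hτr.le ⟨_, rfl⟩⟩ := Subtype.ext (hθ₁' x hx)
      rw [e1, hd ⟨x, hx⟩ hxh]
      exact (hθ₁' (⟨h, hh⟩ * x * ⟨h, hh⟩⁻¹) hxh).symm)
    (fun x hx => by
      rw [hθ₁' x hx]
      have h1 := hθ₂ ⟨φU ⟨x, hx⟩, MonoidHom.mem_range.2 ⟨_, rfl⟩⟩
      exact h1.trans (hτ₂val _ _))
  apply hφE
  obtain ⟨ω, hω, -, hωx⟩ := exists_inv E hθ₂E rfl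
  exact comp_mem' E hι₂E hω (fun x => ⟨_, rfl⟩) (fun x => (hωx ⟨φ x, hv x⟩ _).symm)

end Cfsg.Agent.Lib.FusSmall
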