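import Mathlib
import Cfsg.Prelude.Def_PLocal
import Cfsg.Agent.Lib.PMin4
import Cfsg.Agent.Lib.PMin5
import Cfsg.Agent.Lib.PBest2
import Cfsg.Agent.Lib.PQuad2
import Cfsg.Agent.Lib.FusS4
import Cfsg.Agent.Lib.Comp2

set_option autoImplicit false
set_option linter.unusedSectionVars false
set_option linter.unusedVariables false
set_option linter.style.haveILetI false

/-!
# A Thompson-type normal complement theorem for groups: `C_G(Z(P))` and `N_G(J(P))`, for `p` odd or `S₄`-free groups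
-/

namespace Cfsg.Agent.Lib.PThom

open Subgroup Cfsg Cfsg.Agent.Lib.PQuad Cfsg.Agent.Lib.PNilp Cfsg.Agent.Lib.H1Core Cfsg.Agent.Lib.PQA Cfsg.Agent.Lib.PZJ Cfsg.Agent.Lib.FusS4 Cfsg.Agent.Lib.PBest
open scoped commutatorElement

universe u

section Structure

variable {p : ℕ} [Fact p.Prime] {G : Type u} [Group G] [Finite G]

/-- The structure of a minimal counterexample, without assumptions on `p`. -/
theorem struct_v (P : Sylow p G)
    (hi : ∀ H : Subgroup G, (P : Subgroup G) ≤ H → H ≠ ⊤ → HasNormalPComplement p ↥H)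
    (hO : pPrimeCore p G = ⊥) (hbar : HasNormalPComplement p (G ⧸ pCore p G)) :
    centralizer (pCore p G : Set G) ≤ pCore p G ∧ ∃ K : Subgroup G, K.Normal ∧ pCore p G ≤ K ∧
      (∀ x ∈ K, ∀ y ∈ K, ⁅x, y⁆ ∈ pCore p G) ∧ (∀ x ∈ K, ∃ m : ℕ, Nat.Coprime m p ∧ x ^ m ∈ pCore p G) ∧
      (∀ g : G, ∃ n : ℕ, g ^ (p ^ n) ∈ K) := by
  classical
  haveI hDn : (pCore p G).Normal := pCore_normal p G
  have hDp : IsPGroup p (pCore p G) := pCore_isPGroup p
  have hDP : pCore p G ≤ (P : Subgroup G) := pCore_le_sylow p P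
  rw [hasNormalPComplement_iff] at hbar
  obtain ⟨Nb, hNbn, hNbc, hNbq⟩ := hbar
  haveI := hNbn
  have hsurj := QuotientGroup.mk'_surjective (pCore p G)
  set π := QuotientGroup.mk' (pCore p G) with hπ
  have hker : ∀ x : G, π x = 1 ↔ x ∈ pCore p G := fun x => by
    rw [hπ, QuotientGroup.mk'_apply, QuotientGroup.eq_one_iff]
  let K : Subgroup G := Nb.comap π
  haveI hKn : K.Normal := Subgroup.Normal.comap hNbn π
  have hDK : pCore p G ≤ K := by
    intro x hx
    rw [mem_comap, (hker x).2 hx]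
    exact one_mem _
  have hNbpow : ∀ y ∈ Nb, y ^ Nat.card Nb = 1 := fun y hy => by
    have := pow_card_eq_one' (x := (⟨y, hy⟩ : Nb))
    exact congrArg Subtype.val this
  have hKp : ∀ x ∈ K, ∃ m : ℕ, Nat.Coprime m p ∧ x ^ m ∈ pCore p G := by
    intro x hx
    refine ⟨Nat.card Nb, hNbc, (hker _).1 ?_⟩
    rw [map_pow]
    exact hNbpow _ hx
  have hGK : ∀ g : G, ∃ n : ℕ, g ^ (p ^ n) ∈ K := by
    intro g
    obtain ⟨n, hn⟩ := (isPGroup_iff_pow_pow_eq_one.1 hNbq) (π g : (G ⧸ pCore p G) ⧸ Nb)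
    refine ⟨n, ?_⟩
    rw [← QuotientGroup.mk_pow, QuotientGroup.eq_one_iff] at hn
    rw [mem_comap, map_pow]
    exact hn
  -- `C_G(D) ≤ D`
  have hrel : (pCore p G).relIndex K = Nat.card Nb := by
    have h3 := Subgroup.relIndex_ker (K := K) π
    have h4 : K.map π = Nb := Subgroup.map_comap_eq_self_of_surjective hsurj _
    rw [h4, hπ, QuotientGroup.ker_mk'] at h3
    exact h3
  have hGKq : IsPGroup p (G ⧸ K) := by
    rw [isPGroup_iff_pow_pow_eq_one]
    intro y
    obtain ⟨g, rfl⟩ := QuotientGroup.mk_surjective y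
    obtain ⟨n, hn⟩ := hGK g
    refine ⟨n, ?_⟩
    rw [← QuotientGroup.mk_pow, QuotientGroup.eq_one_iff]
    exact hn
  have hsol : IsPSolvable p G := isPSolvable_of_series (pCore p G) K hDK hDp (by rw [hrel]; exact hNbc) hGKq
  have hc : centralizer (pCore p G : Set G) ≤ pCore p G :=
    Cfsg.Agent.Lib.PSolv.centralizer_le_of_isPSolvable hO (Cfsg.Agent.Lib.PSolv.isPSolvable_subgroup hsol _)
  refine ⟨hc, K, hKn, hDK, ?_, hKp, hGK⟩
  -- the image of `P`
  let Pb : Sylow p (G ⧸ pCore p G) := P.mapSurjective hsurj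
  have hPbcoe : (Pb : Subgroup (G ⧸ pCore p G)) = (P : Subgroup G).map π := rfl
  have hinter : ∀ y ∈ (Pb : Subgroup (G ⧸ pCore p G)), y ∈ Nb → y = 1 := by
    intro y hy hyN
    obtain ⟨k, hk⟩ := (isPGroup_iff_pow_pow_eq_one.1 Pb.2) ⟨y, hy⟩
    exact eq_one_of_pow_of_coprime hNbc (hNbpow y hyN) (congrArg Subtype.val hk)
  have hPbinf : ∀ Yb : Subgroup (G ⧸ pCore p G), Yb ≤ Nb → (Pb : Subgroup (G ⧸ pCore p G)) ⊓ Yb = ⊥ := by
    intro Yb hYb
    rw [eq_bot_iff]
    intro y hy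
    exact mem_bot.2 (hinter y (mem_inf.1 hy).1 (hYb (mem_inf.1 hy).2))
  have hPbN : (Pb : Subgroup (G ⧸ pCore p G)) ≤ normalizer ((Nb : Subgroup _) : Set (G ⧸ pCore p G)) := by
    rw [normalizer_eq_top_iff.2 hNbn]; exact le_top
  -- no proper invariant subgroup
  have hnoproper : ∀ Yb : Subgroup (G ⧸ pCore p G), Yb ≤ Nb →
      (Pb : Subgroup (G ⧸ pCore p G)) ≤ normalizer (Yb : Set (G ⧸ pCore p G)) → Yb ≠ Nb → Yb = ⊥ := by
    intro Yb hYbN hPYb hne
    let Y : Subgroup G := Yb.comap π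
    let X : Subgroup G := Y ⊔ (P : Subgroup G)
    have hPX : (P : Subgroup G) ≤ X := le_sup_right
    have hXne : X ≠ ⊤ := by
      intro hX
      have h1 : Yb ⊔ (Pb : Subgroup (G ⧸ pCore p G)) = ⊤ := by
        have h2 := congrArg (Subgroup.map π) hX
        rw [Subgroup.map_sup, Subgroup.map_comap_eq_self_of_surjective hsurj, ← MonoidHom.range_eq_map,
          MonoidHom.range_eq_top.2 hsurj] at h2
        exact h2
      have h3 := Cfsg.Agent.Lib.PQuad.card_sup_mul_inf_of_normalizes _ _ hPYb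
      have h4 := Cfsg.Agent.Lib.PQuad.card_sup_mul_inf_of_normalizes _ _ hPbN
      rw [hPbinf Yb hYbN, sup_comm, h1] at h3
      rw [hPbinf Nb le_rfl, sup_eq_top_of_isPGroup_quotient Pb Nb hNbq] at h4
      have h5 : Nat.card Pb * Nat.card Yb = Nat.card Pb * Nat.card Nb := by
        change _ = (Nat.card ↥(Pb : Subgroup (G ⧸ pCore p G))) * Nat.card Nb
        rw [← h3, ← h4]
      have h6 : Nat.card Yb = Nat.card Nb := Nat.eq_of_mul_eq_mul_left Nat.card_pos h5
      exact hne (Subgroup.eq_of_le_of_card_ge hYbN h6.ge)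
    have hnpc := hi X hPX hXne
    rw [hasNormalPComplement_iff] at hnpc
    obtain ⟨X₀, hX₀n, hX₀c, hX₀q⟩ := hnpc
    haveI := hX₀n
    have hDX : pCore p G ≤ X := hDP.trans hPX
    have hX₀pow : ∀ y ∈ X₀, y ^ Nat.card X₀ = 1 := fun y hy => by
      have := pow_card_eq_one' (x := (⟨y, hy⟩ : X₀))
      exact congrArg Subtype.val this
    have hcop1 : ∀ c ∈ X₀, ((c : ↥X) : G) ∈ pCore p G → c = 1 := by
      intro c hc1 hc2
      obtain ⟨k, hk⟩ := (isPGroup_iff_pow_pow_eq_one.1 hDp) ⟨c, hc2⟩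
      have hk' : ((c : ↥X) : G) ^ (p ^ k) = 1 := congrArg Subtype.val hk
      exact eq_one_of_pow_of_coprime hX₀c (hX₀pow c hc1) (Subtype.ext hk')
    have hX₀bot : X₀ = ⊥ := by
      rw [eq_bot_iff]
      intro x hx
      have hxC : ((x : ↥X) : G) ∈ centralizer (pCore p G : Set G) := by
        rw [mem_centralizer_iff]
        intro d hd
        have hd' : d ∈ X := hDX hd
        have h1 : x * (⟨d, hd'⟩ : ↥X) * x⁻¹ * (⟨d, hd'⟩ : ↥X)⁻¹ ∈ X₀ := by
          have := hX₀n.conj_mem _ (inv_mem hx) (⟨d, hd'⟩ : ↥X)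
          have e : x * (⟨d, hd'⟩ : ↥X) * x⁻¹ * (⟨d, hd'⟩ : ↥X)⁻¹ =
              x * ((⟨d, hd'⟩ : ↥X) * x⁻¹ * (⟨d, hd'⟩ : ↥X)⁻¹) := by group
          rw [e]
          exact mul_mem hx this
        have h2 : ((x * (⟨d, hd'⟩ : ↥X) * x⁻¹ * (⟨d, hd'⟩ : ↥X)⁻¹ : ↥X) : G) ∈ pCore p G := by
          have : ((x * (⟨d, hd'⟩ : ↥X) * x⁻¹ * (⟨d, hd'⟩ : ↥X)⁻¹ : ↥X) : G) =
              ((x : ↥X) : G) * d * ((x : ↥X) : G)⁻¹ * d⁻¹ := rfl
          rw [this]
          exact mul_mem (hDn.conj_mem d hd _) (inv_mem hd)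
        have h3 := hcop1 _ h1 h2
        have h4 : ((x : ↥X) : G) * d * ((x : ↥X) : G)⁻¹ * d⁻¹ = 1 := congrArg Subtype.val h3
        have h5 : ((x : ↥X) : G) * d * ((x : ↥X) : G)⁻¹ = d := mul_inv_eq_one.1 h4
        calc d * ((x : ↥X) : G) = (((x : ↥X) : G) * d * ((x : ↥X) : G)⁻¹) * ((x : ↥X) : G) := by rw [h5]
          _ = _ := by group
      exact mem_bot.2 (hcop1 x hx (hc hxC))
    have hXp : IsPGroup p ↥X := by
      rw [isPGroup_iff_pow_pow_eq_one]
      intro x
      obtain ⟨k, hk⟩ := (isPGroup_iff_pow_pow_eq_one.1 hX₀q) (x : ↥X ⧸ X₀)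
      refine ⟨k, ?_⟩
      rw [← QuotientGroup.mk_pow, QuotientGroup.eq_one_iff, hX₀bot, mem_bot] at hk
      exact hk
    rw [eq_bot_iff]
    intro y hy
    obtain ⟨x, rfl⟩ := hsurj y
    have hxX : x ∈ X := (le_sup_left : Y ≤ X) hy
    obtain ⟨k, hk⟩ := (isPGroup_iff_pow_pow_eq_one.1 hXp) ⟨x, hxX⟩
    have hk' : x ^ (p ^ k) = 1 := congrArg Subtype.val hk
    refine mem_bot.2 (eq_one_of_pow_of_coprime (k := k) hNbc (hNbpow _ (hYbN hy)) ?_)
    rw [← map_pow, hk', map_one]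
  -- the complement is abelian
  have habelian : ∀ x ∈ Nb, ∀ y ∈ Nb, x * y = y * x := by
    by_cases hNbot : Nb = ⊥
    · intro x hx y hy
      rw [hNbot, mem_bot] at hx hy
      rw [hx, hy]
    have hcard1 : Nat.card Nb ≠ 1 := fun h => hNbot ((Subgroup.eq_bot_iff_card _).2 h)
    obtain ⟨q, hq, hqd⟩ := Nat.exists_prime_and_dvd hcard1
    haveI : Fact q.Prime := ⟨hq⟩
    have hcop : (Nat.card (Pb : Subgroup (G ⧸ pCore p G))).Coprime (Nat.card Nb) := by
      obtain ⟨k, hk⟩ := IsPGroup.iff_card.1 Pb.2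
      rw [hk]
      exact Nat.Coprime.pow_left k hNbc.symm
    haveI : Group.IsNilpotent ↥(Pb : Subgroup (G ⧸ pCore p G)) := Pb.2.isNilpotent
    obtain ⟨R, ⟨hRN, hRq, hRi⟩, hPR⟩ := Cfsg.Agent.Lib.H1Cop.exists_invariant_sylow hPbN hcop
      (Or.inl inferInstance) q
    have hRne : R ≠ ⊥ := by
      rintro rfl
      apply hRi
      rw [Subgroup.relIndex_bot_left]
      exact hqd
    have hReq : R = Nb := by
      by_contra h
      exact hRne (hnoproper R hRN hPR h)
    have hNq : IsPGroup q Nb := by rw [← hReq]; exact hRq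
    haveI hNnt : Nontrivial ↥Nb := (Subgroup.nontrivial_iff_ne_bot Nb).2 hNbot
    have hcen : Nontrivial (center ↥Nb) := hNq.center_nontrivial
    obtain ⟨z, hz⟩ := exists_ne (1 : center ↥Nb)
    let Zb : Subgroup (G ⧸ pCore p G) := Nb ⊓ centralizer (Nb : Set (G ⧸ pCore p G))
    haveI : (centralizer (Nb : Set (G ⧸ pCore p G))).Normal := Subgroup.normal_centralizer
    have hZbn : Zb.Normal := inferInstance
    have hZbne : Zb ≠ ⊥ := by
      intro hb
      apply hz
      have h1 : ((z : ↥Nb) : G ⧸ pCore p G) ∈ Zb := by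
        refine mem_inf.2 ⟨(z : ↥Nb).2, ?_⟩
        rw [mem_centralizer_iff]
        intro j hj
        have := (mem_center_iff.1 z.2) ⟨j, hj⟩
        exact congrArg Subtype.val this
      rw [hb, mem_bot] at h1
      exact Subtype.ext (Subtype.ext h1)
    have hZbeq : Zb = Nb := by
      by_contra h
      refine hZbne (hnoproper Zb inf_le_left ?_ h)
      rw [normalizer_eq_top_iff.2 hZbn]; exact le_top
    intro x hx y hy
    have hy' : y ∈ Zb := by rw [hZbeq]; exact hy
    exact ((mem_centralizer_iff.1 (mem_inf.1 hy').2) x hx).symm ▸ rfl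
  have hab : ∀ x ∈ K, ∀ y ∈ K, ⁅x, y⁆ ∈ pCore p G := by
    intro x hx y hy
    apply (hker _).1
    rw [map_commutatorElement, commutatorElement_eq_one_iff_mul_comm]
    exact habelian _ hx _ hy
  exact hab

/-- Fixed points in a `p`-group. -/
theorem exists_fixed_conj {E Z : Subgroup G} (hE : IsPGroup p E) (hZp : IsPGroup p Z) (hZ : Z ≠ ⊥)
    (hEZ : ∀ e ∈ E, ∀ z ∈ Z, e * z * e⁻¹ ∈ Z) : ∃ z ∈ Z, z ≠ 1 ∧ ∀ e ∈ E, e * z * e⁻¹ = z := by
  classical
  letI : MulAction ↥E ↥Z :=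
    { smul := fun e z => ⟨(e : G) * z * (e : G)⁻¹, hEZ e e.2 z z.2⟩
      one_smul := fun z => Subtype.ext (by show (1 : G) * z * (1 : G)⁻¹ = z; simp)
      mul_smul := fun a b z => Subtype.ext (by
        show ((a : G) * b) * z * ((a : G) * b)⁻¹ = a * (b * z * (b : G)⁻¹) * (a : G)⁻¹
        group) }
  have hmod := hE.card_modEq_card_fixedPoints Z
  haveI : Nontrivial Z := (Subgroup.nontrivial_iff_ne_bot Z).2 hZ
  have hp : Nat.Prime p := Fact.out
  have hdvd : p ∣ Nat.card Z := by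
    obtain ⟨n, hn⟩ := IsPGroup.iff_card.1 hZp
    have h1 : 1 < Nat.card Z := Finite.one_lt_card
    rw [hn] at h1 ⊢
    cases n with
    | zero => simp at h1
    | succ n => exact dvd_pow_self p (Nat.succ_ne_zero n)
  have hfix0 : (1 : Z) ∈ MulAction.fixedPoints E Z := by
    intro u
    apply Subtype.ext
    show (u : G) * ((1 : Z) : G) * (u : G)⁻¹ = ((1 : Z) : G)
    simp
  have hfdvd : p ∣ Nat.card (MulAction.fixedPoints E Z) :=
    (Nat.modEq_zero_iff_dvd.mp (hmod.symm.trans (Nat.modEq_zero_iff_dvd.mpr hdvd)))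
  have hfpos : 0 < Nat.card (MulAction.fixedPoints E Z) := by
    have : Nonempty (MulAction.fixedPoints E Z) := ⟨⟨1, hfix0⟩⟩
    exact Nat.card_pos
  have hone : 1 < Nat.card (MulAction.fixedPoints E Z) :=
    lt_of_lt_of_le hp.one_lt (Nat.le_of_dvd hfpos hfdvd)
  have := Finite.one_lt_card_iff_nontrivial.mp hone
  obtain ⟨w, hw⟩ := exists_ne (⟨1, hfix0⟩ : MulAction.fixedPoints E Z)
  refine ⟨w.1, w.1.2, fun h => hw (Subtype.ext (Subtype.ext h)), fun e he => ?_⟩
  have h1 := w.2 ⟨e, he⟩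
  exact congrArg Subtype.val h1

/-- An element moving a point of a module: a moved point fixed by a commuting `2`-group exists. -/
theorem exists_moved [Fact (Nat.Prime 2)] {V : Subgroup G} {r : G} {m : ℕ} (hm : Odd m)
    (hVe : ∀ v ∈ V, v * v = 1) (hrV : ∀ v ∈ V, cj r v ∈ V) (hrm : ∀ v ∈ V, cj (r ^ m) v = v)
    {E₁ : Subgroup G} (hE₁ : IsPGroup 2 E₁) (hE₁V : ∀ e ∈ E₁, ∀ v ∈ V, cj e v ∈ V)
    (hcomm : ∀ e ∈ E₁, ∀ v ∈ V, cj e (cj r v) = cj r (cj e v)) (hmov : ∃ v ∈ V, cj r v ≠ v) :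
    ∃ v₀ ∈ V, (∀ e ∈ E₁, cj e v₀ = v₀) ∧ cj r v₀ ≠ v₀ := by
  classical
  have hcomm' : ∀ {x y : G}, x ∈ V → y ∈ V → x * y = y * x := fun hx hy => comm_of_exp2 hVe hx hy
  let X : Subgroup G :=
    { carrier := {x | ∃ v ∈ V, x = v * cj r v}
      mul_mem' := by
        rintro _ _ ⟨v, hv, rfl⟩ ⟨w, hw, rfl⟩
        refine ⟨v * w, mul_mem hv hw, ?_⟩
        rw [cj_mul_left]
        have h1 := hcomm' (hrV v hv) hw
        calc v * cj r v * (w * cj r w) = v * (cj r v * w) * cj r w := by simp only [mul_assoc]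
          _ = v * (w * cj r v) * cj r w := by rw [h1]
          _ = _ := by simp only [mul_assoc]
      one_mem' := ⟨1, one_mem _, by simp [FusS4.cj]⟩
      inv_mem' := by
        rintro _ ⟨v, hv, rfl⟩
        have hx : v * cj r v ∈ V := mul_mem hv (hrV v hv)
        have h1 : (v * cj r v)⁻¹ = v * cj r v := inv_eq_of_mul_eq_one_left (hVe _ hx)
        exact ⟨v, hv, h1⟩ }
  have hXV : X ≤ V := by
    rintro _ ⟨v, hv, rfl⟩
    exact mul_mem hv (hrV v hv)
  have hXfp : ∀ x ∈ X, cj r x = x → x = 1 := by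
    rintro x ⟨v, hv, hxe⟩ hfix
    have hstep : cj r v = v * x := by
      rw [hxe, ← mul_assoc, hVe v hv, one_mul]
    have hpow : ∀ i : ℕ, cj (r ^ i) v = v * x ^ i := by
      intro i
      induction i with
      | zero => simp [FusS4.cj]
      | succ i ih =>
        have e1 : cj r (x ^ i) = x ^ i := by
          show r * x ^ i * r⁻¹ = x ^ i
          rw [← conj_pow]
          exact congrArg (· ^ i) hfix
        rw [pow_succ', ← cj_comp, ih, cj_mul_left, hstep, e1, pow_succ', mul_assoc]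
    have h1 := hpow m
    rw [hrm v hv] at h1
    have h2 : x ^ m = 1 := by simpa using h1.symm
    obtain ⟨k, rfl⟩ := hm
    have h4 : x ^ 2 = 1 := by rw [pow_two]; exact hVe x (hXV ⟨v, hv, hxe⟩)
    rw [pow_succ, pow_mul, h4, one_pow, one_mul] at h2
    exact h2
  have hXp : IsPGroup 2 X := by
    intro x
    refine ⟨1, Subtype.ext ?_⟩
    show (x : G) ^ 2 ^ 1 = 1
    rw [pow_one, pow_two]
    exact hVe _ (hXV x.2)
  have hXne : X ≠ ⊥ := by
    obtain ⟨v, hv, hv1⟩ := hmov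
    intro h
    have h1 : v * cj r v ∈ X := ⟨v, hv, rfl⟩
    rw [h, Subgroup.mem_bot] at h1
    apply hv1
    have e := hVe v hv
    calc cj r v = (v * v) * cj r v := by rw [e, one_mul]
      _ = v * (v * cj r v) := by rw [mul_assoc]
      _ = v := by rw [h1, mul_one]
  obtain ⟨z, hz, hz1, hzfix⟩ := exists_fixed_conj hE₁ hXp hXne (by
    rintro e he _ ⟨v, hv, rfl⟩
    refine ⟨cj e v, hE₁V e he v hv, ?_⟩
    show cj e (v * cj r v) = _
    rw [cj_mul_left, hcomm e he v hv])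
  exact ⟨z, hXV hz, hzfix, fun h => hz1 (hXfp z hz h)⟩

/-- A nilpotent action: `Y ≤ [Y, A]` forces `Y = 1`, when `A` acts on `V` as a `p`-group. -/
theorem eq_bot_of_le_comSet' {V A : Type*} [CommGroup V] [Group A] [Finite V] [Finite A] (ρ : A →* MulAut V)
    (hV : IsPGroup p V) (hA : IsPGroup p A)
    (Y : Subgroup V) (hY : Y ≤ comSet ρ Y) : Y = ⊥ := by
  classical
  let P : Subgroup (MulAut V) := ρ.range
  have hP : IsPGroup p P := by
    intro x
    obtain ⟨a, ha⟩ := x.2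
    obtain ⟨k, hk⟩ := hA a
    refine ⟨k, Subtype.ext ?_⟩
    simp only [Subgroup.coe_pow, Subgroup.coe_one]
    rw [← ha, ← map_pow, hk, map_one]
  let φ : P →* MulAut V := P.subtype
  let X := V ⋊[φ] P
  have hX : IsPGroup p X := by
    obtain ⟨m, hm⟩ := IsPGroup.iff_card.1 hV
    obtain ⟨n, hn⟩ := IsPGroup.iff_card.1 hP
    apply IsPGroup.of_card (n := m + n)
    rw [Nat.card_congr SemidirectProduct.equivProd, Nat.card_prod, hm, hn, pow_add]
  haveI : Finite X := Finite.of_equiv _ SemidirectProduct.equivProd.symm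
  haveI : Group.IsNilpotent X := hX.isNilpotent
  let ι : V →* X := SemidirectProduct.inl
  have hι : Function.Injective ι := SemidirectProduct.inl_injective
  have hlcs : ∀ n : ℕ, Y.map ι ≤ Subgroup.lowerCentralSeries (⊤ : Subgroup X) n := by
    intro n
    induction n with
    | zero => simp
    | succ n ih =>
      rw [Subgroup.lowerCentralSeries_succ]
      have hmap : Y.map ι ≤ (comSet ρ Y).map ι := Subgroup.map_mono hY
      refine hmap.trans ?_
      rw [comSet, MonoidHom.map_closure, closure_le]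
      rintro _ ⟨_, ⟨u, hu, a, rfl⟩, rfl⟩
      have h1 : ι u ∈ Subgroup.lowerCentralSeries (⊤ : Subgroup X) n := ih ⟨u, hu, rfl⟩
      let g : X := SemidirectProduct.inr (⟨ρ a, a, rfl⟩ : P)
      have h2 : ι (com ρ u a) = ⁅ι u, g⁆ := by
        have h3 : g * ι u⁻¹ * g⁻¹ = ι (ρ a u⁻¹) := by
          have h4 : g⁻¹ = SemidirectProduct.inr ((⟨ρ a, a, rfl⟩ : P)⁻¹) := (map_inv _ _).symm
          rw [h4]
          exact (SemidirectProduct.inl_aut _ _).symm
        rw [commutatorElement_def, mul_assoc (ι u), mul_assoc (ι u), ← map_inv ι, h3, ← map_mul]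
        simp [com]
      rw [h2]
      exact Subgroup.commutator_mem_commutator h1 (mem_top g)
  obtain ⟨n, hn⟩ := Subgroup.nilpotent_iff_lowerCentralSeries.1 (inferInstance : Group.IsNilpotent X)
  have h3 := hlcs n
  rw [hn] at h3
  rw [eq_bot_iff]
  intro y hy
  have h4 : ι y ∈ (⊥ : Subgroup X) := h3 ⟨y, hy, rfl⟩
  rw [Subgroup.mem_bot] at h4
  exact Subgroup.mem_bot.2 (hι (h4.trans (map_one ι).symm))

/-- Non-triviality under replacement, for `p`-groups. -/
theorem replacement_nontrivial' (V A : Subgroup G) (hV : IsMulCommutative V) (hAV : A ≤ normalizer (V : Set G))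
    (hab : ⁅A, A⁆ ≤ centralizer (V : Set G)) (hVp : IsPGroup p V) (hAp : IsPGroup p A)
    (U : Subgroup G) (hU : U ≤ V)
    (heq : V ⊓ centralizer ((A ⊓ centralizer ((⁅U, A⁆ : Subgroup G) : Set G) : Subgroup G) : Set G) =
      ⁅U, A⁆ ⊔ (V ⊓ centralizer (A : Set G)))
    (hne : ⁅V, A⁆ ≠ ⊥) : ⁅V, A ⊓ centralizer ((⁅U, A⁆ : Subgroup G) : Set G)⁆ ≠ ⊥ := by
  letI := commV V hV
  let ρ := rhoV V A hAV
  intro hbot
  apply hne
  have hVC : V ≤ centralizer ((A ⊓ centralizer ((⁅U, A⁆ : Subgroup G) : Set G) : Subgroup G) : Set G) := by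
    rwa [commutator_eq_bot_iff_le_centralizer] at hbot
  have hVeq : V = ⁅U, A⁆ ⊔ (V ⊓ centralizer (A : Set G)) := by
    rw [← heq]; exact (inf_eq_left.2 hVC).symm
  let U' : Subgroup V := U.subgroupOf V
  have hU' : U'.map V.subtype = U := Subgroup.map_subgroupOf_eq_of_le hU
  have hcom : (comSet ρ U').map V.subtype = ⁅U, A⁆ := by
    rw [comSet_map V A hV hAV, hU']
  have htop : (⊤ : Subgroup V) = comSet ρ U' ⊔ cv ρ (⊤ : Subgroup A) := by
    apply Subgroup.map_injective V.subtype_injective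
    rw [Subgroup.map_sup, hcom, cv_map V A hV hAV, top_map, ← MonoidHom.range_eq_map, Subgroup.range_subtype]
    exact hVeq
  have hle := comSet_top_le ρ U' htop
  have hbot2 := eq_bot_of_le_comSet' ρ hVp hAp _ hle
  have h4 : ⁅V, A⁆ = (comSet ρ (⊤ : Subgroup V)).map V.subtype := by
    rw [comSet_map V A hV hAV, ← MonoidHom.range_eq_map, Subgroup.range_subtype]
  rw [h4, hbot2, Subgroup.map_bot]

/-- The replacement function is maximal at the members of `FamA`. -/
theorem best_of_famA (V : Subgroup G) (hV : IsMulCommutative V) {P A : Subgroup G} (hVP : V ≤ P)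
    (hA : A ∈ FamA P) : ∀ B : Subgroup G, B ≤ A → fG V B ≤ fG V A := by
  intro B hB
  have hAc := hA.2.1
  set C := V ⊓ centralizer (B : Set G) with hC
  have hBC : C ≤ centralizer (B : Set G) := inf_le_right
  have hU : IsMulCommutative ↥(B ⊔ C) := by
    refine isMulComm_of_forall ?_
    intro x hx y hy
    have key : B ⊔ C ≤ centralizer ((B ⊔ C : Subgroup G) : Set G) := by
      have h1 : B ≤ centralizer ((B ⊔ C : Subgroup G) : Set G) := by
        intro b hb
        have : B ⊔ C ≤ centralizer ({b} : Set G) := by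
          refine sup_le (fun b' hb' => ?_) (fun c hc => ?_)
          · exact Subgroup.mem_centralizer_singleton_iff.2 (comm_of_isMulComm hAc (hB hb') (hB hb))
          · exact Subgroup.mem_centralizer_singleton_iff.2 ((mem_centralizer_iff.1 (hBC hc)) b hb).symm
        rw [mem_centralizer_iff]
        intro y hy
        exact (Subgroup.mem_centralizer_singleton_iff.1 (this hy))
      have h2 : C ≤ centralizer ((B ⊔ C : Subgroup G) : Set G) := by
        intro c hc
        have : B ⊔ C ≤ centralizer ({c} : Set G) := by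
          refine sup_le (fun b hb => ?_) (fun c' hc' => ?_)
          · exact Subgroup.mem_centralizer_singleton_iff.2 ((mem_centralizer_iff.1 (hBC hc)) b hb)
          · exact Subgroup.mem_centralizer_singleton_iff.2 (comm_of_isMulComm hV (mem_inf.1 hc').1 (mem_inf.1 hc).1)
        rw [mem_centralizer_iff]
        intro y hy
        exact (Subgroup.mem_centralizer_singleton_iff.1 (this hy))
      exact sup_le h1 h2
    exact (mem_centralizer_iff.1 (key hy)) x hx
  have hle : B ⊔ C ≤ P := sup_le (hB.trans hA.1) ((inf_le_left : C ≤ V).trans hVP)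
  have h1 : Nat.card ↥(B ⊔ C) ≤ Nat.card A := hA.2.2 _ hle hU
  have hnorm : B ≤ normalizer (C : Set G) := by
    intro b hb
    rw [mem_normalizer_iff]
    intro c
    constructor
    · intro hc
      have := (mem_centralizer_iff.1 (hBC hc)) b hb
      rw [this]
      simpa using hc
    · intro hc
      have := (mem_centralizer_iff.1 (hBC hc)) b hb
      have h3 : b * c * b⁻¹ * b = b * c := by group
      have h4 : b * c * b⁻¹ = c := mul_left_cancel (this.trans h3)
      rwa [← h4]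
  have h2 := card_sup_mul_inf_of_normalizes B C hnorm
  have h3 : Nat.card ↥(B ⊓ C) ≤ Nat.card ↥(V ⊓ centralizer (A : Set G)) := by
    apply Subgroup.card_le_of_le
    intro x hx
    obtain ⟨hxB, hxC⟩ := mem_inf.1 hx
    refine mem_inf.2 ⟨(mem_inf.1 hxC).1, ?_⟩
    rw [mem_centralizer_iff]
    intro a ha
    exact comm_of_isMulComm hAc ha (hB hxB)
  show Nat.card B * Nat.card C ≤ Nat.card A * Nat.card ↥(V ⊓ centralizer (A : Set G))
  calc Nat.card B * Nat.card C = Nat.card ↥(B ⊔ C) * Nat.card ↥(B ⊓ C) := h2.symm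
    _ ≤ Nat.card A * Nat.card ↥(V ⊓ centralizer (A : Set G)) := Nat.mul_le_mul h1 h3

/-- The members of `FamA` centralize `V`, once the quadratic best offenders do. -/
theorem famA_centralizes (P : Sylow p G) (V : Subgroup G) [hVn : V.Normal] (hV : IsMulCommutative V) (hVp : IsPGroup p V)
    (hVP : V ≤ (P : Subgroup G))
    (hq : ∀ E : Subgroup G, E ≤ (P : Subgroup G) → IsMulCommutative E → ⁅⁅V, E⁆, E⁆ = ⊥ →
      (∀ B : Subgroup G, B ≤ E → fG V B ≤ fG V E) → E ≤ centralizer (V : Set G)) :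
    ∀ A ∈ FamA (P : Subgroup G), A ≤ centralizer (V : Set G) := by
  intro A hA
  have hAc := hA.2.1
  have hAV : A ≤ normalizer (V : Set G) := by
    rw [normalizer_eq_top_iff.2 hVn]; exact le_top
  have hAab : ⁅A, A⁆ = ⊥ := by
    rw [commutator_eq_bot_iff_le_centralizer, SetLike.le_def]
    intro a ha
    rw [mem_centralizer_iff]
    intro b hb
    exact comm_of_isMulComm hAc hb ha
  have hab : ⁅A, A⁆ ≤ centralizer (V : Set G) := by rw [hAab]; exact bot_le
  have hbest := best_of_famA V hV hVP hA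
  obtain ⟨h1, h2⟩ := best_replacement V A hV hAV hab hbest V le_rfl
  have hAp : IsPGroup p A := P.2.to_le hA.1
  by_contra hne
  have hne' : ⁅V, A⁆ ≠ ⊥ := by
    intro h
    apply hne
    rw [commutator_eq_bot_iff_le_centralizer] at h
    intro a ha
    rw [mem_centralizer_iff]
    intro v hv
    exact ((mem_centralizer_iff.1 (h hv)) a ha).symm
  have hn := replacement_nontrivial' V A hV hAV hab hVp hAp V le_rfl h2 hne'
  apply hn
  set E := A ⊓ centralizer ((⁅V, A⁆ : Subgroup G) : Set G) with hE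
  have hEA : E ≤ A := inf_le_left
  have hquad : ⁅⁅V, E⁆, E⁆ = ⊥ := by
    rw [eq_bot_iff]
    have h3 : ⁅V, E⁆ ≤ ⁅V, A⁆ := Subgroup.commutator_mono le_rfl hEA
    refine (Subgroup.commutator_mono h3 le_rfl).trans ?_
    rw [Subgroup.commutator_le]
    intro w hw e he
    have h4 := (mem_centralizer_iff.1 (mem_inf.1 he).2) w hw
    rw [Subgroup.mem_bot, commutatorElement_eq_one_iff_mul_comm]
    exact h4
  have hEc : IsMulCommutative E := isMulComm_of_forall fun x hx y hy => comm_of_isMulComm hAc (hEA hx) (hEA hy)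
  have hE2 := hq E (hEA.trans hA.1) hEc hquad (fun B hB => by
    rw [h1]
    exact hbest B (hB.trans hEA))
  rw [commutator_eq_bot_iff_le_centralizer]
  intro v hv
  rw [mem_centralizer_iff]
  intro e he
  exact ((mem_centralizer_iff.1 (hE2 he)) v hv).symm

/-- An abelian normal `p`-subgroup: elements of order dividing `p`. -/
def omAb (p : ℕ) (B : Subgroup G) (hB : IsMulCommutative B) : Subgroup G where
  carrier := {x | x ∈ B ∧ x ^ p = 1}
  mul_mem' := by
    rintro a b ⟨ha, ha'⟩ ⟨hb, hb'⟩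
    refine ⟨mul_mem ha hb, ?_⟩
    rw [(show Commute a b from comm_of_isMulComm hB ha hb).mul_pow, ha', hb', one_mul]
  one_mem' := ⟨one_mem _, one_pow _⟩
  inv_mem' := by
    rintro a ⟨ha, ha'⟩
    exact ⟨inv_mem ha, by rw [inv_pow, ha', inv_one]⟩

theorem mem_omAb {B : Subgroup G} {hB : IsMulCommutative B} {x : G} : x ∈ omAb p B hB ↔ x ∈ B ∧ x ^ p = 1 := Iff.rfl

/-- A `p'`-element centralizing `Ω₁(B)` centralizes the abelian `p`-group `B`. -/
theorem centralizes_of_omAb {B : Subgroup G} [hBn : B.Normal] (hB : IsMulCommutative B) (hBp : IsPGroup p B) {x : G}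
    (hx : Nat.Coprime (orderOf x) p) (h : x ∈ centralizer ((omAb p B hB : Subgroup G) : Set G)) :
    x ∈ centralizer (B : Set G) := by
  have hfix : ∀ v ∈ omAb p B hB, x * v * x⁻¹ = v := by
    intro v hv
    have h1 := (mem_centralizer_iff.1 h) v hv
    rw [← h1]
    group
  have key : ∀ e : ℕ, ∀ b ∈ B, b ^ p ^ e = 1 → x * b * x⁻¹ = b := by
    intro e
    induction e with
    | zero =>
      intro b hb h1
      have : b = 1 := by simpa using h1
      subst this
      group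
    | succ e ih =>
      intro b hb h1
      have h2 : x * b ^ p * x⁻¹ = b ^ p := ih _ (pow_mem hb p) (by rw [← pow_mul, ← pow_succ']; exact h1)
      obtain ⟨c, hcdef⟩ : ∃ c : G, c = x * b * x⁻¹ * b⁻¹ := ⟨_, rfl⟩
      have hxb : x * b * x⁻¹ ∈ B := hBn.conj_mem b hb x
      have hc : c ∈ B := by
        rw [hcdef]
        exact mul_mem hxb (inv_mem hb)
      have hcp : c ^ p = 1 := by
        rw [hcdef]
        have e1 : Commute (x * b * x⁻¹) b⁻¹ := comm_of_isMulComm hB hxb (inv_mem hb)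
        rw [e1.mul_pow, conj_pow, h2, inv_pow, mul_inv_cancel]
      have hcfix : x * c * x⁻¹ = c := hfix c ⟨hc, hcp⟩
      have hb2 : x * b * x⁻¹ = c * b := by
        rw [hcdef]
        group
      have hpow : ∀ n : ℕ, x ^ n * b * (x ^ n)⁻¹ = c ^ n * b := by
        intro n
        induction n with
        | zero => simp
        | succ n ihn =>
          have e2 : x ^ (n + 1) * b * (x ^ (n + 1))⁻¹ = x * (x ^ n * b * (x ^ n)⁻¹) * x⁻¹ := by
            rw [pow_succ', mul_inv_rev]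
            simp only [mul_assoc]
          rw [e2, ihn]
          have e3 : x * (c ^ n * b) * x⁻¹ = (x * c ^ n * x⁻¹) * (x * b * x⁻¹) := by group
          have e4 : x * c ^ n * x⁻¹ = c ^ n := by
            rw [← conj_pow, hcfix]
          rw [e3, e4, hb2, pow_succ, mul_assoc]
      have h3 := hpow (orderOf x)
      rw [pow_orderOf_eq_one] at h3
      have h4 : c ^ orderOf x = 1 := by simpa using h3.symm
      have h5 : c = 1 := by
        have h6 := (pow_gcd_eq_one (a := c)).2 ⟨h4, hcp⟩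
        rwa [hx.gcd_eq_one, pow_one] at h6
      have h7 : x * b * x⁻¹ * b⁻¹ = 1 := by rw [← hcdef]; exact h5
      exact mul_inv_eq_one.1 h7
  rw [mem_centralizer_iff]
  intro b hb
  obtain ⟨k, hk⟩ := hBp ⟨b, hb⟩
  have h1 := key k b hb (congrArg Subtype.val hk)
  calc b * x = (x * b * x⁻¹) * x := by rw [h1]
    _ = x * b := by group

/-- `p`-group criterion. -/
theorem centralizer_isP {B : Subgroup G} [hBn : B.Normal] (hB : IsMulCommutative B) (hBp : IsPGroup p B)
    (hCB : IsPGroup p (centralizer (B : Set G))) : IsPGroup p (centralizer ((omAb p B hB : Subgroup G) : Set G)) := by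
  classical
  intro x
  obtain ⟨a, m, hm, hord⟩ := Nat.exists_eq_pow_mul_and_not_dvd (orderOf_pos (x : G)).ne' p (Fact.out : p.Prime).ne_one
  have hp : Nat.Prime p := Fact.out
  let y : G := (x : G) ^ p ^ a
  have hy : y ∈ centralizer ((omAb p B hB : Subgroup G) : Set G) := pow_mem x.2 _
  have hyord : Nat.Coprime (orderOf y) p := by
    have h1 : orderOf y ∣ m := by
      apply orderOf_dvd_of_pow_eq_one
      show ((x : G) ^ p ^ a) ^ m = 1
      rw [← pow_mul, ← hord, pow_orderOf_eq_one]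
    exact (Nat.Coprime.coprime_dvd_left h1 ((Nat.Prime.coprime_iff_not_dvd hp).2 hm).symm)
  have hyC := centralizes_of_omAb hB hBp hyord hy
  obtain ⟨b, hb⟩ := hCB ⟨y, hyC⟩
  have hb' : y ^ p ^ b = 1 := congrArg Subtype.val hb
  have hy1 : y = 1 := by
    have h1 := orderOf_dvd_of_pow_eq_one hb'
    have h2 : orderOf y = 1 := by
      have h3 : Nat.Coprime (orderOf y) (p ^ b) := Nat.Coprime.pow_right b hyord
      exact Nat.Coprime.eq_one_of_dvd h3 h1
    exact orderOf_eq_one_iff.1 h2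
  refine ⟨a, Subtype.ext ?_⟩
  exact hy1


/-- The quadratic best offenders for `p = 2` in an `S₄`-free group. -/
theorem hq_two [Fact (Nat.Prime 2)] (P : Sylow 2 G) (V : Subgroup G) [hVn : V.Normal] (hVe : ∀ v ∈ V, v * v = 1)
    (hVC : centralizer (V : Set G) = pCore 2 G)
    (K : Subgroup G) (hKn : K.Normal) (hDK : pCore 2 G ≤ K) (hab : ∀ x ∈ K, ∀ y ∈ K, ⁅x, y⁆ ∈ pCore 2 G)
    (hKp : ∀ x ∈ K, ∃ m : ℕ, Nat.Coprime m 2 ∧ x ^ m ∈ pCore 2 G) (hGK : ∀ g : G, ∃ n : ℕ, g ^ (2 ^ n) ∈ K)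
    (hfree : ¬ Involves (Equiv.Perm (Fin 4)) G)
    {E : Subgroup G} (hEP : E ≤ (P : Subgroup G)) (hEc : IsMulCommutative E) (hquad : ⁅⁅V, E⁆, E⁆ = ⊥)
    (hbest : ∀ B : Subgroup G, B ≤ E → fG V B ≤ fG V E) : E ≤ centralizer (V : Set G) := by
  classical
  haveI := hKn
  haveI hYn : (pCore 2 G).Normal := pCore_normal 2 G
  by_contra hne
  have hEab : ∀ x ∈ E, ∀ y ∈ E, x * y = y * x := fun x hx y hy => comm_of_isMulComm hEc hx hy
  have hY : ∀ y ∈ pCore 2 G, ∀ v ∈ V, cj y v = v := by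
    intro y hy v hv
    have h1 : y ∈ centralizer (V : Set G) := hVC.ge hy
    have h2 := (mem_centralizer_iff.1 h1) v hv
    show y * v * y⁻¹ = v
    rw [← h2]; group
  have hYmem : ∀ y, (∀ v ∈ V, cj y v = v) → y ∈ pCore 2 G := by
    intro y h
    rw [← hVC, mem_centralizer_iff]
    intro v hv
    have h1 : y * v * y⁻¹ = v := h v hv
    calc v * y = (y * v * y⁻¹) * y := by rw [h1]
      _ = y * v := by group
  let π : G →* G ⧸ pCore 2 G := QuotientGroup.mk' (pCore 2 G)
  have hπ : ∀ x, π x = 1 ↔ x ∈ pCore 2 G := fun x => QuotientGroup.eq_one_iff x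
  have hcong : ∀ x y : G, π x = π y → ∀ v ∈ V, cj x v = cj y v := by
    intro x y h v hv
    have h1 : x⁻¹ * y ∈ pCore 2 G := QuotientGroup.eq.1 h
    have h2 : y = x * (x⁻¹ * y) := by group
    rw [h2, ← cj_comp, hY _ h1 v hv]
  have hfixw : ∀ e ∈ E, ∀ v ∈ V, cj e (v * cj e v) = v * cj e v := by
    intro e he v hv
    have hvi : v⁻¹ = v := inv_eq_of_mul_eq_one_left (hVe v hv)
    have h1 : ⁅v, e⁆ ∈ ⁅V, E⁆ := Subgroup.commutator_mem_commutator hv he
    have h2 : ⁅⁅v, e⁆, e⁆ ∈ ⁅⁅V, E⁆, E⁆ := Subgroup.commutator_mem_commutator h1 he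
    rw [hquad, Subgroup.mem_bot, commutatorElement_eq_one_iff_mul_comm] at h2
    have h3 : ⁅v, e⁆ = v * cj e v := by
      rw [commutatorElement_def, hvi]
      group
    rw [← h3]
    show e * ⁅v, e⁆ * e⁻¹ = ⁅v, e⁆
    rw [← h2]; group
  have hsq : ∀ e ∈ E, e * e ∈ pCore 2 G := by
    intro e he
    apply hYmem
    intro v hv
    rw [← cj_comp]
    have h1 := hfixw e he v hv
    rw [cj_mul_left] at h1
    have h2 : cj e v * cj e (cj e v) = cj e v * v := by
      rw [h1]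
      exact comm_of_exp2 hVe hv (hVn.conj_mem v hv e)
    exact mul_left_cancel h2
  -- the quotient acts
  have hex : ∃ a₀ ∈ E, ∃ y ∈ K, π a₀ * π y ≠ π y * π a₀ := by
    by_contra hcon
    push Not at hcon
    haveI hKmn : (K.map π).Normal := Subgroup.Normal.map inferInstance _ (QuotientGroup.mk'_surjective _)
    let CK : Subgroup G := (centralizer ((K.map π : Subgroup _) : Set (G ⧸ pCore 2 G))).comap π
    haveI hCKn : CK.Normal := Subgroup.Normal.comap Subgroup.normal_centralizer π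
    have hECK : E ≤ CK := by
      intro a ha
      rw [Subgroup.mem_comap, mem_centralizer_iff]
      rintro _ ⟨y, hy, rfl⟩
      exact (hcon a ha y hy).symm
    let D : Subgroup G := (P : Subgroup G) ⊓ CK
    have hPK : (P : Subgroup G) ⊔ K = ⊤ := by
      refine sup_eq_top_of_isPGroup_quotient P K ?_
      rw [isPGroup_iff_pow_pow_eq_one]
      intro y
      obtain ⟨g, rfl⟩ := QuotientGroup.mk_surjective y
      obtain ⟨n, hn⟩ := hGK g
      refine ⟨n, ?_⟩
      rw [← QuotientGroup.mk_pow, QuotientGroup.eq_one_iff]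
      exact hn
    have hDn : D.Normal := by
      refine ⟨fun d hd g => ?_⟩
      have hg : g ∈ (P : Subgroup G) ⊔ K := by rw [hPK]; trivial
      obtain ⟨t, ht, k, hk, rfl⟩ := Subgroup.mem_sup_of_normal_right.1 hg
      refine Subgroup.mem_inf.2 ⟨?_, hCKn.conj_mem d (Subgroup.mem_inf.1 hd).2 _⟩
      have h1 : k * d * k⁻¹ ∈ (P : Subgroup G) := by
        have h2 : π d * π k = π k * π d := (mem_centralizer_iff.1 (Subgroup.mem_inf.1 hd).2) (π k) ⟨k, hk, rfl⟩ |>.symm
        have h3 : d⁻¹ * (k * d * k⁻¹) ∈ pCore 2 G := by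
          rw [← hπ]
          rw [map_mul, map_inv, map_mul, map_mul, map_inv, ← h2]
          group
        have h4 : k * d * k⁻¹ = d * (d⁻¹ * (k * d * k⁻¹)) := by group
        rw [h4]
        exact mul_mem (Subgroup.mem_inf.1 hd).1 (pCore_le_sylow 2 P h3)
      have e : t * k * d * (t * k)⁻¹ = t * (k * d * k⁻¹) * t⁻¹ := by group
      rw [e]
      exact mul_mem (mul_mem ht h1) (inv_mem ht)
    have hDp : IsPGroup 2 D := P.2.to_le inf_le_left
    have hDle : D ≤ pCore 2 G := le_pCore hDn hDp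
    apply hne
    rw [hVC]
    exact fun a ha => hDle ⟨hEP ha, hECK ha⟩
  obtain ⟨a₀, ha₀, y₀, hy₀, hne₀⟩ := hex
  have hN1 : ∀ x ∈ K.map π, ∀ y ∈ K.map π, x * y = y * x := by
    rintro _ ⟨x, hx, rfl⟩ _ ⟨y, hy, rfl⟩
    have h1 := (hπ _).2 (hab x hx y hy)
    rw [commutatorElement_def, map_mul, map_mul, map_mul, map_inv, map_inv] at h1
    have h2 := mul_inv_eq_one.1 h1
    rw [mul_inv_eq_iff_eq_mul] at h2
    exact h2
  have hN2 : ∀ x ∈ K.map π, ∃ m : ℕ, Odd m ∧ x ^ m = 1 := by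
    rintro _ ⟨x, hx, rfl⟩
    obtain ⟨m, hm, hxm⟩ := hKp x hx
    refine ⟨m, Nat.coprime_two_right.1 hm, ?_⟩
    rw [← map_pow]
    exact (hπ _).2 hxm
  have hA1 : ∀ x ∈ E.map π, ∀ y ∈ E.map π, x * y = y * x := by
    rintro _ ⟨x, hx, rfl⟩ _ ⟨y, hy, rfl⟩
    rw [← map_mul, ← map_mul, hEab x hx y hy]
  have hA2 : ∀ a ∈ E.map π, ∀ x ∈ K.map π, a * x * a⁻¹ ∈ K.map π := by
    rintro _ ⟨a, ha, rfl⟩ _ ⟨x, hx, rfl⟩
    refine ⟨a * x * a⁻¹, hKn.conj_mem x hx a, ?_⟩
    rw [map_mul, map_mul, map_inv]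
  have hA3 : ∀ a ∈ E.map π, a * a = 1 := by
    rintro _ ⟨a, ha, rfl⟩
    rw [← map_mul]
    exact (hπ _).2 (hsq a ha)
  obtain ⟨T, hTA, z, hzN, hz1, hazz, hzT, hcov⟩ := exists_eigen (K.map π) (E.map π) hN1 hN2 hA1 hA2 hA3
    (a₀ := π a₀) ⟨a₀, ha₀, rfl⟩ ⟨π y₀, ⟨y₀, hy₀, rfl⟩, hne₀⟩
  obtain ⟨r, hrK, rfl⟩ := hzN
  let E₁ : Subgroup G := E ⊓ T.comap π
  have hE₁E : E₁ ≤ E := inf_le_left
  have hE₁r : ∀ e ∈ E₁, π e * π r = π r * π e := fun e he => hzT _ he.2
  have hE₁p : IsPGroup 2 E₁ := P.2.to_le (hE₁E.trans hEP)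
  have hcomm : ∀ e ∈ E₁, ∀ v ∈ V, cj e (cj r v) = cj r (cj e v) := by
    intro e he v hv
    rw [cj_comp, cj_comp]
    exact hcong _ _ (by rw [map_mul, map_mul]; exact hE₁r e he) v hv
  obtain ⟨m, hm, hrm⟩ := hKp r hrK
  have hmodd : Odd m := Nat.coprime_two_right.1 hm
  have hrmv : ∀ v ∈ V, cj (r ^ m) v = v := fun v hv => hY _ hrm v hv
  have hmov : ∃ v ∈ V, cj r v ≠ v := by
    by_contra hcon
    push Not at hcon
    exact hz1 ((hπ r).2 (hYmem r hcon))
  obtain ⟨v₀, hv₀, hv₀E, hv₀r⟩ := exists_moved hmodd hVe (fun v hv => hVn.conj_mem v hv r) hrmv hE₁p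
    (fun e _ v hv => hVn.conj_mem v hv e) hcomm hmov
  let V₁ : Subgroup G := V ⊓ centralizer (E₁ : Set G)
  have hV₁mem : ∀ v, v ∈ V₁ ↔ v ∈ V ∧ ∀ e ∈ E₁, cj e v = v := by
    intro v
    constructor
    · rintro ⟨h1, h2⟩
      refine ⟨h1, fun e he => ?_⟩
      have h3 := (mem_centralizer_iff.1 h2) e he
      show e * v * e⁻¹ = v
      rw [h3]; group
    · rintro ⟨h1, h2⟩
      refine ⟨h1, mem_centralizer_iff.2 fun e he => ?_⟩
      have h3 : e * v * e⁻¹ = v := h2 e he
      calc e * v = (e * v * e⁻¹) * e := by group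
        _ = v * e := by rw [h3]
  have hrV : ∀ v ∈ V₁, cj r v ∈ V₁ := by
    intro v hv
    obtain ⟨h1, h2⟩ := (hV₁mem v).1 hv
    refine (hV₁mem _).2 ⟨hVn.conj_mem v h1 r, fun e he => ?_⟩
    rw [hcomm e he v h1, h2 e he]
  have hrV' : ∀ v ∈ V₁, cj r⁻¹ v ∈ V₁ := by
    intro v hv
    obtain ⟨h1, h2⟩ := (hV₁mem v).1 hv
    refine (hV₁mem _).2 ⟨hVn.conj_mem v h1 r⁻¹, fun e he => ?_⟩
    have h3 : cj e (cj r⁻¹ v) = cj r⁻¹ (cj e v) := by
      rw [cj_comp, cj_comp]
      refine hcong _ _ ?_ v h1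
      rw [map_mul, map_mul, map_inv]
      have h4 := hE₁r e he
      calc π e * (π r)⁻¹ = (π r)⁻¹ * (π r * π e) * (π r)⁻¹ := by group
        _ = (π r)⁻¹ * (π e * π r) * (π r)⁻¹ := by rw [h4]
        _ = _ := by group
    rw [h3, h2 e he]
  have haV : ∀ v ∈ V₁, cj a₀ v ∈ V₁ := by
    intro v hv
    obtain ⟨h1, h2⟩ := (hV₁mem v).1 hv
    refine (hV₁mem _).2 ⟨hVn.conj_mem v h1 a₀, fun e he => ?_⟩
    rw [cj_comp, hEab e (hE₁E he) a₀ ha₀, ← cj_comp, h2 e he]
  have h3 : ∀ v ∈ V₁, cj a₀ (cj r v) = cj r⁻¹ (cj a₀ v) := by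
    intro v hv
    rw [cj_comp, cj_comp]
    refine hcong _ _ ?_ v ((hV₁mem v).1 hv).1
    rw [map_mul, map_mul, map_inv]
    calc π a₀ * π r = (π a₀ * π r * (π a₀)⁻¹) * π a₀ := by group
      _ = _ := by rw [hazz]
  have hcover : ∀ a ∈ E, a ∈ E₁ ∨ a * a₀⁻¹ ∈ E₁ := by
    intro a ha
    rcases hcov (π a) ⟨a, ha, rfl⟩ with h | h
    · exact Or.inl (Subgroup.mem_inf.2 ⟨ha, h⟩)
    · refine Or.inr (Subgroup.mem_inf.2 ⟨mul_mem ha (inv_mem ha₀), ?_⟩)
      show π (a * a₀⁻¹) ∈ T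
      rw [map_mul, map_inv]
      exact h
  have hcardE : Nat.card E ≤ 2 * Nat.card E₁ := by
    let D₀ : Subgroup E := E₁.subgroupOf E
    have h1 : Nat.card D₀ = Nat.card E₁ := Nat.card_congr (Subgroup.subgroupOfEquivOfLe hE₁E).toEquiv
    have h2 := Subgroup.card_mul_index D₀
    have hidx : D₀.index ≤ 2 := by
      rw [Subgroup.index_eq_card]
      let f : Fin 2 → E ⧸ D₀ := ![((1 : E) : E ⧸ D₀), ((⟨a₀, ha₀⟩ : E) : E ⧸ D₀)]
      have hf : Function.Surjective f := by
        intro q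
        obtain ⟨a, rfl⟩ := QuotientGroup.mk_surjective q
        rcases hcover a a.2 with h | h
        · refine ⟨0, ?_⟩
          show ((1 : E) : E ⧸ D₀) = a
          refine QuotientGroup.eq.2 (Subgroup.mem_subgroupOf.2 ?_)
          simpa using h
        · refine ⟨1, ?_⟩
          show ((⟨a₀, ha₀⟩ : E) : E ⧸ D₀) = a
          refine QuotientGroup.eq.2 (Subgroup.mem_subgroupOf.2 ?_)
          show a₀⁻¹ * (a : G) ∈ E₁
          have e : a₀⁻¹ * (a : G) = a * a₀⁻¹ := hEab _ (inv_mem ha₀) _ a.2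
          rw [e]
          exact h
      have := Nat.card_le_card_of_surjective f hf
      simpa using this
    calc Nat.card E = Nat.card D₀ * D₀.index := h2.symm
      _ ≤ Nat.card D₀ * 2 := Nat.mul_le_mul_left _ hidx
      _ = 2 * Nat.card E₁ := by rw [h1, mul_comm]
  have hb := hbest E₁ hE₁E
  have hCE : Nat.card V₁ ≤ 2 * Nat.card ↥(V ⊓ centralizer (E : Set G)) := by
    unfold fG at hb
    have h1 : 0 < Nat.card E₁ := Nat.card_pos
    have h2 : Nat.card E₁ * Nat.card V₁ ≤ Nat.card E₁ * (2 * Nat.card ↥(V ⊓ centralizer (E : Set G))) := by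
      calc Nat.card E₁ * Nat.card V₁ ≤ Nat.card E * Nat.card ↥(V ⊓ centralizer (E : Set G)) := hb
        _ ≤ (2 * Nat.card E₁) * Nat.card ↥(V ⊓ centralizer (E : Set G)) := Nat.mul_le_mul_right _ hcardE
        _ = _ := by ring
    exact Nat.le_of_mul_le_mul_left h2 h1
  have hVCE : V ⊓ centralizer (E : Set G) ≤ V₁ := inf_le_inf_left _ (Subgroup.centralizer_le hE₁E)
  have h6 : ∀ x ∈ V₁, ∀ y ∈ V₁, cj a₀ x ≠ x → cj a₀ y ≠ y → cj a₀ (x * y) = x * y := by
    intro x hx y hy hxm hym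
    let W₀ : Subgroup V₁ := (V ⊓ centralizer (E : Set G)).subgroupOf V₁
    have h1 : Nat.card W₀ = Nat.card ↥(V ⊓ centralizer (E : Set G)) := Nat.card_congr (Subgroup.subgroupOfEquivOfLe hVCE).toEquiv
    have h2 := Subgroup.card_mul_index W₀
    have hidx : W₀.index ≤ 2 := by
      have h3 : Nat.card W₀ * W₀.index ≤ Nat.card W₀ * 2 := by
        rw [h2, h1, mul_comm _ 2]
        exact hCE
      exact Nat.le_of_mul_le_mul_left h3 Nat.card_pos
    have hW₀cj : ∀ u : V₁, u ∈ W₀ → cj a₀ (u : G) = u := by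
      intro u hu
      have h3 : (u : G) ∈ V ⊓ centralizer (E : Set G) := Subgroup.mem_subgroupOf.1 hu
      have h4 := (mem_centralizer_iff.1 h3.2) a₀ ha₀
      show a₀ * (u : G) * a₀⁻¹ = u
      rw [h4]; group
    have hxW : (⟨x, hx⟩ : V₁) ∉ W₀ := fun h => hxm (hW₀cj _ h)
    have hyW : (⟨y, hy⟩ : V₁) ∉ W₀ := fun h => hym (hW₀cj _ h)
    have hidx2 : W₀.index = 2 := by
      have h0 : W₀.index ≠ 0 := Subgroup.index_ne_zero_of_finite
      have h1' : W₀.index ≠ 1 := fun h => hxW (by rw [Subgroup.index_eq_one.1 h]; trivial)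
      omega
    have hmul := (Subgroup.mul_mem_iff_of_index_two hidx2).2 (iff_of_false hxW hyW)
    exact hW₀cj _ hmul
  exact hfree (s4_prod hmodd (fun v hv => hVe v ((hV₁mem v).1 hv).1) hrV hrV' haV (fun v hv => hrmv v ((hV₁mem v).1 hv).1) h3
    ⟨v₀, (hV₁mem _).2 ⟨hv₀, hv₀E⟩, hv₀r⟩ h6)

/-- The quadratic best offenders for stable groups. -/
theorem hq_odd (hst : Stab p G) (V : Subgroup G) (hVn : V.Normal) (hVp : IsPGroup p V)
    (hVC : centralizer (V : Set G) = pCore p G)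
    {E : Subgroup G} (hEp : IsPGroup p E) (hquad : ⁅⁅V, E⁆, E⁆ = ⊥) : E ≤ centralizer (V : Set G) := by
  obtain ⟨M, hMn, hCM, ⟨k, hk⟩, hM⟩ := hst V hVn hVp
  have hEM := hM E hEp hquad
  have hCp : IsPGroup p (centralizer (V : Set G)) := by
    rw [hVC]
    exact pCore_isPGroup p
  have hMp : IsPGroup p M := by
    obtain ⟨j, hj⟩ := IsPGroup.iff_card.1 hCp
    rw [IsPGroup.iff_card]
    refine ⟨j + k, ?_⟩
    rw [← card_mul_relIndex' _ _ hCM, hj, hk, pow_add]
  have hMle := le_pCore hMn hMp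
  rw [hVC]
  exact hEM.trans hMle

/-- **The Thompson-type theorem for groups.** -/
theorem thom_group (P : Sylow p G)
    (hi : ∀ H : Subgroup G, (P : Subgroup G) ≤ H → H ≠ ⊤ → HasNormalPComplement p ↥H)
    (hO : pPrimeCore p G = ⊥) (hbar : HasNormalPComplement p (G ⧸ pCore p G))
    (hfree : p ≠ 2 ∨ ¬ Involves (Equiv.Perm (Fin 4)) G)
    (hZ : HasNormalPComplement p ↥(centralizer (((P : Subgroup G) ⊓ centralizer ((P : Subgroup G) : Set G) : Subgroup G) : Set G)))
    (hJ : HasNormalPComplement p ↥(normalizer ((thompsonSubgroupAOf (P : Subgroup G) : Subgroup G) : Set G))) :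
    HasNormalPComplement p G := by
  classical
  obtain ⟨hc, K, hKn, hDK, hab, hKp, hGK⟩ := struct_v P hi hO hbar
  haveI := hKn
  haveI hDn : (pCore p G).Normal := pCore_normal p G
  have hDp : IsPGroup p (pCore p G) := pCore_isPGroup p
  have hDP : pCore p G ≤ (P : Subgroup G) := pCore_le_sylow p P
  obtain ⟨B, hBdef⟩ : ∃ B : Subgroup G, B = pCore p G ⊓ centralizer ((pCore p G : Subgroup G) : Set G) := ⟨_, rfl⟩
  haveI hCDn : (centralizer ((pCore p G : Subgroup G) : Set G)).Normal := Subgroup.normal_centralizer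
  haveI hBn : B.Normal := by
    rw [hBdef]
    infer_instance
  have hBD : B ≤ pCore p G := by rw [hBdef]; exact inf_le_left
  have hBC : B ≤ centralizer ((pCore p G : Subgroup G) : Set G) := by rw [hBdef]; exact inf_le_right
  have hBab : IsMulCommutative B := isMulComm_of_forall fun x hx y hy => (mem_centralizer_iff.1 (hBC hy)) x (hBD hx)
  have hBp : IsPGroup p B := hDp.to_le hBD
  have hZB : (P : Subgroup G) ⊓ centralizer ((P : Subgroup G) : Set G) ≤ B := by
    intro z hz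
    have h1 : z ∈ centralizer ((pCore p G : Subgroup G) : Set G) := Subgroup.centralizer_le hDP hz.2
    rw [hBdef]
    exact ⟨hc h1, h1⟩
  have hCB1 : centralizer (B : Set G) ≤ centralizer (((P : Subgroup G) ⊓ centralizer ((P : Subgroup G) : Set G) : Subgroup G) : Set G) :=
    Subgroup.centralizer_le hZB
  haveI hCn : (centralizer (B : Set G)).Normal := Subgroup.normal_centralizer
  have hNPC : HasNormalPComplement p ↥(centralizer (B : Set G)) :=
    npc_of_injective (Subgroup.inclusion hCB1) (Subgroup.inclusion_injective _) hZ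
  have hCBp : IsPGroup p (centralizer (B : Set G)) := by
    obtain ⟨N, hNn, hNc, hNq⟩ := hasNormalPComplement_iff.1 hNPC
    haveI := hNn
    have hNle : N ≤ pPrimeCore p ↥(centralizer (B : Set G)) := le_pPrimeCore hNn hNc
    haveI : (pPrimeCore p ↥(centralizer (B : Set G))).Characteristic := Cfsg.Agent.Lib.Comp2.pPrimeCore_char p
    have hmapn := normal_map_of_characteristic (centralizer (B : Set G)) (pPrimeCore p ↥(centralizer (B : Set G)))
    have hmapc : Nat.Coprime (Nat.card ↥((pPrimeCore p ↥(centralizer (B : Set G))).map (centralizer (B : Set G)).subtype)) p := by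
      rw [Subgroup.card_map_of_injective (centralizer (B : Set G)).subtype_injective]
      exact pPrimeCore_coprime p
    have hle := le_pPrimeCore hmapn hmapc
    rw [hO] at hle
    have hN1 : ∀ x ∈ N, x = 1 := by
      intro x hx
      have h1 : (x : G) ∈ (⊥ : Subgroup G) := hle ⟨x, hNle hx, rfl⟩
      exact Subtype.ext (Subgroup.mem_bot.1 h1)
    intro x
    obtain ⟨k, hk⟩ := (isPGroup_iff_pow_pow_eq_one.1 hNq) ((x : ↥(centralizer (B : Set G))) : ↥(centralizer (B : Set G)) ⧸ N)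
    refine ⟨k, ?_⟩
    rw [← QuotientGroup.mk_pow, QuotientGroup.eq_one_iff] at hk
    exact hN1 _ hk
  -- `V`
  obtain ⟨V, hVdef⟩ : ∃ V : Subgroup G, V = omAb p B hBab := ⟨_, rfl⟩
  have hVB : V ≤ B := by
    rw [hVdef]
    exact fun x hx => hx.1
  have hVpow : ∀ v ∈ V, v ^ p = 1 := by
    rw [hVdef]
    exact fun x hx => hx.2
  haveI hVn : V.Normal := by
    refine ⟨fun v hv g => ?_⟩
    rw [hVdef]
    refine ⟨hBn.conj_mem v (hVB hv) g, ?_⟩
    rw [conj_pow, hVpow v hv]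
    group
  have hVab : IsMulCommutative V := isMulComm_of_forall fun x hx y hy => comm_of_isMulComm hBab (hVB hx) (hVB hy)
  have hVp : IsPGroup p V := hBp.to_le hVB
  have hVC : centralizer (V : Set G) = pCore p G := by
    apply le_antisymm
    · refine le_pCore Subgroup.normal_centralizer ?_
      rw [hVdef]
      exact centralizer_isP hBab hBp hCBp
    · intro d hd
      rw [mem_centralizer_iff]
      intro v hv
      exact ((mem_centralizer_iff.1 (hBC (hVB hv))) d hd).symm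
  have hVP : V ≤ (P : Subgroup G) := (hVB.trans hBD).trans hDP
  have hq : ∀ E : Subgroup G, E ≤ (P : Subgroup G) → IsMulCommutative E → ⁅⁅V, E⁆, E⁆ = ⊥ →
      (∀ B : Subgroup G, B ≤ E → fG V B ≤ fG V E) → E ≤ centralizer (V : Set G) := by
    intro E hEP hEc hquad hbest
    by_cases hp2 : p = 2
    · subst hp2
      have hf : ¬ Involves (Equiv.Perm (Fin 4)) G := by
        rcases hfree with h | h
        · exact absurd rfl h
        · exact h
      refine hq_two P V (fun v hv => ?_) hVC K hKn hDK hab hKp hGK hf hEP hEc hquad hbest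
      rw [← pow_two]
      exact hVpow v hv
    · exact hq_odd (stab_of_structure hp2 K hDK hab hKp hGK) V hVn hVp hVC (P.2.to_le hEP) hquad
  have hall := famA_centralizes P V hVab hVp hVP hq
  rw [hVC] at hall
  have hJtop : normalizer ((thompsonSubgroupAOf (P : Subgroup G) : Subgroup G) : Set G) = ⊤ := by
    rw [eq_top_iff]
    intro g _
    rw [thompsonAOf_eq]
    refine mem_normalizer_sSup (FamA (P : Subgroup G)) (P : Subgroup G) (famA_conj (P : Subgroup G)) g (fun A hA => ?_)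
    rintro _ ⟨a, ha, rfl⟩
    exact hDP (hDn.conj_mem a (hall A hA ha) g)
  exact npc_of_normalizer_top (normalizer_eq_top_iff.1 hJtop) hJ

end Structure

end Cfsg.Agent.Lib.PThom
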