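import Mathlib
import Cfsg.Agent.Lib.FusGT5
import Cfsg.Agent.Lib.FusAxGT
import Cfsg.Agent.Lib.FusFree
import Cfsg.Agent.Lib.FusQuot3
import Cfsg.Agent.Lib.PThom
import Cfsg.Agent.S5097
import Cfsg.Agent.S5272
import Cfsg.Agent.S5275
import Cfsg.Agent.Lib.FusSubModel

/-! The Thompson-type theorem for fusion systems: for `p` odd or `S₄`-free systems, a non-inner saturated system has a non-`p`-automorphism
centralizing `Z(S)` or normalizing `J(S)`. -/

set_option autoImplicit false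
set_option linter.unusedSectionVars false
set_option linter.unusedVariables false

namespace Cfsg.Agent.Lib.FusT

open Cfsg Cfsg.FusionSystem
open Cfsg.Agent.Lib.FusBasic Cfsg.Agent.Lib.FusSat Cfsg.Agent.Lib.FusAlp Cfsg.Agent.Lib.FusAut Cfsg.Agent.Lib.FusGT
open Cfsg.Agent.Lib.FusFactor Cfsg.Agent.Lib.FusLift Cfsg.Agent.Lib.FusSurj Cfsg.Agent.Lib.FusReal Cfsg.Agent.Lib.FusReal2 Cfsg.Agent.Lib.FusFree
open Cfsg.Agent.Lib.FusNorm Cfsg.Agent.Lib.FusKNorm Cfsg.Agent.Lib.FusAxGT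

universe u

variable {p : ℕ} [Fact p.Prime] {Ω : Type u} [Group Ω] {S : Subgroup Ω} [Finite S] {F : FusionSystem S}

/-- Section-freeness can be tested on radical subgroups. -/
theorem free_of_radical {H : Type*} [Group H] (hS : IsPGroup p S) (hF : F.IsSaturated p)
    (h : ∀ Q : Subgroup Ω, F.IsFullyNormalized Q → F.IsCentric Q → F.IsRadical p Q → ∀ N : FusionSystem (normalizerIn S Q),
      F.IsNormalizerSystem Q N → ∀ (L : Type u) [Group L] (ι : ↥(normalizerIn S Q) →* L), N.IsModel p L ι → ¬ Involves H L) :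
    F.IsSectionFree p H := by
  classical
  have main : ∀ (n : ℕ) (Q : Subgroup Ω), Nat.card S - Nat.card Q = n → F.IsFullyNormalized Q → F.IsCentric Q →
      ∀ N : FusionSystem (normalizerIn S Q), F.IsNormalizerSystem Q N → ∀ (L : Type u) [Group L]
        (ι : ↥(normalizerIn S Q) →* L), N.IsModel p L ι → ¬ Involves H L := by
    intro n
    induction n using Nat.strong_induction_on with
    | _ n ih =>
      intro Q hn hFN hCen N hN L _ ι hM
      by_cases hRad : F.IsRadical p Q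
      · exact h Q hFN hCen hRad N hN L ι hM
      · have hQS := hFN.1
        haveI : Finite ↥(normalizerIn S Q) := finite_of_le inf_le_left
        have hT : IsPGroup p ↥(normalizerIn S Q) := hS.to_le inf_le_left
        have hNsat : N.IsSaturated p := saturated_normalizer hS hF hFN hN
        obtain ⟨hfin, hr, ⟨T₀, hT₀⟩, hC⟩ := id hM
        haveI := hfin
        have hQn : N.IsNormal Q := normal_in_normalizer hQS hN
        have hR : N.IsNormal (coreOf p ι) := isNormal_coreOf hr T₀ hT₀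
        have hQR : Q ≤ coreOf p ι := normal_le_coreOf hr T₀ hT₀ hC hT hQn
        have hne : coreOf p ι ≠ Q := fun e => hRad (radical_of_core hS hQS hN hM e)
        have hRS : coreOf p ι ≤ S := coreOf_le.trans inf_le_left
        have hFc : F.IsCentric (coreOf p ι) := centric_of_le hCen hQR hRS
        obtain ⟨R', hconj, hFN'⟩ := exists_fullyNormalized_conj F hRS
        have hCen' := centric_conj hFc hconj
        have hFA := fullyAutomized_of_fullyNormalized hS F hF hFN'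
        have hRec := receptive_of_fullyNormalized hS F hF hFN'
        obtain ⟨ψ, hψ, hψv, hψR⟩ := exists_map_normalizer hS F hFA hRec hconj
        have hcard1 : Nat.card R' = Nat.card ↥(coreOf p ι) := (isConj_card F hconj).symm
        haveI : Finite ↥(coreOf p ι) := finite_of_le hRS
        have hcard2 : Nat.card Q < Nat.card ↥(coreOf p ι) := by
          refine lt_of_le_of_ne (Subgroup.card_le_of_le hQR) (fun e => hne ?_)
          exact (Subgroup.eq_of_le_of_card_ge hQR e.ge).symm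
        have hcard3 : Nat.card R' ≤ Nat.card S := Subgroup.card_le_of_le hFN'.1
        refine free_transfer hS hF inf_le_left hNsat (fun P φ hφ => ?_) hR hFN' (hCen'.2 _ (isConj_refl F hFN'.1)) hψ hψv hψR
          (fun M hM' L₂ _ ι₂ hM₂ => ih _ ?_ R' rfl hFN' hCen' M hM' L₂ ι₂ hM₂) hM
        · rw [hN] at hφ
          exact hφ.1
        · omega
  intro Q hFN hCen N hN L _ ι hM
  exact main _ Q rfl hFN hCen N hN L ι hM

/-- Normalizer systems inherit section-freeness. -/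
theorem free_normalizer {H : Type*} [Group H] (hS : IsPGroup p S) (hF : F.IsSaturated p) (hfree : F.IsSectionFree p H)
    {Q : Subgroup Ω} (hQ : F.IsFullyNormalized Q) {N : FusionSystem (normalizerIn S Q)} (hN : F.IsNormalizerSystem Q N) :
    N.IsSectionFree p H := by
  classical
  have hQS := hQ.1
  haveI : Finite ↥(normalizerIn S Q) := finite_of_le inf_le_left
  have hT : IsPGroup p ↥(normalizerIn S Q) := hS.to_le inf_le_left
  have hNsat := saturated_normalizer hS hF hQ hN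
  have hQn : N.IsNormal Q := normal_in_normalizer hQS hN
  refine free_of_radical hT hNsat (fun R hRFN hRC hRR M hM L _ ι hLM => ?_)
  have hQR : Q ≤ R := normal_le_of_radical hT N hQn hRR (hRC.2 _ (isConj_refl N hRC.1))
  have hFc : F.IsCentric R := centric_of_normalizer hS hF hQ hN hQR hRC
  have hRS := hFc.1
  obtain ⟨R', hconj, hFN'⟩ := exists_fullyNormalized_conj F hRS
  have hCen' := centric_conj hFc hconj
  have hFA := fullyAutomized_of_fullyNormalized hS F hF hFN'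
  have hRec := receptive_of_fullyNormalized hS F hF hFN'
  obtain ⟨ψ, hψ, hψv, hψR⟩ := exists_map_normalizer hS F hFA hRec hconj
  have hMsat := saturated_normalizer hT hNsat hRFN hM
  have hMR : M.IsNormal R := normal_in_normalizer hRC.1 hM
  refine free_transfer hS hF (T := normalizerIn (normalizerIn S Q) R) (fun x hx => hx.1.1) hMsat ?_ hMR hFN' (hCen'.2 _ (isConj_refl F hFN'.1)) hψ hψv hψR
    (fun M' hM' L₂ _ ι₂ hM₂ => hfree R' hFN' hCen' M' hM' L₂ ι₂ hM₂) hLM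
  intro P φ hφ
  rw [hM] at hφ
  have h1 := hφ.1
  rw [hN] at h1
  exact h1.1

/-- the condition on the prime -/
def Free (p : ℕ) (F : FusionSystem S) : Prop := p ≠ 2 ∨ F.IsSectionFree p (Equiv.Perm (Fin 4))

theorem free_normalizer_sys (hS : IsPGroup p S) (hF : F.IsSaturated p) {Q : Subgroup Ω} (hQ : F.IsFullyNormalized Q)
    {N : FusionSystem (normalizerIn S Q)} (hN : F.IsNormalizerSystem Q N) (h : Free p F) : Free p N := by
  rcases h with h | h
  · exact Or.inl h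
  · exact Or.inr (free_normalizer hS hF h hQ hN)

theorem free_factor_sys {Ω' : Type u} [Group Ω'] {S' : Subgroup Ω'} {θ : S →* Ω'} {E : FusionSystem S'} {Q : Subgroup Ω}
    (hS : IsPGroup p S) (hF : F.IsSaturated p) (hQ : F.IsNormal Q) (h : Free p F) (hE : F.IsFactorSystem Q θ E) : Free p E := by
  rcases h with h | h
  · exact Or.inl h
  · exact Or.inr (FusQuot.factor_free hS hF hQ h hE)

/-- `Z(S)` -/
abbrev ZS (S : Subgroup Ω) : Subgroup Ω := S ⊓ Subgroup.centralizer (S : Set Ω)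

/-- `J(S)` -/
abbrev JS (S : Subgroup Ω) : Subgroup Ω := thompsonSubgroupAOf S

/-- a non-`p`-automorphism centralizing `U` -/
def BadC (F : FusionSystem S) (p : ℕ) (U : Subgroup Ω) : Prop :=
  ∃ W : Subgroup Ω, U ≤ W ∧ W ≤ S ∧ ∃ α ∈ F.autGroup W, ¬ IsPEl p α ∧ ∀ x : W, (x : Ω) ∈ U → ((α x : W) : Ω) = x

theorem zs_le (T : Subgroup Ω) : ZS T ≤ T := inf_le_left

theorem le_normalizer_zs (T : Subgroup Ω) : T ≤ Subgroup.normalizer (ZS T : Set Ω) := by
  intro t ht
  rw [Subgroup.mem_normalizer_iff]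
  intro z
  constructor
  · intro hz
    have h1 := (Subgroup.mem_centralizer_iff.1 hz.2) t ht
    have h2 : t * z * t⁻¹ = z := by rw [h1]; group
    rw [h2]
    exact hz
  · intro hz
    have h1 := (Subgroup.mem_centralizer_iff.1 hz.2) t ht
    have h2 : t * (t * z * t⁻¹) * t⁻¹ = t * z * t⁻¹ := by
      rw [h1]
      group
    have h3 : t * z * t⁻¹ = z := by
      have h4 := mul_left_cancel (mul_right_cancel h2)
      exact h4
    rwa [h3] at hz

theorem BadC.toBad {T : Subgroup Ω} {E : FusionSystem T} (h : BadC E p (ZS T)) : Bad E p (ZS T) := by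
  obtain ⟨W, h1, h2, α, hα, hnp, hfix⟩ := h
  refine ⟨W, h1, fun w hw => ⟨h2 hw, le_normalizer_zs T (h2 hw)⟩, α, hα, hnp, fun x hx => ?_⟩
  rw [hfix x hx]
  exact hx

theorem zs_ne_bot {T : Subgroup Ω} [Finite T] (hT : IsPGroup p T) (hne : T ≠ ⊥) : ZS T ≠ ⊥ := by
  haveI : Nontrivial T := (Subgroup.nontrivial_iff_ne_bot _).2 hne
  haveI := hT.center_nontrivial
  obtain ⟨c, hc⟩ := exists_ne (1 : Subgroup.center T)
  intro h
  apply hc
  have hmem : (((c : T) : Ω)) ∈ ZS T := by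
    refine ⟨(c : T).2, Subgroup.mem_centralizer_iff.2 fun t ht => ?_⟩
    have h1 := (Subgroup.mem_center_iff.1 c.2) ⟨t, ht⟩
    exact congrArg Subtype.val h1
  rw [h, Subgroup.mem_bot] at hmem
  exact Subtype.ext (Subtype.ext hmem)

theorem conj_map_self {T : Subgroup Ω} {g : Ω} (hg : g ∈ Subgroup.normalizer (T : Set Ω)) : T.map (MulAut.conj g).toMonoidHom = T := by
  ext y
  constructor
  · rintro ⟨x, hx, rfl⟩
    exact (Subgroup.mem_normalizer_iff.1 hg x).1 hx
  · intro hy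
    refine ⟨g⁻¹ * y * g, ?_, by simp [mul_assoc]⟩
    have := (Subgroup.mem_normalizer_iff.1 (Subgroup.inv_mem _ hg) y).1 hy
    simpa using this

theorem mem_normalizer_of_map {T : Subgroup Ω} {g : Ω} (h : T.map (MulAut.conj g).toMonoidHom = T) : g ∈ Subgroup.normalizer (T : Set Ω) := by
  rw [Subgroup.mem_normalizer_iff]
  intro x
  constructor
  · intro hx
    rw [← h]
    exact ⟨x, hx, rfl⟩
  · intro hx
    have h1 : g * x * g⁻¹ ∈ T.map (MulAut.conj g).toMonoidHom := by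
      rw [h]
      exact hx
    obtain ⟨y, hy, hye⟩ := h1
    have : y = x := by
      have h2 : g * y * g⁻¹ = g * x * g⁻¹ := hye
      exact mul_left_cancel (mul_right_cancel h2)
    rwa [← this]

theorem zs_normalized {T : Subgroup Ω} [Finite T] {g : Ω} (hg : g ∈ Subgroup.normalizer (T : Set Ω)) :
    g ∈ Subgroup.normalizer (ZS T : Set Ω) := by
  haveI : Finite ↥(ZS T) := finite_of_le inf_le_left
  refine mem_normalizer_of_conj_le' fun z hz => ?_
  refine ⟨(Subgroup.mem_normalizer_iff.1 hg z).1 hz.1, Subgroup.mem_centralizer_iff.2 fun t ht => ?_⟩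
  have ht' : g⁻¹ * t * g ∈ T := by
    have := (Subgroup.mem_normalizer_iff.1 (Subgroup.inv_mem _ hg) t).1 ht
    simpa using this
  have h1 := (Subgroup.mem_centralizer_iff.1 hz.2) _ ht'
  calc t * (g * z * g⁻¹) = g * ((g⁻¹ * t * g) * z) * g⁻¹ := by group
    _ = g * (z * (g⁻¹ * t * g)) * g⁻¹ := by rw [h1]
    _ = g * z * g⁻¹ * t := by group

theorem js_normalized {T : Subgroup Ω} {g : Ω} (hg : g ∈ Subgroup.normalizer (T : Set Ω)) :
    g ∈ Subgroup.normalizer (JS T : Set Ω) := by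
  refine mem_normalizer_of_map ?_
  have h1 := conj_map_self hg
  have h2 := PZJ.thompsonAOf_map (MulAut.conj g).toMonoidHom T (fun x _ hx => by
    have : g * x * g⁻¹ = 1 := hx
    have h3 : g * x = g := by rwa [mul_inv_eq_one] at this
    exact mul_eq_left.1 h3)
  rw [h1] at h2
  exact h2.symm

theorem js_ne_bot {T : Subgroup Ω} [Finite T] (hT : IsPGroup p T) (hne : T ≠ ⊥) : JS T ≠ ⊥ := by
  intro h
  apply zj_ne_bot hT hne
  rw [eq_bot_iff, ← h]
  exact inf_le_left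

/-- The induction statement. -/
def TStmt (p n : ℕ) : Prop :=
  ∀ (Ω : Type u) [Group Ω] (S : Subgroup Ω) [Finite S] (hS : IsPGroup p S) (F : FusionSystem S) (hF : F.IsSaturated p),
    Nat.card S < n → Free p F → ¬ Inner F → BadC F p (ZS S) ∨ Bad F p (JS S)

/-- going up, for a given bad subgroup of the normalizer system. -/
theorem step_up₂ {Q : Subgroup Ω} (hS : IsPGroup p S) (hF : F.IsSaturated p) (hQ : F.IsFullyNormalized Q) (hne : normalizerIn S Q ≠ S)
    {E : FusionSystem (normalizerIn S Q)} (hE : F.IsNormalizerSystem Q E)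
    {U : Subgroup Ω} (hU1 : U ≠ ⊥) (hUT : U ≤ normalizerIn S Q) (hUn : Subgroup.normalizer (normalizerIn S Q : Set Ω) ≤ Subgroup.normalizer (U : Set Ω))
    (hb2 : Bad E p U) :
    ∃ Y : Subgroup Ω, Y ≠ ⊥ ∧ F.IsFullyNormalized Y ∧ Bad F p Y ∧ Nat.card ↥(normalizerIn S Q) < Nat.card ↥(normalizerIn S Y) := by
  classical
  have hQS := hQ.1
  haveI hTfin : Finite ↥(normalizerIn S Q) := finite_normalizerIn Q
  have hpT : IsPGroup p ↥(normalizerIn S Q) := hS.to_le inf_le_left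
  have hb3 : Bad F p U := hb2.mono inf_le_left (normalizerSystem_sub hE)
  have hUS : U ≤ S := hUT.trans inf_le_left
  obtain ⟨Y, hY, hYFN⟩ := exists_fullyNormalized_conj F hUS
  have h₁ := fullyAutomized_of_fullyNormalized hS F hF hYFN
  have h₂ := receptive_of_fullyNormalized hS F hF hYFN
  obtain ⟨φ, hφ, hv, hm⟩ := exists_map_normalizer hS F h₁ h₂ hY
  refine ⟨Y, ?_, hYFN, hb3.transport hφ hv hm, ?_⟩
  · intro h
    apply hU1
    have := isConj_card F hY
    rw [h, Subgroup.card_bot] at this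
    exact Subgroup.card_eq_one.1 this
  · haveI := finite_normalizerIn (S := S) Y
    haveI := finite_normalizerIn (S := S) U
    have h3 : Nat.card ↥(normalizerIn S U) ≤ Nat.card ↥(normalizerIn S Y) := by
      refine Nat.card_le_card_of_injective (fun x => (⟨φ x, hv x⟩ : ↥(normalizerIn S Y))) ?_
      intro a b hab
      exact inj F hφ (congrArg (fun t : ↥(normalizerIn S Y) => (t : Ω)) hab)
    refine lt_of_lt_of_le ?_ h3
    obtain ⟨g, hgS, hgT, hgn⟩ := exists_normalizer_gt hS (inf_le_left : normalizerIn S Q ≤ S) hne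
    refine card_lt_of_le_of_ne ?_ ?_
    · intro t ht
      exact ⟨(inf_le_left : normalizerIn S Q ≤ S) ht, hUn (Subgroup.le_normalizer ht)⟩
    · intro h
      apply hgT
      exact h.ge ⟨hgS, hUn hgn⟩

set_option maxHeartbeats 400000 in
/-- The automorphisms of subgroups containing `Q` are `p`-elements modulo `Q`, under the maximality of `Q`. -/
theorem core_mod_T (hIH : TStmt.{u} p (Nat.card S)) (hFree : Free p F)
    (hS : IsPGroup p S) (hF : F.IsSaturated p) {Q : Subgroup Ω} (hQS : Q ≤ S) (hQ1 : Q ≠ ⊥)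
    (hSN : S ≤ Subgroup.normalizer (Q : Set Ω))
    (hmax : ∀ V : Subgroup Ω, Q < V → V ≤ S → S ≤ Subgroup.normalizer (V : Set Ω) → ¬ Bad F p V)
    {U : Subgroup Ω} (hQU : Q ≤ U) (hUS : U ≤ S) {α : MulAut U} (hα : α ∈ F.autGroup U)
    (hinv : ∀ x : U, (x : Ω) ∈ Q → ((α x : U) : Ω) ∈ Q) :
    ∃ k : ℕ, ∀ x : U, (x : Ω)⁻¹ * (((α ^ p ^ k) x : U) : Ω) ∈ Q := by
  classical
  obtain ⟨E, hE⟩ := Cfsg.Agent.S5096.result F Q hQS
  have hFN : F.IsFullyNormalized Q := fn_of_normalized hQS hSN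
  have hTS : normalizerIn S Q = S := normalizerIn_eq hSN
  haveI hTfin : Finite ↥(normalizerIn S Q) := finite_normalizerIn Q
  have hpT : IsPGroup p ↥(normalizerIn S Q) := hS.to_le inf_le_left
  have hEsat : E.IsSaturated p := FusKNorm.saturated_normalizer hS hF hFN hE
  have hsc : E.StronglyClosed Q := stronglyClosed_of_normal E (normal_in_normalizer hQS hE)
  have hQT : Q ≤ normalizerIn S Q := fun x hx => ⟨hQS hx, Subgroup.le_normalizer hx⟩
  haveI hQ'n : (Q.subgroupOf (normalizerIn S Q)).Normal := by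
    refine ⟨fun n hn g => ?_⟩
    exact (Subgroup.mem_normalizer_iff.1 (mem_normalizerIn.1 g.2).2 _).1 hn
  let θ : ↥(normalizerIn S Q) →* (↥(normalizerIn S Q) ⧸ Q.subgroupOf (normalizerIn S Q)) := QuotientGroup.mk' _
  have hθ : ∀ s : ↥(normalizerIn S Q), θ s = 1 ↔ (s : Ω) ∈ Q := fun s => by
    have : θ s = ((s : ↥(normalizerIn S Q)) : ↥(normalizerIn S Q) ⧸ Q.subgroupOf (normalizerIn S Q)) := rfl
    rw [this, QuotientGroup.eq_one_iff]
    exact Subgroup.mem_subgroupOf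
  have hr : θ.range = ⊤ := MonoidHom.range_eq_top.2 (QuotientGroup.mk'_surjective _)
  obtain ⟨E', hfac⟩ := exists_factor E hsc θ hθ hr
  have hsurj : E.IsSurjectiveMorphism E' θ := factor_morphism hpT E hEsat hsc θ E' hfac
  have hE'sat : E'.IsSaturated p := saturated_image hpT E E' θ hEsat hsurj
  have hpQ : IsPGroup p (↥(normalizerIn S Q) ⧸ Q.subgroupOf (normalizerIn S Q)) := hpT.to_quotient _
  have hp' : IsPGroup p ↥(⊤ : Subgroup (↥(normalizerIn S Q) ⧸ Q.subgroupOf (normalizerIn S Q))) := hpQ.to_subgroup ⊤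
  have hcard : Nat.card ↥(⊤ : Subgroup (↥(normalizerIn S Q) ⧸ Q.subgroupOf (normalizerIn S Q))) < Nat.card S := by
    rw [Subgroup.card_top]
    have h1 := Subgroup.card_eq_card_quotient_mul_card_subgroup (Q.subgroupOf (normalizerIn S Q))
    have h2 : Nat.card ↥(normalizerIn S Q) = Nat.card S := by rw [hTS]
    rw [h2] at h1
    have h3 : 1 < Nat.card ↥(Q.subgroupOf (normalizerIn S Q)) := by
      haveI : Finite Q := finite_of_le hQS
      have h4 : Nat.card ↥(Q.subgroupOf (normalizerIn S Q)) = Nat.card Q := Nat.card_congr (Subgroup.subgroupOfEquivOfLe hQT).toEquiv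
      rw [h4]
      haveI : Nontrivial Q := (Subgroup.nontrivial_iff_ne_bot _).2 hQ1
      exact Finite.one_lt_card
    have h5 : 0 < Nat.card S := Nat.card_pos
    have h6 : 0 < Nat.card (↥(normalizerIn S Q) ⧸ Q.subgroupOf (normalizerIn S Q)) := Nat.card_pos
    nlinarith
  by_cases hI : Inner E'
  · -- the factor system is inner
    have hαE := mem_E_autGroup hE hQU (by rw [hTS]; exact hUS) hα hinv
    have hUT : U ≤ normalizerIn S Q := by rw [hTS]; exact hUS
    have hm := (mem_autGroup_iff E hUT).1 hαE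
    obtain ⟨φ', hφ', hP, hv, hP', he⟩ := hsurj.1.2 U _ hm
    rw [hI] at hφ'
    obtain ⟨-, t, ht, htx⟩ := hφ'
    obtain ⟨k, hk⟩ := hp' ⟨t, ht⟩
    have hk' : t ^ p ^ k = 1 := by simpa using congrArg Subtype.val hk
    refine ⟨k, fun x => ?_⟩
    have hstep : ∀ y : U, θ ⟨(α y : U), hP (α y).2⟩ = t * θ ⟨y, hP y.2⟩ * t⁻¹ := by
      intro y
      have h1 := he y
      have h2 := htx ⟨θ ⟨y, hP y.2⟩, hP' y⟩
      rw [h1] at h2
      exact h2
    have hpow : ∀ n : ℕ, ∀ y : U, θ ⟨((α ^ n) y : U), hP ((α ^ n) y).2⟩ = t ^ n * θ ⟨y, hP y.2⟩ * (t ^ n)⁻¹ := by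
      intro n
      induction n with
      | zero => intro y; simp
      | succ n ih =>
        intro y
        rw [pow_succ]
        show θ ⟨((α ^ n) (α y) : U), _⟩ = _
        rw [ih (α y), hstep y, pow_succ]
        group
    have h1 := hpow (p ^ k) x
    rw [hk'] at h1
    simp only [one_mul, inv_one, mul_one] at h1
    have hmem : (x : Ω)⁻¹ * (((α ^ p ^ k) x : U) : Ω) ∈ normalizerIn S Q :=
      (normalizerIn S Q).mul_mem ((normalizerIn S Q).inv_mem (hP x.2)) (hP ((α ^ p ^ k) x).2)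
    refine (hθ ⟨_, hmem⟩).1 ?_
    have e : (⟨(x : Ω)⁻¹ * (((α ^ p ^ k) x : U) : Ω), hmem⟩ : ↥(normalizerIn S Q)) = (⟨x, hP x.2⟩)⁻¹ * ⟨((α ^ p ^ k) x : U), hP ((α ^ p ^ k) x).2⟩ := rfl
    rw [e, map_mul, map_inv, h1, inv_mul_cancel]
  · -- otherwise a larger normal subgroup is bad
    exfalso
    have hEfree : Free p E := free_normalizer_sys hS hF hFN hE hFree
    have hE'free : Free p E' := free_factor_sys hpT hEsat (normal_in_normalizer hQS hE) hEfree hfac
    have hne : (⊤ : Subgroup (↥(normalizerIn S Q) ⧸ Q.subgroupOf (normalizerIn S Q))) ≠ ⊥ := by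
      intro h
      have hinner : Inner E' := by
        intro P
        apply Set.Subset.antisymm
        · intro φ hφ
          have hPS := E'.le_of_mem hφ
          refine ⟨hPS.1, 1, Subgroup.one_mem _, fun x => ?_⟩
          have h1 : φ x ∈ (⊤ : Subgroup (↥(normalizerIn S Q) ⧸ Q.subgroupOf (normalizerIn S Q))) := hPS.2 x
          rw [h, Subgroup.mem_bot] at h1
          have h2 : (x : ↥(normalizerIn S Q) ⧸ Q.subgroupOf (normalizerIn S Q)) ∈ (⊤ : Subgroup (↥(normalizerIn S Q) ⧸ Q.subgroupOf (normalizerIn S Q))) := hPS.1 x.2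
          rw [h, Subgroup.mem_bot] at h2
          rw [h1, h2]
          simp
        · rintro φ ⟨hP, g, hg, hgx⟩
          have : φ = conjHom P g := MonoidHom.ext hgx
          rw [this]
          exact E'.conj_mem hP hg
      exact hI hinner
    have key : ∀ Z' : Subgroup (↥(normalizerIn S Q) ⧸ Q.subgroupOf (normalizerIn S Q)), Z' ≠ ⊥ →
        Subgroup.normalizer (((⊤ : Subgroup (↥(normalizerIn S Q) ⧸ Q.subgroupOf (normalizerIn S Q))) : Subgroup _) : Set (↥(normalizerIn S Q) ⧸ Q.subgroupOf (normalizerIn S Q))) ≤ Subgroup.normalizer (Z' : Set (↥(normalizerIn S Q) ⧸ Q.subgroupOf (normalizerIn S Q))) →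
        Bad E' p Z' → False := by
      intro Z' hZne hW3 hb
      have hb2 : Bad E p (preimageAlong θ Z') := bad_preimage hfac hb
      have hb3 := hb2.mono inf_le_left (normalizerSystem_sub hE)
      have hVT : preimageAlong θ Z' ≤ normalizerIn S Q := preimage_le θ _
      have hVS : preimageAlong θ Z' ≤ S := hVT.trans inf_le_left
      have hQV : Q ≤ preimageAlong θ Z' := le_preimage hQT hθ _
      refine hmax (preimageAlong θ Z') ?_ hVS ?_ hb3
      · refine lt_of_le_of_ne hQV ?_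
        intro h
        apply hZne
        rw [eq_bot_iff]
        intro z hz
        obtain ⟨t, ht⟩ := QuotientGroup.mk'_surjective _ z
        have htV : (t : Ω) ∈ preimageAlong θ Z' := mem_preimage.2 ⟨t.2, by
          have e : θ ⟨(t : Ω), t.2⟩ = z := ht
          rw [e]
          exact hz⟩
        rw [← h] at htV
        have := (hθ t).2 htV
        have e : θ t = z := ht
        rw [e] at this
        exact Subgroup.mem_bot.2 this
      · haveI : Finite ↥(preimageAlong θ Z') := finite_of_le hVS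
        intro s hs
        have hsT : s ∈ normalizerIn S Q := by rw [hTS]; exact hs
        refine mem_normalizer_of_conj_le' fun x hx => ?_
        obtain ⟨h0, h1⟩ := mem_preimage.1 hx
        have h2 : s * x * s⁻¹ ∈ normalizerIn S Q := (normalizerIn S Q).mul_mem ((normalizerIn S Q).mul_mem hsT h0) ((normalizerIn S Q).inv_mem hsT)
        refine mem_preimage.2 ⟨h2, ?_⟩
        have e : θ ⟨s * x * s⁻¹, h2⟩ = θ ⟨s, hsT⟩ * θ ⟨x, h0⟩ * (θ ⟨s, hsT⟩)⁻¹ := by
          rw [← map_inv, ← map_mul, ← map_mul]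
          rfl
        rw [e]
        have hn : θ ⟨s, hsT⟩ ∈ Subgroup.normalizer (Z' : Set (↥(normalizerIn S Q) ⧸ Q.subgroupOf (normalizerIn S Q))) := hW3 (Subgroup.mem_normalizer_iff.2 fun x => ⟨fun _ => trivial, fun _ => trivial⟩)
        exact (Subgroup.mem_normalizer_iff.1 hn _).1 h1
    rcases hIH _ ⊤ hp' E' hE'sat hcard hE'free hI with hb | hb
    · exact key _ (zs_ne_bot hp' hne) (fun g hg => zs_normalized hg) hb.toBad
    · exact key _ (js_ne_bot hp' hne) (fun g hg => js_normalized hg) hb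

/-- a normal bad centric subgroup exists -/
theorem exists_core_T (hIH : TStmt.{u} p (Nat.card S)) (hFree : Free p F)
    (hS : IsPGroup p S) (hF : F.IsSaturated p) (hI : ¬ Inner F) :
    ∃ Q : Subgroup Ω, Q ≠ ⊥ ∧ Q ≤ S ∧ S ≤ Subgroup.normalizer (Q : Set Ω) ∧ Bad F p Q ∧ centralizerIn S Q ≤ Q ∧
      ∀ {U : Subgroup Ω}, Q ≤ U → U ≤ S → ∀ {α : MulAut U}, α ∈ F.autGroup U →
        (∀ x : U, (x : Ω) ∈ Q → ((α x : U) : Ω) ∈ Q) → ∃ k : ℕ, ∀ x : U, (x : Ω)⁻¹ * (((α ^ p ^ k) x : U) : Ω) ∈ Q := by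
  classical
  have hfin : {U : Subgroup Ω | U ≠ ⊥ ∧ F.IsFullyNormalized U ∧ Bad F p U}.Finite :=
    finite_subgroups_le.subset fun U hU => hU.2.1.1
  obtain ⟨U₀, h1, h2, h3⟩ := exists_bad_fn hS hF hI
  obtain ⟨Q, ⟨hQ1, hQFN, hQb⟩, hmax⟩ := Set.exists_max_image _
    (fun U : Subgroup Ω => Nat.card ↥(normalizerIn S U) * (Nat.card S + 1) + Nat.card U) hfin ⟨U₀, h1, h2, h3⟩
  have hQS := hQFN.1
  have hcardS : Nat.card Q ≤ Nat.card S := Subgroup.card_le_of_le hQS
  have hTS : normalizerIn S Q = S := by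
    by_contra hne
    have hTne : normalizerIn S Q ≠ ⊥ := by
      intro h
      apply hQ1
      have : Q ≤ normalizerIn S Q := fun x hx => ⟨hQS hx, Subgroup.le_normalizer hx⟩
      rw [h] at this
      exact le_bot_iff.1 this
    haveI : Finite ↥(normalizerIn S Q) := finite_normalizerIn Q
    have hpT : IsPGroup p ↥(normalizerIn S Q) := hS.to_le inf_le_left
    have hcardT : Nat.card ↥(normalizerIn S Q) < Nat.card S := card_lt_of_le_of_ne inf_le_left hne
    obtain ⟨E, hE⟩ := Cfsg.Agent.S5096.result F Q hQS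
    have hEsat : E.IsSaturated p := FusKNorm.saturated_normalizer hS hF hQFN hE
    have hnE := not_inner_of_bad hS hE hQb
    have hEfree : Free p E := free_normalizer_sys hS hF hQFN hE hFree
    have hsub : ∃ U : Subgroup Ω, U ≠ ⊥ ∧ U ≤ normalizerIn S Q ∧ Subgroup.normalizer (normalizerIn S Q : Set Ω) ≤ Subgroup.normalizer (U : Set Ω) ∧ Bad E p U := by
      rcases hIH _ _ hpT E hEsat hcardT hEfree hnE with hb | hb
      · exact ⟨_, zs_ne_bot hpT hTne, inf_le_left, fun g hg => zs_normalized hg, hb.toBad⟩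
      · exact ⟨_, js_ne_bot hpT hTne, PZJ.thompsonAOf_le _, fun g hg => js_normalized hg, hb⟩
    obtain ⟨U, hU1, hUT, hUn, hUb⟩ := hsub
    obtain ⟨Y, hY1, hYFN, hYb, hlt⟩ := step_up₂ hS hF hQFN hne hE hU1 hUT hUn hUb
    have h4 : Nat.card ↥(normalizerIn S Y) * (Nat.card S + 1) + Nat.card Y ≤ Nat.card ↥(normalizerIn S Q) * (Nat.card S + 1) + Nat.card Q := hmax Y ⟨hY1, hYFN, hYb⟩
    have h5 := Nat.mul_le_mul_right (Nat.card S + 1) (Nat.succ_le_of_lt hlt)
    have h6 : Nat.succ (Nat.card ↥(normalizerIn S Q)) * (Nat.card S + 1) = Nat.card ↥(normalizerIn S Q) * (Nat.card S + 1) + (Nat.card S + 1) := Nat.succ_mul _ _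
    omega
  have hSN : S ≤ Subgroup.normalizer (Q : Set Ω) := fun s hs => (hTS.ge hs).2
  have hmaxV : ∀ V : Subgroup Ω, Q < V → V ≤ S → S ≤ Subgroup.normalizer (V : Set Ω) → ¬ Bad F p V := by
    intro V hlt hVS hVN hVb
    have hV1 : V ≠ ⊥ := by
      rintro rfl
      exact not_lt_bot hlt
    have h4 : Nat.card ↥(normalizerIn S V) * (Nat.card S + 1) + Nat.card V ≤ Nat.card ↥(normalizerIn S Q) * (Nat.card S + 1) + Nat.card Q := hmax V ⟨hV1, fn_of_normalized hVS hVN, hVb⟩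
    rw [normalizerIn_eq hVN, hTS] at h4
    haveI : Finite V := finite_of_le hVS
    have h5 : Nat.card Q < Nat.card V := card_lt_of_le_of_ne hlt.le hlt.ne
    omega
  have hmod : ∀ {U : Subgroup Ω}, Q ≤ U → U ≤ S → ∀ {α : MulAut U}, α ∈ F.autGroup U →
        (∀ x : U, (x : Ω) ∈ Q → ((α x : U) : Ω) ∈ Q) → ∃ k : ℕ, ∀ x : U, (x : Ω)⁻¹ * (((α ^ p ^ k) x : U) : Ω) ∈ Q :=
    fun {U} hQU hUS {α} hα hinv => core_mod_T hIH hFree hS hF hQS hQ1 hSN hmaxV hQU hUS hα hinv
  exact ⟨Q, hQ1, hQS, hSN, hQb, core_centric hS hF hQS hSN hQb hmaxV hmod, hmod⟩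


/-! ### Centralizer systems -/

theorem centralizerIn_eq {U : Subgroup Ω} (hUc : S ≤ Subgroup.centralizer (U : Set Ω)) : centralizerIn S U = S :=
  le_antisymm inf_le_left (le_inf le_rfl hUc)

theorem fc_of_central {U : Subgroup Ω} (hUS : U ≤ S) (hUc : S ≤ Subgroup.centralizer (U : Set Ω)) : F.IsFullyCentralized U := by
  refine ⟨hUS, fun R hR => ?_⟩
  rw [centralizerIn_eq hUc]
  exact Subgroup.card_le_of_le inf_le_left

theorem inner_of_not_badC (hS : IsPGroup p S) (hF : F.IsSaturated p) {Z : Subgroup Ω} (hZS : Z ≤ S)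
    (hZc : S ≤ Subgroup.centralizer (Z : Set Ω)) {C₀ : FusionSystem (centralizerIn S Z)} (hC₀ : F.IsCentralizerSystem Z C₀)
    (hb : ¬ BadC F p Z) : Inner C₀ := by
  classical
  haveI : Finite ↥(centralizerIn S Z) := finite_centralizerIn Z
  haveI : Finite Z := finite_of_le hZS
  have hpT : IsPGroup p ↥(centralizerIn S Z) := hS.to_le inf_le_left
  have hES : C₀.IsSaturated p := saturated_centralizer hS hF (fc_of_central hZS hZc) hC₀
  apply inner_of_pgroups (S := centralizerIn S Z) hpT hES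
  intro P _ hPFN
  have hPT : P ≤ centralizerIn S Z := hPFN.1
  have hPS : P ≤ S := hPT.trans inf_le_left
  haveI : Finite P := finite_of_le hPS
  rintro ⟨α, hα⟩
  have h1 := (mem_autGroup_iff C₀ hPT).1 hα
  rw [hC₀] at h1
  obtain ⟨hφF, hP, hv, ψ, hψ, he, hfix⟩ := h1
  have hsupS : P ⊔ Z ≤ S := sup_le hPS hZS
  haveI : Finite ↥(P ⊔ Z) := finite_of_le hsupS
  let K : Subgroup Ω := ((P ⊔ Z).comap ψ).map (P ⊔ Z).subtype
  have hK : P ⊔ Z ≤ K := by
    refine sup_le (fun x hx => ?_) (fun x hx => ?_)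
    · refine ⟨Subgroup.inclusion le_sup_left ⟨x, hx⟩, ?_, rfl⟩
      show ψ (Subgroup.inclusion le_sup_left ⟨x, hx⟩) ∈ P ⊔ Z
      rw [he]
      exact (le_sup_left : P ≤ P ⊔ Z) (α ⟨x, hx⟩).2
    · refine ⟨⟨x, (le_sup_right : Z ≤ P ⊔ Z) hx⟩, ?_, rfl⟩
      show ψ ⟨x, _⟩ ∈ P ⊔ Z
      have h2 := hfix ⟨x, hx⟩
      have h3 : ψ ⟨x, (le_sup_right : Z ≤ P ⊔ Z) hx⟩ = x := h2
      rw [h3]
      exact (le_sup_right : Z ≤ P ⊔ Z) hx
  have hval : ∀ x : ↥(P ⊔ Z), ψ x ∈ P ⊔ Z := by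
    intro x
    obtain ⟨y, hy, hye⟩ := hK x.2
    have : y = x := Subtype.ext hye
    rw [← this]
    exact hy
  have hinj := inj F hψ
  have hr := range_eq_of_le hinj hval
  let β : MulAut ↥(P ⊔ Z) := isoOf ψ hinj hr
  have hβ : β ∈ F.autGroup (P ⊔ Z) := mem_autGroup_of F (hom_congr F hψ (fun _ => rfl))
  have hβp : IsPEl p β := by
    by_contra hnp
    refine hb ⟨P ⊔ Z, le_sup_right, hsupS, β, hβ, hnp, fun x hx => ?_⟩
    exact hfix ⟨x, hx⟩
  obtain ⟨k, hk⟩ := isPEl_restrict (le_sup_left : P ≤ P ⊔ Z) (β := α) (α := β) (fun x => he x) hβp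
  exact ⟨k, Subtype.ext (by simpa using hk)⟩

theorem not_inner_of_badC (hS : IsPGroup p S) {Z : Subgroup Ω} (hZc : S ≤ Subgroup.centralizer (Z : Set Ω))
    {C₀ : FusionSystem (centralizerIn S Z)} (hC₀ : F.IsCentralizerSystem Z C₀) (hb : BadC F p Z) : ¬ Inner C₀ := by
  classical
  intro hI
  obtain ⟨W, hZW, hWS, α, hα, hnp, hfix⟩ := hb
  apply hnp
  haveI : Finite ↥(centralizerIn S Z) := finite_centralizerIn Z
  have hpT : IsPGroup p ↥(centralizerIn S Z) := hS.to_le inf_le_left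
  have hWT : W ≤ centralizerIn S Z := fun w hw => ⟨hWS hw, hZc (hWS hw)⟩
  refine isPEl_of_inner (S := centralizerIn S Z) hpT hI hWT ?_
  rw [mem_autGroup_iff C₀ hWT, hC₀]
  refine ⟨(mem_autGroup_iff F hWS).1 hα, hWT, fun x => hWT (α x).2, ?_⟩
  have key : ∀ (V : Subgroup Ω) (e : W = V), ∃ ψ ∈ F.Hom V, (∀ x : W, ψ ⟨x, e ▸ x.2⟩ = (W.subtype.comp α.toMonoidHom) x) ∧
      ∀ (z : Ω) (hz : z ∈ Z) (hzV : z ∈ V), ψ ⟨z, hzV⟩ = z := by
    intro V e
    subst e
    exact ⟨_, (mem_autGroup_iff F hWS).1 hα, fun x => rfl, fun z hz hzV => hfix ⟨z, hzV⟩ hz⟩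
  obtain ⟨ψ, hψ, h1, h2⟩ := key (W ⊔ Z) (by simp [hZW])
  exact ⟨ψ, hψ, h1, fun x => h2 x x.2 _⟩

/-- the centralizer in a local model -/
theorem npc_of_innerC {Q : Subgroup Ω} (hSN : S ≤ Subgroup.normalizer (Q : Set Ω))
    {E : FusionSystem (normalizerIn S Q)} (hE : F.IsNormalizerSystem Q E) {L : Type*} [Group L] [Finite L] {ι : ↥(normalizerIn S Q) →* L}
    (hr : E.IsRealizedBy ι) (P : Sylow p L) (hP : (P : Subgroup L) = ι.range)
    {U : Subgroup Ω} (hUS : U ≤ S) (hUc : S ≤ Subgroup.centralizer (U : Set Ω))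
    {C₀ : FusionSystem (centralizerIn S U)} (hC₀ : F.IsCentralizerSystem U C₀) (hinner : Inner C₀)
    (U' : Subgroup L) (hU'mem : ∀ t : (normalizerIn S Q), ι t ∈ U' ↔ (t : Ω) ∈ U) (hU'P : U' ≤ ι.range)
    (hPU' : (P : Subgroup L) ≤ Subgroup.centralizer (U' : Set L)) :
    HasNormalPComplement p ↥(Subgroup.centralizer (U' : Set L)) := by
  classical
  have hTS : normalizerIn S Q = S := normalizerIn_eq hSN
  have hTleS : normalizerIn S Q ≤ S := inf_le_left
  have hUT : U ≤ (normalizerIn S Q) := hUS.trans hTS.ge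
  haveI : Finite (normalizerIn S Q) := finite_normalizerIn Q
  haveI : Finite U := finite_of_le hUS
  refine Cfsg.Agent.Lib.PNilp.hasNormalPComplement_of_fusion (P.subtype hPU') ?_
  intro x hx y hy hg
  rw [Sylow.coe_subtype] at hx hy
  obtain ⟨g, hgxy⟩ := hg
  have hx' : (x : L) ∈ ι.range := by
    rw [← hP]
    exact Subgroup.mem_subgroupOf.1 hx
  have hy' : (y : L) ∈ ι.range := by
    rw [← hP]
    exact Subgroup.mem_subgroupOf.1 hy
  obtain ⟨x₀, hx₀⟩ := hx'
  obtain ⟨y₀, hy₀⟩ := hy'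
  have hgxy' : (g : L) * ι x₀ * (g : L)⁻¹ = ι y₀ := by
    rw [hx₀, hy₀]
    exact congrArg Subtype.val hgxy
  obtain ⟨Z, hZ⟩ : ∃ Z : Subgroup Ω, Z = Subgroup.zpowers (x₀ : Ω) := ⟨_, rfl⟩
  have hZT : Z ≤ (normalizerIn S Q) := by
    rw [hZ, Subgroup.zpowers_le]
    exact x₀.2
  obtain ⟨R, hR⟩ : ∃ R : Subgroup Ω, R = Z ⊔ U := ⟨_, rfl⟩
  have hRT : R ≤ (normalizerIn S Q) := by
    rw [hR]
    exact sup_le hZT hUT
  have hgU : ∀ u : (normalizerIn S Q), (u : Ω) ∈ U → (g : L) * ι u * (g : L)⁻¹ = ι u := by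
    intro u hu
    have h1 := (Subgroup.mem_centralizer_iff.1 g.2) _ ((hU'mem u).2 hu)
    rw [← h1]
    group
  let K : Subgroup Ω := ((ι.range.comap (MulAut.conj (g : L)).toMonoidHom).comap ι).map (normalizerIn S Q).subtype
  have hK : R ≤ K := by
    rw [hR]
    refine sup_le ?_ ?_
    · rw [hZ, Subgroup.zpowers_le]
      refine ⟨x₀, ?_, rfl⟩
      show (g : L) * ι x₀ * (g : L)⁻¹ ∈ ι.range
      rw [hgxy']
      exact ⟨_, rfl⟩
    · intro u hu
      refine ⟨⟨u, hUT hu⟩, ?_, rfl⟩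
      show (g : L) * ι ⟨u, hUT hu⟩ * (g : L)⁻¹ ∈ ι.range
      rw [hgU ⟨u, hUT hu⟩ hu]
      exact ⟨_, rfl⟩
  have h1 : ∀ r : R, (g : L) * ι ⟨r, hRT r.2⟩ * (g : L)⁻¹ ∈ ι.range := by
    intro r
    obtain ⟨t, ht, hte⟩ := hK r.2
    have : t = ⟨r, hRT r.2⟩ := Subtype.ext hte
    rw [← this]
    exact ht
  obtain ⟨ψ, hψ, hψv, hψe⟩ := exists_conj_hom hr (g : L) hRT h1
  have hψF : ψ ∈ F.Hom R := normalizerSystem_sub hE R hψ
  have hψU : ∀ u : R, (u : Ω) ∈ U → ψ u = u := by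
    intro u hu
    have h2 := hψe u
    have h3 := hgU ⟨u, hRT u.2⟩ hu
    rw [h3] at h2
    have h4 := hr.1 h2
    exact congrArg Subtype.val h4
  have hUR : U ≤ R := by
    rw [hR]
    exact le_sup_right
  have hZR : Z ≤ R := by
    rw [hR]
    exact le_sup_left
  have hsupZ : Z ⊔ U = R := hR.symm
  have hx₀R : (x₀ : Ω) ∈ R := hZR (by rw [hZ]; exact Subgroup.mem_zpowers _)
  have hZN : Z ≤ centralizerIn S U := fun z hz => ⟨hTleS (hZT hz), hUc (hTleS (hZT hz))⟩
  let φ : Z →* Ω := ψ.comp (Subgroup.inclusion hZR)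
  have hφN : φ ∈ C₀.Hom Z := by
    rw [hC₀]
    refine ⟨res_mem F hZR hψF, hZN, fun z => ⟨val_mem F hψF _, hUc (val_mem F hψF _)⟩, ?_⟩
    have key : ∀ (R' : Subgroup Ω) (e : R = R'), ∃ ψ' ∈ F.Hom R', (∀ x : Z, ψ' ⟨x, e ▸ hZR x.2⟩ = φ x) ∧
        ∀ (u : Ω) (hu : u ∈ U) (huR : u ∈ R'), ψ' ⟨u, huR⟩ = u := by
      intro R' e
      subst e
      exact ⟨ψ, hψF, fun x => rfl, fun u hu huR => hψU ⟨u, huR⟩ hu⟩
    obtain ⟨ψ', hψ', h2, h3⟩ := key (Z ⊔ U) hsupZ.symm
    exact ⟨ψ', hψ', h2, fun x => h3 x x.2 _⟩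
  rw [hinner] at hφN
  obtain ⟨-, s, hs, hse⟩ := hφN
  have hsT : s ∈ (normalizerIn S Q) := hTS.ge (mem_centralizerIn.1 hs).1
  have hιs : ι ⟨s, hsT⟩ ∈ (P : Subgroup L) := hP.ge ⟨⟨s, hsT⟩, rfl⟩
  refine ⟨⟨ι ⟨s, hsT⟩, hPU' hιs⟩, ?_, ?_⟩
  · rw [Sylow.coe_subtype]
    exact Subgroup.mem_subgroupOf.2 hιs
  · apply Subtype.ext
    show ι ⟨s, hsT⟩ * (x : L) * (ι ⟨s, hsT⟩)⁻¹ = y
    rw [← hx₀, ← hy₀, ← hgxy']
    have hx₀Z : (x₀ : Ω) ∈ Z := by
      rw [hZ]
      exact Subgroup.mem_zpowers _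
    have h5 := hse ⟨x₀, hx₀Z⟩
    have h6 : ψ ⟨x₀, hx₀R⟩ = s * (x₀ : Ω) * s⁻¹ := h5
    have h7 := hψe ⟨x₀, hx₀R⟩
    have h8 : (⟨ψ ⟨x₀, hx₀R⟩, hψv _⟩ : (normalizerIn S Q)) = ⟨s, hsT⟩ * x₀ * ⟨s, hsT⟩⁻¹ := Subtype.ext h6
    rw [h8, map_mul, map_mul, map_inv] at h7
    exact h7

/-- Properties of a minimal overgroup. -/
theorem min_sub_data {L : Type*} [Group L] [Finite L] (P : Sylow p L)
    (hCL : Subgroup.centralizer ((pCore p L : Subgroup L) : Set L) ≤ pCore p L) (K : Subgroup L) [hKn : K.Normal]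
    (hKP : K ≤ (P : Subgroup L)) (hbarL : HasNormalPComplement p (L ⧸ K)) (L₀ : Subgroup L) (hPL₀ : (P : Subgroup L) ≤ L₀)
    (hmin : ∀ H : Subgroup ↥L₀, (P : Subgroup L) ≤ H.map L₀.subtype → H ≠ ⊤ → HasNormalPComplement p ↥H) :
    (∀ H : Subgroup ↥L₀, ((P.subtype hPL₀ : Sylow p ↥L₀) : Subgroup ↥L₀) ≤ H → H ≠ ⊤ → HasNormalPComplement p ↥H) ∧
      pPrimeCore p ↥L₀ = ⊥ ∧ HasNormalPComplement p (↥L₀ ⧸ pCore p ↥L₀) := by
  classical
  open Cfsg.Agent.Lib.H1Core Cfsg.Agent.Lib.PZJ in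
  let P₀ : Sylow p ↥L₀ := P.subtype hPL₀
  have hP₀mem : ∀ x : ↥L₀, x ∈ (P₀ : Subgroup ↥L₀) ↔ (x : L) ∈ (P : Subgroup L) := by
    intro x
    rw [Sylow.coe_subtype, Subgroup.mem_subgroupOf]
  have hi : ∀ H : Subgroup ↥L₀, (P₀ : Subgroup ↥L₀) ≤ H → H ≠ ⊤ → HasNormalPComplement p ↥H := by
    intro H hH hne
    refine hmin H (fun x hx => ⟨⟨x, hPL₀ hx⟩, hH ((hP₀mem _).2 hx), rfl⟩) hne
  have hOp : IsPGroup p ↥(pCore p L) := H1Core.pCore_isPGroup p
  have hOP : pCore p L ≤ (P : Subgroup L) := H1Core.pCore_le_sylow p P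
  haveI hOn : (pCore p L).Normal := H1Core.pCore_normal p L
  have hO : pPrimeCore p ↥L₀ = ⊥ := by
    have hXc := H1Core.pPrimeCore_coprime (G := ↥L₀) p
    haveI hXn : (pPrimeCore p ↥L₀).Normal := H1Core.pPrimeCore_normal p _
    haveI hO₀n : ((pCore p L).subgroupOf L₀).Normal := inferInstance
    have hdisj : ∀ x : ↥L₀, x ∈ pPrimeCore p ↥L₀ → x ∈ (pCore p L).subgroupOf L₀ → x = 1 := by
      intro x hx1 hx2
      have hx2' : (x : L) ∈ pCore p L := Subgroup.mem_subgroupOf.1 hx2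
      obtain ⟨k, hk⟩ := hOp ⟨x, hx2'⟩
      have h1 : x ^ p ^ k = 1 := by
        apply Subtype.ext
        simpa using congrArg Subtype.val hk
      have h2 : x ^ Nat.card ↥(pPrimeCore p ↥L₀) = 1 := by
        have h := congrArg Subtype.val (pow_card_eq_one' (x := (⟨x, hx1⟩ : ↥(pPrimeCore p ↥L₀))))
        exact h
      exact PZJ.eq_one_of_pow_of_coprime hXc h2 h1
    have hcomm : ∀ x ∈ pPrimeCore p ↥L₀, ∀ y ∈ (pCore p L).subgroupOf L₀, x * y = y * x := by
      intro x hx y hy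
      refine Subgroup.commute_of_normal_of_disjoint _ _ hXn hO₀n ?_ x y hx hy
      rw [disjoint_iff, eq_bot_iff]
      rintro z ⟨hz1, hz2⟩
      exact Subgroup.mem_bot.2 (hdisj z hz1 hz2)
    rw [eq_bot_iff]
    intro x hx
    have h1 : (x : L) ∈ Subgroup.centralizer ((pCore p L : Subgroup L) : Set L) := by
      refine Subgroup.mem_centralizer_iff.2 fun y hy => ?_
      have h2 := hcomm x hx ⟨y, hPL₀ (hOP hy)⟩ (Subgroup.mem_subgroupOf.2 hy)
      exact (congrArg Subtype.val h2).symm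
    exact Subgroup.mem_bot.2 (hdisj x hx (Subgroup.mem_subgroupOf.2 (hCL h1)))
  have hbar : HasNormalPComplement p (↥L₀ ⧸ pCore p ↥L₀) := by
    haveI hK₀n : (K.subgroupOf L₀).Normal := inferInstance
    have hK₀p : IsPGroup p ↥(K.subgroupOf L₀) := by
      intro x
      obtain ⟨k, hk⟩ := P.2 ⟨(x : ↥L₀), hKP (Subgroup.mem_subgroupOf.1 x.2)⟩
      refine ⟨k, Subtype.ext (Subtype.ext ?_)⟩
      simpa using congrArg Subtype.val hk
    have hK₀O : K.subgroupOf L₀ ≤ pCore p ↥L₀ := H1Core.le_pCore hK₀n hK₀p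
    let f : ↥L₀ ⧸ K.subgroupOf L₀ →* L ⧸ K := QuotientGroup.map _ _ L₀.subtype (fun x hx => hx)
    have hf : Function.Injective f := by
      rw [injective_iff_map_eq_one]
      intro a ha
      obtain ⟨x, rfl⟩ := QuotientGroup.mk_surjective a
      have h1 : ((x : L) : L ⧸ K) = 1 := ha
      rw [QuotientGroup.eq_one_iff] at h1
      exact (QuotientGroup.eq_one_iff x).2 (Subgroup.mem_subgroupOf.2 h1)
    have h2 : HasNormalPComplement p (↥L₀ ⧸ K.subgroupOf L₀) := PZJ.npc_of_injective f hf hbarL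
    let g : ↥L₀ ⧸ K.subgroupOf L₀ →* ↥L₀ ⧸ pCore p ↥L₀ := QuotientGroup.map _ _ (MonoidHom.id _) (fun x hx => hK₀O hx)
    refine PZJ.npc_of_surjective g ?_ h2
    intro a
    obtain ⟨x, rfl⟩ := QuotientGroup.mk_surjective a
    exact ⟨(x : ↥L₀ ⧸ K.subgroupOf L₀), rfl⟩
  exact ⟨hi, hO, hbar⟩

/-- The main step. -/
theorem t_at (hIH : TStmt.{u} p (Nat.card S)) (hFree : Free p F) (hS : IsPGroup p S) (hF : F.IsSaturated p) (hI : ¬ Inner F) :
    BadC F p (ZS S) ∨ Bad F p (JS S) := by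
  classical
  by_contra hcon
  rw [not_or] at hcon
  obtain ⟨hnC, hnJ⟩ := hcon
  obtain ⟨Q, hQ1, hQS, hSN, hQb, hC, hmod⟩ := exists_core_T hIH hFree hS hF hI
  obtain ⟨E, hE⟩ := Cfsg.Agent.S5096.result F Q hQS
  have hFN : F.IsFullyNormalized Q := fn_of_normalized hQS hSN
  obtain ⟨L, iL, ι, hM⟩ := exists_local_model hS hF hFN hC hE
  haveI : Finite ↥(normalizerIn S Q) := finite_normalizerIn Q
  have hpT : IsPGroup p ↥(normalizerIn S Q) := hS.to_le inf_le_left
  have hnpc : ¬ HasNormalPComplement p L := by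
    obtain ⟨U, hQU, hUN', α, hα, hnp, hinv'⟩ := hQb
    exact not_npc_of_model hpT hM hUN' (mem_E_autGroup hE hQU hUN' hα hinv') hnp
  have hM' := hM
  obtain ⟨hfin, hr, ⟨P, hP⟩, hCL⟩ := hM
  have hTS : normalizerIn S Q = S := normalizerIn_eq hSN
  have hEn : E.IsNormal Q := normal_in_normalizer hQS hE
  have hQT : Q ≤ normalizerIn S Q := hEn.1
  let K : Subgroup L := (Q.subgroupOf (normalizerIn S Q)).map ι
  have hKmem : ∀ t, ι t ∈ K ↔ (t : Ω) ∈ Q := by
    intro t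
    constructor
    · rintro ⟨t', ht', he⟩
      rw [← hr.1 he]
      exact ht'
    · intro h
      exact ⟨t, h, rfl⟩
  haveI hKn : K.Normal := by
    refine ⟨fun n hn g => ?_⟩
    obtain ⟨t, ht, rfl⟩ := hn
    have ht' : (t : Ω) ∈ Q := ht
    obtain ⟨r', hr', he⟩ := map_normal_of_model hr P hP hCL hEn g ht'
    have e2 : (⟨(t : Ω), hEn.1 ht'⟩ : ↥(normalizerIn S Q)) = t := Subtype.ext rfl
    rw [e2] at he
    rw [← he]
    exact (hKmem r').2 hr'
  have hKP : K ≤ (P : Subgroup L) := by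
    rw [hP]
    rintro _ ⟨t, -, rfl⟩
    exact ⟨t, rfl⟩
  have hbarL := quot_npc hQS hSN hE hr P hP K hKmem hKP hmod
  obtain ⟨L₀, hPL₀, hL₀, hmin⟩ := Cfsg.Agent.S5272.exists_min_sub (p := p) (P : Subgroup L) hnpc
  obtain ⟨hi, hO, hbar⟩ := min_sub_data P hCL K hKP hbarL L₀ hPL₀ hmin
  let P₀ : Sylow p ↥L₀ := P.subtype hPL₀
  have hP₀mem : ∀ x : ↥L₀, x ∈ (P₀ : Subgroup ↥L₀) ↔ (x : L) ∈ (P : Subgroup L) := by
    intro x
    rw [Sylow.coe_subtype, Subgroup.mem_subgroupOf]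
  -- freeness
  have hfree' : p ≠ 2 ∨ ¬ Involves (Equiv.Perm (Fin 4)) ↥L₀ := by
    rcases hFree with h | h
    · exact Or.inl h
    · refine Or.inr fun hinv => ?_
      have hEcent : E.IsCentric Q := by
        refine ⟨hQT, fun R hR => ?_⟩
        rw [FusSolv.normal_conj_eq hEn hR]
        intro x hx
        obtain ⟨h1, h2⟩ := mem_centralizerIn.1 hx
        exact hC (mem_centralizerIn.2 ⟨h1.1, h2⟩)
      have hCen : F.IsCentric Q := centric_of_normalizer hS hF hFN hE le_rfl hEcent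
      exact h Q hFN hCen E hE L ι hM' (FusSubModel.involves_of_le hinv)
  -- the maps
  have hιL₀ : ∀ t, ι t ∈ L₀ := fun t => hPL₀ (by rw [hP]; exact ⟨t, rfl⟩)
  let ι₀ : ↥(normalizerIn S Q) →* ↥L₀ := ι.codRestrict L₀ hιL₀
  have hι₀inj : Function.Injective ι₀ := by
    intro a b e
    exact hr.1 (congrArg Subtype.val e)
  have hι₀P : ∀ x : ↥L₀, x ∈ (P₀ : Subgroup ↥L₀) → ∃ t, ι₀ t = x := by
    intro x hx
    have h1 := (hP₀mem x).1 hx
    rw [hP] at h1
    obtain ⟨t, ht⟩ := h1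
    exact ⟨t, Subtype.ext ht⟩
  have hι₀P' : ∀ t, ι₀ t ∈ (P₀ : Subgroup ↥L₀) := by
    intro t
    refine (hP₀mem _).2 ?_
    rw [hP]
    exact ⟨t, rfl⟩
  have hP₀eq : (P₀ : Subgroup ↥L₀) = (⊤ : Subgroup ↥(normalizerIn S Q)).map ι₀ := by
    ext x
    constructor
    · intro hx
      obtain ⟨t, rfl⟩ := hι₀P x hx
      exact ⟨t, trivial, rfl⟩
    · rintro ⟨t, -, rfl⟩
      exact hι₀P' t
  -- `C_{L₀}(Z(P₀))`
  have hZS : ZS S ≤ S := inf_le_left
  have hZc : S ≤ Subgroup.centralizer ((ZS S : Subgroup Ω) : Set Ω) := by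
    intro s hs
    rw [Subgroup.mem_centralizer_iff]
    intro z hz
    exact (Subgroup.mem_centralizer_iff.1 hz.2 s hs).symm
  obtain ⟨C₀, hC₀⟩ := Cfsg.Agent.S5097.result F (ZS S) hZS
  have hCin : Inner C₀ := inner_of_not_badC hS hF hZS hZc hC₀ hnC
  have hZ' : HasNormalPComplement p ↥(Subgroup.centralizer (((P₀ : Subgroup ↥L₀) ⊓ Subgroup.centralizer ((P₀ : Subgroup ↥L₀) : Set ↥L₀) : Subgroup ↥L₀) : Set ↥L₀)) := by
    let U' : Subgroup L := ((P₀ : Subgroup ↥L₀) ⊓ Subgroup.centralizer ((P₀ : Subgroup ↥L₀) : Set ↥L₀)).map L₀.subtype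
    have hU'mem : ∀ t : ↥(normalizerIn S Q), ι t ∈ U' ↔ (t : Ω) ∈ ZS S := by
      intro t
      constructor
      · rintro ⟨z, hz, he⟩
        have e : z = ι₀ t := Subtype.ext he
        rw [e] at hz
        refine ⟨hTS.le t.2, Subgroup.mem_centralizer_iff.2 fun s hs => ?_⟩
        have hsT : s ∈ normalizerIn S Q := hTS.ge hs
        have h1 := (Subgroup.mem_centralizer_iff.1 hz.2) (ι₀ ⟨s, hsT⟩) (hι₀P' _)
        rw [← map_mul, ← map_mul] at h1
        exact congrArg Subtype.val (hι₀inj h1)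
      · intro h
        refine ⟨ι₀ t, ⟨hι₀P' t, Subgroup.mem_centralizer_iff.2 fun x hx => ?_⟩, rfl⟩
        obtain ⟨s, rfl⟩ := hι₀P x hx
        rw [← map_mul, ← map_mul]
        congr 1
        apply Subtype.ext
        exact (Subgroup.mem_centralizer_iff.1 h.2) _ (hTS.le s.2)
    have hU'P : U' ≤ ι.range := by
      rintro _ ⟨z, hz, rfl⟩
      obtain ⟨t, rfl⟩ := hι₀P z hz.1
      exact ⟨t, rfl⟩
    have hPU' : (P : Subgroup L) ≤ Subgroup.centralizer (U' : Set L) := by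
      intro x hx
      rw [Subgroup.mem_centralizer_iff]
      rintro _ ⟨z, hz, rfl⟩
      have h1 := (Subgroup.mem_centralizer_iff.1 hz.2) ⟨x, hPL₀ hx⟩ ((hP₀mem _).2 hx)
      exact (congrArg Subtype.val h1).symm
    have h1 := npc_of_innerC hSN hE hr P hP hZS hZc hC₀ hCin U' hU'mem hU'P hPU'
    refine PZJ.npc_of_injective (MonoidHom.codRestrict (L₀.subtype.comp (Subgroup.subtype _)) (Subgroup.centralizer (U' : Set L)) ?_) ?_ h1
    · rintro ⟨x, hx⟩
      rw [Subgroup.mem_centralizer_iff]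
      rintro _ ⟨z, hz, rfl⟩
      have h2 := (Subgroup.mem_centralizer_iff.1 hx) z hz
      exact congrArg Subtype.val h2
    · rintro ⟨a, ha⟩ ⟨b, hb⟩ e
      apply Subtype.ext
      apply Subtype.ext
      exact congrArg (fun t : ↥(Subgroup.centralizer (U' : Set L)) => (t : L)) e
  -- `N_{L₀}(J(P₀))`
  have hJS : JS S ≤ S := PZJ.thompsonAOf_le S
  have hJN : S ≤ Subgroup.normalizer ((JS S : Subgroup Ω) : Set Ω) := fun s hs => js_normalized (Subgroup.le_normalizer hs)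
  obtain ⟨N₀, hN₀⟩ := Cfsg.Agent.S5096.result F (JS S) hJS
  have hNin : Inner N₀ := inner_of_not_bad hS hF (fn_of_normalized hJS hJN) hN₀ hnJ
  have hJ' : HasNormalPComplement p ↥(Subgroup.normalizer ((thompsonSubgroupAOf (P₀ : Subgroup ↥L₀) : Subgroup ↥L₀) : Set ↥L₀)) := by
    -- the Thompson subgroup of the image
    have hJ1 := PZJ.thompsonAOf_map ι₀ ⊤ (fun x _ hx => hι₀inj (by rw [hx, map_one]))
    have hJ2 := PZJ.thompsonAOf_map (normalizerIn S Q).subtype ⊤ (fun x _ hx => Subtype.ext hx)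
    have h3 : (⊤ : Subgroup ↥(normalizerIn S Q)).map (normalizerIn S Q).subtype = normalizerIn S Q := by
      rw [← MonoidHom.range_eq_map, Subgroup.range_subtype]
    rw [h3] at hJ2
    have hJ3 : JS S = thompsonSubgroupAOf (normalizerIn S Q) := by rw [hTS]
    have hP₀J : thompsonSubgroupAOf (P₀ : Subgroup ↥L₀) = (thompsonSubgroupAOf (⊤ : Subgroup ↥(normalizerIn S Q))).map ι₀ := by
      rw [hP₀eq, hJ1]
    let U' : Subgroup L := (thompsonSubgroupAOf (P₀ : Subgroup ↥L₀)).map L₀.subtype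
    have hmemT : ∀ t : ↥(normalizerIn S Q), t ∈ thompsonSubgroupAOf (⊤ : Subgroup ↥(normalizerIn S Q)) ↔ (t : Ω) ∈ JS S := by
      intro t
      rw [hJ3, hJ2]
      constructor
      · intro h
        exact ⟨t, h, rfl⟩
      · rintro ⟨t', ht', he⟩
        have e : t' = t := Subtype.ext he
        rwa [← e]
    have hU'mem : ∀ t : ↥(normalizerIn S Q), ι t ∈ U' ↔ (t : Ω) ∈ JS S := by
      intro t
      rw [← hmemT]
      constructor
      · rintro ⟨z, hz, he⟩
        have e : z = ι₀ t := Subtype.ext he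
        rw [e, hP₀J] at hz
        obtain ⟨t', ht', he'⟩ := hz
        have e2 := hι₀inj he'
        rwa [← e2]
      · intro h
        refine ⟨ι₀ t, ?_, rfl⟩
        rw [hP₀J]
        exact ⟨t, h, rfl⟩
    have hU'P : U' ≤ ι.range := by
      rintro _ ⟨z, hz, rfl⟩
      rw [hP₀J] at hz
      obtain ⟨t, -, rfl⟩ := hz
      exact ⟨t, rfl⟩
    have hPU' : (P : Subgroup L) ≤ Subgroup.normalizer (U' : Set L) := by
      intro x hx
      refine Cfsg.Agent.Lib.PGlaub.mem_normalizer_of_conj_mem ?_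
      intro u hu
      have hx' : x ∈ ι.range := by
        rw [← hP]
        exact hx
      obtain ⟨t, rfl⟩ := hx'
      obtain ⟨s, rfl⟩ := hU'P hu
      have hs := (hU'mem s).1 hu
      rw [← map_inv, ← map_mul, ← map_mul, hU'mem]
      exact (Subgroup.mem_normalizer_iff.1 (hJN (hTS.le t.2)) _).1 hs
    have h1 := Cfsg.Agent.S5275.npc_of_inner hSN hE hr P hP hJS hJN hN₀ hNin U' hU'P hU'mem hPU'
    refine PZJ.npc_of_injective (MonoidHom.codRestrict (L₀.subtype.comp (Subgroup.subtype _)) (Subgroup.normalizer (U' : Set L)) ?_) ?_ h1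
    · rintro ⟨x, hx⟩
      refine Cfsg.Agent.Lib.PGlaub.mem_normalizer_of_conj_mem ?_
      rintro _ ⟨z, hz, rfl⟩
      exact ⟨x * z * x⁻¹, (Subgroup.mem_normalizer_iff.1 hx z).1 hz, rfl⟩
    · rintro ⟨a, ha⟩ ⟨b, hb⟩ e
      apply Subtype.ext
      apply Subtype.ext
      exact congrArg (fun t : ↥(Subgroup.normalizer (U' : Set L)) => (t : L)) e
  exact hL₀ (PThom.thom_group P₀ hi hO hbar hfree' hZ' hJ')


/-- **The Thompson-type theorem for fusion systems.** -/
theorem t_stmt (n : ℕ) : TStmt.{u} p n := by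
  induction n with
  | zero =>
    intro Ω _ S _ hS F hF hn
    exact absurd hn (Nat.not_lt_zero _)
  | succ n ih =>
    intro Ω _ S _ hS F hF hn hFree hI
    rcases Nat.lt_succ_iff_lt_or_eq.1 hn with h | h
    · exact ih Ω S hS F hF h hFree hI
    · subst h
      exact t_at ih hFree hS hF hI

theorem t_main (hS : IsPGroup p S) (hF : F.IsSaturated p) (hFree : Free p F) (hI : ¬ Inner F) :
    BadC F p (ZS S) ∨ Bad F p (JS S) :=
  t_stmt _ Ω S hS F hF (Nat.lt_succ_self _) hFree hI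

/-- The core of a non-inner system. -/
theorem exists_core_free (hS : IsPGroup p S) (hF : F.IsSaturated p) (hFree : Free p F) (hI : ¬ Inner F) :
    ∃ Q : Subgroup Ω, Q ≠ ⊥ ∧ Q ≤ S ∧ S ≤ Subgroup.normalizer (Q : Set Ω) ∧ Bad F p Q ∧ centralizerIn S Q ≤ Q :=
  let ⟨Q, h1, h2, h3, h4, h5, _⟩ := exists_core_T (t_stmt _) hFree hS hF hI
  ⟨Q, h1, h2, h3, h4, h5⟩


end Cfsg.Agent.Lib.FusT
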