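import Mathlib
import Cfsg.Agent.Lib.FusTransv2

set_option autoImplicit false
set_option linter.unusedSectionVars false

namespace Cfsg.Agent.Lib.FusTransv3

open Subgroup Cfsg Cfsg.FusionSystem Cfsg.Agent.Lib.FusBasic Cfsg.Agent.Lib.FusAut Cfsg.Agent.Lib.FusSat Cfsg.Agent.Lib.FusNorm Cfsg.Agent.Lib.FusFrat Cfsg.Agent.Lib.FusTransv Cfsg.Agent.Lib.FusTransv2

section fusion

variable {Ω : Type*} [Group Ω] {S : Subgroup Ω} [Finite S] {p : ℕ} [hp : Fact p.Prime] {a : Ω} {R : Subgroup Ω} {F : Cfsg.FusionSystem S}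

/-- the Frattini argument: on the part of `R` all of whose images lie in the centre, any element of `Aut_F(R)` acts as
an element of `Aut_F(S)`. -/
theorem frat_fix (hS : IsPGroup p S) (hF : F.IsSaturated p) (hc : Ctx S p a) (hR : Good S R) {γ : MulAut R} (hγ : γ ∈ F.autGroup R) :
    ∃ θ ∈ F.autGroup S, ∀ y : R, (∀ δ ∈ F.autGroup R, ((δ y : R) : Ω) ∈ Zs S) → ((γ y : R) : Ω) = ((θ ⟨y, hR.le y.2⟩ : S) : Ω) := by
  classical
  haveI : Finite R := finite_of_le hR.le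
  have hFA := fullyAutomized_of_fullyNormalized hS F hF (good_fn hc hR F)
  obtain ⟨P, hP⟩ := hFA.2
  obtain ⟨-, hTA, -, -, -, hTv⟩ := data_R hS hF hc hR
  let N : Subgroup (F.autGroup R) :=
    { carrier := {c | ∀ y : R, (∀ δ ∈ F.autGroup R, ((δ y : R) : Ω) ∈ Zs S) → (c : MulAut R) y = y}
      one_mem' := fun _ _ => rfl
      mul_mem' := by
        intro c c' h1 h2 y hy
        show (c : MulAut R) ((c' : MulAut R) y) = y
        rw [h2 y hy, h1 y hy]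
      inv_mem' := by
        intro c h1 y hy
        show ((c : MulAut R))⁻¹ y = y
        exact (MulEquiv.symm_apply_eq _).2 (h1 y hy).symm }
  haveI hN : N.Normal := ⟨by
    intro c hc g y hy
    have h1 : (c : MulAut R) ((g : MulAut R)⁻¹ y) = (g : MulAut R)⁻¹ y := hc _ (by
      intro δ hδ
      exact hy (δ * (g : MulAut R)⁻¹) (Subgroup.mul_mem _ hδ (Subgroup.inv_mem _ g.2)))
    show (g : MulAut R) ((c : MulAut R) ((g : MulAut R)⁻¹ y)) = y
    rw [h1]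
    show ((g : MulAut R) * (g : MulAut R)⁻¹) y = y
    rw [mul_inv_cancel]
    rfl⟩
  have hPN : (P : Subgroup (F.autGroup R)) ≤ N := by
    rw [hP]
    intro x hx y hy
    have hx' : (x : MulAut R) ∈ autInducedBy S R := Subgroup.mem_subgroupOf.1 hx
    apply (hTv _ hx').1 y
    exact Subgroup.mem_subgroupOf.2 (hy 1 (Subgroup.one_mem _))
  have htop := Sylow.normalizer_sup_eq_top' P hPN
  have hm : (⟨γ, hγ⟩ : F.autGroup R) ∈ (Subgroup.normalizer (P : Set (F.autGroup R)) ⊔ N) := by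
    rw [htop]
    trivial
  obtain ⟨n, hn, c, hcN, e⟩ := Subgroup.mem_sup_of_normal_right.1 hm
  have hPm : ∀ x : F.autGroup R, x ∈ P ↔ (x : MulAut R) ∈ autInducedBy S R := by
    intro x
    have : x ∈ P ↔ x ∈ (P : Subgroup (F.autGroup R)) := Iff.rfl
    rw [this, hP]
    exact Subgroup.mem_subgroupOf
  have hnT : (n : MulAut R) ∈ Subgroup.normalizer (autInducedBy S R : Set (MulAut R)) := by
    rw [Subgroup.mem_normalizer_iff]
    intro h
    have hn' : ∀ x : F.autGroup R, x ∈ P ↔ n * x * n⁻¹ ∈ P := Subgroup.mem_normalizer_iff.1 hn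
    constructor
    · intro hh
      have h1 := (hPm ⟨h, hTA hh⟩).2 hh
      have h2 := (hn' _).1 h1
      exact (hPm _).1 h2
    · intro hh
      have hA : h ∈ F.autGroup R := by
        have h1 := hTA hh
        have h2 : h = (n : MulAut R)⁻¹ * ((n : MulAut R) * h * (n : MulAut R)⁻¹) * (n : MulAut R) := by group
        rw [h2]
        exact Subgroup.mul_mem _ (Subgroup.mul_mem _ (Subgroup.inv_mem _ n.2) h1) n.2
      have h1 : n * (⟨h, hA⟩ : F.autGroup R) * n⁻¹ ∈ P := (hPm _).2 hh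
      have h2 := (hn' _).2 h1
      exact (hPm _).1 h2
  obtain ⟨θ, hθ, eθ⟩ := ext_aut hS hF hc hR n.2 hnT
  refine ⟨θ, hθ, fun y hy => ?_⟩
  rw [eθ]
  have e' : γ = (n : MulAut R) * (c : MulAut R) := by
    have := congrArg Subtype.val e
    exact this.symm
  rw [e']
  show (((n : MulAut R) ((c : MulAut R) y) : R) : Ω) = _
  rw [show (c : MulAut R) y = y from hcN y hy]

/-- the image of a subgroup under an automorphism of `S` -/
abbrev imgS (θ : MulAut S) (R : Subgroup Ω) : Subgroup Ω := img (S.subtype.comp θ.toMonoidHom) R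

theorem mem_imgS {θ : MulAut S} {y : Ω} : y ∈ imgS θ R ↔ ∃ x : S, (x : Ω) ∈ R ∧ ((θ x : S) : Ω) = y := mem_img

theorem self_mem_imgS (θ : MulAut S) (x : S) (hx : (x : Ω) ∈ R) : ((θ x : S) : Ω) ∈ imgS θ R := mem_imgS.2 ⟨x, hx, rfl⟩

theorem Zs_aut (θ : MulAut S) {z : S} (hz : (z : Ω) ∈ Zs S) : ((θ z : S) : Ω) ∈ Zs S := by
  rw [Zs_eq_map] at hz ⊢
  obtain ⟨w, hw, e⟩ := hz
  have e' : w = z := Subtype.ext e
  subst e'
  have hw' : w ∈ center S := hw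
  refine ⟨θ w, ?_, rfl⟩
  show θ w ∈ center S
  rw [Subgroup.mem_center_iff] at hw' ⊢
  intro g
  have := hw' (θ.symm g)
  have h2 := congrArg θ this
  simpa using h2

theorem good_img (θ : MulAut S) (hR : Good S R) : Good S (imgS θ R) := by
  refine ⟨?_, ?_, ?_, ?_, ?_⟩
  · rintro _ ⟨x, -, rfl⟩
    exact (θ x).2
  · intro z hz
    have hzS : z ∈ S := (Subgroup.mem_inf.1 hz).1
    have h1 : ((θ.symm ⟨z, hzS⟩ : S) : Ω) ∈ Zs S := Zs_aut θ.symm (z := ⟨z, hzS⟩) hz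
    refine mem_imgS.2 ⟨θ.symm ⟨z, hzS⟩, hR.hZ h1, ?_⟩
    simp
  · intro h
    apply hR.ne
    apply le_antisymm hR.le
    intro s hs
    have h1 : ((θ ⟨s, hs⟩ : S) : Ω) ∈ imgS θ R := by
      rw [h]
      exact (θ ⟨s, hs⟩).2
    obtain ⟨x, hx, e⟩ := mem_imgS.1 h1
    have e' : x = ⟨s, hs⟩ := θ.injective (Subtype.ext e)
    rw [e'] at hx
    exact hx
  · intro h
    apply hR.ne'
    apply le_antisymm hR.hZ
    intro y hy
    have hyS := hR.le hy
    have h1 : ((θ ⟨y, hyS⟩ : S) : Ω) ∈ imgS θ R := self_mem_imgS θ _ hy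
    rw [← h] at h1
    have h2 := Zs_aut θ.symm (z := θ ⟨y, hyS⟩) h1
    simpa using h2
  · rintro ⟨y, hy⟩ ⟨y', hy'⟩
    obtain ⟨x, hx, rfl⟩ := mem_imgS.1 hy
    obtain ⟨x', hx', rfl⟩ := mem_imgS.1 hy'
    apply Subtype.ext
    have h1 := congrArg Subtype.val (hR.ab ⟨x, hx⟩ ⟨x', hx'⟩)
    have h2 : x * x' = x' * x := Subtype.ext h1
    show ((θ x : S) : Ω) * ((θ x' : S) : Ω) = ((θ x' : S) : Ω) * ((θ x : S) : Ω)
    rw [← Subgroup.coe_mul, ← map_mul, h2, map_mul, Subgroup.coe_mul]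

theorem aut_of_range {Q : Subgroup Ω} {χ : Q →* Ω} (hχ : χ ∈ F.Hom Q) (hr : χ.range = Q) :
    ∃ α ∈ F.autGroup Q, ∀ x : Q, ((α x : Q) : Ω) = χ x := by
  have hm : ∀ x, χ x ∈ Q := fun x => by
    have h : χ x ∈ χ.range := ⟨x, rfl⟩
    rw [hr] at h
    exact h
  let f : Q →* Q := χ.codRestrict Q hm
  have hb : Function.Bijective f := by
    constructor
    · intro x y h
      exact inj F hχ (congrArg Subtype.val h)
    · intro y
      have h1 : (y : Ω) ∈ χ.range := by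
        rw [hr]
        exact y.2
      obtain ⟨x, hx⟩ := h1
      exact ⟨x, Subtype.ext hx⟩
  let α : MulAut Q := MulEquiv.ofBijective f hb
  refine ⟨α, mem_autGroup_of F (hom_congr F hχ fun x => rfl), fun x => rfl⟩

theorem aut_conj {θ : MulAut S} (hθ : θ ∈ F.autGroup S) (hR : R ≤ S) {γ : MulAut R} (hγ : γ ∈ F.autGroup R) :
    ∃ γ' ∈ F.autGroup (imgS θ R), ∀ (x : S) (hx : (x : Ω) ∈ R),
      ((γ' ⟨θ x, self_mem_imgS θ x hx⟩ : imgS θ R) : Ω) = ((θ ⟨γ ⟨x, hx⟩, hR (γ ⟨x, hx⟩).2⟩ : S) : Ω) := by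
  have hφ₀ : S.subtype.comp θ.toMonoidHom ∈ F.Hom S := (mem_autGroup_iff F le_rfl).1 hθ
  obtain ⟨ψ, hψ, eψ⟩ := exists_inv_img F hφ₀ hR
  have hψR : ∀ w, ψ w ∈ R := by
    rintro ⟨w, hw⟩
    obtain ⟨x, hx, rfl⟩ := mem_imgS.1 hw
    have := eψ x hx
    rw [show (⟨((θ x : S) : Ω), hw⟩ : imgS θ R) = ⟨(S.subtype.comp θ.toMonoidHom) x, mem_img.2 ⟨x, hx, rfl⟩⟩ from rfl, this]
    exact hx
  have hγ' := (mem_autGroup_iff F hR).1 hγ
  have h1 := F.comp_mem hψ hγ' hψR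
  have h2 := F.comp_mem h1 hφ₀ (fun x => val_mem F h1 x)
  have hval : ∀ (x : S) (hx : (x : Ω) ∈ R) (hm : ((θ x : S) : Ω) ∈ imgS θ R), ψ ⟨θ x, hm⟩ = x := fun x hx _ => eψ x hx
  have hrange : ((S.subtype.comp θ.toMonoidHom).comp ((((R.subtype.comp γ.toMonoidHom).comp (ψ.codRestrict R hψR))).codRestrict S (fun x => val_mem F h1 x))).range = imgS θ R := by
    ext y
    constructor
    · rintro ⟨w, rfl⟩
      exact self_mem_imgS θ _ ((γ ⟨ψ w, hψR w⟩).2)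
    · intro hy
      obtain ⟨x, hx, rfl⟩ := mem_imgS.1 hy
      refine ⟨⟨θ ⟨γ.symm ⟨x, hx⟩, hR (γ.symm ⟨x, hx⟩).2⟩, self_mem_imgS θ _ (γ.symm ⟨x, hx⟩).2⟩, ?_⟩
      have h3 := hval ⟨γ.symm ⟨x, hx⟩, hR (γ.symm ⟨x, hx⟩).2⟩ (γ.symm ⟨x, hx⟩).2 (self_mem_imgS θ _ (γ.symm ⟨x, hx⟩).2)
      show ((θ ⟨((γ ⟨ψ ⟨θ ⟨γ.symm ⟨x, hx⟩, hR (γ.symm ⟨x, hx⟩).2⟩, self_mem_imgS θ _ (γ.symm ⟨x, hx⟩).2⟩, hψR _⟩ : R) : Ω), hR (γ ⟨_, hψR _⟩).2⟩ : S) : Ω) = _
      congr 2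
      apply Subtype.ext
      have h4 : (⟨ψ ⟨θ ⟨γ.symm ⟨x, hx⟩, hR (γ.symm ⟨x, hx⟩).2⟩, self_mem_imgS θ _ (γ.symm ⟨x, hx⟩).2⟩, hψR _⟩ : R) = γ.symm ⟨x, hx⟩ := Subtype.ext h3
      simp only [h4, MulEquiv.apply_symm_apply]
  obtain ⟨γ', hγ'A, e⟩ := aut_of_range h2 hrange
  refine ⟨γ', hγ'A, fun x hx => ?_⟩
  rw [e]
  have h3 := hval x hx (self_mem_imgS θ x hx)
  show ((θ ⟨((γ ⟨ψ ⟨θ x, self_mem_imgS θ x hx⟩, hψR _⟩ : R) : Ω), hR (γ ⟨_, hψR _⟩).2⟩ : S) : Ω) = _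
  congr 2
  apply Subtype.ext
  have h4 : (⟨ψ ⟨θ x, self_mem_imgS θ x hx⟩, hψR _⟩ : R) = ⟨x, hx⟩ := Subtype.ext h3
  simp only [h4]

/-- the elements of the centre all of whose images under automorphisms of good subgroups stay central -/
def WW (F : Cfsg.FusionSystem S) : Subgroup Ω where
  carrier := {y | y ∈ Zs S ∧ ∀ R, Good S R → ∀ (hy : y ∈ R), ∀ δ ∈ F.autGroup R, ((δ ⟨y, hy⟩ : R) : Ω) ∈ Zs S}
  one_mem' := ⟨Subgroup.one_mem _, fun R _ hy δ _ => by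
    rw [show (⟨1, hy⟩ : R) = 1 from rfl, map_one]
    exact Subgroup.one_mem _⟩
  mul_mem' := by
    rintro x y ⟨hx, hx'⟩ ⟨hy, hy'⟩
    refine ⟨Subgroup.mul_mem _ hx hy, fun R hR h δ hδ => ?_⟩
    have e : (⟨x * y, h⟩ : R) = ⟨x, hR.hZ hx⟩ * ⟨y, hR.hZ hy⟩ := rfl
    rw [e, map_mul]
    exact Subgroup.mul_mem _ (hx' R hR _ δ hδ) (hy' R hR _ δ hδ)
  inv_mem' := by
    rintro x ⟨hx, hx'⟩
    refine ⟨Subgroup.inv_mem _ hx, fun R hR h δ hδ => ?_⟩
    have e : (⟨x⁻¹, h⟩ : R) = (⟨x, hR.hZ hx⟩ : R)⁻¹ := rfl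
    rw [e, map_inv]
    exact Subgroup.inv_mem _ (hx' R hR _ δ hδ)

theorem mem_WW {y : Ω} : y ∈ WW F ↔ y ∈ Zs S ∧ ∀ R, Good S R → ∀ (hy : y ∈ R), ∀ δ ∈ F.autGroup R, ((δ ⟨y, hy⟩ : R) : Ω) ∈ Zs S := Iff.rfl

theorem WW_aut {θ : MulAut S} (hθ : θ ∈ F.autGroup S) {y : S} (hy : (y : Ω) ∈ WW F) : ((θ y : S) : Ω) ∈ WW F := by
  refine ⟨Zs_aut θ hy.1, fun R hR h δ hδ => ?_⟩
  have hθ' : θ⁻¹ ∈ F.autGroup S := Subgroup.inv_mem _ hθ
  have hR' := good_img θ⁻¹ hR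
  have hyR' : (y : Ω) ∈ imgS θ⁻¹ R := mem_imgS.2 ⟨θ y, h, by simp⟩
  obtain ⟨δ', hδ', e⟩ := aut_conj hθ' hR.le hδ
  have h1 := hy.2 _ hR' hyR' δ' hδ'
  have h2 := e (θ y) h
  have h3 : (⟨y, hyR'⟩ : imgS θ⁻¹ R) = ⟨θ⁻¹ (θ y), self_mem_imgS θ⁻¹ _ h⟩ := Subtype.ext (by simp)
  rw [h3, h2] at h1
  have h4 := Zs_aut θ h1
  have h5 : θ (θ⁻¹ ⟨((δ ⟨θ y, h⟩ : R) : Ω), hR.le (δ ⟨θ y, h⟩).2⟩) = ⟨((δ ⟨θ y, h⟩ : R) : Ω), hR.le (δ ⟨θ y, h⟩).2⟩ := by simp
  rw [h5] at h4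
  exact h4

theorem WW_good (hS : IsPGroup p S) (hF : F.IsSaturated p) (hc : Ctx S p a) (hR : Good S R) {γ : MulAut R} (hγ : γ ∈ F.autGroup R)
    {y : R} (hy : (y : Ω) ∈ WW F) : ((γ y : R) : Ω) ∈ WW F := by
  obtain ⟨θ, hθ, e⟩ := frat_fix hS hF hc hR hγ
  rw [e y (fun δ hδ => hy.2 R hR y.2 δ hδ)]
  exact WW_aut hθ (y := ⟨y, hR.le y.2⟩) hy

/-- an essential subgroup is good -/
theorem essential_good (hS : IsPGroup p S) (hF : F.IsSaturated p) (hc : Ctx S p a) {P : Subgroup Ω} (hE : F.IsEssential p P) : Good S P := by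
  classical
  have hPS : P ≤ S := hE.1.1
  haveI : Finite P := finite_of_le hPS
  have hcen : centralizerIn S P ≤ P := hE.1.2 P (isConj_refl F hPS)
  have hZ : Zs S ≤ P := by
    intro z hz
    apply hcen
    rw [mem_centralizerIn]
    exact ⟨(mem_Zs.1 hz).1, fun y hy => ((mem_Zs.1 hz).2 y (hPS hy))⟩
  have hlt := Cfsg.Agent.Lib.FusEss.essential_lt hS F hF hE
  have hne : P ≠ S := hlt.ne
  have hne' : Zs S ≠ P := by
    intro h
    apply hne
    apply le_antisymm hPS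
    intro s hs
    apply hcen
    rw [mem_centralizerIn]
    refine ⟨hs, fun y hy => ?_⟩
    rw [← h] at hy
    exact ((mem_Zs.1 hy).2 s hs).symm
  have hcard := card_between hS hc hPS hZ hne hne'
  haveI hn : ((Zs S).subgroupOf P).Normal := ⟨fun n hn g => by
    have hn' : (n : Ω) ∈ Zs S := Subgroup.mem_subgroupOf.1 hn
    have : g * n * g⁻¹ = n := by
      apply Subtype.ext
      show (g : Ω) * n * (g : Ω)⁻¹ = n
      rw [(mem_Zs.1 hn').2 g (hPS g.2), mul_inv_cancel_right]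
    rw [this]
    exact hn⟩
  have hidx : Nat.card (P ⧸ (Zs S).subgroupOf P) = p := by
    have h1 := Subgroup.card_mul_index ((Zs S).subgroupOf P)
    have h2 : Nat.card ((Zs S).subgroupOf P) = Nat.card (Zs S) := Nat.card_congr (Subgroup.subgroupOfEquivOfLe hZ).toEquiv
    haveI : Finite (Zs S) := finite_of_le inf_le_left
    rw [h2, hcard.1, mul_comm p] at h1
    exact Nat.eq_of_mul_eq_mul_left Nat.card_pos h1
  haveI : IsCyclic (P ⧸ (Zs S).subgroupOf P) := isCyclic_of_prime_card (p := p) hidx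
  refine ⟨hPS, hZ, hne, hne', ?_⟩
  apply commutative_of_cyclic_center_quotient (QuotientGroup.mk' ((Zs S).subgroupOf P))
  rw [QuotientGroup.ker_mk']
  intro z hz
  have hz' : (z : Ω) ∈ Zs S := Subgroup.mem_subgroupOf.1 hz
  rw [Subgroup.mem_center_iff]
  intro g
  exact Subtype.ext ((mem_Zs.1 hz').2 g (hPS g.2))

/-- an element of `R` fixed by `Aut_S(R)` is central -/
theorem fix_T (hc : Ctx S p a) (hR : Good S R) (y : R) (h : ∀ κ ∈ autInducedBy S R, κ y = y) : (y : Ω) ∈ Zs S := by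
  rw [mem_Zs]
  refine ⟨hR.le y.2, fun s hs => ?_⟩
  haveI : Finite R := finite_of_le hR.le
  have hsn : s ∈ Subgroup.normalizer (R : Set Ω) := mem_normalizer_of_conj_le' fun y hy => good_normal hc hR hs hy
  have h1 := h (cAut R ⟨s, hsn⟩) (mem_autInducedBy'.2 ⟨s, hs, fun x => rfl⟩)
  have h2 : s * y * s⁻¹ = y := congrArg Subtype.val h1
  rw [mul_inv_eq_iff_eq_mul] at h2
  exact h2

/-- the central elements are fixed by `Aut_S(R)` -/
theorem T_fix (hR : Good S R) {κ : MulAut R} (hκ : κ ∈ autInducedBy S R) (y : R) (hy : (y : Ω) ∈ Zs S) : κ y = y := by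
  obtain ⟨s, hs, e⟩ := mem_autInducedBy'.1 hκ
  apply Subtype.ext
  rw [e]
  rw [(mem_Zs.1 hy).2 s hs, mul_inv_cancel_right]

/-- normalizers of `Aut_S(R)` preserve the centre -/
theorem norm_Zh (hc : Ctx S p a) (hR : Good S R) {n : MulAut R} (hn : n ∈ Subgroup.normalizer (autInducedBy S R : Set (MulAut R))) (y : R) (hy : (y : Ω) ∈ Zs S) :
    ((n y : R) : Ω) ∈ Zs S := by
  apply fix_T hc hR
  intro κ hκ
  have h1 : n⁻¹ * κ * n⁻¹⁻¹ ∈ autInducedBy S R := (Subgroup.mem_normalizer_iff.1 (Subgroup.inv_mem _ hn) _).1 hκ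
  have h2 := T_fix hR h1 y hy
  have h3 : κ (n y) = n ((n⁻¹ * κ * n⁻¹⁻¹) y) := by
    simp [MulAut.mul_apply]
  rw [h3, h2]

/-- there is a non-trivial element of `Aut_S(R)` -/
theorem exists_tau (hc : Ctx S p a) (hR : Good S R) : ∃ τ ∈ autInducedBy S R, τ ≠ 1 := by
  obtain ⟨y, hy, hyZ⟩ : ∃ y ∈ R, y ∉ Zs S := by
    by_contra hall
    push_neg at hall
    exact hR.ne' (le_antisymm hR.hZ hall)
  by_contra hne
  push_neg at hne
  apply hyZ
  apply fix_T hc hR ⟨y, hy⟩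
  intro κ hκ
  rw [hne κ hκ]
  rfl

/-- the automizer of an essential subgroup does not normalize `Aut_S` -/
theorem essential_bad (hS : IsPGroup p S) (hF : F.IsSaturated p) (hc : Ctx S p a) {P : Subgroup Ω} (hE : F.IsEssential p P) :
    ∃ g ∈ F.autGroup P, g ∉ Subgroup.normalizer (autInducedBy S P : Set (MulAut P)) := by
  classical
  have hG := essential_good hS hF hc hE
  haveI : Finite P := finite_of_le hG.le
  by_contra hall
  push_neg at hall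
  have hrad := essential_radical hS F hE
  have hInn : Inn P = ⊥ := by
    rw [eq_bot_iff]
    rintro _ ⟨g, rfl⟩
    rw [Subgroup.mem_bot]
    ext x
    show ((g * x * g⁻¹ : P) : Ω) = x
    rw [hG.ab g x, mul_inv_cancel_right]
  have hcore : Cfsg.pCore p ↥(F.autGroup P) = ⊥ := by
    have h1 := hrad.2
    rw [hInn] at h1
    exact (Subgroup.map_eq_bot_iff_of_injective _ (Subgroup.subtype_injective _)).1 h1
  have hTA := autInduced_le_autGroup F hG.le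
  have hnorm : ((autInducedBy S P).subgroupOf (F.autGroup P)).Normal := ⟨fun n hn g => by
    have hn' : (n : MulAut P) ∈ autInducedBy S P := Subgroup.mem_subgroupOf.1 hn
    exact Subgroup.mem_subgroupOf.2 ((Subgroup.mem_normalizer_iff.1 (hall g g.2) _).1 hn')⟩
  have hpg : IsPGroup p ((autInducedBy S P).subgroupOf (F.autGroup P)) :=
    (isPGroup_autInduced hS P).comap_of_injective _ Subtype.coe_injective
  have h1 := Cfsg.Agent.Lib.H1Core.le_pCore hnorm hpg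
  rw [hcore, le_bot_iff] at h1
  obtain ⟨τ, hτ, hτ1⟩ := exists_tau hc hG
  have h2 : (⟨τ, hTA hτ⟩ : F.autGroup P) ∈ (autInducedBy S P).subgroupOf (F.autGroup P) := Subgroup.mem_subgroupOf.2 hτ
  rw [h1, Subgroup.mem_bot] at h2
  exact hτ1 (congrArg Subtype.val h2)

/-- there is an essential subgroup if the core is trivial and `S` is non-trivial -/
theorem exists_essential (hS : IsPGroup p S) (hF : F.IsSaturated p) (hS1 : S ≠ ⊥) (hcore : F.core = ⊥) : ∃ P, F.IsEssential p P := by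
  by_contra hall
  push_neg at hall
  have h := normal_of_invariant hS F hF (Q := S) (by
    intro P hP
    rcases hP with rfl | hP
    · exact ⟨le_rfl, fun α _ x _ => (α x).2⟩
    · exact absurd hP (hall P))
  apply hS1
  rw [eq_bot_iff, ← hcore]
  exact le_sSup h

/-- an invariant subgroup is trivial if the core is -/
theorem WW_bot (hS : IsPGroup p S) (hF : F.IsSaturated p) (hc : Ctx S p a) (hcore : F.core = ⊥) : WW F = ⊥ := by
  have h := normal_of_invariant hS F hF (Q := WW F) (by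
    intro P hP
    rcases hP with rfl | hP
    · refine ⟨fun y hy => (mem_Zs.1 hy.1).1, fun α hα x hx => WW_aut hα hx⟩
    · have hG := essential_good hS hF hc hP
      exact ⟨fun y hy => hG.hZ hy.1, fun α hα x hx => WW_good hS hF hc hG hα hx⟩)
  rw [eq_bot_iff, ← hcore]
  exact le_sSup h

end fusion

end Cfsg.Agent.Lib.FusTransv3
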