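import Mathlib
import Cfsg.Agent.Lib.FusTransv3
import Cfsg.Agent.Lib.PGrp2

set_option autoImplicit false
set_option linter.unusedSectionVars false

namespace Cfsg.Agent.Lib.FusTransv4

open scoped commutatorElement
open Subgroup Cfsg Cfsg.FusionSystem Cfsg.Agent.Lib.FusBasic Cfsg.Agent.Lib.FusAut Cfsg.Agent.Lib.FusSat Cfsg.Agent.Lib.FusNorm Cfsg.Agent.Lib.FusFrat Cfsg.Agent.Lib.FusTransv Cfsg.Agent.Lib.FusTransv2 Cfsg.Agent.Lib.FusTransv3

section abstract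

variable {G : Type*} [CommGroup G] [Finite G] {p : ℕ} [hp : Fact p.Prime]

theorem z_decomp_abs (hG : IsPGroup p G) {A T : Subgroup (MulAut G)}
    (hmax : ∀ W : Subgroup (MulAut G), IsPGroup p W → W ≤ A → T ≤ W → W = T) (hTA : T ≤ A)
    {Zh : Subgroup G} (hi : Zh.index = p) {a : G} (ha : a ∈ Zh) (ha1 : a ^ p = 1) (hTv : ∀ κ ∈ T, IsTv Zh a κ)
    {g : MulAut G} (hg : g ∈ A) (hgn : g ∉ Subgroup.normalizer (T : Set (MulAut G))) {z : G} (hz : z ∈ Zh) :
    ∃ i : ℤ, ∃ u ∈ Zh ⊓ Zh.map g.toMonoidHom, z = a ^ i * u := by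
  have hP : p.Prime := Fact.out
  have hi' : (Zh.map g.toMonoidHom).index = p := by rw [index_map_aut, hi]
  have hab := pair hG hmax hTA ha hTv hg hgn
  have hba := pair' hG hmax hTA ha hTv hg hgn
  obtain ⟨i, j, u, hu, e⟩ := decomp hi hi' ha hab hba z
  have hb1 : (g a) ^ p = 1 := by rw [← map_pow, ha1, map_one]
  have huZ : u ∈ Zh := (Subgroup.mem_inf.1 hu).1
  have hbj : (g a) ^ j ∈ Zh := by
    have e2 : (g a) ^ j = (a ^ i)⁻¹ * z * u⁻¹ := by
      rw [e]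
      group
    rw [e2]
    exact Zh.mul_mem (Zh.mul_mem (Zh.inv_mem (Zh.zpow_mem ha i)) hz) (Zh.inv_mem huZ)
  have hpj : (p : ℤ) ∣ j := by
    by_contra hnd
    have hco : IsCoprime (p : ℤ) j := (Nat.prime_iff_prime_int.1 hP).irreducible.coprime_iff_not_dvd.2 hnd
    obtain ⟨x, y, hxy⟩ := hco
    apply hba
    have e3 : g a = ((g a) ^ j) ^ y := by
      rw [← zpow_mul]
      have : j * y = 1 - x * p := by linarith
      rw [this, zpow_sub, zpow_one, zpow_mul']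
      rw [zpow_natCast, hb1, one_zpow, inv_one, mul_one]
    rw [e3]
    exact Zh.zpow_mem hbj y
  refine ⟨i, u, hu, ?_⟩
  rw [e, zpow_eq_one_of_dvd hb1 hpj, mul_one]

theorem exp_abs {Zh : Subgroup G} (hi : Zh.index = p) {b : G} (hb : b ∉ Zh) (hb1 : b ^ p = 1) (h : ∀ z ∈ Zh, z ^ p = 1) (y : G) : y ^ p = 1 := by
  obtain ⟨z, hz, j, e⟩ := top_eq_sup hi hb y
  rw [e, mul_pow, h z hz, one_mul, ← zpow_natCast, ← zpow_mul, mul_comm, zpow_mul, zpow_natCast, hb1, one_zpow]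

end abstract

section fusion

variable {Ω : Type*} [Group Ω] {S : Subgroup Ω} [Finite S] {p : ℕ} [hp : Fact p.Prime] {a : Ω} {R : Subgroup Ω} {F : Cfsg.FusionSystem S}

/-- the element `a` seen in a good subgroup -/
abbrev ah (hc : Ctx S p a) (hR : Good S R) : R := ⟨a, hR.hZ hc.ha⟩

theorem pair_R (hS : IsPGroup p S) (hF : F.IsSaturated p) (hc : Ctx S p a) (hR : Good S R) {g : MulAut R} (hg : g ∈ F.autGroup R)
    (hgn : g ∉ Subgroup.normalizer (autInducedBy S R : Set (MulAut R))) : ((g (ah hc hR) : R) : Ω) ∉ Zs S := by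
  haveI : Finite R := finite_of_le hR.le
  obtain ⟨hmax, hTA, hi, ha, ha1, hTv⟩ := data_R hS hF hc hR
  letI iC : CommGroup R := { (inferInstance : Group R) with mul_comm := hR.ab }
  have := pair' (hS.to_le hR.le) hmax hTA ha hTv hg hgn
  intro h
  exact this (Subgroup.mem_subgroupOf.2 h)

theorem mem_Y {g : MulAut R} {u : R} : u ∈ ((Zs S).subgroupOf R).map g.toMonoidHom ↔ ((g⁻¹ u : R) : Ω) ∈ Zs S := by
  constructor
  · rintro ⟨w, hw, rfl⟩
    have : g⁻¹ (g w) = w := by simp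
    show ((g⁻¹ (g w) : R) : Ω) ∈ Zs S
    rw [this]
    exact Subgroup.mem_subgroupOf.1 hw
  · intro h
    refine ⟨g⁻¹ u, Subgroup.mem_subgroupOf.2 h, ?_⟩
    show g (g⁻¹ u) = u
    simp

theorem pair_R' (hS : IsPGroup p S) (hF : F.IsSaturated p) (hc : Ctx S p a) (hR : Good S R) {g : MulAut R} (hg : g ∈ F.autGroup R)
    (hgn : g ∉ Subgroup.normalizer (autInducedBy S R : Set (MulAut R))) : ((g⁻¹ (ah hc hR) : R) : Ω) ∉ Zs S := by
  haveI : Finite R := finite_of_le hR.le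
  obtain ⟨hmax, hTA, hi, ha, ha1, hTv⟩ := data_R hS hF hc hR
  letI iC : CommGroup R := { (inferInstance : Group R) with mul_comm := hR.ab }
  have := pair (hS.to_le hR.le) hmax hTA ha hTv hg hgn
  intro h
  exact this (mem_Y.2 h)

/-- every central element is a power of `a` times an element of `Y` -/
theorem z_decomp_R (hS : IsPGroup p S) (hF : F.IsSaturated p) (hc : Ctx S p a) (hR : Good S R) {g : MulAut R} (hg : g ∈ F.autGroup R)
    (hgn : g ∉ Subgroup.normalizer (autInducedBy S R : Set (MulAut R))) {z : R} (hz : (z : Ω) ∈ Zs S) :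
    ∃ i : ℤ, ∃ u : R, (u : Ω) ∈ Zs S ∧ ((g⁻¹ u : R) : Ω) ∈ Zs S ∧ z = (ah hc hR) ^ i * u := by
  haveI : Finite R := finite_of_le hR.le
  obtain ⟨hmax, hTA, hi, ha, ha1, hTv⟩ := data_R hS hF hc hR
  letI iC : CommGroup R := { (inferInstance : Group R) with mul_comm := hR.ab }
  obtain ⟨i, u, hu, e⟩ := z_decomp_abs (hS.to_le hR.le) hmax hTA hi ha ha1 hTv hg hgn (Subgroup.mem_subgroupOf.2 hz)
  obtain ⟨hu1, hu2⟩ := Subgroup.mem_inf.1 hu
  exact ⟨i, u, Subgroup.mem_subgroupOf.1 hu1, mem_Y.1 hu2, e⟩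

/-- the inversion attached to a non-normalizing element, for odd `p` -/
theorem inv_R (hS : IsPGroup p S) (hF : F.IsSaturated p) (hc : Ctx S p a) (hR : Good S R) {g : MulAut R} (hg : g ∈ F.autGroup R)
    (hgn : g ∉ Subgroup.normalizer (autInducedBy S R : Set (MulAut R))) (hp2 : p ≠ 2) :
    ∃ θ ∈ F.autGroup S, ((θ ⟨a, (mem_Zs.1 hc.ha).1⟩ : S) : Ω) = a⁻¹ ∧ (∀ z : S, (z : Ω) ∈ Zs S → ∃ i : ℤ, ((θ z : S) : Ω) = a ^ i * z) ∧
      ∀ (z : S) (hz : (z : Ω) ∈ Zs S), θ z = z ↔ ((g⁻¹ ⟨z, hR.hZ hz⟩ : R) : Ω) ∈ Zs S := by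
  classical
  have hP : p.Prime := Fact.out
  haveI : Finite R := finite_of_le hR.le
  obtain ⟨hmax, hTA, hi, ha, ha1, hTv⟩ := data_R hS hF hc hR
  obtain ⟨τ, hτ, hτ1⟩ := exists_tau hc hR
  letI iC : CommGroup R := { (inferInstance : Group R) with mul_comm := hR.ab }
  obtain ⟨t, htA, hta, htb, htu, htc⟩ := exists_t (hS.to_le hR.le) hmax hTA hi ha ha1 hTv hτ hτ1 hg hgn hp2
  have hn : t ∈ Subgroup.normalizer (autInducedBy S R : Set (MulAut R)) := by
    rw [Subgroup.mem_normalizer_iff]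
    intro h
    by_cases hh : h ∈ autInducedBy S R
    · have e : t * h * t⁻¹ = h := by rw [htc h hh, mul_inv_cancel_right]
      rw [e]
    · constructor
      · intro h1
        exact absurd h1 hh
      · intro h1
        have e : t⁻¹ * (t * h * t⁻¹) * t = h := by group
        have e2 : t⁻¹ * (t * h * t⁻¹) * t = t * h * t⁻¹ := by
          have := htc _ h1
          have h3 : t⁻¹ * (t * (t * h * t⁻¹)) = t⁻¹ * ((t * h * t⁻¹) * t) := congrArg _ this
          rw [inv_mul_cancel_left] at h3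
          rw [← mul_assoc] at h3
          exact h3.symm
        rw [← e, e2]
        exact h1
  obtain ⟨θ, hθ, e⟩ := ext_aut hS hF hc hR htA hn
  have hθa : ((θ ⟨a, (mem_Zs.1 hc.ha).1⟩ : S) : Ω) = a⁻¹ := by
    rw [e ⟨a, hR.hZ hc.ha⟩, hta]
    rfl
  have hform : ∀ (z : S) (hz : (z : Ω) ∈ Zs S), ∃ (i : ℤ) (u : R), u ∈ ((Zs S).subgroupOf R) ⊓ ((Zs S).subgroupOf R).map g.toMonoidHom ∧
      (⟨z, hR.hZ hz⟩ : R) = (⟨a, hR.hZ hc.ha⟩ : R) ^ i * u ∧ ((θ z : S) : Ω) = ((((⟨a, hR.hZ hc.ha⟩ : R) ^ (-i) * u : R)) : Ω) := by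
    intro z hz
    obtain ⟨i, u, hu, ez⟩ := z_decomp_abs (hS.to_le hR.le) hmax hTA hi ha ha1 hTv hg hgn (z := (⟨z, hR.hZ hz⟩ : R)) (Subgroup.mem_subgroupOf.2 hz)
    refine ⟨i, u, hu, ez, ?_⟩
    have h1 := e ⟨z, hR.hZ hz⟩
    have h2 : t (⟨z, hR.hZ hz⟩ : R) = (⟨a, hR.hZ hc.ha⟩ : R) ^ (-i) * u := by
      rw [ez, map_mul, map_zpow, hta, htu u hu, inv_zpow, zpow_neg]
    rw [h2] at h1
    exact h1
  refine ⟨θ, hθ, hθa, ?_, ?_⟩
  · intro z hz
    obtain ⟨i, u, hu, ez, e2⟩ := hform z hz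
    refine ⟨-i - i, ?_⟩
    rw [e2]
    have h3 : (z : Ω) = a ^ i * u := by
      have := congrArg Subtype.val ez
      simpa using this
    rw [h3]
    show (((⟨a, hR.hZ hc.ha⟩ : R) ^ (-i) * u : R) : Ω) = _
    have h4 : ((⟨a, hR.hZ hc.ha⟩ : R) ^ (-i) * u : R) = (⟨a, hR.hZ hc.ha⟩ : R) ^ (-i - i) * ((⟨a, hR.hZ hc.ha⟩ : R) ^ i * u) := by
      rw [← mul_assoc, ← zpow_add, sub_add_cancel]
    rw [h4]
    simp
  · intro z hz
    obtain ⟨i, u, hu, ez, e2⟩ := hform z hz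
    have hu2 : ((g⁻¹ u : R) : Ω) ∈ Zs S := mem_Y.1 (Subgroup.mem_inf.1 hu).2
    have huZ : u ∈ ((Zs S).subgroupOf R) := (Subgroup.mem_inf.1 hu).1
    constructor
    · intro hfix
      -- `a^(2i) = 1`
      have h3 : (⟨a, hR.hZ hc.ha⟩ : R) ^ (-i) * u = (⟨a, hR.hZ hc.ha⟩ : R) ^ i * u := by
        apply Subtype.ext
        rw [← e2, hfix]
        have := congrArg Subtype.val ez
        exact this
      have h4 : (⟨a, hR.hZ hc.ha⟩ : R) ^ (-i) = (⟨a, hR.hZ hc.ha⟩ : R) ^ i := mul_right_cancel h3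
      have h5 : (⟨a, hR.hZ hc.ha⟩ : R) ^ (i + i) = 1 := by
        rw [zpow_add]
        nth_rewrite 1 [← h4]
        rw [← zpow_add, neg_add_cancel, zpow_zero]
      have hord : orderOf (⟨a, hR.hZ hc.ha⟩ : R) = p := orderOf_eq_prime ha1 (by
        intro h
        exact hc.ha1 (congrArg Subtype.val h))
      have h6 : (p : ℤ) ∣ (i + i) := by
        rw [← hord]
        exact orderOf_dvd_iff_zpow_eq_one.2 h5
      have h7 : (p : ℤ) ∣ i := by
        rw [← two_mul] at h6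
        rcases (Nat.prime_iff_prime_int.1 hP).dvd_or_dvd h6 with h8 | h8
        · exfalso
          have h9 : p ∣ 2 := by exact_mod_cast h8
          exact hp2 ((Nat.prime_dvd_prime_iff_eq hP Nat.prime_two).1 h9)
        · exact h8
      have h8 : (⟨a, hR.hZ hc.ha⟩ : R) ^ i = 1 := zpow_eq_one_of_dvd ha1 h7
      rw [ez, h8, one_mul]
      exact hu2
    · intro hy
      have hmem : (⟨z, hR.hZ hz⟩ : R) ∈ ((Zs S).subgroupOf R) ⊓ ((Zs S).subgroupOf R).map g.toMonoidHom :=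
        Subgroup.mem_inf.2 ⟨Subgroup.mem_subgroupOf.2 hz, mem_Y.2 hy⟩
      have h1 := e ⟨z, hR.hZ hz⟩
      rw [htu _ hmem] at h1
      exact Subtype.ext h1

theorem pow_rho {X : Type*} [Group X] {ρ : MulAut X} {a z : X} (hρa : ρ a = a) {i : ℤ} (hz : ρ z = a ^ i * z) (n : ℕ) :
    (ρ ^ n) z = a ^ (n * i) * z := by
  induction n with
  | zero => simp
  | succ n ih =>
    rw [pow_succ']
    show ρ ((ρ ^ n) z) = _
    rw [ih, map_mul, map_zpow, hρa, hz, ← mul_assoc, ← zpow_add]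
    congr 2
    push_cast
    ring

/-- two inversions agree on the centre -/
theorem inv_unique (hS : IsPGroup p S) (hF : F.IsSaturated p) (hc : Ctx S p a) {θ₁ θ₂ : MulAut S} (h₁ : θ₁ ∈ F.autGroup S) (h₂ : θ₂ ∈ F.autGroup S)
    (ha₁ : ((θ₁ ⟨a, (mem_Zs.1 hc.ha).1⟩ : S) : Ω) = a⁻¹) (ha₂ : ((θ₂ ⟨a, (mem_Zs.1 hc.ha).1⟩ : S) : Ω) = a⁻¹)
    (hz₁ : ∀ z : S, (z : Ω) ∈ Zs S → ∃ i : ℤ, ((θ₁ z : S) : Ω) = a ^ i * z)
    (hz₂ : ∀ z : S, (z : Ω) ∈ Zs S → ∃ i : ℤ, ((θ₂ z : S) : Ω) = a ^ i * z) :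
    ∀ z : S, (z : Ω) ∈ Zs S → θ₁ z = θ₂ z := by
  have haS := (mem_Zs.1 hc.ha).1
  set A : S := ⟨a, haS⟩ with hA
  have hA1 : A ^ p = 1 := Subtype.ext hc.hap
  have hθa₁ : θ₁ A = A⁻¹ := Subtype.ext ha₁
  have hθa₂ : θ₂ A = A⁻¹ := Subtype.ext ha₂
  have hinv₂ : θ₂⁻¹ A = A⁻¹ := by
    apply (MulEquiv.symm_apply_eq θ₂).2
    rw [map_inv, hθa₂, inv_inv]
  have hzS₂ : ∀ z : S, ∃ i : ℤ, (z : Ω) ∈ Zs S → θ₂ z = A ^ i * z := by
    intro z
    by_cases hz : (z : Ω) ∈ Zs S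
    · obtain ⟨i, hi⟩ := hz₂ z hz
      refine ⟨i, fun _ => Subtype.ext ?_⟩
      rw [hi]
      simp [hA]
    · exact ⟨0, fun h => absurd h hz⟩
  have hρ : θ₂⁻¹ * θ₁ ∈ F.autGroup S := Subgroup.mul_mem _ (Subgroup.inv_mem _ h₂) h₁
  have hρa : (θ₂⁻¹ * θ₁) A = A := by
    show θ₂⁻¹ (θ₁ A) = A
    rw [hθa₁, map_inv, hinv₂, inv_inv]
  have hρz : ∀ z : S, (z : Ω) ∈ Zs S → ∃ i : ℤ, (θ₂⁻¹ * θ₁) z = A ^ i * z := by
    intro z hz
    obtain ⟨i, hi⟩ := hz₁ z hz
    obtain ⟨j, hj⟩ := hzS₂ z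
    have hj' := hj hz
    refine ⟨-i + j, ?_⟩
    have h1 : θ₁ z = A ^ i * z := by
      apply Subtype.ext
      rw [hi]
      simp [hA]
    show θ₂⁻¹ (θ₁ z) = _
    rw [h1, map_mul, map_zpow, hinv₂, inv_zpow, ← zpow_neg]
    have h2 : θ₂⁻¹ z = A ^ j * z := by
      apply (MulEquiv.symm_apply_eq θ₂).2
      rw [map_mul, map_zpow, hθa₂, hj', inv_zpow, ← mul_assoc, ← zpow_neg, ← zpow_add]
      simp
    rw [h2, ← mul_assoc, ← zpow_add]
  have hfix := center_fix hS hF hρ (by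
    intro z hz
    obtain ⟨i, hi⟩ := hρz z hz
    rw [pow_rho hρa hi p, zpow_mul, zpow_natCast, hA1, one_zpow, one_mul])
  intro z hz
  have h1 := hfix z hz
  have h2 : θ₂⁻¹ (θ₁ z) = z := h1
  exact ((MulEquiv.symm_apply_eq θ₂).1 h2)

/-- for odd `p` the centre is `⟨a⟩` -/
theorem odd_main (hS : IsPGroup p S) (hF : F.IsSaturated p) (hc : Ctx S p a) (hS1 : S ≠ ⊥) (hcore : F.core = ⊥) (hp2 : p ≠ 2) :
    ∀ z ∈ Zs S, z ∈ zpowers a := by
  obtain ⟨P₀, hE⟩ := exists_essential hS hF hS1 hcore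
  have hG₀ := essential_good hS hF hc hE
  obtain ⟨g₀, hg₀, hgn₀⟩ := essential_bad hS hF hc hE
  obtain ⟨θ₀, hθ₀, ha₀, hz₀, hfix₀⟩ := inv_R hS hF hc hG₀ hg₀ hgn₀ hp2
  have hWW := WW_bot hS hF hc hcore
  intro z hz
  obtain ⟨i, u, hu, hu', e⟩ := z_decomp_R hS hF hc hG₀ hg₀ hgn₀ (z := ⟨z, hG₀.hZ hz⟩) hz
  have huW : (u : Ω) ∈ WW F := by
    refine ⟨hu, fun R hR hy δ hδ => ?_⟩
    by_cases hn : δ ∈ Subgroup.normalizer (autInducedBy S R : Set (MulAut R))
    · exact norm_Zh hc hR hn ⟨u, hy⟩ hu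
    · have hn' : δ⁻¹ ∉ Subgroup.normalizer (autInducedBy S R : Set (MulAut R)) := fun h => hn (by simpa using Subgroup.inv_mem _ h)
      obtain ⟨θ, hθ, ha', hz', hfix⟩ := inv_R hS hF hc hR (Subgroup.inv_mem _ hδ) hn' hp2
      let uS : S := ⟨u, hG₀.le u.2⟩
      have h1 : θ₀ uS = uS := (hfix₀ uS hu).2 hu'
      have h2 : θ uS = θ₀ uS := inv_unique hS hF hc hθ hθ₀ ha' ha₀ hz' hz₀ uS hu
      have h3 : θ uS = uS := h2.trans h1
      have h4 := (hfix uS hu).1 h3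
      rw [inv_inv] at h4
      exact h4
  rw [hWW, Subgroup.mem_bot] at huW
  have e' : u = 1 := Subtype.ext huW
  rw [e', mul_one] at e
  have e2 : z = a ^ i := by
    have := congrArg Subtype.val e
    simpa using this
  rw [e2]
  exact Subgroup.zpow_mem _ (Subgroup.mem_zpowers a) i

theorem hcl_of (hc : Ctx S p a) : ⁅commutator S, (⊤ : Subgroup S)⁆ = ⊥ := by
  rw [eq_bot_iff, Subgroup.commutator_le]
  intro g₁ hg₁ g₂ _
  have hle : commutator S ≤ center S := by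
    rw [commutator_def, Subgroup.commutator_le]
    rintro x - y -
    rw [commutatorElement_def]
    obtain ⟨n, hn⟩ := hc.hcomm x x.2 y y.2
    have h1 : ((x * y * x⁻¹ * y⁻¹ : S) : Ω) ∈ Zs S := by
      show (x : Ω) * y * (x : Ω)⁻¹ * (y : Ω)⁻¹ ∈ Zs S
      rw [← show a ^ n = (x : Ω) * y * (x : Ω)⁻¹ * (y : Ω)⁻¹ from hn]
      exact Subgroup.zpow_mem _ hc.ha n
    rw [Zs_eq_map] at h1
    obtain ⟨w, hw, e⟩ := h1
    have : w = x * y * x⁻¹ * y⁻¹ := Subtype.ext e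
    rw [← this]
    exact hw
  have h := Subgroup.mem_center_iff.1 (hle hg₁) g₂
  rw [commutatorElement_def, ← h, mul_inv_cancel_right, mul_inv_cancel]
  exact Subgroup.one_mem _

/-- for odd `p` the group has exponent `p` -/
theorem exp_main (hS : IsPGroup p S) (hF : F.IsSaturated p) (hc : Ctx S p a) (hS1 : S ≠ ⊥) (hcore : F.core = ⊥) (hp2 : p ≠ 2)
    (hZa : ∀ z ∈ Zs S, z ∈ zpowers a) : ∀ s : S, s ^ p = 1 := by
  classical
  have hP : p.Prime := Fact.out
  by_contra hne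
  have hcl := hcl_of hc
  have hmul : ∀ x y : S, (x * y) ^ p = x ^ p * y ^ p := by
    intro x y
    apply Cfsg.Agent.Lib.PGrp.mul_pow_eq_of_class2 hp2 hcl
    rw [commutatorElement_def]
    obtain ⟨n, hn⟩ := hc.hcomm y y.2 x x.2
    apply Subtype.ext
    have h1 : ((y * x * y⁻¹ * x⁻¹ : S) : Ω) = a ^ n := hn.symm
    rw [Subgroup.coe_pow, h1, ← zpow_natCast, ← zpow_mul, mul_comm, zpow_mul, zpow_natCast, hc.hap, one_zpow]
    rfl
  let Q : Subgroup Ω :=
    { carrier := {x | x ∈ S ∧ x ^ p = 1}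
      one_mem' := ⟨S.one_mem, one_pow p⟩
      mul_mem' := by
        rintro x y ⟨hx, hx1⟩ ⟨hy, hy1⟩
        refine ⟨S.mul_mem hx hy, ?_⟩
        have := congrArg Subtype.val (hmul ⟨x, hx⟩ ⟨y, hy⟩)
        simp only [Subgroup.coe_pow, Subgroup.coe_mul, hx1, hy1, mul_one] at this
        exact this
      inv_mem' := by
        rintro x ⟨hx, hx1⟩
        exact ⟨S.inv_mem hx, by rw [inv_pow, hx1, inv_one]⟩ }
  have hQS : Q ≤ S := fun x hx => hx.1
  have hQne : Q ≠ S := by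
    intro h
    apply hne
    intro s
    have : (s : Ω) ∈ Q := by
      rw [h]
      exact s.2
    exact Subtype.ext this.2
  have hessQ : ∀ P, F.IsEssential p P → P = Q := by
    intro P hE
    have hG := essential_good hS hF hc hE
    obtain ⟨g, hg, hgn⟩ := essential_bad hS hF hc hE
    haveI : Finite P := finite_of_le hG.le
    have hb := pair_R hS hF hc hG hg hgn
    have hPQ : P ≤ Q := by
      intro y hy
      refine ⟨hG.le hy, ?_⟩
      obtain ⟨-, -, hi, -, ha1, -⟩ := data_R hS hF hc hG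
      letI iC : CommGroup P := { (inferInstance : Group P) with mul_comm := hG.ab }
      have h1 := exp_abs (p := p) (y := (⟨y, hy⟩ : P)) hi (b := g (ah hc hG)) (fun h => hb (Subgroup.mem_subgroupOf.1 h)) (by
          rw [← map_pow, ha1, map_one]) (by
          intro z hz
          obtain ⟨n, hn⟩ := hZa z (Subgroup.mem_subgroupOf.1 hz)
          apply Subtype.ext
          show (z : Ω) ^ p = 1
          rw [← show a ^ n = (z : Ω) from hn, ← zpow_natCast, ← zpow_mul, mul_comm, zpow_mul, zpow_natCast, hc.hap, one_zpow])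
      exact congrArg Subtype.val h1
    haveI : Finite Q := finite_of_le hQS
    obtain ⟨d, hd⟩ : Nat.card P ∣ Nat.card Q := Subgroup.card_dvd_of_le hPQ
    obtain ⟨e, he⟩ : Nat.card Q ∣ Nat.card S := Subgroup.card_dvd_of_le hQS
    have hcard := (good_card hS hc hG).2
    have h1 : d * e = p := by
      rw [he, hd, mul_assoc] at hcard
      have h2 : Nat.card P * (d * e) = Nat.card P * p := by rw [hcard, mul_comm]
      exact Nat.eq_of_mul_eq_mul_left Nat.card_pos h2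
    rcases (Nat.dvd_prime hP).1 (Dvd.intro d (by rw [mul_comm]; exact h1) : e ∣ p) with h2 | h2
    · exfalso
      apply hQne
      apply Subgroup.eq_of_le_of_card_ge hQS
      rw [he, h2, mul_one]
    · have hd1 : d = 1 := by
        rw [h2] at h1
        exact Nat.eq_of_mul_eq_mul_right hP.pos (by rw [h1, one_mul])
      apply Subgroup.eq_of_le_of_card_ge hPQ
      rw [hd, hd1, mul_one]
  have hN := normal_of_invariant hS F hF (Q := Q) (by
    intro P hP'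
    rcases hP' with rfl | hE
    · refine ⟨hQS, fun α _ x hx => ⟨(α x).2, ?_⟩⟩
      have h1 : x ^ p = 1 := Subtype.ext hx.2
      rw [← Subgroup.coe_pow, ← map_pow, h1, map_one]
      rfl
    · have e := hessQ P hE
      subst e
      exact ⟨le_rfl, fun α _ x _ => (α x).2⟩)
  have hle : Q ≤ F.core := le_sSup hN
  rw [hcore, le_bot_iff] at hle
  obtain ⟨P₀, hE⟩ := exists_essential hS hF hS1 hcore
  have e := hessQ P₀ hE
  have hG := essential_good hS hF hc hE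
  have h1 : a ∈ Q := by
    rw [← e]
    exact hG.hZ hc.ha
  rw [hle, Subgroup.mem_bot] at h1
  exact hc.ha1 h1

/-- the conclusion once the centre is `⟨a⟩` -/
theorem final_extra (hS : IsPGroup p S) (hc : Ctx S p a) (hZa : ∀ z ∈ Zs S, z ∈ zpowers a) :
    Cfsg.IsExtraspecial p S ∧ Nat.card S = p ^ 3 := by
  have hP : p.Prime := Fact.out
  have haS := (mem_Zs.1 hc.ha).1
  set A : S := ⟨a, haS⟩ with hA
  have hA1 : A ^ p = 1 := Subtype.ext hc.hap
  have hAne : A ≠ 1 := fun h => hc.ha1 (congrArg Subtype.val h)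
  have hcenter : center S = zpowers A := by
    apply le_antisymm
    · intro z hz
      have h1 : (z : Ω) ∈ Zs S := by
        rw [Zs_eq_map]
        exact ⟨z, hz, rfl⟩
      obtain ⟨n, hn⟩ := hZa _ h1
      exact ⟨n, Subtype.ext (by simpa [hA] using hn)⟩
    · rw [Subgroup.zpowers_le]
      have h1 := hc.ha
      rw [Zs_eq_map] at h1
      obtain ⟨w, hw, e⟩ := h1
      have : w = A := Subtype.ext e
      rw [← this]
      exact hw
  have hcc : Nat.card (center S) = p := by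
    rw [hcenter, Nat.card_zpowers, orderOf_eq_prime hA1 hAne]
  have hcomm : commutator S = center S := by
    apply le_antisymm
    · rw [_root_.commutator_def, Subgroup.commutator_le]
      rintro x - y -
      rw [commutatorElement_def, hcenter]
      obtain ⟨n, hn⟩ := hc.hcomm x x.2 y y.2
      exact ⟨n, Subtype.ext (by simpa [hA] using hn)⟩
    · rw [hcenter, Subgroup.zpowers_le]
      obtain ⟨x, hx, r, hr, e⟩ := hc.hgen
      have h1 : A = ⁅(⟨x, hx⟩ : S), (⟨r, hr⟩ : S)⁆ := by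
        apply Subtype.ext
        rw [commutatorElement_def]
        exact e
      rw [h1, _root_.commutator_def]
      exact Subgroup.commutator_mem_commutator trivial trivial
  have hfr : frattini S = center S := by
    apply le_antisymm
    · apply Cfsg.Agent.Lib.PGrp.frattini_le_of hS _ hcomm.le
      intro x
      have h1 := hc.hpow x x.2
      rw [Zs_eq_map] at h1
      obtain ⟨w, hw, e⟩ := h1
      have : w = x ^ p := Subtype.ext e
      rw [← this]
      exact hw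
    · rw [← hcomm]
      exact Cfsg.Agent.Lib.PGrp.commutator_le_frattini hS
  refine ⟨⟨⟨hS, hfr, hcomm⟩, hcc⟩, ?_⟩
  rw [card_Zs_mul hc]
  have h2 : Nat.card (Zs S) = Nat.card (center S) := by
    rw [Zs_eq_map]
    exact Subgroup.card_map_of_injective (Subgroup.subtype_injective S)
  rw [h2, hcc]
  ring

end fusion

end Cfsg.Agent.Lib.FusTransv4
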