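import Mathlib
import Cfsg.Agent.Lib.FusTransv4
import Cfsg.Agent.Lib.FusHyp
import Cfsg.Agent.Lib.FusAlp

set_option autoImplicit false
set_option linter.unusedSectionVars false

namespace Cfsg.Agent.Lib.FusTransv5

open scoped commutatorElement
open Subgroup Cfsg Cfsg.FusionSystem Cfsg.Agent.Lib.FusBasic Cfsg.Agent.Lib.FusAut Cfsg.Agent.Lib.FusSat Cfsg.Agent.Lib.FusNorm Cfsg.Agent.Lib.FusFrat Cfsg.Agent.Lib.FusTransv Cfsg.Agent.Lib.FusTransv2 Cfsg.Agent.Lib.FusTransv3 Cfsg.Agent.Lib.FusTransv4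

section fusion

variable {Ω : Type*} [Group Ω] {S : Subgroup Ω} [Finite S] {p : ℕ} [hp : Fact p.Prime] {a : Ω} {R : Subgroup Ω} {F : Cfsg.FusionSystem S}

theorem zpow2 {X : Type*} [Group X] {x : X} (h : x ^ 2 = 1) (i : ℤ) : x ^ i = 1 ∨ x ^ i = x := by
  rcases Int.even_or_odd' i with ⟨c, rfl | rfl⟩
  · left
    rw [zpow_mul]
    have : x ^ (2 : ℤ) = 1 := by exact_mod_cast h
    rw [this, one_zpow]
  · right
    rw [zpow_add, zpow_mul]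
    have : x ^ (2 : ℤ) = 1 := by exact_mod_cast h
    rw [this, one_zpow, one_mul, zpow_one]

theorem idx2 (hS : IsPGroup p S) (hc : Ctx S p a) (hR : Good S R) (hp2 : p = 2) {x y : Ω} (hx : x ∈ S) (hy : y ∈ S) (hxR : x ∉ R) (hyR : y ∉ R) :
    x * y ∈ R := by
  haveI : Finite R := finite_of_le hR.le
  have h1 := Subgroup.card_mul_index (R.subgroupOf S)
  have h2 : Nat.card (R.subgroupOf S) = Nat.card R := Nat.card_congr (Subgroup.subgroupOfEquivOfLe hR.le).toEquiv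
  rw [h2, (good_card hS hc hR).2] at h1
  have h3 : (R.subgroupOf S).index = 2 := by
    rw [← hp2]
    rw [mul_comm p] at h1
    exact Nat.eq_of_mul_eq_mul_left Nat.card_pos h1
  have h4 := (Subgroup.mul_mem_iff_of_index_two h3 (a := ⟨x, hx⟩) (b := ⟨y, hy⟩)).2
    ⟨fun h => absurd (Subgroup.mem_subgroupOf.1 h) hxR, fun h => absurd (Subgroup.mem_subgroupOf.1 h) hyR⟩
  exact Subgroup.mem_subgroupOf.1 h4

theorem zs_idx2 (hS : IsPGroup p S) (hc : Ctx S p a) (hR : Good S R) (hp2 : p = 2) {x y : Ω} (hx : x ∈ R) (hy : y ∈ R) (hxR : x ∉ Zs S) (hyR : y ∉ Zs S) :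
    x * y ∈ Zs S := by
  have h3 : ((Zs S).subgroupOf R).index = 2 := by
    rw [← hp2]
    exact good_index hS hc hR
  have h4 := (Subgroup.mul_mem_iff_of_index_two h3 (a := ⟨x, hx⟩) (b := ⟨y, hy⟩)).2
    ⟨fun h => absurd (Subgroup.mem_subgroupOf.1 h) hxR, fun h => absurd (Subgroup.mem_subgroupOf.1 h) hyR⟩
  exact Subgroup.mem_subgroupOf.1 h4

/-- for `p = 2`, `Aut_S(R)` has order two -/
theorem T_cases (hS : IsPGroup p S) (hc : Ctx S p a) (hR : Good S R) (hp2 : p = 2) :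
    ∃ τ ∈ autInducedBy S R, τ ≠ 1 ∧ ∀ κ ∈ autInducedBy S R, κ = 1 ∨ κ = τ := by
  obtain ⟨τ, hτ, hτ1⟩ := exists_tau hc hR
  refine ⟨τ, hτ, hτ1, fun κ hκ => ?_⟩
  obtain ⟨s₀, hs₀, e₀⟩ := mem_autInducedBy'.1 hτ
  obtain ⟨s, hs, e⟩ := mem_autInducedBy'.1 hκ
  have hone : ∀ {σ : MulAut R} {t : Ω}, t ∈ R → (∀ x : R, ((σ x : R) : Ω) = t * x * t⁻¹) → σ = 1 := by
    intro σ t ht h
    ext x
    rw [h]
    have := congrArg Subtype.val (hR.ab ⟨t, ht⟩ x)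
    have h2 : t * (x : Ω) = x * t := this
    rw [h2, mul_inv_cancel_right]
    rfl
  have hs₀R : s₀ ∉ R := fun h => hτ1 (hone h e₀)
  by_cases hsR : s ∈ R
  · exact Or.inl (hone hsR e)
  · right
    ext y
    rw [e, e₀]
    have h1 : s₀⁻¹ * s ∈ R := idx2 hS hc hR hp2 (S.inv_mem hs₀) hs (fun h => hs₀R (by simpa using R.inv_mem h)) hsR
    have h2 := congrArg Subtype.val (hR.ab ⟨s₀⁻¹ * s, h1⟩ y)
    have h3 : s₀⁻¹ * s * (y : Ω) = y * (s₀⁻¹ * s) := h2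
    have h4 : s * (y : Ω) = s₀ * (s₀⁻¹ * s * y) := by group
    rw [h4, h3]
    group

theorem rep2_R (hS : IsPGroup p S) (hF : F.IsSaturated p) (hc : Ctx S p a) (hR : Good S R) {g : MulAut R} (hg : g ∈ F.autGroup R)
    (hgn : g ∉ Subgroup.normalizer (autInducedBy S R : Set (MulAut R))) (hp2 : p = 2) {h : MulAut R} (hh : h ∈ F.autGroup R) :
    ∃ κ₀ n : MulAut R, h = κ₀ * n ∧ n ∈ F.autGroup R ∧ n ∈ Subgroup.normalizer (autInducedBy S R : Set (MulAut R)) ∧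
      (∀ u : R, (u : Ω) ∈ Zs S → ((g⁻¹ u : R) : Ω) ∈ Zs S → κ₀ u = u) ∧
      ∀ y : R, κ₀ y * y⁻¹ ∈ zpowers (ah hc hR) ⊔ zpowers (g (ah hc hR)) := by
  haveI : Finite R := finite_of_le hR.le
  obtain ⟨hmax, hTA, hi, ha, ha1, hTv⟩ := data_R hS hF hc hR
  obtain ⟨τ, hτ, hτ1, hτc⟩ := T_cases hS hc hR hp2
  letI iC : CommGroup R := { (inferInstance : Group R) with mul_comm := hR.ab }
  obtain ⟨κ₀, n, e, hnA, hnN, hfix, hcomm, -, -⟩ := rep2 (hS.to_le hR.le) hmax hTA hi ha ha1 hTv hτ hτ1 hg hgn hp2 hτc h hh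
  exact ⟨κ₀, n, e, hnA, hnN, fun u h1 h2 => hfix u (Subgroup.mem_inf.2 ⟨Subgroup.mem_subgroupOf.2 h1, mem_Y.2 h2⟩), hcomm⟩

theorem a_sq (hc : Ctx S p a) (hp2 : p = 2) : a ^ 2 = 1 := by
  have := hc.hap
  rwa [hp2] at this

/-- a normalizer element of `T` fixes `a` when `p = 2` -/
theorem norm_a (hS : IsPGroup p S) (hF : F.IsSaturated p) (hc : Ctx S p a) (hR : Good S R) (hp2 : p = 2)
    {n : MulAut R} (hn : n ∈ Subgroup.normalizer (autInducedBy S R : Set (MulAut R))) : n (ah hc hR) = ah hc hR := by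
  haveI : Finite R := finite_of_le hR.le
  obtain ⟨hmax, hTA, hi, ha, ha1, hTv⟩ := data_R hS hF hc hR
  obtain ⟨τ, hτ, hτ1, hτc⟩ := T_cases hS hc hR hp2
  obtain ⟨y, hy, hyZ⟩ : ∃ y ∈ R, y ∉ Zs S := by
    by_contra hall
    push_neg at hall
    exact hR.ne' (le_antisymm hR.hZ hall)
  -- `τ b = â * b` for `b ∉ Z`
  have hτb : ∀ b : R, (b : Ω) ∉ Zs S → τ b = ah hc hR * b := by
    intro b hb
    letI iC : CommGroup R := { (inferInstance : Group R) with mul_comm := hR.ab }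
    obtain ⟨u, e, hu⟩ := tv_coord hi ha1 (hTv τ hτ) hτ1 (b := b) (fun h => hb (Subgroup.mem_subgroupOf.1 h))
    rw [e]
    congr 1
    have hsq : (ah hc hR) ^ 2 = 1 := Subtype.ext (a_sq hc hp2)
    rcases zpow2 hsq u with h | h
    · exfalso
      apply hu
      have hord : orderOf (ah hc hR) = p := orderOf_eq_prime ha1 (fun h => hc.ha1 (congrArg Subtype.val h))
      rw [← hord]
      exact orderOf_dvd_iff_zpow_eq_one.2 h
    · exact h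
  have hnτ : n * τ * n⁻¹ = τ := by
    rcases hτc _ ((Subgroup.mem_normalizer_iff.1 hn _).1 hτ) with h | h
    · exfalso
      apply hτ1
      have := congrArg (fun x => n⁻¹ * x * n) h
      simpa [mul_assoc] using this
    · exact h
  have hny : ((n ⟨y, hy⟩ : R) : Ω) ∉ Zs S := by
    intro h
    apply hyZ
    have h2 := norm_Zh hc hR (Subgroup.inv_mem _ hn) (n ⟨y, hy⟩) h
    have h3 : n⁻¹ (n ⟨y, hy⟩) = ⟨y, hy⟩ := by simp
    rw [h3] at h2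
    exact h2
  have h1 : n (τ ⟨y, hy⟩) = τ (n ⟨y, hy⟩) := by
    conv_rhs => rw [← hnτ]
    show _ = n (τ (n⁻¹ (n ⟨y, hy⟩)))
    simp
  rw [hτb _ hyZ, hτb _ hny, map_mul] at h1
  exact mul_right_cancel h1

/-- no central element squares to `a` -/
theorem claim_B (hS : IsPGroup p S) (hF : F.IsSaturated p) (hc : Ctx S p a) (hR : Good S R) {g : MulAut R} (hg : g ∈ F.autGroup R)
    (hgn : g ∉ Subgroup.normalizer (autInducedBy S R : Set (MulAut R))) (hp2 : p = 2) {z : Ω} (hz : z ∈ Zs S) : z * z ≠ a := by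
  intro e
  obtain ⟨i, u, hu, hu', ez⟩ := z_decomp_R hS hF hc hR hg hgn (z := ⟨z, hR.hZ hz⟩) hz
  have hsq : (ah hc hR) ^ 2 = 1 := Subtype.ext (a_sq hc hp2)
  have h1 : ah hc hR = u * u := by
    have h2 : (⟨z, hR.hZ hz⟩ : R) * ⟨z, hR.hZ hz⟩ = ah hc hR := Subtype.ext e
    rw [ez] at h2
    rw [← h2]
    have hc' : Commute ((ah hc hR) ^ i) u := hR.ab _ _
    rw [hc'.symm.mul_mul_mul_comm]
    have : (ah hc hR) ^ i * (ah hc hR) ^ i = 1 := by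
      rw [← zpow_add, ← two_mul, zpow_mul]
      have : (ah hc hR) ^ (2 : ℤ) = 1 := by exact_mod_cast hsq
      rw [this, one_zpow]
    rw [this, one_mul]
  apply pair_R' hS hF hc hR hg hgn
  rw [h1, map_mul]
  exact Subgroup.mul_mem _ hu' hu'

theorem r_sq (hc : Ctx S p a) (hR : Good S R) (hp2 : p = 2) (g : MulAut R) : ((g (ah hc hR) : R) : Ω) * ((g (ah hc hR) : R) : Ω) = 1 := by
  have hsq : (ah hc hR) * (ah hc hR) = 1 := by
    apply Subtype.ext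
    show a * a = 1
    rw [← pow_two]
    exact a_sq hc hp2
  rw [← Subgroup.coe_mul, ← map_mul, hsq, map_one]
  rfl

theorem not_mem_of_ne (hS : IsPGroup p S) (hc : Ctx S p a) {R₁ R₂ : Subgroup Ω} (hR₁ : Good S R₁) (hR₂ : Good S R₂) (hne : R₁ ≠ R₂) (hp2 : p = 2)
    {r : Ω} (hr : r ∈ R₂) (hrZ : r ∉ Zs S) : r ∉ R₁ := by
  intro h
  haveI : Finite R₁ := finite_of_le hR₁.le
  haveI : Finite R₂ := finite_of_le hR₂.le
  apply hne.symm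
  have hle : R₂ ≤ R₁ := by
    intro y hy
    by_cases hyZ : y ∈ Zs S
    · exact hR₁.hZ hyZ
    · have h1 := zs_idx2 hS hc hR₂ hp2 hr hy hrZ hyZ
      have h2 : y = r⁻¹ * (r * y) := by group
      rw [h2]
      exact R₁.mul_mem (R₁.inv_mem h) (hR₁.hZ h1)
  apply Subgroup.eq_of_le_of_card_ge hle
  rw [(good_card hS hc hR₁).1, (good_card hS hc hR₂).1]

/-- there are at most two subgroups with involutions outside the centre, if `a` is no square -/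
theorem three_bad (hS : IsPGroup p S) (hc : Ctx S p a) {R₁ R₂ R₃ : Subgroup Ω} (hR₁ : Good S R₁) (hR₂ : Good S R₂) (hR₃ : Good S R₃)
    (h12 : R₁ ≠ R₂) (h13 : R₁ ≠ R₃) (h23 : R₂ ≠ R₃) (hp2 : p = 2) {r₁ r₂ r₃ : Ω} (h1 : r₁ ∈ R₁) (h2 : r₂ ∈ R₂) (h3 : r₃ ∈ R₃)
    (h1Z : r₁ ∉ Zs S) (h2Z : r₂ ∉ Zs S) (h3Z : r₃ ∉ Zs S) (h1s : r₁ * r₁ = 1) (h2s : r₂ * r₂ = 1) (h3s : r₃ * r₃ = 1) :
    ∃ z ∈ Zs S, z * z = a := by
  have hr₁S := hR₁.le h1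
  have hr₂S := hR₂.le h2
  have hr₃S := hR₃.le h3
  have h2n1 := not_mem_of_ne hS hc hR₁ hR₂ h12 hp2 h2 h2Z
  have h3n1 := not_mem_of_ne hS hc hR₁ hR₃ h13 hp2 h3 h3Z
  have h3n2 := not_mem_of_ne hS hc hR₂ hR₃ h23 hp2 h3 h3Z
  have hx : r₂ * r₃ ∈ R₁ := idx2 hS hc hR₁ hp2 hr₂S hr₃S h2n1 h3n1
  have hxZ : r₂ * r₃ ∉ Zs S := by
    intro h
    apply h3n2
    have e : r₃ = r₂⁻¹ * (r₂ * r₃) := by group
    rw [e]
    exact R₂.mul_mem (R₂.inv_mem h2) (hR₂.hZ h)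
  have hw0 := zs_idx2 hS hc hR₁ hp2 h1 hx h1Z hxZ
  obtain ⟨w, hwd⟩ : ∃ w, w = r₁ * (r₂ * r₃) := ⟨_, rfl⟩
  have hw : w ∈ Zs S := by
    rw [hwd]
    exact hw0
  have e1 : r₂ * r₃ = r₁ * w := by
    rw [hwd, ← mul_assoc, h1s, one_mul]
  have hcw := (mem_Zs.1 hw).2 r₁ hr₁S
  have e2 : (r₂ * r₃) * (r₂ * r₃) = w * w := by
    calc (r₂ * r₃) * (r₂ * r₃) = (r₁ * w) * (r₁ * w) := by rw [← e1]
      _ = r₁ * (w * r₁) * w := by group
      _ = r₁ * (r₁ * w) * w := by rw [hcw]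
      _ = (r₁ * r₁) * (w * w) := by group
      _ = w * w := by rw [h1s, one_mul]
  have e3 : (r₂ * r₃) * (r₂ * r₃) = r₂ * r₃ * r₂⁻¹ * r₃⁻¹ := by
    have h2i : r₂⁻¹ = r₂ := (eq_inv_of_mul_eq_one_left h2s).symm
    have h3i : r₃⁻¹ = r₃ := (eq_inv_of_mul_eq_one_left h3s).symm
    rw [h2i, h3i]
    group
  obtain ⟨n, hn⟩ := hc.hcomm r₂ hr₂S r₃ hr₃S
  have hn' : a ^ n = r₂ * r₃ * r₂⁻¹ * r₃⁻¹ := hn
  rcases zpow2 (a_sq hc hp2) n with h | h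
  · -- `r₂, r₃` commute
    exfalso
    rw [h] at hn'
    have hcomm : r₂ * r₃ = r₃ * r₂ := by
      have h5 : r₂ * r₃ * r₂⁻¹ = r₃ := by
        rw [eq_comm, mul_inv_eq_one] at hn'
        exact hn'
      rw [mul_inv_eq_iff_eq_mul] at h5
      exact h5
    apply h2Z
    rw [mem_Zs]
    refine ⟨hr₂S, fun s hs => ?_⟩
    by_cases hsR : s ∈ R₂
    · exact congrArg Subtype.val (hR₂.ab ⟨s, hsR⟩ ⟨r₂, h2⟩)
    · have h6 := idx2 hS hc hR₂ hp2 hs hr₃S hsR h3n2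
      have h7 := congrArg Subtype.val (hR₂.ab ⟨s * r₃, h6⟩ ⟨r₂, h2⟩)
      have h8 : s * r₃ * r₂ = r₂ * (s * r₃) := h7
      have h9 : s * r₂ * r₃ = r₂ * s * r₃ := by
        rw [mul_assoc s r₂, hcomm, ← mul_assoc, h8, mul_assoc]
      exact mul_right_cancel h9
  · refine ⟨_, hw, ?_⟩
    rw [← e2, e3, ← hn', h]

theorem Y_closed (hS : IsPGroup p S) (hF : F.IsSaturated p) (hc : Ctx S p a) (hR : Good S R) {g : MulAut R} (hg : g ∈ F.autGroup R)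
    (hgn : g ∉ Subgroup.normalizer (autInducedBy S R : Set (MulAut R))) (hp2 : p = 2) {u : R} (hu : (u : Ω) ∈ Zs S) (hu' : ((g⁻¹ u : R) : Ω) ∈ Zs S)
    {δ : MulAut R} (hδ : δ ∈ F.autGroup R) : ((δ u : R) : Ω) ∈ Zs S := by
  obtain ⟨κ₀, n, e, hnA, hnN, hfix, -⟩ := rep2_R hS hF hc hR hg hgn hp2 (Subgroup.inv_mem _ hδ)
  have h1 : κ₀ u = u := hfix u hu hu'
  have e2 : δ = n⁻¹ * κ₀⁻¹ := by
    have : δ = (κ₀ * n)⁻¹ := by rw [← e, inv_inv]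
    rw [this, mul_inv_rev]
  have h2 : κ₀⁻¹ u = u := (MulEquiv.symm_apply_eq κ₀).2 h1.symm
  rw [e2]
  show ((n⁻¹ (κ₀⁻¹ u) : R) : Ω) ∈ _
  rw [h2]
  exact norm_Zh hc hR (Subgroup.inv_mem _ hnN) u hu

theorem sq_abs (hc : Ctx S p a) (hp2 : p = 2) {Y₁ Y₂ : Subgroup Ω} (hY₁ : Y₁ ≤ Zs S)
    (hd₁ : ∀ z ∈ Zs S, ∃ i : ℤ, ∃ u ∈ Y₁, z = a ^ i * u) (hd₂ : ∀ z ∈ Zs S, ∃ i : ℤ, ∃ u ∈ Y₂, z = a ^ i * u)
    (hY : ∀ u ∈ Y₁, u ∈ Y₂ → u = 1) {z z' : Ω} (hz : z ∈ Zs S) (hz' : z' ∈ Zs S) (hn : z ∉ zpowers a) (hn' : z' ∉ zpowers a) :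
    z⁻¹ * z' ∈ zpowers a := by
  have haS := (mem_Zs.1 hc.ha).1
  have key : ∀ {y : Ω}, y ∈ Zs S → y ∉ zpowers a → ∃ (i : ℤ) (u v : Ω), u ∈ Y₁ ∧ v ∈ Y₂ ∧ y = a ^ i * u ∧ u = a * v := by
    intro y hy hyn
    obtain ⟨i, u, hu, e⟩ := hd₁ y hy
    obtain ⟨j, v, hv, e2⟩ := hd₂ u (hY₁ hu)
    rcases zpow2 (a_sq hc hp2) j with h | h
    · exfalso
      rw [h, one_mul] at e2
      have h1 : u = 1 := hY u hu (e2 ▸ hv)
      rw [h1, mul_one] at e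
      apply hyn
      rw [e]
      exact Subgroup.zpow_mem _ (Subgroup.mem_zpowers a) i
    · rw [h] at e2
      exact ⟨i, u, v, hu, hv, e, e2⟩
  obtain ⟨i, u, v, hu, hv, e, ev⟩ := key hz hn
  obtain ⟨i', u', v', hu', hv', e', ev'⟩ := key hz' hn'
  have h1 : u⁻¹ * u' = 1 := by
    apply hY
    · exact Y₁.mul_mem (Y₁.inv_mem hu) hu'
    · have : u⁻¹ * u' = v⁻¹ * v' := by
        rw [ev, ev']
        group
      rw [this]
      exact Y₂.mul_mem (Y₂.inv_mem hv) hv'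
  have h2 : u' = u := by
    rw [inv_mul_eq_one] at h1
    exact h1.symm
  have huZ := (mem_Zs.1 (hY₁ hu)).2
  have h3 : z⁻¹ * z' = a ^ (i' - i) := by
    rw [e, e', h2]
    have h4 : a ^ i' * u = u * a ^ i' := huZ _ (S.zpow_mem haS i')
    have h5 : a ^ i * u = u * a ^ i := huZ _ (S.zpow_mem haS i)
    rw [h4, h5]
    group
  rw [h3]
  exact Subgroup.zpow_mem _ (Subgroup.mem_zpowers a) _

theorem theta_a (hc : Ctx S p a) (hp2 : p = 2) (θ : MulAut S) : θ ⟨a, (mem_Zs.1 hc.ha).1⟩ = ⟨a, (mem_Zs.1 hc.ha).1⟩ := by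
  obtain ⟨x, hx, r, hr, e⟩ := hc.hgen
  have e1 : (⟨a, (mem_Zs.1 hc.ha).1⟩ : S) = ⟨x, hx⟩ * ⟨r, hr⟩ * (⟨x, hx⟩ : S)⁻¹ * (⟨r, hr⟩ : S)⁻¹ := Subtype.ext e
  have e2 : θ ⟨a, (mem_Zs.1 hc.ha).1⟩ = θ ⟨x, hx⟩ * θ ⟨r, hr⟩ * (θ ⟨x, hx⟩)⁻¹ * (θ ⟨r, hr⟩)⁻¹ := by
    rw [e1]
    simp only [map_mul, map_inv]
  obtain ⟨n, hn⟩ := hc.hcomm _ (θ ⟨x, hx⟩).2 _ (θ ⟨r, hr⟩).2
  have e3 : ((θ ⟨a, (mem_Zs.1 hc.ha).1⟩ : S) : Ω) = a ^ n := by
    rw [e2]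
    exact hn.symm
  rcases zpow2 (a_sq hc hp2) n with h | h
  · exfalso
    rw [h] at e3
    have h1 : θ ⟨a, (mem_Zs.1 hc.ha).1⟩ = 1 := Subtype.ext e3
    rw [map_eq_one_iff _ θ.injective] at h1
    exact hc.ha1 (congrArg Subtype.val h1)
  · rw [h] at e3
    exact Subtype.ext e3

theorem theta_z (hc : Ctx S p a) (hp2 : p = 2)
    (hsq : ∀ {z z' : Ω}, z ∈ Zs S → z' ∈ Zs S → z ∉ zpowers a → z' ∉ zpowers a → z⁻¹ * z' ∈ zpowers a) (θ : MulAut S) (z : S) (hz : (z : Ω) ∈ Zs S) :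
    (z : Ω)⁻¹ * ((θ z : S) : Ω) ∈ zpowers a := by
  have haS := (mem_Zs.1 hc.ha).1
  have hθp : ∀ (φ : MulAut S) (n : ℤ), φ (⟨a, haS⟩ ^ n) = ⟨a, haS⟩ ^ n := by
    intro φ n
    rw [map_zpow, theta_a hc hp2]
  have hpw : ∀ (w : S), (w : Ω) ∈ zpowers a → ∃ n : ℤ, w = ⟨a, haS⟩ ^ n := by
    rintro w ⟨n, hn⟩
    exact ⟨n, Subtype.ext (by simpa using hn.symm)⟩
  by_cases h1 : (z : Ω) ∈ zpowers a
  · obtain ⟨n, rfl⟩ := hpw z h1
    rw [hθp, inv_mul_cancel]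
    exact Subgroup.one_mem _
  · apply hsq hz (Zs_aut θ hz) h1
    intro h2
    obtain ⟨n, hn⟩ := hpw _ h2
    apply h1
    have h3 : z = θ⁻¹ (⟨a, haS⟩ ^ n) := by
      rw [← hn]
      simp
    rw [hθp] at h3
    rw [h3]
    simp only [Subgroup.coe_zpow]
    exact Subgroup.zpow_mem _ (Subgroup.mem_zpowers a) _

/-- the core of the case of two subgroups -/
theorem two_core (hS : IsPGroup p S) (hF : F.IsSaturated p) (hc : Ctx S p a) (hp2 : p = 2) (hhyp : F.hyperfocalSubgroup p = S)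
    {R₁ R₂ : Subgroup Ω} (hR₁ : Good S R₁) (hR₂ : Good S R₂) (hne : R₁ ≠ R₂)
    {g₁ : MulAut R₁} (hg₁ : g₁ ∈ F.autGroup R₁) (hgn₁ : g₁ ∉ Subgroup.normalizer (autInducedBy S R₁ : Set (MulAut R₁)))
    {g₂ : MulAut R₂} (hg₂ : g₂ ∈ F.autGroup R₂) (hgn₂ : g₂ ∉ Subgroup.normalizer (autInducedBy S R₂ : Set (MulAut R₂)))
    (hthree : ∀ R : Subgroup Ω, Good S R → ∀ g ∈ F.autGroup R, g ∉ Subgroup.normalizer (autInducedBy S R : Set (MulAut R)) → R = R₁ ∨ R = R₂)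
    (hsq : ∀ {z z' : Ω}, z ∈ Zs S → z' ∈ Zs S → z ∉ zpowers a → z' ∉ zpowers a → z⁻¹ * z' ∈ zpowers a) :
    ∀ z ∈ Zs S, z ∈ zpowers a := by
  classical
  have haS := (mem_Zs.1 hc.ha).1
  obtain ⟨r₁, hr₁d⟩ : ∃ r₁, r₁ = ((g₁ (ah hc hR₁) : R₁) : Ω) := ⟨_, rfl⟩
  obtain ⟨r₂, hr₂d⟩ : ∃ r₂, r₂ = ((g₂ (ah hc hR₂) : R₂) : Ω) := ⟨_, rfl⟩
  have hr₁R : r₁ ∈ R₁ := by rw [hr₁d]; exact (g₁ (ah hc hR₁)).2
  have hr₂R : r₂ ∈ R₂ := by rw [hr₂d]; exact (g₂ (ah hc hR₂)).2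
  have hr₁S := hR₁.le hr₁R
  have hr₂S := hR₂.le hr₂R
  have hr₁Z : r₁ ∉ Zs S := by rw [hr₁d]; exact pair_R hS hF hc hR₁ hg₁ hgn₁
  have hr₂Z : r₂ ∉ Zs S := by rw [hr₂d]; exact pair_R hS hF hc hR₂ hg₂ hgn₂
  have hr₁s : r₁ * r₁ = 1 := by rw [hr₁d]; exact r_sq hc hR₁ hp2 g₁
  have hr₂s : r₂ * r₂ = 1 := by rw [hr₂d]; exact r_sq hc hR₂ hp2 g₂
  have hr₂n : r₂ ∉ R₁ := not_mem_of_ne hS hc hR₁ hR₂ hne hp2 hr₂R hr₂Z
  let D : Subgroup Ω := Subgroup.closure ({a, r₁, r₂} : Set Ω)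
  have haD : a ∈ D := Subgroup.subset_closure (by simp)
  have hr₁D : r₁ ∈ D := Subgroup.subset_closure (by simp)
  have hr₂D : r₂ ∈ D := Subgroup.subset_closure (by simp)
  have hDS : D ≤ S := by
    rw [Subgroup.closure_le]
    rintro x (rfl | rfl | rfl)
    · exact haS
    · exact hr₁S
    · exact hr₂S
  have hzaD : ∀ x ∈ zpowers a, x ∈ D := fun x hx => (Subgroup.zpowers_le.2 haD) hx
  have hDn : ∀ d ∈ D, ∀ s ∈ S, s * d * s⁻¹ ∈ D := by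
    intro d hd s hs
    have h1 : s * d * s⁻¹ * d⁻¹ ∈ D := hzaD _ (hc.hcomm s hs d (hDS hd))
    have h2 : s * d * s⁻¹ = (s * d * s⁻¹ * d⁻¹) * d := by group
    rw [h2]
    exact D.mul_mem h1 hd
  have hsup : ∀ {R : Subgroup Ω} (hR : Good S R) (g : MulAut R), ((g (ah hc hR) : R) : Ω) ∈ D → ∀ x ∈ zpowers (ah hc hR) ⊔ zpowers (g (ah hc hR)), (x : Ω) ∈ D := by
    intro R hR g hgD x hx
    have hle : zpowers (ah hc hR) ⊔ zpowers (g (ah hc hR)) ≤ D.comap R.subtype :=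
      sup_le (Subgroup.zpowers_le.2 haD) (Subgroup.zpowers_le.2 hgD)
    exact hle hx
  -- images of `a`
  have hgood : ∀ {R : Subgroup Ω} (hR : Good S R) {g : MulAut R} (_ : g ∈ F.autGroup R)
      (_ : g ∉ Subgroup.normalizer (autInducedBy S R : Set (MulAut R))), ((g (ah hc hR) : R) : Ω) ∈ D →
      ∀ h ∈ F.autGroup R, ((h (ah hc hR) : R) : Ω) ∈ D := by
    intro R hR g hg hgn hgD h hh
    obtain ⟨κ₀, n, e, -, hnN, -, hcomm⟩ := rep2_R hS hF hc hR hg hgn hp2 hh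
    have h1 : h (ah hc hR) = (κ₀ (ah hc hR) * (ah hc hR)⁻¹) * ah hc hR := by
      rw [e]
      show κ₀ (n (ah hc hR)) = _
      rw [norm_a hS hF hc hR hp2 hnN, inv_mul_cancel_right]
    rw [h1]
    exact D.mul_mem (hsup hR g hgD _ (hcomm _)) haD
  have h_a : ∀ {R : Subgroup Ω} (hR : Good S R) {h : MulAut R} (_ : h ∈ F.autGroup R), ((h (ah hc hR) : R) : Ω) ∈ D := by
    intro R hR h hh
    by_cases hn : h ∈ Subgroup.normalizer (autInducedBy S R : Set (MulAut R))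
    · rw [norm_a hS hF hc hR hp2 hn]
      exact haD
    · rcases hthree R hR h hh hn with e | e
      · subst e
        exact hgood hR hg₁ hgn₁ (by rw [← hr₁d]; exact hr₁D) h hh
      · subst e
        exact hgood hR hg₂ hgn₂ (by rw [← hr₂d]; exact hr₂D) h hh
  have h_r : ∀ {R : Subgroup Ω} (hR : Good S R) {g : MulAut R} (_ : g ∈ F.autGroup R) {θ : MulAut S} (_ : θ ∈ F.autGroup S),
      ((θ ⟨(g (ah hc hR) : R), hR.le (g (ah hc hR)).2⟩ : S) : Ω) ∈ D := by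
    intro R hR g hg θ hθ
    obtain ⟨γ', hγ', e⟩ := aut_conj hθ hR.le hg
    have e1 := e ⟨a, haS⟩ (hR.hZ hc.ha)
    have h2 := h_a (good_img θ hR) hγ'
    have h3 : (⟨θ ⟨a, haS⟩, self_mem_imgS θ ⟨a, haS⟩ (hR.hZ hc.ha)⟩ : imgS θ R) = ah hc (good_img θ hR) := by
      apply Subtype.ext
      show ((θ ⟨a, haS⟩ : S) : Ω) = a
      rw [theta_a hc hp2 θ]
    rw [h3] at e1
    rw [e1] at h2
    exact h2
  -- all automorphisms of `S` move elements within cosets of `D`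
  have h_s : ∀ {θ : MulAut S} (_ : θ ∈ F.autGroup S) (s : S), (s : Ω)⁻¹ * ((θ s : S) : Ω) ∈ D := by
    intro θ hθ s
    have hm : ∀ x y : S, (x : Ω)⁻¹ * ((θ x : S) : Ω) ∈ D → (y : Ω)⁻¹ * ((θ y : S) : Ω) ∈ D → ((x * y : S) : Ω)⁻¹ * ((θ (x * y) : S) : Ω) ∈ D := by
      intro x y hx hy
      have e : ((x * y : S) : Ω)⁻¹ * ((θ (x * y) : S) : Ω) =
          ((y : Ω)⁻¹ * ((x : Ω)⁻¹ * ((θ x : S) : Ω)) * ((y : Ω)⁻¹)⁻¹) * ((y : Ω)⁻¹ * ((θ y : S) : Ω)) := by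
        rw [map_mul, Subgroup.coe_mul, Subgroup.coe_mul]
        group
      rw [e]
      exact D.mul_mem (hDn _ hx _ (S.inv_mem y.2)) hy
    have hrr₁ : (⟨r₁, hr₁S⟩ : S) * ⟨r₁, hr₁S⟩ = 1 := Subtype.ext hr₁s
    have hrr₂ : (⟨r₂, hr₂S⟩ : S) * ⟨r₂, hr₂S⟩ = 1 := Subtype.ext hr₂s
    have hb₁ : (r₁ : Ω)⁻¹ * ((θ ⟨r₁, hr₁S⟩ : S) : Ω) ∈ D := by
      refine D.mul_mem (D.inv_mem hr₁D) ?_
      have := h_r hR₁ hg₁ hθ
      simp only [← hr₁d] at this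
      exact this
    have hb₂ : (r₂ : Ω)⁻¹ * ((θ ⟨r₂, hr₂S⟩ : S) : Ω) ∈ D := by
      refine D.mul_mem (D.inv_mem hr₂D) ?_
      have := h_r hR₂ hg₂ hθ
      simp only [← hr₂d] at this
      exact this
    have hbZ : ∀ z : S, (z : Ω) ∈ Zs S → (z : Ω)⁻¹ * ((θ z : S) : Ω) ∈ D :=
      fun z hz => hzaD _ (theta_z hc hp2 hsq θ z hz)
    have hbR₁ : ∀ w : S, (w : Ω) ∈ R₁ → (w : Ω)⁻¹ * ((θ w : S) : Ω) ∈ D := by
      intro w hw
      by_cases hwZ : (w : Ω) ∈ Zs S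
      · exact hbZ w hwZ
      · have h1 := zs_idx2 hS hc hR₁ hp2 hr₁R hw hr₁Z hwZ
        have e : w = ⟨r₁, hr₁S⟩ * ⟨r₁ * w, S.mul_mem hr₁S w.2⟩ := by
          apply Subtype.ext
          show (w : Ω) = r₁ * (r₁ * w)
          rw [← mul_assoc, hr₁s, one_mul]
        rw [e]
        exact hm _ _ hb₁ (hbZ _ h1)
    by_cases hsR : (s : Ω) ∈ R₁
    · exact hbR₁ s hsR
    · have h1 := idx2 hS hc hR₁ hp2 hr₂S s.2 hr₂n hsR
      have e : s = ⟨r₂, hr₂S⟩ * ⟨r₂ * s, S.mul_mem hr₂S s.2⟩ := by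
        apply Subtype.ext
        show (s : Ω) = r₂ * (r₂ * s)
        rw [← mul_assoc, hr₂s, one_mul]
      rw [e]
      exact hm _ _ hb₂ (hbR₁ _ h1)
  have h_γ : ∀ {R : Subgroup Ω} (hR : Good S R) {g : MulAut R} (_ : g ∈ F.autGroup R)
      (_ : g ∉ Subgroup.normalizer (autInducedBy S R : Set (MulAut R))), ((g (ah hc hR) : R) : Ω) ∈ D →
      ∀ γ ∈ F.autGroup R, ∀ y : R, (y : Ω)⁻¹ * ((γ y : R) : Ω) ∈ D := by
    intro R hR g hg hgn hgD γ hγ y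
    obtain ⟨κ₀, n, e, hnA, hnN, -, hcomm⟩ := rep2_R hS hF hc hR hg hgn hp2 hγ
    obtain ⟨θ, hθ, eθ⟩ := ext_aut hS hF hc hR hnA hnN
    have h1 := h_s hθ ⟨y, hR.le y.2⟩
    rw [eθ] at h1
    have h2 := hsup hR g hgD _ (hcomm (n y))
    have e2 : ((γ y : R) : Ω) = (((κ₀ (n y) * (n y)⁻¹ : R)) : Ω) * ((n y : R) : Ω) := by
      rw [e]
      show ((κ₀ (n y) : R) : Ω) = _
      rw [Subgroup.coe_mul, Subgroup.coe_inv, inv_mul_cancel_right]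
    rw [e2]
    have e3 : (y : Ω)⁻¹ * ((((κ₀ (n y) * (n y)⁻¹ : R)) : Ω) * ((n y : R) : Ω)) =
        ((y : Ω)⁻¹ * (((κ₀ (n y) * (n y)⁻¹ : R)) : Ω) * ((y : Ω)⁻¹)⁻¹) * ((y : Ω)⁻¹ * ((n y : R) : Ω)) := by
      group
    rw [e3]
    exact D.mul_mem (hDn _ h2 _ (S.inv_mem (hR.le y.2))) h1
  let E : FusionSystem S := Cfsg.Agent.Lib.FusHyp.subsystem F (fun P φ => ∀ x : P, (x : Ω)⁻¹ * φ x ∈ D)
    (by
      intro P g hP hg x
      have h1 := hc.hcomm _ (S.inv_mem (hP x.2)) g hg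
      have e : (x : Ω)⁻¹ * conjHom P g x = (x : Ω)⁻¹ * g * ((x : Ω)⁻¹)⁻¹ * g⁻¹ := by
        show (x : Ω)⁻¹ * (g * (x : Ω) * g⁻¹) = _
        group
      rw [e]
      exact hzaD _ h1)
    (by
      intro P Q φ ψ _ _ h1 h2 h x
      have e : (x : Ω)⁻¹ * ψ (φ.codRestrict Q h x) = ((x : Ω)⁻¹ * φ x) * ((φ x)⁻¹ * ψ ⟨φ x, h x⟩) := by
        show (x : Ω)⁻¹ * ψ ⟨φ x, h x⟩ = _
        group
      show (x : Ω)⁻¹ * ψ (φ.codRestrict Q h x) ∈ D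
      rw [e]
      exact D.mul_mem (h1 x) (h2 ⟨φ x, h x⟩))
    (by
      intro P φ ψ _ h1 _ hx y
      obtain ⟨_, x, rfl⟩ := y
      have e : ψ ⟨φ x, x, rfl⟩ = x := hx x
      show (φ x)⁻¹ * ψ ⟨φ x, x, rfl⟩ ∈ D
      rw [e]
      have e2 : (φ x)⁻¹ * (x : Ω) = ((x : Ω)⁻¹ * φ x)⁻¹ := by group
      rw [e2]
      exact D.inv_mem (h1 x))
  have hle : F ≤ E := by
    apply Cfsg.Agent.Lib.FusAlp.alperin_goldschmidt F hS hF E
    intro P hP α hα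
    have hPS : P ≤ S := by
      rcases hP with rfl | hP
      · exact le_rfl
      · exact hP.1.1
    apply mem_autGroup_of
    refine ⟨(mem_autGroup_iff F hPS).1 hα, fun x => ?_⟩
    rcases hP with rfl | hP
    · exact h_s hα x
    · have hG := essential_good hS hF hc hP
      obtain ⟨g, hg, hgn⟩ := essential_bad hS hF hc hP
      rcases hthree P hG g hg hgn with e | e
      · subst e
        exact h_γ hG hg₁ hgn₁ (by rw [← hr₁d]; exact hr₁D) α hα x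
      · subst e
        exact h_γ hG hg₂ hgn₂ (by rw [← hr₂d]; exact hr₂D) α hα x
  have hHD : S ≤ D := by
    rw [← hhyp, hyperfocalSubgroup, Subgroup.closure_le]
    rintro _ ⟨P, α, x, hP, -, rfl⟩
    have h1 : P.subtype.comp (α : MulAut P).toMonoidHom ∈ F.Hom P := (mem_autGroup_iff F hP).1 α.2
    exact (hle P h1).2 x
  -- normal form
  have hstep : ∀ (t : Ω), t ∈ S → ∀ m : ℤ, ∃ c : ℤ, t * r₁ ^ m = a ^ c * r₁ ^ m * t := by
    intro t ht m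
    obtain ⟨c, hc'⟩ := hc.hcomm t ht (r₁ ^ m) (S.zpow_mem hr₁S m)
    refine ⟨c, ?_⟩
    have e : a ^ c = t * r₁ ^ m * t⁻¹ * (r₁ ^ m)⁻¹ := hc'
    rw [e]
    group
  have hacomm : ∀ s ∈ S, ∀ c : ℤ, a ^ c * s = s * a ^ c := by
    intro s hs c
    exact ((mem_Zs.1 (Subgroup.zpow_mem _ hc.ha c)).2 s hs).symm
  have hA : ∀ i m n k : ℤ, a ^ i * (r₁ ^ m * r₂ ^ n * a ^ k) = r₁ ^ m * r₂ ^ n * a ^ (i + k) := by
    intro i m n k
    have h1 := hacomm (r₁ ^ m * r₂ ^ n) (S.mul_mem (S.zpow_mem hr₁S m) (S.zpow_mem hr₂S n)) i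
    rw [← mul_assoc, h1, zpow_add, mul_assoc]
  have hB : ∀ i m n k : ℤ, r₁ ^ i * (r₁ ^ m * r₂ ^ n * a ^ k) = r₁ ^ (i + m) * r₂ ^ n * a ^ k := by
    intro i m n k
    rw [zpow_add]
    group
  have hC : ∀ i m n k : ℤ, ∃ c : ℤ, r₂ ^ i * (r₁ ^ m * r₂ ^ n * a ^ k) = r₁ ^ m * r₂ ^ (i + n) * a ^ (c + k) := by
    intro i m n k
    obtain ⟨c, hc'⟩ := hstep (r₂ ^ i) (S.zpow_mem hr₂S i) m
    refine ⟨c, ?_⟩
    have h1 := hacomm (r₁ ^ m * r₂ ^ (i + n)) (S.mul_mem (S.zpow_mem hr₁S m) (S.zpow_mem hr₂S _)) c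
    calc r₂ ^ i * (r₁ ^ m * r₂ ^ n * a ^ k) = (r₂ ^ i * r₁ ^ m) * r₂ ^ n * a ^ k := by group
      _ = a ^ c * (r₁ ^ m * (r₂ ^ i * r₂ ^ n)) * a ^ k := by rw [hc']; simp only [mul_assoc]
      _ = a ^ c * (r₁ ^ m * r₂ ^ (i + n)) * a ^ k := by rw [zpow_add r₂ i n]
      _ = r₁ ^ m * r₂ ^ (i + n) * a ^ (c + k) := by rw [h1, zpow_add a c k]; simp only [mul_assoc]
  have hnf : ∀ d ∈ D, ∃ m n k : ℤ, d = r₁ ^ m * r₂ ^ n * a ^ k := by
    intro d hd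
    refine Subgroup.closure_induction_left (p := fun d _ => ∃ m n k : ℤ, d = r₁ ^ m * r₂ ^ n * a ^ k) ?_ ?_ ?_ hd
    · exact ⟨0, 0, 0, by simp⟩
    · rintro x hx y _ ⟨m, n, k, rfl⟩
      rcases hx with e | e | e
      · have := hA 1 m n k
        rw [zpow_one] at this
        rw [e]
        exact ⟨m, n, 1 + k, this⟩
      · have := hB 1 m n k
        rw [zpow_one] at this
        rw [show x = r₁ from e]
        exact ⟨1 + m, n, k, this⟩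
      · obtain ⟨c, h⟩ := hC 1 m n k
        rw [zpow_one] at h
        rw [show x = r₂ from e]
        exact ⟨m, 1 + n, c + k, h⟩
    · rintro x hx y _ ⟨m, n, k, rfl⟩
      rcases hx with e | e | e
      · have := hA (-1) m n k
        rw [zpow_neg_one] at this
        rw [e]
        exact ⟨m, n, -1 + k, this⟩
      · have := hB (-1) m n k
        rw [zpow_neg_one] at this
        rw [show x = r₁ from e]
        exact ⟨-1 + m, n, k, this⟩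
      · obtain ⟨c, h⟩ := hC (-1) m n k
        rw [zpow_neg_one] at h
        rw [show x = r₂ from e]
        exact ⟨m, -1 + n, c + k, h⟩
  intro z hz
  obtain ⟨m, n, k, e⟩ := hnf z (hHD (mem_Zs.1 hz).1)
  have hr₁2 : r₁ ^ 2 = 1 := by rw [pow_two, hr₁s]
  have hr₂2 : r₂ ^ 2 = 1 := by rw [pow_two, hr₂s]
  have hak : a ^ k ∈ Zs S := Subgroup.zpow_mem _ hc.ha k
  rcases zpow2 hr₁2 m with h1 | h1 <;> rcases zpow2 hr₂2 n with h2 | h2 <;> rw [h1, h2] at e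
  · rw [e, one_mul, one_mul]
    exact Subgroup.zpow_mem _ (Subgroup.mem_zpowers a) k
  · exfalso
    apply hr₂Z
    have e2 : r₂ = z * (a ^ k)⁻¹ := by rw [e]; group
    rw [e2]
    exact Subgroup.mul_mem _ hz (Subgroup.inv_mem _ hak)
  · exfalso
    apply hr₁Z
    have e2 : r₁ = z * (a ^ k)⁻¹ := by rw [e]; group
    rw [e2]
    exact Subgroup.mul_mem _ hz (Subgroup.inv_mem _ hak)
  · exfalso
    apply hr₂n
    have e2 : r₁ * r₂ = z * (a ^ k)⁻¹ := by rw [e]; group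
    have e3 : r₂ = r₁⁻¹ * (r₁ * r₂) := by group
    rw [e3, e2]
    exact R₁.mul_mem (R₁.inv_mem hr₁R) (hR₁.hZ (Subgroup.mul_mem _ hz (Subgroup.inv_mem _ hak)))

/-- for `p = 2` the centre is `⟨a⟩` -/
theorem two_main (hS : IsPGroup p S) (hF : F.IsSaturated p) (hc : Ctx S p a) (hS1 : S ≠ ⊥) (hcore : F.core = ⊥) (hp2 : p = 2)
    (hhyp : F.hyperfocalSubgroup p = S) : ∀ z ∈ Zs S, z ∈ zpowers a := by
  classical
  obtain ⟨R₁, hE⟩ := exists_essential hS hF hS1 hcore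
  have hR₁ := essential_good hS hF hc hE
  obtain ⟨g₁, hg₁, hgn₁⟩ := essential_bad hS hF hc hE
  have hWW := WW_bot hS hF hc hcore
  by_cases hone : ∃ R₂, Good S R₂ ∧ R₂ ≠ R₁ ∧ ∃ g₂ ∈ F.autGroup R₂, g₂ ∉ Subgroup.normalizer (autInducedBy S R₂ : Set (MulAut R₂))
  · obtain ⟨R₂, hR₂, hne, g₂, hg₂, hgn₂⟩ := hone
    have hthree : ∀ R : Subgroup Ω, Good S R → ∀ g ∈ F.autGroup R, g ∉ Subgroup.normalizer (autInducedBy S R : Set (MulAut R)) → R = R₁ ∨ R = R₂ := by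
      intro R hR g hg hgn
      by_contra hcon
      push_neg at hcon
      obtain ⟨z, hz, e⟩ := three_bad hS hc hR hR₁ hR₂ hcon.1 hcon.2 hne.symm hp2 (g (ah hc hR)).2 (g₁ (ah hc hR₁)).2 (g₂ (ah hc hR₂)).2
        (pair_R hS hF hc hR hg hgn) (pair_R hS hF hc hR₁ hg₁ hgn₁) (pair_R hS hF hc hR₂ hg₂ hgn₂)
        (r_sq hc hR hp2 g) (r_sq hc hR₁ hp2 g₁) (r_sq hc hR₂ hp2 g₂)
      exact claim_B hS hF hc hR₁ hg₁ hgn₁ hp2 hz e
    -- the two subgroups `Y`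
    let Y₁ : Subgroup Ω := (((Zs S).subgroupOf R₁) ⊓ ((Zs S).subgroupOf R₁).map g₁.toMonoidHom).map R₁.subtype
    let Y₂ : Subgroup Ω := (((Zs S).subgroupOf R₂) ⊓ ((Zs S).subgroupOf R₂).map g₂.toMonoidHom).map R₂.subtype
    have hY₁ : Y₁ ≤ Zs S := by
      rintro _ ⟨u, hu, rfl⟩
      exact Subgroup.mem_subgroupOf.1 (Subgroup.mem_inf.1 hu).1
    have hY₂ : Y₂ ≤ Zs S := by
      rintro _ ⟨u, hu, rfl⟩
      exact Subgroup.mem_subgroupOf.1 (Subgroup.mem_inf.1 hu).1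
    have hd : ∀ {R : Subgroup Ω} (hR : Good S R) {g : MulAut R} (_ : g ∈ F.autGroup R) (_ : g ∉ Subgroup.normalizer (autInducedBy S R : Set (MulAut R))),
        ∀ z ∈ Zs S, ∃ i : ℤ, ∃ u ∈ (((Zs S).subgroupOf R) ⊓ ((Zs S).subgroupOf R).map g.toMonoidHom).map R.subtype, z = a ^ i * u := by
      intro R hR g hg hgn z hz
      obtain ⟨i, u, hu, hu', e⟩ := z_decomp_R hS hF hc hR hg hgn (z := ⟨z, hR.hZ hz⟩) hz
      refine ⟨i, u, ⟨u, Subgroup.mem_inf.2 ⟨Subgroup.mem_subgroupOf.2 hu, mem_Y.2 hu'⟩, rfl⟩, ?_⟩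
      have := congrArg Subtype.val e
      simpa using this
    have hYY : ∀ u ∈ Y₁, u ∈ Y₂ → u = 1 := by
      intro u hu1 hu2
      have huW : u ∈ WW F := by
        refine ⟨hY₁ hu1, fun R hR hy δ hδ => ?_⟩
        by_cases hn : δ ∈ Subgroup.normalizer (autInducedBy S R : Set (MulAut R))
        · exact norm_Zh hc hR hn ⟨u, hy⟩ (hY₁ hu1)
        · rcases hthree R hR δ hδ hn with e | e
          · subst e
            obtain ⟨w, hw, ew⟩ := hu1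
            have ew' : w = ⟨u, hy⟩ := Subtype.ext ew
            subst ew'
            exact Y_closed hS hF hc hR hg₁ hgn₁ hp2 (Subgroup.mem_subgroupOf.1 (Subgroup.mem_inf.1 hw).1) (mem_Y.1 (Subgroup.mem_inf.1 hw).2) hδ
          · subst e
            obtain ⟨w, hw, ew⟩ := hu2
            have ew' : w = ⟨u, hy⟩ := Subtype.ext ew
            subst ew'
            exact Y_closed hS hF hc hR hg₂ hgn₂ hp2 (Subgroup.mem_subgroupOf.1 (Subgroup.mem_inf.1 hw).1) (mem_Y.1 (Subgroup.mem_inf.1 hw).2) hδ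
      rw [hWW, Subgroup.mem_bot] at huW
      exact huW
    exact two_core hS hF hc hp2 hhyp hR₁ hR₂ hne.symm hg₁ hgn₁ hg₂ hgn₂ hthree
      (fun hz hz' hn hn' => sq_abs hc hp2 hY₁ (hd hR₁ hg₁ hgn₁) (hd hR₂ hg₂ hgn₂) hYY hz hz' hn hn')
  · push_neg at hone
    intro z hz
    obtain ⟨i, u, hu, hu', e⟩ := z_decomp_R hS hF hc hR₁ hg₁ hgn₁ (z := ⟨z, hR₁.hZ hz⟩) hz
    have huW : (u : Ω) ∈ WW F := by
      refine ⟨hu, fun R hR hy δ hδ => ?_⟩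
      by_cases hn : δ ∈ Subgroup.normalizer (autInducedBy S R : Set (MulAut R))
      · exact norm_Zh hc hR hn ⟨u, hy⟩ hu
      · by_cases e1 : R = R₁
        · subst e1
          exact Y_closed hS hF hc hR hg₁ hgn₁ hp2 hu hu' hδ
        · exact absurd (hone R hR e1 δ hδ) hn
    rw [hWW, Subgroup.mem_bot] at huW
    have e' : u = 1 := Subtype.ext huW
    rw [e', mul_one] at e
    have e2 : z = a ^ i := by
      have := congrArg Subtype.val e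
      simpa using this
    rw [e2]
    exact Subgroup.zpow_mem _ (Subgroup.mem_zpowers a) i

/-- some element outside the centre is an involution -/
theorem exists_involution (hS : IsPGroup p S) (hF : F.IsSaturated p) (hc : Ctx S p a) (hS1 : S ≠ ⊥) (hcore : F.core = ⊥) (hp2 : p = 2) :
    ∃ r : S, (r : Ω) ∉ Zs S ∧ r * r = 1 := by
  obtain ⟨R₁, hE⟩ := exists_essential hS hF hS1 hcore
  have hR₁ := essential_good hS hF hc hE
  obtain ⟨g₁, hg₁, hgn₁⟩ := essential_bad hS hF hc hE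
  exact ⟨⟨_, hR₁.le (g₁ (ah hc hR₁)).2⟩, pair_R hS hF hc hR₁ hg₁ hgn₁, Subtype.ext (r_sq hc hR₁ hp2 g₁)⟩

end fusion

end Cfsg.Agent.Lib.FusTransv5
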