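import Mathlib
import Cfsg.Agent.Lib.FusAbIdx
import Cfsg.Agent.Lib.FusTransv4
import Cfsg.Agent.Lib.LSpe
import Cfsg.Agent.Lib.FusTransv3
import Cfsg.Agent.Lib.H1Frat

set_option autoImplicit false
set_option linter.unusedSectionVars false

/-! A group of transvections with a common centre, inside a strongly embedded subgroup of the automizer of an
abelian essential subgroup, cannot be large. -/

namespace Cfsg.Agent.Lib.FusTvSmall

open Subgroup Cfsg Cfsg.FusionSystem Cfsg.Agent.Lib.FusBasic Cfsg.Agent.Lib.FusAut Cfsg.Agent.Lib.FusSat Cfsg.Agent.Lib.FusNorm Cfsg.Agent.Lib.FusFrat Cfsg.Agent.Lib.FusTransv Cfsg.Agent.Lib.FusTransv2 Cfsg.Agent.Lib.FusAbIdx Cfsg.Agent.Lib.LSpe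

variable {Ω : Type*} [Group Ω] {S : Subgroup Ω} [Finite S] {p : ℕ} [hp : Fact p.Prime] {F : Cfsg.FusionSystem S} {E : Subgroup Ω}

/-- a `CondC` subgroup containing a nontrivial subgroup of a `p`-group contains the `p`-group -/
theorem le_of_pgroup {G : Type*} [Group G] [Finite G] {M B W : Subgroup G} (hc : CondC p M) (hBM : B ≤ M) (hB : B ≠ ⊥) (hBW : B ≤ W) (hW : IsPGroup p W) : W ≤ M := by
  by_contra hne
  have hlt : W ⊓ M < W := by
    refine lt_of_le_of_ne inf_le_left (fun e => hne ?_)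
    rw [← e]
    exact inf_le_right
  obtain ⟨x, hxW, hxN, hxB⟩ := exists_normalizer_gt hW hlt
  have hne' : W ⊓ M ≠ ⊥ := by
    intro e
    apply hB
    rw [eq_bot_iff, ← e]
    exact le_inf hBW hBM
  exact hxB (Subgroup.mem_inf.2 ⟨hxW, hc (W ⊓ M) inf_le_right (hW.to_le inf_le_left) hne' hxN⟩)

/-- the automizer of an abelian essential subgroup has a strongly embedded subgroup containing `Aut_S(E)` -/
theorem se_abelian (hS : IsPGroup p S) (hF : F.IsSaturated p) (hE : F.IsEssential p E) (hab : ∀ y y' : E, y * y' = y' * y) :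
    ∃ M : Subgroup (F.autGroup E), M ≠ ⊤ ∧ CondC p M ∧ (autInducedBy S E).subgroupOf (F.autGroup E) ≤ M := by
  classical
  have hES : E ≤ S := hE.1.1
  haveI : Finite E := finite_of_le hES
  obtain ⟨-, hFN, hK, Y, hY⟩ := hE
  have hInn : Inn E = ⊥ := by
    rw [eq_bot_iff]
    rintro _ ⟨g, rfl⟩
    rw [Subgroup.mem_bot]
    ext x
    show ((g * x * g⁻¹ : E) : Ω) = x
    rw [hab g x, mul_inv_cancel_right]
  set K := (Inn E).subgroupOf (F.autGroup E) with hKd
  have hKbot : K = ⊥ := by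
    rw [hKd, hInn]
    exact Subgroup.bot_subgroupOf _
  set π := QuotientGroup.mk' K with hπ
  have hπs : Function.Surjective π := QuotientGroup.mk'_surjective K
  have hπi : Function.Injective π := by
    rw [← MonoidHom.ker_eq_bot_iff, QuotientGroup.ker_mk', hKbot]
  set M₀ := Y.comap π with hM₀
  have hmap : M₀.map π = Y := Subgroup.map_comap_eq_self_of_surjective hπs Y
  have hM₀top : M₀ ≠ ⊤ := by
    intro e
    apply hY.2.1
    rw [← hmap, e, ← MonoidHom.range_eq_map, MonoidHom.range_eq_top.2 hπs]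
  have hc₀ : CondC p M₀ := by
    intro A hAM hA hne n hn
    have h1 : A.map π ≤ Y := by
      rw [← hmap]
      exact Subgroup.map_mono hAM
    have h2 : IsPGroup p (A.map π) := hA.map π
    have h3 : A.map π ≠ ⊥ := by
      intro e
      exact hne ((Subgroup.map_eq_bot_iff_of_injective _ hπi).1 e)
    have h4 := spe_c hY h1 h2 h3
    apply h4
    exact Subgroup.le_normalizer_map π ⟨n, hn, rfl⟩
  have hdvd : p ∣ Nat.card M₀ := by
    have h1 := spe_dvd hY
    rw [← hmap, Subgroup.card_map_of_injective hπi] at h1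
    exact h1
  obtain ⟨S₀⟩ : Nonempty (Sylow p ↥M₀) := inferInstance
  obtain ⟨P, hP⟩ := sylow_of_c hc₀ hdvd S₀
  have hPM : (P : Subgroup _) ≤ M₀ := by
    rw [hP]
    exact Subgroup.map_subtype_le _
  have hFA := fullyAutomized_of_fullyNormalized hS F hF hFN
  obtain ⟨R, hR⟩ := hFA.2
  obtain ⟨h, hh⟩ := MulAction.exists_smul_eq (F.autGroup E) P R
  refine ⟨M₀.map (MulAut.conj h).toMonoidHom, ?_, CondC_conj hc₀ h, ?_⟩
  · intro e
    apply hM₀top
    rw [eq_top_iff]
    intro x _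
    have h1 : h * x * h⁻¹ ∈ M₀.map (MulAut.conj h).toMonoidHom := by
      rw [e]
      trivial
    obtain ⟨w, hw, ew⟩ := h1
    have ew' : h * w * h⁻¹ = h * x * h⁻¹ := ew
    have : w = x := by
      have := mul_right_cancel ew'
      exact mul_left_cancel this
    rw [← this]
    exact hw
  · rw [← hR, ← hh]
    intro x hx
    have h1 : h⁻¹ * x * h ∈ (P : Subgroup _) := Cfsg.Agent.Lib.PNilp.mem_smul_sylow.1 hx
    exact ⟨h⁻¹ * x * h, hPM h1, by show h * (h⁻¹ * x * h) * h⁻¹ = x; group⟩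

/-- The key lemma: in the automizer of an abelian essential subgroup `E`, a group of transvections with common centre `a`,
inside `Aut_S(E)`, cannot have the property that each element of `E` is fixed by one of its non-trivial elements. -/
theorem tv_small (hS : IsPGroup p S) (hF : F.IsSaturated p) (hE : F.IsEssential p E) (hab : ∀ y y' : E, y * y' = y' * y) {a : E}
    {T₀ : Subgroup (MulAut E)} (hT₀ : T₀ ≤ autInducedBy S E) (htv : ∀ κ ∈ T₀, κ a = a ∧ ∀ y, κ y * y⁻¹ ∈ zpowers a)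
    (hk : ∀ y : E, ∃ κ ∈ T₀, κ ≠ 1 ∧ κ y = y) : False := by
  classical
  have hES : E ≤ S := hE.1.1
  haveI : Finite E := finite_of_le hES
  have hP : p.Prime := Fact.out
  obtain ⟨M, hMtop, hc, hTM⟩ := se_abelian hS hF hE hab
  have hTA := autInduced_le_autGroup F hES
  letI iC : CommGroup E := { (inferInstance : Group E) with mul_comm := hab }
  apply hMtop
  rw [eq_top_iff]
  intro g _
  by_contra hg
  apply b_of_c hc hg
  -- the element fixing `g⁻¹ a`
  obtain ⟨κ₀, hκ₀, hκ₀1, hκ₀y⟩ := hk ((g : MulAut E)⁻¹ a)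
  set gg : MulAut E := (g : MulAut E) with hgg
  set b := gg a with hb
  let c₁ := zpowers a
  let c₂ := zpowers a ⊔ zpowers b
  have hle : c₁ ≤ c₂ := le_sup_left
  let W := (K3 c₁ c₂ hle).subgroupOf (F.autGroup E)
  have hWp : IsPGroup p W := (K3_pgroup (hS.to_le hES) c₁ c₂ hle).comap_of_injective _ Subtype.coe_injective
  have hfixz : ∀ κ ∈ T₀, ∀ x ∈ c₁, κ x = x := by
    rintro κ hκ _ ⟨n, rfl⟩
    show κ (a ^ n) = a ^ n
    rw [map_zpow, (htv κ hκ).1]
  have hT₀W : T₀.subgroupOf (F.autGroup E) ≤ W := by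
    intro κ hκ
    have hκ' : (κ : MulAut E) ∈ T₀ := Subgroup.mem_subgroupOf.1 hκ
    refine Subgroup.mem_subgroupOf.2 ⟨fun x => hle ((htv _ hκ').2 x), fun x _ => (htv _ hκ').2 x, hfixz _ hκ'⟩
  have hT₀M : T₀.subgroupOf (F.autGroup E) ≤ M := by
    intro κ hκ
    exact hTM (Subgroup.mem_subgroupOf.2 (hT₀ (Subgroup.mem_subgroupOf.1 hκ)))
  have hκ₀A : κ₀ ∈ F.autGroup E := hTA (hT₀ hκ₀)
  have hT₀ne : T₀.subgroupOf (F.autGroup E) ≠ ⊥ := by
    intro e
    have h1 : (⟨κ₀, hκ₀A⟩ : F.autGroup E) ∈ T₀.subgroupOf (F.autGroup E) := Subgroup.mem_subgroupOf.2 hκ₀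
    rw [e, Subgroup.mem_bot] at h1
    exact hκ₀1 (congrArg Subtype.val h1)
  have hWM : W ≤ M := le_of_pgroup hc hT₀M hT₀ne hT₀W hWp
  -- the conjugate
  set κ : F.autGroup E := g * ⟨κ₀, hκ₀A⟩ * g⁻¹ with hκ
  have hκv : ∀ x : E, (κ : MulAut E) x = gg (κ₀ (gg⁻¹ x)) := fun x => rfl
  have hκa : (κ : MulAut E) a = a := by
    rw [hκv, hκ₀y]
    simp
  have hκb : (κ : MulAut E) b = b := by
    rw [hκv, hb]
    have : gg⁻¹ (gg a) = a := by simp
    rw [this, (htv κ₀ hκ₀).1]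
  have hκc : ∀ x : E, (κ : MulAut E) x * x⁻¹ ∈ zpowers b := by
    intro x
    have e : (κ : MulAut E) x * x⁻¹ = gg (κ₀ (gg⁻¹ x) * (gg⁻¹ x)⁻¹) := by
      have : gg (gg⁻¹ x) = x := by simp
      rw [hκv, map_mul, map_inv, this]
    rw [e]
    obtain ⟨n, hn⟩ := (htv κ₀ hκ₀).2 (gg⁻¹ x)
    rw [← hn, map_zpow]
    exact Subgroup.zpow_mem _ (Subgroup.mem_zpowers _) n
  have hκfix : ∀ x ∈ c₂, (κ : MulAut E) x = x := by
    intro x hx
    obtain ⟨u, ⟨i, rfl⟩, v, ⟨j, rfl⟩, rfl⟩ := Subgroup.mem_sup.1 hx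
    show (κ : MulAut E) (a ^ i * b ^ j) = a ^ i * b ^ j
    rw [map_mul, map_zpow, map_zpow, hκa, hκb]
  have hκW : κ ∈ W := by
    refine Subgroup.mem_subgroupOf.2 ⟨fun x => (le_sup_right : zpowers b ≤ c₂) (hκc x), fun x hx => ?_, fun x hx => hκfix x (hle hx)⟩
    rw [hκfix x hx, mul_inv_cancel]
    exact c₁.one_mem
  have hκM : κ ∈ M := hWM hκW
  have hκ₀M : (⟨κ₀, hκ₀A⟩ : F.autGroup E) ∈ M := hT₀M (Subgroup.mem_subgroupOf.2 hκ₀)
  have hκ1 : κ ≠ 1 := by
    intro e
    apply hκ₀1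
    have h1 : (⟨κ₀, hκ₀A⟩ : F.autGroup E) = 1 := by
      have h2 : g⁻¹ * κ * g = ⟨κ₀, hκ₀A⟩ := by
        rw [hκ]
        group
      rw [← h2, e]
      group
    exact congrArg Subtype.val h1
  have hmem : κ ∈ M ⊓ M.map (MulAut.conj g).toMonoidHom := Subgroup.mem_inf.2 ⟨hκM, ⟨_, hκ₀M, rfl⟩⟩
  -- `p` divides the order
  obtain ⟨n, hn⟩ := (IsPGroup.iff_card.1 hWp)
  have h1 : orderOf κ ∣ p ^ n := by
    have h2 := orderOf_dvd_natCard (⟨κ, hκW⟩ : W)
    rw [hn, Subgroup.orderOf_mk] at h2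
    exact h2
  obtain ⟨j, -, hj⟩ := (Nat.dvd_prime_pow hP).1 h1
  have hj0 : j ≠ 0 := by
    rintro rfl
    rw [pow_zero, orderOf_eq_one_iff] at hj
    exact hκ1 hj
  have h2 : p ∣ orderOf κ := by
    rw [hj]
    exact dvd_pow_self p hj0
  have h3 := orderOf_dvd_natCard (⟨κ, hmem⟩ : ↥(M ⊓ M.map (MulAut.conj g).toMonoidHom))
  rw [Subgroup.orderOf_mk] at h3
  exact h2.trans h3

/-- commutators with a fixed element: the centralizer has small index -/
theorem index_cent {H : Type*} [Group H] [Finite H] {Z : Subgroup H} (hZ : ∀ z ∈ Z, ∀ g : H, g * z = z * g) (hc : ∀ s t : H, s * t * s⁻¹ * t⁻¹ ∈ Z) (y : H) :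
    (Subgroup.centralizer ({y} : Set H)).index ∣ Nat.card Z := by
  classical
  let f : H →* Z :=
    { toFun := fun s => ⟨s * y * s⁻¹ * y⁻¹, hc s y⟩
      map_one' := by
        apply Subtype.ext
        simp
      map_mul' := by
        intro s t
        apply Subtype.ext
        show (s * t) * y * (s * t)⁻¹ * y⁻¹ = (s * y * s⁻¹ * y⁻¹) * (t * y * t⁻¹ * y⁻¹)
        have h1 := hZ _ (hc t y)
        set c := t * y * t⁻¹ * y⁻¹ with hcd
        have e1 : t * y * t⁻¹ = c * y := by rw [hcd]; group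
        have e2 : (s * t) * y * (s * t)⁻¹ * y⁻¹ = s * (t * y * t⁻¹) * s⁻¹ * y⁻¹ := by group
        rw [e2, e1]
        have e3 : s * (c * y) * s⁻¹ * y⁻¹ = (s * c) * y * s⁻¹ * y⁻¹ := by group
        rw [e3, h1 s]
        have e4 : c * s * y * s⁻¹ * y⁻¹ = c * (s * y * s⁻¹ * y⁻¹) := by group
        rw [e4]
        exact h1 _ |>.symm }
  have hker : f.ker = Subgroup.centralizer ({y} : Set H) := by
    ext s
    rw [MonoidHom.mem_ker, Subgroup.mem_centralizer_singleton_iff]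
    constructor
    · intro h
      have h1 : s * y * s⁻¹ * y⁻¹ = 1 := congrArg Subtype.val h
      rw [mul_inv_eq_one, mul_inv_eq_iff_eq_mul] at h1
      exact h1
    · intro h
      apply Subtype.ext
      show s * y * s⁻¹ * y⁻¹ = 1
      rw [h, mul_inv_cancel_right, mul_inv_cancel]
  rw [← hker, Subgroup.index_ker]
  exact Subgroup.card_subgroup_dvd_card _


section extraspecial

variable {Q : Subgroup Ω} 

/-- a generator of the centre of an extraspecial group -/
theorem es_gen (hQ : Cfsg.IsExtraspecial p Q) : ∃ a ∈ Q, a ≠ 1 ∧ a ^ p = 1 ∧ (∀ s ∈ Q, s * a = a * s) ∧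
    (∀ s ∈ Q, ∀ t ∈ Q, s * t * s⁻¹ * t⁻¹ ∈ zpowers a) ∧ (∀ z ∈ Q, (∀ s ∈ Q, s * z = z * s) → z ∈ zpowers a) := by
  classical
  have hP : p.Prime := Fact.out
  obtain ⟨⟨hQp, hfr, hcomm⟩, hcc⟩ := hQ
  haveI : IsCyclic (center Q) := isCyclic_of_prime_card (p := p) hcc
  obtain ⟨g, hg⟩ := IsCyclic.exists_generator (α := center Q)
  have hgz : ∀ z : Q, z ∈ center Q → z ∈ zpowers (g : Q) := by
    intro z hz
    obtain ⟨n, hn⟩ := Subgroup.mem_zpowers_iff.1 (hg ⟨z, hz⟩)
    exact ⟨n, by simpa using congrArg Subtype.val hn⟩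
  have hgp : (g : Q) ^ p = 1 := by
    have h1 : g ^ Nat.card (center Q) = 1 := pow_card_eq_one'
    rw [hcc] at h1
    exact congrArg Subtype.val h1
  have hg1 : (g : Q) ≠ 1 := by
    intro e
    have h1 : g = 1 := Subtype.ext e
    have h2 : ∀ z : center Q, z = 1 := by
      intro z
      obtain ⟨n, hn⟩ := Subgroup.mem_zpowers_iff.1 (hg z)
      rw [← hn, h1, one_zpow]
    have h3 : Nat.card (center Q) = 1 := Nat.card_eq_one_iff_unique.2 ⟨⟨fun a b => by rw [h2 a, h2 b]⟩, ⟨1⟩⟩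
    rw [h3] at hcc
    exact hP.one_lt.ne hcc
  have hmemc : ∀ s t : Q, s * t * s⁻¹ * t⁻¹ ∈ center Q := by
    intro s t
    rw [← hcomm, _root_.commutator_def]
    have := Subgroup.commutator_mem_commutator (H₁ := (⊤ : Subgroup Q)) (H₂ := (⊤ : Subgroup Q)) (trivial : s ∈ _) (trivial : t ∈ _)
    rwa [commutatorElement_def] at this
  refine ⟨((g : Q) : Ω), (g : Q).2, fun e => hg1 (Subtype.ext e), congrArg Subtype.val hgp, fun s hs => ?_, fun s hs t ht => ?_, fun z hz h => ?_⟩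
  · exact congrArg Subtype.val (Subgroup.mem_center_iff.1 g.2 ⟨s, hs⟩)
  · obtain ⟨n, hn⟩ := hgz _ (hmemc ⟨s, hs⟩ ⟨t, ht⟩)
    refine ⟨n, ?_⟩
    have := congrArg Subtype.val hn
    simpa using this
  · obtain ⟨n, hn⟩ := hgz ⟨z, hz⟩ (Subgroup.mem_center_iff.2 fun s => Subtype.ext (h s s.2))
    refine ⟨n, ?_⟩
    have := congrArg Subtype.val hn
    simpa using this

/-- index computation in a group with commutators in an order-`p` central subgroup -/
theorem cent_index [Finite Q] {a : Ω} (ha : a ∈ Q) (hac : ∀ s ∈ Q, s * a = a * s) (hcard : Nat.card (zpowers a) = p)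
    (hc : ∀ s ∈ Q, ∀ t ∈ Q, s * t * s⁻¹ * t⁻¹ ∈ zpowers a) (y : Q) :
    (Subgroup.centralizer ({y} : Set Q)).index ∣ p := by
  have hZle : zpowers a ≤ Q := Subgroup.zpowers_le.2 ha
  have h1 := index_cent (H := Q) (Z := (zpowers a).subgroupOf Q) (y := y) (by
      intro z hz g
      obtain ⟨n, hn⟩ := Subgroup.mem_subgroupOf.1 hz
      apply Subtype.ext
      show (g : Ω) * z = z * g
      rw [← show a ^ n = (z : Ω) from hn]
      exact (((show Commute (g : Ω) a from hac g g.2).zpow_right n)).eq) (by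
      intro s t
      exact Subgroup.mem_subgroupOf.2 (hc s s.2 t t.2))
  rw [Nat.card_congr (Subgroup.subgroupOfEquivOfLe hZle).toEquiv, hcard] at h1
  exact h1

/-- an abelian subgroup of index at most `p` in a group with commutators in an order-`p` central subgroup forces a large centre. -/
theorem center_index_le [Finite Q] (hQp : IsPGroup p Q) {a : Ω} (ha : a ∈ Q) (hac : ∀ s ∈ Q, s * a = a * s) (hcard : Nat.card (zpowers a) = p)
    (hc : ∀ s ∈ Q, ∀ t ∈ Q, s * t * s⁻¹ * t⁻¹ ∈ zpowers a) {E : Subgroup Ω} (h : AbI Q E p) :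
    (center Q).index ≤ p ^ 2 := by
  classical
  have hP : p.Prime := Fact.out
  obtain ⟨x, hx, hxE⟩ := exists_out h
  have h1 := cent_index ha hac hcard hc ⟨x, hx⟩
  have h2 : (E.subgroupOf Q) ⊓ Subgroup.centralizer ({(⟨x, hx⟩ : Q)} : Set Q) ≤ center Q := by
    intro u hu
    obtain ⟨hu1, hu2⟩ := Subgroup.mem_inf.1 hu
    have hu3 : u * ⟨x, hx⟩ = ⟨x, hx⟩ * u := (Subgroup.mem_centralizer_singleton_iff.1 hu2)
    have h3 := Zs_of hQp h hx hxE (Subgroup.mem_subgroupOf.1 hu1) (congrArg Subtype.val hu3)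
    rw [Zs_eq_map] at h3
    obtain ⟨w, hw, e⟩ := h3
    have : w = u := Subtype.ext e
    rw [← this]
    exact hw
  have h3 : (center Q).index ∣ ((E.subgroupOf Q) ⊓ Subgroup.centralizer ({(⟨x, hx⟩ : Q)} : Set Q)).index := Subgroup.index_dvd_of_le h2
  have hpos : 0 < ((E.subgroupOf Q) ⊓ Subgroup.centralizer ({(⟨x, hx⟩ : Q)} : Set Q)).index := Nat.pos_of_ne_zero Subgroup.index_ne_zero_of_finite
  have h4 := Nat.le_of_dvd hpos h3
  have h5 : ((E.subgroupOf Q) ⊓ Subgroup.centralizer ({(⟨x, hx⟩ : Q)} : Set Q)).index ≤ (E.subgroupOf Q).index * (Subgroup.centralizer ({(⟨x, hx⟩ : Q)} : Set Q)).index := Subgroup.index_inf_le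
  have h6 := Nat.le_of_dvd hP.pos h1
  rw [h.idx] at h5
  calc (center Q).index ≤ _ := h4
    _ ≤ p * (Subgroup.centralizer ({(⟨x, hx⟩ : Q)} : Set Q)).index := h5
    _ ≤ p * p := Nat.mul_le_mul_left _ h6
    _ = p ^ 2 := by ring

/-- In a group with commutators in an order-`p` central subgroup: if `E` has index different from `1, p` then every element of `E` commutes with an element outside `E`. -/
theorem exists_comm [Finite Q] {a : Ω} (ha : a ∈ Q) (hac : ∀ s ∈ Q, s * a = a * s) (hcard : Nat.card (zpowers a) = p)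
    (hc : ∀ s ∈ Q, ∀ t ∈ Q, s * t * s⁻¹ * t⁻¹ ∈ zpowers a) {E : Subgroup Ω} (hne : E.subgroupOf Q ≠ ⊤) (hi : (E.subgroupOf Q).index ≠ p) (y : Q) :
    ∃ s ∈ Q, s ∉ E ∧ s * y = y * s := by
  classical
  have hP : p.Prime := Fact.out
  by_contra hall
  push_neg at hall
  have hle : Subgroup.centralizer ({y} : Set Q) ≤ E.subgroupOf Q := by
    intro s hs
    apply Subgroup.mem_subgroupOf.2
    by_contra hsE
    exact hall s s.2 hsE (congrArg Subtype.val (Subgroup.mem_centralizer_singleton_iff.1 hs))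
  have h1 := (Subgroup.index_dvd_of_le hle).trans (cent_index ha hac hcard hc y)
  rcases (Nat.dvd_prime hP).1 h1 with h2 | h2
  · exact hne (Subgroup.index_eq_one.1 h2)
  · exact hi h2

end extraspecial

/-- a group whose commutators lie in a central subgroup `⟨a⟩` of order `p`, with trivial core, has centre of index at most `p²`. -/
theorem der_index (hS : IsPGroup p S) (hF : F.IsSaturated p) (hcore : F.core = ⊥) (hS1 : S ≠ ⊥) {a : Ω} (ha : a ∈ Zs S) (hcard : Nat.card (zpowers a) = p)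
    (hc : ∀ s ∈ S, ∀ t ∈ S, s * t * s⁻¹ * t⁻¹ ∈ zpowers a) : (center S).index ≤ p ^ 2 ∨ ∀ a b : S, a * b = b * a := by
  classical
  have hP : p.Prime := Fact.out
  by_cases hna : ∀ a b : S, a * b = b * a
  · exact Or.inr hna
  left
  obtain ⟨E, hE⟩ := Cfsg.Agent.Lib.FusTransv3.exists_essential hS hF hS1 hcore
  have hES : E ≤ S := hE.1.1
  haveI hfE : Finite E := finite_of_le hES
  have hZE := Zs_le_P hE
  have haE := hZE ha
  have haS := (mem_Zs.1 ha).1
  have hac : ∀ s ∈ S, s * a = a * s := (mem_Zs.1 ha).2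
  have hcentral : ∀ s ∈ S, ∀ n : ℤ, s * a ^ n * s⁻¹ = a ^ n := by
    intro s hs n
    have : Commute s a := hac s hs
    rw [(this.zpow_right n).eq, mul_inv_cancel_right]
  have hnormal : ∀ s ∈ S, s ∈ Subgroup.normalizer (E : Set Ω) := by
    intro s hs
    apply mem_normalizer_of_conj_le'
    intro y hy
    obtain ⟨n, hn⟩ := hc s hs y (hES hy)
    have e : s * y * s⁻¹ = a ^ n * y := by
      rw [show a ^ n = s * y * s⁻¹ * y⁻¹ from hn]
      group
    rw [e]
    exact E.mul_mem (E.zpow_mem haE n) hy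
  have hlt := Cfsg.Agent.Lib.FusEss.essential_lt hS F hF hE
  -- `E` is abelian
  have hab : ∀ y y' : E, y * y' = y' * y := by
    by_contra hnab
    push_neg at hnab
    obtain ⟨c, d, hcd⟩ := hnab
    set w := (c : Ω) * d * (c : Ω)⁻¹ * (d : Ω)⁻¹ with hw
    have hw1 : w ≠ 1 := by
      intro e
      rw [hw, mul_inv_eq_one, mul_inv_eq_iff_eq_mul] at e
      exact hcd (Subtype.ext e)
    have hwz : w ∈ zpowers a := hc c (hES c.2) d (hES d.2)
    have hzw : zpowers a ≤ zpowers w := by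
      haveI : Finite (zpowers a) := finite_of_le (Subgroup.zpowers_le.2 (Zs_le_P hE ha |> fun h => hES h))
      have hle : zpowers w ≤ zpowers a := Subgroup.zpowers_le.2 hwz
      have hdvd : Nat.card (zpowers w) ∣ p := hcard ▸ Subgroup.card_dvd_of_le hle
      rcases (Nat.dvd_prime hP).1 hdvd with h1 | h1
      · exfalso
        rw [Nat.card_zpowers, orderOf_eq_one_iff] at h1
        exact hw1 h1
      · exact (Subgroup.eq_of_le_of_card_ge hle (by rw [hcard, h1])).ge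
    obtain ⟨k, hk⟩ := hzw (Subgroup.mem_zpowers a)
    have hk' : w ^ k = a := hk
    have hV : ∀ γ ∈ F.autGroup E, ∀ x : E, (x : Ω) ∈ zpowers a → ((γ x : E) : Ω) ∈ zpowers a := by
      intro γ _ x hx
      obtain ⟨n, hn⟩ := hx
      have hn' : a ^ n = (x : Ω) := hn
      have e : x = ((c * d * c⁻¹ * d⁻¹) ^ k) ^ n := by
        apply Subtype.ext
        rw [← hn', ← hk']
        simp [hw]
      rw [e, map_zpow, map_zpow, map_mul, map_mul, map_mul, map_inv, map_inv]
      have h3 : ((((γ c * γ d * (γ c)⁻¹ * (γ d)⁻¹) ^ k) ^ n : E) : Ω) = ((((γ c : E) : Ω) * (γ d : E) * ((γ c : E) : Ω)⁻¹ * ((γ d : E) : Ω)⁻¹) ^ k) ^ n := by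
        simp
      rw [h3]
      exact Subgroup.zpow_mem _ (Subgroup.zpow_mem _ (hc _ (hES (γ c).2) _ (hES (γ d).2)) k) n
    have hall : ∀ s ∈ S, s ∈ E := by
      intro s hs
      have hn := hnormal s hs
      apply mem_of_inn hE hs hn
      apply inn_of_chain hS hE hV (autInduced_le_autGroup F hES (mem_autInducedBy'.2 ⟨s, hs, fun _ => rfl⟩))
      · intro x hx
        apply Subtype.ext
        obtain ⟨n, hn'⟩ := hx
        show s * x * s⁻¹ = x
        rw [← show a ^ n = (x : Ω) from hn', hcentral s hs n]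
      · intro t
        show (t : Ω)⁻¹ * (s * t * s⁻¹) ∈ zpowers a
        have h5 := hc _ (S.inv_mem (hES t.2)) s hs
        have e : (t : Ω)⁻¹ * (s * t * s⁻¹) = (t : Ω)⁻¹ * s * ((t : Ω)⁻¹)⁻¹ * s⁻¹ := by group
        rw [e]
        exact h5
    exact hlt.ne (le_antisymm hES hall)
  -- the index of `E`
  have hne : E.subgroupOf S ≠ ⊤ := by
    intro e
    apply hlt.ne
    apply le_antisymm hES
    intro s hs
    have h1 : (⟨s, hs⟩ : S) ∈ E.subgroupOf S := by
      rw [e]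
      trivial
    exact h1
  have hi : (E.subgroupOf S).index = p := by
    by_contra hi
    have hec := exists_comm (Q := S) (mem_Zs.1 ha).1 hac hcard hc hne hi
    let aE : E := ⟨a, haE⟩
    apply tv_small hS hF hE hab (a := aE) (T₀ := autInducedBy S E) le_rfl
    · intro κ hκ
      obtain ⟨s, hs, e⟩ := mem_autInducedBy'.1 hκ
      constructor
      · apply Subtype.ext
        rw [e]
        show s * a * s⁻¹ = a
        rw [hac s hs, mul_inv_cancel_right]
      · intro y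
        obtain ⟨n, hn⟩ := hc s hs y (hES y.2)
        refine ⟨n, Subtype.ext ?_⟩
        have hn' : a ^ n = s * y * s⁻¹ * (y : Ω)⁻¹ := hn
        show a ^ n = ((κ y : E) : Ω) * (y : Ω)⁻¹
        rw [hn', e]
    · intro y
      obtain ⟨s, hs, hsE, hsy⟩ := hec ⟨y, hES y.2⟩
      have hsy' : s * y = y * s := hsy
      refine ⟨cAut E ⟨s, hnormal s hs⟩, mem_autInducedBy'.2 ⟨s, hs, fun _ => rfl⟩, fun e => hsE ?_, ?_⟩
      · apply mem_of_triv hE hs
        intro y hy
        exact congrArg (fun f : MulAut E => ((f ⟨y, hy⟩ : E) : Ω)) e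
      · apply Subtype.ext
        show s * y * s⁻¹ = y
        rw [hsy', mul_inv_cancel_right]
  have hI : AbI S E p := by
    refine ⟨hES, fun x hx y hy => congrArg Subtype.val (hab ⟨x, hx⟩ ⟨y, hy⟩), hi, ?_⟩
    by_contra hall
    push_neg at hall
    exact hna fun a b => Subtype.ext (hall a a.2 b b.2)
  exact center_index_le (Q := S) hS (mem_Zs.1 ha).1 hac hcard hc hI


theorem es_nonab {Q : Subgroup Ω} (hQ : Cfsg.IsExtraspecial p Q) : ∃ s ∈ Q, ∃ t ∈ Q, s * t ≠ t * s := by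
  have hP : p.Prime := Fact.out
  by_contra hall
  push_neg at hall
  obtain ⟨⟨-, -, hcomm⟩, hcc⟩ := hQ
  have h1 : center Q = ⊤ := by
    rw [eq_top_iff]
    intro x _
    exact Subgroup.mem_center_iff.2 fun g => Subtype.ext (hall g g.2 x x.2)
  have h2 : commutator Q = ⊥ := (commutator_eq_bot_iff_center_eq_top Q).2 h1
  rw [hcomm] at h2
  rw [h2, Subgroup.card_bot] at hcc
  exact hP.one_lt.ne hcc

/-- two generators of a subgroup of prime order -/
theorem zpowers_le_of {a a' : Ω} (hap' : a' ^ p = 1) (ha : a ∈ zpowers a') (ha1 : a ≠ 1) : zpowers a' ≤ zpowers a := by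
  classical
  have hP : p.Prime := Fact.out
  have ha'1 : a' ≠ 1 := by
    rintro rfl
    rw [Subgroup.zpowers_one_eq_bot, Subgroup.mem_bot] at ha
    exact ha1 ha
  have hord : orderOf a' = p := orderOf_eq_prime hap' ha'1
  have hcard : Nat.card (zpowers a') = p := by rw [Nat.card_zpowers, hord]
  haveI : Finite (zpowers a') := Nat.finite_of_card_ne_zero (by rw [hcard]; exact hP.ne_zero)
  have hle : zpowers a ≤ zpowers a' := Subgroup.zpowers_le.2 ha
  have hdvd : Nat.card (zpowers a) ∣ p := hcard ▸ Subgroup.card_dvd_of_le hle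
  rcases (Nat.dvd_prime hP).1 hdvd with h1 | h1
  · exfalso
    rw [Nat.card_zpowers, orderOf_eq_one_iff] at h1
    exact ha1 h1
  · exact (Subgroup.eq_of_le_of_card_ge hle (by rw [hcard, h1])).ge

/-- the subgroup `⟨a⟩` is the commutator subgroup of a nonabelian subgroup with commutators in `⟨a⟩` -/
theorem V_inv {E : Subgroup Ω} {a : Ω} (hap : a ^ p = 1) (hc : ∀ s ∈ E, ∀ t ∈ E, s * t * s⁻¹ * t⁻¹ ∈ zpowers a) (hna : ¬ ∀ y y' : E, y * y' = y' * y)
    (γ : MulAut E) (x : E) (hx : (x : Ω) ∈ zpowers a) : ((γ x : E) : Ω) ∈ zpowers a := by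
  push_neg at hna
  obtain ⟨c, d, hcd⟩ := hna
  set w := (c : Ω) * d * (c : Ω)⁻¹ * (d : Ω)⁻¹ with hw
  have hw1 : w ≠ 1 := by
    intro e
    rw [hw, mul_inv_eq_one, mul_inv_eq_iff_eq_mul] at e
    exact hcd (Subtype.ext e)
  have hwz : w ∈ zpowers a := hc c c.2 d d.2
  have hzw := zpowers_le_of hap hwz hw1
  obtain ⟨k, hk⟩ := hzw (Subgroup.mem_zpowers a)
  have hk' : w ^ k = a := hk
  obtain ⟨n, hn⟩ := hx
  have hn' : a ^ n = (x : Ω) := hn
  have e : x = ((c * d * c⁻¹ * d⁻¹) ^ k) ^ n := by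
    apply Subtype.ext
    rw [← hn', ← hk']
    simp [hw]
  rw [e, map_zpow, map_zpow, map_mul, map_mul, map_mul, map_inv, map_inv]
  have h3 : ((((γ c * γ d * (γ c)⁻¹ * (γ d)⁻¹) ^ k) ^ n : E) : Ω) = ((((γ c : E) : Ω) * (γ d : E) * ((γ c : E) : Ω)⁻¹ * ((γ d : E) : Ω)⁻¹) ^ k) ^ n := by
    simp
  rw [h3]
  exact Subgroup.zpow_mem _ (Subgroup.zpow_mem _ (hc _ (γ c).2 _ (γ d).2) k) n

/-- an element of order `p` whose powers are permuted by `S` is central -/
theorem central_of_normal (hS : IsPGroup p S) {a : Ω} (haS : a ∈ S) (ha1 : a ≠ 1) (hap : a ^ p = 1) (hn : ∀ s ∈ S, s * a * s⁻¹ ∈ zpowers a) : a ∈ Zs S := by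
  classical
  haveI : Group.IsNilpotent S := hS.isNilpotent
  have hle : zpowers a ≤ S := Subgroup.zpowers_le.2 haS
  haveI hN : ((zpowers a).subgroupOf S).Normal := ⟨by
    intro u hu g
    obtain ⟨k, hk⟩ := Subgroup.mem_subgroupOf.1 hu
    apply Subgroup.mem_subgroupOf.2
    show (g : Ω) * u * (g : Ω)⁻¹ ∈ zpowers a
    rw [← show a ^ k = (u : Ω) from hk, ← conj_zpow]
    exact Subgroup.zpow_mem _ (hn g g.2) k⟩
  have hne : (zpowers a).subgroupOf S ≠ ⊥ := by
    intro e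
    have h1 : (⟨a, haS⟩ : S) ∈ (zpowers a).subgroupOf S := Subgroup.mem_subgroupOf.2 (Subgroup.mem_zpowers a)
    rw [e, Subgroup.mem_bot] at h1
    exact ha1 (congrArg Subtype.val h1)
  have h2 := Cfsg.Agent.Lib.H1Frat.normal_inf_center_ne_bot ((zpowers a).subgroupOf S) hne
  obtain ⟨w', hw'⟩ := Subgroup.ne_bot_iff_exists_ne_one.1 h2
  set w : S := (w' : S) with hwd
  have hw := w'.2
  have hw1 : w ≠ 1 := fun e => hw' (Subtype.ext e)
  obtain ⟨hw2, hw3⟩ := Subgroup.mem_inf.1 hw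
  have hw4 : (w : Ω) ∈ zpowers a := Subgroup.mem_subgroupOf.1 hw2
  have hw5 : (w : Ω) ≠ 1 := fun e => hw1 (Subtype.ext e)
  obtain ⟨k, hk⟩ := zpowers_le_of hap hw4 hw5 (Subgroup.mem_zpowers a)
  have hk' : (w : Ω) ^ k = a := hk
  rw [← hk']
  apply Subgroup.zpow_mem
  rw [Zs_eq_map]
  exact ⟨w, hw3, rfl⟩

end Cfsg.Agent.Lib.FusTvSmall
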