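import Cfsg.Agent.Lib.BlockTwo
import Cfsg.Agent.Lib.CharAbQ
import Cfsg.Agent.Lib.BlockSec
import Cfsg.Agent.Lib.CharExt

set_option autoImplicit false
set_option linter.unusedSectionVars false
set_option linter.unusedVariables false
set_option linter.style.longLine false

universe u

namespace Cfsg.Agent.Lib.Glaub

open Cfsg Cfsg.Agent.Lib.IrrBasic Cfsg.Agent.Lib
open Cfsg.Agent.Lib.CharBasic Cfsg.Agent.Lib.CharOrth Cfsg.Agent.Lib.CharAlg Cfsg.Agent.Lib.BlockInfl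
open scoped ComplexConjugate

section Conj
variable {H : Type u} [Group H]

theorem norm_pow (N : Subgroup H) {s : H} (hs : ∀ g ∈ N, s * g * s⁻¹ ∈ N) (j : ℕ) :
    ∀ g ∈ N, s ^ j * g * (s ^ j)⁻¹ ∈ N := by
  induction j with
  | zero => intro g hg; simpa using hg
  | succ j ih =>
    intro g hg
    have h1 := ih _ (hs g hg)
    have h2 : s ^ (j + 1) * g * (s ^ (j + 1))⁻¹ = s ^ j * (s * g * s⁻¹) * (s ^ j)⁻¹ := by
      rw [pow_succ]; group
    rw [h2]; exact h1

theorem coset_pow (N : Subgroup H) {s : H} (hs : ∀ g ∈ N, s * g * s⁻¹ ∈ N) {m : H} (hm : m ∈ N) (k : ℕ) :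
    ∃ m' ∈ N, (m * s) ^ k = m' * s ^ k := by
  induction k with
  | zero => exact ⟨1, N.one_mem, by simp⟩
  | succ k ih =>
    obtain ⟨m', hm', h⟩ := ih
    refine ⟨m' * (s ^ k * m * (s ^ k)⁻¹), N.mul_mem hm' (norm_pow N hs k m hm), ?_⟩
    rw [pow_succ, h, pow_succ]
    group

variable [Finite H]

theorem exists_conj_pp {p e : ℕ} [hp : Fact p.Prime] (N : Subgroup H) {s y m : H}
    (hs : ∀ g ∈ N, s * g * s⁻¹ ∈ N) (hN : ¬ p ∣ Nat.card N) (hsn : s ^ (p ^ e) = 1) (hyn : y ^ (p ^ e) = 1)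
    (hm : m ∈ N) (hy : y = m * s) : ∃ g ∈ N, g * s * g⁻¹ = y := by
  classical
  haveI : Fintype N := Fintype.ofFinite N
  let f : N → N := fun n => ⟨m * (s * n * s⁻¹), N.mul_mem hm (hs _ n.2)⟩
  have hfinj : Function.Injective f := by
    intro a b h
    have h1 : m * (s * (a : H) * s⁻¹) = m * (s * (b : H) * s⁻¹) := congrArg Subtype.val h
    have h2 : s * (a : H) * s⁻¹ = s * (b : H) * s⁻¹ := mul_left_cancel h1
    have h3 : (a : H) = b := by
      have := congrArg (fun t => s⁻¹ * t * s) h2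
      simpa [mul_assoc] using this
    exact Subtype.ext h3
  let τ : Equiv.Perm N := Equiv.ofBijective f (Finite.injective_iff_bijective.mp hfinj)
  have hτ : ∀ n : N, ((τ n : N) : H) = y * n * s⁻¹ := by
    intro n
    change m * (s * (n : H) * s⁻¹) = y * n * s⁻¹
    rw [hy]; group
  have hτj : ∀ (j : ℕ) (n : N), (((τ ^ j) n : N) : H) = y ^ j * n * (s ^ j)⁻¹ := by
    intro j
    induction j with
    | zero => intro n; simp
    | succ j ih =>
      intro n
      rw [pow_succ', Equiv.Perm.mul_apply, hτ, ih, pow_succ', pow_succ]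
      group
  have hτp : τ ^ (p ^ e) = 1 := by
    ext n
    rw [hτj, hyn, hsn]
    simp
  obtain ⟨n, hn⟩ := Equiv.Perm.exists_fixed_point_of_prime (p := p) (n := e) (by
    rwa [← Nat.card_eq_fintype_card]) hτp
  refine ⟨n, n.2, ?_⟩
  have h1 := congrArg Subtype.val hn
  rw [hτ] at h1
  calc (n : H) * s * (n : H)⁻¹ = (y * n * s⁻¹) * s * (n : H)⁻¹ := by rw [h1]
    _ = y := by group

theorem exists_conj_coset : ∀ (n : ℕ) (N : Subgroup H) (s y m : H), 0 < n → (∀ g ∈ N, s * g * s⁻¹ ∈ N) →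
    Nat.Coprime (Nat.card N) n → s ^ n = 1 → y ^ n = 1 → m ∈ N → y = m * s → ∃ g ∈ N, g * s * g⁻¹ = y := by
  intro n
  induction n using Nat.strong_induction_on with
  | _ n ih =>
  intro N s y m hn hs hcop hsn hyn hm hy
  rcases Nat.lt_or_ge 1 n with h1 | h1
  swap
  · have h2 : n = 1 := by omega
    subst h2
    rw [pow_one] at hsn hyn
    exact ⟨1, N.one_mem, by simp [hsn, hyn]⟩
  have hp := Nat.minFac_prime (n := n) (by omega)
  haveI : Fact n.minFac.Prime := ⟨hp⟩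
  obtain ⟨p, hpdef⟩ : ∃ p, p = n.minFac := ⟨_, rfl⟩
  rw [← hpdef] at hp
  haveI : Fact p.Prime := ⟨hp⟩
  have hpn : p ∣ n := by rw [hpdef]; exact Nat.minFac_dvd n
  obtain ⟨e, m₀, hm₀, hnd⟩ := Nat.exists_eq_pow_mul_and_not_dvd hn.ne' p hp.ne_one
  have he : e ≠ 0 := by
    rintro rfl
    rw [pow_zero, one_mul] at hnd
    exact hm₀ (hnd ▸ hpn)
  have hm₀pos : 0 < m₀ := Nat.pos_of_ne_zero (by rintro rfl; simp at hnd; omega)
  have hcm : Nat.Coprime (p ^ e) m₀ := Nat.Coprime.pow_left _ ((Nat.Prime.coprime_iff_not_dvd hp).mpr hm₀)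
  obtain ⟨a, ha1, ha2⟩ := Nat.chineseRemainder hcm 1 0
  obtain ⟨b, hb1, hb2⟩ := Nat.chineseRemainder hcm 0 1
  have hab : a + b ≡ 1 [MOD n] := by
    rw [hnd, ← Nat.modEq_and_modEq_iff_modEq_mul hcm]
    constructor
    · simpa using ha1.add hb1
    · simpa using ha2.add hb2
  have hsplit : ∀ x : H, x ^ n = 1 → x ^ a * x ^ b = x := by
    intro x hx
    rw [← pow_add, pow_eq_pow_of_modEq hab hx, pow_one]
  have hdvd1 : n ∣ a * p ^ e := by
    have h2 : m₀ ∣ a := (Nat.modEq_zero_iff_dvd).mp ha2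
    rw [hnd, mul_comm (p ^ e) m₀]
    exact mul_dvd_mul_right h2 _
  have hdvd2 : n ∣ b * m₀ := by
    have h2 : p ^ e ∣ b := (Nat.modEq_zero_iff_dvd).mp hb1
    rw [hnd]
    exact mul_dvd_mul_right h2 _
  have hp1 : ∀ x : H, x ^ n = 1 → (x ^ a) ^ (p ^ e) = 1 := by
    intro x hx
    rw [← pow_mul]
    obtain ⟨t, ht⟩ := hdvd1
    rw [ht, pow_mul, hx, one_pow]
  have hp2 : ∀ x : H, x ^ n = 1 → (x ^ b) ^ m₀ = 1 := by
    intro x hx
    rw [← pow_mul]
    obtain ⟨t, ht⟩ := hdvd2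
    rw [ht, pow_mul, hx, one_pow]
  have hnotp : ¬ p ∣ Nat.card N := by
    intro h
    have := Nat.dvd_gcd h hpn
    rw [hcop.gcd_eq_one] at this
    exact hp.one_lt.ne' (Nat.dvd_one.mp this)
  obtain ⟨ma, hma, hya⟩ := coset_pow N hs hm a
  rw [← hy] at hya
  obtain ⟨g₁, hg₁, hg₁e⟩ := exists_conj_pp (e := e) N (s := s ^ a) (y := y ^ a) (m := ma)
    (norm_pow N hs a) hnotp (hp1 s hsn) (hp1 y hyn) hma hya
  -- conjugate
  obtain ⟨y', hy'⟩ : ∃ y', y' = g₁⁻¹ * y * g₁ := ⟨_, rfl⟩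
  have hy'n : y' ^ n = 1 := by
    rw [hy', show g₁⁻¹ * y * g₁ = g₁⁻¹ * y * g₁⁻¹⁻¹ by simp, conj_pow, hyn]
    simp
  have hy'a : y' ^ a = s ^ a := by
    rw [hy', show g₁⁻¹ * y * g₁ = g₁⁻¹ * y * g₁⁻¹⁻¹ by simp, conj_pow, ← hg₁e]
    group
  obtain ⟨m', hm', hy'm⟩ : ∃ m' ∈ N, y' = m' * s := by
    refine ⟨g₁⁻¹ * m * (s * g₁ * s⁻¹), N.mul_mem (N.mul_mem (N.inv_mem hg₁) hm) (hs _ hg₁), ?_⟩
    rw [hy', hy]; group
  obtain ⟨m'', hm'', hy'b⟩ := coset_pow N hs hm' b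
  rw [← hy'm] at hy'b
  have hsplit' := hsplit y' hy'n
  rw [hy'a] at hsplit'
  -- the smaller subgroup
  have hcommys : Commute (s ^ a) (y' ^ b) := by
    rw [← hy'a]
    exact (Commute.refl y').pow_pow a b
  have hcommss : Commute (s ^ a) (s ^ b) := (Commute.refl s).pow_pow a b
  have hm''c : s ^ a * m'' = m'' * s ^ a := by
    have h2 : m'' = y' ^ b * (s ^ b)⁻¹ := by rw [hy'b]; group
    have h3 : Commute (s ^ a) m'' := by
      rw [h2]
      exact hcommys.mul_right hcommss.inv_right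
    exact h3.eq
  let N' : Subgroup H := N ⊓ Subgroup.centralizer ({s ^ a} : Set H)
  have hN'mem : ∀ g, g ∈ N' ↔ g ∈ N ∧ s ^ a * g = g * s ^ a := by
    intro g
    rw [Subgroup.mem_inf, Subgroup.mem_centralizer_singleton_iff]
    exact and_congr_right fun _ => eq_comm
  have hlt : m₀ < n := by
    rw [hnd]
    have : 1 < p ^ e := Nat.one_lt_pow he hp.one_lt
    nlinarith
  obtain ⟨g₂, hg₂, hg₂e⟩ := ih m₀ hlt N' (s ^ b) (y' ^ b) m'' hm₀pos (by
      intro g hg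
      obtain ⟨h1g, h2g⟩ := (hN'mem g).mp hg
      refine (hN'mem _).mpr ⟨norm_pow N hs b g h1g, ?_⟩
      have h3 : Commute (s ^ a) g := h2g
      have h4 : Commute (s ^ a) (s ^ b * g * (s ^ b)⁻¹) :=
        (hcommss.mul_right h3).mul_right hcommss.inv_right
      exact h4.eq)
    (by
      have h2 : Nat.card N' ∣ Nat.card N := Subgroup.card_dvd_of_le inf_le_left
      have h3 : m₀ ∣ n := by rw [hnd]; exact Dvd.intro_left _ rfl
      exact Nat.Coprime.coprime_dvd_left h2 (Nat.Coprime.coprime_dvd_right h3 hcop))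
    (hp2 s hsn) (hp2 y' hy'n) ((hN'mem _).mpr ⟨hm'', hm''c⟩) hy'b
  obtain ⟨h2g₂, h3g₂⟩ := (hN'mem g₂).mp hg₂
  refine ⟨g₁ * g₂, N.mul_mem hg₁ h2g₂, ?_⟩
  have hsplit2 := hsplit s hsn
  have h5 : g₂ * s * g₂⁻¹ = y' := by
    calc g₂ * s * g₂⁻¹ = g₂ * (s ^ a * s ^ b) * g₂⁻¹ := by rw [hsplit2]
      _ = (g₂ * s ^ a) * s ^ b * g₂⁻¹ := by group
      _ = (s ^ a * g₂) * s ^ b * g₂⁻¹ := by rw [h3g₂]
      _ = s ^ a * (g₂ * s ^ b * g₂⁻¹) := by group
      _ = s ^ a * y' ^ b := by rw [hg₂e]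
      _ = y' := hsplit'
  calc g₁ * g₂ * s * (g₁ * g₂)⁻¹ = g₁ * (g₂ * s * g₂⁻¹) * g₁⁻¹ := by group
    _ = g₁ * y' * g₁⁻¹ := by rw [h5]
    _ = y := by rw [hy']; group

/-- The part exponents. -/
theorem exists_part_exp {L o : ℕ} (h : Nat.Coprime L o) :
    ∃ a b : ℕ, a ≡ 0 [MOD L] ∧ a ≡ 1 [MOD o] ∧ b ≡ 1 [MOD L] ∧ b ≡ 0 [MOD o] := by
  obtain ⟨a, ha1, ha2⟩ := Nat.chineseRemainder h 0 1
  obtain ⟨b, hb1, hb2⟩ := Nat.chineseRemainder h 1 0
  exact ⟨a, b, ha1, ha2, hb1, hb2⟩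

theorem exists_conj_cent (N : Subgroup H) {s n : H} (hs : ∀ g ∈ N, s * g * s⁻¹ ∈ N)
    (hcop : Nat.Coprime (Nat.card N) (orderOf s)) (hn : n ∈ N) :
    ∃ g ∈ N, ∃ c ∈ N, c * s = s * c ∧ n * s = g * (c * s) * g⁻¹ := by
  classical
  obtain ⟨a, b, ha0, ha1, hb1, hb0⟩ := exists_part_exp hcop
  have hopos : 0 < orderOf s := orderOf_pos s
  obtain ⟨x, hx⟩ : ∃ x, x = n * s := ⟨_, rfl⟩
  have hLo : x ^ (Nat.card N * orderOf s) = 1 := by
    obtain ⟨m', hm', h⟩ := coset_pow N hs hn (orderOf s)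
    rw [pow_orderOf_eq_one, mul_one, ← hx] at h
    rw [mul_comm, pow_mul, h]
    have := pow_card_eq_one' (G := N) (x := ⟨m', hm'⟩)
    exact congrArg Subtype.val this
  have hab : a + b ≡ 1 [MOD Nat.card N * orderOf s] := by
    rw [← Nat.modEq_and_modEq_iff_modEq_mul hcop]
    constructor
    · simpa using ha0.add hb1
    · simpa using ha1.add hb0
  have hsplit : x ^ a * x ^ b = x := by
    rw [← pow_add, pow_eq_pow_of_modEq hab hLo, pow_one]
  obtain ⟨ma, hma, hxa⟩ := coset_pow N hs hn a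
  obtain ⟨mb, hmb, hxb⟩ := coset_pow N hs hn b
  rw [← hx] at hxa hxb
  have hsa : s ^ a = s := by
    rw [pow_eq_pow_of_modEq ha1 (pow_orderOf_eq_one s), pow_one]
  have hsb : s ^ b = 1 := by
    rw [pow_eq_pow_of_modEq hb0 (pow_orderOf_eq_one s), pow_zero]
  rw [hsa] at hxa
  rw [hsb, mul_one] at hxb
  have hord : (x ^ a) ^ orderOf s = 1 := by
    rw [← pow_mul]
    have h2 : Nat.card N ∣ a := (Nat.modEq_zero_iff_dvd).mp ha0
    obtain ⟨t, ht⟩ := h2
    rw [ht, show Nat.card N * t * orderOf s = (Nat.card N * orderOf s) * t by ring, pow_mul, hLo, one_pow]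
  obtain ⟨g, hg, hge⟩ := exists_conj_coset (orderOf s) N s (x ^ a) ma hopos hs hcop
    (pow_orderOf_eq_one s) hord hma hxa
  refine ⟨g, hg, g⁻¹ * mb * g, N.mul_mem (N.mul_mem (N.inv_mem hg) hmb) hg, ?_, ?_⟩
  · have hc : Commute (x ^ a) mb := by
      rw [← hxb]
      exact (Commute.refl x).pow_pow a b
    rw [← hge] at hc
    have hc' : g * s * g⁻¹ * mb = mb * (g * s * g⁻¹) := hc.eq
    calc g⁻¹ * mb * g * s = g⁻¹ * (mb * (g * s * g⁻¹)) * g := by group
      _ = g⁻¹ * (g * s * g⁻¹ * mb) * g := by rw [hc']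
      _ = s * (g⁻¹ * mb * g) := by group
  · have hc : Commute (x ^ a) mb := by
      rw [← hxb]
      exact (Commute.refl x).pow_pow a b
    rw [← hge] at hc
    have hc' : g * s * g⁻¹ * mb = mb * (g * s * g⁻¹) := hc.eq
    rw [← hx, ← hsplit, hxb, ← hge]
    calc g * s * g⁻¹ * mb = mb * (g * s * g⁻¹) := hc'
      _ = g * (g⁻¹ * mb * g * s) * g⁻¹ := by group

/-- The `s`-part of `c * s`. -/
theorem exists_part_pow (N : Subgroup H) (s : H) (hcop : Nat.Coprime (Nat.card N) (orderOf s)) :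
    ∃ a : ℕ, ∀ c ∈ N, c * s = s * c → (c * s) ^ a = s := by
  obtain ⟨a, b, ha0, ha1, -, -⟩ := exists_part_exp hcop
  refine ⟨a, fun c hc hcs => ?_⟩
  have h1 : Commute c s := hcs
  rw [h1.mul_pow]
  have h2 : c ^ a = 1 := by
    have h3 : c ^ Nat.card N = 1 := by
      have := pow_card_eq_one' (G := N) (x := ⟨c, hc⟩)
      exact congrArg Subtype.val this
    rw [pow_eq_pow_of_modEq ha0 h3, pow_zero]
  rw [h2, one_mul, pow_eq_pow_of_modEq ha1 (pow_orderOf_eq_one s), pow_one]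

theorem conj_fix_of_conj (N : Subgroup H) (s : H) (hcop : Nat.Coprime (Nat.card N) (orderOf s))
    {c c' h : H} (hc : c ∈ N) (hc' : c' ∈ N) (hcs : c * s = s * c) (hcs' : c' * s = s * c')
    (he : h * (c * s) * h⁻¹ = c' * s) : h * s * h⁻¹ = s := by
  obtain ⟨a, ha⟩ := exists_part_pow N s hcop
  have h1 := ha c hc hcs
  have h2 := ha c' hc' hcs'
  rw [← he, conj_pow, h1] at h2
  exact h2

/-- The coset-sum identity. -/
theorem sum_coset (N C : Subgroup H) [Fintype N] [Fintype C] {s : H} (hs : ∀ g ∈ N, s * g * s⁻¹ ∈ N)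
    (hcop : Nat.Coprime (Nat.card N) (orderOf s)) (hC : ∀ x, x ∈ C ↔ x ∈ N ∧ x * s = s * x)
    (f : H → ℂ) (hf : ∀ g ∈ N, ∀ x, f (g * x * g⁻¹) = f x) :
    (Nat.card C : ℂ) * ∑ n : N, f (n * s) = (Nat.card N : ℂ) * ∑ c : C, f (c * s) := by
  classical
  have hs' : ∀ g ∈ N, s * g⁻¹ * s⁻¹ ∈ N := fun g hg => hs _ (N.inv_mem hg)
  let Φ : N × C → N := fun q => ⟨q.1 * q.2 * (s * (q.1 : H)⁻¹ * s⁻¹),
    N.mul_mem (N.mul_mem q.1.2 ((hC _).mp q.2.2).1) (hs' _ q.1.2)⟩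
  have hΦ : ∀ q : N × C, ((Φ q : N) : H) * s = q.1 * (q.2 * s) * (q.1 : H)⁻¹ := by
    intro q
    change (q.1 : H) * q.2 * (s * (q.1 : H)⁻¹ * s⁻¹) * s = _
    group
  have h1 : ∑ q : N × C, f ((Φ q : N) * s) = (Nat.card N : ℂ) * ∑ c : C, f (c * s) := by
    rw [Fintype.sum_prod_type]
    have h2 : ∀ g : N, ∑ c : C, f ((Φ (g, c) : N) * s) = ∑ c : C, f (c * s) := by
      intro g
      refine Finset.sum_congr rfl fun c _ => ?_
      rw [hΦ]
      exact hf _ g.2 _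
    simp_rw [h2]
    simp [Finset.card_univ, Nat.card_eq_fintype_card]
  have hfib : ∀ n : N, (Finset.univ.filter (fun q : N × C => Φ q = n)).card = Nat.card C := by
    intro n
    obtain ⟨g₀, hg₀, c₀, hc₀, hc₀s, he⟩ := exists_conj_cent N hs hcop n.2
    rw [Nat.card_eq_fintype_card, ← Finset.card_univ]
    symm
    have hc₀C : c₀ ∈ C := (hC _).mpr ⟨hc₀, hc₀s⟩
    refine Finset.card_bij (fun h _ => ((⟨g₀, hg₀⟩ : N) * ⟨h, ((hC _).mp h.2).1⟩, (h : C)⁻¹ * ⟨c₀, hc₀C⟩ * h)) ?_ ?_ ?_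
    · intro h _
      refine Finset.mem_filter.mpr ⟨Finset.mem_univ _, ?_⟩
      apply Subtype.ext
      apply mul_right_cancel (b := s)
      rw [hΦ, he]
      have hhs : (h : H) * s = s * h := ((hC _).mp h.2).2
      change g₀ * (h : H) * (((h : H)⁻¹ * c₀ * h) * s) * (g₀ * (h : H))⁻¹ = g₀ * (c₀ * s) * g₀⁻¹
      calc g₀ * (h : H) * (((h : H)⁻¹ * c₀ * h) * s) * (g₀ * (h : H))⁻¹
          = g₀ * (c₀ * ((h : H) * s)) * (h : H)⁻¹ * g₀⁻¹ := by group
        _ = g₀ * (c₀ * (s * h)) * (h : H)⁻¹ * g₀⁻¹ := by rw [hhs]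
        _ = g₀ * (c₀ * s) * g₀⁻¹ := by group
    · intro h _ h' _ hh
      have h2 := congrArg (fun q : N × C => ((q.1 : N) : H)) hh
      have h3 : g₀ * (h : H) = g₀ * (h' : H) := h2
      exact Subtype.ext (mul_left_cancel h3)
    · rintro ⟨g, c⟩ hq
      have hq' := (Finset.mem_filter.mp hq).2
      have h2 : ((Φ (g, c) : N) : H) * s = (n : H) * s := congrArg (fun m : N => (m : H) * s) hq'
      rw [hΦ, he] at h2
      have hcN := ((hC _).mp c.2).1
      have hcs := ((hC _).mp c.2).2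
      -- h := g₀⁻¹ g
      have h3 : (g₀⁻¹ * (g : H)) * ((c : H) * s) * (g₀⁻¹ * (g : H))⁻¹ = c₀ * s := by
        calc (g₀⁻¹ * (g : H)) * ((c : H) * s) * (g₀⁻¹ * (g : H))⁻¹
            = g₀⁻¹ * ((g : H) * ((c : H) * s) * (g : H)⁻¹) * g₀ := by group
          _ = g₀⁻¹ * (g₀ * (c₀ * s) * g₀⁻¹) * g₀ := by rw [h2]
          _ = c₀ * s := by group
      have h4 := conj_fix_of_conj N s hcop hcN hc₀ hcs hc₀s h3
      have hhN : g₀⁻¹ * (g : H) ∈ N := N.mul_mem (N.inv_mem hg₀) g.2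
      have hhs : (g₀⁻¹ * (g : H)) * s = s * (g₀⁻¹ * (g : H)) := by
        calc (g₀⁻¹ * (g : H)) * s = ((g₀⁻¹ * (g : H)) * s * (g₀⁻¹ * (g : H))⁻¹) * (g₀⁻¹ * (g : H)) := by group
          _ = s * (g₀⁻¹ * (g : H)) := by rw [h4]
      refine ⟨⟨_, (hC _).mpr ⟨hhN, hhs⟩⟩, Finset.mem_univ _, ?_⟩
      refine Prod.ext (Subtype.ext ?_) (Subtype.ext ?_)
      · change g₀ * (g₀⁻¹ * (g : H)) = g
        group
      · change (g₀⁻¹ * (g : H))⁻¹ * c₀ * (g₀⁻¹ * (g : H)) = c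
        -- from h3
        have h5 : (g₀⁻¹ * (g : H)) * (c : H) * (g₀⁻¹ * (g : H))⁻¹ * ((g₀⁻¹ * (g : H)) * s * (g₀⁻¹ * (g : H))⁻¹) = c₀ * s := by
          rw [← h3]; group
        rw [h4] at h5
        have h6 := mul_right_cancel h5
        rw [← h6]
        group
  have h2 : ∑ q : N × C, f ((Φ q : N) * s) = (Nat.card C : ℂ) * ∑ n : N, f (n * s) := by
    rw [← Finset.sum_fiberwise (s := Finset.univ) (g := Φ)]
    rw [Finset.mul_sum]
    refine Finset.sum_congr rfl fun n _ => ?_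
    rw [Finset.sum_congr rfl (g := fun _ => f (n * s))]
    · rw [Finset.sum_const, hfib, nsmul_eq_mul]
    · intro q hq
      rw [(Finset.mem_filter.mp hq).2]
  rw [← h1, h2]

end Conj

section Char
variable {H : Type u} [Group H] [Fintype H] (N : Subgroup H) [hN : N.Normal] [Fintype N]

/-- The average of `ψ * conj ψ'` over `N`-cosets. -/
noncomputable def Tf (ψ ψ' : H → ℂ) : H → ℂ := BlockPair.projN N (fun x => ψ x * conj (ψ' x))

theorem Tf_isChar {ψ ψ' : H → ℂ} (hψ : IsCharacter H ψ) (hψ' : IsCharacter H ψ') : IsCharacter H (Tf N ψ ψ') :=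
  BlockPair.isCharacter_projN N (IsCharacter.mul hψ (IsCharacter.conj hψ'))

theorem Tf_one (ψ ψ' : H → ℂ) : Tf N ψ ψ' 1 = classInner (fun n : N => ψ n) (fun n : N => ψ' n) := by
  simp [Tf, BlockPair.projN, classInner]

theorem Tf_mul (ψ ψ' : H → ℂ) {n : H} (hn : n ∈ N) (x : H) : Tf N ψ ψ' (n * x) = Tf N ψ ψ' x := by
  simp only [Tf, BlockPair.projN]
  congr 1
  refine Fintype.sum_equiv (Equiv.mulRight (⟨n, hn⟩ : N)) _ _ fun m => ?_
  simp [mul_assoc]

theorem coset_orth_zero {ψ ψ' : H → ℂ} (hψ : IsCharacter H ψ) (hψ' : IsCharacter H ψ')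
    (h : classInner (fun n : N => ψ n) (fun n : N => ψ' n) = 0) (x : H) :
    ∑ n : N, ψ (n * x) * conj (ψ' (n * x)) = 0 := by
  have h1 := IsCharacter.eq_zero_of_map_one (Tf_isChar N hψ hψ') (by rw [Tf_one, h])
  have h2 := congrFun h1 x
  simp only [Tf, BlockPair.projN, Pi.zero_apply] at h2
  have hN0 : (Nat.card N : ℂ) ≠ 0 := Nat.cast_ne_zero.mpr Nat.card_pos.ne'
  exact (mul_eq_zero.mp h2).resolve_left (inv_ne_zero hN0)

theorem Tf_self_eq (ψ : H → ℂ) (x : H) :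
    Tf N ψ ψ x = (((Nat.card N : ℝ)⁻¹ * ∑ n : N, ‖ψ (n * x)‖ ^ 2 : ℝ) : ℂ) := by
  simp only [Tf, BlockPair.projN]
  push_cast
  congr 1
  refine Finset.sum_congr rfl fun n _ => ?_
  rw [Complex.mul_conj, Complex.normSq_eq_norm_sq]
  push_cast
  rfl

theorem coset_orth_one {ψ : H → ℂ} (hψ : IsCharacter H ψ)
    (h : classInner (fun n : N => ψ n) (fun n : N => ψ n) = 1) (x : H) :
    ∑ n : N, ψ (n * x) * conj (ψ (n * x)) = (Nat.card N : ℂ) := by
  have hT := Tf_isChar N hψ hψ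
  obtain ⟨lam, hlam⟩ := CharLin.exists_hom_of_linear hT (by rw [Tf_one, h])
  have h2 := congrFun hlam x
  have hnorm : ‖Tf N ψ ψ x‖ = 1 := by
    rw [h2]
    have h3 : ((lam x : ℂˣ) : ℂ) ^ orderOf x = 1 := by
      rw [← Units.val_pow_eq_pow_val, ← map_pow, pow_orderOf_eq_one, map_one, Units.val_one]
    exact Complex.norm_eq_one_of_pow_eq_one h3 (orderOf_pos _).ne'
  rw [Tf_self_eq] at hnorm h2
  have hnn : 0 ≤ (Nat.card N : ℝ)⁻¹ * ∑ n : N, ‖ψ (n * x)‖ ^ 2 := by positivity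
  rw [Complex.norm_real, Real.norm_of_nonneg hnn] at hnorm
  have hN0 : (Nat.card N : ℂ) ≠ 0 := Nat.cast_ne_zero.mpr Nat.card_pos.ne'
  have h3 : Tf N ψ ψ x = 1 := by
    rw [Tf_self_eq, hnorm]; simp
  simp only [Tf, BlockPair.projN] at h3
  field_simp at h3
  exact h3

/-- Constituents of a character constant on `n`. -/
theorem const_of_coeff {T : H → ℂ} (m : IrrCharacter H → ℕ) (hT : T = ∑ φ : IrrCharacter H, (m φ : ℂ) • φ.1)
    {n : H} (hn : T n = T 1) (φ : IrrCharacter H) (hm : m φ ≠ 0) : φ.1 n = φ.1 1 := by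
  classical
  have hdeg : ∀ ψ : IrrCharacter H, ψ.1 1 = ((dim ψ : ℝ) : ℂ) := fun ψ => by
    rw [val_one]; simp
  have h1 : ∑ ψ : IrrCharacter H, (m ψ : ℝ) * ((dim ψ : ℝ) - (ψ.1 n).re) = 0 := by
    have h2 : T n = ∑ ψ : IrrCharacter H, (m ψ : ℂ) * ψ.1 n := by
      rw [hT]; simp [Finset.sum_apply]
    have h3 : T 1 = ∑ ψ : IrrCharacter H, (m ψ : ℂ) * ψ.1 1 := by
      rw [hT]; simp [Finset.sum_apply]
    rw [h2, h3] at hn
    have h4 := congrArg Complex.re hn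
    simp only [Complex.re_sum, Complex.mul_re, Complex.natCast_re, Complex.natCast_im, zero_mul, sub_zero] at h4
    simp only [mul_sub, Finset.sum_sub_distrib]
    rw [h4]
    have h5 : ∀ ψ : IrrCharacter H, (ψ.1 1).re = (dim ψ : ℝ) := fun ψ => by
      rw [hdeg]; simp
    simp [h5]
  have hnn : ∀ ψ ∈ (Finset.univ : Finset (IrrCharacter H)), 0 ≤ (m ψ : ℝ) * ((dim ψ : ℝ) - (ψ.1 n).re) := by
    intro ψ _
    apply mul_nonneg (Nat.cast_nonneg _)
    have h2 := IsCharacter.norm_le (IsIrrCharacter.isCharacter ψ.2) n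
    have h3 : ‖ψ.1 1‖ = (dim ψ : ℝ) := by
      rw [hdeg, Complex.norm_real]; simp
    have h4 := Complex.re_le_norm (ψ.1 n)
    linarith
  have h2 := (Finset.sum_eq_zero_iff_of_nonneg hnn).mp h1 φ (Finset.mem_univ _)
  have h3 : (dim φ : ℝ) - (φ.1 n).re = 0 :=
    (mul_eq_zero.mp h2).resolve_left (Nat.cast_ne_zero.mpr hm)
  have h4 := IsCharacter.norm_le (IsIrrCharacter.isCharacter φ.2) n
  have h5 : ‖φ.1 1‖ = (dim φ : ℝ) := by
    rw [hdeg, Complex.norm_real]; simp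
  rw [hdeg]
  exact CharClifford.eq_of_norm_le_of_re_eq (by rw [← h5]; exact h4) (by linarith)

theorem exists_elem {s : H} (htop : N ⊔ Subgroup.zpowers s = ⊤) (x : H) :
    ∃ n ∈ N, ∃ k : ℕ, x = n * s ^ k := by
  have hx : x ∈ N ⊔ Subgroup.zpowers s := by rw [htop]; trivial
  obtain ⟨n, hn, z, hz, rfl⟩ := Subgroup.mem_sup_of_normal_left.mp hx
  obtain ⟨k, rfl⟩ := (mem_powers_iff_mem_zpowers.mpr hz)
  exact ⟨n, hn, k, rfl⟩

/-- Non-vanishing on the generating coset forces irreducible restriction. -/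
theorem irr_of_coset_ne {s : H} (htop : N ⊔ Subgroup.zpowers s = ⊤) (ψ : IrrCharacter H) {n₀ : H} (hn₀ : n₀ ∈ N)
    (h0 : ψ.1 (n₀ * s) ≠ 0) : classInner (fun n : N => ψ.1 n) (fun n : N => ψ.1 n) = 1 := by
  classical
  have hψc := IsIrrCharacter.isCharacter ψ.2
  have hT := Tf_isChar N hψc hψc
  obtain ⟨m, hm⟩ := IsCharacter.exists_nat_coeff hT
  have hcomm : ∀ a b : H ⧸ N, a * b = b * a := by
    intro a b
    obtain ⟨a, rfl⟩ := QuotientGroup.mk_surjective a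
    obtain ⟨b, rfl⟩ := QuotientGroup.mk_surjective b
    obtain ⟨n, hn, k, rfl⟩ := exists_elem N htop a
    obtain ⟨n', hn', k', rfl⟩ := exists_elem N htop b
    have hq : ∀ (t : H), t ∈ N → (t : H ⧸ N) = 1 := fun t ht => (QuotientGroup.eq_one_iff t).mpr ht
    simp only [QuotientGroup.mk_mul, QuotientGroup.mk_pow, hq n hn, hq n' hn', one_mul]
    rw [← pow_add, ← pow_add, add_comm]
  have hTn : ∀ n ∈ N, Tf N ψ.1 ψ.1 n = Tf N ψ.1 ψ.1 1 := fun n hn => by
    have := Tf_mul N ψ.1 ψ.1 hn 1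
    rwa [mul_one] at this
  have hker : ∀ φ : IrrCharacter H, m φ ≠ 0 → ∀ n ∈ N, φ.1 n = φ.1 1 :=
    fun φ hφ n hn => const_of_coeff m hm (hTn n hn) φ hφ
  have hinner : ∀ φ : IrrCharacter H, ∀ lam : H →* ℂˣ, (∀ x, φ.1 x = lam x) → (∀ n ∈ N, lam n = 1) →
      classInner (Tf N ψ.1 ψ.1) φ.1 = classInner ψ.1 (fun x => ψ.1 x * (lam x : ℂ)) := by
    intro φ lam hφ hlam
    have hN0 : (Nat.card N : ℂ) ≠ 0 := Nat.cast_ne_zero.mpr Nat.card_pos.ne'
    obtain ⟨G', hG'⟩ : ∃ G' : H → ℂ, G' = fun y => ψ.1 y * conj (ψ.1 y * (lam y : ℂ)) := ⟨_, rfl⟩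
    have h1 : ∀ x, Tf N ψ.1 ψ.1 x * conj (φ.1 x) = (Nat.card N : ℂ)⁻¹ * ∑ n : N, G' (n * x) := by
      intro x
      simp only [Tf, BlockPair.projN]
      rw [mul_assoc, Finset.sum_mul]
      congr 1
      refine Finset.sum_congr rfl fun n _ => ?_
      rw [hG', hφ]
      have hl : (lam ((n : H) * x) : ℂ) = lam x := by
        rw [map_mul, hlam _ n.2, one_mul]
      change _ = ψ.1 ((n : H) * x) * conj (ψ.1 ((n : H) * x) * (lam ((n : H) * x) : ℂ))
      rw [hl, map_mul]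
      ring
    simp only [classInner]
    congr 1
    simp_rw [h1]
    rw [← Finset.mul_sum, Finset.sum_comm]
    have h2 : ∀ n : N, ∑ x : H, G' (n * x) = ∑ x : H, G' x := fun n =>
      Fintype.sum_equiv (Equiv.mulLeft (n : H)) _ _ fun x => rfl
    simp_rw [h2]
    rw [Finset.sum_const, Finset.card_univ, nsmul_eq_mul, ← Nat.card_eq_fintype_card, ← mul_assoc,
      inv_mul_cancel₀ hN0, one_mul, hG']
  have hGen : ∀ φ : IrrCharacter H, m φ ≠ 0 → φ = BlockMain4.oneIrr H := by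
    intro φ hφ
    obtain ⟨ξ, hξ⟩ := BlockNorm.exists_deflate N φ (hker φ hφ)
    have h1 : φ.1 1 = 1 := by
      have h2 := congrFun hξ 1
      rw [h2]
      change ξ.1 ((1 : H) : H ⧸ N) = 1
      exact CharLin.irr_degree_one_of_comm (χ := ξ.1) ξ.2 hcomm
    obtain ⟨lam, hlam⟩ := CharLin.exists_hom_of_linear (IsIrrCharacter.isCharacter φ.2) h1
    have hφl : ∀ x, φ.1 x = lam x := fun x => congrFun hlam x
    have hlamN : ∀ n ∈ N, lam n = 1 := by
      intro n hn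
      apply Units.ext
      rw [← hφl, hker φ hφ n hn, h1, Units.val_one]
    let ψ' : IrrCharacter H := ⟨fun x => ψ.1 x * (lam x : ℂ), CharAbQ.twist_isIrr ψ.2 lam⟩
    have h2 := hinner φ lam hφl hlamN
    have h3 : classInner (Tf N ψ.1 ψ.1) φ.1 = (m φ : ℂ) := by
      rw [hm]
      exact classInner_sum_irr (fun φ => (m φ : ℂ)) φ
    have h4 : classInner ψ.1 ψ'.1 ≠ 0 := by
      change classInner ψ.1 (fun x => ψ.1 x * (lam x : ℂ)) ≠ 0
      rw [← h2, h3]
      exact Nat.cast_ne_zero.mpr hφ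
    rw [IrrBasic.classInner_irr] at h4
    have h5 : ψ = ψ' := by
      by_contra hne
      exact h4 (if_neg hne)
    have h6 : ∀ x, ψ.1 x = ψ.1 x * (lam x : ℂ) := fun x => congrFun (congrArg Subtype.val h5) x
    have h7 : (lam (n₀ * s) : ℂ) = 1 := by
      have := h6 (n₀ * s)
      exact (mul_right_eq_self₀.mp this.symm).resolve_right h0
    have h8 : (lam s : ℂ) = 1 := by
      rw [map_mul, hlamN n₀ hn₀, one_mul] at h7
      exact h7
    have h9 : lam s = 1 := Units.ext h8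
    apply Subtype.ext
    funext x
    obtain ⟨n, hn, k, rfl⟩ := exists_elem N htop x
    rw [hφl]
    simp [hlamN n hn, h9, BlockMain4.oneIrr]
  have hOne : m (BlockMain4.oneIrr H) = 1 := by
    have h2 := hinner (BlockMain4.oneIrr H) 1 (fun x => by simp [BlockMain4.oneIrr]) (fun n hn => rfl)
    have h3 : classInner (Tf N ψ.1 ψ.1) (BlockMain4.oneIrr H).1 = (m (BlockMain4.oneIrr H) : ℂ) := by
      rw [hm]
      exact classInner_sum_irr (fun φ => (m φ : ℂ)) _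
    rw [h3] at h2
    have h4 : classInner ψ.1 (fun x => ψ.1 x * (((1 : H →* ℂˣ) x : ℂˣ) : ℂ)) = 1 := by
      have h5 : (fun x => ψ.1 x * (((1 : H →* ℂˣ) x : ℂˣ) : ℂ)) = ψ.1 := by
        funext x; simp
      rw [h5, IrrBasic.classInner_irr, if_pos rfl]
    rw [h4] at h2
    exact_mod_cast h2
  rw [← Tf_one]
  have h2 : Tf N ψ.1 ψ.1 1 = ∑ φ : IrrCharacter H, (m φ : ℂ) * φ.1 1 := by
    rw [hm]; simp [Finset.sum_apply]
  rw [h2, Finset.sum_eq_single (BlockMain4.oneIrr H)]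
  · rw [hOne]; simp [BlockMain4.oneIrr]
  · intro φ _ hφ
    have : m φ = 0 := by
      by_contra h
      exact hφ (hGen φ h)
    simp [this]
  · simp

end Char

section Rho
variable {H : Type u} [Group H] [Fintype H] (N : Subgroup H) [hN : N.Normal] [Fintype N]
  (C : Subgroup H) [Fintype C]

theorem inner_u {s : H} (hcop : Nat.Coprime (Nat.card N) (orderOf s)) (hC : ∀ x, x ∈ C ↔ x ∈ N ∧ x * s = s * x)
    (ψ ψ' : IrrCharacter H) :
    classInner (fun c : C => ψ.1 (c * s)) (fun c : C => ψ'.1 (c * s)) =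
      (Nat.card N : ℂ)⁻¹ * ∑ n : N, ψ.1 (n * s) * conj (ψ'.1 (n * s)) := by
  have h1 := sum_coset N C (fun g hg => hN.conj_mem g hg s) hcop hC (fun x => ψ.1 x * conj (ψ'.1 x))
    (fun g _ x => by simp only [IrrBasic.val_conj])
  have hN0 : (Nat.card N : ℂ) ≠ 0 := Nat.cast_ne_zero.mpr Nat.card_pos.ne'
  have hC0 : (Nat.card C : ℂ) ≠ 0 := Nat.cast_ne_zero.mpr Nat.card_pos.ne'
  simp only [classInner]
  field_simp
  linear_combination -h1

/-- The multiplicity function. -/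
noncomputable def rho (ψ : H → ℂ) (β : C → ℂ) (x : H) : ℂ :=
  classInner (fun c : C => ψ (c * x)) β

theorem isClass_u (ψ : IrrCharacter H) {x : H} (hcomm : ∀ c ∈ C, c * x = x * c) :
    IsClassFunction C (fun c : C => ψ.1 (c * x)) := by
  intro g h
  have h1 : (h * g * h⁻¹ : C) * x = (h : H) * (g * x) * (h : H)⁻¹ := by
    have := hcomm _ h⁻¹.2
    calc ((h * g * h⁻¹ : C) : H) * x = h * g * ((h⁻¹ : C) * x) := by push_cast; group
      _ = h * g * (x * (h⁻¹ : C)) := by rw [this]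
      _ = (h : H) * (g * x) * (h : H)⁻¹ := by push_cast; group
  simp only [h1, IrrBasic.val_conj]

theorem isCharacter_rho (S : Subgroup H) [Fintype S] (hScomm : ∀ a b : S, a * b = b * a)
    (hcomm : ∀ c ∈ C, ∀ x ∈ S, c * x = x * c) (ψ : IrrCharacter H) (β : IrrCharacter C) :
    IsCharacter S (fun x : S => rho C ψ.1 β.1 x) := by
  classical
  rw [isCharacter_iff]
  refine ⟨fun g h => ?_, fun φ hφ => ?_⟩
  · have : h * g * h⁻¹ = g := by rw [hScomm h g]; group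
    simp only [this]
  let μ : C × S →* H :=
    { toFun := fun q => q.1 * q.2
      map_one' := by simp
      map_mul' := fun a b => by
        have := hcomm _ b.1.2 _ a.2.2
        simp only [Prod.fst_mul, Prod.snd_mul, Subgroup.coe_mul]
        calc (a.1 : H) * b.1 * (a.2 * b.2) = a.1 * ((b.1 : H) * a.2) * b.2 := by group
          _ = a.1 * ((a.2 : H) * b.1) * b.2 := by rw [this]
          _ = (a.1 : H) * a.2 * (b.1 * b.2) := by group }
  have hf : IsCharacter (C × S) (ψ.1 ∘ μ) := IsCharacter.comp (IsIrrCharacter.isCharacter ψ.2) μ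
  have hg : IsCharacter (C × S) ((β.1 ∘ (MonoidHom.fst C S)) * (φ ∘ (MonoidHom.snd C S))) :=
    IsCharacter.mul (IsCharacter.comp (IsIrrCharacter.isCharacter β.2) _)
      (IsCharacter.comp (IsIrrCharacter.isCharacter hφ) _)
  obtain ⟨n, hn⟩ := IsCharacter.classInner_nat hf hg
  refine ⟨n, ?_⟩
  rw [← hn]
  simp only [classInner, rho, Nat.card_prod, Fintype.sum_prod_type, Function.comp_apply, Pi.mul_apply,
    MonoidHom.coe_fst, MonoidHom.coe_snd, map_mul]
  have hC0 : (Nat.card C : ℂ) ≠ 0 := Nat.cast_ne_zero.mpr Nat.card_pos.ne'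
  have hS0 : (Nat.card S : ℂ) ≠ 0 := Nat.cast_ne_zero.mpr Nat.card_pos.ne'
  push_cast
  rw [Finset.sum_comm, mul_inv]
  simp only [Finset.sum_mul, Finset.mul_sum]
  refine Finset.sum_congr rfl fun x _ => Finset.sum_congr rfl fun c _ => ?_
  change _ = _ * (ψ.1 ((c : H) * x) * _)
  ring

theorem unique_rho {s : H} (hcop : Nat.Coprime (Nat.card N) (orderOf s))
    (hC : ∀ x, x ∈ C ↔ x ∈ N ∧ x * s = s * x) (ψ : IrrCharacter H)
    (hψ : classInner (fun n : N => ψ.1 n) (fun n : N => ψ.1 n) = 1) :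
    ∃ β : IrrCharacter C, rho C ψ.1 β.1 s ≠ 0 ∧ (∀ β' : IrrCharacter C, rho C ψ.1 β'.1 s ≠ 0 → β' = β) ∧
      rho C ψ.1 β.1 s * conj (rho C ψ.1 β.1 s) = 1 := by
  classical
  haveI : Fintype (Subgroup.zpowers s) := Fintype.ofFinite _
  obtain ⟨S, hS⟩ : ∃ S : Subgroup H, S = Subgroup.zpowers s := ⟨_, rfl⟩
  haveI : Fintype S := Fintype.ofFinite _
  have hsS : s ∈ S := hS ▸ Subgroup.mem_zpowers s
  have hScomm : ∀ a b : S, a * b = b * a := by
    rintro ⟨a, ha⟩ ⟨b, hb⟩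
    rw [hS] at ha hb
    obtain ⟨i, rfl⟩ := Subgroup.mem_zpowers_iff.mp ha
    obtain ⟨j, rfl⟩ := Subgroup.mem_zpowers_iff.mp hb
    apply Subtype.ext
    change s ^ i * s ^ j = s ^ j * s ^ i
    rw [← zpow_add, ← zpow_add, add_comm]
  have hcommS : ∀ c ∈ C, ∀ x ∈ S, c * x = x * c := by
    intro c hc x hx
    rw [hS] at hx
    obtain ⟨i, rfl⟩ := Subgroup.mem_zpowers_iff.mp hx
    have h1 : Commute c s := ((hC c).mp hc).2
    exact (h1.zpow_right i).eq
  have hSc : Nat.card S = orderOf s := by rw [hS, Nat.card_zpowers]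
  let T : Finset S := Finset.univ.filter (fun x => orderOf x = Nat.card S)
  have hTst : ∀ g ∈ T, ∀ m : ℕ, m.Coprime (Nat.card S) → g ^ m ∈ T := by
    intro g hg m hm
    have hg' : orderOf g = Nat.card S := (Finset.mem_filter.mp hg).2
    refine Finset.mem_filter.mpr ⟨Finset.mem_univ _, ?_⟩
    rw [Nat.Coprime.orderOf_pow (by rw [hg']; exact hm.symm), hg']
  have hsT : (⟨s, hsS⟩ : S) ∈ T := by
    refine Finset.mem_filter.mpr ⟨Finset.mem_univ _, ?_⟩
    rw [hSc, Subgroup.orderOf_mk]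
  -- Parseval on each generator
  have hPars : ∀ x ∈ T, ∑ β : IrrCharacter C, ‖rho C ψ.1 β.1 (x : H)‖ ^ 2 = 1 := by
    intro x hx
    have hx' : orderOf x = Nat.card S := (Finset.mem_filter.mp hx).2
    have hxo : orderOf (x : H) = orderOf s := by
      rw [← hSc, ← hx', Subgroup.orderOf_coe]
    have hgen : s ∈ Subgroup.zpowers (x : H) := by
      have h1 : Subgroup.zpowers (x : H) ≤ S := by
        rw [Subgroup.zpowers_le]; exact x.2
      have h2 : Nat.card (Subgroup.zpowers (x : H)) = Nat.card S := by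
        rw [Nat.card_zpowers, hxo, hSc]
      have h3 : Subgroup.zpowers (x : H) = S :=
        Subgroup.eq_of_le_of_card_ge h1 h2.ge
      rw [h3]; exact hsS
    have hCx : ∀ y, y ∈ C ↔ y ∈ N ∧ y * x = x * y := by
      intro y
      rw [hC y]
      refine and_congr_right fun _ => ⟨fun h => ?_, fun h => ?_⟩
      · have h1 : Commute y s := h
        have hx2 : (x : H) ∈ Subgroup.zpowers s := hS ▸ x.2
        obtain ⟨i, hi⟩ := Subgroup.mem_zpowers_iff.mp hx2
        rw [← hi]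
        exact (h1.zpow_right i).eq
      · have h1 : Commute y (x : H) := h
        obtain ⟨i, hi⟩ := Subgroup.mem_zpowers_iff.mp hgen
        rw [← hi]
        exact (h1.zpow_right i).eq
    have hcopx : Nat.Coprime (Nat.card N) (orderOf (x : H)) := by rw [hxo]; exact hcop
    have h1 := inner_u N C hcopx hCx ψ ψ
    rw [coset_orth_one N (IsIrrCharacter.isCharacter ψ.2) hψ, inv_mul_cancel₀
      (Nat.cast_ne_zero.mpr Nat.card_pos.ne')] at h1
    have h2 := BlockSec.parseval (fun c : C => ψ.1 (c * (x : H))) (fun c : C => ψ.1 (c * (x : H))) (isClass_u C ψ (fun c hc => hcommS c hc _ x.2))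
    rw [h1] at h2
    have h3 : ((∑ β : IrrCharacter C, ‖rho C ψ.1 β.1 (x : H)‖ ^ 2 : ℝ) : ℂ) = ((1 : ℝ) : ℂ) := by
      push_cast
      rw [← Complex.ofReal_one, Complex.ofReal_one, ← h2]
      refine Finset.sum_congr rfl fun β _ => ?_
      rw [Complex.mul_conj, Complex.normSq_eq_norm_sq]
      push_cast
      rfl
    exact_mod_cast h3
  -- AM-GM
  have hAM : ∀ β : IrrCharacter C, ((T.filter (fun x : S => rho C ψ.1 β.1 (x : H) ≠ 0)).card : ℝ) ≤
      ∑ x ∈ T, ‖rho C ψ.1 β.1 (x : H)‖ ^ 2 := fun β =>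
    BlockPair.am_gm_subset (isCharacter_rho C S hScomm hcommS ψ β) 2 (by norm_num) T hTst
  let a : S → ℕ := fun x => (Finset.univ.filter (fun β : IrrCharacter C => rho C ψ.1 β.1 (x : H) ≠ 0)).card
  have hsum : ∑ x ∈ T, a x ≤ ∑ x ∈ T, 1 := by
    have h1 : ((∑ x ∈ T, a x : ℕ) : ℝ) ≤ (T.card : ℝ) := by
      have h2 : ∑ x ∈ T, a x = ∑ β : IrrCharacter C, (T.filter (fun x : S => rho C ψ.1 β.1 (x : H) ≠ 0)).card := by
        simp only [a, Finset.card_filter]
        rw [Finset.sum_comm]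
      rw [h2]
      push_cast
      calc ∑ β : IrrCharacter C, ((T.filter (fun x : S => rho C ψ.1 β.1 (x : H) ≠ 0)).card : ℝ)
          ≤ ∑ β : IrrCharacter C, ∑ x ∈ T, ‖rho C ψ.1 β.1 (x : H)‖ ^ 2 := Finset.sum_le_sum fun β _ => hAM β
        _ = ∑ x ∈ T, ∑ β : IrrCharacter C, ‖rho C ψ.1 β.1 (x : H)‖ ^ 2 := Finset.sum_comm
        _ = ∑ x ∈ T, (1 : ℝ) := Finset.sum_congr rfl fun x hx => hPars x hx
        _ = (T.card : ℝ) := by simp
    have h3 : ∑ x ∈ T, a x ≤ T.card := by exact_mod_cast h1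
    simpa using h3
  have hge : ∀ x ∈ T, 1 ≤ a x := by
    intro x hx
    by_contra h
    have h0 : a x = 0 := by omega
    have h1 := Finset.card_eq_zero.mp h0
    have h2 := hPars x hx
    rw [Finset.sum_eq_zero] at h2
    · exact zero_ne_one h2
    · intro β _
      have : rho C ψ.1 β.1 (x : H) = 0 := by
        by_contra hne
        have : β ∈ Finset.univ.filter (fun β : IrrCharacter C => rho C ψ.1 β.1 (x : H) ≠ 0) :=
          Finset.mem_filter.mpr ⟨Finset.mem_univ _, hne⟩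
        rw [h1] at this
        simp at this
      rw [this]; simp
  have heq : ∀ x ∈ T, 1 = a x :=
    (Finset.sum_eq_sum_iff_of_le hge).mp (le_antisymm (Finset.sum_le_sum hge) hsum)
  obtain ⟨β, hβ⟩ := Finset.card_eq_one.mp (heq _ hsT).symm
  have hmem : ∀ β' : IrrCharacter C, rho C ψ.1 β'.1 s ≠ 0 ↔ β' = β := by
    intro β'
    have : β' ∈ Finset.univ.filter (fun β : IrrCharacter C => rho C ψ.1 β.1 (s : H) ≠ 0) ↔ β' ∈ ({β} : Finset _) := by
      exact Finset.ext_iff.mp hβ β'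
    simpa using this
  refine ⟨β, (hmem β).mpr rfl, fun β' h => (hmem β').mp h, ?_⟩
  have h5 := hPars _ hsT
  rw [Finset.sum_eq_single β] at h5
  · rw [Complex.mul_conj, Complex.normSq_eq_norm_sq]
    have h6 : ‖rho C ψ.1 β.1 s‖ ^ 2 = 1 := h5
    rw [h6]; simp
  · intro b _ hb
    have : rho C ψ.1 b.1 s = 0 := by
      by_contra hne
      exact hb ((hmem b).mp hne)
    change ‖rho C ψ.1 b.1 s‖ ^ 2 = 0
    rw [this]; simp
  · simp

end Rho

section Corr
variable (p : ℕ) {A B : Type u} [Group A] [Group B] [Fintype A] [Fintype B]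

/-- `β` occurs in the restriction of `χ` with multiplicity prime to `p`. -/
def Rel (i : B →* A) (χ : IrrCharacter A) (β : IrrCharacter B) : Prop :=
  ∃ m : ℕ, classInner (fun c => χ.1 (i c)) β.1 = m ∧ ¬ p ∣ m

/-- The correspondence package. -/
structure Corr (i : B →* A) (X : Set (IrrCharacter A)) : Prop where
  exU : ∀ χ ∈ X, ∃! β, Rel p i χ β
  sign : ∀ χ ∈ X, ∀ β : IrrCharacter B, ∀ m : ℕ, classInner (fun c => χ.1 (i c)) β.1 = m → ¬ p ∣ m →
    ((m : ℤ) ≡ 1 [ZMOD p] ∨ (m : ℤ) ≡ -1 [ZMOD p])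
  inj : ∀ χ ∈ X, ∀ χ' ∈ X, ∀ β, Rel p i χ β → Rel p i χ' β → χ = χ'
  surj : ∀ β, ∃ χ ∈ X, Rel p i χ β

end Corr

section Base
variable {H : Type u} [Group H] [Fintype H] (N : Subgroup H) [hN : N.Normal] [Fintype N]
  (C : Subgroup H) [Fintype C]

theorem rho_conj (ψ : IrrCharacter H) (β : IrrCharacter C) {x : H} (hcomm : ∀ c ∈ C, c * x = x * c) :
    conj (rho C ψ.1 β.1 x) = rho C ψ.1 β.1 x⁻¹ := by
  simp only [rho, classInner, map_mul, map_inv₀, Complex.conj_natCast, map_sum, Complex.conj_conj]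
  congr 1
  refine Fintype.sum_equiv (Equiv.inv C) _ _ fun c => ?_
  simp only [Equiv.inv_apply, Subgroup.coe_inv]
  rw [← IrrBasic.val_inv, ← IrrBasic.val_inv]
  have h1 : ((c : H) * x)⁻¹ = (c : H)⁻¹ * x⁻¹ := by
    have := hcomm c c.2
    rw [mul_inv_rev]
    have h2 : Commute (c : H) x := this
    exact (h2.inv_inv).eq.symm
  rw [h1, inv_inv]

variable {M : Ideal AlgInt} {p : ℕ}

theorem rho_congr (hM : IsPModular p M) (ψ : IrrCharacter H) (β : IrrCharacter C) {x : H} {j : ℕ}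
    (hx : orderOf x = p ^ j) (hcomm : ∀ c ∈ C, c * x = x * c) (hC : ¬ p ∣ Nat.card C) :
    MemLocalIdeal M (rho C ψ.1 β.1 x - rho C ψ.1 β.1 1) := by
  classical
  haveI : M.IsPrime := hM.2.1.isPrime
  have h1 : rho C ψ.1 β.1 x - rho C ψ.1 β.1 1 =
      (Nat.card C : ℂ)⁻¹ * ∑ c : C, (ψ.1 (c * x) - ψ.1 c) * conj (β.1 c) := by
    simp only [rho, classInner, mul_one]
    rw [← mul_sub, ← Finset.sum_sub_distrib]
    congr 1
    refine Finset.sum_congr rfl fun c _ => by ring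
  rw [h1]
  refine LocRing.memLocalIdeal_mul_left (BlockMain2.memLocalRing_natCast_inv hM hC) ?_
  refine BlockOku.memLocalIdeal_finset_sum _ _ fun c _ => ?_
  refine LocRing.memLocalIdeal_mul_right ?_ (LocRing.mem_locRing_of_isIntegral ?_)
  · have h2 : Commute x (c : H) := (hcomm c c.2).symm
    have h3 := BlockMain3.val_mul_congr hM ψ hx h2
    rwa [h2.eq] at h3
  · exact BlockMain3.isIntegral_conj' (IsCharacter.isIntegral (IsIrrCharacter.isCharacter β.2) c)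

theorem main_rel (hM : IsPModular p M) [hpf : Fact p.Prime] {s : H} {k : ℕ} (hs : orderOf s = p ^ k)
    (hNp : ¬ p ∣ Nat.card N) (hCN : C ≤ N) (hC : ∀ x, x ∈ C ↔ x ∈ N ∧ x * s = s * x)
    (ψ : IrrCharacter H)
    (hψ : classInner (fun n : N => ψ.1 n) (fun n : N => ψ.1 n) = 1) :
    ∃ β₀ : IrrCharacter C, rho C ψ.1 β₀.1 s ≠ 0 ∧ (∀ β, rho C ψ.1 β.1 s ≠ 0 → β = β₀) ∧
      (∀ β, β ≠ β₀ → ∀ m : ℕ, rho C ψ.1 β.1 1 = m → p ∣ m) ∧
      (∀ m : ℕ, rho C ψ.1 β₀.1 1 = m → ¬ p ∣ m ∧ ((m : ℤ) ≡ 1 [ZMOD p] ∨ (m : ℤ) ≡ -1 [ZMOD p])) := by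
  classical
  haveI : M.IsPrime := hM.2.1.isPrime
  have hcop : Nat.Coprime (Nat.card N) (orderOf s) := by
    rw [hs]
    exact Nat.Coprime.pow_right _ ((Nat.Prime.coprime_iff_not_dvd hM.1).mpr hNp).symm
  have hCp : ¬ p ∣ Nat.card C := fun h => hNp (h.trans (Subgroup.card_dvd_of_le hCN))
  obtain ⟨β₀, h1, h2, h3⟩ := unique_rho N C hcop hC ψ hψ
  have hcomm : ∀ c ∈ C, c * s = s * c := fun c hc => ((hC c).mp hc).2
  have hcomm' : ∀ c ∈ C, c * s⁻¹ = s⁻¹ * c := fun c hc => by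
    have h4 : Commute c s := hcomm c hc
    exact h4.inv_right.eq
  refine ⟨β₀, h1, h2, ?_, ?_⟩
  · intro β hβ m hm
    have h4 : rho C ψ.1 β.1 s = 0 := by
      by_contra hne
      exact hβ (h2 β hne)
    have h5 := rho_congr C (M := M) hM ψ β hs hcomm hCp
    rw [h4, hm, zero_sub] at h5
    have h6 := LocRing.memLocalIdeal_neg h5
    rw [neg_neg] at h6
    by_contra hnd
    exact BlockPair.natCast_notMem_locIdeal hM hnd h6
  · intro m hm
    have h4 := rho_congr C (M := M) hM ψ β₀ hs hcomm hCp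
    have h5 := rho_congr C (M := M) hM ψ β₀ (x := s⁻¹) (by rw [orderOf_inv]; exact hs) hcomm' hCp
    rw [← rho_conj C ψ β₀ hcomm] at h5
    rw [hm] at h4 h5
    obtain ⟨ρ, hρ⟩ : ∃ ρ, ρ = rho C ψ.1 β₀.1 s := ⟨_, rfl⟩
    rw [← hρ] at h3 h4 h5
    have hρR : MemLocalRing M ρ := by
      have h6 := LocRing.memLocalRing_of_memLocalIdeal h4
      have h7 : ρ = (ρ - m) + m := by ring
      rw [h7]
      exact (LocRing.locRing M).add_mem h6 (LocRing.natCast_mem_locRing m)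
    have h6 : MemLocalIdeal M ((m : ℂ) * m - 1) := by
      have h7 : (m : ℂ) * m - 1 = (ρ - m) * (-(m : ℂ)) + ρ * (-(conj ρ - m)) + (ρ * conj ρ - 1) := by ring
      rw [h7, h3, sub_self, add_zero]
      refine LocRing.memLocalIdeal_add ?_ ?_
      · exact LocRing.memLocalIdeal_mul_right h4 ((LocRing.locRing M).neg_mem (LocRing.natCast_mem_locRing m))
      · exact LocRing.memLocalIdeal_mul_left hρR (LocRing.memLocalIdeal_neg h5)
    have hone : ¬ MemLocalIdeal M (((1 : ℕ) : ℂ)) := BlockPair.natCast_notMem_locIdeal hM (by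
      intro h; exact hM.1.one_lt.ne' (Nat.dvd_one.mp h))
    have hm0 : m ≠ 0 := by
      rintro rfl
      apply hone
      have := LocRing.memLocalIdeal_neg h6
      simpa using this
    have hdvd : p ∣ m * m - 1 := by
      by_contra hnd
      apply BlockPair.natCast_notMem_locIdeal hM hnd
      have h7 : 1 ≤ m * m := Nat.mul_pos (Nat.pos_of_ne_zero hm0) (Nat.pos_of_ne_zero hm0)
      rw [Nat.cast_sub h7]
      push_cast
      exact h6
    have hm1 : 1 ≤ m := Nat.pos_of_ne_zero hm0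
    have hz : (p : ℤ) ∣ ((m : ℤ) - 1) * ((m : ℤ) + 1) := by
      have h7 : (((m * m - 1 : ℕ) : ℤ)) = ((m : ℤ) - 1) * ((m : ℤ) + 1) := by
        rw [Nat.cast_sub (Nat.mul_pos (Nat.pos_of_ne_zero hm0) (Nat.pos_of_ne_zero hm0))]
        push_cast
        ring
      rw [← h7]
      exact_mod_cast hdvd
    have hpz : Prime (p : ℤ) := Nat.prime_iff_prime_int.mp hM.1
    constructor
    · intro hpm
      have h7 : p ∣ m * m := hpm.trans (Dvd.intro _ rfl)
      have h8 : p ∣ 1 := by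
        have h9 := (Nat.dvd_sub h7 hdvd)
        have h10 : m * m - (m * m - 1) = 1 := by
          have : 1 ≤ m * m := Nat.mul_pos (Nat.pos_of_ne_zero hm0) (Nat.pos_of_ne_zero hm0)
          omega
        rwa [h10] at h9
      exact hM.1.one_lt.ne' (Nat.dvd_one.mp h8)
    · rcases hpz.dvd_or_dvd hz with h7 | h7
      · left
        exact (Int.modEq_iff_dvd.mpr (by
          have : (1 : ℤ) - (m : ℤ) = -((m : ℤ) - 1) := by ring
          rw [this]
          exact (dvd_neg).mpr h7))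
      · right
        exact (Int.modEq_iff_dvd.mpr (by
          have : (-1 : ℤ) - (m : ℤ) = -((m : ℤ) + 1) := by ring
          rw [this]
          exact (dvd_neg).mpr h7))

theorem exists_rho_ne {s : H} (hcop : Nat.Coprime (Nat.card N) (orderOf s))
    (hC : ∀ x, x ∈ C ↔ x ∈ N ∧ x * s = s * x) (hCN : C ≤ N) (β : IrrCharacter C) :
    ∃ ψ : IrrCharacter H, rho C ψ.1 β.1 s ≠ 0 := by
  classical
  by_contra hcon
  push Not at hcon
  have hC0 : (Nat.card C : ℂ) ≠ 0 := Nat.cast_ne_zero.mpr Nat.card_pos.ne'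
  have h1 : ∑ ψ : IrrCharacter H, ∑ c : C, ψ.1 (c * s) * conj (β.1 c) * conj (ψ.1 s) = 0 := by
    refine Finset.sum_eq_zero fun ψ _ => ?_
    rw [← Finset.sum_mul]
    have h2 := hcon ψ
    simp only [rho, classInner] at h2
    have h3 := (mul_eq_zero.mp h2).resolve_left (inv_ne_zero hC0)
    rw [h3, zero_mul]
  rw [Finset.sum_comm] at h1
  have hcj : ∀ c : C, IsConj ((c : H) * s) s ↔ c = 1 := by
    intro c
    constructor
    · intro h
      obtain ⟨x, hx⟩ := isConj_iff.mp h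
      have hcs := ((hC c).mp c.2)
      have h2 : x * ((c : H) * s) * x⁻¹ = 1 * s := by rw [hx, one_mul]
      have h3 := conj_fix_of_conj N s hcop hcs.1 N.one_mem hcs.2 (by simp) h2
      have h4 : x * (c : H) * x⁻¹ * (x * s * x⁻¹) = s := by
        calc x * (c : H) * x⁻¹ * (x * s * x⁻¹) = x * ((c : H) * s) * x⁻¹ := by group
          _ = s := hx
      rw [h3] at h4
      have h5 : x * (c : H) * x⁻¹ = 1 := mul_eq_right.mp h4
      have h6 : (c : H) = 1 := by
        have := congrArg (fun t => x⁻¹ * t * x) h5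
        simpa [mul_assoc] using this
      exact Subtype.ext h6
    · rintro rfl
      rw [OneMemClass.coe_one, one_mul]
  have h2 : ∀ c : C, ∑ ψ : IrrCharacter H, ψ.1 (c * s) * conj (β.1 c) * conj (ψ.1 s) =
      conj (β.1 c) * (if c = 1 then (Nat.card (Subgroup.centralizer ({s} : Set H)) : ℂ) else 0) := by
    intro c
    have h3 := IrrBasic.sum_irr_val_mul_conj ((c : H) * s) s
    by_cases hc : c = 1
    · subst hc
      simp only [if_true]
      have h4 := IrrBasic.sum_irr_val_mul_conj s s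
      rw [if_pos (IsConj.refl s)] at h4
      rw [← h4, Finset.mul_sum]
      refine Finset.sum_congr rfl fun ψ _ => ?_
      simp only [OneMemClass.coe_one, one_mul]
      ring
    · rw [if_neg hc, mul_zero]
      rw [if_neg (fun h => hc ((hcj c).mp h))] at h3
      have h4 : ∑ ψ : IrrCharacter H, ψ.1 (c * s) * conj (β.1 c) * conj (ψ.1 s) =
          conj (β.1 c) * ∑ ψ : IrrCharacter H, ψ.1 (c * s) * conj (ψ.1 s) := by
        rw [Finset.mul_sum]
        refine Finset.sum_congr rfl fun ψ _ => by ring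
      rw [h4, h3, mul_zero]
  simp_rw [h2] at h1
  rw [Finset.sum_eq_single (1 : C)] at h1
  · rw [if_pos rfl] at h1
    rcases mul_eq_zero.mp h1 with h3 | h3
    · have := IrrBasic.val_one_ne_zero β
      rw [map_eq_zero] at h3
      exact this (by simpa using h3)
    · exact (Nat.cast_ne_zero.mpr Nat.card_pos.ne') h3
  · intro c _ hc
    rw [if_neg hc, mul_zero]
  · simp

end Base

section BaseCorr
variable {H : Type u} [Group H] [Fintype H] (N : Subgroup H) [hN : N.Normal] [Fintype N]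
  (C : Subgroup H) [Fintype C]

theorem ext_exists {s : H} (htop : N ⊔ Subgroup.zpowers s = ⊤) (χ : IrrCharacter N)
    (hχ : ∀ n n' : N, (n' : H) = s * n * s⁻¹ → χ.1 n' = χ.1 n) :
    ∃ ψ : IrrCharacter H, ∀ n : N, ψ.1 n = χ.1 n := by
  classical
  have hinvk : ∀ k : ℕ, ∀ n : N, χ.1 ⟨s ^ k * n * (s ^ k)⁻¹, hN.conj_mem _ n.2 _⟩ = χ.1 n := by
    intro k
    induction k with
    | zero =>
      intro n
      refine congrArg χ.1 (Subtype.ext ?_)
      simp
    | succ k ih =>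
      intro n
      rw [← ih n]
      refine hχ ⟨s ^ k * n * (s ^ k)⁻¹, hN.conj_mem _ n.2 _⟩ _ ?_
      change s ^ (k + 1) * (n : H) * (s ^ (k + 1))⁻¹ = _
      rw [pow_succ']
      group
  have hinv : ∀ (g : H) (n : N), χ.1 ⟨g * n * g⁻¹, hN.conj_mem n n.2 g⟩ = χ.1 n := by
    intro g n
    obtain ⟨n₁, hn₁, k, rfl⟩ := exists_elem N htop g
    have h1 := hinvk k n
    rw [← h1]
    have h2 := IrrBasic.val_conj χ ⟨s ^ k * n * (s ^ k)⁻¹, hN.conj_mem _ n.2 _⟩ ⟨n₁, hn₁⟩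
    rw [← h2]
    refine congrArg χ.1 (Subtype.ext ?_)
    push_cast
    group
  have hcyc : IsCyclic (H ⧸ N) := by
    refine ⟨⟨(s : H ⧸ N), fun x => ?_⟩⟩
    obtain ⟨y, rfl⟩ := QuotientGroup.mk_surjective x
    obtain ⟨n, hn, k, rfl⟩ := exists_elem N htop y
    refine Subgroup.mem_zpowers_iff.mpr ⟨k, ?_⟩
    have hq : (n : H ⧸ N) = 1 := (QuotientGroup.eq_one_iff n).mpr hn
    simp [hq]
  obtain ⟨ψ, hψ, hext⟩ := CharExt.char_ext_of_cyclic N χ.2 hinv hcyc
  exact ⟨⟨ψ, hψ⟩, hext⟩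

theorem base_corr {p : ℕ} [hpf : Fact p.Prime] {s : H} {k : ℕ} (hs : orderOf s = p ^ k) (hNp : ¬ p ∣ Nat.card N)
    (htop : N ⊔ Subgroup.zpowers s = ⊤) (hCN : C ≤ N) (hC : ∀ x, x ∈ C ↔ x ∈ N ∧ x * s = s * x) :
    Corr p (Subgroup.inclusion hCN) {χ : IrrCharacter N | ∀ n n' : N, (n' : H) = s * n * s⁻¹ → χ.1 n' = χ.1 n} := by
  classical
  obtain ⟨M, hM⟩ := BlockMain2.exists_isPModular (hpf.out)
  have hcop : Nat.Coprime (Nat.card N) (orderOf s) := by
    rw [hs]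
    exact Nat.Coprime.pow_right _ ((Nat.Prime.coprime_iff_not_dvd hM.1).mpr hNp).symm
  have hres : ∀ (ψ : IrrCharacter H) (χ : IrrCharacter N), (∀ n : N, ψ.1 n = χ.1 n) →
      classInner (fun n : N => ψ.1 n) (fun n : N => ψ.1 n) = 1 := by
    intro ψ χ h
    simp_rw [h]
    exact classInner_irr_self χ.2
  have hrho1 : ∀ (ψ : IrrCharacter H) (χ : IrrCharacter N), (∀ n : N, ψ.1 n = χ.1 n) → ∀ β : IrrCharacter C,
      rho C ψ.1 β.1 1 = classInner (fun c : C => χ.1 (Subgroup.inclusion hCN c)) β.1 := by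
    intro ψ χ h β
    simp only [rho, mul_one]
    congr 1
    funext c
    exact h ⟨c, hCN c.2⟩
  have hnat : ∀ (χ : IrrCharacter N) (β : IrrCharacter C),
      ∃ m : ℕ, classInner (fun c : C => χ.1 (Subgroup.inclusion hCN c)) β.1 = m := fun χ β =>
    IsCharacter.classInner_irr_nat (IsCharacter.comp (IsIrrCharacter.isCharacter χ.2) (Subgroup.inclusion hCN)) β.2
  refine ⟨?_, ?_, ?_, ?_⟩
  · intro χ hχ
    obtain ⟨ψ, hψ⟩ := ext_exists N htop χ hχ
    obtain ⟨β₀, h1, h2, h3, h4⟩ := main_rel N C hM hs hNp hCN hC ψ (hres ψ χ hψ)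
    obtain ⟨m, hm⟩ := hnat χ β₀
    refine ⟨β₀, ⟨m, hm, (h4 m (by rw [hrho1 ψ χ hψ]; exact hm)).1⟩, ?_⟩
    rintro β ⟨m', hm', hnd⟩
    by_contra hne
    exact hnd (h3 β hne m' (by rw [hrho1 ψ χ hψ]; exact hm'))
  · intro χ hχ β m hm hnd
    obtain ⟨ψ, hψ⟩ := ext_exists N htop χ hχ
    obtain ⟨β₀, h1, h2, h3, h4⟩ := main_rel N C hM hs hNp hCN hC ψ (hres ψ χ hψ)
    by_cases hβ : β = β₀
    · subst hβ
      exact (h4 m (by rw [hrho1 ψ χ hψ]; exact hm)).2
    · exact absurd (h3 β hβ m (by rw [hrho1 ψ χ hψ]; exact hm)) hnd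
  · rintro χ hχ χ' hχ' β ⟨m, hm, hnd⟩ ⟨m', hm', hnd'⟩
    obtain ⟨ψ, hψ⟩ := ext_exists N htop χ hχ
    obtain ⟨ψ', hψ'⟩ := ext_exists N htop χ' hχ'
    obtain ⟨β₀, h1, h2, h3, h4⟩ := main_rel N C hM hs hNp hCN hC ψ (hres ψ χ hψ)
    obtain ⟨β₀', h1', h2', h3', h4'⟩ := main_rel N C hM hs hNp hCN hC ψ' (hres ψ' χ' hψ')
    have hb : β = β₀ := by
      by_contra hne
      exact hnd (h3 β hne m (by rw [hrho1 ψ χ hψ]; exact hm))
    have hb' : β = β₀' := by
      by_contra hne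
      exact hnd' (h3' β hne m' (by rw [hrho1 ψ' χ' hψ']; exact hm'))
    subst hb
    subst hb'
    by_contra hne
    have h0 : classInner (fun n : N => ψ.1 n) (fun n : N => ψ'.1 n) = 0 := by
      simp_rw [hψ, hψ']
      rw [IrrBasic.classInner_irr, if_neg hne]
    have h5 := coset_orth_zero N (IsIrrCharacter.isCharacter ψ.2) (IsIrrCharacter.isCharacter ψ'.2) h0 s
    have h6 := inner_u N C hcop hC ψ ψ'
    rw [h5, mul_zero] at h6
    have h7 := BlockSec.parseval (fun c : C => ψ.1 (c * s)) (fun c : C => ψ'.1 (c * s))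
      (isClass_u C ψ (fun c hc => ((hC c).mp hc).2))
    rw [h6, Finset.sum_eq_single β] at h7
    · exact mul_ne_zero h1 ((map_ne_zero _).mpr h1') h7
    · intro b _ hb
      have : classInner (fun c : C => ψ.1 (c * s)) b.1 = 0 := by
        by_contra hne2
        exact hb (h2 b hne2)
      rw [this, zero_mul]
    · simp
  · intro β
    obtain ⟨ψ, hψ⟩ := exists_rho_ne N C hcop hC hCN β
    have hex : ∃ c : C, ψ.1 (c * s) ≠ 0 := by
      by_contra hcon
      push Not at hcon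
      apply hψ
      simp [rho, classInner, hcon]
    obtain ⟨c, hc⟩ := hex
    have h1 := irr_of_coset_ne N htop ψ (hCN c.2) hc
    let χ : IrrCharacter N :=
      ⟨fun n => ψ.1 n, isIrrCharacter_of_norm_one (IsCharacter.res (IsIrrCharacter.isCharacter ψ.2) N) h1⟩
    have hχψ : ∀ n : N, ψ.1 n = χ.1 n := fun n => rfl
    refine ⟨χ, ?_, ?_⟩
    · intro n n' h
      change ψ.1 n' = ψ.1 n
      rw [h]
      exact IrrBasic.val_conj ψ _ s
    · obtain ⟨β₀, h2, h3, h4, h5⟩ := main_rel N C hM hs hNp hCN hC ψ h1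
      have hb := h3 β hψ
      subst hb
      obtain ⟨m, hm⟩ := hnat χ β
      exact ⟨m, hm, (h5 m (by rw [hrho1 ψ χ hχψ]; exact hm)).1⟩

end BaseCorr

section Transport
variable (p : ℕ) {A A' B B' : Type u} [Group A] [Group A'] [Group B] [Group B']
  [Fintype A] [Fintype A'] [Fintype B] [Fintype B']

/-- Pull back an irreducible character along an isomorphism. -/
def pullI (e : A' ≃* A) (χ : IrrCharacter A) : IrrCharacter A' :=
  ⟨χ.1 ∘ e, IsIrrCharacter.comp_surjective χ.2 e.toMonoidHom e.surjective⟩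

theorem pullI_apply (e : A' ≃* A) (χ : IrrCharacter A) (a : A') : (pullI e χ).1 a = χ.1 (e a) := rfl

theorem pullI_surj (e : A' ≃* A) : Function.Surjective (pullI e) := by
  intro χ'
  refine ⟨pullI e.symm χ', Subtype.ext ?_⟩
  funext a
  simp [pullI]

theorem pullI_inj (e : A' ≃* A) : Function.Injective (pullI e) := by
  intro χ χ' h
  apply Subtype.ext
  funext a
  have := congrFun (congrArg Subtype.val h) (e.symm a)
  simpa [pullI] using this

theorem inner_pull (eA : A' ≃* A) (eB : B' ≃* B) (i : B →* A) (i' : B' →* A') (hc : ∀ b, i (eB b) = eA (i' b))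
    (χ : IrrCharacter A) (β : IrrCharacter B) :
    classInner (fun c => (pullI eA χ).1 (i' c)) (pullI eB β).1 = classInner (fun c => χ.1 (i c)) β.1 := by
  have h1 : (fun c => (pullI eA χ).1 (i' c)) = (fun c => χ.1 (i c)) ∘ eB := by
    funext c
    simp only [pullI_apply, Function.comp_apply, hc]
  rw [h1]
  exact CharNormal.classInner_comp_equiv eB _ _

theorem rel_pull (eA : A' ≃* A) (eB : B' ≃* B) (i : B →* A) (i' : B' →* A') (hc : ∀ b, i (eB b) = eA (i' b))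
    (χ : IrrCharacter A) (β : IrrCharacter B) :
    Rel p i' (pullI eA χ) (pullI eB β) ↔ Rel p i χ β := by
  simp only [Rel, inner_pull eA eB i i' hc]

theorem Corr.transport (eA : A' ≃* A) (eB : B' ≃* B) (i : B →* A) (i' : B' →* A') (hc : ∀ b, i (eB b) = eA (i' b))
    (X : Set (IrrCharacter A)) (X' : Set (IrrCharacter A')) (hX : ∀ χ, pullI eA χ ∈ X' ↔ χ ∈ X)
    (h : Corr p i X) : Corr p i' X' := by
  refine ⟨?_, ?_, ?_, ?_⟩
  · intro χ' hχ'
    obtain ⟨χ, rfl⟩ := pullI_surj eA χ'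
    obtain ⟨β, hβ, hu⟩ := h.exU χ ((hX χ).mp hχ')
    refine ⟨pullI eB β, (rel_pull p eA eB i i' hc χ β).mpr hβ, fun β' hβ' => ?_⟩
    obtain ⟨β₁, rfl⟩ := pullI_surj eB β'
    rw [hu β₁ ((rel_pull p eA eB i i' hc χ β₁).mp hβ')]
  · intro χ' hχ' β' m hm hnd
    obtain ⟨χ, rfl⟩ := pullI_surj eA χ'
    obtain ⟨β, rfl⟩ := pullI_surj eB β'
    rw [inner_pull eA eB i i' hc] at hm
    exact h.sign χ ((hX χ).mp hχ') β m hm hnd
  · intro χ₁ h₁ χ₂ h₂ β' hr₁ hr₂
    obtain ⟨χ₁, rfl⟩ := pullI_surj eA χ₁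
    obtain ⟨χ₂, rfl⟩ := pullI_surj eA χ₂
    obtain ⟨β, rfl⟩ := pullI_surj eB β'
    rw [h.inj χ₁ ((hX χ₁).mp h₁) χ₂ ((hX χ₂).mp h₂) β ((rel_pull p eA eB i i' hc _ _).mp hr₁)
      ((rel_pull p eA eB i i' hc _ _).mp hr₂)]
  · intro β'
    obtain ⟨β, rfl⟩ := pullI_surj eB β'
    obtain ⟨χ, hχ, hr⟩ := h.surj β
    exact ⟨pullI eA χ, (hX χ).mpr hχ, (rel_pull p eA eB i i' hc _ _).mpr hr⟩

/-- The case of an isomorphism. -/
theorem Corr.of_bijective (i : B →* A) (hi : Function.Bijective i) (X : Set (IrrCharacter A)) (hX : ∀ χ, χ ∈ X)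
    (hp : p ≠ 1) : Corr p i X := by
  classical
  let e : B ≃* A := MulEquiv.ofBijective i hi
  have hinner : ∀ (χ : IrrCharacter A) (β : IrrCharacter B),
      classInner (fun c => χ.1 (i c)) β.1 = if pullI e χ = β then 1 else 0 := by
    intro χ β
    rw [← IrrBasic.classInner_irr]
    rfl
  have hrel : ∀ χ β, Rel p i χ β ↔ pullI e χ = β := by
    intro χ β
    constructor
    · rintro ⟨m, hm, hnd⟩
      by_contra hne
      rw [hinner, if_neg hne] at hm
      have : m = 0 := by exact_mod_cast hm.symm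
      exact hnd (this ▸ dvd_zero p)
    · intro h
      refine ⟨1, ?_, fun h1 => hp (Nat.dvd_one.mp h1)⟩
      rw [hinner, if_pos h]; simp
  refine ⟨?_, ?_, ?_, ?_⟩
  · intro χ _
    exact ⟨pullI e χ, (hrel _ _).mpr rfl, fun β h => ((hrel _ _).mp h).symm⟩
  · intro χ _ β m hm hnd
    by_cases h : pullI e χ = β
    · rw [hinner, if_pos h] at hm
      have : m = 1 := by exact_mod_cast hm.symm
      subst this
      left
      exact Int.ModEq.refl _
    · rw [hinner, if_neg h] at hm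
      have : m = 0 := by exact_mod_cast hm.symm
      exact absurd (this ▸ dvd_zero p) hnd
  · intro χ _ χ' _ β h1 h2
    apply pullI_inj e
    rw [(hrel _ _).mp h1, (hrel _ _).mp h2]
  · intro β
    obtain ⟨χ, rfl⟩ := pullI_surj e β
    exact ⟨χ, hX χ, (hrel _ _).mpr rfl⟩

end Transport

section Comp
variable (p : ℕ) {A A₁ B : Type u} [Group A] [Group A₁] [Group B] [Fintype A] [Fintype A₁] [Fintype B]

theorem inner_comp (i₁ : A₁ →* A) (i₂ : B →* A₁) (χ : IrrCharacter A) (β : IrrCharacter B) :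
    classInner (fun c => χ.1 (i₁ (i₂ c))) β.1 =
      ∑ b : IrrCharacter A₁, classInner (fun a => χ.1 (i₁ a)) b.1 * classInner (fun c => b.1 (i₂ c)) β.1 := by
  classical
  obtain ⟨m, hm⟩ := IsCharacter.exists_nat_coeff
    (IsCharacter.comp (IsIrrCharacter.isCharacter χ.2) i₁)
  have h1 : ∀ b : IrrCharacter A₁, classInner (fun a => χ.1 (i₁ a)) b.1 = (m b : ℂ) := by
    intro b
    have h2 : (fun a => χ.1 (i₁ a)) = χ.1 ∘ i₁ := rfl
    rw [h2, hm]
    exact classInner_sum_irr (fun φ => (m φ : ℂ)) b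
  simp_rw [h1]
  have h3 : ∀ a, χ.1 (i₁ a) = ∑ b : IrrCharacter A₁, (m b : ℂ) * b.1 a := by
    intro a
    have h4 := congrFun hm a
    simpa [Finset.sum_apply] using h4
  simp only [classInner, h3]
  simp only [Finset.sum_mul, Finset.mul_sum]
  rw [Finset.sum_comm]
  refine Finset.sum_congr rfl fun b _ => Finset.sum_congr rfl fun c _ => by ring

theorem Corr.comp [hpf : Fact p.Prime] {i₁ : A₁ →* A} {i₂ : B →* A₁} {X : Set (IrrCharacter A)} {Y : Set (IrrCharacter A₁)}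
    (h₁ : Corr p i₁ X) (h₂ : Corr p i₂ Y) :
    Corr p (i₁.comp i₂) {χ | χ ∈ X ∧ ∃ b ∈ Y, Rel p i₁ χ b} := by
  classical
  have hnat1 : ∀ (χ : IrrCharacter A) (b : IrrCharacter A₁), ∃ n : ℕ, classInner (fun a => χ.1 (i₁ a)) b.1 = n :=
    fun χ b => IsCharacter.classInner_irr_nat (IsCharacter.comp (IsIrrCharacter.isCharacter χ.2) i₁) b.2
  have hnat2 : ∀ (b : IrrCharacter A₁) (β : IrrCharacter B), ∃ k : ℕ, classInner (fun c => b.1 (i₂ c)) β.1 = k :=
    fun b β => IsCharacter.classInner_irr_nat (IsCharacter.comp (IsIrrCharacter.isCharacter b.2) i₂) β.2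
  -- the key decomposition
  have hkey : ∀ χ ∈ X, ∀ b₀, Rel p i₁ χ b₀ → ∀ (β : IrrCharacter B) (m : ℕ),
      classInner (fun c => χ.1 (i₁ (i₂ c))) β.1 = m → ∃ (n₀ k₀ r : ℕ),
        classInner (fun a => χ.1 (i₁ a)) b₀.1 = n₀ ∧ classInner (fun c => b₀.1 (i₂ c)) β.1 = k₀ ∧ ¬ p ∣ n₀ ∧
        m = n₀ * k₀ + p * r := by
    intro χ hχ b₀ hb₀ β m hm
    choose n hn using hnat1 χ
    choose k hk using fun b => hnat2 b β
    have h1 := inner_comp i₁ i₂ χ β
    rw [hm] at h1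
    simp_rw [hn, hk] at h1
    have h2 : m = ∑ b : IrrCharacter A₁, n b * k b := by exact_mod_cast h1
    obtain ⟨b₁, -, hu⟩ := h₁.exU χ hχ
    have hdvd : ∀ b ∈ Finset.univ.erase b₀, p ∣ n b * k b := by
      intro b hb
      have hne := Finset.ne_of_mem_erase hb
      have h3 : p ∣ n b := by
        by_contra hnd
        have hr : Rel p i₁ χ b := ⟨n b, hn b, hnd⟩
        exact hne ((hu b hr).trans (hu b₀ hb₀).symm)
      exact h3.trans (Dvd.intro _ rfl)
    obtain ⟨r, hr⟩ := Finset.dvd_sum hdvd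
    refine ⟨n b₀, k b₀, r, hn b₀, hk b₀, ?_, ?_⟩
    · obtain ⟨m₀, hm₀, hnd⟩ := hb₀
      have : m₀ = n b₀ := by
        have := hn b₀
        rw [hm₀] at this
        exact_mod_cast this
      rw [← this]; exact hnd
    · rw [h2, ← Finset.add_sum_erase _ _ (Finset.mem_univ b₀), hr]
  refine ⟨?_, ?_, ?_, ?_⟩
  · rintro χ ⟨hχ, b, hbY, hb⟩
    obtain ⟨β, hβ, huβ⟩ := h₂.exU b hbY
    have hrel : ∀ β', Rel p (i₁.comp i₂) χ β' ↔ Rel p i₂ b β' := by
      intro β'
      constructor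
      · rintro ⟨m, hm, hnd⟩
        obtain ⟨n₀, k₀, r, h1, h2, h3, h4⟩ := hkey χ hχ b hb β' m hm
        refine ⟨k₀, h2, fun hk => hnd ?_⟩
        rw [h4]
        exact dvd_add (hk.trans (Dvd.intro_left _ rfl)) (Dvd.intro _ rfl)
      · rintro ⟨k, hk, hnd⟩
        obtain ⟨m, hm⟩ := hnat1 χ b
        obtain ⟨m', hm'⟩ : ∃ m' : ℕ, classInner (fun c => χ.1 (i₁ (i₂ c))) β'.1 = m' :=
          IsCharacter.classInner_irr_nat (IsCharacter.comp (IsIrrCharacter.isCharacter χ.2) (i₁.comp i₂)) β'.2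
        obtain ⟨n₀, k₀, r, h1, h2, h3, h4⟩ := hkey χ hχ b hb β' m' hm'
        refine ⟨m', hm', fun hd => ?_⟩
        have hk₀ : k₀ = k := by
          rw [hk] at h2
          exact_mod_cast h2.symm
        subst hk₀
        rw [h4] at hd
        have h5 : p ∣ n₀ * k₀ := (Nat.dvd_add_left (Dvd.intro _ rfl)).mp hd
        rcases (hpf.out.dvd_mul).mp h5 with h6 | h6
        · exact h3 h6
        · exact hnd h6
    refine ⟨β, (hrel β).mpr hβ, fun β' h => huβ β' ((hrel β').mp h)⟩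
  · rintro χ ⟨hχ, b, hbY, hb⟩ β m hm hnd
    obtain ⟨n₀, k₀, r, h1, h2, h3, h4⟩ := hkey χ hχ b hb β m hm
    have hk₀ : ¬ p ∣ k₀ := by
      intro hk
      apply hnd
      rw [h4]
      exact dvd_add (hk.trans (Dvd.intro_left _ rfl)) (Dvd.intro _ rfl)
    have hs1 := h₁.sign χ hχ b n₀ h1 h3
    have hs2 := h₂.sign b hbY β k₀ h2 hk₀
    have hmz : (m : ℤ) ≡ (n₀ : ℤ) * (k₀ : ℤ) [ZMOD p] := by
      rw [h4]
      push_cast
      have : ((n₀ : ℤ) * (k₀ : ℤ) + (p : ℤ) * (r : ℤ)) ≡ (n₀ : ℤ) * (k₀ : ℤ) + 0 [ZMOD p] :=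
        Int.ModEq.add_left _ ((Int.modEq_zero_iff_dvd).mpr (Dvd.intro _ rfl))
      simpa using this
    rcases hs1 with hs1 | hs1 <;> rcases hs2 with hs2 | hs2
    · left
      have := hmz.trans (hs1.mul hs2)
      simpa using this
    · right
      have := hmz.trans (hs1.mul hs2)
      simpa using this
    · right
      have := hmz.trans (hs1.mul hs2)
      simpa using this
    · left
      have := hmz.trans (hs1.mul hs2)
      simpa using this
  · rintro χ ⟨hχ, b, hbY, hb⟩ χ' ⟨hχ', b', hbY', hb'⟩ β ⟨m, hm, hnd⟩ ⟨m', hm', hnd'⟩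
    have hreduce : ∀ (χ₀ : IrrCharacter A) (b₀ : IrrCharacter A₁) (m₀ : ℕ), χ₀ ∈ X → Rel p i₁ χ₀ b₀ →
        classInner (fun c => χ₀.1 (i₁ (i₂ c))) β.1 = m₀ → ¬ p ∣ m₀ → Rel p i₂ b₀ β := by
      intro χ₀ b₀ m₀ h0 hr hm₀ hnd₀
      obtain ⟨n₀, k₀, r, h1, h2, h3, h4⟩ := hkey χ₀ h0 b₀ hr β m₀ hm₀
      refine ⟨k₀, h2, fun hk => hnd₀ ?_⟩
      rw [h4]
      exact dvd_add (hk.trans (Dvd.intro_left _ rfl)) (Dvd.intro _ rfl)
    have h1 := hreduce χ b m hχ hb hm hnd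
    have h2 := hreduce χ' b' m' hχ' hb' hm' hnd'
    have h3 := h₂.inj b hbY b' hbY' β h1 h2
    subst h3
    exact h₁.inj χ hχ χ' hχ' b hb hb'
  · intro β
    obtain ⟨b, hbY, hb⟩ := h₂.surj β
    obtain ⟨χ, hχ, hr⟩ := h₁.surj b
    refine ⟨χ, ⟨hχ, b, hbY, hr⟩, ?_⟩
    obtain ⟨m', hm'⟩ : ∃ m' : ℕ, classInner (fun c => χ.1 (i₁ (i₂ c))) β.1 = m' :=
      IsCharacter.classInner_irr_nat (IsCharacter.comp (IsIrrCharacter.isCharacter χ.2) (i₁.comp i₂)) β.2
    obtain ⟨n₀, k₀, r, h1, h2, h3, h4⟩ := hkey χ hχ b hr β m' hm'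
    refine ⟨m', hm', fun hd => ?_⟩
    obtain ⟨k, hk, hnd⟩ := hb
    have hk₀ : k₀ = k := by
      rw [hk] at h2
      exact_mod_cast h2.symm
    subst hk₀
    rw [h4] at hd
    have h5 : p ∣ n₀ * k₀ := (Nat.dvd_add_left (Dvd.intro _ rfl)).mp hd
    rcases (hpf.out.dvd_mul).mp h5 with h6 | h6
    · exact h3 h6
    · exact hnd h6

end Comp

section Gam
variable {Γ : Type u} [Group Γ] [Finite Γ]

/-- `χ` is invariant under conjugation by `S`. -/
def InvBy (S G : Subgroup Γ) (χ : IrrCharacter G) : Prop :=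
  ∀ s ∈ S, ∀ g g' : G, (g' : Γ) = s * g * s⁻¹ → χ.1 g' = χ.1 g

theorem norm_inv (G : Subgroup Γ) {s : Γ} (hs : ∀ g ∈ G, s * g * s⁻¹ ∈ G) : ∀ g ∈ G, s⁻¹ * g * s ∈ G := by
  intro g hg
  have h1 := norm_pow G hs (orderOf s - 1) g hg
  have h2 : s ^ (orderOf s - 1) = s⁻¹ := by
    apply eq_inv_of_mul_eq_one_left
    rw [← pow_succ, Nat.sub_add_cancel (orderOf_pos s), pow_orderOf_eq_one]
  rw [h2, inv_inv] at h1
  exact h1

/-- Conjugation as an automorphism of a normalized subgroup. -/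
noncomputable def conjE (G : Subgroup Γ) (s : Γ) (hs : ∀ g ∈ G, s * g * s⁻¹ ∈ G) : G ≃* G :=
  MulEquiv.ofBijective
    ({ toFun := fun g => ⟨s * g * s⁻¹, hs _ g.2⟩
       map_one' := by ext; simp
       map_mul' := fun a b => Subtype.ext (by simp only [Subgroup.coe_mul]; group) } : G →* G)
    (Finite.injective_iff_bijective.mp (by
      intro a b h
      have h1 : s * (a : Γ) * s⁻¹ = s * (b : Γ) * s⁻¹ := congrArg Subtype.val h
      have := congrArg (fun t => s⁻¹ * t * s) h1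
      exact Subtype.ext (by simpa [mul_assoc] using this)))

theorem conjE_coe (G : Subgroup Γ) (s : Γ) (hs : ∀ g ∈ G, s * g * s⁻¹ ∈ G) (g : G) :
    ((conjE G s hs g : G) : Γ) = s * g * s⁻¹ := rfl

theorem base_gamma {p : ℕ} [hpf : Fact p.Prime] (G C : Subgroup Γ) [Fintype G] [Fintype C] (hCG : C ≤ G) {s : Γ} {k : ℕ}
    (hs : orderOf s = p ^ k) (hnorm : ∀ g ∈ G, s * g * s⁻¹ ∈ G) (hp : ¬ p ∣ Nat.card G)
    (hC : ∀ x, x ∈ C ↔ x ∈ G ∧ x * s = s * x) :
    Corr p (Subgroup.inclusion hCG) {χ : IrrCharacter G | ∀ g g' : G, (g' : Γ) = s * g * s⁻¹ → χ.1 g' = χ.1 g} := by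
  classical
  obtain ⟨H₀, hH₀⟩ : ∃ H₀ : Subgroup Γ, H₀ = G ⊔ Subgroup.zpowers s := ⟨_, rfl⟩
  haveI : Fintype H₀ := Fintype.ofFinite _
  have hGH : G ≤ H₀ := hH₀ ▸ le_sup_left
  have hsH : s ∈ H₀ := hH₀ ▸ (le_sup_right : Subgroup.zpowers s ≤ _) (Subgroup.mem_zpowers s)
  have hCH : C ≤ H₀ := hCG.trans hGH
  let N : Subgroup H₀ := G.subgroupOf H₀
  let C' : Subgroup H₀ := C.subgroupOf H₀
  haveI : Fintype N := Fintype.ofFinite _
  haveI : Fintype C' := Fintype.ofFinite _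
  let s' : H₀ := ⟨s, hsH⟩
  have hnormal : N.Normal := by
    apply Subgroup.normal_subgroupOf_iff_le_normalizer hGH |>.mpr
    rw [hH₀]
    apply sup_le (Subgroup.le_normalizer)
    rw [Subgroup.zpowers_le, Subgroup.mem_normalizer_iff]
    intro g
    refine ⟨hnorm g, fun h => ?_⟩
    have := norm_inv G hnorm _ h
    simpa [mul_assoc] using this
  have hs' : orderOf s' = p ^ k := by
    rw [← hs]
    exact Subgroup.orderOf_mk s hsH
  let eG : G ≃* N := (Subgroup.subgroupOfEquivOfLe hGH).symm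
  let eC : C ≃* C' := (Subgroup.subgroupOfEquivOfLe hCH).symm
  have hcardN : Nat.card N = Nat.card G := Nat.card_congr eG.symm.toEquiv
  have htop : N ⊔ Subgroup.zpowers s' = ⊤ := by
    apply Subgroup.map_injective (Subgroup.subtype_injective H₀)
    rw [Subgroup.map_sup, MonoidHom.map_zpowers]
    have h1 : Subgroup.map H₀.subtype N = G := by
      rw [Subgroup.subgroupOf_map_subtype]
      exact inf_eq_left.mpr hGH
    have h2 : Subgroup.map H₀.subtype (⊤ : Subgroup H₀) = H₀ := by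
      rw [← MonoidHom.range_eq_map, Subgroup.range_subtype]
    rw [h1, h2]
    exact hH₀.symm
  have hCN : C' ≤ N := fun x hx => hCG hx
  have hC' : ∀ x : H₀, x ∈ C' ↔ x ∈ N ∧ x * s' = s' * x := by
    intro x
    have h1 : x ∈ C' ↔ (x : Γ) ∈ C := Subgroup.mem_subgroupOf
    have h2 : x ∈ N ↔ (x : Γ) ∈ G := Subgroup.mem_subgroupOf
    rw [h1, h2, hC, Subtype.ext_iff]
    rfl
  have hb := base_corr N C' (p := p) hs' (by rw [hcardN]; exact hp) htop hCN hC'
  refine Corr.transport p eG eC (Subgroup.inclusion hCN) (Subgroup.inclusion hCG) (fun b => ?_) _ _ ?_ hb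
  · apply Subtype.ext
    apply Subtype.ext
    rfl
  · intro χ
    constructor
    · intro h n n' hn
      have hn' : (n' : H₀) = s' * n * s'⁻¹ := hn
      obtain ⟨g, rfl⟩ := eG.surjective n
      obtain ⟨g', rfl⟩ := eG.surjective n'
      exact h g g' (by
        have := congrArg Subtype.val hn'
        exact this)
    · intro h g g' hg
      exact h (eG g) (eG g') (by
        apply Subtype.ext
        exact hg)

end Gam

section Chain
variable {Γ : Type u} [Group Γ] [Finite Γ]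

theorem corr_pgroup {p : ℕ} [hpf : Fact p.Prime] : ∀ (n : ℕ) (S : Subgroup Γ), Nat.card S = n → IsPGroup p S →
    ∀ (G C : Subgroup Γ) [Fintype G] [Fintype C] (hnorm : ∀ s ∈ S, ∀ g ∈ G, s * g * s⁻¹ ∈ G)
      (hp : ¬ p ∣ Nat.card G) (hC : C = G ⊓ Subgroup.centralizer (S : Set Γ)) (hCG : C ≤ G),
      Corr p (Subgroup.inclusion hCG) {χ : IrrCharacter G | InvBy S G χ} := by
  classical
  intro n
  induction n using Nat.strong_induction_on with
  | _ n ih =>
  intro S hSc hS G C _ _ hnorm hp hC hCG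
  by_cases hbot : S = ⊥
  · subst hbot
    have hCeq : C = G := by
      rw [hC]
      refine inf_eq_left.mpr ?_
      intro x _
      rw [Subgroup.mem_centralizer_iff]
      intro h hh
      have : h = 1 := by simpa using hh
      simp [this]
    refine Corr.of_bijective p _ ?_ _ ?_ hpf.out.ne_one
    · constructor
      · exact Subgroup.inclusion_injective hCG
      · intro g
        exact ⟨⟨g, hCeq ▸ g.2⟩, rfl⟩
    · intro χ s hs g g' hg
      have hs1 : s = 1 := by simpa using hs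
      subst hs1
      refine congrArg χ.1 (Subtype.ext ?_)
      rw [hg]; simp
  -- a maximal subgroup
  haveI : Nontrivial S := (Subgroup.nontrivial_iff_ne_bot S).mpr hbot
  obtain ⟨Q₀, hQ₀, -⟩ : ∃ Q₀ : Subgroup S, IsCoatom Q₀ ∧ (⊥ : Subgroup S) ≤ Q₀ := by
    rcases eq_top_or_exists_le_coatom (⊥ : Subgroup S) with h | h
    · exact absurd h bot_ne_top
    · exact h
  have hnil : Group.IsNilpotent S := hS.isNilpotent
  have hnc : NormalizerCondition S := normalizerCondition_of_isNilpotent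
  have hQn : Q₀.Normal := by
    have h1 := hnc Q₀ (lt_top_iff_ne_top.mpr hQ₀.1)
    have h2 := hQ₀.2 _ h1
    exact Subgroup.normalizer_eq_top_iff.mp h2
  obtain ⟨s₀, hs₀⟩ : ∃ s₀ : S, s₀ ∉ Q₀ := by
    by_contra hcon
    push Not at hcon
    exact hQ₀.1 (eq_top_iff.mpr fun x _ => hcon x)
  have hsup : ∀ K : Subgroup S, Q₀ ≤ K → s₀ ∈ K → K = ⊤ := by
    intro K h1 h2
    refine hQ₀.2 K (lt_of_le_of_ne h1 ?_)
    rintro rfl
    exact hs₀ h2
  obtain ⟨Q, hQ⟩ : ∃ Q : Subgroup Γ, Q = Q₀.map S.subtype := ⟨_, rfl⟩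
  have hQS : Q ≤ S := by
    rw [hQ]
    exact Subgroup.map_subtype_le _
  have hQmem : ∀ x : S, (x : Γ) ∈ Q ↔ x ∈ Q₀ := by
    intro x
    rw [hQ]
    constructor
    · rintro ⟨y, hy, hxy⟩
      have : y = x := Subtype.ext hxy
      exact this ▸ hy
    · intro h
      exact ⟨x, h, rfl⟩
  have hQp : IsPGroup p Q := hS.to_le hQS
  have hQlt : Nat.card Q < n := by
    rw [← hSc]
    have h1 : Nat.card Q = Nat.card Q₀ := by
      rw [hQ]
      exact Nat.card_congr (Subgroup.equivMapOfInjective Q₀ S.subtype (Subgroup.subtype_injective S)).symm.toEquiv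
    rw [h1]
    refine lt_of_le_of_ne (Subgroup.card_le_card_group Q₀) ?_
    intro h
    exact hQ₀.1 (Subgroup.eq_top_of_card_eq _ h)
  have hs₀norm : ∀ g ∈ G, (s₀ : Γ) * g * (s₀ : Γ)⁻¹ ∈ G := hnorm _ s₀.2
  obtain ⟨G₁, hG₁⟩ : ∃ G₁ : Subgroup Γ, G₁ = G ⊓ Subgroup.centralizer (Q : Set Γ) := ⟨_, rfl⟩
  haveI : Fintype G₁ := Fintype.ofFinite _
  have hG₁G : G₁ ≤ G := hG₁ ▸ inf_le_left
  have hCG₁ : C ≤ G₁ := by
    rw [hC, hG₁]
    exact inf_le_inf_left _ (Subgroup.centralizer_le hQS)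
  have hIH := ih _ hQlt Q rfl hQp G G₁ (fun s hs g hg => hnorm s (hQS hs) g hg) hp hG₁ hG₁G
  have hpG₁ : ¬ p ∣ Nat.card G₁ := fun h => hp (h.trans (Subgroup.card_dvd_of_le hG₁G))
  -- s₀ normalizes Q, hence G₁
  have hs₀Q : ∀ q ∈ Q, (s₀ : Γ) * q * (s₀ : Γ)⁻¹ ∈ Q := by
    intro q hq
    have hqS := hQS hq
    have h1 := (hQmem ⟨q, hqS⟩).mp hq
    have h2 := hQn.conj_mem _ h1 s₀
    exact (hQmem _).mpr h2
  have hs₀Q' : ∀ q ∈ Q, (s₀ : Γ)⁻¹ * q * (s₀ : Γ) ∈ Q := by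
    intro q hq
    have hqS := hQS hq
    have h1 := (hQmem ⟨q, hqS⟩).mp hq
    have h2 := hQn.conj_mem _ h1 s₀⁻¹
    have h3 := (hQmem _).mpr h2
    simpa using h3
  have hs₀G₁ : ∀ g ∈ G₁, (s₀ : Γ) * g * (s₀ : Γ)⁻¹ ∈ G₁ := by
    intro g hg
    rw [hG₁] at hg ⊢
    refine ⟨hs₀norm g hg.1, Subgroup.mem_centralizer_iff.mpr ?_⟩
    intro q hq
    have h1 := (Subgroup.mem_centralizer_iff.mp hg.2) _ (hs₀Q' q hq)
    calc q * ((s₀ : Γ) * g * (s₀ : Γ)⁻¹)
        = (s₀ : Γ) * ((s₀ : Γ)⁻¹ * q * (s₀ : Γ) * g) * (s₀ : Γ)⁻¹ := by group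
      _ = (s₀ : Γ) * (g * ((s₀ : Γ)⁻¹ * q * (s₀ : Γ))) * (s₀ : Γ)⁻¹ := by rw [h1]
      _ = (s₀ : Γ) * g * (s₀ : Γ)⁻¹ * q := by group
  obtain ⟨k, hk⟩ := IsPGroup.iff_orderOf.mp hS s₀
  have hk' : orderOf (s₀ : Γ) = p ^ k := by rw [← hk, Subgroup.orderOf_coe]
  have hC₁ : ∀ x, x ∈ C ↔ x ∈ G₁ ∧ x * (s₀ : Γ) = (s₀ : Γ) * x := by
    intro x
    constructor
    · intro hx
      refine ⟨hCG₁ hx, ?_⟩
      rw [hC] at hx
      exact ((Subgroup.mem_centralizer_iff.mp hx.2) _ s₀.2).symm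
    · rintro ⟨h1, h2⟩
      rw [hG₁] at h1
      rw [hC]
      refine ⟨h1.1, Subgroup.mem_centralizer_iff.mpr ?_⟩
      intro y hy
      let K : Subgroup S :=
        { carrier := {t | (t : Γ) * x = x * t}
          one_mem' := by simp
          mul_mem' := fun {a b} ha hb => by
            have ha' : (a : Γ) * x = x * a := ha
            have hb' : (b : Γ) * x = x * b := hb
            change ((a * b : S) : Γ) * x = x * ((a * b : S) : Γ)
            push_cast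
            rw [mul_assoc, hb', ← mul_assoc, ha', mul_assoc]
          inv_mem' := fun {a} ha => by
            have ha' : Commute (a : Γ) x := ha
            exact ha'.inv_left.eq }
      have hK : K = ⊤ := by
        apply hsup K
        · intro q hq
          have h3 := (Subgroup.mem_centralizer_iff.mp h1.2) _ ((hQmem q).mpr hq)
          exact h3
        · exact h2.symm
      have h4 : (⟨y, hy⟩ : S) ∈ K := by rw [hK]; trivial
      exact h4
  have hBase := base_gamma G₁ C hCG₁ hk' hs₀G₁ hpG₁ hC₁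
  have hcomp := Corr.comp p hIH hBase
  have hicomp : (Subgroup.inclusion hG₁G).comp (Subgroup.inclusion hCG₁) = Subgroup.inclusion hCG := rfl
  rw [hicomp] at hcomp
  -- compare the sets
  have hset : {χ : IrrCharacter G | InvBy S G χ} = {χ | χ ∈ {χ : IrrCharacter G | InvBy Q G χ} ∧
      ∃ b ∈ {χ : IrrCharacter G₁ | ∀ g g' : G₁, (g' : Γ) = (s₀ : Γ) * g * (s₀ : Γ)⁻¹ → χ.1 g' = χ.1 g},
        Rel p (Subgroup.inclusion hG₁G) χ b} := by
    obtain ⟨α, hα⟩ : ∃ α : G ≃* G, α = conjE G (s₀ : Γ) hs₀norm := ⟨_, rfl⟩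
    obtain ⟨α₁, hα₁⟩ : ∃ α₁ : G₁ ≃* G₁, α₁ = conjE G₁ (s₀ : Γ) hs₀G₁ := ⟨_, rfl⟩
    have hαc : ∀ g : G, ((α g : G) : Γ) = (s₀ : Γ) * g * (s₀ : Γ)⁻¹ := fun g => by rw [hα]; rfl
    have hα₁c : ∀ g : G₁, ((α₁ g : G₁) : Γ) = (s₀ : Γ) * g * (s₀ : Γ)⁻¹ := fun g => by rw [hα₁]; rfl
    have hcompat : ∀ b : G₁, Subgroup.inclusion hG₁G (α₁ b) = α (Subgroup.inclusion hG₁G b) := by
      intro b
      apply Subtype.ext
      change ((α₁ b : G₁) : Γ) = ((α ⟨b, hG₁G b.2⟩ : G) : Γ)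
      rw [hα₁c, hαc]
    ext χ
    constructor
    · intro hχ
      have hχQ : InvBy Q G χ := fun s hs => hχ s (hQS hs)
      obtain ⟨b, hb, hu⟩ := hIH.exU χ hχQ
      refine ⟨hχQ, b, ?_, hb⟩
      have hpull : pullI α χ = χ := by
        apply Subtype.ext
        funext g
        exact hχ _ s₀.2 g (α g) (hαc g)
      have hr := (rel_pull p α α₁ _ _ hcompat χ b).mpr hb
      rw [hpull] at hr
      have h2 := hu _ hr
      intro g g' hg
      have h3 : g' = α₁ g := Subtype.ext (by rw [hα₁c]; exact hg)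
      rw [h3]
      have h4 := congrFun (congrArg Subtype.val h2) g
      exact h4
    · rintro ⟨hχQ, b, hb, hr⟩
      have hbp : pullI α₁ b = b := by
        apply Subtype.ext
        funext g
        exact hb g (α₁ g) (hα₁c g)
      have hr2 := (rel_pull p α α₁ _ _ hcompat χ b).mpr hr
      rw [hbp] at hr2
      have hQinv : InvBy Q G (pullI α χ) := by
        intro q hq g g' hg
        refine hχQ _ (hs₀Q q hq) (α g) (α g') ?_
        rw [hαc, hαc, hg]
        group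
      have h5 := hIH.inj _ hQinv χ hχQ b hr2 hr
      let K : Subgroup S :=
        { carrier := {t | ∀ g g' : G, (g' : Γ) = (t : Γ) * g * (t : Γ)⁻¹ → χ.1 g' = χ.1 g}
          one_mem' := by
            intro g g' h
            refine congrArg χ.1 (Subtype.ext ?_)
            rw [h]; simp
          mul_mem' := fun {a b} ha hb => by
            intro g g' h
            have h1 := hb g ⟨(b : Γ) * g * (b : Γ)⁻¹, hnorm _ b.2 _ g.2⟩ rfl
            rw [← h1]
            refine ha _ g' ?_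
            rw [h]
            push_cast
            group
          inv_mem' := fun {a} ha => by
            intro g g' h
            symm
            refine ha g' g ?_
            rw [h]
            push_cast
            group }
      have hK : K = ⊤ := by
        apply hsup K
        · intro q hq g g' hg
          exact hχQ _ ((hQmem q).mpr hq) g g' hg
        · intro g g' hg
          have h6 : g' = α g := Subtype.ext (by rw [hαc]; exact hg)
          rw [h6]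
          have h7 := congrFun (congrArg Subtype.val h5) g
          exact h7
      intro s hs g g' hg
      have h8 : (⟨s, hs⟩ : S) ∈ K := by rw [hK]; trivial
      exact h8 g g' hg
  rw [hset]
  exact hcomp

end Chain

section Final
variable {Γ : Type u} [Group Γ] [Finite Γ]

theorem corr_all {p : ℕ} [hpf : Fact p.Prime] (S : Subgroup Γ) (hS : IsPGroup p S)
    (G C : Subgroup Γ) [Fintype G] [Fintype C] (hnorm : ∀ s ∈ S, ∀ g ∈ G, s * g * s⁻¹ ∈ G)
    (hcop : (Nat.card G).Coprime (Nat.card S)) (hC : C = G ⊓ Subgroup.centralizer (S : Set Γ)) (hCG : C ≤ G) :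
    Corr p (Subgroup.inclusion hCG) {χ : IrrCharacter G | InvBy S G χ} := by
  by_cases hbot : S = ⊥
  · subst hbot
    have hCeq : C = G := by
      rw [hC]
      refine inf_eq_left.mpr ?_
      intro x _
      rw [Subgroup.mem_centralizer_iff]
      intro h hh
      have : h = 1 := by simpa using hh
      simp [this]
    refine Corr.of_bijective p _ ?_ _ ?_ hpf.out.ne_one
    · constructor
      · exact Subgroup.inclusion_injective hCG
      · intro g
        exact ⟨⟨g, hCeq ▸ g.2⟩, rfl⟩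
    · intro χ s hs g g' hg
      have hs1 : s = 1 := by simpa using hs
      subst hs1
      refine congrArg χ.1 (Subtype.ext ?_)
      rw [hg]; simp
  · have hp : ¬ p ∣ Nat.card G := by
      intro h
      haveI : Nontrivial S := (Subgroup.nontrivial_iff_ne_bot S).mpr hbot
      obtain ⟨k, hk⟩ := IsPGroup.iff_card.mp hS
      have hk0 : k ≠ 0 := by
        rintro rfl
        rw [pow_zero] at hk
        have := Finite.one_lt_card (α := S)
        omega
      have h2 : p ∣ Nat.card S := by rw [hk]; exact dvd_pow_self p hk0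
      have h3 := Nat.dvd_gcd h h2
      rw [hcop.gcd_eq_one] at h3
      exact hpf.out.one_lt.ne' (Nat.dvd_one.mp h3)
    exact corr_pgroup _ S rfl hS G C hnorm hp hC hCG

end Final

end Cfsg.Agent.Lib.Glaub
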