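import Cfsg.Prelude.Def_Sporadic_a
/-!
Bit-level model of the 24 points, words, masks and packed permutations, for kernel computation with the
length-24 code.  Everything here is elementary; kernel-run functions use raw `Nat` operations.
-/
set_option autoImplicit false
set_option linter.unusedSimpArgs false
set_option linter.unusedVariables false
set_option linter.unnecessarySimpa false
open Cfsg
open scoped Pointwise

namespace Cfsg.Agent.Lib.GolayBasic

/-! ### Points -/

/-- index of a point: residues are `0..22`, the extra point is `23`. -/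
def idx : GolayPt → ℕ
  | none => 23
  | some x => x.val

theorem idx_lt (p : GolayPt) : idx p < 24 := by
  cases p with
  | none => decide
  | some x => exact lt_trans (ZMod.val_lt x) (by decide)

/-- point with a given index -/
def ptOf (i : ℕ) : GolayPt := if i < 23 then some (i : ZMod 23) else none

theorem ptOf_idx (p : GolayPt) : ptOf (idx p) = p := by
  revert p; decide

theorem idx_ptOf {i : ℕ} (h : i < 24) : idx (ptOf i) = i := by
  interval_cases i <;> decide

theorem idx_injective : Function.Injective idx := fun a b h => by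
  rw [← ptOf_idx a, ← ptOf_idx b, h]

/-- kernel-friendly test bit -/
@[inline] def tb (m i : ℕ) : Bool := Nat.beq (Nat.land (Nat.shiftRight m i) 1) 1

theorem tb_eq (m i : ℕ) : tb m i = m.testBit i := by
  unfold tb
  have h : Nat.land (Nat.shiftRight m i) 1 = (m >>> i) % 2 := by
    show (m >>> i) &&& 1 = _
    exact Nat.and_one_is_mod _
  rw [h, Nat.testBit, Nat.one_and_eq_mod_two]
  rcases Nat.mod_two_eq_zero_or_one (m >>> i) with h0 | h0 <;> rw [h0] <;> rfl

/-! ### Masks -/

/-- The set of points with bit set. -/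
def setOf (m : ℕ) : Finset GolayPt := Finset.univ.filter fun p => m.testBit (idx p) = true

@[simp] theorem mem_setOf {m : ℕ} {p : GolayPt} : p ∈ setOf m ↔ m.testBit (idx p) = true := by
  simp [setOf]

/-- masks below `2^24` are determined by their `setOf`. -/
theorem setOf_injOn {a b : ℕ} (ha : a < 2 ^ 24) (hb : b < 2 ^ 24) (h : setOf a = setOf b) : a = b := by
  apply Nat.eq_of_testBit_eq
  intro i
  by_cases hi : i < 24
  · have := congrArg (fun s => ptOf i ∈ s) h
    simp only [mem_setOf, idx_ptOf hi, eq_iff_iff] at this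
    cases ha' : a.testBit i <;> cases hb' : b.testBit i <;> simp_all
  · have h24 : 2 ^ 24 ≤ 2 ^ i := Nat.pow_le_pow_right (by norm_num) (by omega)
    rw [Nat.testBit_lt_two_pow (lt_of_lt_of_le ha h24), Nat.testBit_lt_two_pow (lt_of_lt_of_le hb h24)]

theorem exists_mask (s : Finset GolayPt) : ∃ m, m < 2 ^ 24 ∧ s = setOf m := by
  induction s using Finset.induction_on with
  | empty =>
    refine ⟨0, by norm_num, ?_⟩
    ext p; simp
  | insert p s _ ih =>
    obtain ⟨m, hm, rfl⟩ := ih
    refine ⟨m ||| 2 ^ idx p, Nat.or_lt_two_pow hm ?_, ?_⟩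
    · exact Nat.pow_lt_pow_right (by norm_num) (idx_lt p)
    · ext q
      simp only [Finset.mem_insert, mem_setOf, Nat.testBit_or, Nat.testBit_two_pow, Bool.or_eq_true,
        decide_eq_true_eq]
      constructor
      · rintro (rfl | h)
        · right; rfl
        · left; exact h
      · rintro (h | h)
        · right; exact h
        · left; exact idx_injective h.symm

/-- mask of a finset (choice-free statement via `exists_mask`). -/
noncomputable def maskOf (s : Finset GolayPt) : ℕ := (exists_mask s).choose

theorem maskOf_lt (s : Finset GolayPt) : maskOf s < 2 ^ 24 := (exists_mask s).choose_spec.1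
theorem setOf_maskOf (s : Finset GolayPt) : setOf (maskOf s) = s := (exists_mask s).choose_spec.2.symm

theorem setOf_land (a b : ℕ) : setOf (a &&& b) = setOf a ∩ setOf b := by
  ext p; simp [Nat.testBit_land]

theorem setOf_lor (a b : ℕ) : setOf (a ||| b) = setOf a ∪ setOf b := by
  ext p; simp [Nat.testBit_or]

theorem setOf_xor (a b : ℕ) : setOf (a ^^^ b) = symmDiff (setOf a) (setOf b) := by
  ext p
  simp only [mem_setOf, Nat.testBit_xor, Finset.mem_symmDiff]
  cases a.testBit (idx p) <;> cases b.testBit (idx p) <;> simp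

/-- the mask of all 24 points -/
def allMask : ℕ := 16777215

theorem allMask_eq : allMask = 2 ^ 24 - 1 := by norm_num [allMask]

theorem setOf_allMask : setOf allMask = Finset.univ := by
  ext p
  simp only [mem_setOf, Finset.mem_univ, iff_true, allMask_eq]
  rw [Nat.testBit_two_pow_sub_one]
  simpa using idx_lt p

theorem setOf_compl {a : ℕ} (h : a < 2 ^ 24) : (setOf a)ᶜ = setOf (allMask ^^^ a) := by
  ext p
  simp only [Finset.mem_compl, mem_setOf, Nat.testBit_xor, allMask_eq]
  rw [Nat.testBit_two_pow_sub_one]
  have := idx_lt p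
  simp [this]

theorem land_lt {a b : ℕ} (h : a < 2 ^ 24) : a &&& b < 2 ^ 24 :=
  lt_of_le_of_lt Nat.and_le_left h

/-- popcount loop -/
def pcAux (m : ℕ) : ℕ → ℕ
  | 0 => 0
  | k + 1 => Nat.add (pcAux m k) (Nat.land (Nat.shiftRight m k) 1)

/-- number of set bits among the 24 low bits -/
def pc (m : ℕ) : ℕ := pcAux m 24

theorem pcAux_eq (m k : ℕ) : pcAux m k = ((List.range k).filter (fun i => m.testBit i)).length := by
  induction k with
  | zero => rfl
  | succ k ih =>
    rw [pcAux, ih, List.range_succ, List.filter_append, List.length_append]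
    have h : Nat.land (Nat.shiftRight m k) 1 = (m >>> k) % 2 := by
      show (m >>> k) &&& 1 = _
      exact Nat.and_one_is_mod _
    rw [h]
    show (_ : ℕ) + _ = _
    have ht : m.testBit k = decide (m >>> k % 2 = 1) := by
      rw [Nat.testBit_eq_decide_div_mod_eq, Nat.shiftRight_eq_div_pow]
    rcases Nat.mod_two_eq_zero_or_one (m >>> k) with h0 | h0 <;> simp [List.filter_cons, h0, ht]

theorem card_setOf (m : ℕ) : (setOf m).card = pc m := by
  have hpc : pc m = ((List.range 24).filter (fun i => m.testBit i)).length := pcAux_eq m 24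
  rw [hpc]
  have hnd : ((List.range 24).filter (fun i => m.testBit i)).Nodup := (List.nodup_range).filter _
  rw [← List.toFinset_card_of_nodup hnd]
  apply Finset.card_bij (fun p _ => idx p)
  · intro p hp
    have := idx_lt p
    simp only [mem_setOf] at hp
    simpa [hp] using this
  · intro a _ b _ h
    exact idx_injective h
  · intro i hi
    simp only [List.mem_toFinset, List.mem_filter, List.mem_range] at hi
    refine ⟨ptOf i, ?_, idx_ptOf hi.1⟩
    simp only [mem_setOf, idx_ptOf hi.1]
    exact hi.2

/-! ### Words -/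

/-- The word with the given mask. -/
def wordOf (m : ℕ) : GolayPt → ZMod 2 := fun p => if m.testBit (idx p) = true then 1 else 0

theorem wordOf_xor (a b : ℕ) : wordOf (a ^^^ b) = wordOf a + wordOf b := by
  funext p
  simp only [wordOf, Nat.testBit_xor, Pi.add_apply]
  cases a.testBit (idx p) <;> cases b.testBit (idx p) <;> decide

theorem wordOf_zero : wordOf 0 = 0 := by
  funext p; simp [wordOf]

theorem wordOf_allMask : wordOf allMask = 1 := by
  funext p
  have : allMask.testBit (idx p) = true := by
    have h := setOf_allMask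
    have := Finset.mem_univ p
    rw [← h, mem_setOf] at this
    exact this
  simp [wordOf, this]

theorem support_wordOf (m : ℕ) : support₂ (wordOf m) = setOf m := by
  ext p
  simp only [support₂, Finset.mem_filter, Finset.mem_univ, true_and, mem_setOf, wordOf]
  cases h : m.testBit (idx p) <;> simp [h]

theorem exists_word_mask (w : GolayPt → ZMod 2) : ∃ m, m < 2 ^ 24 ∧ w = wordOf m := by
  obtain ⟨m, hm, h⟩ := exists_mask (support₂ w)
  refine ⟨m, hm, ?_⟩
  funext p
  have hp : p ∈ support₂ w ↔ m.testBit (idx p) = true := by rw [h, mem_setOf]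
  simp only [support₂, Finset.mem_filter, Finset.mem_univ, true_and] at hp
  simp only [wordOf]
  by_cases hb : m.testBit (idx p) = true
  · simp only [hb, if_true]
    have := hp.2 hb
    generalize w p = x at this ⊢
    revert x; decide
  · simp only [hb, if_false]
    have : ¬ w p ≠ 0 := fun h' => hb (hp.1 h')
    simpa using this

theorem wordOf_injOn {a b : ℕ} (ha : a < 2 ^ 24) (hb : b < 2 ^ 24) (h : wordOf a = wordOf b) : a = b := by
  apply setOf_injOn ha hb
  rw [← support_wordOf, ← support_wordOf, h]

theorem hammingNorm_wordOf (m : ℕ) : hammingNorm (wordOf m) = pc m := by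
  rw [← card_setOf, ← support_wordOf]
  simp only [hammingNorm, support₂]

/-! ### Packed permutations -/

/-- image of `i` under the packed permutation `pp` (5 bits per point) -/
@[inline] def ap (pp i : ℕ) : ℕ := Nat.mod (Nat.shiftRight pp (Nat.mul 5 i)) 32

theorem ap_lt (pp i : ℕ) : ap pp i < 32 := Nat.mod_lt _ (by norm_num)

/-- pack a function into 5-bit fields -/
def pack (f : ℕ → ℕ) : ℕ → ℕ
  | 0 => 0
  | n + 1 => Nat.add (pack f n) (Nat.mul (Nat.mod (f n) 32) (Nat.pow 32 n))

theorem pack_lt (f : ℕ → ℕ) (n : ℕ) : pack f n < 32 ^ n := by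
  induction n with
  | zero => simp [pack]
  | succ n ih =>
    show pack f n + (f n % 32) * 32 ^ n < 32 ^ (n + 1)
    have : f n % 32 < 32 := Nat.mod_lt _ (by norm_num)
    have h1 : (f n % 32) * 32 ^ n + 32 ^ n ≤ 31 * 32 ^ n + 32 ^ n := by
      have : (f n % 32) * 32 ^ n ≤ 31 * 32 ^ n := Nat.mul_le_mul_right _ (by omega)
      omega
    rw [pow_succ]
    omega

theorem ap_pack (f : ℕ → ℕ) (n i : ℕ) (hi : i < n) : ap (pack f n) i = f i % 32 := by
  have key : ∀ n, i < n → (pack f n / 32 ^ i) % 32 = f i % 32 := by
    intro n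
    induction n with
    | zero => intro h; omega
    | succ n ih =>
      intro h
      show ((pack f n + (f n % 32) * 32 ^ n) / 32 ^ i) % 32 = _
      have hpos : 0 < 32 ^ i := by positivity
      rcases Nat.lt_succ_iff_lt_or_eq.mp h with h' | rfl
      · obtain ⟨d, rfl⟩ : ∃ d, n = i + (d + 1) := ⟨n - i - 1, by omega⟩
        have : (f (i + (d + 1)) % 32) * 32 ^ (i + (d + 1)) =
            32 ^ i * ((f (i + (d + 1)) % 32) * 32 ^ (d + 1)) := by
          rw [pow_add]; ring
        rw [this, Nat.add_mul_div_left _ _ hpos]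
        have h2 : (f (i + (d + 1)) % 32) * 32 ^ (d + 1) = 32 * ((f (i + (d + 1)) % 32) * 32 ^ d) := by
          rw [pow_succ]; ring
        rw [h2, Nat.add_mul_mod_self_left]
        exact ih h'
      · have h1 : (f i % 32) * 32 ^ i = 32 ^ i * (f i % 32) := Nat.mul_comm _ _
        rw [h1, Nat.add_mul_div_left _ _ hpos, Nat.div_eq_of_lt (pack_lt f i), Nat.zero_add]
        exact Nat.mod_mod_of_dvd _ (dvd_refl _)
  show (pack f n >>> (5 * i)) % 32 = _
  rw [Nat.shiftRight_eq_div_pow, show 2 ^ (5 * i) = 32 ^ i by rw [pow_mul]; norm_num]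
  exact key n hi

/-- product of packed permutations -/
def mulP (a b : ℕ) : ℕ := pack (fun i => ap a (ap b i)) 24

theorem ap_mulP (a b i : ℕ) (hi : i < 24) : ap (mulP a b) i = ap a (ap b i) := by
  rw [mulP, ap_pack _ _ _ hi]
  exact Nat.mod_eq_of_lt (ap_lt _ _)

/-- The relation between a permutation and a packed permutation. -/
def Rep (σ : Equiv.Perm GolayPt) (pp : ℕ) : Prop := ∀ p, idx (σ p) = ap pp (idx p)

theorem Rep.mul {σ τ : Equiv.Perm GolayPt} {a b : ℕ} (h₁ : Rep σ a) (h₂ : Rep τ b) :
    Rep (σ * τ) (mulP a b) := by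
  intro p
  rw [ap_mulP _ _ _ (idx_lt p), Equiv.Perm.mul_apply, h₁, h₂]

theorem Rep.eq {σ τ : Equiv.Perm GolayPt} {a : ℕ} (h₁ : Rep σ a) (h₂ : Rep τ a) : σ = τ := by
  apply Equiv.ext
  intro p
  apply idx_injective
  rw [h₁, h₂]

theorem Rep.apply_eq {σ : Equiv.Perm GolayPt} {a : ℕ} (h : Rep σ a) (p : GolayPt) :
    σ p = ptOf (ap a (idx p)) := by
  rw [← h, ptOf_idx]

theorem Rep.apply_ptOf {σ : Equiv.Perm GolayPt} {a i : ℕ} (h : Rep σ a) (hi : i < 24) :
    σ (ptOf i) = ptOf (ap a i) := by
  rw [h.apply_eq, idx_ptOf hi]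

/-- image of a mask -/
def imgAux (pp m : ℕ) : ℕ → ℕ
  | 0 => 0
  | k + 1 =>
    Nat.lor (imgAux pp m k)
      (cond (tb m k) (Nat.pow 2 (ap pp k)) 0)

/-- image of a mask under a packed permutation -/
def img (pp m : ℕ) : ℕ := imgAux pp m 24

theorem testBit_imgAux (pp m k j : ℕ) :
    (imgAux pp m k).testBit j = true ↔ ∃ i < k, m.testBit i = true ∧ ap pp i = j := by
  induction k with
  | zero => simp [imgAux]
  | succ k ih =>
    rw [imgAux]
    show (imgAux pp m k ||| _).testBit j = true ↔ _
    rw [Nat.testBit_or, Bool.or_eq_true, ih, tb_eq]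
    constructor
    · rintro (⟨i, hi, h1, h2⟩ | h)
      · exact ⟨i, by omega, h1, h2⟩
      · cases hm : m.testBit k with
        | false => simp [hm] at h
        | true =>
          simp only [hm, cond_true] at h
          refine ⟨k, by omega, hm, ?_⟩
          have h3 : (2 ^ ap pp k).testBit j = true := h
          rw [Nat.testBit_two_pow] at h3
          simpa using h3
    · rintro ⟨i, hi, h1, rfl⟩
      rcases Nat.lt_succ_iff_lt_or_eq.mp hi with h' | rfl
      · exact Or.inl ⟨i, h', h1, rfl⟩
      · right
        simp only [h1, cond_true]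
        show (2 ^ ap pp i).testBit (ap pp i) = true
        simp [Nat.testBit_two_pow]

theorem setOf_img {σ : Equiv.Perm GolayPt} {pp : ℕ} (h : Rep σ pp) (m : ℕ) :
    setOf (img pp m) = (setOf m).image σ := by
  ext q
  simp only [mem_setOf, img, testBit_imgAux, Finset.mem_image]
  constructor
  · rintro ⟨i, hi, h1, h2⟩
    refine ⟨ptOf i, by simpa [idx_ptOf hi] using h1, ?_⟩
    rw [h.apply_ptOf hi, h2, ptOf_idx]
  · rintro ⟨p, hp, rfl⟩
    exact ⟨idx p, idx_lt p, hp, (h p).symm⟩

theorem smul_setOf {σ : Equiv.Perm GolayPt} {pp : ℕ} (h : Rep σ pp) (m : ℕ) :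
    σ • setOf m = setOf (img pp m) := by
  rw [setOf_img h]
  rfl

theorem imgAux_lt (pp m k : ℕ) (hpp : ∀ i < k, ap pp i < 24) : imgAux pp m k < 2 ^ 24 := by
  induction k with
  | zero => simp [imgAux]
  | succ k ih =>
    rw [imgAux]
    show imgAux pp m k ||| _ < _
    apply Nat.or_lt_two_pow (ih fun i hi => hpp i (by omega))
    cases tb m k with
    | true =>
      show 2 ^ ap pp k < 2 ^ 24
      exact Nat.pow_lt_pow_right (by norm_num) (hpp k (by omega))
    | false => show 0 < 2 ^ 24; norm_num

theorem img_lt {σ : Equiv.Perm GolayPt} {pp : ℕ} (h : Rep σ pp) (m : ℕ) : img pp m < 2 ^ 24 := by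
  apply imgAux_lt
  intro i hi
  have := h (ptOf i)
  rw [idx_ptOf hi] at this
  rw [← this]
  exact idx_lt _

/-! ### From packed permutations to permutations -/

/-- The underlying function of a packed permutation. -/
def fn (pp : ℕ) (p : GolayPt) : GolayPt := ptOf (ap pp (idx p))

/-- Boolean validity of a packed permutation: values below 24 and all points hit. -/
def validB (pp : ℕ) : Bool :=
  Nat.beq (img pp allMask) allMask &&
    (List.range 24).all (fun i => Nat.blt (ap pp i) 24)

theorem fn_bijective {pp : ℕ} (h : validB pp = true) : Function.Bijective (fn pp) := by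
  simp only [validB, Bool.and_eq_true, List.all_eq_true, List.mem_range] at h
  obtain ⟨h1, h2⟩ := h
  have h2' : ∀ i < 24, ap pp i < 24 := fun i hi => by
    have := h2 i hi
    simpa [Nat.blt] using this
  have h1' : img pp allMask = allMask := Nat.eq_of_beq_eq_true h1
  have hsurj : Function.Surjective (fn pp) := by
    intro q
    have hq : allMask.testBit (idx q) = true := by
      have := Finset.mem_univ q
      rwa [← setOf_allMask, mem_setOf] at this
    rw [← h1', img, testBit_imgAux] at hq
    obtain ⟨i, hi, _, h3⟩ := hq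
    refine ⟨ptOf i, ?_⟩
    rw [fn, idx_ptOf hi, h3, ptOf_idx]
  exact ⟨Finite.injective_iff_surjective.mpr hsurj, hsurj⟩

/-- The permutation of a valid packed permutation. -/
noncomputable def permOf (pp : ℕ) (h : validB pp = true) : Equiv.Perm GolayPt :=
  Equiv.ofBijective (fn pp) (fn_bijective h)

theorem rep_permOf (pp : ℕ) (h : validB pp = true) : Rep (permOf pp h) pp := by
  intro p
  show idx (fn pp p) = _
  rw [fn, idx_ptOf]
  simp only [validB, Bool.and_eq_true, List.all_eq_true, List.mem_range] at h
  have := h.2 (idx p) (idx_lt p)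
  simpa [Nat.blt] using this

/-- the packed identity -/
def idP : ℕ := pack (fun i => i) 24

theorem rep_one : Rep 1 idP := by
  intro p
  rw [idP, ap_pack _ _ _ (idx_lt p)]
  have := idx_lt p
  simp only [Equiv.Perm.coe_one, id_eq]
  omega

/-- check that `b` is the inverse of `a` on 24 points -/
def isInvB (a b : ℕ) : Bool := (List.range 24).all (fun i => Nat.beq (ap b (ap a i)) i)

theorem Rep.inv {σ : Equiv.Perm GolayPt} {a b : ℕ} (h : Rep σ a) (hb : isInvB a b = true) :
    Rep σ⁻¹ b := by
  simp only [isInvB, List.all_eq_true, List.mem_range] at hb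
  intro p
  have h1 := hb (idx (σ⁻¹ p)) (idx_lt _)
  rw [← h] at h1
  simp only [Equiv.apply_symm_apply, Equiv.Perm.coe_inv] at h1
  exact (Nat.eq_of_beq_eq_true h1).symm

end Cfsg.Agent.Lib.GolayBasic
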