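import Cfsg.Agent.Lib.GolayM23
/-!
Generic stabiliser chains and orbit forests for subgroups of permutations of the 24 points.
-/
set_option autoImplicit false
set_option linter.unusedSimpArgs false
set_option linter.unusedVariables false
set_option linter.style.haveILetI false
set_option maxRecDepth 100000
open Cfsg
open scoped Pointwise

namespace Cfsg.Agent.Lib.GolayChain
open Cfsg.Agent.Lib
open Cfsg.Agent.Lib.GolayBasic Cfsg.Agent.Lib.GolayCode Cfsg.Agent.Lib.GolayPerm
open Cfsg.Agent.Lib.GolayFacts Cfsg.Agent.Lib.GolayTools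

/-! ### Orbit forests -/

/-- Check of a forest: `rt` gives the root, `par` the parent, `dep` the depth; `step p i` checks the edge. -/
def forestOK (n : ℕ) (rt par dep : ℕ → ℕ) (step : ℕ → ℕ → Bool) : Bool :=
  allBelow (fun i => or (Nat.beq (rt i) i)
    (and (and (Nat.blt (par i) n) (and (Nat.beq (dep i) (Nat.add (dep (par i)) 1)) (Nat.beq (rt (par i)) (rt i))))
      (step (par i) i))) n

theorem forest_spec (R : ℕ → ℕ → Prop) (hrefl : ∀ i, R i i) (htrans : ∀ a b c, R a b → R b c → R a c)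
    {n : ℕ} {rt par dep : ℕ → ℕ} {step : ℕ → ℕ → Bool} (hstep : ∀ p i, step p i = true → R p i)
    (h : forestOK n rt par dep step = true) : ∀ i < n, R (rt i) i := by
  have key : ∀ d, ∀ i < n, dep i = d → R (rt i) i := by
    intro d
    induction d with
    | zero =>
      intro i hi hd
      have h1 := allBelow_spec h i hi
      simp only [Bool.or_eq_true, Bool.and_eq_true] at h1
      rcases h1 with h1 | ⟨⟨_, h2, _⟩, _⟩
      · rw [Nat.eq_of_beq_eq_true h1]
        exact hrefl i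
      · have h3 : dep i = Nat.add (dep (par i)) 1 := Nat.eq_of_beq_eq_true h2
        have h4 : Nat.add (dep (par i)) 1 = dep (par i) + 1 := rfl
        omega
    | succ d ih =>
      intro i hi hd
      have h1 := allBelow_spec h i hi
      simp only [Bool.or_eq_true, Bool.and_eq_true] at h1
      rcases h1 with h1 | ⟨⟨h0, h2, h3⟩, h4⟩
      · rw [Nat.eq_of_beq_eq_true h1]
        exact hrefl i
      · have h5 : dep i = Nat.add (dep (par i)) 1 := Nat.eq_of_beq_eq_true h2
        have h6 : Nat.add (dep (par i)) 1 = dep (par i) + 1 := rfl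
        have h7 : par i < n := by simpa [Nat.blt] using h0
        have h8 := ih (par i) h7 (by omega)
        rw [Nat.eq_of_beq_eq_true h3] at h8
        exact htrans _ _ _ h8 (hstep _ _ h4)
  exact fun i hi => key _ i hi rfl

/-- Relation for the forests of masks under a subgroup. -/
def MaskRel (H : Subgroup (Equiv.Perm GolayPt)) (obj : ℕ → ℕ) (a c : ℕ) : Prop :=
  ∃ g ∈ H, g • GolayBasic.setOf (obj a) = GolayBasic.setOf (obj c)

theorem MaskRel.refl (H : Subgroup (Equiv.Perm GolayPt)) (obj : ℕ → ℕ) (i : ℕ) : MaskRel H obj i i :=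
  ⟨1, H.one_mem, one_smul _ _⟩

theorem MaskRel.trans {H : Subgroup (Equiv.Perm GolayPt)} {obj : ℕ → ℕ} (a b c : ℕ) :
    MaskRel H obj a b → MaskRel H obj b c → MaskRel H obj a c := by
  rintro ⟨g, hg, h1⟩ ⟨g', hg', h2⟩
  exact ⟨g' * g, H.mul_mem hg' hg, by rw [mul_smul, h1, h2]⟩

/-- The edge check for a forest on masks, with generators given by a table. -/
def maskStep (m : ℕ) (gens obj gi : ℕ → ℕ) (p i : ℕ) : Bool :=
  and (Nat.blt (gi i) m) (Nat.beq (img (gens (gi i)) (obj p)) (obj i))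

theorem mask_forest {H : Subgroup (Equiv.Perm GolayPt)} {m n : ℕ} {gens obj gi rt par dep : ℕ → ℕ}
    (hgens : ∀ j < m, ∃ g ∈ H, Rep g (gens j))
    (h : forestOK n rt par dep (maskStep m gens obj gi) = true) :
    ∀ i < n, ∃ g ∈ H, g • GolayBasic.setOf (obj (rt i)) = GolayBasic.setOf (obj i) := by
  refine forest_spec (MaskRel H obj) (MaskRel.refl H obj) MaskRel.trans ?_ h
  intro p i hs
  simp only [maskStep, Bool.and_eq_true] at hs
  obtain ⟨g, hg, hr⟩ := hgens (gi i) (by simpa [Nat.blt] using hs.1)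
  refine ⟨g, hg, ?_⟩
  rw [smul_setOf hr, Nat.eq_of_beq_eq_true hs.2]

/-! ### Chains -/

/-- pointwise stabilisers of initial segments of a sequence of points within a subgroup -/
def FixC (H : Subgroup (Equiv.Perm GolayPt)) (b : ℕ → ℕ) : ℕ → Subgroup (Equiv.Perm GolayPt)
  | 0 => H
  | k + 1 => FixC H b k ⊓ MulAction.stabilizer (Equiv.Perm GolayPt) (ptOf (b k))

theorem mem_FixC {H : Subgroup (Equiv.Perm GolayPt)} {b : ℕ → ℕ} {k : ℕ} {g : Equiv.Perm GolayPt} :
    g ∈ FixC H b k ↔ g ∈ H ∧ ∀ j < k, g (ptOf (b j)) = ptOf (b j) := by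
  induction k with
  | zero => simp [FixC]
  | succ k ih =>
    simp only [FixC, Subgroup.mem_inf, ih, MulAction.mem_stabilizer_iff, Equiv.Perm.smul_def]
    constructor
    · rintro ⟨⟨h1, h2⟩, h3⟩
      refine ⟨h1, fun j hj => ?_⟩
      rcases Nat.lt_succ_iff_lt_or_eq.mp hj with h' | rfl
      · exact h2 j h'
      · exact h3
    · rintro ⟨h1, h2⟩
      exact ⟨⟨h1, fun j hj => h2 j (by omega)⟩, h2 k (by omega)⟩

/-- data of a chain -/
structure ChainData where
  b : ℕ → ℕ
  A : ℕ → ℕ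
  T : ℕ → ℕ → ℕ
  n : ℕ

namespace ChainData
variable (d : ChainData)

/-- transversal check -/
def transOK (inH : ℕ → Bool) (k y : ℕ) : Bool :=
  validB (d.T k y) && inH (d.T k y) && allBelow (fun j => Nat.beq (ap (d.T k y) (d.b j)) (d.b j)) k &&
    Nat.beq (ap (d.T k y) (d.b k)) y

/-- the whole check -/
def ok (inH : ℕ → Bool) : Bool :=
  allBelow (fun k => Nat.blt (d.b k) 24 &&
    allBelow (fun y => cond (tb (d.A k) y) (d.transOK inH k y) true) 24) d.n

section
variable {d} {H : Subgroup (Equiv.Perm GolayPt)} {inH : ℕ → Bool}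

theorem b_lt (hd : d.ok inH = true) {k : ℕ} (hk : k < d.n) : d.b k < 24 := by
  have h := allBelow_spec hd k hk
  simp only [Bool.and_eq_true] at h
  simpa [Nat.blt] using h.1

theorem exists_trans (hH : ∀ g pp, Rep g pp → inH pp = true → g ∈ H) (hd : d.ok inH = true) {k y : ℕ}
    (hk : k < d.n) (hy : y < 24) (hA : (d.A k).testBit y = true) :
    ∃ g ∈ FixC H d.b k, Rep g (d.T k y) ∧ g (ptOf (d.b k)) = ptOf y := by
  have h := allBelow_spec hd k hk
  simp only [Bool.and_eq_true] at h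
  have h1 := allBelow_spec h.2 y hy
  rw [tb_eq, hA, cond_true] at h1
  simp only [transOK, Bool.and_eq_true] at h1
  obtain ⟨⟨⟨h2, h3⟩, h4⟩, h5⟩ := h1
  refine ⟨permOf _ h2, ?_, rep_permOf _ h2, ?_⟩
  · rw [mem_FixC]
    refine ⟨hH _ _ (rep_permOf _ h2) h3, fun j hj => ?_⟩
    have hj' := Nat.eq_of_beq_eq_true (allBelow_spec h4 j hj)
    rw [(rep_permOf _ h2).apply_ptOf (b_lt hd (by omega)), hj']
  · rw [(rep_permOf _ h2).apply_ptOf (b_lt hd hk), Nat.eq_of_beq_eq_true h5]

/-- order recursion in a chain, given the allowed sets -/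
theorem card_succ (hH : ∀ g pp, Rep g pp → inH pp = true → g ∈ H) (hd : d.ok inH = true) {k : ℕ} (hk : k < d.n)
    (himg : ∀ g ∈ FixC H d.b k, (d.A k).testBit (idx (g (ptOf (d.b k)))) = true) :
    Nat.card (FixC H d.b k) = pc (d.A k) * Nat.card (FixC H d.b (k + 1)) := by
  have := card_eq_mul_of_orbit' (G := Equiv.Perm GolayPt) (FixC H d.b k) (ptOf (d.b k)) (GolayBasic.setOf (d.A k))
    (fun g hg => by rw [mem_setOf]; exact himg g hg)
    (fun y hy => by
      rw [mem_setOf] at hy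
      obtain ⟨g, hg, -, h⟩ := exists_trans hH hd hk (idx_lt y) hy
      exact ⟨g, hg, by
        show g (ptOf (d.b k)) = y
        rw [h, ptOf_idx]⟩)
  rw [card_setOf] at this
  exact this

/-- containment from transversals -/
theorem FixC_le (hH : ∀ g pp, Rep g pp → inH pp = true → g ∈ H) (hd : d.ok inH = true) {K : Subgroup (Equiv.Perm GolayPt)}
    {k₀ : ℕ} (hk₀ : k₀ ≤ d.n) (htop : FixC H d.b d.n = ⊥)
    (himg : ∀ k < d.n, ∀ g ∈ FixC H d.b k, (d.A k).testBit (idx (g (ptOf (d.b k)))) = true)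
    (hT : ∀ {k y : ℕ}, k₀ ≤ k → k < d.n → y < 24 → (d.A k).testBit y = true → ∃ g ∈ K, Rep g (d.T k y)) :
    FixC H d.b k₀ ≤ K := by
  have key : ∀ e, e ≤ d.n - k₀ → FixC H d.b (d.n - e) ≤ K := by
    intro e
    induction e with
    | zero =>
      intro _
      show FixC H d.b d.n ≤ K
      rw [htop]; exact bot_le
    | succ e ih =>
      intro he g hg
      set k := d.n - (e + 1) with hk
      have hkn : k < d.n := by omega
      have hk1 : d.n - e = k + 1 := by omega
      have hihk := ih (by omega)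
      rw [hk1] at hihk
      have hA := himg k hkn g hg
      obtain ⟨t, ht, rt, hmap⟩ := exists_trans hH hd hkn (idx_lt (g (ptOf (d.b k)))) hA
      rw [ptOf_idx] at hmap
      obtain ⟨t', ht', rt'⟩ := hT (by omega) hkn (idx_lt (g (ptOf (d.b k)))) hA
      have heq : t' = t := rt'.eq rt
      subst heq
      have hmem : t'⁻¹ * g ∈ FixC H d.b (k + 1) := by
        refine ⟨(FixC H d.b k).mul_mem ((FixC H d.b k).inv_mem ht) hg, ?_⟩
        show t'⁻¹ * g ∈ MulAction.stabilizer (Equiv.Perm GolayPt) (ptOf (d.b k))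
        rw [MulAction.mem_stabilizer_iff, Equiv.Perm.smul_def, Equiv.Perm.mul_apply, ← hmap]
        simp
      have := K.mul_mem ht' (hihk hmem)
      simpa using this
  have := key (d.n - k₀) (le_refl _)
  rwa [show d.n - (d.n - k₀) = k₀ by omega] at this

/-- Every initial tuple can be moved, when the allowed sets contain everything not previously used. -/
theorem exists_tuple (hH : ∀ g pp, Rep g pp → inH pp = true → g ∈ H) (hd : d.ok inH = true)
    (y : ℕ → GolayPt) {K : ℕ} (hK : K ≤ d.n)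
    (hinvar : ∀ g ∈ H, ∀ k < K, ∀ z : GolayPt, (∀ j < k, z ≠ ptOf (d.b j)) → y k = g z →
      (d.A k).testBit (idx z) = true) (hy : ∀ i < K, ∀ j < i, y i ≠ y j) :
    ∃ g ∈ H, ∀ i < K, g (ptOf (d.b i)) = y i := by
  have key : ∀ k ≤ K, ∃ g ∈ H, ∀ i < k, g (ptOf (d.b i)) = y i := by
    intro k
    induction k with
    | zero => exact fun _ => ⟨1, H.one_mem, by simp⟩
    | succ k ih =>
      intro hk
      obtain ⟨g, hg, hgy⟩ := ih (by omega)
      have hkn : k < d.n := by omega
      set z := g⁻¹ (y k) with hz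
      have hykz : y k = g z := by rw [hz]; simp
      have hzb : (d.A k).testBit (idx z) = true := by
        apply hinvar g hg k (by omega) z _ hykz
        intro j hj he
        rw [he, hgy j hj] at hykz
        exact hy k (by omega) j hj hykz
      obtain ⟨t, ht, -, htz⟩ := exists_trans hH hd hkn (idx_lt z) hzb
      rw [ptOf_idx] at htz
      obtain ⟨htM, htfix⟩ := mem_FixC.1 ht
      refine ⟨g * t, H.mul_mem hg htM, fun i hi => ?_⟩
      rw [Equiv.Perm.mul_apply]
      rcases Nat.lt_succ_iff_lt_or_eq.mp hi with h' | rfl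
      · rw [htfix i h', hgy i h']
      · rw [htz, hz]; simp
  exact key K (le_refl _)

/-- Check that all transversals from level `k₀` occur in the list. -/
def transInList (d : ChainData) (k₀ : ℕ) (v : List ℕ) : Bool :=
  allBelow (fun k => allBelow (fun y =>
    cond (and (Nat.ble k₀ k) (tb (d.A k) y))
      (or (Nat.beq (d.T k y) idP) (memB (d.T k y) v))
      true) 24) d.n

/-- containment from a straight line program -/
theorem FixC_le_of_slp (hH : ∀ g pp, Rep g pp → inH pp = true → g ∈ H) (hd : d.ok inH = true)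
    {K : Subgroup (Equiv.Perm GolayPt)} {k₀ : ℕ} (hk₀ : k₀ ≤ d.n) (htop : FixC H d.b d.n = ⊥)
    (himg : ∀ k < d.n, ∀ g ∈ FixC H d.b k, (d.A k).testBit (idx (g (ptOf (d.b k)))) = true)
    {init : List ℕ} {stepR n : ℕ} (hinit : ∀ pp ∈ init, ∃ g ∈ K, Rep g pp)
    (hcheck : d.transInList k₀ (runS init stepR n) = true) : FixC H d.b k₀ ≤ K := by
  apply FixC_le hH hd hk₀ htop himg
  intro k y hk0 hk hy hA
  have h := allBelow_spec (allBelow_spec hcheck k hk) y hy
  have hb : Nat.ble k₀ k = true := Nat.ble_eq_true_of_le hk0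
  simp only [tb_eq, hA, hb, Bool.and_true, cond_true, Bool.or_eq_true] at h
  rcases h with h | h
  · rw [Nat.eq_of_beq_eq_true h]
    exact ⟨1, K.one_mem, rep_one⟩
  · exact runS_rep stepR hinit n _ (mem_of_memB h)

end
end ChainData

/-- generic transport of stabilisers -/
theorem mem_conj_stab {X : Type*} [MulAction (Equiv.Perm GolayPt) X] (w g : Equiv.Perm GolayPt) (a : X) :
    g ∈ MulAction.stabilizer (Equiv.Perm GolayPt) a ↔
      w * g * w⁻¹ ∈ MulAction.stabilizer (Equiv.Perm GolayPt) (w • a) := by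
  rw [MulAction.mem_stabilizer_iff, MulAction.mem_stabilizer_iff]
  constructor
  · intro h
    rw [mul_smul, mul_smul, inv_smul_smul, h]
  · intro h
    rw [mul_smul, mul_smul, inv_smul_smul] at h
    exact MulAction.injective w h

theorem mem_M24_conj {w g : Equiv.Perm GolayPt} (hw : w ∈ M24) : g ∈ M24 ↔ w * g * w⁻¹ ∈ M24 := by
  constructor
  · intro h
    exact M24.mul_mem (M24.mul_mem hw h) (M24.inv_mem hw)
  · intro h
    have := M24.mul_mem (M24.mul_mem (M24.inv_mem hw) h) hw
    simpa [mul_assoc] using this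

/-- the stabiliser of an object inside the group, as a subgroup of permutations -/
def stabEquiv {X : Type*} [MulAction (Equiv.Perm GolayPt) X] (a : X) :
    MulAction.stabilizer M24 a ≃* ↥(M24 ⊓ MulAction.stabilizer (Equiv.Perm GolayPt) a) where
  toFun g := ⟨g.1.1, g.1.2, MulAction.mem_stabilizer_iff.2 (MulAction.mem_stabilizer_iff.1 g.2)⟩
  invFun g := ⟨⟨g.1, g.2.1⟩, MulAction.mem_stabilizer_iff.2 (MulAction.mem_stabilizer_iff.1 g.2.2)⟩
  left_inv g := rfl
  right_inv g := rfl
  map_mul' x y := rfl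

/-- the joint stabiliser of two objects inside the group, as a subgroup of permutations -/
def stabEquiv₂ {X Y : Type*} [MulAction (Equiv.Perm GolayPt) X] [MulAction (Equiv.Perm GolayPt) Y] (a : X) (c : Y) :
    ↥(MulAction.stabilizer M24 a ⊓ MulAction.stabilizer M24 c) ≃*
      ↥(M24 ⊓ MulAction.stabilizer (Equiv.Perm GolayPt) a ⊓ MulAction.stabilizer (Equiv.Perm GolayPt) c) where
  toFun g := ⟨g.1.1, ⟨g.1.2, MulAction.mem_stabilizer_iff.2 (MulAction.mem_stabilizer_iff.1 g.2.1)⟩,
    MulAction.mem_stabilizer_iff.2 (MulAction.mem_stabilizer_iff.1 g.2.2)⟩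
  invFun g := ⟨⟨g.1, g.2.1.1⟩, MulAction.mem_stabilizer_iff.2 (MulAction.mem_stabilizer_iff.1 g.2.1.2),
    MulAction.mem_stabilizer_iff.2 (MulAction.mem_stabilizer_iff.1 g.2.2)⟩
  left_inv g := rfl
  right_inv g := rfl
  map_mul' x y := rfl

/-- stabilisers of conjugate objects are isomorphic -/
theorem stab_conj_equiv {X : Type*} [MulAction (Equiv.Perm GolayPt) X] {w : Equiv.Perm GolayPt} (hw : w ∈ M24) (a : X) :
    Nonempty (↥(M24 ⊓ MulAction.stabilizer (Equiv.Perm GolayPt) a) ≃*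
      ↥(M24 ⊓ MulAction.stabilizer (Equiv.Perm GolayPt) (w • a))) :=
  ⟨GolayM23.conjEquiv w (fun g => by
    simp only [Subgroup.mem_inf]
    rw [← mem_M24_conj hw, ← mem_conj_stab])⟩

theorem stab_conj_equiv₂ {X Y : Type*} [MulAction (Equiv.Perm GolayPt) X] [MulAction (Equiv.Perm GolayPt) Y]
    {w : Equiv.Perm GolayPt} (hw : w ∈ M24) (a : X) (c : Y) :
    Nonempty (↥(M24 ⊓ MulAction.stabilizer (Equiv.Perm GolayPt) a ⊓ MulAction.stabilizer (Equiv.Perm GolayPt) c) ≃*
      ↥(M24 ⊓ MulAction.stabilizer (Equiv.Perm GolayPt) (w • a) ⊓ MulAction.stabilizer (Equiv.Perm GolayPt) (w • c))) :=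
  ⟨GolayM23.conjEquiv w (fun g => by
    simp only [Subgroup.mem_inf]
    rw [← mem_M24_conj hw, ← mem_conj_stab, ← mem_conj_stab])⟩

/-- Criterion for simplicity of a subgroup `K` of the group of the code, from a listing of the centraliser. -/
theorem simple_of_data {K : Subgroup (Equiv.Perm GolayPt)} {p : ℕ} [hp : Fact p.Prime] (hKM : K ≤ M24)
    (d : ConjData) (hd : d.ok (fun _ => true) = true)
    (hCC : d.C' = d.C) (hAl : ∀ j, d.Al j = powP d.C j) (hL : d.L = p)
    (hval : validB d.C = true) (hcK : ∀ c, Rep c d.C → c ∈ K)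
    (hpow : Nat.beq (powP d.C p) idP = true) {i₀ : ℕ} (hi₀ : i₀ < 24) (hne : ap d.C i₀ ≠ i₀)
    (hidx : ¬ p ^ 2 ∣ Nat.card K) (hperf : commutator K = ⊤)
    (hN : ∀ N : Subgroup K, N.Normal → N ≠ ⊥ → p ∣ Nat.card N) (hnt : Nontrivial K) : IsSimpleGroup K := by
  let c := permOf d.C hval
  have hc : Rep c d.C := rep_permOf _ _
  have hcF : c ∈ K := hcK c hc
  have hord : orderOf c = p := orderOf_of_rep hp.out hc hpow hi₀ hne
  let a : K := ⟨c, hcF⟩
  have ha : orderOf a = p := by
    rw [← Subgroup.orderOf_coe a]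
    exact hord
  haveI : Finite K := inferInstance
  refine SimpleCrit.isSimple_of_selfCentralizing (p := p) a ha ?_ ?_ hperf hN
  · intro hdvd
    apply hidx
    have h1 := Subgroup.card_mul_index (Subgroup.zpowers a)
    rw [Nat.card_zpowers, ha] at h1
    rw [← h1, pow_two]
    exact Nat.mul_dvd_mul_left p hdvd
  · intro g hg
    have hg' : (g : Equiv.Perm GolayPt) * c = c * g := by
      have := congrArg Subtype.val hg.eq
      exact this
    have hc' : Rep c d.C' := by rw [hCC]; exact hc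
    obtain ⟨j, hj, hrep⟩ := d.spec (fun _ => true) hd hc hc' (hKM g.2) hg' (fun _ _ => rfl)
    rw [hAl] at hrep
    have h2 : (g : Equiv.Perm GolayPt) = c ^ j := hrep.eq (rep_powP hc j)
    refine ⟨j, ?_⟩
    apply Subtype.ext
    simpa [a] using h2.symm

/-- normal subgroups of a subgroup acting 2-transitively and faithfully on a set of points -/
theorem normal_card_dvd {K : Subgroup (Equiv.Perm GolayPt)} (Ω : Finset GolayPt) (hne : Ω.Nonempty)
    (h2 : ∀ x ∈ Ω, ∀ y ∈ Ω, ∀ u ∈ Ω, ∀ v ∈ Ω, x ≠ y → u ≠ v → ∃ g ∈ K, g x = u ∧ g y = v)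
    (hfaith : ∀ g ∈ K, (∀ x ∈ Ω, g x = x) → g = 1) (hinv : ∀ g ∈ K, ∀ x ∈ Ω, g x ∈ Ω)
    {N : Subgroup K} (hN : N.Normal) (hbot : N ≠ ⊥) : Ω.card ∣ Nat.card N := by
  classical
  obtain ⟨x₀, hx₀⟩ := hne
  have htr : ∀ v ∈ Ω, ∃ n ∈ N, n • x₀ = v := by
    intro v hv
    refine SimpleCrit.normal_transitive_of_two (G := K) (Ω := (Ω : Set GolayPt)) ?_ ?_ ?_ hN hbot hx₀ hv
    · intro x hx y hy u hu v hv hxy huv
      obtain ⟨g, hg, h1, h2⟩ := h2 x hx y hy u hu v hv hxy huv
      exact ⟨⟨g, hg⟩, h1, h2⟩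
    · intro g hg
      apply Subtype.ext
      exact hfaith g.1 g.2 hg
    · intro g p hp
      exact hinv g.1 g.2 p hp
  have := card_eq_mul_of_orbit' (G := K) (X := GolayPt) N x₀ Ω (fun g _ => hinv g.1 g.2 x₀ hx₀) htr
  rw [this]
  exact dvd_mul_right _ _

end Cfsg.Agent.Lib.GolayChain
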