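import Cfsg.Agent.Lib.GolayOrder
/-!
Consequences of the stabiliser chain: multiple transitivity, generators, Steiner property.
-/
set_option autoImplicit false
set_option linter.unusedSimpArgs false
set_option linter.unusedVariables false
set_option maxRecDepth 100000
open Cfsg
open scoped Pointwise

namespace Cfsg.Agent.Lib.GolayFacts
open Cfsg.Agent.Lib.GolayBasic Cfsg.Agent.Lib.GolayCode Cfsg.Agent.Lib.GolayPerm Cfsg.Agent.Lib.GolayOrder

/-! ### Generators -/

theorem rep_pA : Rep (Equiv.optionCongr (Equiv.addRight (1 : ZMod 23))) pA := by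
  intro p; revert p; decide +kernel

theorem rep_pW : Rep projInv pW := by
  intro p; revert p; decide +kernel

theorem rep_pTW : Rep cubeTwist pTW := by
  intro p
  show idx (cubeTwistFun p) = _
  revert p; decide +kernel

theorem gA_mem : Equiv.optionCongr (Equiv.addRight (1 : ZMod 23)) ∈ M24 :=
  mem_M24_of_check rep_pA (by decide +kernel)

theorem gW_mem : projInv ∈ M24 := mem_M24_of_check rep_pW (by decide +kernel)

theorem gT_mem : cubeTwist ∈ M24 := mem_M24_of_check rep_pTW (by decide +kernel)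

/-- The three generators generate. -/
theorem closure_gens :
    Subgroup.closure {Equiv.optionCongr (Equiv.addRight (1 : ZMod 23)), projInv, cubeTwist} = M24 := by
  apply le_antisymm
  · rw [Subgroup.closure_le]
    rintro g (rfl | rfl | rfl)
    · exact gA_mem
    · exact gW_mem
    · exact gT_mem
  · apply M24_le_closure
    have ha : Equiv.optionCongr (Equiv.addRight (1 : ZMod 23)) ∈
        Subgroup.closure {Equiv.optionCongr (Equiv.addRight (1 : ZMod 23)), projInv, cubeTwist} :=
      Subgroup.subset_closure (by simp)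
    have hw : projInv ∈
        Subgroup.closure {Equiv.optionCongr (Equiv.addRight (1 : ZMod 23)), projInv, cubeTwist} :=
      Subgroup.subset_closure (by simp)
    have ht : cubeTwist ∈
        Subgroup.closure {Equiv.optionCongr (Equiv.addRight (1 : ZMod 23)), projInv, cubeTwist} :=
      Subgroup.subset_closure (by simp)
    intro pp hpp
    simp only [initL, List.mem_cons, List.not_mem_nil, or_false] at hpp
    rcases hpp with rfl | rfl | rfl | rfl | rfl | rfl
    · exact ⟨_, Subgroup.inv_mem _ ht, rep_pTW.inv (by decide +kernel)⟩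
    · exact ⟨_, Subgroup.inv_mem _ hw, rep_pW.inv (by decide +kernel)⟩
    · exact ⟨_, Subgroup.inv_mem _ ha, rep_pA.inv (by decide +kernel)⟩
    · exact ⟨_, ht, rep_pTW⟩
    · exact ⟨_, hw, rep_pW⟩
    · exact ⟨_, ha, rep_pA⟩

/-! ### Multiple transitivity -/

theorem A_full_check : ∀ k < 5, ∀ y < 24, (∀ j < k, y ≠ b j) → (A k).testBit y = true := by decide +kernel

/-- Up to five base points can be moved anywhere. -/
theorem exists_base_tuple (y : ℕ → GolayPt) :
    ∀ k ≤ 5, (∀ i < k, ∀ j < i, y i ≠ y j) → ∃ g ∈ M24, ∀ i < k, g (ptOf (b i)) = y i := by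
  intro k
  induction k with
  | zero => intro _ _; exact ⟨1, M24.one_mem, by simp⟩
  | succ k ih =>
    intro hk hy
    obtain ⟨g, hg, hgy⟩ := ih (by omega) (fun i hi j hj => hy i (by omega) j hj)
    have hk7 : k < 7 := by omega
    set z := g⁻¹ (y k) with hz
    have hzb : (A k).testBit (idx z) = true := by
      apply A_full_check k (by omega) _ (idx_lt z)
      intro j hj he
      have h1 : z = ptOf (b j) := by rw [← ptOf_idx z, he]
      have h2 : y k = g z := by rw [hz]; simp
      rw [h1, hgy j hj] at h2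
      exact hy k (by omega) j hj h2
    obtain ⟨t, ht, -, htz⟩ := exists_trans hk7 (idx_lt z) hzb
    rw [ptOf_idx] at htz
    obtain ⟨htM, htfix⟩ := mem_Fix.1 ht
    refine ⟨g * t, M24.mul_mem hg htM, fun i hi => ?_⟩
    rw [Equiv.Perm.mul_apply]
    rcases Nat.lt_succ_iff_lt_or_eq.mp hi with h' | rfl
    · rw [htfix i h', hgy i h']
    · rw [htz, hz]; simp

/-- Moving one injective tuple of length at most five to another. -/
theorem exists_move (x y : ℕ → GolayPt) {k : ℕ} (hk : k ≤ 5) (hx : ∀ i < k, ∀ j < i, x i ≠ x j)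
    (hy : ∀ i < k, ∀ j < i, y i ≠ y j) : ∃ g ∈ M24, ∀ i < k, g (x i) = y i := by
  obtain ⟨g, hg, hgx⟩ := exists_base_tuple x k hk hx
  obtain ⟨h, hh, hhy⟩ := exists_base_tuple y k hk hy
  refine ⟨h * g⁻¹, M24.mul_mem hh (M24.inv_mem hg), fun i hi => ?_⟩
  rw [Equiv.Perm.mul_apply, ← hgx i hi]
  simp [hhy i hi]

theorem fiveTransitive : MulAction.IsMultiplyPretransitive M24 GolayPt 5 := by
  constructor
  intro x y
  let ex : ℕ → GolayPt := fun i => if h : i < 5 then x ⟨i, h⟩ else none
  let ey : ℕ → GolayPt := fun i => if h : i < 5 then y ⟨i, h⟩ else none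
  have hinj : ∀ (u : Fin 5 ↪ GolayPt), ∀ i < 5, ∀ j < i,
      (if h : i < 5 then u ⟨i, h⟩ else none) ≠ (if h : j < 5 then u ⟨j, h⟩ else none) := by
    intro u i hi j hj he
    rw [dif_pos hi, dif_pos (by omega : j < 5)] at he
    have := u.injective he
    simp only [Fin.mk.injEq] at this
    omega
  obtain ⟨g, hg, hgm⟩ := exists_move ex ey (le_refl 5) (hinj x) (hinj y)
  refine ⟨⟨g, hg⟩, ?_⟩
  apply Function.Embedding.ext
  intro i
  have := hgm i.1 i.2
  simp only [ex, ey, i.2, dif_pos] at this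
  show g (x i) = _
  rw [show x i = x ⟨i.1, i.2⟩ from rfl, this]

/-- transitivity on points -/
theorem exists_move_point (p q : GolayPt) : ∃ g ∈ M24, g p = q := by
  obtain ⟨g, hg, h⟩ := exists_move (fun _ => p) (fun _ => q) (k := 1) (by norm_num)
    (fun i hi j hj => by omega) (fun i hi j hj => by omega)
  exact ⟨g, hg, h 0 (by norm_num)⟩

/-- two-transitivity -/
theorem exists_move_pair {p q r s : GolayPt} (hpq : p ≠ q) (hrs : r ≠ s) :
    ∃ g ∈ M24, g p = r ∧ g q = s := by
  obtain ⟨g, hg, h⟩ := exists_move (fun i => if i = 0 then p else q) (fun i => if i = 0 then r else s) (k := 2) (by norm_num)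
    (fun i hi j hj => by
      have hi' : i = 1 := by omega
      have hj' : j = 0 := by omega
      subst hi' hj'
      simpa using hpq.symm)
    (fun i hi j hj => by
      have hi' : i = 1 := by omega
      have hj' : j = 0 := by omega
      subst hi' hj'
      simpa using hrs.symm)
  exact ⟨g, hg, by simpa using h 0 (by norm_num), by simpa using h 1 (by norm_num)⟩

/-! ### Octads and the Steiner property -/

theorem setOf_O0_mem : setOf O0 ∈ octads :=
  (setOf_mem_octads (O0_inCode).1).2 ⟨O0_inCode, O0_pc⟩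

theorem b_mem_O0 : ∀ i < 5, O0.testBit (b i) = true := by decide +kernel

theorem ptOf_b_mem_O0 {i : ℕ} (hi : i < 5) : ptOf (b i) ∈ setOf O0 := by
  rw [mem_setOf, idx_ptOf (b_lt (by omega))]
  exact b_mem_O0 i hi

theorem octad_eq_of_inter {o o' : Finset GolayPt} (ho : o ∈ octads) (ho' : o' ∈ octads)
    (h5 : 5 ≤ (o ∩ o').card) : o = o' := by
  obtain ⟨i, hi, rfl⟩ := mem_octads_iff.1 ho
  obtain ⟨j, hj, rfl⟩ := mem_octads_iff.1 ho'
  rw [← setOf_land, card_setOf] at h5
  rw [eq_of_pc_inter (octAt_inCode hi) (octAt_inCode hj) (octAt_pc hi) (octAt_pc hj) h5]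

/-- enumerate a finite set -/
theorem exists_enum (s : Finset GolayPt) :
    ∃ y : ℕ → GolayPt, (∀ i < s.card, y i ∈ s) ∧ (∀ i < s.card, ∀ j < i, y i ≠ y j) ∧
      ∀ p ∈ s, ∃ i < s.card, y i = p := by
  let e := s.equivFin
  refine ⟨fun i => if h : i < s.card then (e.symm ⟨i, h⟩ : GolayPt) else none, ?_, ?_, ?_⟩
  · intro i hi
    simp only [hi, dif_pos]
    exact (e.symm ⟨i, hi⟩).2
  · intro i hi j hj he
    simp only [hi, dif_pos, show j < s.card by omega] at he
    have h2 := e.symm.injective (Subtype.ext he)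
    simp only [Fin.mk.injEq] at h2
    omega
  · intro p hp
    refine ⟨(e ⟨p, hp⟩).1, (e ⟨p, hp⟩).2, ?_⟩
    simp only [(e ⟨p, hp⟩).2, dif_pos]
    simp

theorem exists_octad_image {s : Finset GolayPt} (hs : s.card = 5) :
    ∃ g ∈ M24, s ⊆ g • setOf O0 := by
  obtain ⟨y, h1, h2, h3⟩ := exists_enum s
  rw [hs] at h1 h2 h3
  obtain ⟨g, hg, hgy⟩ := exists_base_tuple y 5 (le_refl _) h2
  refine ⟨g, hg, fun p hp => ?_⟩
  obtain ⟨i, hi, rfl⟩ := h3 p hp
  rw [← hgy i hi]
  exact Finset.smul_mem_smul_finset (ptOf_b_mem_O0 hi)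

/-- Every 5-set lies in a unique octad. -/
theorem steiner : IsSteinerSystem 5 8 octads := by
  constructor
  · intro o ho
    obtain ⟨i, hi, rfl⟩ := mem_octads_iff.1 ho
    rw [card_setOf, octAt_pc hi]
  · intro s hs
    obtain ⟨g, hg, hsub⟩ := exists_octad_image hs
    refine ⟨g • setOf O0, ⟨M24_smul_octad hg setOf_O0_mem, hsub⟩, ?_⟩
    rintro o ⟨ho, hso⟩
    apply octad_eq_of_inter ho (M24_smul_octad hg setOf_O0_mem)
    rw [← hs]
    exact Finset.card_le_card (Finset.subset_inter hso hsub)

/-- transitivity on octads: from the base octad -/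
theorem exists_smul_O0 {o : Finset GolayPt} (ho : o ∈ octads) : ∃ g ∈ M24, g • setOf O0 = o := by
  obtain ⟨s, hs, hcard⟩ := Finset.exists_subset_card_eq (s := o) (n := 5) (by
    rw [steiner.1 o ho]; norm_num)
  obtain ⟨g, hg, hsub⟩ := exists_octad_image hcard
  refine ⟨g, hg, ?_⟩
  apply octad_eq_of_inter (M24_smul_octad hg setOf_O0_mem) ho
  rw [← hcard]
  exact Finset.card_le_card (Finset.subset_inter hsub hs)

theorem transitive_octads {o o' : Finset GolayPt} (ho : o ∈ octads) (ho' : o' ∈ octads) :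
    ∃ g ∈ M24, g • o = o' := by
  obtain ⟨g, hg, rfl⟩ := exists_smul_O0 ho
  obtain ⟨h, hh, rfl⟩ := exists_smul_O0 ho'
  refine ⟨h * g⁻¹, M24.mul_mem hh (M24.inv_mem hg), ?_⟩
  rw [mul_smul, inv_smul_smul]

/-! ### General orbit-stabiliser -/

/-- orbit-stabiliser for a subgroup of a group acting -/
theorem card_eq_mul_of_orbit' {G X : Type*} [Group G] [MulAction G X] (K : Subgroup G) (x : X) (s : Finset X)
    (h1 : ∀ g ∈ K, g • x ∈ s) (h2 : ∀ y ∈ s, ∃ g ∈ K, g • x = y) :
    Nat.card K = s.card * Nat.card (K ⊓ MulAction.stabilizer G x : Subgroup G) := by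
  classical
  have horb : (MulAction.orbit K x) = (s : Set X) := by
    ext y
    simp only [MulAction.mem_orbit_iff, Finset.mem_coe]
    constructor
    · rintro ⟨g, rfl⟩
      exact h1 g g.2
    · intro hy
      obtain ⟨g, hg, rfl⟩ := h2 y hy
      exact ⟨⟨g, hg⟩, rfl⟩
  have hcard := Nat.card_congr (MulAction.orbitProdStabilizerEquivGroup K x)
  rw [Nat.card_prod, horb] at hcard
  rw [← hcard]
  congr 1
  · simp
  · apply Nat.card_congr
    exact {
      toFun := fun g => ⟨g.1.1, g.1.2, (MulAction.mem_stabilizer_iff.1 g.2 : _)⟩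
      invFun := fun g => ⟨⟨g.1, g.2.1⟩, MulAction.mem_stabilizer_iff.2 (MulAction.mem_stabilizer_iff.1 g.2.2)⟩
      left_inv := fun g => rfl
      right_inv := fun g => rfl }

/-- stabilisers in a group of finite order from a full orbit count -/
theorem card_stab_of_orbit {G X : Type*} [Group G] [MulAction G X] (x : X) (s : Finset X)
    (h1 : ∀ g : G, g • x ∈ s) (h2 : ∀ y ∈ s, ∃ g : G, g • x = y) :
    Nat.card G = s.card * Nat.card (MulAction.stabilizer G x) := by
  have := card_eq_mul_of_orbit' (⊤ : Subgroup G) x s (fun g _ => h1 g)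
    (fun y hy => by obtain ⟨g, hg⟩ := h2 y hy; exact ⟨g, trivial, hg⟩)
  rw [top_inf_eq, Subgroup.card_top] at this
  exact this

/-- self-orthogonality -/
theorem code_orth {v w : GolayPt → ZMod 2} (hv : v ∈ golayCode) (hw : w ∈ golayCode) : ∑ i, v i * w i = 0 := by
  obtain ⟨a, ha, rfl⟩ := mem_golayCode_iff.1 hv
  obtain ⟨b, hb, rfl⟩ := mem_golayCode_iff.1 hw
  rw [sum_wordOf_mul]
  have h := pc_xor_add a b
  have hw1 := weights ha
  have hw2 := weights hb
  have hw3 := weights (ha.xor hb)
  have : 2 ∣ pc (a &&& b) := by omega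
  obtain ⟨c, hc⟩ := this
  rw [hc]
  push_cast
  have : (2 : ZMod 2) = 0 := by decide
  rw [this, zero_mul]

/-- point stabiliser order -/
theorem card_stab_point (p : GolayPt) : Nat.card (MulAction.stabilizer M24 p) = 10200960 := by
  have := card_stab_of_orbit (G := M24) p Finset.univ (fun _ => Finset.mem_univ _)
    (fun y _ => by
      obtain ⟨g, hg, h⟩ := exists_move_point p y
      exact ⟨⟨g, hg⟩, h⟩)
  rw [card_M24] at this
  simp only [Finset.card_univ] at this
  have h24 : Fintype.card GolayPt = 24 := by decide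
  rw [h24] at this
  omega

/-- two-point stabiliser order -/
theorem card_stab_two {p q : GolayPt} (hpq : p ≠ q) :
    Nat.card ↥(MulAction.stabilizer M24 p ⊓ MulAction.stabilizer M24 q) = 443520 := by
  have := card_eq_mul_of_orbit' (MulAction.stabilizer M24 p) q (Finset.univ.erase p)
    (fun g hg => by
      rw [Finset.mem_erase]
      refine ⟨fun h => hpq ?_, Finset.mem_univ _⟩
      have h2 : g • p = p := hg
      exact (MulAction.injective g) (h.trans h2.symm).symm ▸ rfl)
    (fun y hy => by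
      rw [Finset.mem_erase] at hy
      obtain ⟨g, hg, h1, h2⟩ := exists_move_pair hpq hy.1.symm
      exact ⟨⟨g, hg⟩, h1, h2⟩)
  rw [card_stab_point, Finset.card_erase_of_mem (Finset.mem_univ _), Finset.card_univ] at this
  have h24 : Fintype.card GolayPt = 24 := by decide
  rw [h24] at this
  omega

end Cfsg.Agent.Lib.GolayFacts
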