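import Cfsg.Agent.Lib.GolayTools
/-!
Simplicity of the one- and two-point stabilisers of the group of the code, and of the group itself.
-/
set_option autoImplicit false
set_option linter.unusedSimpArgs false
set_option linter.unusedVariables false
set_option linter.style.haveILetI false
set_option maxRecDepth 100000
open Cfsg
open scoped Pointwise

namespace Cfsg.Agent.Lib.GolayM23
open Cfsg.Agent.Lib
open Cfsg.Agent.Lib.GolayBasic Cfsg.Agent.Lib.GolayCode Cfsg.Agent.Lib.GolayPerm Cfsg.Agent.Lib.GolayOrder
open Cfsg.Agent.Lib.GolayFacts Cfsg.Agent.Lib.GolayTools
/-- packed element -/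
def Au1 : ℕ := 923546232773130010534555341271717120
/-- packed element -/
def Av1 : ℕ := 688363871831000791438121864122218912
/-- packed element -/
def Au2 : ℕ := 541406228378986280478120769381253376
/-- packed element -/
def Av2 : ℕ := 93518015940521405592055621444939040
/-- packed element -/
def Ax1 : ℕ := 543507118670092433721305394836819200
/-- packed element -/
def Ax2 : ℕ := 464169984034642297736465375786586400
/-- packed element -/
def Ax1i : ℕ := 194001349664554562988528955496487456
/-- packed element -/
def Ax2i : ℕ := 753697417906240724976681099827922112
/-- program -/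
def AstepR : ℕ := 33926933898654271332236091216658407985457666606940155240084230093443134319441742693026364795599694272980030404896703891379457335063740273175817403020955328455208724950082644327694325589759951830842785591005063037796263495605754235212107851448591302335935723559705417651095466318566590954447601468312780383739139090226667673848741083362522708377668342324790670240957467505885369845573050738061070956027213391337262340051235308598577985496300158098443965084045443250070868139769145148294957502027002929979581940523167132263541830129467401299326863772612448246947933066064412695075413232721204059131483459328588965687076007593958944016962971595275507250985244617510762693670868751374946528216949689677823743887704015348008663942196711144271567705577433772186286091360225217577693913524747790047030595298153978859756043607029849382215275636498109221508343752787049695283641706917610696985283218049542939775290010983286615922767349949607324034453060382862767147099221590831974928757326995792968501780865684757299477986674179240832770172373310305405008140969820805416038538134461624175551509935273358183683575646188974002584536687188987174225115690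459136261619089780190190568334566745694631539327170690286972221780815106905972171310845626383430716861864414890857625003145453251344931937534722288235573633371472030484118306616136176809411900042356820165670714833457455199253980761150199430449437379281651517098790384340876068824611259182400695993359549235595013346195096730777754860869533256355197905177644386299420189596824246658993117586685001145277172377143598817907087762143716872378646736393700664673247403985517052543828961004187956950980669491453578871838175818411687659372818677311181567435623565414667704314477838095827783089408897787690299806370709655863649643049789884699351647979674461770660071088398603262092254570124315751722061210626857919677238203202124116244694094916088153801994640512106765755275049951562845958965860176366981166777786675914348990363266386427506372158155503847101339748074894107900407260431184324639997728128528857732154731356079610023605739002494320025410949413398286147666993364738259971846454753705112633721237596102362147373794764370991654949206184088114525158180136035165549364678145810536386797479692591891149322570402047669268202891244450086615688762695890656006492799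75621133609172114601742556440538755274531029635462695322993051231646878222950763634897462743224517219835333197654553222506393498632254200324358630925675247160136606836985721915042409086740034249216500910817001798670327207162833425992593289523952350944728078540801440582736233388884669168063681944398211607690697716490677217948962726503133865625716699879501911583802044084574178970465188671442326984082720894389153794104731212953557908091845654960058890641623390773244914093005684744748151307674608701128108392159388304464676334364063368646461775405510295879916574303152020470643775906871090591528652609520977892146060761051785363716854361228110330195092315135826611719591240294668194771038148731639376163327708966411323328834429710969523093957327641664647552115135776510276524801043211494301146897491427125678896952020515639974094755228349028770105584712819050671325180327364165021326070716168644512228431260087913713124727133504474929681429808038143013966955015530126359750993802607480036062282890821963092292097887311233190217785040531995246744923078397724308940352880972906556288307173353394972879747107463132016310304347058891896141858233349151724491627635637409741137936479037005349568918846677147373100460268256936526915984097470458965072790407531740299030599084706947707862634661079232159880782611396139292395128037678379634305695851380842315929307726004622908210436344398492511828525087288274755967595058951028313792870149082325567333865650168265966991792140268488386030728429966065538311562981077432585162179878822698768016313011267656426277519787067100090801896543620034778481518074438666560328858602041537708136071000831450331737283365272690992099088607084972111688188364364038655678225697484803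
/-- program length -/
def An : ℕ := 555
/-- initial list -/
def Ainit : List ℕ := [Ax2i, Ax1i, Ax2, Ax1]
/-- packed element -/
def Bu1 : ℕ := 849805775226071791479181260647211040
/-- packed element -/
def Bv1 : ℕ := 504438122513328026711934077452593184
/-- packed element -/
def Bu2 : ℕ := 110876592761338416001593391096344608
/-- packed element -/
def Bv2 : ℕ := 888585207253089280438016971786225696
/-- packed element -/
def Bx1 : ℕ := 667684926798043375544503140963495968
/-- packed element -/
def Bx2 : ℕ := 753270084752706067020862349211939872
/-- packed element -/
def Bx1i : ℕ := 234318291654751853577852703582967840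
/-- packed element -/
def Bx2i : ℕ := 382223900102653742991723417129094176
/-- program -/
def BstepR : ℕ := 22507922531239358653604913399101091414459898677404685645373629106525484247284483099624453103154532742612812283253795381212210265593784506845372314158202794102463582051686180037254856142836710129023946078423992068058072101303363588736025446811494289287412134729871190375075822805305701991149827654603021123619755229436471847666430911610757823115349297376214492262120230590194930712507965743604431613335805093878692367310686928337536690545733456286067241325012916353631690450159455791338779033932275238411120595282063920941552823587650296429288541915467062587130857846363189201684917649217779746487615028326480000578466797202340785865700430511359353310046404950609334919593793571073537672990564297918914042521282742605363979366439526176287110850447450106505146765360317102734831790564629999649379654216001745840564278577399555990635305844704010121209284907655403434071964985406448733531524526895167254874028723637811832431668959979284163436579848166311025384442115377172294210808693801324826918374279080230876244242861574518331951716169361582841009012167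12183157262781653489778893408073637335948371950529229514448288722892063681303383166396270928996627860281080001729495884971792610497716411011187348947407847887419984771068403107123933269158676545139066964901939062674110016399665431859188731929121658109048355926147816626124789275599704569818072477380483577707092819873398860506013638218034310853919710375959662225797081800691560146302970364890542792820414371668258129802860743852805444344800435936917844505613999205246531961479229361240175033273949695282772667793384207887428710192682418280980792099581587418740916145625460268736070270434171458605109619334266458076612121146976037442767975587625316308978184939692053646576320824702179868008649134053462017868900761784865095534431083466531077015435897398426600225255482361753864213909539875894402099990842443318455208390173346147742433965015981427718201636573839053977522608601765314464005409444946463620625325718344405819059925071599812500218384174757246984730273281809465119727506644289891759055699791381782157370090696687713854023116074384206355949977470811920723117757469650163831191313413074042892962080592936638968830771329307368831270565239196761061718134582417698989527209426149824164163953222050068966827533766396293997535527414496423795909625157357767355090540595818879079746264423915408849138682746732107051616999806940372190753909452065600269333519255480330246336879919384204508392435184302183773584456403321697973271510265153650125858086052738414574511350585277134626651525878043151030780345470865077008459719638709793770000744901595071885653903775399287768343019635054718856955418071656452777341772340878192914155778112846798494196539443857230719303191952985272785393134379483070026583323326454447725143758020332699307225091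
/-- program length -/
def Bn : ℕ := 386
/-- initial list -/
def Binit : List ℕ := [Bx2i, Bx1i, Bx2, Bx1]

/-- element -/
def cAC : ℕ := 928413874498667716355043516223936224
/-- element -/
def cACp : ℕ := 928413874498667716355043516223936224
/-- moving the base -/
def cAW : ℕ := 853385755337623428635167700572035809
/-- moving the base -/
def cAWi : ℕ := 44934713751835615772773350508146697
/-- table of the elements moving the base -/
def cAUR : ℕ := 1250007413740052866962213500685190583421128769280548353964020709075950848399511958617433909225710875748802467684031738299475050168492329830720480012112802834902299417430366001781682925451333902845180443690144775436860307300496223674803826327947680039921216916791482921275797911293421551707061015806014426878733636512179088822934394527390658495642526864455593878666060722859402272776097066574229225711189776728607050643959139506149801495356451322284910852855275440394748166053844078903444232347128676711663898961132090394981098092172540321494786957965945636293310543418629648039303671346064452410565977363696559420912988469728465105517321315868698887192758709292112396228453603589181280967337739222302281897437334081418391616068431242778560618285255830024387364158405883194434280541965434009997465414960366424661733205215665573144955096683807171568961196352367230976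
/-- mask -/
def cAY : ℕ := 16777214

/-- element -/
def cBC : ℕ := 133040499548920170811348923955426336
/-- element -/
def cBCp : ℕ := 133040499548920170811348923955426336
/-- moving the base -/
def cBW : ℕ := 940547550991887344224400005163000226
/-- moving the base -/
def cBWi : ℕ := 653486864387464143474005260926222542
/-- table of the elements moving the base -/
def cBUR : ℕ := 361737692657405708276924972584351136868109971107678752200684388534810054049593652268383269627975175951577829806505551113569614445702918074251025182730707508673053734212495839608930943525307777268769745820207406713432235478665731677579382516948720700276635780620640845722556382492796147564472749600112917042656941616101613775436998030109391436641688704706277077445594734090508391408505183101517055816789445540592425436805574134412882601582494994251901702684279345669066042130349755925144885486018182021710925932384160275528463318298326667361431368956776706601441375045202094559125707982730893279196114480517131521718994343941971430364502081963347175482574916566213546398583366405921095069177864805512089098302376190162167287444649850976870400794395161603476092549263142179929994317861342035125426300762756149193557199441262821042575689508855008403670495685996313575424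
/-- mask -/
def cBY : ℕ := 16777212

/-- the data -/
def dA : ConjData := ⟨cAC, cACp, 1, cAW, cAWi, fun y => rom cAUR 120 y, cAY, 23, fun k => powP cAC k⟩
/-- the data -/
def dB : ConjData := ⟨cBC, cBCp, 2, cBW, cBWi, fun y => rom cBUR 120 y, cBY, 11, fun k => powP cBC k⟩

theorem dA_ok : dA.ok (fun _ => true) = true := by decide +kernel
theorem dB_ok : dB.ok (fun _ => true) = true := by decide +kernel

/-! ### General facts on `Fix k` -/

/-- Two-transitivity of `Fix k` on the remaining points, for `k ≤ 3`. -/
theorem Fix_two_trans {k : ℕ} (hk : k ≤ 3) {x y u v : GolayPt}
    (hx : ∀ j < k, x ≠ ptOf (b j)) (hy : ∀ j < k, y ≠ ptOf (b j))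
    (hu : ∀ j < k, u ≠ ptOf (b j)) (hv : ∀ j < k, v ≠ ptOf (b j)) (hxy : x ≠ y) (huv : u ≠ v) :
    ∃ g ∈ GolayOrder.Fix k, g x = u ∧ g y = v := by
  have hbinj : ∀ a < 7, ∀ c < 7, ptOf (b a) = ptOf (b c) → a = c := by
    intro a ha c hc h
    have h1 := congrArg idx h
    rw [idx_ptOf (b_lt ha), idx_ptOf (b_lt hc)] at h1
    have hbinj' : ∀ a < 7, ∀ c < 7, b a = b c → a = c := by decide +kernel
    exact hbinj' a ha c hc h1
  let tu : GolayPt → GolayPt → ℕ → GolayPt := fun s t i =>
    if i < k then ptOf (b i) else if i = k then s else t
  have htu : ∀ s t, (∀ j < k, s ≠ ptOf (b j)) → (∀ j < k, t ≠ ptOf (b j)) → s ≠ t →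
      ∀ i < k + 2, ∀ j < i, tu s t i ≠ tu s t j := by
    intro s t hs ht hst i hi j hj he
    simp only [tu] at he
    by_cases hik : i < k
    · rw [if_pos hik, if_pos (by omega : j < k)] at he
      have := hbinj i (by omega) j (by omega) he
      omega
    · rw [if_neg hik] at he
      by_cases hjk : j < k
      · rw [if_pos hjk] at he
        by_cases hik' : i = k
        · rw [if_pos hik'] at he
          exact hs j hjk he
        · rw [if_neg hik'] at he
          exact ht j hjk he
      · rw [if_neg hjk] at he
        have hj' : j = k := by omega
        have hi' : i = k + 1 := by omega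
        subst hj'
        subst hi'
        simp at he
        exact hst he.symm
  obtain ⟨g, hg, h⟩ := exists_move (tu x y) (tu u v) (k := k + 2) (by omega)
    (htu x y hx hy hxy) (htu u v hu hv huv)
  refine ⟨g, ?_, ?_, ?_⟩
  · rw [mem_Fix]
    refine ⟨hg, fun j hj => ?_⟩
    have := h j (by omega)
    simpa [tu, hj] using this
  · have := h k (by omega)
    simpa [tu] using this
  · have := h (k + 1) (by omega)
    simpa [tu] using this

/-- a point moved by a nontrivial element -/
theorem Fix_normal_card {k : ℕ} (hk : k ≤ 3) (Ω : Finset GolayPt) (hΩ : ∀ p, p ∈ Ω ↔ ∀ j < k, p ≠ ptOf (b j))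
    {N : Subgroup (GolayOrder.Fix k)} (hN : N.Normal) (hbot : N ≠ ⊥) : Ω.card ∣ Nat.card N := by
  classical
  by_cases hne : Ω.Nonempty
  swap
  · have : Ω = ∅ := Finset.not_nonempty_iff_eq_empty.1 hne
    exfalso
    have h1 := (hΩ (ptOf (b 6))).1
    have hmem : ptOf (b 6) ∈ Ω := (hΩ _).2 (fun j hj he => by
      have h1 := congrArg idx he
      rw [idx_ptOf (b_lt (by norm_num)), idx_ptOf (b_lt (by omega))] at h1
      have hbinj' : ∀ a < 7, ∀ c < 7, b a = b c → a = c := by decide +kernel
      have := hbinj' 6 (by norm_num) j (by omega) h1
      omega)
    rw [this] at hmem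
    simp at hmem
  obtain ⟨x₀, hx₀⟩ := hne
  have htr : ∀ v ∈ Ω, ∃ n ∈ N, n • x₀ = v := by
    intro v hv
    refine SimpleCrit.normal_transitive_of_two (G := GolayOrder.Fix k) (Ω := (Ω : Set GolayPt)) ?_ ?_ ?_ hN hbot hx₀ hv
    · intro x hx y hy u hu v hv hxy huv
      obtain ⟨g, hg, h1, h2⟩ := Fix_two_trans hk ((hΩ x).1 hx) ((hΩ y).1 hy) ((hΩ u).1 hu) ((hΩ v).1 hv) hxy huv
      exact ⟨⟨g, hg⟩, h1, h2⟩
    · intro g hg
      apply Subtype.ext
      apply Equiv.ext
      intro p
      by_cases hp : p ∈ Ω
      · exact hg p hp
      · rw [hΩ] at hp
        push Not at hp
        obtain ⟨j, hj, rfl⟩ := hp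
        exact (mem_Fix.1 g.2).2 j hj
    · intro g p hp
      rw [Finset.mem_coe, hΩ] at hp ⊢
      intro j hj he
      apply hp j hj
      have h1 := (mem_Fix.1 g.2).2 j hj
      have h2 : (g : Equiv.Perm GolayPt) p = ptOf (b j) := he
      rw [← h1] at h2
      exact (g : Equiv.Perm GolayPt).injective h2
  have hinv : ∀ g : GolayOrder.Fix k, g • x₀ ∈ Ω := by
    intro g
    have hp := (hΩ _).1 hx₀
    rw [hΩ]
    intro j hj he
    apply hp j hj
    have h1 := (mem_Fix.1 g.2).2 j hj
    have h2 : (g : Equiv.Perm GolayPt) x₀ = ptOf (b j) := he
    rw [← h1] at h2
    exact (g : Equiv.Perm GolayPt).injective h2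
  have := card_eq_mul_of_orbit' (G := GolayOrder.Fix k) (X := GolayPt) N x₀ Ω (fun g _ => hinv g) htr
  rw [this]
  exact dvd_mul_right _ _

/-! ### The point stabiliser `Fix 1` -/

theorem Ainit_mem (H : Subgroup (Equiv.Perm GolayPt)) (hx1 : ∃ g ∈ H, Rep g Ax1) (hx2 : ∃ g ∈ H, Rep g Ax2) :
    ∀ pp ∈ Ainit, ∃ g ∈ H, Rep g pp := by
  obtain ⟨g1, h1, r1⟩ := hx1
  obtain ⟨g2, h2, r2⟩ := hx2
  intro pp hpp
  simp only [Ainit, List.mem_cons, List.not_mem_nil, or_false] at hpp
  rcases hpp with rfl | rfl | rfl | rfl
  · exact ⟨_, H.inv_mem h2, r2.inv (by decide +kernel)⟩
  · exact ⟨_, H.inv_mem h1, r1.inv (by decide +kernel)⟩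
  · exact ⟨_, h2, r2⟩
  · exact ⟨_, h1, r1⟩

theorem Binit_mem (H : Subgroup (Equiv.Perm GolayPt)) (hx1 : ∃ g ∈ H, Rep g Bx1) (hx2 : ∃ g ∈ H, Rep g Bx2) :
    ∀ pp ∈ Binit, ∃ g ∈ H, Rep g pp := by
  obtain ⟨g1, h1, r1⟩ := hx1
  obtain ⟨g2, h2, r2⟩ := hx2
  intro pp hpp
  simp only [Binit, List.mem_cons, List.not_mem_nil, or_false] at hpp
  rcases hpp with rfl | rfl | rfl | rfl
  · exact ⟨_, H.inv_mem h2, r2.inv (by decide +kernel)⟩
  · exact ⟨_, H.inv_mem h1, r1.inv (by decide +kernel)⟩
  · exact ⟨_, h2, r2⟩
  · exact ⟨_, h1, r1⟩

theorem Fix1_perfect : commutator (GolayOrder.Fix 1) = ⊤ := by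
  apply perfect_of_le_derivedIn
  obtain ⟨u1, hu1, ru1⟩ := mem_Fix_of_check (k := 1) (pp := Au1) (by norm_num) (by decide +kernel)
  obtain ⟨v1, hv1, rv1⟩ := mem_Fix_of_check (k := 1) (pp := Av1) (by norm_num) (by decide +kernel)
  obtain ⟨u2, hu2, ru2⟩ := mem_Fix_of_check (k := 1) (pp := Au2) (by norm_num) (by decide +kernel)
  obtain ⟨v2, hv2, rv2⟩ := mem_Fix_of_check (k := 1) (pp := Av2) (by norm_num) (by decide +kernel)
  have hvalid1 : validB Ax1 = true := by decide +kernel
  have hvalid2 : validB Ax2 = true := by decide +kernel
  have h1 : permOf Ax1 hvalid1 ∈ derivedIn (GolayOrder.Fix 1) :=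
    mem_derivedIn_of_witness (rep_permOf _ _) ru1 rv1 hu1 hv1 (by decide +kernel)
  have h2 : permOf Ax2 hvalid2 ∈ derivedIn (GolayOrder.Fix 1) :=
    mem_derivedIn_of_witness (rep_permOf _ _) ru2 rv2 hu2 hv2 (by decide +kernel)
  exact Fix_le_of_slp (init := Ainit) (stepR := AstepR) (n := An) (by norm_num)
    (Ainit_mem _ ⟨_, h1, rep_permOf _ _⟩ ⟨_, h2, rep_permOf _ _⟩) (by decide +kernel)

theorem Fix2_perfect : commutator (GolayOrder.Fix 2) = ⊤ := by
  apply perfect_of_le_derivedIn
  obtain ⟨u1, hu1, ru1⟩ := mem_Fix_of_check (k := 2) (pp := Bu1) (by norm_num) (by decide +kernel)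
  obtain ⟨v1, hv1, rv1⟩ := mem_Fix_of_check (k := 2) (pp := Bv1) (by norm_num) (by decide +kernel)
  obtain ⟨u2, hu2, ru2⟩ := mem_Fix_of_check (k := 2) (pp := Bu2) (by norm_num) (by decide +kernel)
  obtain ⟨v2, hv2, rv2⟩ := mem_Fix_of_check (k := 2) (pp := Bv2) (by norm_num) (by decide +kernel)
  have hvalid1 : validB Bx1 = true := by decide +kernel
  have hvalid2 : validB Bx2 = true := by decide +kernel
  have h1 : permOf Bx1 hvalid1 ∈ derivedIn (GolayOrder.Fix 2) :=
    mem_derivedIn_of_witness (rep_permOf _ _) ru1 rv1 hu1 hv1 (by decide +kernel)
  have h2 : permOf Bx2 hvalid2 ∈ derivedIn (GolayOrder.Fix 2) :=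
    mem_derivedIn_of_witness (rep_permOf _ _) ru2 rv2 hu2 hv2 (by decide +kernel)
  exact Fix_le_of_slp (init := Binit) (stepR := BstepR) (n := Bn) (by norm_num)
    (Binit_mem _ ⟨_, h1, rep_permOf _ _⟩ ⟨_, h2, rep_permOf _ _⟩) (by decide +kernel)

/-- self-centralising elements: general step -/
theorem simple_of_data {k p : ℕ} [hp : Fact p.Prime] (hk : k ≤ 3) (d : ConjData) (hd : d.ok (fun _ => true) = true)
    (hCC : d.C' = d.C) (hAl : ∀ j, d.Al j = powP d.C j) (hL : d.L = p)
    (hval : validB d.C = true) (hfix : allBelow (fun j => Nat.beq (ap d.C (b j)) (b j)) k = true)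
    (hM : inM24B d.C = true) (hpow : Nat.beq (powP d.C p) idP = true) {i₀ : ℕ} (hi₀ : i₀ < 24) (hne : ap d.C i₀ ≠ i₀)
    (hidx : ¬ p ^ 2 ∣ Nat.card (GolayOrder.Fix k))
    (hperf : commutator (GolayOrder.Fix k) = ⊤) (Ω : Finset GolayPt) (hΩ : ∀ p, p ∈ Ω ↔ ∀ j < k, p ≠ ptOf (b j))
    (hdv : p ∣ Ω.card) (hnt : Nontrivial (GolayOrder.Fix k)) : IsSimpleGroup (GolayOrder.Fix k) := by
  let c := permOf d.C hval
  have hc : Rep c d.C := rep_permOf _ _
  have hcF : c ∈ GolayOrder.Fix k := by
    rw [mem_Fix]
    refine ⟨mem_M24_of_check hc hM, fun j hj => ?_⟩
    rw [hc.apply_ptOf (b_lt (by omega)), Nat.eq_of_beq_eq_true (allBelow_spec hfix j hj)]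
  have hord : orderOf c = p := orderOf_of_rep hp.out hc hpow hi₀ hne
  let a : GolayOrder.Fix k := ⟨c, hcF⟩
  have ha : orderOf a = p := by
    rw [← Subgroup.orderOf_coe a]
    exact hord
  refine SimpleCrit.isSimple_of_selfCentralizing (p := p) a ha ?_ ?_ hperf ?_
  · intro hdvd
    apply hidx
    have h1 := Subgroup.card_mul_index (Subgroup.zpowers a)
    rw [Nat.card_zpowers, ha] at h1
    rw [← h1, pow_two]
    exact Nat.mul_dvd_mul_left p hdvd
  · intro g hg
    have hg' : (g : Equiv.Perm GolayPt) * c = c * g := by
      have := congrArg Subtype.val hg.eq
      exact this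
    have hc' : Rep c d.C' := by rw [hCC]; exact hc
    obtain ⟨j, hj, hrep⟩ := d.spec (fun _ => true) hd hc hc' (mem_Fix.1 g.2).1 hg' (fun _ _ => rfl)
    rw [hAl] at hrep
    have h2 : (g : Equiv.Perm GolayPt) = c ^ j := hrep.eq (rep_powP hc j)
    refine ⟨j, ?_⟩
    apply Subtype.ext
    simpa [a] using h2.symm
  · intro N hN hbot
    exact hdv.trans (Fix_normal_card hk Ω hΩ hN hbot)

theorem card_Fix1_eq : Nat.card (GolayOrder.Fix 1) = 10200960 := card_Fix1
theorem card_Fix2_eq : Nat.card (GolayOrder.Fix 2) = 443520 := card_Fix2

/-- A point stabiliser, as a chain member, is simple. -/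
theorem Fix1_simple : IsSimpleGroup (GolayOrder.Fix 1) := by
  haveI : Fact (Nat.Prime 23) := ⟨by norm_num⟩
  have hnt : Nontrivial (GolayOrder.Fix 1) := by
    apply Finite.one_lt_card_iff_nontrivial.1
    rw [card_Fix1]; norm_num
  refine simple_of_data (p := 23) (k := 1) (by norm_num) dA dA_ok rfl (fun _ => rfl) rfl (by decide +kernel)
    (by decide +kernel) (by decide +kernel) (by decide +kernel) (i₀ := 1) (by norm_num) (by decide +kernel)
    (by rw [card_Fix1]; norm_num) Fix1_perfect (Finset.univ.erase (ptOf (b 0))) ?_ ?_ hnt
  · intro p
    simp only [Finset.mem_erase, Finset.mem_univ, and_true]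
    constructor
    · intro h j hj
      have : j = 0 := by omega
      subst this
      exact h
    · intro h
      exact h 0 (by norm_num)
  · rw [Finset.card_erase_of_mem (Finset.mem_univ _), Finset.card_univ]
    have h24 : Fintype.card GolayPt = 24 := by decide
    rw [h24]

theorem Fix2_simple : IsSimpleGroup (GolayOrder.Fix 2) := by
  haveI : Fact (Nat.Prime 11) := ⟨by norm_num⟩
  have hnt : Nontrivial (GolayOrder.Fix 2) := by
    apply Finite.one_lt_card_iff_nontrivial.1
    rw [card_Fix2]; norm_num
  have hb01 : ptOf (b 0) ≠ ptOf (b 1) := by
    intro h
    have h1 := congrArg idx h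
    rw [idx_ptOf (b_lt (by norm_num)), idx_ptOf (b_lt (by norm_num))] at h1
    revert h1; decide +kernel
  refine simple_of_data (p := 11) (k := 2) (by norm_num) dB dB_ok rfl (fun _ => rfl) rfl (by decide +kernel)
    (by decide +kernel) (by decide +kernel) (by decide +kernel) (i₀ := dB.x0) (by decide +kernel) (by decide +kernel)
    (by rw [card_Fix2]; norm_num) Fix2_perfect ((Finset.univ.erase (ptOf (b 0))).erase (ptOf (b 1))) ?_ ?_ hnt
  · intro p
    simp only [Finset.mem_erase, Finset.mem_univ, and_true]
    constructor
    · rintro ⟨h1, h2⟩ j hj
      have : j = 0 ∨ j = 1 := by omega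
      rcases this with rfl | rfl
      · exact h2
      · exact h1
    · intro h
      exact ⟨h 1 (by norm_num), h 0 (by norm_num)⟩
  · rw [Finset.card_erase_of_mem (by simp [hb01.symm]), Finset.card_erase_of_mem (Finset.mem_univ _),
      Finset.card_univ]
    have h24 : Fintype.card GolayPt = 24 := by decide
    rw [h24]
    norm_num

/-! ### Conjugate subgroups -/

theorem inv_app {α : Type*} (w : Equiv.Perm α) (x : α) : w⁻¹ (w x) = x := by simp

/-- conjugate subgroups are isomorphic -/
def conjEquiv {G : Type*} [Group G] (w : G) {H K : Subgroup G} (h : ∀ g, g ∈ H ↔ w * g * w⁻¹ ∈ K) : H ≃* K where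
  toFun g := ⟨w * g * w⁻¹, (h g).1 g.2⟩
  invFun g := ⟨w⁻¹ * g * w, (h _).2 (by
    have : w * (w⁻¹ * (g : G) * w) * w⁻¹ = g := by group
    rw [this]; exact g.2)⟩
  left_inv g := by
    apply Subtype.ext
    show w⁻¹ * (w * g * w⁻¹) * w = g
    group
  right_inv g := by
    apply Subtype.ext
    show w * (w⁻¹ * g * w) * w⁻¹ = g
    group
  map_mul' x y := by
    apply Subtype.ext
    show w * (x * y : G) * w⁻¹ = (w * x * w⁻¹) * (w * y * w⁻¹)
    group

/-- The stabiliser of a tuple: transport to the chain. -/
theorem stab_one_equiv (p : GolayPt) : Nonempty (MulAction.stabilizer M24 p ≃* GolayOrder.Fix 1) := by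
  obtain ⟨w, hw, hwp⟩ := exists_move_point (ptOf (b 0)) p
  let H : Subgroup (Equiv.Perm GolayPt) := M24 ⊓ MulAction.stabilizer (Equiv.Perm GolayPt) p
  have e1 : MulAction.stabilizer M24 p ≃* H :=
    { toFun := fun g => ⟨g.1.1, g.1.2, MulAction.mem_stabilizer_iff.2 (MulAction.mem_stabilizer_iff.1 g.2)⟩
      invFun := fun g => ⟨⟨g.1, g.2.1⟩, MulAction.mem_stabilizer_iff.2 (MulAction.mem_stabilizer_iff.1 g.2.2)⟩
      left_inv := fun g => rfl
      right_inv := fun g => rfl
      map_mul' := fun x y => rfl }
  have e2 : GolayOrder.Fix 1 ≃* H := conjEquiv w (by
    intro g
    constructor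
    · intro hg
      obtain ⟨h1, h2⟩ := mem_Fix.1 hg
      refine ⟨M24.mul_mem (M24.mul_mem hw h1) (M24.inv_mem hw), ?_⟩
      show w * g * w⁻¹ ∈ MulAction.stabilizer (Equiv.Perm GolayPt) p
      rw [MulAction.mem_stabilizer_iff, Equiv.Perm.smul_def]
      simp only [Equiv.Perm.mul_apply]
      rw [← hwp, inv_app, h2 0 (by norm_num)]
    · rintro ⟨h1, h2⟩
      rw [mem_Fix]
      have h2' : w * g * w⁻¹ ∈ MulAction.stabilizer (Equiv.Perm GolayPt) p := h2
      rw [MulAction.mem_stabilizer_iff, Equiv.Perm.smul_def] at h2'
      simp only [Equiv.Perm.mul_apply] at h2'
      rw [← hwp, inv_app] at h2'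
      refine ⟨?_, fun j hj => ?_⟩
      · have := M24.mul_mem (M24.mul_mem (M24.inv_mem hw) h1) hw
        simpa [mul_assoc] using this
      · have hj0 : j = 0 := by omega
        subst hj0
        exact w.injective h2')
  exact ⟨e1.trans e2.symm⟩

/-- simplicity transfers along isomorphisms -/
theorem simple_of_equiv {G H : Type*} [Group G] [Group H] (e : G ≃* H) (h : IsSimpleGroup H) : IsSimpleGroup G := by
  haveI := h
  exact e.isSimpleGroup

theorem stab_simple (p : GolayPt) : IsSimpleGroup (MulAction.stabilizer M24 p) := by
  obtain ⟨e⟩ := stab_one_equiv p
  exact simple_of_equiv e Fix1_simple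

/-- The stabiliser of two points: transport to the chain. -/
theorem stab_two_equiv {p q : GolayPt} (hpq : p ≠ q) :
    Nonempty (↥(MulAction.stabilizer M24 p ⊓ MulAction.stabilizer M24 q) ≃* GolayOrder.Fix 2) := by
  have hb : ptOf (b 0) ≠ ptOf (b 1) := by
    intro h
    have h1 := congrArg idx h
    rw [idx_ptOf (b_lt (by norm_num)), idx_ptOf (b_lt (by norm_num))] at h1
    revert h1; decide +kernel
  obtain ⟨w, hw, hwp, hwq⟩ := exists_move_pair hb hpq
  let H : Subgroup (Equiv.Perm GolayPt) :=
    M24 ⊓ (MulAction.stabilizer (Equiv.Perm GolayPt) p ⊓ MulAction.stabilizer (Equiv.Perm GolayPt) q)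
  have e1 : ↥(MulAction.stabilizer M24 p ⊓ MulAction.stabilizer M24 q) ≃* H :=
    { toFun := fun g => ⟨g.1.1, g.1.2, MulAction.mem_stabilizer_iff.2 (MulAction.mem_stabilizer_iff.1 g.2.1),
        MulAction.mem_stabilizer_iff.2 (MulAction.mem_stabilizer_iff.1 g.2.2)⟩
      invFun := fun g => ⟨⟨g.1, g.2.1⟩, MulAction.mem_stabilizer_iff.2 (MulAction.mem_stabilizer_iff.1 g.2.2.1),
        MulAction.mem_stabilizer_iff.2 (MulAction.mem_stabilizer_iff.1 g.2.2.2)⟩
      left_inv := fun g => rfl
      right_inv := fun g => rfl
      map_mul' := fun x y => rfl }
  have e2 : GolayOrder.Fix 2 ≃* H := conjEquiv w (by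
    intro g
    constructor
    · intro hg
      obtain ⟨h1, h2⟩ := mem_Fix.1 hg
      refine ⟨M24.mul_mem (M24.mul_mem hw h1) (M24.inv_mem hw), ?_, ?_⟩
      · show w * g * w⁻¹ ∈ MulAction.stabilizer (Equiv.Perm GolayPt) p
        rw [MulAction.mem_stabilizer_iff, Equiv.Perm.smul_def]
        simp only [Equiv.Perm.mul_apply]
        rw [← hwp, inv_app, h2 0 (by norm_num)]
      · show w * g * w⁻¹ ∈ MulAction.stabilizer (Equiv.Perm GolayPt) q
        rw [MulAction.mem_stabilizer_iff, Equiv.Perm.smul_def]
        simp only [Equiv.Perm.mul_apply]
        rw [← hwq, inv_app, h2 1 (by norm_num)]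
    · rintro ⟨h1, h2, h3⟩
      rw [mem_Fix]
      have h2' : w * g * w⁻¹ ∈ MulAction.stabilizer (Equiv.Perm GolayPt) p := h2
      rw [MulAction.mem_stabilizer_iff, Equiv.Perm.smul_def] at h2'
      simp only [Equiv.Perm.mul_apply] at h2'
      rw [← hwp, inv_app] at h2'
      have h3' : w * g * w⁻¹ ∈ MulAction.stabilizer (Equiv.Perm GolayPt) q := h3
      rw [MulAction.mem_stabilizer_iff, Equiv.Perm.smul_def] at h3'
      simp only [Equiv.Perm.mul_apply] at h3'
      rw [← hwq, inv_app] at h3'
      refine ⟨?_, fun j hj => ?_⟩
      · have := M24.mul_mem (M24.mul_mem (M24.inv_mem hw) h1) hw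
        simpa [mul_assoc] using this
      · have hj0 : j = 0 ∨ j = 1 := by omega
        rcases hj0 with rfl | rfl
        · exact w.injective h2'
        · exact w.injective h3')
  exact ⟨e1.trans e2.symm⟩

theorem stab_two_simple {p q : GolayPt} (hpq : p ≠ q) :
    IsSimpleGroup ↥(MulAction.stabilizer M24 p ⊓ MulAction.stabilizer M24 q) := by
  obtain ⟨e⟩ := stab_two_equiv hpq
  exact simple_of_equiv e Fix2_simple

/-- The group of the code is simple. -/
theorem M24_simple : IsSimpleGroup M24 := by
  refine SimpleCrit.isSimple_of_two_transitive (G := M24) (X := GolayPt) Finset.univ (x₀ := none) (Finset.mem_univ _)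
    ?_ ?_ (fun _ _ _ => Finset.mem_univ _) (stab_simple none) ?_
  · intro x _ y _ u _ v _ hxy huv
    obtain ⟨g, hg, h1, h2⟩ := exists_move_pair hxy huv
    exact ⟨⟨g, hg⟩, h1, h2⟩
  · intro g hg
    apply Subtype.ext
    apply Equiv.ext
    intro p
    exact hg p (Finset.mem_univ _)
  · have h24 : Fintype.card GolayPt = 24 := by decide
    rw [Finset.card_univ, h24]
    intro h
    rw [isPrimePow_nat_iff_bounded] at h
    revert h
    decide

end Cfsg.Agent.Lib.GolayM23
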