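import Cfsg.Agent.Lib.GolayPerm
/-!
The order of the group of the length-24 code by a stabiliser chain, and its generation.
-/
set_option autoImplicit false
set_option linter.unusedSimpArgs false
set_option linter.unusedVariables false
set_option maxRecDepth 100000
open Cfsg
open scoped Pointwise

namespace Cfsg.Agent.Lib.GolayOrder
open Cfsg.Agent.Lib.GolayBasic Cfsg.Agent.Lib.GolayCode Cfsg.Agent.Lib.GolayPerm

/-- the base: indices of points -/
def b (k : ℕ) : ℕ := rom 7688259616 5 k
/-- the octad through the first five base points -/
def O0 : ℕ := 5279
/-- the allowed images of the base points -/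
def A (k : ℕ) : ℕ := rom 117056604530092649932927621383402489909329526783 24 k
/-- transversals: table by (level, point) -/
def TROM : ℕ := 116289846900653456674103309359086465655222085752213347708874167052917049401543351513812652614273815471228984672381817595383354629317753190373590652630561589072910489782385095039311991810163979045686625442296625821744156011172887153714912403927111678520969682797297568919925727074473381620138387317896017703538953000443469139922079883984123339702571571303120737448068905807470238380064256918219296123396123885261596696321076456122798062311737659925566085730294549981953004286835406976175164050711836086175368169390136985085588750728758586823557956484604264052279740717425718148472092876041643829062068944998771996744636109235547679619171685100501670376680877502291901407162085670355811163176623742976940525399915668076778066302555410519382096829437181115238100989353614007268573765718344985068370578186439535034328734803064744872024636421479509496510167749393826168836548449948840034798233402546576263996293586060352935728857785207219832939321905162785116006341571205246496873635443129297469489368960856078270400495716992477263249774930530970759622503676191438088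746960807388276024795263593324409482986701661603485085155404426721639162098984313248731871602646564722675748000485754697764074204933690426074412931596427384955896688081787573651217730894884542859909201405122623559486811264379712704282253949447746435513490998431380803666179558769836947706857917580087727886502357705842105716163482447076933253155966809196775997005969041980534127929241498440807735978125729823834503048621106700788466341196893366163248394358457864183092336373369932703835672650909729231085903120740871014514601824619895429787245506437906274244143544186679916039110727733075101939851437608176282283948667981591336427976115419977801884307159984188698896434481981408419122561384446886197884306786016235992780981858674732571482368431427202923076104236070433702209269305248106255910868304904968663756711808127630095920850604579995128521981183901474353990932727349489713766693860804698590657208810999130959568711518337640901686808510809220058915403497182972447900746075285256369385204036869886171724195342681619498868766759907225407871805506566504003864556865088866470882702042571187302226443403960435538590651405024408453574002054900469409849657472301576091115387971690270144437017356825806593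943362903974466901224739659799283210679532634184930134635685157222205737613072430356554052025552483293940732673283900272647974329405402112873093999349436076611646638959323491842351975535458093034060215550210853299921008898803951026361000132995860814191703990388287632334142293502971214622398424406842049186410743000036738212923482739493222478066339895630255161352959401378662651986686872018575054784609769762061809109516486731516699245515382714716697010388385441034380180236907565377882311959026059011909635279786876735562526972481575143709817557104231787214320635299230240351176658651217385284887863054486001332401034657992609281431432432437875158926972736044399644993369896911909659827226619338685600762173092998024535509369567754355369272749330553593944764449089942078912490075636868873936372584605659341805315951454602031478209993217275064040972894933603354784851148765701498948085375540697820131922724868140492889560300531527994921441056124296078159687852989950378165640043163794204989449286213898097512851217013144950456094213241980308915205657930425810661727267406557875058108130813288655391476602601239844458209229266200437100271114525026739523725552494778165377528694846816280493744029712075029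225938985570670587006167491118742446071953735114040343475353176780214820509572026291424661062728467571331212047352899348081238009133846470599677115181590225022786480208015036772600078989001813186030324399262720046004084351552870735589640681159781904706012571169729994748579714550862055702458574357198859042597847160423750183178410327244825815501100921811930866854590795526208133615557415997930944579931408127239645876696752339691715241179282401818265993070169200125439506048859843052983048275522215446750613053160053431989328644529287449528636174187242792099412773453463030080756910496371702856150935660151482551109397391745001550467104157841336761354724740729771528210796830953035106755307914653691317405709424872636193719952179721628586414484126401190610772934909837039191703563104313283462332621621750923944013463902154179689367088040223220773359975138376651966533966196824212592031973801119231037046650467857142278197650387520799248177292605952515932011058867684806118850453520816079601808816975983180075313725805854273638852566954594524872189806329316777133624640892390359209108418580705614688280867135972004678821319740590551014361910096288305693615920872529705392060219906623251685887804702186262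67403887946133157685057946331644135403405741752548120928714510757197956559357518174451024186024513301849341781025703141884369322255603164259979630330551571676045650302281073682896959072349959905891586284009593899357269849400969288291061991017038442097529706809793020810231442980876347296068699023931486611569280844621695099566600759074909438452140447510430773798909783073226435107662332499779962227073818987774355927729094875670388981360898745938071412154186641296301723992626451807192455968778321093893848143229985437225436683902348921005762133797209460082782744586170350734328862564816518637138941838301615843991255326225738142222920770324446649673048872149363717127782445437303431706491559409262776206585731180495297629768149975624915206114648526822492236538677386738949734540786711821430014453835987299058319445772841894113469151746568313688450052246570248486150230123453967297912255537855552992221742710848256504594645366370015907381025834990000546686316958784787952673317746491995530617619056672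
/-- transversal element -/
def T (k y : ℕ) : ℕ := rom TROM 120 (Nat.add (Nat.mul k 24) y)
/-- packed generators -/
def pA : ℕ := 956302485175575353788796878166559809
/-- packed generators -/
def pW : ℕ := 1795248432537898728475572672376535
/-- packed generators -/
def pTW : ℕ := 974380510768821363662145534143076928
/-- packed inverses -/
def pAi : ℕ := 983478296959358443554250846857397270
/-- packed inverses -/
def pWi : ℕ := 1795248432537898728475572672376535
/-- packed inverses -/
def pTWi : ℕ := 980275914351787324191492553553580224
/-- straight-line program: pairs of distances from the head of the list -/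
def stepROM : ℕ := 1289426446345176442579478813203926451563027828544952803422586840996311883875305394697647748356816583581936425469140444368134506650146980945763294719462178890887389051182174275632727362172246242255828716774157880782476402471093996633505053437010507529905085536963487279350599534153620573804844156133754882705006303165919134689942159873857956143174993430894133219655321631023222986744962666930910542561125882122868331371414758978131027287679851103281402477286228403415856528865367412841476491694208025500022213683982671839557697939705923265893188386470684061555050126882698157798119485170531290051507789834594328093252062148232197771433494311681659251517486197243039061995358935225023738571769601389071963498511010727147802253549585146616831330585401563939158029225624613558727095341650365985634808703368078873984194899827653753125130000576874729187763051567110150894802661489088514198270994573086164587392260943547171951127416487044769881502432531916133593462314673548635832464940718038945897417289571477708946538890563480677244788154871047807610473450254913859815493648620834815780679158243987632162212116762768549193270812727265394927399089156538481926908310338917817222973156292791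5044537393288579447931495846653131452799316190821005132203537960701686221834612509450736525423181261735155797802455471101170785291787434153972662350008396766646014061303284630932834202046425786239774273820151683244670697264690178116783681697617711443487426702072139691295736665524004940131724507541819247307691428429851787795136848879564141380554245751997743211461562642448081697003692063899900049549820763153073632231029432044665763798774484544637768607082507259920977477279847111341056697353247125942889889029814651301279288304456244568220902049473991483277478582987940259778670494045220449153069713174159773456402766746150679428424352998408540161137367656196436070607712554364625705375372036732268981379245254877112241201246124936294726724067453385844231858525084655676091543239328951979682823158875714745394735931820220452361360479979488544947683619299647011689718767367925743800191740323569068120348188525304652832470186474840052933046244917992302646369489805760867989996683540008047420104584699663111587178053732653199774932559425015671261450029691220318012111074988877499036306224647753393567530783194958889985197644280607060080842302479022620525498075976229082950185230432145098643609278189103369296405855261495732063387990765503128566014868346211592596866915628620199738076044031240590707904647833831762582299188608755090687258203749776504630608553359611945203138700028845023475229700545598213449230964085899413908875676091789155875994229638460012929413542307692208285668682290865913667080947820638414232696898939152364632024073464887549741353053837862946064053778799425500648441863658696985734565195346271044102131951492977207691285580449510870624568760403763146621802344957885331076731129861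
/-- number of steps -/
def nSteps : ℕ := 401
/-- positions of the transversal elements in the final list, as distances from its head -/
def posROM : ℕ := 337405286575137855484278275127554174128947546330285214174071982309338083533099435688347836464621288460944490816854335160006524674435330842296818212536783521693743079919010031981368933840689616630923372012381319992319524293282906174090420818402911258351217344200006747346619678708030880548806458213257776762263944311450099934980285331848532898262734882759234463556127942014295972290980150970740990142293767878396375855485534213700280787806911120631865823955040021165764908326565759723579540989790393480978160112021086272579484231268668860568014947876062808480768000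

/-- pointwise stabilisers of initial segments of the base -/
def Fix : ℕ → Subgroup (Equiv.Perm GolayPt)
  | 0 => M24
  | k + 1 => Fix k ⊓ MulAction.stabilizer (Equiv.Perm GolayPt) (ptOf (b k))

theorem mem_Fix {k : ℕ} {g : Equiv.Perm GolayPt} :
    g ∈ Fix k ↔ g ∈ M24 ∧ ∀ j < k, g (ptOf (b j)) = ptOf (b j) := by
  induction k with
  | zero => simp [Fix]
  | succ k ih =>
    simp only [Fix, Subgroup.mem_inf, ih, MulAction.mem_stabilizer_iff, Equiv.Perm.smul_def]
    constructor
    · rintro ⟨⟨h1, h2⟩, h3⟩
      refine ⟨h1, fun j hj => ?_⟩
      rcases Nat.lt_succ_iff_lt_or_eq.mp hj with h' | rfl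
      · exact h2 j h'
      · exact h3
    · rintro ⟨h1, h2⟩
      exact ⟨⟨h1, fun j hj => h2 j (by omega)⟩, h2 k (by omega)⟩

/-- The check of the transversal elements at level `k`, point `y`. -/
def transOK (k y : ℕ) : Bool :=
  let t := T k y
  validB t && inM24B t && allBelow (fun j => Nat.beq (ap t (b j)) (b j)) k && Nat.beq (ap t (b k)) y

theorem trans_check : allBelow (fun k => allBelow (fun y => cond (tb (A k) y) (transOK k y) true) 24) 7 = true := by
  decide +kernel

theorem b_lt_check : allBelow (fun k => Nat.blt (b k) 24) 7 = true := by decide +kernel

theorem b_lt {k : ℕ} (hk : k < 7) : b k < 24 := by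
  have h := allBelow_spec b_lt_check k hk
  have : Nat.ble (b k + 1) 24 = true := h
  exact Nat.le_of_ble_eq_true this

/-- The elements of the transversal. -/
theorem exists_trans {k y : ℕ} (hk : k < 7) (hy : y < 24) (hA : (A k).testBit y = true) :
    ∃ g ∈ Fix k, Rep g (T k y) ∧ g (ptOf (b k)) = ptOf y := by
  have h := allBelow_spec (allBelow_spec trans_check k hk) y hy
  simp only [tb_eq, hA, cond_true, transOK, Bool.and_eq_true] at h
  obtain ⟨⟨⟨h1, h2⟩, h3⟩, h4⟩ := h
  refine ⟨permOf _ h1, ?_, rep_permOf _ h1, ?_⟩
  · rw [mem_Fix]
    refine ⟨mem_M24_of_check (rep_permOf _ h1) h2, fun j hj => ?_⟩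
    have hj' := Nat.eq_of_beq_eq_true (allBelow_spec h3 j hj)
    rw [(rep_permOf _ h1).apply_ptOf (b_lt (by omega)), hj']
  · rw [(rep_permOf _ h1).apply_ptOf (b_lt hk), Nat.eq_of_beq_eq_true h4]

/-- two octads with at least five common points are equal -/
theorem pc_xor_add (a b : ℕ) : pc (a ^^^ b) + 2 * pc (a &&& b) = pc a + pc b := by
  simp only [← card_setOf, setOf_xor, setOf_land]
  rw [← Finset.card_sdiff_add_card_inter (setOf a) (setOf b),
    ← Finset.card_sdiff_add_card_inter (setOf b) (setOf a), Finset.inter_comm (setOf b) (setOf a)]
  rw [symmDiff_def, Finset.sup_eq_union, Finset.card_union_of_disjoint]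
  · omega
  · exact disjoint_sdiff_sdiff

theorem inter_of_inCode {a b : ℕ} (ha : InCode a) (hb : InCode b) (h8a : pc a = 8) (h8b : pc b = 8) :
    pc (a &&& b) = 8 ∨ pc (a &&& b) = 4 ∨ pc (a &&& b) = 2 ∨ pc (a &&& b) = 0 := by
  have h := pc_xor_add a b
  rcases weights (ha.xor hb) with h' | h' | h' | h' | h' <;> omega

theorem eq_of_pc_inter {a b : ℕ} (ha : InCode a) (hb : InCode b) (h8a : pc a = 8) (h8b : pc b = 8)
    (h5 : 5 ≤ pc (a &&& b)) : a = b := by
  have h := inter_of_inCode ha hb h8a h8b
  have h8 : pc (a &&& b) = 8 := by omega
  apply setOf_injOn ha.1 hb.1
  have h1 : setOf a ∩ setOf b = setOf a := by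
    apply Finset.eq_of_subset_of_card_le Finset.inter_subset_left
    rw [← setOf_land, card_setOf, card_setOf, h8, h8a]
  have h2 : setOf a ∩ setOf b = setOf b := by
    apply Finset.eq_of_subset_of_card_le Finset.inter_subset_right
    rw [← setOf_land, card_setOf, card_setOf, h8, h8b]
  rw [← h2, h1]

theorem O0_inCode : InCode O0 := by decide +kernel
theorem O0_pc : pc O0 = 8 := by decide +kernel

/-- A permutation in the group fixing five points of an octad preserves it. -/
theorem img_octad_eq {g : Equiv.Perm GolayPt} {pp m F : ℕ} (hg : g ∈ M24) (h : Rep g pp) (hm : InCode m)
    (h8 : pc m = 8) (hF : ∀ i < 24, F.testBit i = true → ap pp i = i) (h5 : 5 ≤ pc (m &&& F)) :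
    img pp m = m := by
  apply eq_of_pc_inter (M24_img_inCode h hg hm) hm (by rw [pc_img h, h8]) h8
  refine le_trans h5 ?_
  rw [← card_setOf, ← card_setOf]
  apply Finset.card_le_card
  intro p
  simp only [mem_setOf, Nat.testBit_land, Bool.and_eq_true]
  rintro ⟨h1, h2⟩
  refine ⟨?_, h1⟩
  rw [img, testBit_imgAux]
  exact ⟨idx p, idx_lt p, h1, hF _ (idx_lt p) h2⟩

theorem testBit_img_of {g : Equiv.Perm GolayPt} {pp m : ℕ} (h : Rep g pp) {i : ℕ} (hi : i < 24) :
    (img pp m).testBit (ap pp i) = m.testBit i := by
  have h1 : ∀ j < 24, ap pp j = ap pp i → j = i := by
    intro j hj he
    have : g (ptOf j) = g (ptOf i) := by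
      rw [h.apply_ptOf hj, h.apply_ptOf hi, he]
    have h2 := g.injective this
    rw [← idx_ptOf hj, h2, idx_ptOf hi]
  cases hb : m.testBit i with
  | true =>
    rw [img, testBit_imgAux]
    exact ⟨i, hi, hb, rfl⟩
  | false =>
    rw [Bool.eq_false_iff]
    intro h2
    rw [img, testBit_imgAux] at h2
    obtain ⟨j, hj, h3, h4⟩ := h2
    rw [h1 j hj h4, hb] at h3
    exact absurd h3 (by decide)

/-- octad list folding to isolate points -/
def atomAux (F x : ℕ) : ℕ → ℕ
  | 0 => allMask
  | i + 1 =>
    let o := octAt i
    cond (Nat.ble 5 (pc (Nat.land o F)))
      (cond (tb o x) (Nat.land (atomAux F x i) o) (Nat.land (atomAux F x i) (Nat.xor allMask o)))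
      (atomAux F x i)

/-- points isolated from `F` -/
def fixStepAux (F : ℕ) : ℕ → ℕ
  | 0 => F
  | x + 1 => Nat.lor (fixStepAux F x)
      (cond (Nat.beq (atomAux F x 759) (Nat.pow 2 x)) (Nat.pow 2 x) 0)

/-- one round of the point-fixing closure -/
def fixStep (F : ℕ) : ℕ := fixStepAux F 24

theorem atom_spec {g : Equiv.Perm GolayPt} {pp F : ℕ} (hg : g ∈ M24) (h : Rep g pp)
    (hF : ∀ i < 24, F.testBit i = true → ap pp i = i) {x : ℕ} (hx : x < 24) (n : ℕ) (hn : n ≤ 759) :
    (atomAux F x n).testBit x = true → (atomAux F x n).testBit (ap pp x) = true := by
  have hlt := rep_lt h hx
  have hall : ∀ y < 24, allMask.testBit y = true := by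
    intro y hy
    have := Finset.mem_univ (ptOf y)
    rwa [← setOf_allMask, mem_setOf, idx_ptOf hy] at this
  induction n with
  | zero => intro _; exact hall _ hlt
  | succ n ih =>
    intro h0
    have ih' := ih (by omega)
    simp only [atomAux] at h0 ⊢
    have hn' : n < 759 := by omega
    by_cases hc : Nat.ble 5 (pc (Nat.land (octAt n) F)) = true
    · rw [hc] at h0 ⊢
      have h5 : 5 ≤ pc (octAt n &&& F) := Nat.le_of_ble_eq_true hc
      have hfix := img_octad_eq hg h (octAt_inCode hn') (octAt_pc hn') hF h5
      have hbit := testBit_img_of (m := octAt n) h hx
      rw [hfix] at hbit
      simp only [cond_true] at h0 ⊢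
      by_cases htb : tb (octAt n) x = true
      · rw [htb] at h0 ⊢
        simp only [cond_true] at h0 ⊢
        have h1 : (atomAux F x n &&& octAt n).testBit x = true := h0
        show (atomAux F x n &&& octAt n).testBit (ap pp x) = true
        simp only [Nat.testBit_land, Bool.and_eq_true] at h1 ⊢
        rw [tb_eq] at htb
        exact ⟨ih' h1.1, by rw [hbit]; exact htb⟩
      · have htb' : tb (octAt n) x = false := by simpa using htb
        rw [htb'] at h0 ⊢
        simp only [cond_false] at h0 ⊢
        have h1 : (atomAux F x n &&& (allMask ^^^ octAt n)).testBit x = true := h0
        show (atomAux F x n &&& (allMask ^^^ octAt n)).testBit (ap pp x) = true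
        simp only [Nat.testBit_land, Bool.and_eq_true, Nat.testBit_xor] at h1 ⊢
        rw [tb_eq] at htb'
        refine ⟨ih' h1.1, ?_⟩
        rw [hbit, htb', hall _ hlt]
        rfl
    · have hc' : Nat.ble 5 (pc (Nat.land (octAt n) F)) = false := by
        cases hh : Nat.ble 5 (pc (Nat.land (octAt n) F)) with
        | true => exact absurd hh hc
        | false => rfl
      rw [hc'] at h0 ⊢
      exact ih' h0

theorem fixStep_spec {g : Equiv.Perm GolayPt} {pp F : ℕ} (hg : g ∈ M24) (h : Rep g pp)
    (hF : ∀ i < 24, F.testBit i = true → ap pp i = i) :
    ∀ i < 24, (fixStep F).testBit i = true → ap pp i = i := by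
  have key : ∀ n, n ≤ 24 → ∀ i < 24, (fixStepAux F n).testBit i = true → ap pp i = i := by
    intro n
    induction n with
    | zero => intro _; exact hF
    | succ n ih =>
      intro hn i hi h0
      rw [fixStepAux] at h0
      have h1 : ((fixStepAux F n) ||| cond (Nat.beq (atomAux F n 759) (Nat.pow 2 n)) (Nat.pow 2 n) 0).testBit i = true := h0
      rw [Nat.testBit_or, Bool.or_eq_true] at h1
      rcases h1 with h1 | h1
      · exact ih (by omega) i hi h1
      · cases hc : Nat.beq (atomAux F n 759) (Nat.pow 2 n) with
        | false => rw [hc] at h1; simp at h1
        | true =>
          rw [hc] at h1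
          simp only [cond_true] at h1
          have hin : i = n := by
            have h2 : (2 ^ n).testBit i = true := h1
            rw [Nat.testBit_two_pow] at h2
            simpa [eq_comm] using h2
          subst hin
          have hval := Nat.eq_of_beq_eq_true hc
          have h3 := atom_spec hg h hF hi 759 (le_refl _)
          rw [hval] at h3
          have h4 : (2 ^ i).testBit (ap pp i) = true := h3 (by
            show (2 ^ i).testBit i = true
            simp [Nat.testBit_two_pow])
          rw [Nat.testBit_two_pow] at h4
          have h5 : 2 ^ i = 2 ^ i := rfl
          simpa using (of_decide_eq_true h4).symm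
  exact key 24 (le_refl _)

/-- The mask of the base -/
def baseMask : ℕ := Nat.lor (Nat.lor (Nat.lor (Nat.lor (Nat.lor (Nat.lor 1 2) 4) 8) 16) 32) 128

theorem fixClosure : fixStep (fixStep baseMask) = allMask := by decide +kernel

theorem Fix7_trivial : Fix 7 = ⊥ := by
  rw [Subgroup.eq_bot_iff_forall]
  intro g hg
  obtain ⟨hm, hfix⟩ := mem_Fix.1 hg
  obtain ⟨pp, h⟩ := exists_rep g
  have hF : ∀ i < 24, baseMask.testBit i = true → ap pp i = i := by
    intro i hi hb'
    have hb2 : ∃ j, j < 7 ∧ b j = i := by
      revert i; decide +kernel
    obtain ⟨j, hj, rfl⟩ := hb2
    have := hfix j hj
    rw [h.apply_ptOf (b_lt hj)] at this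
    have h2 := congrArg idx this
    rwa [idx_ptOf (rep_lt h (b_lt hj)), idx_ptOf (b_lt hj)] at h2
  have h2 := fixStep_spec hm h (fixStep_spec hm h hF)
  rw [fixClosure] at h2
  have hall : ∀ y < 24, allMask.testBit y = true := by
    intro y hy
    have := Finset.mem_univ (ptOf y)
    rwa [← setOf_allMask, mem_setOf, idx_ptOf hy] at this
  apply Equiv.ext
  intro p
  apply idx_injective
  rw [h p, h2 _ (idx_lt p) (hall _ (idx_lt p))]
  rfl

/-- the subgroup fixing points of the base moves the next base point inside the allowed set -/
theorem image_mem_A {k : ℕ} (hk : k < 7) {g : Equiv.Perm GolayPt} (hg : g ∈ Fix k) :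
    (A k).testBit (idx (g (ptOf (b k)))) = true := by
  obtain ⟨hm, hfix⟩ := mem_Fix.1 hg
  obtain ⟨pp, h⟩ := exists_rep g
  rw [h, idx_ptOf (b_lt hk)]
  have hfix' : ∀ j < k, ap pp (b j) = b j := by
    intro j hj
    have := hfix j hj
    rw [h.apply_ptOf (b_lt (by omega))] at this
    have h2 := congrArg idx this
    rwa [idx_ptOf (rep_lt h (b_lt (by omega))), idx_ptOf (b_lt (by omega))] at h2
  have hinj : ∀ i < 24, ∀ j < 24, ap pp i = ap pp j → i = j := by
    intro i hi j hj he
    have : g (ptOf i) = g (ptOf j) := by
      rw [h.apply_ptOf hi, h.apply_ptOf hj, he]
    have h2 := g.injective this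
    rw [← idx_ptOf hi, h2, idx_ptOf hj]
  have hlt := rep_lt h (b_lt hk)
  generalize hy : ap pp (b k) = y at hlt
  -- levels 0..4
  by_cases h5 : k < 5
  · have hne : ∀ j < k, y ≠ b j := by
      intro j hj he
      have h1 := hinj (b k) (b_lt hk) (b j) (b_lt (by omega)) (by rw [hy, hfix' j hj, he])
      have hbinj : ∀ a < 7, ∀ c < 7, b a = b c → a = c := by decide +kernel
      have := hbinj k hk j (by omega) h1
      omega
    have hA : ∀ k' < 5, ∀ y' < 24, (∀ j < k', y' ≠ b j) → (A k').testBit y' = true := by decide +kernel
    exact hA k h5 y hlt hne
  · have hO : img pp O0 = O0 := by
      apply img_octad_eq hm h O0_inCode O0_pc (F := Nat.lor (Nat.lor (Nat.lor (Nat.lor 1 2) 4) 8) 16)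
      · intro i hi hb'
        have hb2 : i < 5 := by
          revert i; decide +kernel
        have : b i = i := by revert i; decide +kernel
        have h3 := hfix' i (by omega)
        rwa [this] at h3
      · decide +kernel
    have hbit : O0.testBit y = O0.testBit (b k) := by
      have := testBit_img_of (m := O0) h (b_lt hk)
      rw [hO, hy] at this
      exact this
    have h56 : k = 5 ∨ k = 6 := by omega
    rcases h56 with rfl | rfl
    · have hA : ∀ y' < 24, O0.testBit y' = O0.testBit (b 5) → (A 5).testBit y' = true := by decide +kernel
      exact hA y hlt hbit
    · have hne : ∀ j < 5, y ≠ b j := by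
        intro j hj he
        have h1 := hinj (b 6) (b_lt (by omega)) (b j) (b_lt (by omega)) (by rw [hy, hfix' j (by omega), he])
        have hbinj : ∀ a < 7, ∀ c < 7, b a = b c → a = c := by decide +kernel
        have := hbinj 6 (by omega) j (by omega) h1
        omega
      have hA : ∀ y' < 24, O0.testBit y' = O0.testBit (b 6) → (∀ j < 5, y' ≠ b j) → (A 6).testBit y' = true := by
        decide +kernel
      exact hA y hlt hbit hne

/-- orbit-stabiliser for a subgroup of permutations -/
theorem card_eq_mul_of_orbit {Ω : Type*} (K : Subgroup (Equiv.Perm Ω)) [Finite K] (x : Ω) (s : Finset Ω)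
    (h1 : ∀ g ∈ K, g x ∈ s) (h2 : ∀ y ∈ s, ∃ g ∈ K, g x = y) :
    Nat.card K = s.card * Nat.card (K ⊓ MulAction.stabilizer (Equiv.Perm Ω) x : Subgroup (Equiv.Perm Ω)) := by
  classical
  have horb : (MulAction.orbit K x) = (s : Set Ω) := by
    ext y
    simp only [MulAction.mem_orbit_iff, Finset.mem_coe]
    constructor
    · rintro ⟨g, rfl⟩
      exact h1 g g.2
    · intro hy
      obtain ⟨g, hg, rfl⟩ := h2 y hy
      exact ⟨⟨g, hg⟩, rfl⟩
  have hcard := Nat.card_congr (MulAction.orbitProdStabilizerEquivGroup K x)
  rw [Nat.card_prod, horb] at hcard
  rw [← hcard]
  congr 1
  · simp
  · apply Nat.card_congr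
    exact {
      toFun := fun g => ⟨g.1.1, g.1.2, (MulAction.mem_stabilizer_iff.1 g.2 : _)⟩
      invFun := fun g => ⟨⟨g.1, g.2.1⟩, MulAction.mem_stabilizer_iff.2 (MulAction.mem_stabilizer_iff.1 g.2.2)⟩
      left_inv := fun g => rfl
      right_inv := fun g => rfl }

theorem card_Fix_succ {k : ℕ} (hk : k < 7) : Nat.card (Fix k) = pc (A k) * Nat.card (Fix (k + 1)) := by
  have := card_eq_mul_of_orbit (Fix k) (ptOf (b k)) (GolayBasic.setOf (A k))
    (fun g hg => by rw [mem_setOf]; exact image_mem_A hk hg)
    (fun y hy => by
      rw [mem_setOf] at hy
      obtain ⟨g, hg, -, h⟩ := exists_trans hk (idx_lt y) hy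
      exact ⟨g, hg, by rw [h, ptOf_idx]⟩)
  rw [card_setOf] at this
  exact this

theorem pc_A_check : (pc (A 0) = 24 ∧ pc (A 1) = 23 ∧ pc (A 2) = 22 ∧ pc (A 3) = 21) ∧
    pc (A 4) = 20 ∧ pc (A 5) = 16 ∧ pc (A 6) = 3 := by decide +kernel

theorem card_Fix7 : Nat.card (Fix 7) = 1 := by
  rw [Fix7_trivial]; simp

theorem card_Fix6 : Nat.card (Fix 6) = 3 := by
  rw [card_Fix_succ (by norm_num), card_Fix7, pc_A_check.2.2.2]
theorem card_Fix5 : Nat.card (Fix 5) = 48 := by
  rw [card_Fix_succ (by norm_num), card_Fix6, pc_A_check.2.2.1]
theorem card_Fix4 : Nat.card (Fix 4) = 960 := by
  rw [card_Fix_succ (by norm_num), card_Fix5, pc_A_check.2.1]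
theorem card_Fix3 : Nat.card (Fix 3) = 20160 := by
  rw [card_Fix_succ (by norm_num), card_Fix4, pc_A_check.1.2.2.2]
theorem card_Fix2 : Nat.card (Fix 2) = 443520 := by
  rw [card_Fix_succ (by norm_num), card_Fix3, pc_A_check.1.2.2.1]
theorem card_Fix1 : Nat.card (Fix 1) = 10200960 := by
  rw [card_Fix_succ (by norm_num), card_Fix2, pc_A_check.1.2.1]
theorem card_M24 : Nat.card M24 = 244823040 := by
  have h : Nat.card (Fix 0) = 244823040 := by
    rw [card_Fix_succ (by norm_num), card_Fix1, pc_A_check.1.1]
  exact h

/-! ### Generation: a straight-line program -/

/-- the initial list of the straight-line program, newest first -/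
def initL : List ℕ := [pTWi, pWi, pAi, pTW, pW, pA]

/-- the straight-line program -/
def runL : ℕ → List ℕ
  | 0 => initL
  | n + 1 =>
    let v := runL n
    mulP (v.getD (rom stepROM 12 (Nat.mul 2 n)) idP) (v.getD (rom stepROM 12 (Nat.add (Nat.mul 2 n) 1)) idP) :: v

/-- The final list as a constant for the kernel. -/
theorem run_rep {H : Subgroup (Equiv.Perm GolayPt)} (hinit : ∀ pp ∈ initL, ∃ g ∈ H, Rep g pp) (n : ℕ) :
    ∀ pp ∈ runL n, ∃ g ∈ H, Rep g pp := by
  have hone : ∃ g ∈ H, Rep g idP := ⟨1, H.one_mem, rep_one⟩
  have hget : ∀ (v : List ℕ), (∀ pp ∈ v, ∃ g ∈ H, Rep g pp) → ∀ i, ∃ g ∈ H, Rep g (v.getD i idP) := by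
    intro v hv i
    by_cases hi : i < v.length
    · rw [List.getD_eq_getElem _ _ hi]
      exact hv _ (List.getElem_mem hi)
    · rw [List.getD_eq_default _ _ (by omega)]
      exact hone
  induction n with
  | zero => exact hinit
  | succ n ih =>
    intro pp hpp
    simp only [runL, List.mem_cons] at hpp
    rcases hpp with rfl | hpp
    · obtain ⟨g1, h1, r1⟩ := hget _ ih (rom stepROM 12 (Nat.mul 2 n))
      obtain ⟨g2, h2, r2⟩ := hget _ ih (rom stepROM 12 (Nat.add (Nat.mul 2 n) 1))
      exact ⟨g1 * g2, H.mul_mem h1 h2, r1.mul r2⟩
    · exact ih pp hpp

/-- The transversal elements are entries of the program's final list. -/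
def slpOK : Bool :=
  let v := runL nSteps
  allBelow (fun k => allBelow (fun y =>
    cond (tb (A k) y)
      (cond (Nat.beq y (b k)) (Nat.beq (T k y) idP) (Nat.beq (T k y) (v.getD (rom posROM 12 (Nat.add (Nat.mul k 24) y)) idP)))
      true) 24) 7

theorem slp_check : slpOK = true := by decide +kernel

theorem T_mem_of {H : Subgroup (Equiv.Perm GolayPt)} (hinit : ∀ pp ∈ initL, ∃ g ∈ H, Rep g pp)
    {k y : ℕ} (hk : k < 7) (hy : y < 24) (hA : (A k).testBit y = true) : ∃ g ∈ H, Rep g (T k y) := by
  have h := allBelow_spec (allBelow_spec slp_check k hk) y hy
  simp only [tb_eq, hA, cond_true] at h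
  cases hb : Nat.beq y (b k) with
  | true =>
    rw [hb, cond_true] at h
    rw [Nat.eq_of_beq_eq_true h]
    exact ⟨1, H.one_mem, rep_one⟩
  | false =>
    rw [hb, cond_false] at h
    rw [Nat.eq_of_beq_eq_true h]
    have hone : ∃ g ∈ H, Rep g idP := ⟨1, H.one_mem, rep_one⟩
    set i := rom posROM 12 (Nat.add (Nat.mul k 24) y)
    by_cases hi : i < (runL nSteps).length
    · rw [List.getD_eq_getElem _ _ hi]
      exact run_rep hinit nSteps _ (List.getElem_mem hi)
    · rw [List.getD_eq_default _ _ (by omega)]
      exact hone

/-- If a subgroup contains all the transversals then it contains the group. -/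
theorem Fix_le_of_trans {H : Subgroup (Equiv.Perm GolayPt)}
    (hT : ∀ {k y : ℕ}, k < 7 → y < 24 → (A k).testBit y = true → ∃ g ∈ H, Rep g (T k y)) :
    M24 ≤ H := by
  have key : ∀ d, d ≤ 7 → Fix (7 - d) ≤ H := by
    intro d
    induction d with
    | zero =>
      intro _
      show Fix 7 ≤ H
      rw [Fix7_trivial]; exact bot_le
    | succ d ih =>
      intro hd g hg
      set k := 7 - (d + 1) with hk
      have hk7 : k < 7 := by omega
      have hk1 : 7 - d = k + 1 := by omega
      have hihk := ih (by omega)
      rw [hk1] at hihk
      have hA := image_mem_A hk7 hg
      obtain ⟨t, ht, rt, hmap⟩ := exists_trans hk7 (idx_lt (g (ptOf (b k)))) hA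
      rw [ptOf_idx] at hmap
      obtain ⟨t', ht', rt'⟩ := hT hk7 (idx_lt (g (ptOf (b k)))) hA
      have heq : t' = t := rt'.eq rt
      subst heq
      have hmem : t'⁻¹ * g ∈ Fix (k + 1) := by
        refine ⟨(Fix k).mul_mem ((Fix k).inv_mem ht) hg, ?_⟩
        show t'⁻¹ * g ∈ MulAction.stabilizer (Equiv.Perm GolayPt) (ptOf (b k))
        rw [MulAction.mem_stabilizer_iff, Equiv.Perm.smul_def, Equiv.Perm.mul_apply, ← hmap]
        simp
      have := H.mul_mem ht' (hihk hmem)
      simpa using this
  exact key 7 (by omega)

/-- Transversals lie in the group generated by the three generators, if these have the right packed forms. -/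
theorem M24_le_closure {S : Set (Equiv.Perm GolayPt)}
    (hinit : ∀ pp ∈ initL, ∃ g ∈ Subgroup.closure S, Rep g pp) : M24 ≤ Subgroup.closure S :=
  Fix_le_of_trans fun hk hy hA => T_mem_of hinit hk hy hA

end Cfsg.Agent.Lib.GolayOrder
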