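import Cfsg.Agent.Lib.OutCrit
import Cfsg.Agent.Lib.GolayM12
import Cfsg.Prelude.Def_Spor_Mathieu
/-!
The outer automorphism group criterion for subgroups of the group of the code, from packed data.
-/
set_option autoImplicit false
set_option linter.unusedSimpArgs false
set_option linter.unusedVariables false
set_option linter.style.haveILetI false
set_option maxRecDepth 100000
open Cfsg
open scoped Pointwise

namespace Cfsg.Agent.Lib.GolayOut
open Cfsg.Agent.Lib
open Cfsg.Agent.Lib.OutCrit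
open Cfsg.Agent.Lib.GolayBasic Cfsg.Agent.Lib.GolayCode Cfsg.Agent.Lib.GolayPerm Cfsg.Agent.Lib.GolayOrder
open Cfsg.Agent.Lib.GolayFacts Cfsg.Agent.Lib.GolayTools Cfsg.Agent.Lib.GolayM23

theorem beq_false_of_ne {a b : ℕ} (h : a ≠ b) : Nat.beq a b = false := by
  cases hb : Nat.beq a b with
  | false => rfl
  | true => exact absurd (Nat.eq_of_beq_eq_true hb) h

/-- evaluate a word on packed elements -/
def evalP (tp : ℕ → ℕ) : List ℕ → ℕ
  | [] => idP
  | i :: l => mulP (tp i) (evalP tp l)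

/-- a packed table -/
def tabP (x y z i : ℕ) : ℕ := cond (Nat.beq i 0) x (cond (Nat.beq i 1) y z)

/-- a word is trivial on one table, and moves a point on another -/
def rej1 (tp tq : ℕ → ℕ) (w : List ℕ) : Bool :=
  Nat.beq (evalP tp w) idP && anyBelow (fun i => !(Nat.beq (ap (evalP tq w) i) i)) 24

theorem rep_evalW {K : Subgroup (Equiv.Perm GolayPt)} {t : ℕ → K} {tp : ℕ → ℕ}
    (h : ∀ i, Rep ((t i : K) : Equiv.Perm GolayPt) (tp i)) (w : List ℕ) :
    Rep ((evalW t w : K) : Equiv.Perm GolayPt) (evalP tp w) := by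
  induction w with
  | nil =>
    simpa [evalW, evalP] using rep_one
  | cons i l ih =>
    have e : evalW t (i :: l) = t i * evalW t l := by simp [evalW]
    rw [e, evalP]
    exact (h i).mul ih

theorem rep_tab {K : Subgroup (Equiv.Perm GolayPt)} {x y z : K} {X Y Z : ℕ}
    (hx : Rep (x : Equiv.Perm GolayPt) X) (hy : Rep (y : Equiv.Perm GolayPt) Y)
    (hz : Rep (z : Equiv.Perm GolayPt) Z) (i : ℕ) :
    Rep ((tab x y z i : K) : Equiv.Perm GolayPt) (tabP X Y Z i) := by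
  unfold tab tabP
  by_cases h0 : i = 0
  · subst h0
    exact hx
  · have h0' : Nat.beq i 0 = false := beq_false_of_ne h0
    by_cases h1 : i = 1
    · subst h1
      exact hy
    · have h1' : Nat.beq i 1 = false := beq_false_of_ne h1
      simp only [h0, h1, if_false, h0', h1', cond_false]
      exact hz

theorem eq_one_of_rej1 {K : Subgroup (Equiv.Perm GolayPt)} {t : ℕ → K} {tp tq : ℕ → ℕ} {w : List ℕ}
    (ht : ∀ i, Rep ((t i : K) : Equiv.Perm GolayPt) (tp i)) (h : rej1 tp tq w = true) : evalW t w = 1 := by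
  simp only [rej1, Bool.and_eq_true] at h
  have h1 := rep_evalW ht w
  rw [Nat.eq_of_beq_eq_true h.1] at h1
  apply Subtype.ext
  exact eq_one_of_rep_id h1

theorem ne_one_of_rej1 {K : Subgroup (Equiv.Perm GolayPt)} {t : ℕ → K} {tp tq : ℕ → ℕ} {w : List ℕ}
    (ht : ∀ i, Rep ((t i : K) : Equiv.Perm GolayPt) (tq i)) (h : rej1 tp tq w = true) : evalW t w ≠ 1 := by
  simp only [rej1, Bool.and_eq_true] at h
  intro he
  have h1 := rep_evalW ht w
  rw [he] at h1
  obtain ⟨i, hi, h2⟩ := anyBelow_spec h.2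
  have h3 := h1 (ptOf i)
  rw [idx_ptOf hi] at h3
  simp only [Subgroup.coe_one, Equiv.Perm.coe_one, id_eq, idx_ptOf hi] at h3
  rw [← h3] at h2
  simp at h2

/-- packed data -/
structure Pk where
  A : ℕ
  Ai : ℕ
  C : ℕ
  D : ℕ
  n : ℕ
  p : ℕ
  s : ℕ
  f : ℕ
  Al : ℕ → ℕ
  W : ℕ → List ℕ

namespace Pk

/-- the check rejecting candidates, apart from the ones listed by `skip` -/
def rejOK (P : Pk) (skip : Bool → ℕ → Bool) : Bool :=
  allBelow (fun k =>
    (skip true k || rej1 (tabP P.A P.C P.D) (tabP P.A P.C (mulP P.D (P.Al k))) (P.W (2 * k + 1))) &&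
    (skip false k || rej1 (tabP P.A P.C P.D) (tabP P.Ai P.C (mulP P.D (P.Al k))) (P.W (2 * k)))) P.n

/-- The hypotheses. -/
structure Good (P : Pk) (K : Subgroup (Equiv.Perm GolayPt)) : Prop where
  ha : ∃ g ∈ K, Rep g P.A
  hc : ∃ g ∈ K, Rep g P.C
  hd : ∃ g ∈ K, Rep g P.D
  hAi : isInvB P.A P.Ai = true
  hAl : ∀ k < P.n, ∃ g ∈ K, Rep g (P.Al k)
  hp : P.p.Prime
  hcard : ∃ N, Nat.card K = P.p * N ∧ ¬ P.p ∣ N
  hord : Nat.beq (powP P.A P.p) idP = true
  hmv : ∃ i < 24, ap P.A i ≠ i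
  hs : Nat.beq (mulP P.C P.A) (mulP (powP P.A P.s) P.C) = true
  hsolve : ∀ m < P.p, ∃ t < P.p, (t + m) % P.p = (t * P.s) % P.p
  hcover : ∀ k < P.p, 0 < k → ∃ i < P.p, (k * P.s ^ i) % P.p = 1 ∨ (k * P.s ^ i) % P.p = P.p - 1
  hCa : ∀ g a : Equiv.Perm GolayPt, g ∈ K → Rep a P.A → g * a = a * g → ∃ m, Rep g (powP P.A m)
  hdc : Nat.beq (mulP P.D P.C) (mulP (powP P.C P.f) P.D) = true
  hL : ∀ g c : Equiv.Perm GolayPt, g ∈ K → Rep c P.C → g * c = c * g → ∃ k < P.n, Rep g (P.Al k)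
  hgen : ∀ H : Subgroup (Equiv.Perm GolayPt), (∃ g ∈ H, Rep g P.A) → (∃ g ∈ H, Rep g P.C) →
    (∃ g ∈ H, Rep g P.D) → K ≤ H

variable {P : Pk} {K : Subgroup (Equiv.Perm GolayPt)}

/-- the generator `a` -/
noncomputable def Good.a (h : P.Good K) : K := ⟨h.ha.choose, h.ha.choose_spec.1⟩
/-- the generator `c` -/
noncomputable def Good.c (h : P.Good K) : K := ⟨h.hc.choose, h.hc.choose_spec.1⟩
/-- the generator `d` -/
noncomputable def Good.d (h : P.Good K) : K := ⟨h.hd.choose, h.hd.choose_spec.1⟩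

open Classical in
/-- the listed elements -/
noncomputable def Good.u (h : P.Good K) (k : ℕ) : K :=
  if hk : k < P.n then ⟨(h.hAl k hk).choose, (h.hAl k hk).choose_spec.1⟩ else 1

theorem Good.ra (h : P.Good K) : Rep (h.a : Equiv.Perm GolayPt) P.A := h.ha.choose_spec.2
theorem Good.rc (h : P.Good K) : Rep (h.c : Equiv.Perm GolayPt) P.C := h.hc.choose_spec.2
theorem Good.rd (h : P.Good K) : Rep (h.d : Equiv.Perm GolayPt) P.D := h.hd.choose_spec.2
theorem Good.ru (h : P.Good K) {k : ℕ} (hk : k < P.n) : Rep (h.u k : Equiv.Perm GolayPt) (P.Al k) := by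
  unfold Good.u
  rw [dif_pos hk]
  exact (h.hAl k hk).choose_spec.2

/-- the criterion data -/
noncomputable def Good.crit (h : P.Good K) : Crit K := ⟨h.a, h.c, h.d, h.u, P.n, P.p, P.s, P.f⟩

theorem Good.crit_good [Finite K] (h : P.Good K) : h.crit.Good := by
  have ra := h.ra
  have rc := h.rc
  have rd := h.rd
  have hp := h.hp
  haveI : Fact P.p.Prime := ⟨hp⟩
  have hoa : orderOf (h.a) = P.p := by
    rw [← Subgroup.orderOf_coe]
    obtain ⟨i, hi, hmv⟩ := h.hmv
    exact orderOf_of_rep hp ra h.hord hi hmv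
  refine ⟨hp, hoa, ?_, ?_, ?_, ?_, ?_, ?_, ?_, ?_⟩
  · -- index
    obtain ⟨N, hN, hNp⟩ := h.hcard
    have h1 := Subgroup.index_mul_card (Subgroup.zpowers h.a)
    rw [Nat.card_zpowers, hoa, hN] at h1
    have h2 : (Subgroup.zpowers h.a).index = N := by
      rw [mul_comm] at h1
      exact Nat.eq_of_mul_eq_mul_left hp.pos h1
    show ¬ P.p ∣ (Subgroup.zpowers h.a).index
    rw [h2]
    exact hNp
  · -- conjugation of a
    show h.c * h.a * h.c⁻¹ = h.a ^ P.s
    apply Subtype.ext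
    have r1 : Rep ((h.c : Equiv.Perm GolayPt) * h.a) (mulP P.C P.A) := rc.mul ra
    have r2 : Rep (((h.a : Equiv.Perm GolayPt)) ^ P.s * h.c) (mulP (powP P.A P.s) P.C) := (rep_powP ra _).mul rc
    rw [Nat.eq_of_beq_eq_true h.hs] at r1
    have := r1.eq r2
    simp only [Subgroup.coe_mul, Subgroup.coe_inv, Subgroup.coe_pow]
    rw [this]
    group
  · -- centraliser of a
    intro g hg
    obtain ⟨m, hm⟩ := h.hCa g h.a g.2 ra (congrArg Subtype.val hg)
    refine ⟨m, ?_⟩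
    apply Subtype.ext
    have hr2 : Rep ((h.a ^ m : K) : Equiv.Perm GolayPt) (powP P.A m) := by
      simpa using rep_powP ra m
    exact hm.eq hr2
  · intro m hm
    obtain ⟨t, _, ht⟩ := h.hsolve m hm
    exact ⟨t, ht⟩
  · intro k hk0 hk
    obtain ⟨i, _, hi⟩ := h.hcover k hk hk0
    exact ⟨i, hi⟩
  · show h.d * h.c * h.d⁻¹ = h.c ^ P.f
    apply Subtype.ext
    have r1 : Rep ((h.d : Equiv.Perm GolayPt) * h.c) (mulP P.D P.C) := rd.mul rc
    have r2 : Rep (((h.c : Equiv.Perm GolayPt)) ^ P.f * h.d) (mulP (powP P.C P.f) P.D) := (rep_powP rc _).mul rd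
    rw [Nat.eq_of_beq_eq_true h.hdc] at r1
    have := r1.eq r2
    simp only [Subgroup.coe_mul, Subgroup.coe_inv, Subgroup.coe_pow]
    rw [this]
    group
  · intro x hx
    obtain ⟨k, hk, hr⟩ := h.hL x h.c x.2 rc (congrArg Subtype.val hx)
    refine ⟨k, hk, ?_⟩
    apply Subtype.ext
    exact hr.eq (h.ru hk)
  · intro K' h1 h2 h3
    have hle := h.hgen (K'.map K.subtype) ⟨_, Subgroup.mem_map_of_mem _ h1, ra⟩
      ⟨_, Subgroup.mem_map_of_mem _ h2, rc⟩ ⟨_, Subgroup.mem_map_of_mem _ h3, rd⟩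
    rw [eq_top_iff]
    intro x _
    obtain ⟨y, hy, hyx⟩ := hle x.2
    have : y = x := Subtype.ext hyx
    rwa [← this]

theorem Good.rejected (h : P.Good K) {skip : Bool → ℕ → Bool} (hr : P.rejOK skip = true) {ε : Bool} {k : ℕ}
    (hk : k < P.n) (hs : skip ε k = false) : Crit.Rejected h.crit ε k := by
  have h1 := allBelow_spec hr k hk
  simp only [Bool.and_eq_true, Bool.or_eq_true] at h1
  have rAi : Rep (h.a⁻¹ : K).1 P.Ai := by
    have := h.ra.inv h.hAi
    simpa using this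
  have rdu : Rep ((h.d * h.u k : K) : Equiv.Perm GolayPt) (mulP P.D (P.Al k)) := h.rd.mul (h.ru hk)
  have rgen : ∀ i, Rep ((tab h.a h.c h.d i : K) : Equiv.Perm GolayPt) (tabP P.A P.C P.D i) :=
    rep_tab h.ra h.rc h.rd
  cases ε with
  | true =>
    rcases h1.1 with h2 | h2
    · rw [hs] at h2
      exact absurd h2 (by simp)
    · refine ⟨P.W (2 * k + 1), eq_one_of_rej1 rgen h2, ?_⟩
      exact ne_one_of_rej1 (rep_tab h.ra h.rc rdu) h2
  | false =>
    rcases h1.2 with h2 | h2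
    · rw [hs] at h2
      exact absurd h2 (by simp)
    · refine ⟨P.W (2 * k), eq_one_of_rej1 rgen h2, ?_⟩
      exact ne_one_of_rej1 (rep_tab rAi h.rc rdu) h2

/-- The trivial case. -/
theorem Good.out_one [Finite K] (h : P.Good K) (h0 : P.Al 0 = idP) (hn : 0 < P.n)
    (hr : P.rejOK (fun e k => e && Nat.beq k 0) = true) : Nat.card (Out K) = 1 := by
  apply Crit.Good.out_one (D := h.crit) h.crit_good
  intro ε k hk hne
  apply h.rejected hr hk
  cases ε with
  | false => rfl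
  | true =>
    by_cases hk0 : k = 0
    · exfalso
      subst hk0
      apply hne
      refine ⟨rfl, ?_⟩
      apply Subtype.ext
      have := h.ru hn
      rw [h0] at this
      exact eq_one_of_rep_id this
    · simp [beq_false_of_ne hk0]

/-- The case of two outer classes: the other class is given by conjugation. -/
theorem Good.out_two [Finite K] (h : P.Good K) (h0 : P.Al 0 = idP) (hn : 0 < P.n) {ε₀ : Bool} {k₀ : ℕ}
    (hr : P.rejOK (fun e k => (e && Nat.beq k 0) || ((e == ε₀) && Nat.beq k k₀)) = true)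
    (hKM : K ≤ M24)
    (hCM : ∀ g a : Equiv.Perm GolayPt, g ∈ M24 → Rep a P.A → g * a = a * g → ∃ m, Rep g (powP P.A m))
    {τ : Equiv.Perm GolayPt} (hτM : τ ∈ M24) (hτK : τ ∉ K) (hn : ∀ g, g ∈ K ↔ τ * g * τ⁻¹ ∈ K) :
    Nat.card (Out K) = 2 := by
  apply Crit.Good.out_two (D := h.crit) h.crit_good (ε₀ := ε₀) (k₀ := k₀) (ω := conjEquiv τ hn)
  · intro ε k hk hne1 hne2
    apply h.rejected hr hk
    have h1 : (ε && Nat.beq k 0) = false := by
      cases ε with
      | false => rfl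
      | true =>
        by_cases hk0 : k = 0
        · exfalso
          subst hk0
          apply hne1
          refine ⟨rfl, ?_⟩
          apply Subtype.ext
          have := h.ru (by omega : 0 < P.n)
          rw [h0] at this
          exact eq_one_of_rep_id this
        · simp [beq_false_of_ne hk0]
    have h2 : ((ε == ε₀) && Nat.beq k k₀) = false := by
      by_cases hk0 : k = k₀
      · subst hk0
        by_cases he : ε = ε₀
        · exact absurd ⟨he, rfl⟩ hne2
        · simp [he]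
      · simp [beq_false_of_ne hk0]
    simp [h1, h2]
  · rintro ⟨k, hk⟩
    have hk' : ∀ x : K, (τ * x * τ⁻¹ : Equiv.Perm GolayPt) = k * x * (k : Equiv.Perm GolayPt)⁻¹ := by
      intro x
      have := congrArg (fun φ : MulAut K => ((φ x : K) : Equiv.Perm GolayPt)) hk
      simpa [conjEquiv, MulAut.conj_apply] using this.symm
    have hz : ((k : Equiv.Perm GolayPt)⁻¹ * τ) ∈ M24 := M24.mul_mem (M24.inv_mem (hKM k.2)) hτM
    have hcomm : ((k : Equiv.Perm GolayPt)⁻¹ * τ) * h.a = h.a * ((k : Equiv.Perm GolayPt)⁻¹ * τ) := by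
      have h1 := hk' h.a
      have h2 : τ * h.a = k * h.a * (k : Equiv.Perm GolayPt)⁻¹ * τ := by
        rw [← h1]; group
      calc ((k : Equiv.Perm GolayPt)⁻¹ * τ) * h.a = (k : Equiv.Perm GolayPt)⁻¹ * (τ * h.a) := by group
        _ = (k : Equiv.Perm GolayPt)⁻¹ * (k * h.a * (k : Equiv.Perm GolayPt)⁻¹ * τ) := by rw [h2]
        _ = h.a * ((k : Equiv.Perm GolayPt)⁻¹ * τ) := by group
    obtain ⟨m, hm⟩ := hCM _ _ hz h.ra hcomm
    have hzeq : (k : Equiv.Perm GolayPt)⁻¹ * τ = (h.a : Equiv.Perm GolayPt) ^ m := hm.eq (rep_powP h.ra m)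
    apply hτK
    have : τ = k * (h.a : Equiv.Perm GolayPt) ^ m := by
      rw [← hzeq]; group
    rw [this]
    exact K.mul_mem k.2 (K.pow_mem h.a.2 m)

end Pk

/-- the initial list of a straight line program on three generators -/
theorem init6 {H : Subgroup (Equiv.Perm GolayPt)} {A C D Ai Ci Di : ℕ} (ha : ∃ g ∈ H, Rep g A)
    (hc : ∃ g ∈ H, Rep g C) (hd : ∃ g ∈ H, Rep g D) (h1 : isInvB A Ai = true) (h2 : isInvB C Ci = true)
    (h3 : isInvB D Di = true) : ∀ pp ∈ [Di, Ci, Ai, D, C, A], ∃ g ∈ H, Rep g pp := by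
  obtain ⟨a, ha, ra⟩ := ha
  obtain ⟨c, hc, rc⟩ := hc
  obtain ⟨d, hd, rd⟩ := hd
  intro pp hpp
  simp only [List.mem_cons, List.not_mem_nil, or_false] at hpp
  rcases hpp with rfl | rfl | rfl | rfl | rfl | rfl
  · exact ⟨_, H.inv_mem hd, rd.inv h3⟩
  · exact ⟨_, H.inv_mem hc, rc.inv h2⟩
  · exact ⟨_, H.inv_mem ha, ra.inv h1⟩
  · exact ⟨_, hd, rd⟩
  · exact ⟨_, hc, rc⟩
  · exact ⟨_, ha, ra⟩

/-- centraliser lists from powers -/
theorem hCa_of_data (d : ConjData) (hd : d.ok (fun _ => true) = true) (hL : d.C' = d.C)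
    (hAl : ∀ k, d.Al k = powP d.C k) :
    ∀ g a : Equiv.Perm GolayPt, g ∈ M24 → Rep a d.C → g * a = a * g → ∃ m, Rep g (powP d.C m) := by
  intro g a hg ra hc
  obtain ⟨k, _, hk⟩ := d.spec _ hd ra (by rw [hL]; exact ra) hg hc (fun _ _ => rfl)
  exact ⟨k, by rwa [hAl] at hk⟩

/-! ### Membership conditions -/

theorem inH_Fix {k : ℕ} (hk : k ≤ 7) {g : Equiv.Perm GolayPt} (hg : g ∈ GolayOrder.Fix k) {pp : ℕ} (r : Rep g pp) :
    allBelow (fun j => Nat.beq (ap pp (b j)) (b j)) k = true := by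
  apply allBelow_of_forall
  intro j hj
  have h1 := (mem_Fix.1 hg).2 j hj
  have h2 := r.apply_ptOf (b_lt (by omega : j < 7))
  rw [h1] at h2
  have h3 := congrArg idx h2
  rw [idx_ptOf (b_lt (by omega)), idx_ptOf (rep_lt r (b_lt (by omega)))] at h3
  rw [← h3]
  exact Nat.beq_refl _

open GolayM12 GolayChain in
theorem inH_D0 {g : Equiv.Perm GolayPt} (hg : g ∈ H12) {pp : ℕ} (r : Rep g pp) : Nat.beq (img pp D0) D0 = true := by
  have h1 : g • GolayBasic.setOf D0 = GolayBasic.setOf D0 := hg.2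
  rw [smul_setOf r] at h1
  have h2 := setOf_injOn (img_lt r _) (by decide +kernel) h1
  rw [h2]
  exact Nat.beq_refl _

theorem smul_compl_eq (g : Equiv.Perm GolayPt) (E : Finset GolayPt) : g • Eᶜ = (g • E)ᶜ := by
  ext x
  rw [← Finset.inv_smul_mem_iff, Finset.mem_compl, Finset.mem_compl, ← Finset.inv_smul_mem_iff]

theorem swap_norm_Fix2 {τ : Equiv.Perm GolayPt} (hτ : τ ∈ M24) (h0 : τ (ptOf (b 0)) = ptOf (b 1))
    (h1 : τ (ptOf (b 1)) = ptOf (b 0)) (g : Equiv.Perm GolayPt) :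
    g ∈ GolayOrder.Fix 2 ↔ τ * g * τ⁻¹ ∈ GolayOrder.Fix 2 := by
  have h0' : τ⁻¹ (ptOf (b 1)) = ptOf (b 0) := by rw [← h0]; simp
  have h1' : τ⁻¹ (ptOf (b 0)) = ptOf (b 1) := by rw [← h1]; simp
  rw [mem_Fix, mem_Fix]
  constructor
  · rintro ⟨hg, hf⟩
    refine ⟨M24.mul_mem (M24.mul_mem hτ hg) (M24.inv_mem hτ), fun j hj => ?_⟩
    have : j = 0 ∨ j = 1 := by omega
    rcases this with rfl | rfl
    · simp only [Equiv.Perm.mul_apply]
      rw [h1', hf 1 (by norm_num), h1]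
    · simp only [Equiv.Perm.mul_apply]
      rw [h0', hf 0 (by norm_num), h0]
  · rintro ⟨hg, hf⟩
    have hg' : g ∈ M24 := by
      have := M24.mul_mem (M24.mul_mem (M24.inv_mem hτ) hg) hτ
      have e : τ⁻¹ * (τ * g * τ⁻¹) * τ = g := by group
      rwa [e] at this
    refine ⟨hg', fun j hj => ?_⟩
    have : j = 0 ∨ j = 1 := by omega
    rcases this with rfl | rfl
    · have := hf 1 (by norm_num)
      simp only [Equiv.Perm.mul_apply] at this
      rw [h0'] at this
      rw [← h0] at this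
      exact τ.injective this
    · have := hf 0 (by norm_num)
      simp only [Equiv.Perm.mul_apply] at this
      rw [h1'] at this
      rw [← h1] at this
      exact τ.injective this

open GolayM12 in
theorem swap_norm_H12 {τ : Equiv.Perm GolayPt} (hτ : τ ∈ M24) (h : τ • GolayBasic.setOf D0 = (GolayBasic.setOf D0)ᶜ)
    (g : Equiv.Perm GolayPt) : g ∈ H12 ↔ τ * g * τ⁻¹ ∈ H12 := by
  set E := GolayBasic.setOf D0 with hE
  have h2 : τ • Eᶜ = E := by rw [smul_compl_eq, h, compl_compl]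
  have h3 : τ⁻¹ • E = Eᶜ := by
    conv_lhs => rw [← h2]
    rw [inv_smul_smul]
  have h4 : τ⁻¹ • Eᶜ = E := by
    conv_lhs => rw [← h]
    rw [inv_smul_smul]
  constructor
  · rintro ⟨hg, hf⟩
    refine ⟨M24.mul_mem (M24.mul_mem hτ hg) (M24.inv_mem hτ), ?_⟩
    have hf' : g • E = E := hf
    show (τ * g * τ⁻¹) • E = E
    rw [mul_smul, mul_smul, h3, smul_compl_eq, hf', h2]
  · rintro ⟨hg, hf⟩
    have hg' : g ∈ M24 := by
      have := M24.mul_mem (M24.mul_mem (M24.inv_mem hτ) hg) hτ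
      have e : τ⁻¹ * (τ * g * τ⁻¹) * τ = g := by group
      rwa [e] at this
    refine ⟨hg', ?_⟩
    have hf' : (τ * g * τ⁻¹) • E = E := hf
    show g • E = E
    have e : g = τ⁻¹ * (τ * g * τ⁻¹) * τ := by group
    rw [e, mul_smul, mul_smul, h, smul_compl_eq, hf', h4]

/-! ### Transport to the chains -/

theorem M23_equiv : Nonempty (↥Spor.M23 ≃* GolayOrder.Fix 1) := by
  obtain ⟨e⟩ := stab_one_equiv (none : GolayPt)
  have e1 : ↥Spor.M23 ≃* MulAction.stabilizer M24 (none : GolayPt) :=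
    { toFun := fun g => ⟨⟨g.1, g.2.1⟩, MulAction.mem_stabilizer_iff.2 (MulAction.mem_stabilizer_iff.1 g.2.2)⟩
      invFun := fun g => ⟨g.1.1, g.1.2, MulAction.mem_stabilizer_iff.2 (MulAction.mem_stabilizer_iff.1 g.2)⟩
      left_inv := fun g => rfl
      right_inv := fun g => rfl
      map_mul' := fun x y => rfl }
  exact ⟨e1.trans e⟩

theorem M22_equiv : Nonempty (↥Spor.M22 ≃* GolayOrder.Fix 2) := by
  obtain ⟨e⟩ := stab_two_equiv (p := (none : GolayPt)) (q := (some 0 : GolayPt)) (by simp)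
  have e1 : ↥Spor.M22 ≃* ↥(MulAction.stabilizer M24 (none : GolayPt) ⊓ MulAction.stabilizer M24 (some 0 : GolayPt)) :=
    { toFun := fun g => ⟨⟨g.1, g.2.1.1⟩, MulAction.mem_stabilizer_iff.2 (MulAction.mem_stabilizer_iff.1 g.2.1.2),
        MulAction.mem_stabilizer_iff.2 (MulAction.mem_stabilizer_iff.1 g.2.2)⟩
      invFun := fun g => ⟨g.1.1, ⟨g.1.2, MulAction.mem_stabilizer_iff.2 (MulAction.mem_stabilizer_iff.1 g.2.1)⟩,
        MulAction.mem_stabilizer_iff.2 (MulAction.mem_stabilizer_iff.1 g.2.2)⟩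
      left_inv := fun g => rfl
      right_inv := fun g => rfl
      map_mul' := fun x y => rfl }
  exact ⟨e1.trans e⟩

open GolayM12 in
theorem squareDodecad_eq : Spor.squareDodecad = GolayBasic.setOf D0 := by
  unfold Spor.squareDodecad
  rw [qrWord_eq, support_wordOf]
  congr 1

open GolayM12 in
theorem M12_eq : Spor.M12 = H12 := by
  unfold Spor.M12 H12
  rw [squareDodecad_eq]

open GolayM12 GolayChain in
theorem M11_eq : Spor.M11 = F1 := by
  ext g
  rw [mem_F1]
  show g ∈ Spor.M12 ⊓ _ ↔ _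
  rw [M12_eq, Subgroup.mem_inf, MulAction.mem_stabilizer_iff]
  have : ptOf 0 = (some 0 : GolayPt) := by
    simp [ptOf]
  rw [this]
  rfl

end Cfsg.Agent.Lib.GolayOut
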