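import Cfsg.Agent.Lib.GolayCode
/-!
Permutations in the group of the length-24 code, through packed representations.
-/
set_option autoImplicit false
set_option linter.unusedSimpArgs false
set_option linter.unusedVariables false
open Cfsg
open scoped Pointwise

namespace Cfsg.Agent.Lib.GolayPerm
open Cfsg.Agent.Lib.GolayBasic Cfsg.Agent.Lib.GolayCode

theorem img_xor {σ : Equiv.Perm GolayPt} {pp : ℕ} (h : Rep σ pp) (a b : ℕ) :
    img pp (a ^^^ b) = img pp a ^^^ img pp b := by
  apply setOf_injOn (img_lt h _) (Nat.xor_lt_two_pow (img_lt h _) (img_lt h _))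
  rw [setOf_img h, setOf_xor, setOf_xor, setOf_img h, setOf_img h]
  exact Finset.image_symmDiff _ _ σ.injective

theorem pc_img {σ : Equiv.Perm GolayPt} {pp : ℕ} (h : Rep σ pp) (m : ℕ) : pc (img pp m) = pc m := by
  rw [← card_setOf, ← card_setOf, setOf_img h, Finset.card_image_of_injective _ σ.injective]

theorem img_zero (pp : ℕ) : img pp 0 = 0 := by
  have : ∀ k, imgAux pp 0 k = 0 := by
    intro k
    induction k with
    | zero => rfl
    | succ k ih =>
      rw [imgAux, ih]
      have : tb 0 k = false := by rw [tb_eq]; simp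
      rw [this]; simp
  exact this 24

theorem img_encAux {σ : Equiv.Perm GolayPt} {pp : ℕ} (h : Rep σ pp)
    (hr : ∀ i < 12, InCode (img pp (row i))) (c k : ℕ) (hk : k ≤ 12) :
    InCode (img pp (encAux c k)) := by
  induction k with
  | zero =>
    show InCode (img pp 0)
    rw [img_zero]; exact inCode_zero
  | succ k ih =>
    rw [encAux]
    show InCode (img pp (encAux c k ^^^ _))
    rw [img_xor h]
    apply (ih (by omega)).xor
    cases tb c k with
    | true => exact hr k (by omega)
    | false =>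
      show InCode (img pp 0)
      rw [img_zero]; exact inCode_zero

/-- If the rows are mapped into the code, so is the whole code. -/
theorem img_inCode {σ : Equiv.Perm GolayPt} {pp : ℕ} (h : Rep σ pp)
    (hr : ∀ i < 12, InCode (img pp (row i))) {m : ℕ} (hm : InCode m) : InCode (img pp m) := by
  obtain ⟨c, hc, rfl⟩ := hm.exists
  rw [codeAt_eq hc]
  exact img_encAux h hr c 12 (le_refl _)

theorem row_inCode_check : allBelow (fun i => inCodeB (row i)) 12 = true := by decide +kernel

theorem row_inCode {i : ℕ} (hi : i < 12) : InCode (row i) :=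
  inCodeB_iff.1 (allBelow_spec row_inCode_check i hi)

/-- Membership in the group through a packed representation. -/
theorem mem_M24_iff {σ : Equiv.Perm GolayPt} {pp : ℕ} (h : Rep σ pp) :
    σ ∈ M24 ↔ ∀ i < 12, InCode (img pp (row i)) := by
  constructor
  · intro hσ i hi
    have hσ' : σ • supports (golayCode : Set (GolayPt → ZMod 2)) = supports (golayCode : Set (GolayPt → ZMod 2)) := hσ
    have h1 : setOf (row i) ∈ supports (golayCode : Set (GolayPt → ZMod 2)) :=
      (setOf_mem_supports (row_inCode hi).1).2 (row_inCode hi)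
    have h2 : σ • setOf (row i) ∈ σ • supports (golayCode : Set (GolayPt → ZMod 2)) :=
      Set.smul_mem_smul_set h1
    rw [hσ', smul_setOf h] at h2
    exact (setOf_mem_supports (img_lt h _)).1 h2
  · intro hr
    show σ • supports (golayCode : Set (GolayPt → ZMod 2)) = supports (golayCode : Set (GolayPt → ZMod 2))
    apply Set.eq_of_subset_of_ncard_le
    · rintro _ ⟨s, hs, rfl⟩
      obtain ⟨m, hm, rfl⟩ := mem_supports_iff.1 hs
      show σ • setOf m ∈ _
      rw [smul_setOf h]
      exact mem_supports_iff.2 ⟨_, img_inCode h hr hm, rfl⟩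
    · rw [Set.ncard_smul_set]
    · exact Set.toFinite _

/-- Boolean check for membership. -/
def inM24B (pp : ℕ) : Bool := allBelow (fun i => inCodeB (img pp (row i))) 12

theorem mem_M24_of_check {σ : Equiv.Perm GolayPt} {pp : ℕ} (h : Rep σ pp) (hc : inM24B pp = true) :
    σ ∈ M24 :=
  (mem_M24_iff h).2 fun i hi => inCodeB_iff.1 (allBelow_spec hc i hi)

theorem M24_img_inCode {σ : Equiv.Perm GolayPt} {pp : ℕ} (h : Rep σ pp) (hσ : σ ∈ M24) {m : ℕ}
    (hm : InCode m) : InCode (img pp m) :=
  img_inCode h ((mem_M24_iff h).1 hσ) hm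

/-- Every permutation has a packed representative. -/
theorem exists_rep (σ : Equiv.Perm GolayPt) : ∃ pp, Rep σ pp := by
  refine ⟨pack (fun i => idx (σ (ptOf i))) 24, ?_⟩
  intro p
  rw [ap_pack _ _ _ (idx_lt p), ptOf_idx]
  have := idx_lt (σ p)
  omega

theorem rep_lt {σ : Equiv.Perm GolayPt} {pp i : ℕ} (h : Rep σ pp) (hi : i < 24) : ap pp i < 24 := by
  have := h (ptOf i)
  rw [idx_ptOf hi] at this
  rw [← this]
  exact idx_lt _

/-- octads are permuted by the group -/
theorem M24_smul_octad {σ : Equiv.Perm GolayPt} (hσ : σ ∈ M24) {o : Finset GolayPt} (ho : o ∈ octads) :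
    σ • o ∈ octads := by
  obtain ⟨pp, h⟩ := exists_rep σ
  obtain ⟨i, hi, rfl⟩ := mem_octads_iff.1 ho
  rw [smul_setOf h, setOf_mem_octads (img_lt h _)]
  exact ⟨M24_img_inCode h hσ (octAt_inCode hi), by rw [pc_img h, octAt_pc hi]⟩

theorem M24_smul_dodecad {σ : Equiv.Perm GolayPt} (hσ : σ ∈ M24) {o : Finset GolayPt} (ho : o ∈ dodecads) :
    σ • o ∈ dodecads := by
  obtain ⟨pp, h⟩ := exists_rep σ
  obtain ⟨i, hi, rfl⟩ := mem_dodecads_iff.1 ho
  rw [smul_setOf h, setOf_mem_dodecads (img_lt h _)]
  exact ⟨M24_img_inCode h hσ (dodAt_inCode hi), by rw [pc_img h, dodAt_pc hi]⟩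

end Cfsg.Agent.Lib.GolayPerm
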