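import Mathlib
/-!
Simplicity criteria for finite groups given through a permutation action.
-/
set_option autoImplicit false
set_option linter.unusedSimpArgs false
set_option linter.unusedVariables false
set_option linter.style.haveILetI false

namespace Cfsg.Agent.Lib.SimpleCrit
open Subgroup Group

section selfcentralizing
variable {G : Type*} [Group G] [Finite G]

/-- the normaliser of a self-centralising subgroup of prime order is solvable -/
theorem isSolvable_normalizer_of_selfCentralizing {p : ℕ} [Fact p.Prime] (a : G) (ha : orderOf a = p)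
    (hC : ∀ g, Commute g a → g ∈ zpowers a) :
    Group.IsSolvable (normalizer (zpowers a : Set G) : Subgroup G) := by
  classical
  let P : Subgroup G := zpowers a
  haveI : IsCyclic P := inferInstance
  haveI hsol : Group.IsSolvable (MulAut P) := by
    exact Group.isSolvable_of_isSolvable_injective (f := (IsCyclic.mulAutMulEquiv P).toMonoidHom) (IsCyclic.mulAutMulEquiv P).injective
  let f : P →* (normalizer (P : Set G) : Subgroup G) :=
    inclusion (le_normalizer (H := P))
  refine isSolvable_of_ker_le_range f (normalizerMonoidHom P) ?_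
  intro n hn
  rw [normalizerMonoidHom_ker] at hn
  have h1 : (n : G) ∈ centralizer (P : Set G) := mem_subgroupOf.1 hn
  have h2 : Commute (n : G) a := by
    have := (mem_centralizer_iff.1 h1) a (mem_zpowers a)
    exact this.symm
  have h3 : (n : G) ∈ P := hC _ h2
  exact ⟨⟨n, h3⟩, rfl⟩

/-- Criterion: self-centralising subgroup of prime order, Sylow; perfect group; every nontrivial normal subgroup
has order divisible by the prime. -/
theorem isSimple_of_selfCentralizing {p : ℕ} [Fact p.Prime] (a : G) (ha : orderOf a = p)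
    (hidx : ¬ p ∣ (zpowers a).index) (hC : ∀ g, Commute g a → g ∈ zpowers a)
    (hperf : commutator G = ⊤)
    (hN : ∀ N : Subgroup G, N.Normal → N ≠ ⊥ → p ∣ Nat.card N) [Nontrivial G] : IsSimpleGroup G := by
  classical
  have hpP : IsPGroup p (zpowers a) := by
    apply IsPGroup.of_card (n := 1)
    rw [Nat.card_zpowers, ha, pow_one]
  let S : Sylow p G := hpP.toSylow hidx
  have hScoe : (S : Subgroup G) = zpowers a := hpP.toSylow_coe hidx
  have hScard : Nat.card S = p := by
    show Nat.card (S : Subgroup G) = p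
    rw [hScoe, Nat.card_zpowers, ha]
  refine ⟨fun N hNn => ?_⟩
  by_cases hbot : N = ⊥
  · exact Or.inl hbot
  right
  haveI := hNn
  have hpN := hN N hNn hbot
  obtain ⟨x, hx⟩ := exists_prime_orderOf_dvd_card' (G := N) p hpN
  have hxG : orderOf (x : G) = p := by
    rw [Subgroup.orderOf_coe, hx]
  have hpQ : IsPGroup p (zpowers (x : G)) := by
    apply IsPGroup.of_card (n := 1)
    rw [Nat.card_zpowers, hxG, pow_one]
  obtain ⟨S', hS'⟩ := hpQ.exists_le_sylow
  have hS'card : Nat.card S' = p := by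
    rw [Sylow.card_eq_multiplicity S', ← Sylow.card_eq_multiplicity S, hScard]
  have hQeq : zpowers (x : G) = S' := by
    apply Subgroup.eq_of_le_of_card_ge hS'
    rw [Nat.card_zpowers, hxG, hS'card]
  have hS'N : (S' : Subgroup G) ≤ N := by
    rw [← hQeq, zpowers_le]
    exact x.2
  obtain ⟨g, hg⟩ := MulAction.exists_smul_eq G S' S
  have hSN : (S : Subgroup G) ≤ N := by
    rw [← hg]
    intro y hy
    rw [Sylow.coe_subgroup_smul, Subgroup.mem_pointwise_smul_iff_inv_smul_mem] at hy
    have h2 := hS'N hy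
    have h3 := hNn.conj_mem _ h2 g
    simpa [MulAut.smul_def, MulAut.conj_apply, mul_assoc] using h3
  have hsup := Sylow.normalizer_sup_eq_top' S hSN
  have hcoe : ((S : Sylow p G) : Set G) = ((zpowers a : Subgroup G) : Set G) := by
    ext y
    exact hpP.mem_toSylow hidx
  rw [hcoe] at hsup
  haveI hsolv := isSolvable_normalizer_of_selfCentralizing a ha hC
  haveI hquot : Group.IsSolvable (G ⧸ N) := by
    let f : (normalizer (zpowers a : Set G) : Subgroup G) →* G ⧸ N :=
      (QuotientGroup.mk' N).comp (normalizer (zpowers a : Set G) : Subgroup G).subtype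
    apply isSolvable_of_surjective (f := f)
    intro q
    obtain ⟨g, rfl⟩ := QuotientGroup.mk'_surjective N q
    have hg : g ∈ normalizer (zpowers a : Set G) ⊔ N := by rw [hsup]; trivial
    rw [Subgroup.mem_sup_of_normal_right] at hg
    obtain ⟨h, hh, n, hn, rfl⟩ := hg
    refine ⟨⟨h, hh⟩, ?_⟩
    show (QuotientGroup.mk' N) h = _
    have hn1 : (QuotientGroup.mk' N) n = 1 := (QuotientGroup.eq_one_iff n).2 hn
    rw [map_mul, hn1, mul_one]
  by_contra hne
  haveI : Nontrivial (G ⧸ N) := QuotientGroup.nontrivial_iff.2 hne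
  haveI : Group.IsPerfect G := Group.isPerfect_def.2 hperf
  exact Group.IsPerfect.not_isSolvable (G ⧸ N) hquot

end selfcentralizing

section action
variable {G X : Type*} [Group G] [MulAction G X]

/-- A nontrivial normal subgroup of a group acting 2-transitively on a set is transitive on it
(the action being faithful on the set). -/
theorem normal_transitive_of_two {Ω : Set X}
    (h2 : ∀ x ∈ Ω, ∀ y ∈ Ω, ∀ u ∈ Ω, ∀ v ∈ Ω, x ≠ y → u ≠ v → ∃ g : G, g • x = u ∧ g • y = v)
    (hfaith : ∀ g : G, (∀ x ∈ Ω, g • x = x) → g = 1) (hinv : ∀ (g : G), ∀ x ∈ Ω, g • x ∈ Ω)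
    {N : Subgroup G} (hN : N.Normal) (hbot : N ≠ ⊥) {u v : X} (hu : u ∈ Ω) (hv : v ∈ Ω) :
    ∃ n ∈ N, n • u = v := by
  by_cases huv : u = v
  · exact ⟨1, N.one_mem, by simp [huv]⟩
  obtain ⟨n, hn, hn1⟩ := N.bot_or_exists_ne_one.resolve_left hbot
  have : ∃ x ∈ Ω, n • x ≠ x := by
    by_contra hcon
    exact hn1 (hfaith n fun y hy => by
      by_contra h
      exact hcon ⟨y, hy, h⟩)
  obtain ⟨x, hx, hnx⟩ := this
  obtain ⟨g, hg1, hg2⟩ := h2 x hx (n • x) (hinv n x hx) u hu v hv hnx.symm huv
  refine ⟨g * n * g⁻¹, hN.conj_mem n hn g, ?_⟩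
  rw [mul_smul, mul_smul, ← hg1, inv_smul_smul, hg2]
  

/-- A finite group acting faithfully and 2-transitively on a set whose size is not a prime power,
with simple point stabiliser, is simple. -/
theorem isSimple_of_two_transitive [Finite G] (Ω : Finset X) {x₀ : X} (hx₀ : x₀ ∈ Ω)
    (h2 : ∀ x ∈ Ω, ∀ y ∈ Ω, ∀ u ∈ Ω, ∀ v ∈ Ω, x ≠ y → u ≠ v → ∃ g : G, g • x = u ∧ g • y = v)
    (hfaith : ∀ g : G, (∀ x ∈ Ω, g • x = x) → g = 1) (hinv : ∀ (g : G), ∀ x ∈ Ω, g • x ∈ Ω)
    (hsimple : IsSimpleGroup (MulAction.stabilizer G x₀)) (hcard : ¬ IsPrimePow Ω.card) :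
    IsSimpleGroup G := by
  classical
  have hnt : Nontrivial G := by
    have h3 := hsimple.toNontrivial
    obtain ⟨a, b, hab⟩ := h3
    exact ⟨⟨a.1, b.1, fun h => hab (Subtype.ext h)⟩⟩
  refine ⟨fun N hN => ?_⟩
  by_cases hbot : N = ⊥
  · exact Or.inl hbot
  right
  have htr : ∀ v ∈ Ω, ∃ n ∈ N, n • x₀ = v := fun v hv =>
    normal_transitive_of_two (Ω := (Ω : Set X)) h2 hfaith hinv hN hbot hx₀ hv
  let S := MulAction.stabilizer G x₀
  let M : Subgroup S := N.subgroupOf S
  haveI hMn : M.Normal := hN.subgroupOf S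
  rcases hsimple.eq_bot_or_eq_top_of_normal M hMn with hM | hM
  · -- `N` is regular
    exfalso
    have hfree : ∀ n ∈ N, n • x₀ = x₀ → n = 1 := by
      intro n hn hfix
      have : (⟨n, hfix⟩ : S) ∈ M := hn
      rw [hM, Subgroup.mem_bot] at this
      exact congrArg Subtype.val this
    -- conjugation is transitive on the nonidentity elements
    have hconj : ∀ n ∈ N, ∀ m ∈ N, n ≠ 1 → m ≠ 1 → orderOf n = orderOf m := by
      intro n hn m hm hn1 hm1
      have hnx : n • x₀ ≠ x₀ := fun h => hn1 (hfree n hn h)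
      have hmx : m • x₀ ≠ x₀ := fun h => hm1 (hfree m hm h)
      obtain ⟨g, hg1, hg2⟩ := h2 x₀ hx₀ (n • x₀) (hinv n _ hx₀) x₀ hx₀ (m • x₀) (hinv m _ hx₀)
        hnx.symm hmx.symm
      have h3 : g * n * g⁻¹ = m := by
        have h4 : (m⁻¹ * (g * n * g⁻¹)) ∈ N := N.mul_mem (N.inv_mem hm) (hN.conj_mem n hn g)
        have h5 : (m⁻¹ * (g * n * g⁻¹)) • x₀ = x₀ := by
          have hgi : g⁻¹ • x₀ = x₀ := by rw [inv_smul_eq_iff, hg1]
          rw [mul_smul, mul_smul, mul_smul, hgi, hg2, inv_smul_smul]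
        have := hfree _ h4 h5
        exact (inv_mul_eq_one.1 this).symm
      rw [← h3]
      have h8 : g * n * g⁻¹ = MulAut.conj g n := rfl
      rw [h8, MulEquiv.orderOf_eq]
    -- counting
    have hcardN : Nat.card N = Ω.card := by
      have hbij : Function.Bijective (fun n : N => (⟨(n : G) • x₀, hinv n _ hx₀⟩ : Ω)) := by
        constructor
        · intro a b hab
          have h1 : (a : G) • x₀ = (b : G) • x₀ := congrArg Subtype.val hab
          have h2 : (b : G)⁻¹ * a ∈ N := N.mul_mem (N.inv_mem b.2) a.2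
          have h3 : ((b : G)⁻¹ * a) • x₀ = x₀ := by rw [mul_smul, h1, inv_smul_smul]
          have h4 := hfree _ h2 h3
          exact Subtype.ext (inv_mul_eq_one.1 h4).symm
        · rintro ⟨v, hv⟩
          obtain ⟨n, hn, h⟩ := htr v hv
          exact ⟨⟨n, hn⟩, Subtype.ext h⟩
      rw [Nat.card_eq_of_bijective _ hbij]
      simp
    have hntN : Nontrivial N := (Subgroup.nontrivial_iff_ne_bot N).2 hbot
    have hcard1 : Nat.card N ≠ 1 := by
      have := Finite.one_lt_card (α := N)
      omega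
    obtain ⟨p, hp, hpd⟩ := Nat.exists_prime_and_dvd hcard1
    haveI : Fact p.Prime := ⟨hp⟩
    obtain ⟨n₀, hn₀⟩ := exists_prime_orderOf_dvd_card' (G := N) p hpd
    have hn₀G : orderOf (n₀ : G) = p := by rw [Subgroup.orderOf_coe, hn₀]
    have hn₀1 : (n₀ : G) ≠ 1 := by
      intro h
      rw [h, orderOf_one] at hn₀G
      exact hp.one_lt.ne hn₀G
    have hPG : IsPGroup p N := by
      intro g
      by_cases hg : (g : G) = 1
      · exact ⟨0, by simpa using Subtype.ext hg⟩
      · refine ⟨1, ?_⟩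
        apply Subtype.ext
        have h9 := hconj g g.2 n₀ n₀.2 hg hn₀1
        rw [hn₀G] at h9
        rw [pow_one]
        show (g : G) ^ p = 1
        rw [← h9]
        exact pow_orderOf_eq_one _
    obtain ⟨k, hk⟩ := IsPGroup.iff_card.1 hPG
    apply hcard
    rw [← hcardN, hk]
    have hk0 : k ≠ 0 := by
      rintro rfl
      exact hcard1 (by simpa using hk)
    exact ⟨p, k, hp.prime, Nat.pos_of_ne_zero hk0, rfl⟩
  · -- the stabiliser is contained in `N`
    rw [eq_top_iff]
    intro g _
    obtain ⟨n, hn, hnx⟩ := htr (g • x₀) (hinv g _ hx₀)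
    have h5 : n⁻¹ * g ∈ S := by
      show (n⁻¹ * g) • x₀ = x₀
      rw [mul_smul, ← hnx, inv_smul_smul]
    have h6 : (⟨n⁻¹ * g, h5⟩ : S) ∈ M := by rw [hM]; trivial
    have h7 : n⁻¹ * g ∈ N := h6
    have := N.mul_mem hn h7
    simpa using this

end action

end Cfsg.Agent.Lib.SimpleCrit
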