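import Cfsg.Agent.Lib.GolayFacts
import Cfsg.Agent.Lib.SimpleCrit
/-!
Tools for computing with subgroups of the group of the code: straight line programs, chains, centraliser lists.
-/
set_option autoImplicit false
set_option linter.unusedSimpArgs false
set_option linter.unusedVariables false
set_option linter.style.haveILetI false
set_option maxRecDepth 100000
open Cfsg
open scoped Pointwise commutatorElement

namespace Cfsg.Agent.Lib.GolayTools
open Cfsg.Agent.Lib
open Cfsg.Agent.Lib.GolayBasic Cfsg.Agent.Lib.GolayCode Cfsg.Agent.Lib.GolayPerm Cfsg.Agent.Lib.GolayOrder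
open Cfsg.Agent.Lib.GolayFacts


/-! ### Fixing base points -/

/-- membership check for `GolayOrder.Fix k` -/
def inFixB (k pp : ℕ) : Bool :=
  validB pp && inM24B pp && allBelow (fun j => Nat.beq (ap pp (b j)) (b j)) k

theorem mem_Fix_of_check {k pp : ℕ} (hk : k ≤ 7) (h : inFixB k pp = true) : ∃ g ∈ GolayOrder.Fix k, Rep g pp := by
  simp only [inFixB, Bool.and_eq_true] at h
  obtain ⟨⟨h1, h2⟩, h3⟩ := h
  refine ⟨permOf pp h1, ?_, rep_permOf pp h1⟩
  rw [mem_Fix]
  refine ⟨mem_M24_of_check (rep_permOf pp h1) h2, fun j hj => ?_⟩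
  have hj' := Nat.eq_of_beq_eq_true (allBelow_spec h3 j hj)
  rw [(rep_permOf pp h1).apply_ptOf (b_lt (by omega)), hj']

/-- Check of membership for an element already known. -/
theorem mem_Fix_of_rep {k pp : ℕ} {g : Equiv.Perm GolayPt} (hk : k ≤ 7) (hg : Rep g pp)
    (h : (inM24B pp && allBelow (fun j => Nat.beq (ap pp (b j)) (b j)) k) = true) : g ∈ GolayOrder.Fix k := by
  simp only [Bool.and_eq_true] at h
  rw [mem_Fix]
  refine ⟨mem_M24_of_check hg h.1, fun j hj => ?_⟩
  rw [hg.apply_ptOf (b_lt (by omega)), Nat.eq_of_beq_eq_true (allBelow_spec h.2 j hj)]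

/-- The stabiliser chain: `GolayOrder.Fix k` is contained in a subgroup containing all transversals from level `k`. -/
theorem Fix_le_of_trans' {H : Subgroup (Equiv.Perm GolayPt)} {k₀ : ℕ} (hk₀ : k₀ ≤ 7)
    (hT : ∀ {k y : ℕ}, k₀ ≤ k → k < 7 → y < 24 → (A k).testBit y = true → ∃ g ∈ H, Rep g (T k y)) :
    GolayOrder.Fix k₀ ≤ H := by
  have key : ∀ d, d ≤ 7 - k₀ → GolayOrder.Fix (7 - d) ≤ H := by
    intro d
    induction d with
    | zero =>
      intro _
      show GolayOrder.Fix 7 ≤ H
      rw [Fix7_trivial]; exact bot_le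
    | succ d ih =>
      intro hd g hg
      set k := 7 - (d + 1) with hk
      have hk7 : k < 7 := by omega
      have hk1 : 7 - d = k + 1 := by omega
      have hihk := ih (by omega)
      rw [hk1] at hihk
      have hA := image_mem_A hk7 hg
      obtain ⟨t, ht, rt, hmap⟩ := exists_trans hk7 (idx_lt (g (ptOf (b k)))) hA
      rw [ptOf_idx] at hmap
      obtain ⟨t', ht', rt'⟩ := hT (by omega) hk7 (idx_lt (g (ptOf (b k)))) hA
      have heq : t' = t := rt'.eq rt
      subst heq
      have hmem : t'⁻¹ * g ∈ GolayOrder.Fix (k + 1) := by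
        refine ⟨(GolayOrder.Fix k).mul_mem ((GolayOrder.Fix k).inv_mem ht) hg, ?_⟩
        show t'⁻¹ * g ∈ MulAction.stabilizer (Equiv.Perm GolayPt) (ptOf (b k))
        rw [MulAction.mem_stabilizer_iff, Equiv.Perm.smul_def, Equiv.Perm.mul_apply, ← hmap]
        simp
      have := H.mul_mem ht' (hihk hmem)
      simpa using this
  have := key (7 - k₀) (le_refl _)
  rwa [show 7 - (7 - k₀) = k₀ by omega] at this

/-! ### Straight line programs -/

theorem allBelow_of_forall {f : ℕ → Bool} {n : ℕ} (h : ∀ i < n, f i = true) : allBelow f n = true := by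
  induction n with
  | zero => rfl
  | succ n ih =>
    have h1 := ih fun i hi => h i (by omega)
    have h2 := h n (by omega)
    simp [allBelow, h1, h2]

/-- Boolean membership in a list. -/
def memB (x : ℕ) : List ℕ → Bool
  | [] => false
  | a :: l => or (Nat.beq x a) (memB x l)

theorem mem_of_memB {x : ℕ} {l : List ℕ} (h : memB x l = true) : x ∈ l := by
  induction l with
  | nil => simp [memB] at h
  | cons a l ih =>
    simp only [memB, Bool.or_eq_true] at h
    rcases h with h | h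
    · rw [Nat.eq_of_beq_eq_true h]; exact List.mem_cons_self ..
    · exact List.mem_cons_of_mem _ (ih h)

/-- the straight line program: `stepR` holds pairs of distances from the head of the list, 12 bits each -/
def runS (init : List ℕ) (stepR : ℕ) : ℕ → List ℕ
  | 0 => init
  | n + 1 =>
    let v := runS init stepR n
    mulP (v.getD (rom stepR 12 (Nat.mul 2 n)) idP) (v.getD (rom stepR 12 (Nat.add (Nat.mul 2 n) 1)) idP) :: v

theorem runS_rep {H : Subgroup (Equiv.Perm GolayPt)} {init : List ℕ} (stepR : ℕ)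
    (hinit : ∀ pp ∈ init, ∃ g ∈ H, Rep g pp) (n : ℕ) :
    ∀ pp ∈ runS init stepR n, ∃ g ∈ H, Rep g pp := by
  have hone : ∃ g ∈ H, Rep g idP := ⟨1, H.one_mem, rep_one⟩
  have hget : ∀ (v : List ℕ), (∀ pp ∈ v, ∃ g ∈ H, Rep g pp) → ∀ i, ∃ g ∈ H, Rep g (v.getD i idP) := by
    intro v hv i
    by_cases hi : i < v.length
    · rw [List.getD_eq_getElem _ _ hi]
      exact hv _ (List.getElem_mem hi)
    · rw [List.getD_eq_default _ _ (by omega)]
      exact hone
  induction n with
  | zero => exact hinit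
  | succ n ih =>
    intro pp hpp
    simp only [runS, List.mem_cons] at hpp
    rcases hpp with rfl | hpp
    · obtain ⟨g1, h1, r1⟩ := hget _ ih (rom stepR 12 (Nat.mul 2 n))
      obtain ⟨g2, h2, r2⟩ := hget _ ih (rom stepR 12 (Nat.add (Nat.mul 2 n) 1))
      exact ⟨g1 * g2, H.mul_mem h1 h2, r1.mul r2⟩
    · exact ih pp hpp

/-- Check that all transversals from level `k₀` occur in the list. -/
def transInList (k₀ : ℕ) (v : List ℕ) : Bool :=
  allBelow (fun k => allBelow (fun y =>
    cond (and (Nat.ble k₀ k) (tb (A k) y))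
      (or (Nat.beq (T k y) idP) (memB (T k y) v))
      true) 24) 7

/-- From a straight line program to containment. -/
theorem Fix_le_of_slp {H : Subgroup (Equiv.Perm GolayPt)} {k₀ : ℕ} (hk₀ : k₀ ≤ 7) {init : List ℕ} {stepR n : ℕ}
    (hinit : ∀ pp ∈ init, ∃ g ∈ H, Rep g pp) (hcheck : transInList k₀ (runS init stepR n) = true) :
    GolayOrder.Fix k₀ ≤ H := by
  apply Fix_le_of_trans' hk₀
  intro k y hk0 hk hy hA
  have h := allBelow_spec (allBelow_spec hcheck k hk) y hy
  have hb : Nat.ble k₀ k = true := Nat.ble_eq_true_of_le hk0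
  simp only [tb_eq, hA, hb, Bool.and_true, cond_true, Bool.or_eq_true] at h
  rcases h with h | h
  · rw [Nat.eq_of_beq_eq_true h]
    exact ⟨1, H.one_mem, rep_one⟩
  · exact runS_rep stepR hinit n _ (mem_of_memB h)

/-- derived subgroup inside the ambient group -/
def derivedIn (H : Subgroup (Equiv.Perm GolayPt)) : Subgroup (Equiv.Perm GolayPt) :=
  (commutator H).map H.subtype

/-- Commutator witness for a packed element. -/
theorem mem_derivedIn_of_witness {H : Subgroup (Equiv.Perm GolayPt)} {g u v : Equiv.Perm GolayPt} {G U V : ℕ}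
    (hg : Rep g G) (hu : Rep u U) (hv : Rep v V) (huH : u ∈ H) (hvH : v ∈ H)
    (hw : Nat.beq (mulP (mulP G V) U) (mulP U V) = true) : g ∈ derivedIn H := by
  have h1 : Rep (g * v * u) (mulP (mulP G V) U) := (hg.mul hv).mul hu
  have h2 : Rep (u * v) (mulP U V) := hu.mul hv
  rw [← Nat.eq_of_beq_eq_true hw] at h2
  have h3 : g * v * u = u * v := h1.eq h2
  have h4 : g = u * v * u⁻¹ * v⁻¹ := by
    rw [← h3]; group
  refine ⟨⁅(⟨u, huH⟩ : H), (⟨v, hvH⟩ : H)⁆, ?_, ?_⟩
  · exact Subgroup.commutator_mem_commutator trivial trivial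
  · rw [h4]; rfl

theorem perfect_of_le_derivedIn {H : Subgroup (Equiv.Perm GolayPt)} (h : H ≤ derivedIn H) : commutator H = ⊤ := by
  rw [eq_top_iff]
  intro x _
  obtain ⟨y, hy, hyx⟩ := h x.2
  have : y = x := Subtype.ext hyx
  rwa [← this]

/-! ### Powers -/

/-- iterated multiplication -/
def powP (x : ℕ) : ℕ → ℕ
  | 0 => idP
  | n + 1 => mulP (powP x n) x

theorem rep_powP {g : Equiv.Perm GolayPt} {x : ℕ} (h : Rep g x) (n : ℕ) : Rep (g ^ n) (powP x n) := by
  induction n with
  | zero => simpa [powP] using rep_one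
  | succ n ih =>
    rw [pow_succ]
    exact ih.mul h

theorem eq_one_of_rep_id {g : Equiv.Perm GolayPt} (h : Rep g idP) : g = 1 := h.eq rep_one

theorem rep_of_ap_eq {g : Equiv.Perm GolayPt} {x y : ℕ} (hx : Rep g x) (h : ∀ i < 24, ap x i = ap y i) : Rep g y := by
  intro p
  rw [hx p, h _ (idx_lt p)]

/-- the order of a packed element of prime order -/
theorem orderOf_of_rep {g : Equiv.Perm GolayPt} {x p : ℕ} (hp : p.Prime) (h : Rep g x)
    (h1 : Nat.beq (powP x p) idP = true) {i₀ : ℕ} (hi₀ : i₀ < 24) (h2 : ap x i₀ ≠ i₀) : orderOf g = p := by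
  haveI : Fact p.Prime := ⟨hp⟩
  apply orderOf_eq_prime
  · have h3 := rep_powP h p
    rw [Nat.eq_of_beq_eq_true h1] at h3
    exact eq_one_of_rep_id h3
  · rintro rfl
    have := h (ptOf i₀)
    rw [idx_ptOf hi₀] at this
    exact h2 (by simpa [idx_ptOf hi₀] using this.symm)

/-! ### Elements of the pointwise stabiliser of five base points -/

theorem Fix5_decomp {g : Equiv.Perm GolayPt} (hg : g ∈ GolayOrder.Fix 5) :
    ∃ r s, r < 24 ∧ s < 24 ∧ (A 5).testBit r = true ∧ (A 6).testBit s = true ∧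
      ∃ t5 t6 : Equiv.Perm GolayPt, Rep t5 (T 5 r) ∧ Rep t6 (T 6 s) ∧ g = t5 * t6 := by
  have hA := image_mem_A (by norm_num : 5 < 7) hg
  obtain ⟨t, ht, rt, hmap⟩ := exists_trans (by norm_num : 5 < 7) (idx_lt (g (ptOf (b 5)))) hA
  rw [ptOf_idx] at hmap
  have hmem : t⁻¹ * g ∈ GolayOrder.Fix 6 := by
    refine ⟨(GolayOrder.Fix 5).mul_mem ((GolayOrder.Fix 5).inv_mem ht) hg, ?_⟩
    show t⁻¹ * g ∈ MulAction.stabilizer (Equiv.Perm GolayPt) (ptOf (b 5))
    rw [MulAction.mem_stabilizer_iff, Equiv.Perm.smul_def, Equiv.Perm.mul_apply, ← hmap]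
    simp
  have hA' := image_mem_A (by norm_num : 6 < 7) hmem
  obtain ⟨t', ht', rt', hmap'⟩ := exists_trans (by norm_num : 6 < 7) (idx_lt ((t⁻¹ * g) (ptOf (b 6)))) hA'
  rw [ptOf_idx] at hmap'
  have hmem' : t'⁻¹ * (t⁻¹ * g) ∈ GolayOrder.Fix 7 := by
    refine ⟨(GolayOrder.Fix 6).mul_mem ((GolayOrder.Fix 6).inv_mem ht') hmem, ?_⟩
    show t'⁻¹ * (t⁻¹ * g) ∈ MulAction.stabilizer (Equiv.Perm GolayPt) (ptOf (b 6))
    rw [MulAction.mem_stabilizer_iff, Equiv.Perm.smul_def, Equiv.Perm.mul_apply, ← hmap']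
    simp
  rw [Fix7_trivial, Subgroup.mem_bot] at hmem'
  refine ⟨_, _, idx_lt _, idx_lt _, hA, hA', t, t', rt, rt', ?_⟩
  have h1 : t⁻¹ * g = t' := by
    have := inv_mul_eq_one.1 hmem'
    exact this.symm
  rw [← h1]; group

/-! ### Listing the elements conjugating one packed element to another -/

/-- disjunction over an initial segment -/
def anyBelow (f : ℕ → Bool) : ℕ → Bool
  | 0 => false
  | n + 1 => or (anyBelow f n) (f n)

theorem anyBelow_spec {f : ℕ → Bool} {n : ℕ} (h : anyBelow f n = true) : ∃ i < n, f i = true := by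
  induction n with
  | zero => simp [anyBelow] at h
  | succ n ih =>
    simp only [anyBelow, Bool.or_eq_true] at h
    rcases h with h | h
    · obtain ⟨i, hi, h'⟩ := ih h
      exact ⟨i, by omega, h'⟩
    · exact ⟨n, by omega, h⟩

/-- Data for listing the elements `g` of the group with `g * c = c' * g`. -/
structure ConjData where
  C : ℕ
  C' : ℕ
  x0 : ℕ
  W : ℕ
  Wi : ℕ
  U : ℕ → ℕ
  Y : ℕ
  L : ℕ
  Al : ℕ → ℕ

namespace ConjData
variable (d : ConjData)

/-- the candidate value at a point -/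
def cap (y r s i : ℕ) : ℕ := ap (d.U y) (ap (T 5 r) (ap (T 6 s) (ap d.Wi i)))

/-- the relation on points -/
def commOK (y r s : ℕ) : Bool :=
  allBelow (fun i => Nat.beq (d.cap y r s (ap d.C i)) (ap d.C' (d.cap y r s i))) 24

/-- the check for a candidate -/
def cellOK (inH : ℕ → Bool) (y r s : ℕ) : Bool :=
  cond (d.commOK y r s)
    (cond (inH (pack (d.cap y r s) 24))
      (anyBelow (fun k => allBelow (fun i => Nat.beq (d.cap y r s i) (ap (d.Al k) i)) 24) d.L) true) true

/-- precondition on the first point -/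
def preOK : Bool :=
  validB d.W && inM24B d.W && isInvB d.W d.Wi && Nat.blt d.x0 24 && !(Nat.beq (ap d.C d.x0) d.x0) &&
    allBelow (fun i => Nat.beq (ap d.W (b i)) (ap (powP d.C i) d.x0)) 5

/-- the element `U y` -/
def uOK (y : ℕ) : Bool :=
  validB (d.U y) && inM24B (d.U y) && allBelow (fun i => Nat.beq (ap (d.U y) (b i)) (ap (powP d.C' i) y)) 5

/-- the whole check -/
def ok (inH : ℕ → Bool) : Bool :=
  d.preOK && allBelow (fun y => cond (tb d.Y y)
    (d.uOK y && allBelow (fun r => cond (tb (A 5) r)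
      (allBelow (fun s => cond (tb (A 6) s) (d.cellOK inH y r s) true) 24) true) 24)
    (Nat.beq (ap d.C' y) y)) 24

theorem spec (inH : ℕ → Bool) (h : d.ok inH = true) {c c' g : Equiv.Perm GolayPt} (hc : Rep c d.C)
    (hc' : Rep c' d.C') (hg : g ∈ M24) (hgc : g * c = c' * g) (hH : ∀ pp, Rep g pp → inH pp = true) :
    ∃ k < d.L, Rep g (d.Al k) := by
  simp only [ok, Bool.and_eq_true] at h
  obtain ⟨hpre, hall⟩ := h
  simp only [preOK, Bool.and_eq_true] at hpre
  obtain ⟨⟨⟨⟨⟨hW1, hW2⟩, hW3⟩, hx0⟩, hmv⟩, hW4⟩ := hpre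
  have hx0' : d.x0 < 24 := by simpa [Nat.blt] using hx0
  set x := ptOf d.x0 with hx
  have hsc : SemiconjBy g c c' := hgc
  have hpow : ∀ i : ℕ, g ((c ^ i) x) = (c' ^ i) (g x) := by
    intro i
    have := (hsc.pow_right i).eq
    have h2 := congrArg (fun f : Equiv.Perm GolayPt => f x) this
    simpa using h2
  set y := idx (g x) with hy
  have hylt : y < 24 := idx_lt _
  have hgx : g x = ptOf y := by rw [hy, ptOf_idx]
  have hyall := allBelow_spec hall y hylt
  have hYy : tb d.Y y = true := by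
    cases hb : tb d.Y y with
    | true => rfl
    | false =>
      exfalso
      rw [hb] at hyall
      have h1 : ap d.C' y = y := Nat.eq_of_beq_eq_true hyall
      have h2 : c' (ptOf y) = ptOf y := by rw [hc'.apply_ptOf hylt, h1]
      have h3 : g (c x) = g x := by
        have := hpow 1
        simp only [pow_one] at this
        rw [this, hgx, h2]
      have h4 : c x = x := g.injective h3
      rw [hx, hc.apply_ptOf hx0'] at h4
      have h5 := congrArg idx h4
      rw [idx_ptOf hx0', idx_ptOf (rep_lt hc hx0')] at h5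
      have h6 : Nat.beq (ap d.C d.x0) d.x0 = true := by rw [h5]; exact Nat.beq_refl _
      rw [h6] at hmv
      simp at hmv
  rw [hYy] at hyall
  simp only [cond_true, Bool.and_eq_true, uOK] at hyall
  obtain ⟨⟨⟨hU1, hU2⟩, hU3⟩, hcells⟩ := hyall
  let w := permOf d.W hW1
  let u := permOf (d.U y) hU1
  have hwrep : Rep w d.W := rep_permOf _ hW1
  have hurep : Rep u (d.U y) := rep_permOf _ hU1
  have hwM : w ∈ M24 := mem_M24_of_check hwrep hW2
  have huM : u ∈ M24 := mem_M24_of_check hurep hU2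
  have hwi : Rep w⁻¹ d.Wi := hwrep.inv hW3
  let f := u⁻¹ * g * w
  have hfM : f ∈ M24 := M24.mul_mem (M24.mul_mem (M24.inv_mem huM) hg) hwM
  have hfF : f ∈ GolayOrder.Fix 5 := by
    rw [mem_Fix]
    refine ⟨hfM, fun i hi => ?_⟩
    have hbi : b i < 24 := b_lt (by omega)
    have h1 : w (ptOf (b i)) = (c ^ i) x := by
      rw [hwrep.apply_ptOf hbi, Nat.eq_of_beq_eq_true (allBelow_spec hW4 i hi), hx]
      exact ((rep_powP hc i).apply_ptOf hx0').symm
    have h2 : u (ptOf (b i)) = (c' ^ i) (g x) := by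
      rw [hurep.apply_ptOf hbi, Nat.eq_of_beq_eq_true (allBelow_spec hU3 i hi), hgx]
      exact ((rep_powP hc' i).apply_ptOf hylt).symm
    show u⁻¹ (g (w (ptOf (b i)))) = _
    rw [h1, hpow, ← h2]
    simp
  obtain ⟨r, s, hr, hs, hAr, hAs, t5, t6, r5, r6, hft⟩ := Fix5_decomp hfF
  have hgeq : g = u * (t5 * t6) * w⁻¹ := by
    rw [← hft]
    show g = u * (u⁻¹ * g * w) * w⁻¹
    group
  have hcap : ∀ p, idx (g p) = d.cap y r s (idx p) := by
    intro p
    rw [hgeq]
    simp only [Equiv.Perm.mul_apply]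
    rw [hurep, r5, r6, hwi]
    rfl
  have hcell := allBelow_spec hcells r hr
  rw [tb_eq, hAr] at hcell
  simp only [cond_true] at hcell
  have hcell2 := allBelow_spec hcell s hs
  rw [tb_eq, hAs] at hcell2
  simp only [cond_true, cellOK] at hcell2
  have hcomm : d.commOK y r s = true := by
    unfold commOK
    have hall2 : ∀ i < 24, Nat.beq (d.cap y r s (ap d.C i)) (ap d.C' (d.cap y r s i)) = true := by
      intro i hi
      have h1 : g (c (ptOf i)) = c' (g (ptOf i)) := by
        have := congrArg (fun f : Equiv.Perm GolayPt => f (ptOf i)) hgc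
        simpa using this
      have h2 := congrArg idx h1
      rw [hcap, hc, idx_ptOf hi, hc', hcap, idx_ptOf hi] at h2
      rw [h2]
      exact Nat.beq_refl _
    exact allBelow_of_forall hall2
  rw [hcomm] at hcell2
  simp only [cond_true] at hcell2
  have hrep2 : Rep g (pack (d.cap y r s) 24) := by
    intro p
    rw [hcap, ap_pack _ _ _ (idx_lt p)]
    have : d.cap y r s (idx p) < 24 := by rw [← hcap]; exact idx_lt _
    omega
  rw [hH _ hrep2] at hcell2
  simp only [cond_true] at hcell2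
  obtain ⟨k, hk, hkok⟩ := anyBelow_spec hcell2
  refine ⟨k, hk, ?_⟩
  intro p
  rw [hcap]
  exact Nat.eq_of_beq_eq_true (allBelow_spec hkok _ (idx_lt p))

end ConjData

end Cfsg.Agent.Lib.GolayTools
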