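import Mathlib

set_option autoImplicit false

namespace Cfsg.Agent.Lib.H1AltOrd

open Equiv.Perm

/-- A prime dividing the lcm of a multiset divides a member. -/
theorem prime_dvd_lcm {p : ℕ} (hp : p.Prime) (s : Multiset ℕ) (h : p ∣ s.lcm) : ∃ a ∈ s, p ∣ a := by
  induction s using Multiset.induction_on with
  | empty => simp at h; exact absurd h hp.one_lt.ne'
  | cons a s ih =>
    rw [Multiset.lcm_cons] at h
    have h1 : p ∣ Nat.lcm a s.lcm := h
    rcases (Nat.Prime.dvd_lcm hp).mp h1 with h2 | h2
    · exact ⟨a, Multiset.mem_cons_self a s, h2⟩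
    · obtain ⟨b, hb, hb2⟩ := ih h2
      exact ⟨b, Multiset.mem_cons_of_mem hb, hb2⟩

/-- The order of a permutation in the alternating group with given cycle type. -/
theorem exists_alt_of_cycleType {n : ℕ} (m : Multiset ℕ) (hsum : m.sum ≤ n) (h2 : ∀ a ∈ m, 2 ≤ a)
    (hev : Even (m.sum + Multiset.card m)) :
    m.lcm ∈ Set.range (orderOf : alternatingGroup (Fin n) → ℕ) := by
  classical
  obtain ⟨g, hg⟩ := (Equiv.Perm.exists_with_cycleType_iff (Fin n) (m := m)).mpr
    ⟨by simpa using hsum, h2⟩
  have hs : g ∈ alternatingGroup (Fin n) := by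
    rw [Equiv.Perm.mem_alternatingGroup, sign_of_cycleType, hg, hev.neg_one_pow]
  refine ⟨⟨g, hs⟩, ?_⟩
  rw [Subgroup.orderOf_mk, ← lcm_cycleType, hg]

/-- A cycle type of an element of the alternating group. -/
theorem cycleType_of_mem {n : ℕ} (g : alternatingGroup (Fin n)) :
    ((g : Equiv.Perm (Fin n)).cycleType.lcm = orderOf g) ∧
    ((g : Equiv.Perm (Fin n)).cycleType.sum ≤ n) ∧
    (∀ a ∈ (g : Equiv.Perm (Fin n)).cycleType, 2 ≤ a) ∧
    Even ((g : Equiv.Perm (Fin n)).cycleType.sum + Multiset.card (g : Equiv.Perm (Fin n)).cycleType) := by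
  classical
  refine ⟨?_, ?_, fun a ha => two_le_of_mem_cycleType ha, ?_⟩
  · rw [lcm_cycleType, Subgroup.orderOf_coe]
  · simpa using sum_cycleType_le (g : Equiv.Perm (Fin n))
  · have h1 : sign (g : Equiv.Perm (Fin n)) = 1 := Equiv.Perm.mem_alternatingGroup.mp g.2
    rw [sign_of_cycleType] at h1
    by_contra h
    rw [Nat.not_even_iff_odd] at h
    rw [h.neg_one_pow] at h1
    exact absurd h1 (by decide)

theorem two_mem_sum {m : Multiset ℕ} {a b : ℕ} (ha : a ∈ m) (hb : b ∈ m) (hab : a ≠ b) :
    a + b ≤ m.sum := by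
  obtain ⟨m', rfl⟩ := Multiset.exists_cons_of_mem ha
  have hb' : b ∈ m' := by
    rcases Multiset.mem_cons.mp hb with h | h
    · exact absurd h.symm hab
    · exact h
  obtain ⟨m'', rfl⟩ := Multiset.exists_cons_of_mem hb'
  simp only [Multiset.sum_cons]
  omega

theorem mem_le_sum {m : Multiset ℕ} {a : ℕ} (ha : a ∈ m) : a ≤ m.sum := by
  obtain ⟨m', rfl⟩ := Multiset.exists_cons_of_mem ha
  simp only [Multiset.sum_cons]
  omega

theorem lcm_two_primes {r s : ℕ} (hr : r.Prime) (hs : s.Prime) (hrs : r ≠ s) :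
    Multiset.lcm ({r, s} : Multiset ℕ) = r * s := by
  have h1 : Nat.Coprime r s := (Nat.coprime_primes hr hs).2 hrs
  have : Multiset.lcm ({r, s} : Multiset ℕ) = Nat.lcm r s := by
    change Multiset.lcm (r ::ₘ s ::ₘ 0) = _
    simp [Multiset.lcm_cons]
    rfl
  rw [this, h1.lcm_eq_mul]

/-- odd primes: element of order `r * s` in the alternating group. -/
theorem order_rs (n r s : ℕ) (hr : r.Prime) (hs : s.Prime) (hr2 : r ≠ 2) (hs2 : s ≠ 2) (hrs : r ≠ s) :
    (r * s ∈ Set.range (orderOf : alternatingGroup (Fin n) → ℕ)) ↔ r + s ≤ n := by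
  have hr3 : 3 ≤ r := by have := hr.two_le; omega
  have hs3 : 3 ≤ s := by have := hs.two_le; omega
  constructor
  · rintro ⟨g, hg⟩
    obtain ⟨h1, h2, h3, -⟩ := cycleType_of_mem g
    rw [hg] at h1
    obtain ⟨a, ha, hra⟩ := prime_dvd_lcm hr _ (h1 ▸ dvd_mul_right r s)
    obtain ⟨b, hb, hsb⟩ := prime_dvd_lcm hs _ (h1 ▸ dvd_mul_left s r)
    by_cases hab : a = b
    · subst hab
      have hcop : Nat.Coprime r s := (Nat.coprime_primes hr hs).2 hrs
      have h4 : r * s ∣ a := hcop.mul_dvd_of_dvd_of_dvd hra hsb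
      have h5 : 0 < a := by have := h3 a ha; omega
      have h6 := Nat.le_of_dvd h5 h4
      have h7 := mem_le_sum ha
      have h8 : r + s ≤ r * s := by nlinarith
      omega
    · have h4 := two_mem_sum ha hb hab
      have h5 : r ≤ a := Nat.le_of_dvd (by have := h3 a ha; omega) hra
      have h6 : s ≤ b := Nat.le_of_dvd (by have := h3 b hb; omega) hsb
      omega
  · intro h
    have h1 := exists_alt_of_cycleType (n := n) ({r, s} : Multiset ℕ) (by simpa using h)
      (by
        intro a ha
        simp only [Multiset.insert_eq_cons, Multiset.mem_cons, Multiset.mem_singleton] at ha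
        rcases ha with rfl | rfl <;> omega)
      (by
        have h2 : Odd r := hr.odd_of_ne_two hr2
        have h3 : Odd s := hs.odd_of_ne_two hs2
        simp only [Multiset.insert_eq_cons, Multiset.sum_cons, Multiset.sum_singleton,
          Multiset.card_cons, Multiset.card_singleton]
        have h4 : Even (r + s) := h2.add_odd h3
        exact h4.add (by decide))
    rwa [lcm_two_primes hr hs hrs] at h1

/-- A multiset of odd numbers has even `sum + card`. -/
theorem even_of_all_odd (m : Multiset ℕ) (h : ∀ a ∈ m, Odd a) : Even (m.sum + Multiset.card m) := by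
  induction m using Multiset.induction_on with
  | empty => simp
  | cons a s ih =>
    have h1 := ih (fun b hb => h b (Multiset.mem_cons_of_mem hb))
    have h2 := h a (Multiset.mem_cons_self a s)
    simp only [Multiset.sum_cons, Multiset.card_cons]
    have h3 : a + s.sum + (Multiset.card s + 1) = (a + 1) + (s.sum + Multiset.card s) := by ring
    rw [h3]
    exact (h2.add_odd (by decide)).add h1

/-- Element of order `2 * r` in the alternating group. -/
theorem order_2r (n r : ℕ) (hr : r.Prime) (hr2 : r ≠ 2) :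
    (2 * r ∈ Set.range (orderOf : alternatingGroup (Fin n) → ℕ)) ↔ r + 4 ≤ n := by
  have hr3 : 3 ≤ r := by have := hr.two_le; omega
  have hcop : Nat.Coprime 2 r := (Nat.coprime_primes Nat.prime_two hr).2 (Ne.symm hr2)
  constructor
  · rintro ⟨g, hg⟩
    obtain ⟨h1, h2, h3, h4⟩ := cycleType_of_mem g
    rw [hg] at h1
    generalize (g : Equiv.Perm (Fin n)).cycleType = c at h1 h2 h3 h4
    obtain ⟨a, ha, h2a⟩ := prime_dvd_lcm Nat.prime_two c (h1 ▸ dvd_mul_right 2 r)
    obtain ⟨c', rfl⟩ := Multiset.exists_cons_of_mem ha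
    have hb : ∃ b ∈ c', 2 ∣ b := by
      by_contra hno
      push Not at hno
      have h5 := even_of_all_odd c' (fun b hb => Nat.odd_iff.mpr (by
        have := hno b hb; omega))
      simp only [Multiset.sum_cons, Multiset.card_cons] at h4
      have h6 : a + c'.sum + (Multiset.card c' + 1) = (c'.sum + Multiset.card c') + (a + 1) := by ring
      rw [h6] at h4
      have h7 : Even (a + 1) := by
        rcases Nat.even_add.mp h4 with h8
        exact h8.mp h5
      have h9 : Even a := (even_iff_two_dvd).mpr h2a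
      exact absurd h7 (by
        rw [Nat.not_even_iff_odd]
        exact h9.add_one)
    obtain ⟨b, hb, h2b⟩ := hb
    obtain ⟨c'', rfl⟩ := Multiset.exists_cons_of_mem hb
    have ha2 : 2 ≤ a := h3 a (Multiset.mem_cons_self _ _)
    have hb2 : 2 ≤ b := h3 b (Multiset.mem_cons_of_mem (Multiset.mem_cons_self _ _))
    simp only [Multiset.sum_cons] at h2
    obtain ⟨d, hd, hrd⟩ := prime_dvd_lcm hr _ (h1 ▸ dvd_mul_left r 2)
    rcases Multiset.mem_cons.mp hd with rfl | hd
    · have h5 : 2 * r ∣ d := hcop.mul_dvd_of_dvd_of_dvd h2a hrd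
      have h6 := Nat.le_of_dvd (by omega) h5
      omega
    rcases Multiset.mem_cons.mp hd with rfl | hd
    · have h5 : 2 * r ∣ d := hcop.mul_dvd_of_dvd_of_dvd h2b hrd
      have h6 := Nat.le_of_dvd (by omega) h5
      omega
    · have h5 := mem_le_sum hd
      have h6 : r ≤ d := Nat.le_of_dvd (by
        have := h3 d (Multiset.mem_cons_of_mem (Multiset.mem_cons_of_mem hd)); omega) hrd
      omega
  · intro h
    have h1 := exists_alt_of_cycleType (n := n) ({r, 2, 2} : Multiset ℕ)
      (by
        simp only [Multiset.insert_eq_cons, Multiset.sum_cons, Multiset.sum_singleton]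
        omega)
      (by
        intro a ha
        simp only [Multiset.insert_eq_cons, Multiset.mem_cons, Multiset.mem_singleton] at ha
        rcases ha with rfl | rfl | rfl <;> omega)
      (by
        have h2 : Odd r := hr.odd_of_ne_two hr2
        simp only [Multiset.insert_eq_cons, Multiset.sum_cons, Multiset.sum_singleton,
          Multiset.card_cons, Multiset.card_singleton]
        obtain ⟨k, rfl⟩ := h2
        exact ⟨k + 4, by omega⟩)
    have h2 : Multiset.lcm ({r, 2, 2} : Multiset ℕ) = 2 * r := by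
      have : Multiset.lcm ({r, 2, 2} : Multiset ℕ) = Nat.lcm r (Nat.lcm 2 2) := by
        change Multiset.lcm (r ::ₘ 2 ::ₘ 2 ::ₘ 0) = _
        simp [Multiset.lcm_cons]
        rfl
      rw [this]
      simp only [Nat.lcm_self]
      rw [hcop.symm.lcm_eq_mul, mul_comm]
    rwa [h2] at h1

end Cfsg.Agent.Lib.H1AltOrd
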