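import Mathlib

set_option autoImplicit false

/-! The number of conjugacy classes of a dicyclic-type group. -/

namespace Cfsg.Agent.Lib.H1Dicyclic

variable {G : Type*} [Group G]

/-- Counting conjugacy classes through representatives. -/
theorem card_classes_of_reps' {α : Type*} (r : α → G)
    (hinj : ∀ x y, IsConj (r x) (r y) → x = y) (hsurj : ∀ g : G, ∃ x, IsConj g (r x)) :
    Nat.card (ConjClasses G) = Nat.card α := by
  apply Eq.symm
  apply Nat.card_congr
  refine Equiv.ofBijective (fun x => ConjClasses.mk (r x)) ⟨?_, ?_⟩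
  · intro x y h
    exact hinj x y (ConjClasses.mk_eq_mk_iff_isConj.mp h)
  · intro C
    obtain ⟨g, rfl⟩ := ConjClasses.mk_surjective C
    obtain ⟨x, hx⟩ := hsurj g
    exact ⟨x, (ConjClasses.mk_eq_mk_iff_isConj.mpr hx).symm⟩

/-- A group with a cyclic subgroup `T` of order `2m` and index two, whose outer elements invert `T`,
has `m + 3` conjugacy classes. -/
theorem card_classes (T : Subgroup G) (τ w : G) (m : ℕ) (hm : 0 < m)
    (hτT : τ ∈ T) (hgen : ∀ t ∈ T, ∃ k : ℕ, t = τ ^ k) (hord : orderOf τ = 2 * m)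
    (hw : w ∉ T) (hcos : ∀ g, g ∉ T → g * w⁻¹ ∈ T)
    (hinv : ∀ g, g ∉ T → ∀ t ∈ T, g * t * g⁻¹ = t⁻¹) :
    Nat.card (ConjClasses G) = m + 3 := by
  have hτw : τ * w ∉ T := by
    intro h
    apply hw
    have : w = τ⁻¹ * (τ * w) := by group
    rw [this]
    exact T.mul_mem (T.inv_mem hτT) h
  have hcomm : ∀ s ∈ T, ∀ t ∈ T, s * t = t * s := by
    intro s hs t ht
    obtain ⟨k, rfl⟩ := hgen s hs
    obtain ⟨l, rfl⟩ := hgen t ht
    rw [← pow_add, ← pow_add, add_comm]
  have conjT : ∀ c, ∀ t ∈ T, c * t * c⁻¹ ∈ T := by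
    intro c t ht
    by_cases hc : c ∈ T
    · exact T.mul_mem (T.mul_mem hc ht) (T.inv_mem hc)
    · rw [hinv c hc t ht]
      exact T.inv_mem ht
  have hcos2 : ∀ c x, c ∉ T → x ∉ T → c * x⁻¹ ∈ T := by
    intro c x hc hx
    have h1 := hcos c hc
    have h2 := T.inv_mem (hcos x hx)
    have e : c * x⁻¹ = (c * w⁻¹) * (x * w⁻¹)⁻¹ := by group
    rw [e]
    exact T.mul_mem h1 h2
  have hsq : ∀ x, x ∉ T → ∀ c ∈ T, c * x * c⁻¹ = c * c * x := by
    intro x hx c hc
    have h1 := hinv x hx c⁻¹ (T.inv_mem hc)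
    rw [inv_inv] at h1
    have h2 : x * c⁻¹ = c * x := by
      calc x * c⁻¹ = x * c⁻¹ * x⁻¹ * x := by group
        _ = c * x := by rw [h1]
    calc c * x * c⁻¹ = c * (x * c⁻¹) := by group
      _ = c * (c * x) := by rw [h2]
      _ = c * c * x := by group
  have conjOut : ∀ x, x ∉ T → ∀ c, ∃ t ∈ T, c * x * c⁻¹ = t * t * x := by
    intro x hx c
    by_cases hc : c ∈ T
    · exact ⟨c, hc, hsq x hx c hc⟩
    · refine ⟨c * x⁻¹, hcos2 c x hc hx, ?_⟩
      rw [← hsq x hx _ (hcos2 c x hc hx)]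
      group
  have hne : ¬ IsConj w (τ * w) := by
    intro h
    obtain ⟨c, hc⟩ := isConj_iff.mp h
    obtain ⟨t, ht, hc2⟩ := conjOut w hw c
    rw [hc2] at hc
    have h1 : t * t = τ := mul_right_cancel hc
    obtain ⟨k, rfl⟩ := hgen t ht
    rw [← pow_add] at h1
    have h2 : τ ^ (k + k) = τ ^ 1 := by rw [h1, pow_one]
    rw [pow_eq_pow_iff_modEq, hord] at h2
    have h3 : k + k ≡ 1 [MOD 2] := h2.of_dvd (dvd_mul_right 2 m)
    have h4 : (k + k) % 2 = 1 % 2 := h3
    omega
  have hout : ∀ t ∈ T, ∀ x, x ∉ T → ¬ IsConj t x := by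
    intro t ht x hx h
    obtain ⟨c, hc⟩ := isConj_iff.mp h
    exact hx (hc ▸ conjT c t ht)
  let r : Fin (m + 1) ⊕ Bool → G := fun x =>
    match x with
    | Sum.inl i => τ ^ (i : ℕ)
    | Sum.inr true => w
    | Sum.inr false => τ * w
  rw [card_classes_of_reps' r]
  · rw [Nat.card_sum]
    simp
  · rintro (i | _ | _) (j | _ | _) h
    · -- powers
      have h' : IsConj (τ ^ (i : ℕ)) (τ ^ (j : ℕ)) := h
      obtain ⟨c, hc⟩ := isConj_iff.mp h'
      have hi := i.2
      have hj := j.2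
      by_cases hcT : c ∈ T
      · rw [hcomm c hcT _ (T.pow_mem hτT _), mul_inv_cancel_right] at hc
        rw [pow_eq_pow_iff_modEq, hord] at hc
        have h1 : (i : ℕ) < 2 * m := by omega
        have h2 : (j : ℕ) < 2 * m := by omega
        have h3 := Nat.ModEq.eq_of_lt_of_lt hc h1 h2
        exact congrArg Sum.inl (Fin.ext h3)
      · rw [hinv c hcT _ (T.pow_mem hτT _)] at hc
        have h1 : τ ^ ((i : ℕ) + (j : ℕ)) = 1 := by
          rw [pow_add, ← hc, mul_inv_cancel]
        have h2 := orderOf_dvd_of_pow_eq_one h1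
        rw [hord] at h2
        obtain ⟨k, hk⟩ := h2
        have h3 : k = 0 ∨ k = 1 := by
          have : k ≤ 1 := by
            by_contra hh
            have : 2 * m * 2 ≤ 2 * m * k := Nat.mul_le_mul_left _ (by omega)
            omega
          omega
        have h4 : (i : ℕ) = j := by
          rcases h3 with rfl | rfl <;> omega
        exact congrArg Sum.inl (Fin.ext h4)
    · exact absurd h (hout _ (T.pow_mem hτT _) _ hτw)
    · exact absurd h (hout _ (T.pow_mem hτT _) _ hw)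
    · exact absurd h.symm (hout _ (T.pow_mem hτT _) _ hτw)
    · rfl
    · exact (hne h.symm).elim
    · exact absurd h.symm (hout _ (T.pow_mem hτT _) _ hw)
    · exact (hne h).elim
    · rfl
  · intro g
    by_cases hg : g ∈ T
    · obtain ⟨k, rfl⟩ := hgen g hg
      have hk : τ ^ k = τ ^ (k % (2 * m)) := by
        rw [← hord, pow_mod_orderOf]
      have hlt : k % (2 * m) < 2 * m := Nat.mod_lt _ (by omega)
      by_cases hle : k % (2 * m) ≤ m
      · refine ⟨Sum.inl ⟨k % (2 * m), by omega⟩, ?_⟩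
        change IsConj (τ ^ k) (τ ^ (k % (2 * m)))
        rw [← hk]
      · refine ⟨Sum.inl ⟨2 * m - k % (2 * m), by omega⟩, ?_⟩
        change IsConj (τ ^ k) (τ ^ (2 * m - k % (2 * m)))
        have h1 : τ ^ (2 * m - k % (2 * m)) = (τ ^ k)⁻¹ := by
          rw [hk]
          apply eq_inv_of_mul_eq_one_left
          rw [← pow_add, Nat.sub_add_cancel hlt.le, ← hord, pow_orderOf_eq_one]
        rw [h1]
        apply isConj_iff.mpr
        exact ⟨w, hinv w hw _ (T.pow_mem hτT _)⟩
    · obtain ⟨k, hk⟩ := hgen _ (hcos g hg)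
      have hgk : g = τ ^ k * w := by
        rw [← hk]
        group
      rcases Nat.even_or_odd' k with ⟨l, rfl | rfl⟩
      · refine ⟨Sum.inr true, ?_⟩
        change IsConj g w
        apply IsConj.symm
        apply isConj_iff.mpr
        refine ⟨τ ^ l, ?_⟩
        rw [hsq w hw _ (T.pow_mem hτT _), hgk, ← pow_add, two_mul]
      · refine ⟨Sum.inr false, ?_⟩
        change IsConj g (τ * w)
        apply IsConj.symm
        apply isConj_iff.mpr
        refine ⟨τ ^ l, ?_⟩
        rw [hsq _ hτw _ (T.pow_mem hτT _), hgk, ← pow_add, ← mul_assoc, ← pow_succ, two_mul]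

end Cfsg.Agent.Lib.H1Dicyclic
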