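import Mathlib
import Cfsg.Agent.Lib.H1Conj
import Cfsg.Agent.Lib.H1Core
import Cfsg.Agent.Lib.H1SZ

set_option autoImplicit false

namespace Cfsg.Agent.Lib.H1Fusion

open Cfsg.Agent.Lib.H1Conj
open scoped Pointwise

variable {G : Type*} [Group G]

/-- Sylow subgroups contained in a subgroup `C` are conjugate in `C`. -/
theorem sylow_conj_in {p : ℕ} [Fact p.Prime] [Finite G] (P R : Sylow p G) (C : Subgroup G)
    (hP : (P : Subgroup G) ≤ C) (hR : (R : Subgroup G) ≤ C) :
    ∃ c ∈ C, MulAut.conj c • (R : Subgroup G) = P := by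
  obtain ⟨c, hc⟩ := MulAction.exists_smul_eq C (R.subtype hR) (P.subtype hP)
  refine ⟨c, c.2, ?_⟩
  apply Cfsg.Agent.Lib.H1SZ.conj_of_subgroupOf hR hP
  have h1 := congrArg (fun S : Sylow p C => (S : Subgroup C)) hc
  simpa [Sylow.coe_subgroup_smul, Sylow.coe_subtype] using h1

/-- The conjugate of a Sylow subgroup as a Sylow subgroup. -/
theorem exists_sylow_conj {p : ℕ} [Fact p.Prime] [Finite G] (P : Sylow p G) (g : G) :
    ∃ R : Sylow p G, (R : Subgroup G) = MulAut.conj g • (P : Subgroup G) :=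
  ⟨g • P, Sylow.coe_subgroup_smul⟩

theorem centralizer_le_centralizer_of_le {A B : Subgroup G} (h : A ≤ B) :
    Subgroup.centralizer (B : Set G) ≤ Subgroup.centralizer (A : Set G) :=
  Subgroup.centralizer_le h

theorem le_centralizer_of_comm {P Q : Subgroup G} (hP : IsMulCommutative P) (hQ : Q ≤ P) :
    P ≤ Subgroup.centralizer (Q : Set G) := by
  intro x hx
  rw [Subgroup.mem_centralizer_iff]
  intro y hy
  have := hP.is_comm.comm ⟨y, hQ hy⟩ ⟨x, hx⟩
  simpa [Subtype.ext_iff] using this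

theorem conj_mem_normalizer_centralizer (Q : Subgroup G) {g : G}
    (hg : g ∈ Subgroup.normalizer (Q : Set G)) {c : G}
    (hc : c ∈ Subgroup.centralizer (Q : Set G)) :
    g * c * g⁻¹ ∈ Subgroup.centralizer (Q : Set G) := by
  rw [Subgroup.mem_centralizer_iff] at hc ⊢
  intro y hy
  have h1 : g⁻¹ * y * g ∈ Q := by
    have := (Subgroup.mem_normalizer_iff.mp hg (g⁻¹ * y * g)).mpr (by
      have e : g * (g⁻¹ * y * g) * g⁻¹ = y := by group
      rw [e]; exact hy)
    exact this
  have h2 := hc _ h1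
  calc y * (g * c * g⁻¹) = g * ((g⁻¹ * y * g) * c) * g⁻¹ := by group
    _ = g * (c * (g⁻¹ * y * g)) * g⁻¹ := by rw [h2]
    _ = g * c * g⁻¹ * y := by group

theorem centralizer_le_normalizer (Q : Subgroup G) :
    Subgroup.centralizer (Q : Set G) ≤ Subgroup.normalizer (Q : Set G) := by
  intro c hc
  rw [Subgroup.mem_normalizer_iff]
  intro y
  rw [Subgroup.mem_centralizer_iff] at hc
  constructor
  · intro hy
    have := hc y hy
    rw [← this]
    simpa using hy
  · intro hy
    have h1 := hc _ hy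
    have h2 : y = c * y * c⁻¹ := by
      have h3 : c * y * c⁻¹ * c = c * (c * y * c⁻¹) := h1
      have h4 : y = c * y * c⁻¹ := by
        have : c * y = c * (c * y * c⁻¹) := by
          rw [← h3]; group
        exact mul_left_cancel this
      exact h4
    rw [h2]; exact hy

theorem normalizer_le_normalizer_centralizer (Q : Subgroup G) :
    Subgroup.normalizer (Q : Set G) ≤
      Subgroup.normalizer ((Subgroup.centralizer (Q : Set G) : Subgroup G) : Set G) := by
  intro g hg
  rw [Subgroup.mem_normalizer_iff]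
  intro c
  constructor
  · intro hc
    exact conj_mem_normalizer_centralizer Q hg hc
  · intro hc
    have h := conj_mem_normalizer_centralizer Q (inv_mem hg) hc
    have e : g⁻¹ * (g * c * g⁻¹) * g⁻¹⁻¹ = c := by group
    rwa [e] at h

/-- Burnside: normalizer of a subset of an abelian Sylow. -/
theorem normalizer_eq_sup {p : ℕ} [Fact p.Prime] [Finite G] (P : Sylow p G)
    (hP : IsMulCommutative (P : Subgroup G)) (Q : Subgroup G) (hQ : Q ≤ (P : Subgroup G)) :
    Subgroup.normalizer (Q : Set G) =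
      (Subgroup.normalizer (Q : Set G) ⊓ Subgroup.normalizer ((P : Subgroup G) : Set G)) ⊔
        Subgroup.centralizer (Q : Set G) := by
  apply le_antisymm
  · intro g hg
    obtain ⟨R, hR⟩ := exists_sylow_conj P g
    have hPC := le_centralizer_of_comm hP hQ
    have hRC : (R : Subgroup G) ≤ Subgroup.centralizer (Q : Set G) := by
      rw [hR]
      intro y hy
      rw [Cfsg.Agent.Lib.H1Core.mem_conj_smul] at hy
      have := conj_mem_normalizer_centralizer Q hg (hPC hy)
      have e : g * (g⁻¹ * y * g) * g⁻¹ = y := by group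
      rwa [e] at this
    obtain ⟨c, hc, hcR⟩ := sylow_conj_in P R _ hPC hRC
    rw [hR, ← conj_mul_smul] at hcR
    have h1 : c * g ∈ Subgroup.normalizer ((P : Subgroup G) : Set G) :=
      mem_normalizer_of_conj_smul_eq hcR
    have h2 : c * g ∈ Subgroup.normalizer (Q : Set G) :=
      Subgroup.mul_mem _ (centralizer_le_normalizer Q hc) hg
    have h3 : g = c⁻¹ * (c * g) := by group
    rw [h3, sup_comm]
    exact Subgroup.mul_mem_sup (inv_mem hc) ⟨h2, h1⟩
  · exact sup_le inf_le_left (centralizer_le_normalizer Q)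

/-- Index transfer: `K.relIndex (H ⊔ K) = K.relIndex H` when `H ⊔ K` normalizes `K`. -/
theorem relIndex_sup_of_normalizes [Finite G] {H K : Subgroup G}
    (hn : H ⊔ K ≤ Subgroup.normalizer (K : Set G)) : K.relIndex (H ⊔ K) = K.relIndex H := by
  set N := H ⊔ K with hN
  have hKN : K ≤ N := le_sup_right
  have hHN : H ≤ N := le_sup_left
  haveI : (K.subgroupOf N).Normal := (Subgroup.normal_subgroupOf_iff_le_normalizer hKN).mpr hn
  have h1 : (H.subgroupOf N) ⊔ (K.subgroupOf N) = ⊤ := by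
    exact (Subgroup.codisjoint_subgroupOf_sup H K).eq_top
  have h2 : (K.subgroupOf N).relIndex (H.subgroupOf N) = K.relIndex H :=
    Subgroup.relIndex_subgroupOf hHN
  have h3 : (K.subgroupOf N).relIndex ((H.subgroupOf N) ⊔ (K.subgroupOf N)) =
      (K.subgroupOf N).relIndex (H.subgroupOf N) := Subgroup.relIndex_sup_right _ _
  rw [h1, Subgroup.relIndex_top_right, h2] at h3
  exact h3

/-- `[A : A ∩ C]` divides `[N : C]` when `A ≤ N`, `C ≤ N` and `N` normalizes `C`. -/
theorem relIndex_dvd_of_normalizes [Finite G] {A C N : Subgroup G} (hA : A ≤ N) (hC : C ≤ N)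
    (hn : N ≤ Subgroup.normalizer (C : Set G)) : C.relIndex A ∣ C.relIndex N := by
  haveI : (C.subgroupOf N).Normal := (Subgroup.normal_subgroupOf_iff_le_normalizer hC).mpr hn
  have h2 : (C.subgroupOf N).relIndex (A.subgroupOf N) = C.relIndex A :=
    Subgroup.relIndex_subgroupOf hA
  rw [← h2]
  exact Subgroup.relIndex_dvd_index_of_normal _ _

theorem index_dvd {p : ℕ} [Fact p.Prime] [Finite G] (P : Sylow p G)
    (hP : IsMulCommutative (P : Subgroup G)) (Q : Subgroup G) (hQ : Q ≤ (P : Subgroup G)) :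
    ((Subgroup.centralizer (Q : Set G)).subgroupOf (Subgroup.normalizer (Q : Set G))).index ∣
      ((Subgroup.centralizer ((P : Subgroup G) : Set G)).subgroupOf
        (Subgroup.normalizer ((P : Subgroup G) : Set G))).index := by
  set NQ := Subgroup.normalizer (Q : Set G) with hNQ
  set NP := Subgroup.normalizer ((P : Subgroup G) : Set G) with hNP
  set CQ := Subgroup.centralizer (Q : Set G) with hCQ
  set CP := Subgroup.centralizer ((P : Subgroup G) : Set G) with hCP
  change CQ.relIndex NQ ∣ CP.relIndex NP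
  have h0 := normalizer_eq_sup P hP Q hQ
  have h1 : CQ.relIndex NQ = CQ.relIndex (NQ ⊓ NP) := by
    conv_lhs => rw [show NQ = (NQ ⊓ NP) ⊔ CQ from h0]
    apply relIndex_sup_of_normalizes
    rw [← h0]
    exact normalizer_le_normalizer_centralizer Q
  have h2 : CQ.relIndex (NQ ⊓ NP) ∣ CP.relIndex (NQ ⊓ NP) :=
    Subgroup.relIndex_dvd_of_le_left _ (Subgroup.centralizer_le hQ)
  have h3 : CP.relIndex (NQ ⊓ NP) ∣ CP.relIndex NP :=
    relIndex_dvd_of_normalizes inf_le_right (centralizer_le_normalizer _)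
      (normalizer_le_normalizer_centralizer _)
  rw [h1]
  exact h2.trans h3

/-- Burnside's fusion theorem: conjugate elements of an abelian Sylow subgroup are conjugate in its
normalizer. -/
theorem fusion {p : ℕ} [Fact p.Prime] [Finite G] (P : Sylow p G)
    (hP : IsMulCommutative (P : Subgroup G)) {x y g : G} (hx : x ∈ (P : Subgroup G))
    (hy : y ∈ (P : Subgroup G)) (hg : g * x * g⁻¹ = y) :
    ∃ h ∈ Subgroup.normalizer ((P : Subgroup G) : Set G), h * x * h⁻¹ = y := by
  obtain ⟨R, hR⟩ := exists_sylow_conj P g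
  have comm : ∀ a ∈ (P : Subgroup G), ∀ b ∈ (P : Subgroup G), a * b = b * a := by
    intro a ha b hb
    have := hP.is_comm.comm ⟨a, ha⟩ ⟨b, hb⟩
    simpa [Subtype.ext_iff] using this
  have hPC : (P : Subgroup G) ≤ Subgroup.centralizer ({y} : Set G) := by
    intro z hz
    rw [Subgroup.mem_centralizer_singleton_iff]
    exact comm z hz y hy
  have hRC : (R : Subgroup G) ≤ Subgroup.centralizer ({y} : Set G) := by
    rw [hR]
    intro z hz
    rw [Cfsg.Agent.Lib.H1Core.mem_conj_smul] at hz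
    rw [Subgroup.mem_centralizer_singleton_iff]
    have h1 := comm _ hz x hx
    have : z = g * (g⁻¹ * z * g) * g⁻¹ := by group
    rw [this, ← hg]
    calc g * (g⁻¹ * z * g) * g⁻¹ * (g * x * g⁻¹) = g * ((g⁻¹ * z * g) * x) * g⁻¹ := by group
      _ = g * (x * (g⁻¹ * z * g)) * g⁻¹ := by rw [h1]
      _ = g * x * g⁻¹ * (g * (g⁻¹ * z * g) * g⁻¹) := by group
  obtain ⟨c, hc, hcR⟩ := sylow_conj_in P R _ hPC hRC
  rw [hR, ← conj_mul_smul] at hcR
  refine ⟨c * g, mem_normalizer_of_conj_smul_eq hcR, ?_⟩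
  rw [Subgroup.mem_centralizer_singleton_iff] at hc
  calc c * g * x * (c * g)⁻¹ = c * (g * x * g⁻¹) * c⁻¹ := by group
    _ = c * y * c⁻¹ := by rw [hg]
    _ = y := by rw [hc]; group

/-- If `h` inverts `x`, so do odd powers of `h`. -/
theorem odd_pow_inverts {h x : G} (hh : h * x * h⁻¹ = x⁻¹) (j : ℕ) :
    h ^ (2 * j + 1) * x = x⁻¹ * h ^ (2 * j + 1) := by
  have e1 : h * x = x⁻¹ * h := by rw [← hh]; group
  have e2 : h * x⁻¹ = x * h := by
    calc h * x⁻¹ = (h * x * h⁻¹)⁻¹ * h := by group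
      _ = x * h := by rw [hh, inv_inv]
  have h2 : h ^ 2 * x = x * h ^ 2 := by
    calc h ^ 2 * x = h * (h * x) := by rw [pow_two, mul_assoc]
      _ = h * (x⁻¹ * h) := by rw [e1]
      _ = (h * x⁻¹) * h := by rw [mul_assoc]
      _ = x * h * h := by rw [e2]
      _ = x * h ^ 2 := by rw [pow_two, mul_assoc]
  have h3 : (h ^ 2) ^ j * x = x * (h ^ 2) ^ j := (Commute.pow_left h2 j)
  rw [pow_succ, pow_mul]
  calc (h ^ 2) ^ j * h * x = (h ^ 2) ^ j * (x⁻¹ * h) := by rw [mul_assoc, e1]
    _ = ((h ^ 2) ^ j * x⁻¹) * h := by rw [mul_assoc]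
    _ = x⁻¹ * (h ^ 2) ^ j * h := by
      have h5 : (h ^ 2) ^ j * x⁻¹ = x⁻¹ * (h ^ 2) ^ j := (Commute.inv_right h3)
      rw [h5]
    _ = x⁻¹ * ((h ^ 2) ^ j * h) := by rw [mul_assoc]

end Cfsg.Agent.Lib.H1Fusion

namespace Cfsg.Agent.Lib.H1Fusion

variable {G : Type*} [Group G]

/-- If an element of an odd abelian Sylow subgroup is conjugate to its inverse, `N/C` has even order. -/
theorem two_dvd_index_of_inverts [Finite G] {p : ℕ} [Fact p.Prime] (hp : p ≠ 2) (P : Sylow p G)
    (hP : IsMulCommutative (P : Subgroup G)) {x : G} (hxP : x ∈ (P : Subgroup G)) (hx1 : x ≠ 1)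
    (hconj : IsConj x x⁻¹) :
    2 ∣ ((Subgroup.centralizer ((P : Subgroup G) : Set G)).subgroupOf
      (Subgroup.normalizer ((P : Subgroup G) : Set G))).index := by
  obtain ⟨g, hg⟩ := isConj_iff.mp hconj
  obtain ⟨h, hN, hh⟩ := fusion P hP hxP (inv_mem hxP) hg
  by_contra hodd
  have hcle := centralizer_le_normalizer (P : Subgroup G)
  haveI : ((Subgroup.centralizer ((P : Subgroup G) : Set G)).subgroupOf
      (Subgroup.normalizer ((P : Subgroup G) : Set G))).Normal :=
    (Subgroup.normal_subgroupOf_iff_le_normalizer hcle).mpr (normalizer_le_normalizer_centralizer _)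
  have hm := Subgroup.pow_index_mem ((Subgroup.centralizer ((P : Subgroup G) : Set G)).subgroupOf
    (Subgroup.normalizer ((P : Subgroup G) : Set G)))
    (⟨h, hN⟩ : Subgroup.normalizer ((P : Subgroup G) : Set G))
  obtain ⟨m, hmdef⟩ : ∃ m, m = ((Subgroup.centralizer ((P : Subgroup G) : Set G)).subgroupOf
    (Subgroup.normalizer ((P : Subgroup G) : Set G))).index := ⟨_, rfl⟩
  rw [← hmdef] at hm hodd
  rw [Subgroup.mem_subgroupOf] at hm
  have hm' : h ^ m ∈ Subgroup.centralizer ((P : Subgroup G) : Set G) := by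
    simpa using hm
  obtain ⟨j, rfl⟩ : ∃ j, m = 2 * j + 1 := by
    obtain ⟨j, hj⟩ := Nat.not_even_iff_odd.mp (fun he => hodd he.two_dvd)
    exact ⟨j, hj⟩
  have h4 := odd_pow_inverts hh j
  have h5 : x * h ^ (2 * j + 1) = h ^ (2 * j + 1) * x :=
    (Subgroup.mem_centralizer_iff.mp hm') x hxP
  have h6 : x = x⁻¹ := by
    have : x * h ^ (2 * j + 1) = x⁻¹ * h ^ (2 * j + 1) := by rw [h5, h4]
    exact mul_right_cancel this
  have h7 : x ^ 2 = 1 := by
    rw [pow_two]; nth_rewrite 1 [h6]; exact inv_mul_cancel x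
  obtain ⟨k, hk⟩ := P.isPGroup' ⟨x, hxP⟩
  have h8 : x ^ (p ^ k) = 1 := by
    have := congrArg Subtype.val hk
    simpa using this
  have h9 : orderOf x ∣ 2 := orderOf_dvd_of_pow_eq_one h7
  have h10 : orderOf x ∣ p ^ k := orderOf_dvd_of_pow_eq_one h8
  have hcop : Nat.Coprime 2 (p ^ k) :=
    Nat.Coprime.pow_right k ((Nat.coprime_primes Nat.prime_two (Fact.out : p.Prime)).2 (Ne.symm hp))
  have h11 : orderOf x = 1 := Nat.eq_one_of_dvd_coprimes hcop h9 h10
  exact hx1 (orderOf_eq_one_iff.mp h11)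

end Cfsg.Agent.Lib.H1Fusion
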