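import Mathlib
import Cfsg.Agent.Lib.H1GL2
import Cfsg.Prelude.Def_ParabolicCharacters

set_option autoImplicit false

/-! Centralizers in `GL₂` and fixed lines. -/

namespace Cfsg.Agent.Lib.H1GL2C

open Matrix Cfsg.Agent.Lib.H1GL2

variable {F : Type*} [Field F]

theorem gl_det_ne (x : GL2 F) : Matrix.det (x : M2 F) ≠ 0 := by
  have := (Matrix.isUnit_iff_isUnit_det _).mp x.isUnit
  exact this.ne_zero

theorem lin00 (a b : F) (g : M2 F) : (a • (1 : M2 F) + b • g) 0 0 = a + b * g 0 0 := by simp
theorem lin01 (a b : F) (g : M2 F) : (a • (1 : M2 F) + b • g) 0 1 = b * g 0 1 := by simp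
theorem lin10 (a b : F) (g : M2 F) : (a • (1 : M2 F) + b • g) 1 0 = b * g 1 0 := by simp
theorem lin11 (a b : F) (g : M2 F) : (a • (1 : M2 F) + b • g) 1 1 = a + b * g 1 1 := by simp

/-- Matrices commuting with a non-scalar `2 × 2` matrix. -/
theorem comm_eq_add_smul (g x : M2 F) (hg : ¬ IsScalar g) (hx : x * g = g * x) :
    ∃ a b : F, x = a • (1 : M2 F) + b • g := by
  have h00 := congrFun (congrFun hx 0) 0
  have h01 := congrFun (congrFun hx 0) 1
  have h10 := congrFun (congrFun hx 1) 0
  rw [mul00, mul00] at h00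
  rw [mul01, mul01] at h01
  rw [mul10, mul10] at h10
  by_cases hb : g 0 1 = 0
  · by_cases hc : g 1 0 = 0
    · have had : g 0 0 - g 1 1 ≠ 0 := fun e => hg ⟨hb, hc, sub_eq_zero.mp e⟩
      have hx01 : x 0 1 = 0 := by
        have : x 0 1 * (g 0 0 - g 1 1) = 0 := by linear_combination -h01 + (x 0 0 - x 1 1) * hb
        exact (mul_eq_zero.mp this).resolve_right had
      have hx10 : x 1 0 = 0 := by
        have : x 1 0 * (g 0 0 - g 1 1) = 0 := by linear_combination h10 + (x 0 0 - x 1 1) * hc
        exact (mul_eq_zero.mp this).resolve_right had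
      obtain ⟨β, hβ'⟩ : ∃ β, β * (g 0 0 - g 1 1) = x 0 0 - x 1 1 :=
        ⟨_, div_mul_cancel₀ (x 0 0 - x 1 1) had⟩
      refine ⟨x 0 0 - β * g 0 0, β, m2_ext ?_ ?_ ?_ ?_⟩
      · rw [lin00]; ring
      · rw [lin01, hb, hx01, mul_zero]
      · rw [lin10, hc, hx10, mul_zero]
      · rw [lin11]; linear_combination hβ'
    · obtain ⟨β, hβ'⟩ : ∃ β, β * g 1 0 = x 1 0 := ⟨_, div_mul_cancel₀ (x 1 0) hc⟩
      refine ⟨x 0 0 - β * g 0 0, β, m2_ext ?_ ?_ ?_ ?_⟩
      · rw [lin00]; ring
      · rw [lin01, hb, mul_zero]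
        have : x 0 1 * g 1 0 = 0 := by linear_combination h00 + x 1 0 * hb
        exact (mul_eq_zero.mp this).resolve_right hc
      · rw [lin10]; exact hβ'.symm
      · rw [lin11]
        have : g 1 0 * (x 1 1 - (x 0 0 - β * g 0 0 + β * g 1 1)) = 0 := by
          linear_combination h10 + (g 0 0 - g 1 1) * hβ'
        exact sub_eq_zero.mp ((mul_eq_zero.mp this).resolve_left hc)
  · obtain ⟨β, hβ'⟩ : ∃ β, β * g 0 1 = x 0 1 := ⟨_, div_mul_cancel₀ (x 0 1) hb⟩
    refine ⟨x 0 0 - β * g 0 0, β, m2_ext ?_ ?_ ?_ ?_⟩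
    · rw [lin00]; ring
    · rw [lin01]; exact hβ'.symm
    · rw [lin10]
      have : g 0 1 * (x 1 0 - β * g 1 0) = 0 := by
        linear_combination -h00 - g 1 0 * hβ'
      exact sub_eq_zero.mp ((mul_eq_zero.mp this).resolve_left hb)
    · rw [lin11]
      have : g 0 1 * (x 1 1 - (x 0 0 - β * g 0 0 + β * g 1 1)) = 0 := by
        linear_combination -h01 + (g 0 0 - g 1 1) * hβ'
      exact sub_eq_zero.mp ((mul_eq_zero.mp this).resolve_left hb)

/-- Centralizer of a diagonal element with distinct entries. -/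
theorem card_centralizer_diag [Fintype F] (g : GL2 F) (h01 : (g : M2 F) 0 1 = 0) (h10 : (g : M2 F) 1 0 = 0)
    (hne : (g : M2 F) 0 0 ≠ (g : M2 F) 1 1) :
    Nat.card (Subgroup.centralizer ({g} : Set (GL2 F))) = (Fintype.card F - 1) ^ 2 := by
  classical
  have hmem : ∀ x : GL2 F, x ∈ Subgroup.centralizer ({g} : Set (GL2 F)) ↔
      (x : M2 F) 0 1 = 0 ∧ (x : M2 F) 1 0 = 0 := by
    intro x
    rw [Subgroup.mem_centralizer_singleton_iff]
    have hsub : (g : M2 F) 0 0 - (g : M2 F) 1 1 ≠ 0 := sub_ne_zero.mpr hne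
    constructor
    · intro h
      have e01 := congrArg (fun y : GL2 F => (y : M2 F) 0 1) h
      have e10 := congrArg (fun y : GL2 F => (y : M2 F) 1 0) h
      simp only [Units.val_mul] at e01 e10
      rw [mul01, mul01] at e01
      rw [mul10, mul10] at e10
      rw [h01] at e01
      rw [h10] at e10
      constructor
      · have : (x : M2 F) 0 1 * ((g : M2 F) 0 0 - (g : M2 F) 1 1) = 0 := by linear_combination -e01
        exact (mul_eq_zero.mp this).resolve_right hsub
      · have : (x : M2 F) 1 0 * ((g : M2 F) 0 0 - (g : M2 F) 1 1) = 0 := by linear_combination e10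
        exact (mul_eq_zero.mp this).resolve_right hsub
    · rintro ⟨h1, h2⟩
      apply Units.ext
      apply m2_ext <;> simp only [Units.val_mul, mul00, mul01, mul10, mul11, h01, h10, h1, h2] <;> ring
  have hunit : ∀ a d : Fˣ, ((!![(a : F), 0; 0, (d : F)] : M2 F)).det ≠ 0 := by
    intro a d
    rw [Matrix.det_fin_two_of]
    simp
  let f : Fˣ × Fˣ → Subgroup.centralizer ({g} : Set (GL2 F)) := fun p =>
    ⟨Matrix.GeneralLinearGroup.mkOfDetNeZero _ (hunit p.1 p.2), by
      rw [hmem]
      exact ⟨rfl, rfl⟩⟩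
  have hf : Function.Bijective f := by
    constructor
    · rintro ⟨a, d⟩ ⟨a', d'⟩ h
      have h1 := congrArg (fun y : Subgroup.centralizer ({g} : Set (GL2 F)) => ((y : GL2 F) : M2 F) 0 0) h
      have h2 := congrArg (fun y : Subgroup.centralizer ({g} : Set (GL2 F)) => ((y : GL2 F) : M2 F) 1 1) h
      have h1' : (a : F) = a' := h1
      have h2' : (d : F) = d' := h2
      rw [Units.ext h1', Units.ext h2']
    · rintro ⟨x, hx⟩
      obtain ⟨h1, h2⟩ := (hmem x).mp hx
      have hd := gl_det_ne x
      rw [det2, h1, zero_mul, sub_zero] at hd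
      have ha : (x : M2 F) 0 0 ≠ 0 := left_ne_zero_of_mul hd
      have hb : (x : M2 F) 1 1 ≠ 0 := right_ne_zero_of_mul hd
      refine ⟨(Units.mk0 _ ha, Units.mk0 _ hb), ?_⟩
      apply Subtype.ext
      apply Units.ext
      apply m2_ext <;> first | rfl | (symm; assumption)
  rw [← Nat.card_congr (Equiv.ofBijective f hf), Nat.card_prod, Nat.card_eq_fintype_card,
    Fintype.card_units, pow_two]

/-- Centralizer of an element without eigenvector. -/
theorem card_centralizer_noeig [Fintype F] (g : GL2 F)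
    (hg : ∀ (c : F) (v : Fin 2 → F), v ≠ 0 → (g : M2 F).mulVec v ≠ c • v) :
    Nat.card (Subgroup.centralizer ({g} : Set (GL2 F))) = Fintype.card F ^ 2 - 1 := by
  classical
  have hns : ¬ IsScalar (g : M2 F) := by
    rintro ⟨h1, h2, h3⟩
    apply hg ((g : M2 F) 0 0) ![1, 0]
    · intro h
      have := congrFun h 0
      simp at this
    · ext i
      fin_cases i <;> simp [Matrix.mulVec, dotProduct, Fin.sum_univ_two, h2]
  have hdet : ∀ a b : F, (a, b) ≠ (0, 0) → (a • (1 : M2 F) + b • (g : M2 F)).det ≠ 0 := by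
    intro a b hab hd
    obtain ⟨v, hv, hv0⟩ := Matrix.exists_mulVec_eq_zero_iff.mpr hd
    rw [Matrix.add_mulVec, Matrix.smul_mulVec, Matrix.smul_mulVec, Matrix.one_mulVec] at hv0
    by_cases hb : b = 0
    · rw [hb, zero_smul, add_zero] at hv0
      have ha : a ≠ 0 := fun ha => hab (by rw [ha, hb])
      exact hv ((smul_eq_zero.mp hv0).resolve_left ha)
    · apply hg (-a / b) v hv
      have h1 : b • (g : M2 F).mulVec v = -(a • v) := eq_neg_of_add_eq_zero_right hv0
      have h2 : (g : M2 F).mulVec v = b⁻¹ • (b • (g : M2 F).mulVec v) := by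
        rw [smul_smul, inv_mul_cancel₀ hb, one_smul]
      rw [h2, h1, smul_neg, smul_smul, neg_div, neg_smul, div_eq_inv_mul]
  let f : {p : F × F // p ≠ (0, 0)} → Subgroup.centralizer ({g} : Set (GL2 F)) := fun p =>
    ⟨Matrix.GeneralLinearGroup.mkOfDetNeZero _ (hdet p.1.1 p.1.2 p.2), by
      rw [Subgroup.mem_centralizer_singleton_iff]
      apply Units.ext
      change (p.1.1 • (1 : M2 F) + p.1.2 • (g : M2 F)) * (g : M2 F) = (g : M2 F) * (p.1.1 • (1 : M2 F) + p.1.2 • (g : M2 F))
      rw [add_mul, mul_add, smul_mul_assoc, smul_mul_assoc, mul_smul_comm, mul_smul_comm, one_mul, mul_one]⟩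
  have hf : Function.Bijective f := by
    constructor
    · rintro ⟨⟨a, b⟩, hab⟩ ⟨⟨a', b'⟩, hab'⟩ h
      have h1 : (a • (1 : M2 F) + b • (g : M2 F)) = (a' • (1 : M2 F) + b' • (g : M2 F)) :=
        congrArg (fun y : Subgroup.centralizer ({g} : Set (GL2 F)) => ((y : GL2 F) : M2 F)) h
      have e00 := congrFun (congrFun h1 0) 0
      have e01 := congrFun (congrFun h1 0) 1
      have e10 := congrFun (congrFun h1 1) 0
      have e11 := congrFun (congrFun h1 1) 1
      rw [lin00, lin00] at e00
      rw [lin01, lin01] at e01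
      rw [lin10, lin10] at e10
      rw [lin11, lin11] at e11
      have hbb : b = b' := by
        by_contra hne
        have hs : b - b' ≠ 0 := sub_ne_zero.mpr hne
        apply hns
        refine ⟨?_, ?_, ?_⟩
        · have : (b - b') * (g : M2 F) 0 1 = 0 := by linear_combination e01
          exact (mul_eq_zero.mp this).resolve_left hs
        · have : (b - b') * (g : M2 F) 1 0 = 0 := by linear_combination e10
          exact (mul_eq_zero.mp this).resolve_left hs
        · have : (b - b') * ((g : M2 F) 0 0 - (g : M2 F) 1 1) = 0 := by linear_combination e00 - e11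
          exact sub_eq_zero.mp ((mul_eq_zero.mp this).resolve_left hs)
      subst hbb
      have haa : a = a' := by linear_combination e00
      subst haa
      rfl
    · rintro ⟨x, hx⟩
      obtain ⟨a, b, hab⟩ := comm_eq_add_smul (g : M2 F) (x : M2 F) hns
        (congrArg Units.val (Subgroup.mem_centralizer_singleton_iff.mp hx))
      have hne : (a, b) ≠ ((0 : F), (0 : F)) := by
        intro h
        have h1 := Prod.ext_iff.mp h
        have ha : a = 0 := h1.1
        have hb : b = 0 := h1.2
        have hd := gl_det_ne x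
        rw [hab, ha, hb] at hd
        simp at hd
      refine ⟨⟨(a, b), hne⟩, ?_⟩
      apply Subtype.ext
      apply Units.ext
      exact hab.symm
  rw [← Nat.card_congr (Equiv.ofBijective f hf), Nat.card_eq_fintype_card]
  rw [Fintype.card_subtype_compl (fun p : F × F => p = (0, 0))]
  simp [pow_two]

/-! ### Lines fixed by an element of `GL₂` -/

theorem mem_B (x : GL2 F) : x ∈ Cfsg.upperTriangularGL 2 F ↔ (x : M2 F) 1 0 = 0 := by
  constructor
  · intro h
    exact h (i := 1) (j := 0) (by simp [id])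
  · intro h i j hij
    have hij' : j < i := hij
    fin_cases i <;> fin_cases j <;> first | exact h | exact absurd hij' (by decide)

/-- The relation of two invertible matrices having proportional first columns. -/
theorem inv_mul_mem_B (x y : GL2 F) : x⁻¹ * y ∈ Cfsg.upperTriangularGL 2 F ↔
    (x : M2 F) 0 0 * (y : M2 F) 1 0 = (x : M2 F) 1 0 * (y : M2 F) 0 0 := by
  rw [mem_B]
  set z := x⁻¹ * y with hz
  have hy : y = x * z := by rw [hz]; group
  have h00 : (y : M2 F) 0 0 = (x : M2 F) 0 0 * (z : M2 F) 0 0 + (x : M2 F) 0 1 * (z : M2 F) 1 0 := by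
    rw [hy, Units.val_mul, mul00]
  have h10 : (y : M2 F) 1 0 = (x : M2 F) 1 0 * (z : M2 F) 0 0 + (x : M2 F) 1 1 * (z : M2 F) 1 0 := by
    rw [hy, Units.val_mul, mul10]
  have hd := gl_det_ne x
  rw [det2] at hd
  have key : (x : M2 F) 0 0 * (y : M2 F) 1 0 - (x : M2 F) 1 0 * (y : M2 F) 0 0 =
      ((x : M2 F) 0 0 * (x : M2 F) 1 1 - (x : M2 F) 0 1 * (x : M2 F) 1 0) * (z : M2 F) 1 0 := by
    rw [h00, h10]
    ring
  constructor
  · intro h
    rw [h, mul_zero] at key
    exact sub_eq_zero.mp key
  · intro h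
    rw [h, sub_self] at key
    exact (mul_eq_zero.mp key.symm).resolve_left hd

open Classical in
/-- The point of the projective line attached to (the first column of) an invertible matrix. -/
noncomputable def slope (x : GL2 F) : Option F :=
  if (x : M2 F) 1 0 = 0 then none else some ((x : M2 F) 0 0 / (x : M2 F) 1 0)

theorem gl_col_ne (x : GL2 F) (h : (x : M2 F) 1 0 = 0) : (x : M2 F) 0 0 ≠ 0 := by
  intro h0
  apply gl_det_ne x
  rw [det2, h, h0]
  ring

theorem slope_eq_iff (x y : GL2 F) : slope x = slope y ↔ x⁻¹ * y ∈ Cfsg.upperTriangularGL 2 F := by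
  rw [inv_mul_mem_B, slope, slope]
  by_cases hx : (x : M2 F) 1 0 = 0
  · by_cases hy : (y : M2 F) 1 0 = 0
    · simp [hx, hy]
    · simp only [hx, hy, if_true, if_false, reduceCtorEq, false_iff, zero_mul]
      intro h
      exact (mul_ne_zero (gl_col_ne x hx) hy) h
  · by_cases hy : (y : M2 F) 1 0 = 0
    · simp only [hx, hy, if_true, if_false, reduceCtorEq, false_iff, mul_zero]
      intro h
      exact (mul_ne_zero hx (gl_col_ne y hy)) h.symm
    · simp only [hx, hy, if_false, Option.some.injEq]
      rw [div_eq_div_iff hx hy]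
      constructor
      · intro h; linear_combination h
      · intro h; linear_combination h

/-- The projective line. -/
noncomputable def lineEquiv : (GL2 F ⧸ Cfsg.upperTriangularGL 2 F) ≃ Option F := by
  classical
  refine Equiv.ofBijective (fun q => slope (Quotient.out q)) ⟨?_, ?_⟩
  · intro q q' h
    have h1 := (slope_eq_iff _ _).mp h
    have h2 : ((Quotient.out q : GL2 F) : GL2 F ⧸ Cfsg.upperTriangularGL 2 F) = (Quotient.out q' : GL2 F) :=
      QuotientGroup.eq.mpr h1
    rwa [QuotientGroup.out_eq', QuotientGroup.out_eq'] at h2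
  · intro l
    have hex : ∃ x : GL2 F, slope x = l := by
      cases l with
      | none =>
        refine ⟨1, ?_⟩
        simp [slope]
      | some s =>
        have hd : (!![s, 1; 1, 0] : M2 F).det ≠ 0 := by
          rw [Matrix.det_fin_two_of]
          simp
        refine ⟨Matrix.GeneralLinearGroup.mkOfDetNeZero _ hd, ?_⟩
        have h1 : ((Matrix.GeneralLinearGroup.mkOfDetNeZero _ hd : GL2 F) : M2 F) = !![s, 1; 1, 0] := rfl
        simp [slope, h1]
    obtain ⟨x, rfl⟩ := hex
    refine ⟨(x : GL2 F ⧸ Cfsg.upperTriangularGL 2 F), ?_⟩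
    apply (slope_eq_iff _ _).mpr
    apply QuotientGroup.eq.mp
    rw [QuotientGroup.out_eq']

theorem lineEquiv_mk (x : GL2 F) : lineEquiv (x : GL2 F ⧸ Cfsg.upperTriangularGL 2 F) = slope x := by
  apply (slope_eq_iff _ _).mpr
  apply QuotientGroup.eq.mp
  rw [QuotientGroup.out_eq']

/-- The condition for a point of the projective line to be fixed. -/
def fixL (g : GL2 F) : Option F → Prop
  | none => (g : M2 F) 1 0 = 0
  | some s => (g : M2 F) 0 0 * s + (g : M2 F) 0 1 - (g : M2 F) 1 0 * s ^ 2 - (g : M2 F) 1 1 * s = 0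

theorem smul_eq_iff_fixL (g x : GL2 F) :
    g • (x : GL2 F ⧸ Cfsg.upperTriangularGL 2 F) = x ↔ fixL g (slope x) := by
  have h1 : g • (x : GL2 F ⧸ Cfsg.upperTriangularGL 2 F) = ((g * x : GL2 F) : GL2 F ⧸ Cfsg.upperTriangularGL 2 F) := rfl
  rw [h1, eq_comm, QuotientGroup.eq, inv_mul_mem_B]
  simp only [Units.val_mul, mul00, mul10]
  unfold slope
  by_cases hx : (x : M2 F) 1 0 = 0
  · simp only [hx, if_true, fixL]
    have hne := gl_col_ne x hx
    constructor
    · intro h
      have : (x : M2 F) 0 0 * (x : M2 F) 0 0 * (g : M2 F) 1 0 = 0 := by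
        linear_combination h
      exact (mul_eq_zero.mp this).resolve_left (mul_ne_zero hne hne)
    · intro h
      rw [h]
      ring
  · simp only [hx, if_false, fixL]
    obtain ⟨s, hs⟩ : ∃ s, s = (x : M2 F) 0 0 / (x : M2 F) 1 0 := ⟨_, rfl⟩
    rw [← hs]
    have hxs : (x : M2 F) 0 0 = s * (x : M2 F) 1 0 := by
      rw [hs]
      field_simp
    rw [hxs]
    constructor
    · intro h
      have : (x : M2 F) 1 0 * (x : M2 F) 1 0 * ((g : M2 F) 0 0 * s + (g : M2 F) 0 1 - (g : M2 F) 1 0 * s ^ 2 - (g : M2 F) 1 1 * s) = 0 := by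
        linear_combination -h
      exact (mul_eq_zero.mp this).resolve_left (mul_ne_zero hx hx)
    · intro h
      linear_combination (-(x : M2 F) 1 0 * (x : M2 F) 1 0) * h

theorem card_fixedBy (g : GL2 F) : Nat.card (MulAction.fixedBy (GL2 F ⧸ Cfsg.upperTriangularGL 2 F) g) =
    Nat.card {l : Option F // fixL g l} := by
  apply Nat.card_congr
  refine Equiv.subtypeEquiv lineEquiv ?_
  intro q
  obtain ⟨x, rfl⟩ := QuotientGroup.mk_surjective q
  rw [lineEquiv_mk, MulAction.mem_fixedBy]
  exact smul_eq_iff_fixL g x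

/-- The values of the permutation character on the projective line. -/
theorem fixed_values [Fintype F] (g : GL2 F) :
    ((∃ a : F, (g : M2 F) = a • (1 : M2 F)) → Cfsg.fixedPointCharacter (Cfsg.upperTriangularGL 2 F) g = Fintype.card F + 1) ∧
    ((g : M2 F) 0 1 = 0 → (g : M2 F) 1 0 = 0 → (g : M2 F) 0 0 ≠ (g : M2 F) 1 1 →
      Cfsg.fixedPointCharacter (Cfsg.upperTriangularGL 2 F) g = 2) ∧
    ((∀ (c : F) (v : Fin 2 → F), v ≠ 0 → (g : M2 F).mulVec v ≠ c • v) → Cfsg.fixedPointCharacter (Cfsg.upperTriangularGL 2 F) g = 0) ∧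
    ((g : M2 F) 1 0 = 0 → (g : M2 F) 0 0 = (g : M2 F) 1 1 → (g : M2 F) 0 1 ≠ 0 →
      Cfsg.fixedPointCharacter (Cfsg.upperTriangularGL 2 F) g = 1) := by
  classical
  unfold Cfsg.fixedPointCharacter
  rw [card_fixedBy]
  refine ⟨?_, ?_, ?_, ?_⟩
  · rintro ⟨a, ha⟩
    have h00 : (g : M2 F) 0 0 = a := by rw [ha]; simp
    have h01 : (g : M2 F) 0 1 = 0 := by rw [ha]; simp
    have h10 : (g : M2 F) 1 0 = 0 := by rw [ha]; simp
    have h11 : (g : M2 F) 1 1 = a := by rw [ha]; simp
    have hall : ∀ l, fixL g l := by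
      intro l
      cases l with
      | none => exact h10
      | some s => simp only [fixL, h00, h01, h10, h11]; ring
    have : Nat.card {l : Option F // fixL g l} = Fintype.card F + 1 := by
      rw [Nat.card_congr (Equiv.subtypeUnivEquiv hall), Nat.card_eq_fintype_card, Fintype.card_option]
    rw [this]
    push_cast
    rfl
  · intro h01 h10 hne
    have hsub : (g : M2 F) 0 0 - (g : M2 F) 1 1 ≠ 0 := sub_ne_zero.mpr hne
    have hl : ∀ l, fixL g l ↔ l = none ∨ l = some 0 := by
      intro l
      cases l with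
      | none => simpa [fixL] using h10
      | some s =>
        simp only [fixL, h01, h10, reduceCtorEq, false_or, Option.some.injEq]
        constructor
        · intro h
          have : ((g : M2 F) 0 0 - (g : M2 F) 1 1) * s = 0 := by linear_combination h
          exact (mul_eq_zero.mp this).resolve_left hsub
        · rintro rfl
          ring
    have : Nat.card {l : Option F // fixL g l} = 2 := by
      rw [Nat.card_eq_two_iff]
      refine ⟨⟨none, (hl _).mpr (Or.inl rfl)⟩, ⟨some 0, (hl _).mpr (Or.inr rfl)⟩, ?_, ?_⟩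
      · simp
      · ext ⟨l, hl'⟩
        simp only [Set.mem_insert_iff, Set.mem_singleton_iff, Set.mem_univ, iff_true, Subtype.mk.injEq]
        exact (hl l).mp hl'
    rw [this]
    norm_num
  · intro hg
    have hempty : ∀ l, ¬ fixL g l := by
      intro l hl
      cases l with
      | none =>
        apply hg ((g : M2 F) 0 0) ![1, 0]
        · intro h
          have := congrFun h 0
          simp at this
        · have h10 : (g : M2 F) 1 0 = 0 := hl
          ext i
          fin_cases i <;> simp [Matrix.mulVec, dotProduct, Fin.sum_univ_two, h10]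
      | some s =>
        have h1 : (g : M2 F) 0 0 * s + (g : M2 F) 0 1 - (g : M2 F) 1 0 * s ^ 2 - (g : M2 F) 1 1 * s = 0 := hl
        apply hg ((g : M2 F) 1 0 * s + (g : M2 F) 1 1) ![s, 1]
        · intro h
          have := congrFun h 1
          simp at this
        · ext i
          fin_cases i
          · simp [Matrix.mulVec, dotProduct, Fin.sum_univ_two]
            linear_combination h1
          · simp [Matrix.mulVec, dotProduct, Fin.sum_univ_two]
    haveI : IsEmpty {l : Option F // fixL g l} := ⟨fun x => hempty x.1 x.2⟩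
    rw [Nat.card_of_isEmpty]
    simp
  · intro h10 heq h01
    have hl : ∀ l, fixL g l ↔ l = none := by
      intro l
      cases l with
      | none => simpa [fixL] using h10
      | some s =>
        simp only [fixL, h10, reduceCtorEq, iff_false]
        rw [← heq]
        intro h
        apply h01
        linear_combination h
    have : Nat.card {l : Option F // fixL g l} = 1 := by
      rw [Nat.card_eq_one_iff_unique]
      refine ⟨⟨fun ⟨a, ha⟩ ⟨b, hb⟩ => ?_⟩, ⟨⟨none, (hl _).mpr rfl⟩⟩⟩
      exact Subtype.ext (((hl a).mp ha).trans ((hl b).mp hb).symm)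
    rw [this]
    norm_num

end Cfsg.Agent.Lib.H1GL2C
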