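import Mathlib

set_option autoImplicit false
set_option linter.unusedSectionVars false
set_option linter.unusedVariables false
set_option linter.style.haveILetI false

/-!
A finite group generated by two involutions is dihedral.
-/

namespace Cfsg.Agent.Lib.LeadDihedral

variable {G : Type*} [Group G]

/-- The power map `ZMod (orderOf ρ) → G`. -/
noncomputable def zp (ρ : G) (i : ZMod (orderOf ρ)) : G := ρ ^ (i.cast : ℤ)

lemma zp_intCast [Finite G] (ρ : G) (k : ℤ) : zp ρ (k : ZMod (orderOf ρ)) = ρ ^ k := by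
  unfold zp
  rw [zpow_eq_zpow_iff_modEq, ← ZMod.intCast_eq_intCast_iff]
  simp

lemma zp_add [Finite G] (ρ : G) (i j : ZMod (orderOf ρ)) : zp ρ (i + j) = zp ρ i * zp ρ j := by
  have h : (i + j) = (((i.cast : ℤ) + (j.cast : ℤ) : ℤ) : ZMod (orderOf ρ)) := by simp
  rw [h, zp_intCast, zpow_add]
  rfl

lemma zp_neg [Finite G] (ρ : G) (i : ZMod (orderOf ρ)) : zp ρ (-i) = (zp ρ i)⁻¹ := by
  have h : (-i) = ((-(i.cast : ℤ) : ℤ) : ZMod (orderOf ρ)) := by simp
  rw [h, zp_intCast, zpow_neg]
  rfl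

lemma zp_sub [Finite G] (ρ : G) (i j : ZMod (orderOf ρ)) : zp ρ (j - i) = (zp ρ i)⁻¹ * zp ρ j := by
  rw [sub_eq_neg_add, zp_add, zp_neg]

lemma zp_zero [Finite G] (ρ : G) : zp ρ 0 = 1 := by
  have : (0 : ZMod (orderOf ρ)) = ((0 : ℤ) : ZMod (orderOf ρ)) := by simp
  rw [this, zp_intCast, zpow_zero]

lemma zp_one [Finite G] (ρ : G) : zp ρ 1 = ρ := by
  have : (1 : ZMod (orderOf ρ)) = ((1 : ℤ) : ZMod (orderOf ρ)) := by simp
  rw [this, zp_intCast, zpow_one]

lemma zp_eq_one [Finite G] (ρ : G) (i : ZMod (orderOf ρ)) (h : zp ρ i = 1) : i = 0 := by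
  unfold zp at h
  rw [zpow_eq_one_iff_modEq] at h
  have h2 := (ZMod.intCast_eq_intCast_iff _ _ _).2 h
  simpa using h2

/-- `u ρ^k u = ρ^(-k)`. -/
lemma conj_zpow_inv {u ρ : G} (hu : u * u = 1) (h : u * ρ * u = ρ⁻¹) (k : ℤ) :
    u * ρ ^ k * u = (ρ ^ k)⁻¹ := by
  have hui : u⁻¹ = u := inv_eq_of_mul_eq_one_left hu
  have h' : u * ρ * u⁻¹ = ρ⁻¹ := by rw [hui]; exact h
  have : u * ρ ^ k * u⁻¹ = (u * ρ * u⁻¹) ^ k := (conj_zpow).symm
  rw [hui] at this h'
  rw [this, h', inv_zpow]

/-- A finite group generated by two distinct involutions is dihedral of order `2 * orderOf (u * v)`. -/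
theorem dihedral_of_two_involutions [Finite G] {u v : G} (hu : u * u = 1) (hv : v * v = 1)
    (hu1 : u ≠ 1) (hv1 : v ≠ 1) (huv : u ≠ v)
    (hgen : Subgroup.closure ({u, v} : Set G) = ⊤) :
    Nonempty (DihedralGroup (orderOf (u * v)) ≃* G) := by
  classical
  set ρ := u * v with hρ
  have hui : u⁻¹ = u := inv_eq_of_mul_eq_one_left hu
  have hvi : v⁻¹ = v := inv_eq_of_mul_eq_one_left hv
  have huρ : u * ρ * u = ρ⁻¹ := by
    rw [hρ, mul_inv_rev, hui, hvi, ← mul_assoc, hu, one_mul]
  have hc := conj_zpow_inv hu huρ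
  have hconj : ∀ i : ZMod (orderOf ρ), zp ρ i * u = u * (zp ρ i)⁻¹ := by
    intro i
    have := hc (i.cast : ℤ)
    unfold zp
    rw [← this]
    calc ρ ^ (i.cast : ℤ) * u = (u * u) * ρ ^ (i.cast : ℤ) * u := by rw [hu, one_mul]
      _ = u * (u * ρ ^ (i.cast : ℤ) * u) := by group
  let f : DihedralGroup (orderOf ρ) → G := fun x =>
    match x with
    | DihedralGroup.r i => zp ρ i
    | DihedralGroup.sr i => u * zp ρ i
  have hf : ∀ x y, f (x * y) = f x * f y := by
    rintro (i | i) (j | j)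
    · show zp ρ (i + j) = zp ρ i * zp ρ j
      exact zp_add ρ i j
    · show u * zp ρ (j - i) = zp ρ i * (u * zp ρ j)
      rw [zp_sub, ← mul_assoc (zp ρ i) u, hconj i, mul_assoc]
    · show u * zp ρ (i + j) = u * zp ρ i * zp ρ j
      rw [zp_add, mul_assoc]
    · show zp ρ (j - i) = u * zp ρ i * (u * zp ρ j)
      rw [zp_sub]
      calc (zp ρ i)⁻¹ * zp ρ j = (u * u) * (zp ρ i)⁻¹ * zp ρ j := by rw [hu, one_mul]
        _ = u * (u * (zp ρ i)⁻¹) * zp ρ j := by group
        _ = u * (zp ρ i * u) * zp ρ j := by rw [hconj i]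
        _ = u * zp ρ i * (u * zp ρ j) := by group
  let φ : DihedralGroup (orderOf ρ) →* G := MonoidHom.mk' f hf
  have hinj : Function.Injective φ := by
    rw [injective_iff_map_eq_one]
    rintro (i | i) h
    · have h' : zp ρ i = 1 := h
      have := zp_eq_one ρ i h'
      subst this
      rfl
    · exfalso
      have h' : u * zp ρ i = 1 := h
      have hui2 : zp ρ i = u := by
        have : zp ρ i = u⁻¹ := eq_inv_of_mul_eq_one_right h'
        rw [this, hui]
      have h2 := hconj i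
      rw [hui2] at h2
      -- `u` commutes with `ρ` as it is a power of `ρ`.
      have hcomm : u * ρ = ρ * u := by
        have e : zp ρ i * ρ = ρ * zp ρ i := by
          unfold zp
          exact (Commute.zpow_self ρ _)
        rwa [hui2] at e
      have hrr : ρ * ρ = 1 := by
        have : ρ⁻¹ = ρ := by
          rw [← huρ, hcomm, mul_assoc, hu, mul_one]
        exact mul_eq_one_iff_eq_inv.2 this.symm
      -- `u = ρ^k` and `ρ² = 1` force `u = 1` or `u = ρ`.
      have hu2 : u = 1 ∨ u = ρ := by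
        rw [← hui2]
        unfold zp
        obtain h0 | h1 := Int.even_or_odd (i.cast : ℤ)
        · left
          obtain ⟨k, hk⟩ := h0
          rw [hk, zpow_add, ← (Commute.refl ρ).mul_zpow, hrr, one_zpow]
        · right
          obtain ⟨k, hk⟩ := h1
          rw [hk, two_mul, zpow_add, zpow_add, ← (Commute.refl ρ).mul_zpow, hrr, one_zpow, one_mul, zpow_one]
      rcases hu2 with h0 | h0
      · exact hu1 h0
      · apply hv1
        rw [hρ] at h0
        have : u * 1 = u * v := by rw [mul_one]; exact h0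
        exact (mul_left_cancel this).symm
  have hsurj : Function.Surjective φ := by
    rw [← MonoidHom.range_eq_top, eq_top_iff, ← hgen, Subgroup.closure_le]
    rintro x (hx | hx)
    · exact ⟨DihedralGroup.sr 0, by
        show u * zp ρ 0 = x
        rw [zp_zero, mul_one, hx]⟩
    · exact ⟨DihedralGroup.sr 1, by
        show u * zp ρ 1 = x
        rw [zp_one, hρ, ← mul_assoc, hu, one_mul, show x = v from hx]⟩
  exact ⟨MulEquiv.ofBijective φ ⟨hinj, hsurj⟩⟩

end Cfsg.Agent.Lib.LeadDihedral
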