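import Mathlib

set_option autoImplicit false

/-! Tools for excluding small simple groups: embedding into alternating groups, Burnside transfer,
Sylow numbers. -/

namespace Cfsg.Agent.Lib.H1Small

open Subgroup

variable {G : Type*} [Group G] [Finite G]

/-- The permutation action on cosets of a proper subgroup of a simple group is faithful. -/
theorem exists_perm_embedding [IsSimpleGroup G] (H : Subgroup G) (hH : H ≠ ⊤) :
    ∃ f : G →* Equiv.Perm (Fin H.index), Function.Injective f := by
  classical
  haveI : Finite (G ⧸ H) := inferInstance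
  let e : (G ⧸ H) ≃ Fin H.index := Finite.equivFin (G ⧸ H)
  let f₀ : G →* Equiv.Perm (G ⧸ H) := MulAction.toPermHom G (G ⧸ H)
  refine ⟨(Equiv.permCongrHom e).toMonoidHom.comp f₀, ?_⟩
  have hk : f₀.ker = ⊥ := by
    rcases f₀.normal_ker.eq_bot_or_eq_top with h | h
    · exact h
    · exfalso
      apply hH
      rw [eq_top_iff]
      intro g _
      have hg : g ∈ f₀.ker := by rw [h]; trivial
      have h1 : f₀ g (QuotientGroup.mk 1) = QuotientGroup.mk 1 := by
        rw [MonoidHom.mem_ker.mp hg]; rfl
      have h2 : (QuotientGroup.mk (g * 1) : G ⧸ H) = QuotientGroup.mk 1 := h1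
      rw [mul_one, QuotientGroup.eq] at h2
      simpa using H.inv_mem h2
  have hinj : Function.Injective f₀ := (MonoidHom.ker_eq_bot_iff f₀).mp hk
  intro a b hab
  apply hinj
  have : (Equiv.permCongrHom e) (f₀ a) = (Equiv.permCongrHom e) (f₀ b) := hab
  exact (Equiv.permCongrHom e).injective this

/-- Embedding theorem: a non-abelian simple group with a proper subgroup of index `n` embeds in
`A_n`. -/
theorem exists_alt_embedding [IsSimpleGroup G] (hG : ¬ IsMulCommutative G) (H : Subgroup G)
    (hH : H ≠ ⊤) : ∃ f : G →* alternatingGroup (Fin H.index), Function.Injective f := by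
  classical
  obtain ⟨f, hf⟩ := exists_perm_embedding H hH
  let s : G →* ℤˣ := Equiv.Perm.sign.comp f
  have hs : s.ker = ⊤ := by
    rcases s.normal_ker.eq_bot_or_eq_top with h | h
    · exfalso
      apply hG
      have hi : Function.Injective s := (MonoidHom.ker_eq_bot_iff s).mp h
      refine ⟨⟨fun a b => hi ?_⟩⟩
      rw [map_mul, map_mul, mul_comm]
    · exact h
  have hmem : ∀ g, f g ∈ alternatingGroup (Fin H.index) := by
    intro g
    rw [Equiv.Perm.mem_alternatingGroup]
    have : g ∈ s.ker := by rw [hs]; trivial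
    exact MonoidHom.mem_ker.mp this
  refine ⟨f.codRestrict _ hmem, ?_⟩
  intro a b hab
  apply hf
  exact congrArg Subtype.val hab

/-- Order consequence of the embedding theorem. -/
theorem two_mul_card_dvd_factorial [IsSimpleGroup G] (hG : ¬ IsMulCommutative G) (H : Subgroup G)
    (hH : H ≠ ⊤) : 2 * Nat.card G ∣ H.index.factorial := by
  classical
  obtain ⟨f, hf⟩ := exists_alt_embedding hG H hH
  have h1 : Nat.card G ∣ Nat.card (alternatingGroup (Fin H.index)) :=
    Subgroup.card_dvd_of_injective f hf
  have hi : 2 ≤ H.index := by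
    have h0 : H.index ≠ 0 := Subgroup.index_ne_zero_of_finite
    have h1' : H.index ≠ 1 := by
      intro h; exact hH (Subgroup.index_eq_one.mp h)
    omega
  haveI : Nontrivial (Fin H.index) := Fin.nontrivial_iff_two_le.mpr hi
  have h2 := two_mul_nat_card_alternatingGroup (α := Fin H.index)
  rw [Nat.card_perm, Nat.card_fin] at h2
  rw [← h2]
  exact Nat.mul_dvd_mul_left 2 h1

/-- Burnside transfer in a simple group. -/
theorem burnside_simple [IsSimpleGroup G] {p : ℕ} [Fact p.Prime] (P : Sylow p G)
    (h : Subgroup.normalizer ((P : Subgroup G) : Set G) ≤ Subgroup.centralizer ((P : Subgroup G) : Set G)) :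
    (P : Subgroup G) = ⊥ ∨ (P : Subgroup G) = ⊤ := by
  have hc := MonoidHom.ker_transferSylow_isComplement' P h
  rcases (MonoidHom.transferSylow P h).normal_ker.eq_bot_or_eq_top with h3 | h3
  · right
    have hcard := hc.card_mul
    rw [h3, Subgroup.card_bot, one_mul] at hcard
    exact Subgroup.eq_top_of_card_eq _ hcard
  · left
    have hcard := hc.card_mul
    rw [h3, Subgroup.card_top] at hcard
    have : Nat.card (P : Subgroup G) = 1 := by
      have hpos : 0 < Nat.card G := Nat.card_pos
      nlinarith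
    exact Subgroup.eq_bot_of_card_eq _ this

/-- The automizer of a subgroup `A` embeds in `Aut A`. -/
theorem relIndex_centralizer_dvd_card_mulAut (A : Subgroup G) :
    (Subgroup.centralizer (A : Set G)).relIndex (Subgroup.normalizer (A : Set G)) ∣ Nat.card (MulAut A) := by
  have key := Subgroup.card_dvd_of_injective _ (QuotientGroup.kerLift_injective A.normalizerMonoidHom)
  rw [normalizerMonoidHom_ker, ← index, ← relIndex] at key
  exact key

/-- For a subgroup of prime order `p`, the automizer has order dividing `p - 1`. -/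
theorem relIndex_centralizer_dvd_sub_one {p : ℕ} [hp : Fact p.Prime] (A : Subgroup G)
    (hA : Nat.card A = p) : (Subgroup.centralizer (A : Set G)).relIndex (Subgroup.normalizer (A : Set G)) ∣ p - 1 := by
  have h := relIndex_centralizer_dvd_card_mulAut A
  haveI : IsCyclic A := isCyclic_of_prime_card hA
  rw [IsCyclic.card_mulAut, hA, Nat.totient_prime hp.out] at h
  exact h

theorem relIndex_mul_card {K H : Subgroup G} (h : K ≤ H) : K.relIndex H * Nat.card K = Nat.card H := by
  have := Subgroup.relIndex_mul_relIndex (⊥ : Subgroup G) K H bot_le h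
  rw [Subgroup.relIndex_bot_left, Subgroup.relIndex_bot_left] at this
  rw [mul_comm]; exact this

theorem le_centralizer_of_prime_card {p : ℕ} [hp : Fact p.Prime] (A : Subgroup G)
    (hA : Nat.card A = p) : A ≤ Subgroup.centralizer (A : Set G) := by
  haveI : IsCyclic A := isCyclic_of_prime_card hA
  intro a ha
  rw [Subgroup.mem_centralizer_iff]
  intro b hb
  have := (IsCyclic.commutative (α := A)).is_comm.comm (⟨b, hb⟩ : A) ⟨a, ha⟩
  exact congrArg Subtype.val this

/-- If `A` has prime order and the normalizer has order `p * m` with `m` coprime to `p - 1`,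
then the normalizer centralizes `A`. -/
theorem normalizer_le_centralizer_of_coprime {p : ℕ} [hp : Fact p.Prime] (A : Subgroup G)
    (hA : Nat.card A = p) (m : ℕ) (hm : Nat.card (Subgroup.normalizer (A : Set G)) = p * m)
    (hc : Nat.Coprime m (p - 1)) :
    Subgroup.normalizer (A : Set G) ≤ Subgroup.centralizer (A : Set G) := by
  have h1 := relIndex_centralizer_dvd_sub_one A hA
  have hAC := le_centralizer_of_prime_card A hA
  have h2 : (Subgroup.centralizer (A : Set G)).relIndex (Subgroup.normalizer (A : Set G)) ∣ m := by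
    have h3 : (Subgroup.centralizer (A : Set G)).relIndex (Subgroup.normalizer (A : Set G))
        ∣ A.relIndex (Subgroup.normalizer (A : Set G)) :=
      Subgroup.relIndex_dvd_of_le_left _ hAC
    have h4 := relIndex_mul_card (Subgroup.le_normalizer (H := A))
    rw [hA, hm, mul_comm] at h4
    have h5 := Nat.eq_of_mul_eq_mul_left hp.out.pos h4
    rwa [h5] at h3
  have h6 := Nat.eq_one_of_dvd_coprimes hc h2 h1
  exact Subgroup.relIndex_eq_one.mp h6

/-- membership in a conjugate Sylow subgroup -/
theorem mem_smul_sylow {p : ℕ} (S : Sylow p G) (g x : G) :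
    x ∈ ((g • S : Sylow p G) : Subgroup G) ↔ g⁻¹ * x * g ∈ (S : Subgroup G) := by
  change x ∈ g • S ↔ g⁻¹ * x * g ∈ S
  rw [← SetLike.mem_coe, Sylow.coe_smul]
  rw [Set.mem_smul_set]
  constructor
  · rintro ⟨y, hy, rfl⟩
    simpa [MulAut.smul_def, mul_assoc] using hy
  · intro h
    exact ⟨g⁻¹ * x * g, h, by simp [MulAut.smul_def, mul_assoc]⟩

/-- A `p`-subgroup of `N`, where `N` contains the Sylow subgroup `S`, lies in an `N`-conjugate of
`S`. -/
theorem exists_le_smul_sylow {p : ℕ} [Fact p.Prime] (N : Subgroup G) (S : Sylow p G)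
    (hS : (S : Subgroup G) ≤ N) (A : Subgroup G) (hA : IsPGroup p A) (hAN : A ≤ N) :
    ∃ n ∈ N, A ≤ ((n • S : Sylow p G) : Subgroup G) := by
  have h1 : IsPGroup p (A.comap N.subtype) := hA.comap_subtype
  obtain ⟨Q, hQ⟩ := h1.exists_le_sylow
  obtain ⟨n, hn⟩ := MulAction.exists_smul_eq N (S.subtype hS) Q
  refine ⟨n, n.2, ?_⟩
  intro a ha
  have h2 : (⟨a, hAN ha⟩ : N) ∈ (Q : Subgroup N) := hQ ha
  rw [← hn, Sylow.smul_subtype hS n] at h2
  rw [Sylow.coe_subtype, Subgroup.mem_subgroupOf] at h2
  exact h2

/-- A Sylow subgroup containing a `p`-subgroup lying in all... : normal `p`-subgroups lie in all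
Sylow subgroups, in the form of subgroups of `N`. -/
theorem centralizer_le_normalizer' (A : Subgroup G) :
    Subgroup.centralizer (A : Set G) ≤ Subgroup.normalizer (A : Set G) :=
  Subgroup.centralizer_le_normalizer _

/-- Counting by constant fibre size. -/
theorem card_eq_of_fibers {X Z : Type*} [Finite X] [Finite Z] (f : X → Z) (n : ℕ)
    (h : ∀ z, Nat.card {x // f x = z} = n) : Nat.card X = Nat.card Z * n := by
  classical
  haveI := Fintype.ofFinite Z
  rw [Nat.card_congr (Equiv.sigmaFiberEquiv f).symm, Nat.card_sigma]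
  simp only [h, Finset.sum_const, Finset.card_univ, smul_eq_mul, Nat.card_eq_fintype_card]

/-- Counting elements conjugating `x` into a set. -/
theorem card_conj_into (x : G) (A : G → Prop) :
    Nat.card {g : G // A (g⁻¹ * x * g)} =
      Nat.card {y : G // IsConj x y ∧ A y} * Nat.card (Subgroup.centralizer ({x} : Set G)) := by
  classical
  have hconj : ∀ g : G, IsConj x (g⁻¹ * x * g) := by
    intro g
    rw [isConj_iff]
    exact ⟨g⁻¹, by group⟩
  refine card_eq_of_fibers (fun s : {g : G // A (g⁻¹ * x * g)} =>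
    (⟨s.1⁻¹ * x * s.1, hconj s.1, s.2⟩ : {y : G // IsConj x y ∧ A y})) _ ?_
  rintro ⟨y, hy, hAy⟩
  obtain ⟨c, hc⟩ := isConj_iff.mp hy
  have key : ∀ t : G, t ∈ Subgroup.centralizer ({x} : Set G) → (t * c⁻¹)⁻¹ * x * (t * c⁻¹) = y := by
    intro t ht
    rw [Subgroup.mem_centralizer_iff] at ht
    have h2 : x * t = t * x := ht x rfl
    rw [← hc]
    calc (t * c⁻¹)⁻¹ * x * (t * c⁻¹) = c * t⁻¹ * (x * t) * c⁻¹ := by group
      _ = c * t⁻¹ * (t * x) * c⁻¹ := by rw [h2]
      _ = c * x * c⁻¹ := by group
  apply Nat.card_congr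
  refine
    { toFun := fun s => ⟨s.1.1 * c, ?_⟩
      invFun := fun t => ⟨⟨t.1 * c⁻¹, ?_⟩, ?_⟩
      left_inv := ?_
      right_inv := ?_ }
  · have h1 : s.1.1⁻¹ * x * s.1.1 = y := congrArg Subtype.val s.2
    rw [Subgroup.mem_centralizer_iff]
    rintro z hz
    rw [Set.mem_singleton_iff] at hz
    subst hz
    calc z * (s.1.1 * c) = s.1.1 * (s.1.1⁻¹ * z * s.1.1) * c := by group
      _ = s.1.1 * y * c := by rw [h1]
      _ = s.1.1 * (c * z * c⁻¹) * c := by rw [hc]
      _ = s.1.1 * c * z := by group
  · show A ((t.1 * c⁻¹)⁻¹ * x * (t.1 * c⁻¹))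
    rw [key t.1 t.2]; exact hAy
  · apply Subtype.ext
    exact key t.1 t.2
  · intro s
    apply Subtype.ext
    apply Subtype.ext
    simp
  · intro t
    apply Subtype.ext
    simp

end Cfsg.Agent.Lib.H1Small
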