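import Mathlib

/-!
Frobenius' congruence: the number of subgroups of order `p ^ β` is `≡ 1 mod p` (seat helper2),
following Wielandt's counting argument on subsets of size `p ^ β`.
-/

namespace Cfsg.Agent.Lib.SubCount

open Subgroup MulAction

universe u

/-- If all orbits in an invariant subset have size divisible by `d`, so has the subset. -/
theorem dvd_card_of_invariant {G X : Type*} [Group G] [MulAction G X] [Finite X] (A : X → Prop)
    (hinv : ∀ (g : G) x, A x → A (g • x)) (d : ℕ) (h : ∀ x, A x → d ∣ Nat.card (orbit G x)) :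
    d ∣ Nat.card {x // A x} := by
  classical
  haveI := Fintype.ofFinite X
  have e : Nat.card {x // A x} = (Finset.univ.filter A).card := by
    rw [Nat.card_eq_fintype_card, Fintype.card_subtype]
  rw [e, Finset.card_eq_sum_card_image (fun x => (Quotient.mk (orbitRel G X) x))]
  apply Finset.dvd_sum
  intro c hc
  obtain ⟨x₀, hx₀, rfl⟩ := Finset.mem_image.1 hc
  have hAx₀ : A x₀ := by simpa using hx₀
  have e2 : ((Finset.univ.filter A).filter
      (fun a => Quotient.mk (orbitRel G X) a = Quotient.mk (orbitRel G X) x₀)).card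
      = Nat.card (orbit G x₀) := by
    have e3 : Nat.card (orbit G x₀) = (Finset.univ.filter (· ∈ orbit G x₀)).card := by
      rw [Nat.card_eq_fintype_card, Fintype.card_subtype]
    rw [e3]
    congr 1
    ext a
    simp only [Finset.mem_filter, Finset.mem_univ, true_and, Quotient.eq, orbitRel_apply]
    constructor
    · exact fun h => h.2
    · intro h
      refine ⟨?_, h⟩
      obtain ⟨g, rfl⟩ := h
      exact hinv g x₀ hAx₀
  rw [e2]
  exact h x₀ hAx₀

variable {G : Type u} [Group G] [DecidableEq G]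

/-- The subsets of cardinality `k`. -/
abbrev Om (G : Type u) [Group G] [DecidableEq G] (k : ℕ) : Type u := {S : Finset G // S.card = k}

/-- Right translation action on subsets. -/
instance instActOm (k : ℕ) : MulAction G (Om G k) where
  smul g S := ⟨S.1.image (· * g⁻¹), by
    rw [Finset.card_image_of_injective _ (mul_left_injective _)]; exact S.2⟩
  one_smul := by
    intro S
    apply Subtype.ext
    show S.1.image (· * (1 : G)⁻¹) = S.1
    simp
  mul_smul := by
    intro a b S
    apply Subtype.ext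
    show S.1.image (· * (a * b)⁻¹) = (S.1.image (· * b⁻¹)).image (· * a⁻¹)
    rw [Finset.image_image]
    congr 1
    ext x
    simp [mul_assoc]

theorem smul_val (k : ℕ) (g : G) (S : Om G k) : (g • S).1 = S.1.image (· * g⁻¹) := rfl

/-- Elements of the stabilizer translate a set into itself. -/
theorem mul_mem_of_stab {k : ℕ} {S : Om G k} {g x : G} (hg : g ∈ stabilizer G S) (hx : x ∈ S.1) :
    x * g ∈ S.1 := by
  have h1 : g⁻¹ ∈ stabilizer G S := inv_mem hg
  have h2 : g⁻¹ • S = S := h1
  have h3 : (g⁻¹ • S).1 = S.1 := by rw [h2]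
  rw [← h3, smul_val]
  exact Finset.mem_image.2 ⟨x, hx, by simp⟩

theorem mem_stab_of_mul_mem [Finite G] {k : ℕ} {S : Om G k} {g : G} (h : ∀ x ∈ S.1, x * g⁻¹ ∈ S.1) :
    g ∈ stabilizer G S := by
  show g • S = S
  apply Subtype.ext
  apply Finset.eq_of_subset_of_card_le
  · intro y hy
    rw [smul_val] at hy
    obtain ⟨x, hx, rfl⟩ := Finset.mem_image.1 hy
    exact h x hx
  · rw [smul_val, Finset.card_image_of_injective _ (mul_left_injective _)]

/-- Fibers of the quotient map inside a set closed under right multiplication by `H`. -/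
theorem card_fiber [Finite G] (H : Subgroup G) (T : Finset G) (s : G) (hs : s ∈ T)
    (hT : ∀ x ∈ T, ∀ h ∈ H, x * h ∈ T) [DecidablePred fun a : G => (a : G ⧸ H) = (s : G ⧸ H)] :
    (T.filter (fun a : G => (a : G ⧸ H) = (s : G ⧸ H))).card = Nat.card H := by
  classical
  have h0 : Nat.card {a // a ∈ T.filter (fun a : G => (a : G ⧸ H) = (s : G ⧸ H))} = Nat.card H := by
    apply Nat.card_congr
    refine ⟨fun a => ⟨s⁻¹ * a.1, ?_⟩, fun h => ⟨s * h.1, ?_⟩, ?_, ?_⟩
    · have := (Finset.mem_filter.1 a.2).2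
      exact QuotientGroup.eq.1 this.symm
    · refine Finset.mem_filter.2 ⟨hT s hs _ h.2, ?_⟩
      apply QuotientGroup.eq.2
      have : (s * h.1)⁻¹ * s = h.1⁻¹ := by group
      rw [this]
      exact inv_mem h.2
    · intro a; apply Subtype.ext; simp
    · intro h; apply Subtype.ext; simp
  rw [Nat.card_eq_fintype_card, Fintype.card_coe] at h0
  exact h0

/-- The stabilizer of a subset acts freely so its order divides the size of the subset. -/
theorem card_stab_dvd [Finite G] {k : ℕ} (S : Om G k) : Nat.card (stabilizer G S) ∣ k := by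
  classical
  haveI := Fintype.ofFinite G
  set H := stabilizer G S with hH
  rw [← S.2, Finset.card_eq_sum_card_image (fun x : G => (x : G ⧸ H))]
  apply Finset.dvd_sum
  intro c hc
  obtain ⟨s, hs, rfl⟩ := Finset.mem_image.1 hc
  rw [card_fiber H S.1 s hs (fun x hx h hh => mul_mem_of_stab hh hx)]

/-- The sets with stabilizer `H`, of size `|H|`, are the left cosets of `H`. -/
theorem card_stab_fiber [Finite G] {k : ℕ} (hk : 0 < k) (H : Subgroup G) (hH : Nat.card H = k) :
    Nat.card {S : Om G k // stabilizer G S = H} = H.index := by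
  classical
  haveI := Fintype.ofFinite G
  have hcard : ∀ c : G ⧸ H, (Finset.univ.filter (fun x : G => (x : G ⧸ H) = c)).card = k := by
    intro c
    obtain ⟨g, rfl⟩ := QuotientGroup.mk_surjective c
    rw [card_fiber H Finset.univ g (Finset.mem_univ _) (fun _ _ _ _ => Finset.mem_univ _), hH]
  let f : G ⧸ H → {S : Om G k // stabilizer G S = H} := fun c =>
    ⟨⟨Finset.univ.filter (fun x : G => (x : G ⧸ H) = c), hcard c⟩, by
      ext g
      constructor
      · intro hg
        obtain ⟨x, rfl⟩ := QuotientGroup.mk_surjective c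
        have h1 : x * g ∈ (⟨Finset.univ.filter (fun y : G => (y : G ⧸ H) = (x : G ⧸ H)), hcard _⟩ :
            Om G k).1 := mul_mem_of_stab hg (Finset.mem_filter.2 ⟨Finset.mem_univ _, rfl⟩)
        have h2 := (Finset.mem_filter.1 h1).2
        have h3 := QuotientGroup.eq.1 h2
        simpa using h3
      · intro hg
        apply mem_stab_of_mul_mem
        intro x hx
        refine Finset.mem_filter.2 ⟨Finset.mem_univ _, ?_⟩
        rw [← (Finset.mem_filter.1 hx).2]
        apply QuotientGroup.eq.2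
        have : (x * g⁻¹)⁻¹ * x = g := by group
        rw [this]
        exact hg⟩
  have hf : Function.Bijective f := by
    constructor
    · intro c c' h
      obtain ⟨x, rfl⟩ := QuotientGroup.mk_surjective c
      have h1 : (Finset.univ.filter (fun y : G => (y : G ⧸ H) = (x : G ⧸ H)))
          = Finset.univ.filter (fun y : G => (y : G ⧸ H) = c') :=
        congrArg (fun S : {S : Om G k // stabilizer G S = H} => S.1.1) h
      have h2 : x ∈ Finset.univ.filter (fun y : G => (y : G ⧸ H) = c') := by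
        rw [← h1]; exact Finset.mem_filter.2 ⟨Finset.mem_univ _, rfl⟩
      exact (Finset.mem_filter.1 h2).2
    · rintro ⟨S, hS⟩
      have hne : S.1.Nonempty := Finset.card_pos.1 (by rw [S.2]; exact hk)
      obtain ⟨s, hs⟩ := hne
      refine ⟨(s : G ⧸ H), ?_⟩
      apply Subtype.ext
      apply Subtype.ext
      apply Finset.eq_of_subset_of_card_le
      · intro x hx
        have h1 : (x : G ⧸ H) = (s : G ⧸ H) := (Finset.mem_filter.1 hx).2
        have h2 : s⁻¹ * x ∈ H := QuotientGroup.eq.1 h1.symm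
        rw [← hS] at h2
        have h3 := mul_mem_of_stab h2 hs
        simpa using h3
      · rw [S.2]
        exact (hcard _).ge
  rw [Subgroup.index]
  exact (Nat.card_congr (Equiv.ofBijective f hf)).symm

/-- Counting the sets whose stabilizer has the same size as the set. -/
theorem card_stab_eq [Finite G] {k m : ℕ} (hk : 0 < k) (hG : Nat.card G = k * m) :
    Nat.card {S : Om G k // Nat.card (stabilizer G S) = k}
      = Nat.card {H : Subgroup G // Nat.card H = k} * m := by
  classical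
  haveI := Fintype.ofFinite {H : Subgroup G // Nat.card H = k}
  have e : {S : Om G k // Nat.card (stabilizer G S) = k} ≃
      Σ H : {H : Subgroup G // Nat.card H = k}, {S : Om G k // stabilizer G S = H.1} :=
    { toFun := fun S => ⟨⟨stabilizer G S.1, S.2⟩, ⟨S.1, rfl⟩⟩
      invFun := fun x => ⟨x.2.1, by rw [x.2.2]; exact x.1.2⟩
      left_inv := fun S => rfl
      right_inv := by
        rintro ⟨⟨H, hH⟩, ⟨S, hS⟩⟩
        have hS' : stabilizer G S = H := hS
        subst hS'
        rfl }
  rw [Nat.card_congr e, Nat.card_sigma]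
  have hin : ∀ H : {H : Subgroup G // Nat.card H = k},
      Nat.card {S : Om G k // stabilizer G S = H.1} = m := by
    intro H
    rw [card_stab_fiber hk H.1 H.2]
    have h1 := Subgroup.card_mul_index H.1
    rw [H.2, hG] at h1
    exact Nat.eq_of_mul_eq_mul_left hk h1
  simp only [hin, Finset.sum_const, Finset.card_univ, smul_eq_mul, Nat.card_eq_fintype_card]

theorem card_stab_smul [Finite G] {k : ℕ} (g : G) (S : Om G k) :
    Nat.card (stabilizer G (g • S)) = Nat.card (stabilizer G S) := by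
  rw [stabilizer_smul_eq_stabilizer_map_conj]
  exact Nat.card_congr ((MulAut.conj g).subgroupMap (stabilizer G S)).toEquiv.symm

/-- Wielandt's congruence. -/
theorem choose_modEq [Finite G] {p β m : ℕ} (hp : p.Prime) (hG : Nat.card G = p ^ β * m) :
    Nat.choose (p ^ β * m) (p ^ β) ≡ Nat.card {H : Subgroup G // Nat.card H = p ^ β} * m
      [MOD p * m] := by
  classical
  haveI := Fintype.ofFinite G
  have hk : 0 < p ^ β := pow_pos hp.pos _
  have hm : 0 < m := by
    rcases Nat.eq_zero_or_pos m with h | h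
    · rw [h, mul_zero] at hG
      exact absurd hG Nat.card_pos.ne'
    · exact h
  have h0 : Nat.card (Om G (p ^ β)) = Nat.choose (p ^ β * m) (p ^ β) := by
    rw [Nat.card_eq_fintype_card, Fintype.card_finset_len, ← Nat.card_eq_fintype_card, hG]
  let A : Om G (p ^ β) → Prop := fun S => Nat.card (stabilizer G S) ≠ p ^ β
  have h1 : Nat.card (Om G (p ^ β)) = Nat.card {S // A S} + Nat.card {S // ¬ A S} := by
    rw [← Nat.card_sum]
    exact Nat.card_congr (Equiv.sumCompl A).symm
  have h2 : Nat.card {S // ¬ A S} = Nat.card {H : Subgroup G // Nat.card H = p ^ β} * m := by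
    rw [← card_stab_eq hk hG]
    apply Nat.card_congr
    apply Equiv.subtypeEquivRight
    intro S
    simp [A]
  have h3 : p * m ∣ Nat.card {S // A S} := by
    apply dvd_card_of_invariant (G := G) A
    · intro g S hS
      show Nat.card (stabilizer G (g • S)) ≠ p ^ β
      rw [card_stab_smul]; exact hS
    · intro S hS
      obtain ⟨i, hi, hcard⟩ := (Nat.dvd_prime_pow hp).1 (card_stab_dvd S)
      have hne : i ≠ β := fun h => hS (by rw [hcard, h])
      have hlt : i < β := lt_of_le_of_ne hi hne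
      have h4 : (stabilizer G S).index = Nat.card (orbit G S) := by
        rw [index_stabilizer, Nat.card_coe_set_eq]
      have h5 := Subgroup.card_mul_index (stabilizer G S)
      rw [h4, hcard, hG] at h5
      obtain ⟨j, hj⟩ : ∃ j, β = i + (j + 1) := ⟨β - i - 1, by omega⟩
      have h6 : p ^ i * Nat.card (orbit G S) = p ^ i * (p ^ (j + 1) * m) := by
        rw [h5, hj, pow_add, mul_assoc]
      have h7 := Nat.eq_of_mul_eq_mul_left (pow_pos hp.pos i) h6
      rw [h7, pow_succ']
      exact ⟨p ^ j, by ring⟩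
  rw [← h0, h1, h2]
  obtain ⟨t, ht⟩ := h3
  rw [ht]
  have : p * m * t + Nat.card {H : Subgroup G // Nat.card H = p ^ β} * m
      = Nat.card {H : Subgroup G // Nat.card H = p ^ β} * m + p * m * t := by ring
  rw [this]
  exact Nat.add_mul_mod_self_left _ _ _

/-- A finite cyclic group has exactly one subgroup of order `p ^ β`, if `p ^ β` divides the order. -/
theorem card_subgroups_cyclic {C : Type*} [Group C] [Finite C] [IsCyclic C] {p β : ℕ}
    (hp : p.Prime) (hdiv : p ^ β ∣ Nat.card C) :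
    Nat.card {H : Subgroup C // Nat.card H = p ^ β} = 1 := by
  classical
  haveI := Fintype.ofFinite C
  haveI : Fact p.Prime := ⟨hp⟩
  rw [Nat.card_eq_one_iff_unique]
  obtain ⟨H₀, hH₀⟩ := Sylow.exists_subgroup_card_pow_prime p hdiv
  refine ⟨⟨?_⟩, ⟨⟨H₀, hH₀⟩⟩⟩
  have key : ∀ H : {H : Subgroup C // Nat.card H = p ^ β},
      (H.1 : Set C) = {x : C | x ^ p ^ β = 1} := by
    rintro ⟨H, hH⟩
    have hsub : (H : Set C) ⊆ {x : C | x ^ p ^ β = 1} := by
      intro y hy
      have : (⟨y, hy⟩ : H) ^ Nat.card H = 1 := pow_card_eq_one'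
      rw [hH] at this
      exact congrArg Subtype.val this
    apply Set.eq_of_subset_of_ncard_le hsub
    rw [← Nat.card_coe_set_eq (H : Set C)]
    show _ ≤ Nat.card H
    rw [hH]
    have h1 := IsCyclic.card_pow_eq_one_le (α := C) (n := p ^ β) (pow_pos hp.pos β)
    rw [Set.ncard_eq_toFinset_card']
    convert h1 using 2
    ext x; simp
  intro a b
  apply Subtype.ext
  apply SetLike.coe_injective
  rw [key a, key b]

/-- Frobenius' congruence: the number of subgroups of order `p ^ β` is `≡ 1 mod p`. -/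
theorem card_subgroups_modEq {G : Type u} [Group G] [Finite G] {p β : ℕ} (hp : p.Prime)
    (hdiv : p ^ β ∣ Nat.card G) :
    Nat.card {H : Subgroup G // Nat.card H = p ^ β} ≡ 1 [MOD p] := by
  classical
  obtain ⟨m, hm⟩ := hdiv
  have hG0 : Nat.card G ≠ 0 := Nat.card_pos.ne'
  have hm0 : m ≠ 0 := fun h => hG0 (by rw [hm, h, mul_zero])
  have hn0 : p ^ β * m ≠ 0 := by rw [← hm]; exact hG0
  haveI : NeZero (p ^ β * m) := ⟨hn0⟩
  let C := Multiplicative (ZMod (p ^ β * m))
  have hC : Nat.card C = p ^ β * m := by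
    show Nat.card (Multiplicative (ZMod (p ^ β * m))) = _
    rw [Nat.card_eq_fintype_card, Fintype.card_multiplicative, ZMod.card]
  have h1 := choose_modEq hp hm
  have h2 := choose_modEq (G := C) hp hC
  rw [card_subgroups_cyclic hp (hC ▸ dvd_mul_right _ _)] at h2
  exact Nat.ModEq.mul_right_cancel' hm0 (h1.symm.trans h2)

/-- Conjugation action on subgroups of order `k`. -/
def conjAct (G : Type u) [Group G] (k : ℕ) : MulAction G {H : Subgroup G // Nat.card H = k} where
  smul g H := ⟨H.1.map (MulAut.conj g).toMonoidHom, by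
    rw [Subgroup.card_map_of_injective (MulAut.conj g).injective]; exact H.2⟩
  one_smul := by
    intro H
    apply Subtype.ext
    show H.1.map (MulAut.conj (1 : G)).toMonoidHom = H.1
    ext x
    simp
  mul_smul := by
    intro a b H
    apply Subtype.ext
    show H.1.map (MulAut.conj (a * b)).toMonoidHom =
      (H.1.map (MulAut.conj b).toMonoidHom).map (MulAut.conj a).toMonoidHom
    rw [Subgroup.map_map]
    congr 1
    ext x
    simp [MulAut.conj_apply, mul_assoc]

/-- In a `p`-group the number of normal subgroups of order `p ^ s` is `≡ 1 mod p`. -/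
theorem card_normal_subgroups_modEq {G : Type u} [Group G] [Finite G] {p m s : ℕ} (hp : p.Prime)
    (hG : Nat.card G = p ^ m) (hs : s ≤ m) :
    Nat.card {H : Subgroup G // H.Normal ∧ Nat.card H = p ^ s} ≡ 1 [MOD p] := by
  haveI : Fact p.Prime := ⟨hp⟩
  letI := conjAct G (p ^ s)
  have hpG : IsPGroup p G := IsPGroup.of_card hG
  have h1 := hpG.card_modEq_card_fixedPoints {H : Subgroup G // Nat.card H = p ^ s}
  have h2 := card_subgroups_modEq (G := G) (β := s) hp (hG ▸ pow_dvd_pow p hs)
  have h3 : Nat.card (fixedPoints G {H : Subgroup G // Nat.card H = p ^ s})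
      = Nat.card {H : Subgroup G // H.Normal ∧ Nat.card H = p ^ s} := by
    apply Nat.card_congr
    refine ⟨fun H => ⟨H.1.1, ⟨?_⟩, H.1.2⟩, fun H => ⟨⟨H.1, H.2.2⟩, ?_⟩, ?_, ?_⟩
    · intro n hn g
      have h4 : g • H.1 = H.1 := H.2 g
      have h5 : H.1.1.map (MulAut.conj g).toMonoidHom = H.1.1 := congrArg Subtype.val h4
      rw [← h5]
      exact ⟨n, hn, rfl⟩
    · intro g
      apply Subtype.ext
      show H.1.map (MulAut.conj g).toMonoidHom = H.1
      haveI := H.2.1
      ext x
      constructor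
      · rintro ⟨n, hn, rfl⟩
        exact Subgroup.Normal.conj_mem inferInstance n hn g
      · intro hx
        refine ⟨g⁻¹ * x * g, ?_, by simp [MulAut.conj_apply, mul_assoc]⟩
        have := Subgroup.Normal.conj_mem (inferInstance : H.1.Normal) x hx g⁻¹
        simpa using this
    · intro x; rfl
    · intro x; rfl
  rw [← h3]
  exact h1.symm.trans h2

/-- Power formula in a group of class two. -/
theorem pow_mul_of_central {G : Type*} [Group G] (d b w : G)
    (hw : b * d = w * d * b) (hwd : Commute w d) (hwb : Commute w b) (n : ℕ) :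
    (d * b) ^ n = d ^ n * b ^ n * w ^ (n.choose 2) := by
  have key : ∀ k : ℕ, b ^ k * d = w ^ k * d * b ^ k := by
    intro k
    induction k with
    | zero => simp
    | succ k ih =>
      have e1 : b ^ (k + 1) * d = b * (b ^ k * d) := by rw [pow_succ', mul_assoc]
      rw [e1, ih]
      have e2 : b * (w ^ k * d * b ^ k) = (b * w ^ k) * d * b ^ k := by group
      rw [e2, ((hwb.pow_left k).symm).eq]
      have e3 : w ^ k * b * d * b ^ k = w ^ k * (b * d) * b ^ k := by group
      rw [e3, hw, pow_succ, pow_succ]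
      group
  induction n with
  | zero => simp
  | succ n ih =>
    rw [pow_succ, ih]
    have e1 : d ^ n * b ^ n * w ^ n.choose 2 * (d * b) =
        d ^ n * (b ^ n * (w ^ n.choose 2 * d)) * b := by group
    rw [e1, ((hwd.pow_left _).eq : w ^ n.choose 2 * d = d * w ^ n.choose 2)]
    have e2 : d ^ n * (b ^ n * (d * w ^ n.choose 2)) * b =
        d ^ n * (b ^ n * d) * (w ^ n.choose 2 * b) := by group
    rw [e2, key n, ((hwb.pow_left _).eq : w ^ n.choose 2 * b = b * w ^ n.choose 2)]
    have e3 : d ^ n * (w ^ n * d * b ^ n) * (b * w ^ n.choose 2) =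
        d ^ n * (w ^ n * d) * b ^ (n + 1) * w ^ n.choose 2 := by
      rw [pow_succ]; group
    rw [e3, ((hwd.pow_left n).eq : w ^ n * d = d * w ^ n)]
    have e4 : d ^ n * (d * w ^ n) * b ^ (n + 1) * w ^ n.choose 2 =
        d ^ (n + 1) * (w ^ n * b ^ (n + 1)) * w ^ n.choose 2 := by
      rw [pow_succ]; group
    rw [e4, (((hwb.pow_pow n (n + 1)).eq) : w ^ n * b ^ (n + 1) = b ^ (n + 1) * w ^ n)]
    have e5 : (n + 1).choose 2 = n + n.choose 2 := by
      rw [Nat.choose_succ_succ' n 1, Nat.choose_one_right]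
    rw [e5, pow_add]
    group

section Unique

variable {G : Type u} [Group G] [Finite G] {p m s : ℕ}

theorem mem_of_pow_eq_one (hp : p.Prime) (hG : Nat.card G = p ^ m) (hsm : s ≤ m) {V : Subgroup G}
    (hV : Nat.card V = p ^ s)
    (huniq : ∀ H K : Subgroup G, Nat.card H = p ^ s → Nat.card K = p ^ s → H = K)
    {x : G} (hx : x ^ p ^ s = 1) : x ∈ V := by
  haveI : Fact p.Prime := ⟨hp⟩
  obtain ⟨i, hi, hoi⟩ := (Nat.dvd_prime_pow hp).1 (orderOf_dvd_of_pow_eq_one hx)
  obtain ⟨K, hK, hle⟩ := Sylow.exists_subgroup_card_pow_prime_le p (n := i) (m := s)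
    (hG ▸ pow_dvd_pow p hsm) (zpowers x) (by rw [Nat.card_zpowers, hoi]) hi
  rw [← huniq K V hK hV]
  exact hle (mem_zpowers x)

theorem le_of_card_succ (hp : p.Prime) (hG : Nat.card G = p ^ m) {V K : Subgroup G}
    (hV : Nat.card V = p ^ s)
    (huniq : ∀ H K : Subgroup G, Nat.card H = p ^ s → Nat.card K = p ^ s → H = K)
    (hK : Nat.card K = p ^ (s + 1)) : V ≤ K := by
  haveI : Fact p.Prime := ⟨hp⟩
  have hle : p ^ s ≤ Nat.card K := by
    rw [hK]; exact Nat.pow_le_pow_right hp.pos (Nat.le_succ s)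
  obtain ⟨H', hH', hc⟩ := Sylow.exists_subgroup_le_card_pow_prime_of_le_card hp
    (IsPGroup.of_card hG) hle
  rw [← huniq H' V hc hV]
  exact hH'

theorem exists_generator_of_card_succ (hp : p.Prime) (hG : Nat.card G = p ^ m) (hsm : s ≤ m)
    {V K : Subgroup G} (hV : Nat.card V = p ^ s)
    (huniq : ∀ H K : Subgroup G, Nat.card H = p ^ s → Nat.card K = p ^ s → H = K)
    (hK : Nat.card K = p ^ (s + 1)) : ∃ x : G, K = zpowers x ∧ orderOf x = p ^ (s + 1) := by
  haveI : Fact p.Prime := ⟨hp⟩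
  have hnle : ¬ K ≤ V := by
    intro hle
    have h1 := Subgroup.card_le_of_le hle
    rw [hK, hV] at h1
    have h2 := (Nat.pow_le_pow_iff_right hp.one_lt).1 h1
    omega
  obtain ⟨x, hxK, hxV⟩ := SetLike.not_le_iff_exists.1 hnle
  have h1 : orderOf x ∣ p ^ (s + 1) := hK ▸ Subgroup.orderOf_dvd_natCard K hxK
  obtain ⟨i, hi, hoi⟩ := (Nat.dvd_prime_pow hp).1 h1
  have his : i = s + 1 := by
    by_contra hne
    apply hxV
    apply mem_of_pow_eq_one hp hG hsm hV huniq
    apply orderOf_dvd_iff_pow_eq_one.1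
    rw [hoi]
    exact pow_dvd_pow p (by omega)
  subst his
  refine ⟨x, ?_, hoi⟩
  symm
  apply Subgroup.eq_of_le_of_card_ge
  · rwa [zpowers_le]
  · rw [hK, Nat.card_zpowers, hoi]

/-- Uniqueness of a subgroup of order `p ^ s` propagates upward. -/
theorem unique_step (hp : p.Prime) (hG : Nat.card G = p ^ m) (hs : 1 ≤ s) (hsm : s + 1 < m)
    (h2 : p ≠ 2 ∨ 2 ≤ s)
    (huniq : ∀ H K : Subgroup G, Nat.card H = p ^ s → Nat.card K = p ^ s → H = K) :
    ∀ H K : Subgroup G, Nat.card H = p ^ (s + 1) → Nat.card K = p ^ (s + 1) → H = K := by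
  classical
  haveI : Fact p.Prime := ⟨hp⟩
  have hsm' : s ≤ m := by omega
  obtain ⟨V, hV⟩ := Sylow.exists_subgroup_card_pow_prime p (n := s) (hG ▸ pow_dvd_pow p hsm')
  have hmem : ∀ {x : G}, x ^ p ^ s = 1 → x ∈ V := fun hx =>
    mem_of_pow_eq_one hp hG hsm' hV huniq hx
  have hcount := card_normal_subgroups_modEq (G := G) (s := s + 1) hp hG (by omega)
  have hne : Nonempty {H : Subgroup G // H.Normal ∧ Nat.card H = p ^ (s + 1)} := by
    by_contra hemp
    rw [not_nonempty_iff] at hemp
    rw [Nat.card_of_isEmpty] at hcount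
    have h3 : p ∣ 1 := (Nat.modEq_zero_iff_dvd).1 hcount.symm
    exact hp.one_lt.ne' (Nat.dvd_one.1 h3)
  obtain ⟨⟨K₁, hK₁n, hK₁⟩⟩ := hne
  suffices hall : ∀ K : Subgroup G, Nat.card K = p ^ (s + 1) → K = K₁ by
    intro H K hH hK
    rw [hall H hH, hall K hK]
  intro K₂ hK₂
  by_contra hne
  obtain ⟨a₀, hK₁a, ha₀⟩ := exists_generator_of_card_succ hp hG hsm' hV huniq hK₁
  obtain ⟨b, hK₂b, hb⟩ := exists_generator_of_card_succ hp hG hsm' hV huniq hK₂
  have hbK₁ : b ∉ K₁ := by
    intro hbm
    apply hne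
    apply Subgroup.eq_of_le_of_card_ge
    · rw [hK₂b, zpowers_le]; exact hbm
    · rw [hK₁, hK₂]
  have hbp : (b ^ p) ^ p ^ s = 1 := by
    rw [← pow_mul, ← pow_succ', ← hb, pow_orderOf_eq_one]
  have hbpV : b ^ p ∈ V := hmem hbp
  have hVK₁ := le_of_card_succ hp hG hV huniq hK₁
  have hVK₂ := le_of_card_succ hp hG hV huniq hK₂
  have hbpK₁ : b ^ p ∈ zpowers a₀ := hK₁a ▸ hVK₁ hbpV
  obtain ⟨k, hk⟩ := mem_zpowers_iff.1 hbpK₁
  have hpk : (p : ℤ) ∣ k := by
    have h3 : a₀ ^ (k * (p ^ s : ℕ)) = 1 := by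
      rw [zpow_mul, hk, zpow_natCast, hbp]
    have h4 := orderOf_dvd_iff_zpow_eq_one.2 h3
    rw [ha₀, pow_succ'] at h4
    push_cast at h4
    have h5 : ((p : ℤ) ^ s) ≠ 0 := pow_ne_zero _ (by exact_mod_cast hp.ne_zero)
    have h6 : (p : ℤ) * (p : ℤ) ^ s ∣ k * (p : ℤ) ^ s := h4
    exact (mul_dvd_mul_iff_right h5).1 h6
  obtain ⟨u, rfl⟩ := hpk
  let a : G := a₀ ^ u
  have hap : a ^ p = b ^ p := by
    rw [← hk]
    show (a₀ ^ u) ^ p = _
    rw [← zpow_natCast, ← zpow_mul, mul_comm]
  have haK₁ : a ∈ K₁ := by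
    rw [hK₁a]; exact zpow_mem (mem_zpowers _) _
  have hcomm : ∀ x ∈ K₁, ∀ y ∈ K₁, x * y = y * x := by
    rw [hK₁a]
    intro x hx y hy
    obtain ⟨i, rfl⟩ := mem_zpowers_iff.1 hx
    obtain ⟨j, rfl⟩ := mem_zpowers_iff.1 hy
    exact (Commute.refl a₀).zpow_zpow i j
  let d : G := a⁻¹
  have hdK₁ : d ∈ K₁ := inv_mem haK₁
  let w : G := b * d * b⁻¹ * d⁻¹
  have hxK₁ : b * d * b⁻¹ ∈ K₁ := hK₁n.conj_mem d hdK₁ b
  have hwK₁ : w ∈ K₁ := mul_mem hxK₁ (inv_mem hdK₁)
  have hdp : d ^ p = (b ^ p)⁻¹ := by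
    show a⁻¹ ^ p = _
    rw [inv_pow, hap]
  have hbc : b * b ^ p = b ^ p * b := (pow_succ' b p).symm.trans (pow_succ b p)
  have hwp : w ^ p = 1 := by
    have hc : Commute (b * d * b⁻¹) d⁻¹ := hcomm _ hxK₁ _ (inv_mem hdK₁)
    show (b * d * b⁻¹ * d⁻¹) ^ p = 1
    rw [hc.mul_pow, conj_pow, hdp, inv_pow, hdp, inv_inv]
    have e : b * (b ^ p)⁻¹ * b⁻¹ = (b * b ^ p * b⁻¹)⁻¹ := by group
    rw [e, hbc]
    simp
  have hwV : w ∈ V := by
    apply hmem
    obtain ⟨t, rfl⟩ : ∃ t, s = t + 1 := ⟨s - 1, by omega⟩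
    rw [pow_succ', pow_mul, hwp, one_pow]
  have hwb : Commute w b := by
    have h3 : w ∈ zpowers b := hK₂b ▸ hVK₂ hwV
    obtain ⟨i, hi⟩ := mem_zpowers_iff.1 h3
    rw [← hi]
    exact (Commute.refl b).zpow_left i
  have hwd : Commute w d := hcomm _ hwK₁ _ hdK₁
  have hw : b * d = w * d * b := by
    show b * d = b * d * b⁻¹ * d⁻¹ * d * b
    group
  have hc := pow_mul_of_central d b w hw hwd hwb p
  have hc1 : (d * b) ^ p = w ^ p.choose 2 := by
    rw [hc, hdp]; simp
  have hcs : (d * b) ^ p ^ s = 1 := by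
    by_cases hp2 : p = 2
    · subst hp2
      have hs2 : 2 ≤ s := h2.resolve_left (by simp)
      obtain ⟨t, rfl⟩ : ∃ t, s = t + 2 := ⟨s - 2, by omega⟩
      rw [pow_add, mul_comm, pow_mul]
      have : (d * b) ^ (2 ^ 2) = 1 := by
        rw [show (2 : ℕ) ^ 2 = 2 * 2 by norm_num, pow_mul, hc1]
        simp [hwp]
      rw [this, one_pow]
    · have hpd : p ∣ p.choose 2 :=
        hp.dvd_choose_self (by norm_num) (lt_of_le_of_ne hp.two_le (Ne.symm hp2))
      obtain ⟨t, ht⟩ := hpd
      have h3 : (d * b) ^ p = 1 := by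
        rw [hc1, ht, pow_mul, hwp, one_pow]
      obtain ⟨t', rfl⟩ : ∃ t, s = t + 1 := ⟨s - 1, by omega⟩
      rw [pow_succ', pow_mul, h3, one_pow]
  have hcV : d * b ∈ V := hmem hcs
  have hcK₁ : d * b ∈ K₁ := hVK₁ hcV
  apply hbK₁
  have : b = d⁻¹ * (d * b) := by group
  rw [this]
  exact mul_mem (inv_mem hdK₁) hcK₁

/-- A `p`-group with a unique subgroup of order `p ^ s`, `s ≥ 1`, and `s ≥ 2` if `p = 2`,
`s` less than the exponent of the order, is cyclic. -/
theorem isCyclic_of_unique_aux (hp : p.Prime) (hG : Nat.card G = p ^ m) :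
    ∀ d s : ℕ, m = s + 1 + d → 1 ≤ s → (p ≠ 2 ∨ 2 ≤ s) →
      (∀ H K : Subgroup G, Nat.card H = p ^ s → Nat.card K = p ^ s → H = K) → IsCyclic G := by
  haveI : Fact p.Prime := ⟨hp⟩
  intro d
  induction d with
  | zero =>
    intro s hm _ _ huniq
    have hsm : s ≤ m := by omega
    obtain ⟨V, hV⟩ := Sylow.exists_subgroup_card_pow_prime p (n := s) (hG ▸ pow_dvd_pow p hsm)
    obtain ⟨x, hx, _⟩ := exists_generator_of_card_succ (K := ⊤) hp hG hsm hV huniq
      (by rw [Subgroup.card_top, hG, hm])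
    exact isCyclic_iff_exists_zpowers_eq_top.2 ⟨x, hx.symm⟩
  | succ d ih =>
    intro s hm hs h2 huniq
    have hstep := unique_step hp hG hs (by omega) h2 huniq
    exact ih (s + 1) (by omega) (by omega) (h2.imp id (fun h => by omega)) hstep

end Unique

end Cfsg.Agent.Lib.SubCount
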