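import Cfsg.Agent.Lib.H1Small3
import Cfsg.Agent.S0985

set_option autoImplicit false

/-! Intersections of Sylow subgroups. -/

namespace Cfsg.Agent.Lib.H1Small

variable {G : Type*} [Group G] [Finite G]

/-- Candidates for a Sylow number. -/
theorem mem_cands (n m p lo : ℕ) (h : n ∣ m) (hm : m ≠ 0) (h3 : n % p = 1) (hlo : lo ≤ n) :
    n ∈ (Nat.divisors m).filter (fun d => d % p = 1 ∧ lo ≤ d) :=
  Finset.mem_filter.mpr ⟨Nat.mem_divisors.mpr ⟨h, hm⟩, h3, hlo⟩

/-- The centralizer of a nontrivial subgroup of a nonabelian simple group is proper. -/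
theorem centralizer_ne_top [IsSimpleGroup G] (hG : ¬ IsMulCommutative G) (D : Subgroup G)
    (hD : D ≠ ⊥) : Subgroup.centralizer (D : Set G) ≠ ⊤ := by
  intro h
  apply hG
  have hcen : Subgroup.center G = ⊤ := by
    rcases (inferInstance : (Subgroup.center G).Normal).eq_bot_or_eq_top with h2 | h2
    · exfalso
      apply hD
      rw [eq_bot_iff]
      intro d hd
      rw [← h2, Subgroup.mem_center_iff]
      intro g
      have hg : g ∈ Subgroup.centralizer (D : Set G) := by rw [h]; trivial
      exact ((Subgroup.mem_centralizer_iff.mp hg) d hd).symm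
    · exact h2
  exact ⟨⟨fun a b => by
    have ha : a ∈ Subgroup.center G := by rw [hcen]; trivial
    exact (Subgroup.mem_center_iff.mp ha b).symm⟩⟩

/-- A subgroup containing two Sylow subgroups has at least `p + 1` Sylow subgroups. -/
theorem card_ge_of_two_sylow {p : ℕ} [hp : Fact p.Prime] (C : Subgroup G) (A R : Sylow p G)
    (hne : A ≠ R) (hA : (A : Subgroup G) ≤ C) (hR : (R : Subgroup G) ≤ C) :
    (p + 1) * Nat.card (A : Subgroup G) ≤ Nat.card C := by
  classical
  have hpp : p.Prime := hp.out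
  let A' : Sylow p C := A.subtype hA
  let R' : Sylow p C := R.subtype hR
  have hne' : A' ≠ R' := by
    intro h
    apply hne
    apply Sylow.ext
    apply le_antisymm
    · intro x hx
      have h1 : (⟨x, hA hx⟩ : C) ∈ (A' : Subgroup C) := by
        rw [Sylow.coe_subtype, Subgroup.mem_subgroupOf]; exact hx
      rw [h, Sylow.coe_subtype, Subgroup.mem_subgroupOf] at h1
      exact h1
    · intro x hx
      have h1 : (⟨x, hR hx⟩ : C) ∈ (R' : Subgroup C) := by
        rw [Sylow.coe_subtype, Subgroup.mem_subgroupOf]; exact hx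
      rw [← h, Sylow.coe_subtype, Subgroup.mem_subgroupOf] at h1
      exact h1
  have h1 : Nat.card (Sylow p C) ≠ 1 := by
    intro h
    haveI := (Nat.card_eq_one_iff_unique.mp h).1
    exact hne' (Subsingleton.elim _ _)
  have h2 : Nat.card (Sylow p C) % p = 1 := by
    have := card_sylow_modEq_one p C
    unfold Nat.ModEq at this
    rw [this, Nat.mod_eq_of_lt hpp.one_lt]
  have h3 : p + 1 ≤ Nat.card (Sylow p C) := by
    have hpos : 0 < Nat.card (Sylow p C) := Nat.card_pos
    by_contra hlt
    rcases Nat.lt_or_ge (Nat.card (Sylow p C)) p with hlt' | hge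
    · rw [Nat.mod_eq_of_lt hlt'] at h2
      exact h1 h2
    · have he : Nat.card (Sylow p C) = p := by omega
      rw [he, Nat.mod_self] at h2
      omega
  have h4 := A'.card_dvd_index
  have h5 : (A' : Subgroup C).index * Nat.card (A' : Subgroup C) = Nat.card C :=
    (A' : Subgroup C).index_mul_card
  have h6 : Nat.card (A' : Subgroup C) = Nat.card (A : Subgroup G) := by
    rw [Sylow.coe_subtype]
    exact Nat.card_congr (Subgroup.subgroupOfEquivOfLe hA).toEquiv
  rw [h6] at h5
  rw [← h5]
  apply Nat.mul_le_mul_right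
  exact h3.trans (Nat.le_of_dvd (Nat.pos_of_ne_zero Subgroup.index_ne_zero_of_finite) h4)

/-- Subgroups of prime-squared order are commutative. -/
theorem comm_of_card_eq_sq {p : ℕ} [hp : Fact p.Prime] (A : Subgroup G) (hA : Nat.card A = p ^ 2)
    {a b : G} (ha : a ∈ A) (hb : b ∈ A) : a * b = b * a := by
  have hc := IsPGroup.isMulCommutative_of_card_eq_prime_sq hA
  have := hc.is_comm.comm (⟨a, ha⟩ : A) ⟨b, hb⟩
  exact congrArg Subtype.val this

/-- Sylow subgroups of order `p²`, Sylow number not `1` modulo `p²`. -/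
theorem exists_large_inter [IsSimpleGroup G] (hG : ¬ IsMulCommutative G) {p : ℕ} [hp : Fact p.Prime]
    (hcard : ∀ P : Sylow p G, Nat.card (P : Subgroup G) = p ^ 2)
    (hn : ¬ Nat.card (Sylow p G) ≡ 1 [MOD p ^ 2]) :
    ∃ D : Subgroup G, Nat.card D = p ∧ Subgroup.centralizer (D : Set G) ≠ ⊤ ∧
      (p + 1) * p ^ 2 ≤ Nat.card (Subgroup.centralizer (D : Set G)) ∧
      p ^ 2 ∣ Nat.card (Subgroup.centralizer (D : Set G)) := by
  have hpp : p.Prime := hp.out
  obtain ⟨A, R, hAR, hidx⟩ := Cfsg.Agent.S0985.result p 2 hn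
  set D : Subgroup G := (A : Subgroup G) ⊓ (R : Subgroup G) with hD
  have hidx1 : ((R : Subgroup G).subgroupOf (A : Subgroup G)).index ≠ 1 := by
    intro h
    have h1 : (A : Subgroup G) ≤ (R : Subgroup G) := Subgroup.relIndex_eq_one.mp h
    exact hAR (Sylow.ext (A.is_maximal' R.isPGroup' h1).symm)
  have h1 := ((R : Subgroup G).subgroupOf (A : Subgroup G)).card_mul_index
  have h2 : Nat.card ((R : Subgroup G).subgroupOf (A : Subgroup G)) = Nat.card D := by
    rw [hD, inf_comm, ← Subgroup.inf_subgroupOf_right]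
    exact Nat.card_congr (Subgroup.subgroupOfEquivOfLe inf_le_right).toEquiv
  rw [h2, hcard A] at h1
  have h3 : ((R : Subgroup G).subgroupOf (A : Subgroup G)).index ∣ p ^ 2 := ⟨_, by rw [← h1, mul_comm]⟩
  obtain ⟨j, hj, hj2⟩ := (Nat.dvd_prime_pow hpp).mp h3
  have hj1 : j = 1 := by
    have h4 : j ≠ 0 := by
      rintro rfl
      rw [pow_zero] at hj2
      exact hidx1 hj2
    have h5 : j < 2 := by
      by_contra hge
      have h6 : j = 2 := by omega
      rw [h6] at hj2
      rw [hj2] at hidx
      have h7 : 2 - 1 = 1 := rfl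
      rw [h7, pow_one] at hidx
      nlinarith [hpp.two_le]
    omega
  rw [hj1, pow_one] at hj2
  rw [hj2] at h1
  have hDc : Nat.card D = p := by
    have : Nat.card D * p = p * p := by rw [h1]; ring
    exact Nat.eq_of_mul_eq_mul_right hpp.pos this
  have hDA : D ≤ (A : Subgroup G) := inf_le_left
  have hDR : D ≤ (R : Subgroup G) := inf_le_right
  have hAC : (A : Subgroup G) ≤ Subgroup.centralizer (D : Set G) := by
    intro a ha
    rw [Subgroup.mem_centralizer_iff]
    intro d hd
    exact comm_of_card_eq_sq _ (hcard A) (hDA hd) ha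
  have hRC : (R : Subgroup G) ≤ Subgroup.centralizer (D : Set G) := by
    intro a ha
    rw [Subgroup.mem_centralizer_iff]
    intro d hd
    exact comm_of_card_eq_sq _ (hcard R) (hDR hd) ha
  have hDb : D ≠ ⊥ := by
    intro h
    rw [h, Subgroup.card_bot] at hDc
    exact hpp.one_lt.ne hDc
  refine ⟨D, hDc, centralizer_ne_top hG D hDb, ?_, ?_⟩
  · have := card_ge_of_two_sylow _ A R hAR hAC hRC
    rwa [hcard A] at this
  · rw [← hcard A]
    exact Subgroup.card_dvd_of_le hAC

end Cfsg.Agent.Lib.H1Small
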