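import Cfsg.Agent.Lib.H1Small4
import Cfsg.Agent.Lib.LeadDihedral
import Cfsg.Agent.S1012

/-!
# The structure of a simple group of order 168
-/

set_option autoImplicit false
set_option linter.unusedVariables false
set_option linter.unusedSectionVars false
set_option linter.style.longLine false

namespace Cfsg.Agent.Lib.H1L168

open Cfsg.Agent.Lib.H1Small

section General

variable {G : Type*} [Group G] [Finite G]

/-- A self-centralizing criterion: a proper nontrivial prime-order Sylow subgroup of a simple group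
whose normalizer has order `e * p` with `e` prime is self-centralizing. -/
theorem cent_le [IsSimpleGroup G] {p : ℕ} [hp : Fact p.Prime] (P : Sylow p G) (e : ℕ) (he : e.Prime)
    (hP : Nat.card (P : Subgroup G) = p)
    (hN : Nat.card (Subgroup.normalizer ((P : Subgroup G) : Set G)) = e * p) :
    Subgroup.centralizer ((P : Subgroup G) : Set G) ≤ (P : Subgroup G) := by
  have hp1 : p.Prime := hp.out
  have hPC : (P : Subgroup G) ≤ Subgroup.centralizer ((P : Subgroup G) : Set G) :=
    le_centralizer_of_prime_card _ hP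
  have hpG : Nat.card (P : Subgroup G) ≠ Nat.card G := by
    intro h
    have h2 := Subgroup.card_le_card_group (Subgroup.normalizer ((P : Subgroup G) : Set G))
    rw [hN, ← h, hP] at h2
    have h3 := he.two_le
    have h4 := hp1.pos
    nlinarith
  have hne := not_normalizer_le_centralizer P (by rw [hP]; exact hp1.one_lt.ne') hpG
  have hCN := centralizer_le_normalizer' (P : Subgroup G)
  have h1 : Nat.card (P : Subgroup G) ∣ Nat.card (Subgroup.centralizer ((P : Subgroup G) : Set G)) :=
    Subgroup.card_dvd_of_le hPC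
  have h2 : Nat.card (Subgroup.centralizer ((P : Subgroup G) : Set G)) ∣ e * p := by
    rw [← hN]
    exact Subgroup.card_dvd_of_le hCN
  rw [hP] at h1
  obtain ⟨k, hk⟩ := h1
  rw [hk, mul_comm e p] at h2
  have h3 : k ∣ e := (Nat.mul_dvd_mul_iff_left hp1.pos).mp h2
  rcases (Nat.dvd_prime he).mp h3 with rfl | rfl
  · have h4 : Nat.card (Subgroup.centralizer ((P : Subgroup G) : Set G)) ≤ Nat.card (P : Subgroup G) := by
      rw [hk, hP, mul_one]
    exact (Subgroup.eq_of_le_of_card_ge hPC h4).ge
  · exfalso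
    apply hne
    have h4 : Nat.card (Subgroup.normalizer ((P : Subgroup G) : Set G)) ≤
        Nat.card (Subgroup.centralizer ((P : Subgroup G) : Set G)) := by
      rw [hN, hk, mul_comm]
    exact (Subgroup.eq_of_le_of_card_ge hCN h4).ge

/-- An element of order divisible by `p` has order `p` when Sylow `p`-subgroups have order `p` and are
self-centralizing. -/
theorem order_eq_of_dvd {p : ℕ} [hp : Fact p.Prime]
    (hall : ∀ P : Sylow p G, Nat.card (P : Subgroup G) = p ∧
      Subgroup.centralizer ((P : Subgroup G) : Set G) ≤ (P : Subgroup G))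
    (g : G) (hg : p ∣ orderOf g) : orderOf g = p := by
  have hp1 : p.Prime := hp.out
  have hg0 : orderOf g ≠ 0 := (orderOf_pos g).ne'
  have hy : orderOf (g ^ (orderOf g / p)) = p := orderOf_pow_orderOf_div hg0 hg
  set y := g ^ (orderOf g / p) with hydef
  obtain ⟨P, hP⟩ := (isPGroup_zpowers_of_orderOf hy).exists_le_sylow
  have hyP : y ∈ (P : Subgroup G) := hP (Subgroup.mem_zpowers y)
  obtain ⟨hc, hC⟩ := hall P
  have hy1 : y ≠ 1 := by
    intro h
    rw [h, orderOf_one] at hy
    exact hp1.one_lt.ne hy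
  have hz := zpowers_eq_of_mem_prime_card (P : Subgroup G) hc hyP hy1
  have hgP : g ∈ (P : Subgroup G) := by
    apply hC
    rw [Subgroup.mem_centralizer_iff]
    intro u hu
    have hu' : u ∈ Subgroup.zpowers y := by
      rw [hz]
      exact hu
    obtain ⟨k, rfl⟩ := Subgroup.mem_zpowers_iff.mp hu'
    have h2 : Commute y g := (Commute.refl g).pow_left _
    exact (h2.zpow_left k).eq
  have h3 : orderOf g ∣ p := by
    have := Subgroup.orderOf_dvd_natCard (P : Subgroup G) hgP
    rwa [hc] at this
  exact Nat.dvd_antisymm h3 hg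

/-- The number of elements of order `p`. -/
theorem card_order_p {p : ℕ} [hp : Fact p.Prime]
    (hall : ∀ P : Sylow p G, Nat.card (P : Subgroup G) = p) :
    Nat.card {g : G // orderOf g = p} = Nat.card (Sylow p G) * (p - 1) := by
  classical
  have hp1 : p.Prime := hp.out
  have hch : ∀ x : {g : G // orderOf g = p}, ∃ Q : Sylow p G, (x : G) ∈ (Q : Subgroup G) := by
    intro x
    obtain ⟨Q, hQ⟩ := (isPGroup_zpowers_of_orderOf x.2).exists_le_sylow
    exact ⟨Q, hQ (Subgroup.mem_zpowers _)⟩
  choose f hf using hch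
  apply card_eq_of_fibers f
  intro Q
  have h1 := card_subtype_ne_add_one (1 : (Q : Subgroup G))
  rw [hall Q] at h1
  have h2 : Nat.card {x : {g : G // orderOf g = p} // f x = Q} = Nat.card {y : (Q : Subgroup G) // y ≠ 1} := by
    apply Nat.card_congr
    refine
      { toFun := fun x => ⟨⟨x.1.1, by
          have h0 := hf x.1
          rwa [x.2] at h0⟩, ?_⟩
        invFun := fun y => ⟨⟨y.1.1, ?_⟩, ?_⟩
        left_inv := ?_
        right_inv := ?_ }
    · intro h
      have h3 := congrArg Subtype.val h
      have h4 : (x.1.1 : G) = 1 := h3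
      have h5 := x.1.2
      rw [h4, orderOf_one] at h5
      exact hp1.one_lt.ne h5
    · exact orderOf_eq_of_mem_prime_card _ (hall Q) y.1.2 (by
        intro h
        exact y.2 (Subtype.ext h))
    · have hy1 : (y.1.1 : G) ≠ 1 := by
        intro h
        exact y.2 (Subtype.ext h)
      apply Sylow.ext
      exact eq_of_common_prime_card _ _ (hall _) (hall _) (hf _) y.1.2 hy1
    · intro x
      rfl
    · intro y
      rfl
  rw [h2]
  omega

/-- The number of nonidentity elements in a Sylow `p`-subgroup. -/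
theorem card_nonid (H : Subgroup G) (n : ℕ) (h : Nat.card H = n) :
    Nat.card {y : H // y ≠ 1} = n - 1 := by
  have h1 := card_subtype_ne_add_one (1 : H)
  omega

end General

section Main

variable {G : Type*} [Group G] [Finite G] [IsSimpleGroup G]

instance instFact7 : Fact (Nat.Prime 7) := ⟨by norm_num⟩

theorem not_comm168 (h : Nat.card G = 168) : ¬ IsMulCommutative G :=
  not_comm_of_not_prime (by rw [h]; norm_num)

theorem index_ge_seven (h : Nat.card G = 168) (H : Subgroup G) (hH : H ≠ ⊤) : 7 ≤ H.index :=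
  le_index_of_not_dvd (not_comm168 h) H hH 7 (by rw [h]; decide)

theorem syl7 (h : Nat.card G = 168) (P : Sylow 7 G) :
    Nat.card (P : Subgroup G) = 7 ∧ Nat.card (Sylow 7 G) = 8 ∧
      Nat.card (Subgroup.normalizer ((P : Subgroup G) : Set G)) = 21 ∧
      Subgroup.centralizer ((P : Subgroup G) : Set G) ≤ (P : Subgroup G) := by
  obtain ⟨h1, h2, h3, h4⟩ := sylow_data (p := 7) 1 24 (by rw [h]; norm_num) (by norm_num) P
  rw [pow_one] at h1
  have hne := sylow_card_ne_one P (by rw [h1]; norm_num) (by rw [h1, h]; norm_num)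
  have hcand : Nat.card (Sylow 7 G) ∈ (Nat.divisors 24).filter (fun d => d % 7 = 1 ∧ 2 ≤ d) :=
    mem_cands _ _ _ _ h2 (by norm_num) h3 (by
      have : 0 < Nat.card (Sylow 7 G) := Nat.card_pos
      omega)
  rw [show (Nat.divisors 24).filter (fun d => d % 7 = 1 ∧ 2 ≤ d) = {8} by decide +kernel, Finset.mem_singleton] at hcand
  rw [hcand, h] at h4
  have hN : Nat.card (Subgroup.normalizer ((P : Subgroup G) : Set G)) = 21 := by omega
  exact ⟨h1, hcand, hN, cent_le P 3 (by norm_num) h1 (by rw [hN])⟩

/-- The number of Sylow `3`-subgroups is not `7`. -/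
theorem n3_ne_seven (h : Nat.card G = 168) (P : Sylow 3 G) (h1 : Nat.card (P : Subgroup G) = 3)
    (hn : Nat.card (Sylow 3 G) = 7) : False := by
  classical
  have hG := not_comm168 h
  obtain ⟨-, -, -, h4⟩ := sylow_data (p := 3) 1 56 (by rw [h]; norm_num) (by norm_num) P
  rw [hn, h] at h4
  have hN : Nat.card (Subgroup.normalizer ((P : Subgroup G) : Set G)) = 24 := by omega
  have hPC : (P : Subgroup G) ≤ Subgroup.centralizer ((P : Subgroup G) : Set G) :=
    le_centralizer_of_prime_card _ h1
  have hCN := centralizer_le_normalizer' (P : Subgroup G)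
  -- the index of the centralizer in the normalizer is at most 2
  have h5 := relIndex_centralizer_dvd_sub_one (P : Subgroup G) h1
  have h6 := relIndex_mul_card hCN
  rw [hN] at h6
  have h7 : (Subgroup.centralizer ((P : Subgroup G) : Set G)).relIndex
      (Subgroup.normalizer ((P : Subgroup G) : Set G)) ≤ 2 := Nat.le_of_dvd (by norm_num) h5
  -- an involution centralizing `P`
  have h8 : 2 ∣ Nat.card (Subgroup.centralizer ((P : Subgroup G) : Set G)) := by
    generalize (Subgroup.centralizer ((P : Subgroup G) : Set G)).relIndex (Subgroup.normalizer ((P : Subgroup G) : Set G)) = a at *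
    generalize Nat.card (Subgroup.centralizer ((P : Subgroup G) : Set G)) = b at *
    have ha : a = 1 ∨ a = 2 := by
      have : a ≠ 0 := by
        rintro rfl
        omega
      omega
    rcases ha with rfl | rfl <;> omega
  obtain ⟨t, ht⟩ := exists_prime_orderOf_dvd_card' (G := Subgroup.centralizer ((P : Subgroup G) : Set G)) 2 h8
  have ht' : orderOf (t : G) = 2 := (Subgroup.orderOf_coe t).trans ht
  have ht2 : (t : G) ^ 2 = 1 := by
    rw [← ht']
    exact pow_orderOf_eq_one _
  have ht1 : (t : G) ≠ 1 := by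
    intro h0
    rw [h0, orderOf_one] at ht'
    omega
  obtain ⟨k, hk⟩ := card_eq_fixedBy_add_four hG (X := Sylow 3 G) (t : G) ht2
  have htP : (t : G) • P = P := (smul_eq_iff_mem_nrm P _).mpr (hCN t.2)
  rw [card_fixedBy_eq (Sylow 3 G) P (t : G) htP, hn] at hk
  -- `P` acts on the other fixed points without fixed points
  have hcomm : ∀ u ∈ (P : Subgroup G), (t : G) * u = u * (t : G) := by
    intro u hu
    exact ((Subgroup.mem_centralizer_iff.mp t.2) u hu).symm
  let S : SubMulAction (P : Subgroup G) (Sylow 3 G) :=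
    { carrier := {Q | Q ≠ P ∧ (t : G) • Q = Q}
      smul_mem' := by
        intro u Q hQ
        refine ⟨?_, ?_⟩
        · intro h2
          apply hQ.1
          have h3 : (u : G) • P = P := (smul_eq_iff_mem_nrm P _).mpr (Subgroup.le_normalizer u.2)
          have h4 : (u : G) • Q = P := h2
          exact smul_left_cancel (u : G) (h4.trans h3.symm)
        · change (t : G) • ((u : G) • Q) = (u : G) • Q
          rw [smul_smul, hcomm u u.2, mul_smul, hQ.2] }
  have hmod := (P.isPGroup').card_modEq_card_fixedPoints S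
  have hfix : IsEmpty (MulAction.fixedPoints (P : Subgroup G) S) := by
    constructor
    rintro ⟨⟨Q, hQ⟩, hfx⟩
    apply hQ.1
    have h2 : (P : Subgroup G) ≤ Subgroup.normalizer ((Q : Subgroup G) : Set G) := by
      intro u hu
      apply (smul_eq_iff_mem_nrm Q u).mp
      have := hfx ⟨u, hu⟩
      exact congrArg Subtype.val this
    have h3 : (P : Subgroup G) ≤ (Q : Subgroup G) := fun u hu =>
      mem_of_mem_nrm Q P.isPGroup' hu (h2 hu)
    exact Sylow.ext (P.is_maximal' Q.isPGroup' h3)
  have hfix0 : Nat.card (MulAction.fixedPoints (P : Subgroup G) S) = 0 := Nat.card_of_isEmpty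
  rw [hfix0] at hmod
  have hS : Nat.card S = Nat.card {Q : Sylow 3 G // Q ≠ P ∧ (t : G) • Q = Q} := rfl
  rw [hS] at hmod
  have hmod' : Nat.card {Q : Sylow 3 G // Q ≠ P ∧ (t : G) • Q = Q} % 3 = 0 := hmod
  have hk0 : Nat.card {Q : Sylow 3 G // Q ≠ P ∧ (t : G) • Q = Q} = 6 := by omega
  -- `t` fixes every Sylow 3-subgroup
  have hall : ∀ Q : Sylow 3 G, (t : G) • Q = Q := by
    intro Q
    have h2 := card_subtype_ne_add_one P
    rw [hn] at h2
    have h3 : Nat.card {Q : Sylow 3 G // Q ≠ P ∧ (t : G) • Q = Q} = Nat.card {Q : Sylow 3 G // Q ≠ P} := by omega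
    by_contra hQ
    have hQP : Q ≠ P := by
      rintro rfl
      exact hQ htP
    let inc : {Q : Sylow 3 G // Q ≠ P ∧ (t : G) • Q = Q} → {Q : Sylow 3 G // Q ≠ P} := fun a => ⟨a.1, a.2.1⟩
    have hinc : Function.Injective inc := by
      intro a b hab
      exact Subtype.ext (congrArg (fun s : {Q : Sylow 3 G // Q ≠ P} => s.1) hab)
    have hb := (hinc.bijective_of_nat_card_le h3.ge).2 ⟨Q, hQP⟩
    obtain ⟨a, ha⟩ := hb
    exact hQ (by
      have h4 : a.1 = Q := congrArg Subtype.val ha
      rw [← h4]
      exact a.2.2)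
  -- hence `t` lies in the kernel of the action
  let f := MulAction.toPermHom G (Sylow 3 G)
  have hker : f.ker = ⊥ ∨ f.ker = ⊤ := f.normal_ker.eq_bot_or_eq_top
  rcases hker with hb | ht'
  · apply ht1
    have : (t : G) ∈ f.ker := by
      rw [MonoidHom.mem_ker]
      ext1 Q
      exact hall Q
    rw [hb] at this
    exact this
  · have hone : ∀ g : G, ∀ Q : Sylow 3 G, g • Q = Q := by
      intro g Q
      have : g ∈ f.ker := by rw [ht']; trivial
      rw [MonoidHom.mem_ker] at this
      exact congrArg (fun s : Equiv.Perm (Sylow 3 G) => s Q) this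
    have h9 : Nat.card (Sylow 3 G) = 1 := by
      rw [Nat.card_eq_one_iff_unique]
      refine ⟨⟨?_⟩, ⟨P⟩⟩
      intro Q R
      obtain ⟨g, hg⟩ := MulAction.exists_smul_eq G Q R
      rw [← hg, hone]
    omega

theorem syl3 (h : Nat.card G = 168) (P : Sylow 3 G) :
    Nat.card (P : Subgroup G) = 3 ∧ Nat.card (Sylow 3 G) = 28 ∧
      Nat.card (Subgroup.normalizer ((P : Subgroup G) : Set G)) = 6 ∧
      Subgroup.centralizer ((P : Subgroup G) : Set G) ≤ (P : Subgroup G) := by
  obtain ⟨h1, h2, h3, h4⟩ := sylow_data (p := 3) 1 56 (by rw [h]; norm_num) (by norm_num) P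
  rw [pow_one] at h1
  have hidx : 7 ≤ Nat.card (Sylow 3 G) := by
    have h5 := index_ge_seven h (Subgroup.normalizer ((P : Subgroup G) : Set G)) (by
      intro htop
      have hne := sylow_card_ne_one P (by rw [h1]; norm_num) (by rw [h1, h]; norm_num)
      apply hne
      rw [htop, Subgroup.card_top] at h4
      have h6 : Nat.card G * Nat.card (Sylow 3 G) = Nat.card G * 1 := by rw [h4, mul_one]
      exact Nat.eq_of_mul_eq_mul_left Nat.card_pos h6)
    have h6 := Subgroup.card_mul_index (Subgroup.normalizer ((P : Subgroup G) : Set G))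
    rw [← h4] at h6
    have h7 := Nat.eq_of_mul_eq_mul_left Nat.card_pos h6
    omega
  have hcand : Nat.card (Sylow 3 G) ∈ (Nat.divisors 56).filter (fun d => d % 3 = 1 ∧ 7 ≤ d) :=
    mem_cands _ _ _ _ h2 (by norm_num) h3 hidx
  rw [show (Nat.divisors 56).filter (fun d => d % 3 = 1 ∧ 7 ≤ d) = {7, 28} by decide +kernel,
    Finset.mem_insert, Finset.mem_singleton] at hcand
  rcases hcand with hc | hc
  · exact (n3_ne_seven h P h1 hc).elim
  · rw [hc, h] at h4
    have hN : Nat.card (Subgroup.normalizer ((P : Subgroup G) : Set G)) = 6 := by omega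
    exact ⟨h1, hc, hN, cent_le P 2 (by norm_num) h1 (by rw [hN])⟩

theorem order_three (h : Nat.card G = 168) (g : G) (hg : 3 ∣ orderOf g) : orderOf g = 3 :=
  order_eq_of_dvd (fun P => ⟨(syl3 h P).1, (syl3 h P).2.2.2⟩) g hg

theorem order_seven (h : Nat.card G = 168) (g : G) (hg : 7 ∣ orderOf g) : orderOf g = 7 :=
  order_eq_of_dvd (fun P => ⟨(syl7 h P).1, (syl7 h P).2.2.2⟩) g hg

theorem card_order_three (h : Nat.card G = 168) : Nat.card {g : G // orderOf g = 3} = 56 := by
  obtain ⟨P⟩ : Nonempty (Sylow 3 G) := inferInstance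
  rw [card_order_p (fun P => (syl3 h P).1), (syl3 h P).2.1]

theorem card_order_seven (h : Nat.card G = 168) : Nat.card {g : G // orderOf g = 7} = 48 := by
  obtain ⟨P⟩ : Nonempty (Sylow 7 G) := inferInstance
  rw [card_order_p (fun P => (syl7 h P).1), (syl7 h P).2.1]

/-- Orders of elements. -/
theorem order_cases (h : Nat.card G = 168) (g : G) : orderOf g = 3 ∨ orderOf g = 7 ∨ orderOf g ∣ 8 := by
  by_cases h3 : 3 ∣ orderOf g
  · exact Or.inl (order_three h g h3)
  by_cases h7 : 7 ∣ orderOf g
  · exact Or.inr (Or.inl (order_seven h g h7))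
  right; right
  have h1 : orderOf g ∣ 168 := by
    rw [← h]
    exact orderOf_dvd_natCard g
  have h2 : (168 : ℕ) = 8 * 21 := by norm_num
  rw [h2] at h1
  have h4 : Nat.Coprime (orderOf g) 21 := by
    have h5 : (21 : ℕ) = 3 * 7 := by norm_num
    rw [h5]
    exact Nat.Coprime.mul_right ((Nat.Prime.coprime_iff_not_dvd (by norm_num)).mpr h3).symm
      ((Nat.Prime.coprime_iff_not_dvd (by norm_num)).mpr h7).symm
  exact h4.dvd_of_dvd_mul_right h1

/-- The number of `2`-elements. -/
theorem card_two_elements (h : Nat.card G = 168) : Nat.card {g : G // orderOf g ∣ 8} = 64 := by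
  classical
  haveI : Fintype G := Fintype.ofFinite G
  have h3 := card_order_three h
  have h7 := card_order_seven h
  rw [Nat.card_eq_fintype_card, Fintype.card_subtype] at h3 h7 ⊢
  have hsum : (Finset.univ.filter (fun g : G => orderOf g = 3)).card + (Finset.univ.filter (fun g : G => orderOf g = 7)).card +
      (Finset.univ.filter (fun g : G => orderOf g ∣ 8)).card = (Finset.univ : Finset G).card := by
    rw [Finset.card_filter, Finset.card_filter, Finset.card_filter, ← Finset.sum_add_distrib, ← Finset.sum_add_distrib,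
      Finset.card_eq_sum_ones]
    apply Finset.sum_congr rfl
    intro g _
    rcases order_cases h g with hg | hg | hg
    · simp [hg]
    · simp [hg]
    · have h5 : orderOf g ≠ 3 := by
        intro h6
        rw [h6] at hg
        omega
      have h6 : orderOf g ≠ 7 := by
        intro h6
        rw [h6] at hg
        omega
      simp [h5, h6, hg]
  rw [Finset.card_univ, ← Nat.card_eq_fintype_card, h] at hsum
  omega

/-- A `2`-element lies in a Sylow `2`-subgroup. -/
theorem exists_sylow_of_dvd {g : G} (hg : orderOf g ∣ 8) : ∃ Q : Sylow 2 G, g ∈ (Q : Subgroup G) := by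
  have h1 : IsPGroup 2 (Subgroup.zpowers g) := by
    rw [IsPGroup.iff_card, Nat.card_zpowers]
    obtain ⟨k, -, hk⟩ := (Nat.dvd_prime_pow Nat.prime_two).mp (show orderOf g ∣ 2 ^ 3 from hg)
    exact ⟨k, hk⟩
  obtain ⟨Q, hQ⟩ := h1.exists_le_sylow
  exact ⟨Q, hQ (Subgroup.mem_zpowers g)⟩

theorem card_sylow_two_of (h : Nat.card G = 168) (Q : Sylow 2 G) : Nat.card (Q : Subgroup G) = 8 := by
  obtain ⟨h1, -, -, -⟩ := sylow_data (p := 2) 3 21 (by rw [h]; norm_num) (by norm_num) Q
  rw [h1]
  norm_num

theorem order_dvd_of_mem (h : Nat.card G = 168) (Q : Sylow 2 G) {x : G} (hx : x ∈ (Q : Subgroup G)) : orderOf x ∣ 8 := by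
  have := Subgroup.orderOf_dvd_natCard (Q : Subgroup G) hx
  rwa [card_sylow_two_of h Q] at this

theorem syl2 (h : Nat.card G = 168) (T : Sylow 2 G) :
    Nat.card (Sylow 2 G) = 21 ∧ Nat.card (Subgroup.normalizer ((T : Subgroup G) : Set G)) = 8 ∧
      Subgroup.normalizer ((T : Subgroup G) : Set G) = T := by
  classical
  obtain ⟨h1, h2, h3, h4⟩ := sylow_data (p := 2) 3 21 (by rw [h]; norm_num) (by norm_num) T
  have hidx : 7 ≤ Nat.card (Sylow 2 G) := by
    have hne := sylow_card_ne_one T (by rw [h1]; norm_num) (by rw [h1, h]; norm_num)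
    have h5 := index_ge_seven h (Subgroup.normalizer ((T : Subgroup G) : Set G)) (by
      intro htop
      apply hne
      rw [htop, Subgroup.card_top] at h4
      have h6 : Nat.card G * Nat.card (Sylow 2 G) = Nat.card G * 1 := by rw [h4, mul_one]
      exact Nat.eq_of_mul_eq_mul_left Nat.card_pos h6)
    have h6 := Subgroup.card_mul_index (Subgroup.normalizer ((T : Subgroup G) : Set G))
    rw [← h4] at h6
    have h7 := Nat.eq_of_mul_eq_mul_left Nat.card_pos h6
    omega
  have hcand : Nat.card (Sylow 2 G) ∈ (Nat.divisors 21).filter (fun d => d % 2 = 1 ∧ 7 ≤ d) :=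
    mem_cands _ _ _ _ h2 (by norm_num) h3 hidx
  rw [show (Nat.divisors 21).filter (fun d => d % 2 = 1 ∧ 7 ≤ d) = {7, 21} by decide +kernel,
    Finset.mem_insert, Finset.mem_singleton] at hcand
  have hc : Nat.card (Sylow 2 G) = 21 := by
    rcases hcand with hc | hc
    · exfalso
      -- too few 2-elements
      haveI := Fintype.ofFinite (Sylow 2 G)
      have h5 := card_two_elements h
      let F : (Σ Q : Sylow 2 G, {y : (Q : Subgroup G) // y ≠ 1}) → {g : {g : G // orderOf g ∣ 8} // g ≠ ⟨1, by simp⟩} :=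
        fun a => ⟨⟨a.2.1.1, order_dvd_of_mem h a.1 a.2.1.2⟩, by
          intro h0
          apply a.2.2
          apply Subtype.ext
          exact congrArg (fun s : {g : G // orderOf g ∣ 8} => (s : G)) h0⟩
      have hF : Function.Surjective F := by
        rintro ⟨⟨g, hg⟩, hg1⟩
        obtain ⟨Q, hQ⟩ := exists_sylow_of_dvd hg
        refine ⟨⟨Q, ⟨⟨g, hQ⟩, ?_⟩⟩, rfl⟩
        intro h0
        apply hg1
        apply Subtype.ext
        exact congrArg (fun s : (Q : Subgroup G) => (s : G)) h0
      have h6 := Nat.card_le_card_of_surjective F hF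
      have h7 := card_subtype_ne_add_one (⟨1, by simp⟩ : {g : G // orderOf g ∣ 8})
      rw [h5] at h7
      rw [Nat.card_sigma] at h6
      have h8 : ∀ Q : Sylow 2 G, Nat.card {y : (Q : Subgroup G) // y ≠ 1} = 7 := fun Q =>
        card_nonid _ 8 (card_sylow_two_of h Q)
      simp only [h8] at h6
      rw [Finset.sum_const, Finset.card_univ, ← Nat.card_eq_fintype_card, hc] at h6
      simp only [smul_eq_mul] at h6
      omega
    · exact hc
  rw [hc, h] at h4
  have hN : Nat.card (Subgroup.normalizer ((T : Subgroup G) : Set G)) = 8 := by omega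
  refine ⟨hc, hN, ?_⟩
  refine (Subgroup.eq_of_le_of_card_ge Subgroup.le_normalizer ?_).symm
  rw [hN, h1]
  norm_num

end Main

end Cfsg.Agent.Lib.H1L168
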