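import Cfsg.Agent.Lib.H1L168
import Cfsg.Agent.Lib.FGSBasic

/-!
# Simple group of order 168: Sylow `2`-subgroups and conjugacy classes
-/

set_option autoImplicit false
set_option linter.unusedVariables false
set_option linter.unusedSectionVars false
set_option linter.style.longLine false

namespace Cfsg.Agent.Lib.H1L168

open Cfsg.Agent.Lib.H1Small

section Dih

variable {X : Type*} [Group X] [Finite X]

/-- A nonabelian group of order `8` with a noncentral involution is dihedral. -/
theorem dihedral_of_order_eight (hX : Nat.card X = 8) {u w : X} (hu : orderOf u = 2) (hw : w * u ≠ u * w) :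
    Nonempty (X ≃* DihedralGroup 4) := by
  classical
  have hu2 : u * u = 1 := by
    rw [← pow_two, ← hu]
    exact pow_orderOf_eq_one u
  have hui : u⁻¹ = u := inv_eq_of_mul_eq_one_left hu2
  have hu1 : u ≠ 1 := by
    rintro rfl
    rw [orderOf_one] at hu
    omega
  -- an involution `v` not commuting with `u`
  obtain ⟨v, hv2, hv1, huv⟩ : ∃ v : X, v * v = 1 ∧ v ≠ 1 ∧ v * u ≠ u * v := by
    have hw8 : orderOf w ∣ 8 := by
      rw [← hX]
      exact orderOf_dvd_natCard w
    have hw1 : w ≠ 1 := by
      rintro rfl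
      simp at hw
    have hcases : orderOf w = 2 ∨ orderOf w = 4 ∨ orderOf w = 8 := by
      obtain ⟨k, hk, hk'⟩ := (Nat.dvd_prime_pow Nat.prime_two).mp (show orderOf w ∣ 2 ^ 3 from hw8)
      interval_cases k
      · exact absurd (orderOf_eq_one_iff.mp (by simpa using hk')) hw1
      · left
        simpa using hk'
      · right; left
        simpa using hk'
      · right; right
        simpa using hk'
    rcases hcases with h2 | h4 | h8
    · refine ⟨w, ?_, hw1, hw⟩
      rw [← pow_two, ← h2]
      exact pow_orderOf_eq_one w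
    · -- `w` has order 4: `u` inverts `w`
      have hz : Nat.card (Subgroup.zpowers w) = 4 := by rw [Nat.card_zpowers, h4]
      have hidx : (Subgroup.zpowers w).index = 2 := by
        have := Subgroup.card_mul_index (Subgroup.zpowers w)
        rw [hz, hX] at this
        omega
      have hnorm : (Subgroup.zpowers w).Normal := Subgroup.normal_of_index_eq_two hidx
      have h1 : u * w * u⁻¹ ∈ Subgroup.zpowers w := hnorm.conj_mem w (Subgroup.mem_zpowers w) u
      have hfin : IsOfFinOrder w := orderOf_pos_iff.mp (by omega)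
      obtain ⟨k, hk⟩ := (hfin.mem_powers_iff_mem_zpowers).mpr h1
      have hk' : w ^ k = u * w * u⁻¹ := hk
      have hw4 : w ^ 4 = 1 := by
        rw [← h4]
        exact pow_orderOf_eq_one w
      have hord : orderOf (u * w * u⁻¹) = 4 := by
        have h71 := MulEquiv.orderOf_eq (MulAut.conj u) w
        rw [MulAut.conj_apply, h4] at h71
        exact h71
      have hk4 : w ^ (k % 4) = u * w * u⁻¹ := by
        rw [← hk', ← h4]
        exact pow_mod_orderOf w k
      have hmod : k % 4 < 4 := Nat.mod_lt _ (by norm_num)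
      have hinv : u * w * u⁻¹ = w⁻¹ := by
        generalize k % 4 = j at hk4 hmod
        interval_cases j
        · rw [pow_zero] at hk4
          rw [← hk4, orderOf_one] at hord
          omega
        · exfalso
          apply hw
          rw [pow_one] at hk4
          calc w * u = (u * w * u⁻¹) * u := by rw [← hk4]
            _ = u * w := by group
        · exfalso
          have h5 : (u * w * u⁻¹) ^ 2 = 1 := by
            rw [← hk4, ← pow_mul]
            exact hw4
          have h6 := orderOf_dvd_of_pow_eq_one h5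
          rw [hord] at h6
          omega
        · rw [← hk4]
          rw [eq_inv_iff_mul_eq_one, ← pow_succ]
          exact hw4
      refine ⟨w * u, ?_, ?_, ?_⟩
      · have h5 : w * u * (w * u) = w * (u * w * u⁻¹) := by
          rw [hui]
          group
        rw [h5, hinv]
        group
      · intro h5
        apply hw
        have h6 : w = u⁻¹ := eq_inv_of_mul_eq_one_left h5
        rw [h6, hui]
      · have h5 : w * u * u = w := by rw [mul_assoc, hu2, mul_one]
        have h6 : u * (w * u) = w⁻¹ := by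
          rw [← hinv, hui]
          group
        rw [h5, h6]
        intro h7
        have h8 : w ^ 2 = 1 := by
          rw [pow_two]
          nth_rewrite 1 [h7]
          group
        have h9 := orderOf_dvd_of_pow_eq_one h8
        rw [h4] at h9
        omega
    · exfalso
      have hcyc : IsCyclic X := isCyclic_of_orderOf_eq_card w (by rw [h8, hX])
      exact hw (hcyc.commutative.is_comm.comm w u)
  have huv' : u ≠ v := by
    rintro rfl
    exact huv rfl
  have hgen : Subgroup.closure ({u, v} : Set X) = ⊤ := by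
    set A := Subgroup.closure ({u, v} : Set X) with hA
    have huA : u ∈ A := Subgroup.subset_closure (by simp)
    have hvA : v ∈ A := Subgroup.subset_closure (by simp)
    have hcard : Nat.card A ∣ 8 := by
      rw [← hX]
      exact Subgroup.card_subgroup_dvd_card A
    obtain ⟨k, hk, hk'⟩ := (Nat.dvd_prime_pow Nat.prime_two).mp (show Nat.card A ∣ 2 ^ 3 from hcard)
    have hk3 : k = 3 := by
      by_contra hne
      have hk2 : k ≤ 2 := by omega
      have hcomm : v * u = u * v := by
        interval_cases k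
        · have h1 : Nat.card A = 1 := by simpa using hk'
          have h2 : (⟨u, huA⟩ : A) = ⟨v, hvA⟩ := by
            haveI := (Nat.card_eq_one_iff_unique.mp h1).1
            exact Subsingleton.elim _ _
          have h3 : u = v := congrArg Subtype.val h2
          exact absurd h3 huv'
        · haveI : IsCyclic A := isCyclic_of_prime_card (p := 2) (by simpa using hk')
          have := (IsCyclic.commutative (α := A)).is_comm.comm (⟨v, hvA⟩ : A) ⟨u, huA⟩
          exact congrArg Subtype.val this
        · exact comm_of_card_eq_sq (p := 2) A hk' hvA huA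
      exact huv hcomm
    subst hk3
    apply Subgroup.eq_top_of_card_eq
    rw [hk', hX]
    norm_num
  obtain ⟨e⟩ := Cfsg.Agent.Lib.LeadDihedral.dihedral_of_two_involutions hu2 hv2 hu1 hv1 huv' hgen
  have hc := Nat.card_congr e.toEquiv
  rw [DihedralGroup.nat_card, hX] at hc
  have h4 : orderOf (u * v) = 4 := by omega
  rw [h4] at e
  exact ⟨e.symm⟩

end Dih

section Main2

variable {G : Type*} [Group G] [Finite G] [IsSimpleGroup G]

/-- An element commuting with an element of order `3` has order dividing `3`. -/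
theorem dvd_three_of_comm (h : Nat.card G = 168) {y w : G} (hy : orderOf y = 3) (hc : w * y = y * w) : orderOf w ∣ 3 := by
  obtain ⟨P, hP⟩ := (isPGroup_zpowers_of_orderOf hy).exists_le_sylow
  have hyP : y ∈ (P : Subgroup G) := hP (Subgroup.mem_zpowers y)
  have hy1 : y ≠ 1 := by
    rintro rfl
    rw [orderOf_one] at hy
    omega
  obtain ⟨h1, -, -, hC⟩ := syl3 h P
  have hz := zpowers_eq_of_mem_prime_card (P : Subgroup G) h1 hyP hy1
  have hw : w ∈ (P : Subgroup G) := by
    apply hC
    rw [Subgroup.mem_centralizer_iff]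
    intro u hu
    have hu' : u ∈ Subgroup.zpowers y := by
      rw [hz]
      exact hu
    obtain ⟨k, rfl⟩ := Subgroup.mem_zpowers_iff.mp hu'
    have h2 : Commute y w := Commute.symm hc
    exact (h2.zpow_left k).eq
  have := Subgroup.orderOf_dvd_natCard (P : Subgroup G) hw
  rwa [h1] at this

theorem dvd_seven_of_comm (h : Nat.card G = 168) {y w : G} (hy : orderOf y = 7) (hc : w * y = y * w) : orderOf w ∣ 7 := by
  obtain ⟨P, hP⟩ := (isPGroup_zpowers_of_orderOf hy).exists_le_sylow
  have hyP : y ∈ (P : Subgroup G) := hP (Subgroup.mem_zpowers y)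
  have hy1 : y ≠ 1 := by
    rintro rfl
    rw [orderOf_one] at hy
    omega
  obtain ⟨h1, -, -, hC⟩ := syl7 h P
  have hz := zpowers_eq_of_mem_prime_card (P : Subgroup G) h1 hyP hy1
  have hw : w ∈ (P : Subgroup G) := by
    apply hC
    rw [Subgroup.mem_centralizer_iff]
    intro u hu
    have hu' : u ∈ Subgroup.zpowers y := by
      rw [hz]
      exact hu
    obtain ⟨k, rfl⟩ := Subgroup.mem_zpowers_iff.mp hu'
    have h2 : Commute y w := Commute.symm hc
    exact (h2.zpow_left k).eq
  have := Subgroup.orderOf_dvd_natCard (P : Subgroup G) hw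
  rwa [h1] at this

/-- The centralizer of a nontrivial `2`-element is a `2`-group. -/
theorem card_centralizer_dvd (h : Nat.card G = 168) {w : G} (hw1 : w ≠ 1) (hw : orderOf w ∣ 8) :
    Nat.card (Subgroup.centralizer ({w} : Set G)) ∣ 8 := by
  set C := Subgroup.centralizer ({w} : Set G) with hC
  have hmem : ∀ y ∈ C, y * w = w * y := by
    intro y hy
    exact ((Subgroup.mem_centralizer_iff.mp hy) w rfl).symm
  have h1 : Nat.card C ∣ 168 := by
    rw [← h]
    exact Subgroup.card_subgroup_dvd_card C
  have hord1 : orderOf w ≠ 1 := fun h0 => hw1 (orderOf_eq_one_iff.mp h0)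
  have h3 : ¬ 3 ∣ Nat.card C := by
    intro h3
    obtain ⟨y, hy⟩ := exists_prime_orderOf_dvd_card' (G := C) 3 h3
    have hy' : orderOf (y : G) = 3 := (Subgroup.orderOf_coe y).trans hy
    have h4 := dvd_three_of_comm h hy' (hmem y y.2).symm
    exact hord1 (Nat.Coprime.eq_one_of_dvd (Nat.Coprime.coprime_dvd_left hw (by norm_num : Nat.Coprime 8 3)) h4)
  have h7 : ¬ 7 ∣ Nat.card C := by
    intro h3
    obtain ⟨y, hy⟩ := exists_prime_orderOf_dvd_card' (G := C) 7 h3
    have hy' : orderOf (y : G) = 7 := (Subgroup.orderOf_coe y).trans hy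
    have h4 := dvd_seven_of_comm h hy' (hmem y y.2).symm
    exact hord1 (Nat.Coprime.eq_one_of_dvd (Nat.Coprime.coprime_dvd_left hw (by norm_num : Nat.Coprime 8 7)) h4)
  have h2 : (168 : ℕ) = 8 * 21 := by norm_num
  rw [h2] at h1
  have h4 : Nat.Coprime (Nat.card C) 21 := by
    have h5 : (21 : ℕ) = 3 * 7 := by norm_num
    rw [h5]
    exact Nat.Coprime.mul_right ((Nat.Prime.coprime_iff_not_dvd (by norm_num)).mpr h3).symm
      ((Nat.Prime.coprime_iff_not_dvd (by norm_num)).mpr h7).symm
  exact h4.dvd_of_dvd_mul_right h1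

theorem centralizer_eq_of_central (h : Nat.card G = 168) (T : Sylow 2 G) {z : G} (hzT : z ∈ (T : Subgroup G))
    (hz1 : z ≠ 1) (hzc : ∀ t ∈ (T : Subgroup G), t * z = z * t) :
    Subgroup.centralizer ({z} : Set G) = T := by
  have h1 : (T : Subgroup G) ≤ Subgroup.centralizer ({z} : Set G) := by
    intro t ht
    rw [Subgroup.mem_centralizer_iff]
    intro y hy
    rw [Set.mem_singleton_iff.mp hy]
    exact (hzc t ht).symm
  have h2 := card_centralizer_dvd h hz1 (order_dvd_of_mem h T hzT)
  refine (Subgroup.eq_of_le_of_card_ge h1 ?_).symm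
  rw [card_sylow_two_of h T]
  exact Nat.le_of_dvd (by norm_num) h2

theorem T_noncomm (h : Nat.card G = 168) (T : Sylow 2 G) :
    ¬ ∀ a ∈ (T : Subgroup G), ∀ b ∈ (T : Subgroup G), a * b = b * a := by
  intro hab
  have h1 := not_normalizer_le_centralizer T (by rw [card_sylow_two_of h T]; norm_num)
    (by rw [card_sylow_two_of h T, h]; norm_num)
  apply h1
  rw [(syl2 h T).2.2]
  intro a ha
  rw [Subgroup.mem_centralizer_iff]
  intro b hb
  exact hab b hb a ha

theorem exists_central_involution (h : Nat.card G = 168) (T : Sylow 2 G) :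
    ∃ z ∈ (T : Subgroup G), orderOf z = 2 ∧ ∀ t ∈ (T : Subgroup G), t * z = z * t := by
  haveI : Nontrivial (T : Subgroup G) := Finite.one_lt_card_iff_nontrivial.mp (by rw [card_sylow_two_of h T]; norm_num)
  have hcen : Nontrivial (Subgroup.center (T : Subgroup G)) := T.isPGroup'.center_nontrivial
  obtain ⟨⟨w, hw⟩, hw1⟩ := exists_ne (1 : Subgroup.center (T : Subgroup G))
  have hw1' : (w : G) ≠ 1 := by
    intro h0
    apply hw1
    apply Subtype.ext
    exact Subtype.ext h0
  have hd := order_dvd_of_mem h T w.2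
  have h2 : 2 ∣ orderOf (w : G) := by
    obtain ⟨k, -, hk⟩ := (Nat.dvd_prime_pow Nat.prime_two).mp (show orderOf (w : G) ∣ 2 ^ 3 from hd)
    rw [hk]
    have hk0 : k ≠ 0 := by
      rintro rfl
      exact hw1' (orderOf_eq_one_iff.mp (by simpa using hk))
    exact dvd_pow_self 2 hk0
  have hord := orderOf_pow_orderOf_div (orderOf_pos (w : G)).ne' h2
  refine ⟨(w : G) ^ (orderOf (w : G) / 2), pow_mem w.2 _, hord, ?_⟩
  intro t ht
  have hcomm : (t : G) * w = w * t := by
    have := (Subgroup.mem_center_iff.mp hw) ⟨t, ht⟩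
    exact congrArg Subtype.val this
  have h3 : Commute t (w : G) := hcomm
  exact (h3.pow_right _).eq

/-- Conjugates of central involutions. -/
theorem conj_mem_smul (T : Sylow 2 G) (g z : G) (hz : z ∈ (T : Subgroup G)) :
    g * z * g⁻¹ ∈ ((g • T : Sylow 2 G) : Subgroup G) := by
  rw [mem_smul_sylow]
  simpa [mul_assoc] using hz

theorem orderOf_conj' (g z : G) : orderOf (g * z * g⁻¹) = orderOf z := by
  have h71 := MulEquiv.orderOf_eq (MulAut.conj g) z
  rwa [MulAut.conj_apply] at h71

/-- A Sylow `2`-subgroup has more than one involution. -/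
theorem exists_second_involution (h : Nat.card G = 168) (T : Sylow 2 G) {z : G} (hzT : z ∈ (T : Subgroup G))
    (hz : orderOf z = 2) : ∃ u ∈ (T : Subgroup G), orderOf u = 2 ∧ u ≠ z := by
  classical
  by_contra hcon
  push Not at hcon
  -- unique involutions in all Sylow subgroups
  have hz1 : z ≠ 1 := by
    rintro rfl
    rw [orderOf_one] at hz
    omega
  have huniq : ∀ Q : Sylow 2 G, ∃ zQ ∈ (Q : Subgroup G), zQ ≠ 1 ∧ (∀ x ∈ (Q : Subgroup G), orderOf x = 2 → x = zQ) ∧
      Subgroup.centralizer ({zQ} : Set G) = Q := by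
    intro Q
    obtain ⟨g, rfl⟩ := MulAction.exists_smul_eq G T Q
    have hz' := conj_mem_smul T g z hzT
    have hu : ∀ x ∈ ((g • T : Sylow 2 G) : Subgroup G), orderOf x = 2 → x = g * z * g⁻¹ := by
      intro x hx hxo
      rw [mem_smul_sylow] at hx
      have h1 := hcon _ hx (by
        have := orderOf_conj' g⁻¹ x
        rw [inv_inv] at this
        rw [this, hxo])
      rw [← h1]
      group
    have hzo : orderOf (g * z * g⁻¹) = 2 := by rw [orderOf_conj', hz]
    have hzne : g * z * g⁻¹ ≠ 1 := by
      intro h0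
      rw [h0, orderOf_one] at hzo
      omega
    refine ⟨_, hz', hzne, hu, ?_⟩
    apply centralizer_eq_of_central h _ hz' hzne
    intro t ht
    have h2 := hu (t * (g * z * g⁻¹) * t⁻¹) (by
      exact Subgroup.mul_mem _ (Subgroup.mul_mem _ ht hz') (Subgroup.inv_mem _ ht)) (by rw [orderOf_conj', hzo])
    calc t * (g * z * g⁻¹) = (t * (g * z * g⁻¹) * t⁻¹) * t := by group
      _ = g * z * g⁻¹ * t := by rw [h2]
  -- each nontrivial 2-element lies in a unique Sylow subgroup
  have hch : ∀ x : {g : {g : G // orderOf g ∣ 8} // g ≠ ⟨1, by simp⟩}, ∃ Q : Sylow 2 G, (x.1.1 : G) ∈ (Q : Subgroup G) :=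
    fun x => exists_sylow_of_dvd x.1.2
  choose f hf using hch
  have hne1 : ∀ x : {g : {g : G // orderOf g ∣ 8} // g ≠ ⟨1, by simp⟩}, (x.1.1 : G) ≠ 1 := by
    intro x h0
    exact x.2 (Subtype.ext h0)
  have hun : ∀ (x : {g : {g : G // orderOf g ∣ 8} // g ≠ ⟨1, by simp⟩}) (Q : Sylow 2 G), (x.1.1 : G) ∈ (Q : Subgroup G) → f x = Q := by
    intro x Q hxQ
    have h2 : 2 ∣ orderOf (x.1.1 : G) := by
      obtain ⟨k, -, hk⟩ := (Nat.dvd_prime_pow Nat.prime_two).mp (show orderOf (x.1.1 : G) ∣ 2 ^ 3 from x.1.2)
      rw [hk]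
      have hk0 : k ≠ 0 := by
        rintro rfl
        exact hne1 x (orderOf_eq_one_iff.mp (by simpa using hk))
      exact dvd_pow_self 2 hk0
    have hord := orderOf_pow_orderOf_div (orderOf_pos (x.1.1 : G)).ne' h2
    set y := (x.1.1 : G) ^ (orderOf (x.1.1 : G) / 2)
    obtain ⟨z1, -, -, hu1, hc1⟩ := huniq (f x)
    obtain ⟨z2, -, -, hu2, hc2⟩ := huniq Q
    have e1 := hu1 y (pow_mem (hf x) _) hord
    have e2 := hu2 y (pow_mem hxQ _) hord
    apply Sylow.ext
    rw [← hc1, ← hc2, ← e1, ← e2]
  have hcard := card_eq_of_fibers f 7 (by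
    intro Q
    have h1 := card_nonid (Q : Subgroup G) 8 (card_sylow_two_of h Q)
    rw [show (8 : ℕ) - 1 = 7 by norm_num] at h1
    rw [← h1]
    apply Nat.card_congr
    refine
      { toFun := fun x => ⟨⟨x.1.1.1, by
          have h0 := hf x.1
          rwa [x.2] at h0⟩, fun h0 => hne1 x.1 (congrArg (fun s : (Q : Subgroup G) => (s : G)) h0)⟩
        invFun := fun y => ⟨⟨⟨y.1.1, order_dvd_of_mem h Q y.1.2⟩, ?_⟩, ?_⟩
        left_inv := ?_
        right_inv := ?_ }
    · intro h0
      apply y.2
      apply Subtype.ext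
      exact congrArg (fun s : {g : G // orderOf g ∣ 8} => (s : G)) h0
    · apply hun
      exact y.1.2
    · intro x
      rfl
    · intro y
      rfl)
  have h7 := card_subtype_ne_add_one (⟨1, by simp⟩ : {g : G // orderOf g ∣ 8})
  rw [card_two_elements h] at h7
  rw [(syl2 h T).1] at hcard
  omega

/-- Sylow `2`-subgroups are dihedral. -/
theorem sylow_two_dihedral (h : Nat.card G = 168) (T : Sylow 2 G) : Nonempty ((T : Subgroup G) ≃* DihedralGroup 4) := by
  classical
  obtain ⟨z, hzT, hz, hzc⟩ := exists_central_involution h T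
  obtain ⟨u, huT, hu, huz⟩ := exists_second_involution h T hzT hz
  have hzcard := card_sylow_two_of h T
  -- `u` is not central
  have hnc : ∃ w : (T : Subgroup G), w * (⟨u, huT⟩ : (T : Subgroup G)) ≠ (⟨u, huT⟩ : (T : Subgroup G)) * w := by
    by_contra hcon
    push Not at hcon
    apply T_noncomm h T
    -- the center has index at most 2
    set X := (T : Subgroup G) with hX
    let A := Subgroup.center X
    let z' : X := ⟨z, hzT⟩
    let u' : X := ⟨u, huT⟩
    have hzA : z' ∈ A := by
      rw [Subgroup.mem_center_iff]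
      intro t
      exact Subtype.ext (hzc t t.2)
    have huA : u' ∈ A := by
      rw [Subgroup.mem_center_iff]
      intro t
      exact hcon t
    have hcA : Nat.card A ∣ 8 := by
      rw [← hzcard]
      exact Subgroup.card_subgroup_dvd_card A
    have h3 : 3 ≤ Nat.card A := by
      have hz1 : (⟨z', hzA⟩ : A) ≠ 1 := by
        intro h0
        have h1 : z = 1 := congrArg (fun s : A => ((s : X) : G)) h0
        rw [h1, orderOf_one] at hz
        omega
      have hu1 : (⟨u', huA⟩ : A) ≠ 1 := by
        intro h0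
        have h1 : u = 1 := congrArg (fun s : A => ((s : X) : G)) h0
        rw [h1, orderOf_one] at hu
        omega
      have hne : (⟨u', huA⟩ : A) ≠ ⟨z', hzA⟩ := by
        intro h0
        exact huz (congrArg (fun s : A => ((s : X) : G)) h0)
      classical
      haveI := Fintype.ofFinite A
      rw [Nat.card_eq_fintype_card]
      have : ({1, ⟨z', hzA⟩, ⟨u', huA⟩} : Finset A).card = 3 := by
        rw [Finset.card_insert_of_notMem (by simp [hz1.symm, hu1.symm]), Finset.card_pair hne.symm]
      rw [← this]
      exact Finset.card_le_univ _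
    have hidx : A.index = 1 ∨ A.index = 2 := by
      have h4 := Subgroup.card_mul_index A
      rw [hzcard] at h4
      have h5 : Nat.card A ≤ 8 := Nat.le_of_dvd (by norm_num) hcA
      have : A.index ≠ 0 := by
        intro h0
        rw [h0] at h4
        omega
      interval_cases hh : Nat.card A <;> omega
    have hcyc : IsCyclic (X ⧸ A) := by
      rcases hidx with hi | hi
      · have : Nat.card (X ⧸ A) = 1 := hi
        haveI := (Nat.card_eq_one_iff_unique.mp this).1
        infer_instance
      · have : Nat.card (X ⧸ A) = 2 := hi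
        exact isCyclic_of_prime_card this
    have hcomm := commutative_of_cyclic_center_quotient (QuotientGroup.mk' A) (by
      rw [QuotientGroup.ker_mk'])
    intro a ha b hb
    exact congrArg Subtype.val (hcomm ⟨a, ha⟩ ⟨b, hb⟩)
  obtain ⟨w, hw⟩ := hnc
  exact dihedral_of_order_eight hzcard (u := ⟨u, huT⟩) ((Subgroup.orderOf_coe (⟨u, huT⟩ : (T : Subgroup G))).symm.trans hu) hw

/-! Facts transported from the dihedral group. -/

theorem dih_pow4 : ∀ y : DihedralGroup 4, y ^ 4 = 1 := by decide

theorem dih_central_sq : ∀ y : DihedralGroup 4, (∀ t : DihedralGroup 4, t * y = y * t) → y ^ 2 = 1 := by decide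

theorem dih_central_unique : ∀ a b : DihedralGroup 4, a ≠ 1 → b ≠ 1 → (∀ t : DihedralGroup 4, t * a = a * t) →
    (∀ t : DihedralGroup 4, t * b = b * t) → a = b := by decide +kernel

theorem sylow_pow4 (h : Nat.card G = 168) (Q : Sylow 2 G) {x : G} (hx : x ∈ (Q : Subgroup G)) : x ^ 4 = 1 := by
  obtain ⟨e⟩ := sylow_two_dihedral h Q
  have h1 : e (⟨x, hx⟩ ^ 4) = 1 := by
    rw [map_pow, dih_pow4]
  have h2 : (⟨x, hx⟩ : (Q : Subgroup G)) ^ 4 = 1 := by
    apply e.injective
    rw [h1, map_one]
  exact congrArg (fun s : (Q : Subgroup G) => (s : G)) h2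

theorem sylow_central_sq (h : Nat.card G = 168) (Q : Sylow 2 G) {x : G} (hx : x ∈ (Q : Subgroup G))
    (hc : ∀ t ∈ (Q : Subgroup G), t * x = x * t) : x ^ 2 = 1 := by
  obtain ⟨e⟩ := sylow_two_dihedral h Q
  have h1 : e (⟨x, hx⟩ ^ 2) = 1 := by
    rw [map_pow]
    apply dih_central_sq
    intro t
    obtain ⟨t', rfl⟩ := e.surjective t
    rw [← map_mul, ← map_mul]
    congr 1
    exact Subtype.ext (hc t' t'.2)
  have h2 : (⟨x, hx⟩ : (Q : Subgroup G)) ^ 2 = 1 := by
    apply e.injective
    rw [h1, map_one]
  exact congrArg (fun s : (Q : Subgroup G) => (s : G)) h2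

theorem sylow_central_unique (h : Nat.card G = 168) (Q : Sylow 2 G) {x y : G} (hx : x ∈ (Q : Subgroup G))
    (hy : y ∈ (Q : Subgroup G)) (hx1 : x ≠ 1) (hy1 : y ≠ 1)
    (hcx : ∀ t ∈ (Q : Subgroup G), t * x = x * t) (hcy : ∀ t ∈ (Q : Subgroup G), t * y = y * t) : x = y := by
  obtain ⟨e⟩ := sylow_two_dihedral h Q
  have hc : ∀ {x : G} (hx : x ∈ (Q : Subgroup G)), (∀ t ∈ (Q : Subgroup G), t * x = x * t) →
      ∀ t : DihedralGroup 4, t * e ⟨x, hx⟩ = e ⟨x, hx⟩ * t := by
    intro x hx hcx t
    obtain ⟨t', rfl⟩ := e.surjective t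
    rw [← map_mul, ← map_mul]
    congr 1
    exact Subtype.ext (hcx t' t'.2)
  have hne : ∀ {x : G} (hx : x ∈ (Q : Subgroup G)), x ≠ 1 → e ⟨x, hx⟩ ≠ 1 := by
    intro x hx hx1 h0
    apply hx1
    have h2 : (⟨x, hx⟩ : (Q : Subgroup G)) = 1 := by
      apply e.injective
      rw [h0, map_one]
    exact congrArg (fun s : (Q : Subgroup G) => (s : G)) h2
  have h3 := dih_central_unique _ _ (hne hx hx1) (hne hy hy1) (hc hx hcx) (hc hy hcy)
  have h4 := e.injective h3
  exact congrArg (fun s : (Q : Subgroup G) => (s : G)) h4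

theorem sylow_exists_order_four (h : Nat.card G = 168) (Q : Sylow 2 G) : ∃ x ∈ (Q : Subgroup G), orderOf x = 4 := by
  obtain ⟨e⟩ := sylow_two_dihedral h Q
  refine ⟨(e.symm (DihedralGroup.r 1) : (Q : Subgroup G)), Subtype.coe_prop _, ?_⟩
  rw [Subgroup.orderOf_coe, MulEquiv.orderOf_eq]
  exact DihedralGroup.orderOf_r_one

/-- Class sizes. -/
theorem class_size (h : Nat.card G = 168) (x : G) :
    Nat.card {y : G // IsConj x y} * Nat.card (Subgroup.centralizer ({x} : Set G)) = 168 := by
  rw [Cfsg.Agent.Lib.FGSBasic.card_conj_eq_index, mul_comm, Subgroup.card_mul_index, h]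

theorem class_eq_of_conj {x y : G} (hxy : IsConj x y) :
    Nat.card {g : G // IsConj x g} = Nat.card {g : G // IsConj y g} := by
  apply Nat.card_congr
  exact Equiv.subtypeEquivRight (fun g => ⟨fun h => hxy.symm.trans h, fun h => hxy.trans h⟩)

theorem card_centralizer_eq_of_conj (h : Nat.card G = 168) {x y : G} (hxy : IsConj x y) :
    Nat.card (Subgroup.centralizer ({x} : Set G)) = Nat.card (Subgroup.centralizer ({y} : Set G)) := by
  have h1 := class_size h x
  have h2 := class_size h y
  rw [class_eq_of_conj hxy] at h1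
  have hpos : 0 < Nat.card {g : G // IsConj y g} := by
    rw [Nat.card_pos_iff]
    exact ⟨⟨⟨y, IsConj.refl y⟩⟩, inferInstance⟩
  exact Nat.eq_of_mul_eq_mul_left hpos (h1.trans h2.symm)

/-- Involutions with centralizer of order 8 are conjugate to a central involution. -/
theorem conj_of_card_centralizer (h : Nat.card G = 168) {u : G} (hu : orderOf u = 2)
    (hc : Nat.card (Subgroup.centralizer ({u} : Set G)) = 8) (T : Sylow 2 G) {z : G} (hzT : z ∈ (T : Subgroup G))
    (hz : orderOf z = 2) (hzc : ∀ t ∈ (T : Subgroup G), t * z = z * t) : IsConj z u := by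
  have hp : IsPGroup 2 (Subgroup.centralizer ({u} : Set G)) := by
    rw [IsPGroup.iff_card, hc]
    exact ⟨3, by norm_num⟩
  obtain ⟨Q, hQ⟩ := hp.exists_le_sylow
  have hQe : Subgroup.centralizer ({u} : Set G) = Q :=
    Subgroup.eq_of_le_of_card_ge hQ (by rw [hc, card_sylow_two_of h Q])
  have huC : u ∈ Subgroup.centralizer ({u} : Set G) := by
    rw [Subgroup.mem_centralizer_iff]
    intro y hy
    rw [Set.mem_singleton_iff.mp hy]
  obtain ⟨g, rfl⟩ := MulAction.exists_smul_eq G T Q
  have hz' := conj_mem_smul T g z hzT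
  have hz1 : g * z * g⁻¹ ≠ 1 := by
    intro h0
    have := orderOf_conj' g z
    rw [h0, orderOf_one, hz] at this
    omega
  have hu1 : u ≠ 1 := by
    rintro rfl
    rw [orderOf_one] at hu
    omega
  have hcz : ∀ t ∈ ((g • T : Sylow 2 G) : Subgroup G), t * (g * z * g⁻¹) = (g * z * g⁻¹) * t := by
    intro t ht
    rw [mem_smul_sylow] at ht
    have h1 := hzc _ ht
    calc t * (g * z * g⁻¹) = g * ((g⁻¹ * t * g) * z) * g⁻¹ := by group
      _ = g * (z * (g⁻¹ * t * g)) * g⁻¹ := by rw [h1]
      _ = (g * z * g⁻¹) * t := by group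
  have hcu : ∀ t ∈ ((g • T : Sylow 2 G) : Subgroup G), t * u = u * t := by
    intro t ht
    rw [← hQe] at ht
    exact ((Subgroup.mem_centralizer_iff.mp ht) u rfl).symm
  have heq := sylow_central_unique h (g • T) hz' (by rw [← hQe]; exact huC) hz1 hu1 hcz hcu
  rw [isConj_iff]
  exact ⟨g, heq⟩

/-- All involutions are conjugate. -/
theorem involutions_conj (h : Nat.card G = 168) (T : Sylow 2 G) {z : G} (hzT : z ∈ (T : Subgroup G))
    (hz : orderOf z = 2) (hzc : ∀ t ∈ (T : Subgroup G), t * z = z * t) {u : G} (hu : orderOf u = 2) : IsConj z u := by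
  classical
  haveI : Fintype G := Fintype.ofFinite G
  have hu1 : u ≠ 1 := by
    rintro rfl
    rw [orderOf_one] at hu
    omega
  have hz1 : z ≠ 1 := by
    rintro rfl
    rw [orderOf_one] at hz
    omega
  have hud : orderOf u ∣ 8 := by rw [hu]; norm_num
  obtain ⟨Q, hQ⟩ := exists_sylow_of_dvd hud
  obtain ⟨g, hg⟩ := MulAction.exists_smul_eq G T Q
  have hz' : g * z * g⁻¹ ∈ (Q : Subgroup G) := by
    rw [← hg]
    exact conj_mem_smul T g z hzT
  have hcz : ∀ t ∈ (Q : Subgroup G), t * (g * z * g⁻¹) = (g * z * g⁻¹) * t := by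
    intro t ht
    rw [← hg, mem_smul_sylow] at ht
    have h1 := hzc _ ht
    calc t * (g * z * g⁻¹) = g * ((g⁻¹ * t * g) * z) * g⁻¹ := by group
      _ = g * (z * (g⁻¹ * t * g)) * g⁻¹ := by rw [h1]
      _ = (g * z * g⁻¹) * t := by group
  by_cases huz : u = g * z * g⁻¹
  · rw [huz, isConj_iff]
    exact ⟨g, rfl⟩
  -- the centralizer of `u` contains `1, u, z', u z'`
  have hcd := card_centralizer_dvd h hu1 hud
  have hge : 3 ≤ Nat.card (Subgroup.centralizer ({u} : Set G)) := by
    have huC : u ∈ Subgroup.centralizer ({u} : Set G) := by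
      rw [Subgroup.mem_centralizer_iff]
      intro y hy
      rw [Set.mem_singleton_iff.mp hy]
    have hzC : g * z * g⁻¹ ∈ Subgroup.centralizer ({u} : Set G) := by
      rw [Subgroup.mem_centralizer_iff]
      intro y hy
      rw [Set.mem_singleton_iff.mp hy]
      exact hcz u hQ
    haveI := Fintype.ofFinite (Subgroup.centralizer ({u} : Set G))
    rw [Nat.card_eq_fintype_card]
    have h3 : ({1, ⟨u, huC⟩, ⟨_, hzC⟩} : Finset (Subgroup.centralizer ({u} : Set G))).card = 3 := by
      have hne1 : (1 : Subgroup.centralizer ({u} : Set G)) ≠ ⟨u, huC⟩ := by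
        intro h0
        exact hu1 (congrArg (fun s : Subgroup.centralizer ({u} : Set G) => (s : G)) h0).symm
      have hne2 : (1 : Subgroup.centralizer ({u} : Set G)) ≠ ⟨_, hzC⟩ := by
        intro h0
        have h1 := congrArg (fun s : Subgroup.centralizer ({u} : Set G) => (s : G)) h0
        have h2 := orderOf_conj' g z
        have h3 : g * z * g⁻¹ = 1 := h1.symm
        rw [h3, orderOf_one, hz] at h2
        omega
      have hne3 : (⟨u, huC⟩ : Subgroup.centralizer ({u} : Set G)) ≠ ⟨_, hzC⟩ := by
        intro h0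
        exact huz (congrArg (fun s : Subgroup.centralizer ({u} : Set G) => (s : G)) h0)
      rw [Finset.card_insert_of_notMem (by simp [hne1, hne2]), Finset.card_pair hne3]
    rw [← h3]
    exact Finset.card_le_univ _
  have hcase : Nat.card (Subgroup.centralizer ({u} : Set G)) = 4 ∨ Nat.card (Subgroup.centralizer ({u} : Set G)) = 8 := by
    have h5 : Nat.card (Subgroup.centralizer ({u} : Set G)) ≤ 8 := Nat.le_of_dvd (by norm_num) hcd
    interval_cases hh : Nat.card (Subgroup.centralizer ({u} : Set G)) <;> omega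
  rcases hcase with h4 | h8
  · -- too many involutions
    exfalso
    have hCz := centralizer_eq_of_central h T hzT hz1 hzc
    have hzcs : Nat.card (Subgroup.centralizer ({z} : Set G)) = 8 := by
      rw [hCz, card_sylow_two_of h T]
    have h21 := class_size h z
    rw [hzcs] at h21
    have h42 := class_size h u
    rw [h4] at h42
    obtain ⟨r, hrT, hr⟩ := sylow_exists_order_four h T
    have h64 := card_two_elements h
    rw [Nat.card_eq_fintype_card, Fintype.card_subtype] at h64
    have h21' : (Finset.univ.filter (fun g : G => IsConj z g)).card = 21 := by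
      rw [Nat.card_eq_fintype_card, Fintype.card_subtype] at h21
      omega
    have h42' : (Finset.univ.filter (fun g : G => IsConj u g)).card = 42 := by
      rw [Nat.card_eq_fintype_card, Fintype.card_subtype] at h42
      omega
    have hdisj : Disjoint (Finset.univ.filter (fun g : G => IsConj z g)) (Finset.univ.filter (fun g : G => IsConj u g)) := by
      rw [Finset.disjoint_filter]
      intro g _ hzg hug
      have h5 := card_centralizer_eq_of_conj h (hzg.trans hug.symm)
      omega
    have hsub : insert 1 (insert r ((Finset.univ.filter (fun g : G => IsConj z g)) ∪ (Finset.univ.filter (fun g : G => IsConj u g)))) ⊆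
        Finset.univ.filter (fun g : G => orderOf g ∣ 8) := by
      intro g hg
      simp only [Finset.mem_insert, Finset.mem_union, Finset.mem_filter, Finset.mem_univ, true_and] at hg ⊢
      rcases hg with rfl | rfl | hg | hg
      · simp
      · rw [hr]
        norm_num
      · obtain ⟨c, rfl⟩ := isConj_iff.mp hg
        rw [orderOf_conj', hz]
        norm_num
      · obtain ⟨c, rfl⟩ := isConj_iff.mp hg
        rw [orderOf_conj', hu]
        norm_num
    have hcardle := Finset.card_le_card hsub
    rw [h64, Finset.card_insert_of_notMem, Finset.card_insert_of_notMem, Finset.card_union_of_disjoint hdisj, h21', h42'] at hcardle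
    · omega
    · simp only [Finset.mem_union, Finset.mem_filter, Finset.mem_univ, true_and, not_or]
      constructor
      · intro hg
        obtain ⟨c, rfl⟩ := isConj_iff.mp hg
        rw [orderOf_conj', hz] at hr
        omega
      · intro hg
        obtain ⟨c, rfl⟩ := isConj_iff.mp hg
        rw [orderOf_conj', hu] at hr
        omega
    · simp only [Finset.mem_insert, Finset.mem_union, Finset.mem_filter, Finset.mem_univ, true_and, not_or]
      refine ⟨?_, ?_, ?_⟩
      · rintro rfl
        rw [orderOf_one] at hr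
        omega
      · intro hg
        obtain ⟨c, hc⟩ := isConj_iff.mp hg
        have h5 := orderOf_conj' c z
        rw [hc, orderOf_one, hz] at h5
        omega
      · intro hg
        obtain ⟨c, hc⟩ := isConj_iff.mp hg
        have h5 := orderOf_conj' c u
        rw [hc, orderOf_one, hu] at h5
        omega
  · exact conj_of_card_centralizer h hu h8 T hzT hz hzc

/-- The number of involutions. -/
theorem card_involutions (h : Nat.card G = 168) : Nat.card {g : G // orderOf g = 2} = 21 := by
  obtain ⟨T⟩ : Nonempty (Sylow 2 G) := inferInstance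
  obtain ⟨z, hzT, hz, hzc⟩ := exists_central_involution h T
  have hz1 : z ≠ 1 := by
    rintro rfl
    rw [orderOf_one] at hz
    omega
  have hCz := centralizer_eq_of_central h T hzT hz1 hzc
  have hzcs : Nat.card (Subgroup.centralizer ({z} : Set G)) = 8 := by
    rw [hCz, card_sylow_two_of h T]
  have h21 := class_size h z
  rw [hzcs] at h21
  have he : Nat.card {g : G // orderOf g = 2} = Nat.card {y : G // IsConj z y} := by
    apply Nat.card_congr
    refine Equiv.subtypeEquivRight (fun g => ⟨fun hg => involutions_conj h T hzT hz hzc hg, fun hg => ?_⟩)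
    obtain ⟨c, rfl⟩ := isConj_iff.mp hg
    rw [orderOf_conj', hz]
  rw [he]
  omega

theorem order_ne_eight (h : Nat.card G = 168) (g : G) : orderOf g ≠ 8 := by
  intro h8
  obtain ⟨Q, hQ⟩ := exists_sylow_of_dvd (show orderOf g ∣ 8 by rw [h8])
  have h1 := sylow_pow4 h Q hQ
  have h2 := orderOf_dvd_of_pow_eq_one h1
  rw [h8] at h2
  omega

/-- The orders of elements. -/
theorem order_all (h : Nat.card G = 168) (g : G) :
    orderOf g = 1 ∨ orderOf g = 2 ∨ orderOf g = 3 ∨ orderOf g = 4 ∨ orderOf g = 7 := by
  rcases order_cases h g with h3 | h7 | h8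
  · exact Or.inr (Or.inr (Or.inl h3))
  · exact Or.inr (Or.inr (Or.inr (Or.inr h7)))
  · obtain ⟨k, hk, hk'⟩ := (Nat.dvd_prime_pow Nat.prime_two).mp (show orderOf g ∣ 2 ^ 3 from h8)
    interval_cases k
    · left
      simpa using hk'
    · right; left
      simpa using hk'
    · right; right; right; left
      simpa using hk'
    · exact absurd (by simpa using hk') (order_ne_eight h g)

/-- The number of elements of order `4`. -/
theorem card_order_four (h : Nat.card G = 168) : Nat.card {g : G // orderOf g = 4} = 42 := by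
  classical
  haveI : Fintype G := Fintype.ofFinite G
  have h64 := card_two_elements h
  have h21 := card_involutions h
  rw [Nat.card_eq_fintype_card, Fintype.card_subtype] at h64 h21 ⊢
  have hunion : Finset.univ.filter (fun g : G => orderOf g ∣ 8) =
      insert 1 ((Finset.univ.filter (fun g : G => orderOf g = 2)) ∪ (Finset.univ.filter (fun g : G => orderOf g = 4))) := by
    ext g
    simp only [Finset.mem_filter, Finset.mem_univ, true_and, Finset.mem_insert, Finset.mem_union]
    constructor
    · intro hg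
      rcases order_all h g with h1 | h1 | h1 | h1 | h1
      · exact Or.inl (orderOf_eq_one_iff.mp h1)
      · exact Or.inr (Or.inl h1)
      · rw [h1] at hg
        omega
      · exact Or.inr (Or.inr h1)
      · rw [h1] at hg
        omega
    · rintro (rfl | h1 | h1)
      · simp
      · rw [h1]
        norm_num
      · rw [h1]
        norm_num
  rw [hunion, Finset.card_insert_of_notMem, Finset.card_union_of_disjoint] at h64
  · omega
  · rw [Finset.disjoint_filter]
    intro g _ h1 h2
    omega
  · simp

/-- Elements of order `4` are all conjugate. -/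
theorem order_four_conj (h : Nat.card G = 168) {x y : G} (hx : orderOf x = 4) (hy : orderOf y = 4) : IsConj x y := by
  classical
  obtain ⟨T⟩ : Nonempty (Sylow 2 G) := inferInstance
  obtain ⟨z, hzT, hz, hzc⟩ := exists_central_involution h T
  have hz1 : z ≠ 1 := by
    rintro rfl
    rw [orderOf_one] at hz
    omega
  have hCz := centralizer_eq_of_central h T hzT hz1 hzc
  have hzcs : Nat.card (Subgroup.centralizer ({z} : Set G)) = 8 := by
    rw [hCz, card_sylow_two_of h T]
  -- the square of `x`
  have hx2 : orderOf (x ^ 2) = 2 := by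
    have := orderOf_pow_orderOf_div (x := x) (n := 2) (by omega) (by rw [hx]; norm_num)
    rwa [hx] at this
  have hx2c : Nat.card (Subgroup.centralizer ({x ^ 2} : Set G)) = 8 := by
    rw [← hzcs]
    exact card_centralizer_eq_of_conj h (involutions_conj h T hzT hz hzc hx2).symm
  have hx21 : x ^ 2 ≠ 1 := by
    intro h0
    rw [h0, orderOf_one] at hx2
    omega
  have hp : IsPGroup 2 (Subgroup.centralizer ({x ^ 2} : Set G)) := by
    rw [IsPGroup.iff_card, hx2c]
    exact ⟨3, by norm_num⟩
  obtain ⟨Q, hQ⟩ := hp.exists_le_sylow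
  have hQe : Subgroup.centralizer ({x ^ 2} : Set G) = Q :=
    Subgroup.eq_of_le_of_card_ge hQ (by rw [hx2c, card_sylow_two_of h Q])
  have hxQ : x ∈ (Q : Subgroup G) := by
    rw [← hQe, Subgroup.mem_centralizer_iff]
    intro a ha
    rw [Set.mem_singleton_iff.mp ha]
    exact ((Commute.refl x).pow_left 2).eq
  -- the centralizer of `x` has order 4
  have hCx : Subgroup.centralizer ({x} : Set G) ≤ Q := by
    intro a ha
    rw [← hQe, Subgroup.mem_centralizer_iff]
    intro b hb
    rw [Set.mem_singleton_iff.mp hb]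
    have h5 : x * a = a * x := (Subgroup.mem_centralizer_iff.mp ha) x rfl
    have h6 : Commute x a := h5
    exact (h6.pow_left 2).eq
  have hx1 : x ≠ 1 := by
    rintro rfl
    rw [orderOf_one] at hx
    omega
  have hd := card_centralizer_dvd h hx1 (by rw [hx]; norm_num)
  have hzx : Subgroup.zpowers x ≤ Subgroup.centralizer ({x} : Set G) := by
    rw [Subgroup.zpowers_le, Subgroup.mem_centralizer_iff]
    intro a ha
    rw [Set.mem_singleton_iff.mp ha]
  have h4d : 4 ∣ Nat.card (Subgroup.centralizer ({x} : Set G)) := by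
    have := Subgroup.card_dvd_of_le hzx
    rwa [Nat.card_zpowers, hx] at this
  have hne8 : Nat.card (Subgroup.centralizer ({x} : Set G)) ≠ 8 := by
    intro h8
    have hCe : Subgroup.centralizer ({x} : Set G) = Q :=
      Subgroup.eq_of_le_of_card_ge hCx (by rw [h8, card_sylow_two_of h Q])
    have h5 := sylow_central_sq h Q hxQ (by
      intro t ht
      rw [← hCe] at ht
      exact ((Subgroup.mem_centralizer_iff.mp ht) x rfl).symm)
    exact hx21 h5
  have hC4 : Nat.card (Subgroup.centralizer ({x} : Set G)) = 4 := by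
    have h5 : Nat.card (Subgroup.centralizer ({x} : Set G)) ≤ 8 := Nat.le_of_dvd (by norm_num) hd
    have h6 : 4 ≤ Nat.card (Subgroup.centralizer ({x} : Set G)) := Nat.le_of_dvd Nat.card_pos h4d
    interval_cases hh : Nat.card (Subgroup.centralizer ({x} : Set G)) <;> omega
  have hcl := class_size h x
  rw [hC4] at hcl
  -- the class is everything
  have hcard := card_order_four h
  let inc : {g : G // IsConj x g} → {g : G // orderOf g = 4} := fun a => ⟨a.1, by
    obtain ⟨c, hc⟩ := isConj_iff.mp a.2
    rw [← hc, orderOf_conj', hx]⟩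
  have hinc : Function.Injective inc := by
    intro a b hab
    exact Subtype.ext (congrArg (fun s : {g : G // orderOf g = 4} => s.1) hab)
  have hbij := hinc.bijective_of_nat_card_le (by omega)
  obtain ⟨a, ha⟩ := hbij.2 ⟨y, hy⟩
  have h7 : a.1 = y := congrArg (fun s : {g : G // orderOf g = 4} => s.1) ha
  rw [← h7]
  exact a.2

/-- Elements of order `3` are all conjugate. -/
theorem order_three_conj (h : Nat.card G = 168) {s t : G} (hs : orderOf s = 3) (ht : orderOf t = 3) : IsConj s t := by
  classical
  obtain ⟨Q, hQ⟩ := (isPGroup_zpowers_of_orderOf ht).exists_le_sylow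
  have htQ : t ∈ (Q : Subgroup G) := hQ (Subgroup.mem_zpowers t)
  obtain ⟨P, hP⟩ := (isPGroup_zpowers_of_orderOf hs).exists_le_sylow
  have hsP : s ∈ (P : Subgroup G) := hP (Subgroup.mem_zpowers s)
  obtain ⟨g, rfl⟩ := MulAction.exists_smul_eq G P Q
  obtain ⟨hc, -, hN, hC⟩ := syl3 h (g • P)
  have hsg : g * s * g⁻¹ ∈ ((g • P : Sylow 3 G) : Subgroup G) := by
    rw [mem_smul_sylow]
    simpa [mul_assoc] using hsP
  have ht1 : t ≠ 1 := by
    rintro rfl
    rw [orderOf_one] at ht
    omega
  have hz := zpowers_eq_of_mem_prime_card _ hc htQ ht1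
  -- an element inverting `t`
  have hne := not_normalizer_le_centralizer (g • P) (by rw [hc]; norm_num) (by rw [hc, h]; norm_num)
  obtain ⟨n, hnN, hnC⟩ := Set.not_subset.mp hne
  have htt : t⁻¹ ∈ ((g • P : Sylow 3 G) : Subgroup G) := Subgroup.inv_mem _ htQ
  -- all nontrivial elements of the subgroup of order 3 are `t` or `t⁻¹`
  have hall : ∀ x ∈ ((g • P : Sylow 3 G) : Subgroup G), x ≠ 1 → x = t ∨ x = t⁻¹ := by
    intro x hx hx1
    rw [← hz] at hx
    obtain ⟨k, rfl⟩ := Subgroup.mem_zpowers_iff.mp hx
    have hm : (3 : ℤ) ≠ 0 := by norm_num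
    have h3 : t ^ (3 : ℤ) = 1 := by
      have : t ^ (3 : ℕ) = 1 := by
        rw [← ht]
        exact pow_orderOf_eq_one t
      exact_mod_cast this
    have hk : t ^ k = t ^ (k % 3) := by
      conv_lhs => rw [← Int.emod_add_mul_ediv k 3]
      rw [zpow_add, zpow_mul, h3, one_zpow, mul_one]
    have h0 : 0 ≤ k % 3 := Int.emod_nonneg _ (by norm_num)
    have h1 : k % 3 < 3 := Int.emod_lt_of_pos _ (by norm_num)
    rw [hk] at hx1 ⊢
    generalize k % 3 = j at *
    interval_cases j
    · simp at hx1
    · left
      simp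
    · right
      have : t ^ (2 : ℤ) * t = 1 := by
        rw [← zpow_add_one]
        exact h3
      exact eq_inv_of_mul_eq_one_left this
  have hinv : IsConj t t⁻¹ := by
    have h4 : n * t * n⁻¹ ∈ ((g • P : Sylow 3 G) : Subgroup G) :=
      (Subgroup.mem_normalizer_iff.mp hnN t).mp htQ
    have h41 : n * t * n⁻¹ ≠ 1 := by
      intro h0
      apply ht1
      have := congrArg (fun a => n⁻¹ * a * n) h0
      simpa [mul_assoc] using this
    rcases hall _ h4 h41 with h5 | h5
    · exfalso
      apply hnC
      rw [SetLike.mem_coe, Subgroup.mem_centralizer_iff]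
      intro u hu
      rw [SetLike.mem_coe, ← hz] at hu
      obtain ⟨k, rfl⟩ := Subgroup.mem_zpowers_iff.mp hu
      have h6 : n * t = t * n := by
        calc n * t = (n * t * n⁻¹) * n := by group
          _ = t * n := by rw [h5]
      have h7 : Commute t n := h6.symm
      exact (h7.zpow_left k).eq
    · rw [isConj_iff]
      exact ⟨n, h5⟩
  have hsg1 : g * s * g⁻¹ ≠ 1 := by
    intro h0
    have := orderOf_conj' g s
    rw [h0, orderOf_one, hs] at this
    omega
  have hsc : IsConj s (g * s * g⁻¹) := isConj_iff.mpr ⟨g, rfl⟩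
  rcases hall _ hsg hsg1 with h5 | h5
  · rw [h5] at hsc
    exact hsc
  · rw [h5] at hsc
    exact hsc.trans hinv.symm

/-- The class of an element of order `7`. -/
theorem order_seven_class (h : Nat.card G = 168) {x : G} (hx : orderOf x = 7) :
    Nat.card {g : G // IsConj x g} = 24 ∧ ¬ IsConj x x⁻¹ := by
  obtain ⟨P, hP⟩ := (isPGroup_zpowers_of_orderOf hx).exists_le_sylow
  have hxP : x ∈ (P : Subgroup G) := hP (Subgroup.mem_zpowers x)
  obtain ⟨hc, -, hN, hC⟩ := syl7 h P
  have hx1 : x ≠ 1 := by
    rintro rfl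
    rw [orderOf_one] at hx
    omega
  have hz := zpowers_eq_of_mem_prime_card _ hc hxP hx1
  have hCx : Subgroup.centralizer ({x} : Set G) = P := by
    apply le_antisymm
    · intro a ha
      apply hC
      rw [Subgroup.mem_centralizer_iff]
      intro u hu
      rw [SetLike.mem_coe, ← hz] at hu
      obtain ⟨k, rfl⟩ := Subgroup.mem_zpowers_iff.mp hu
      have h6 : x * a = a * x := (Subgroup.mem_centralizer_iff.mp ha) x rfl
      have h7 : Commute x a := h6
      exact (h7.zpow_left k).eq
    · intro a ha
      rw [Subgroup.mem_centralizer_iff]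
      intro u hu
      rw [Set.mem_singleton_iff.mp hu]
      exact (Subgroup.mem_centralizer_iff.mp (le_centralizer_of_prime_card _ hc ha)) x hxP |>.symm ▸ rfl
  constructor
  · have h1 := class_size h x
    rw [hCx, hc] at h1
    omega
  · intro hconj
    obtain ⟨g, hg⟩ := isConj_iff.mp hconj
    -- `g` normalizes `P`
    have hgN : g ∈ Subgroup.normalizer ((P : Subgroup G) : Set G) := by
      rw [Subgroup.mem_normalizer_iff]
      intro u
      have key : ∀ (c : G), c * x * c⁻¹ = x⁻¹ ∨ c * x * c⁻¹ = x → ∀ u, u ∈ (P : Subgroup G) → c * u * c⁻¹ ∈ (P : Subgroup G) := by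
        intro c hc' u hu
        rw [← hz] at hu
        obtain ⟨k, rfl⟩ := Subgroup.mem_zpowers_iff.mp hu
        rw [← conj_zpow]
        apply Subgroup.zpow_mem
        rcases hc' with h5 | h5
        · rw [h5]
          exact Subgroup.inv_mem _ hxP
        · rw [h5]
          exact hxP
      constructor
      · exact key g (Or.inl hg) u
      · intro hu
        have h5 : g⁻¹ * x * g = x⁻¹ := by
          have : x = g⁻¹ * x⁻¹ * g := by
            rw [← hg]
            group
          calc g⁻¹ * x * g = (g⁻¹ * x⁻¹ * g)⁻¹ := by group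
            _ = x⁻¹ := by rw [← this]
        have h6 := key g⁻¹ (Or.inl (by simpa using h5)) _ hu
        have h7 : g⁻¹ * (g * u * g⁻¹) * g⁻¹⁻¹ = u := by group
        rwa [h7] at h6
    -- its order is odd
    have hg21 : g ^ 21 = 1 := by
      let g' : Subgroup.normalizer ((P : Subgroup G) : Set G) := ⟨g, hgN⟩
      have h7 := pow_card_eq_one' (x := g')
      rw [hN] at h7
      have h71 := congrArg (fun t : Subgroup.normalizer ((P : Subgroup G) : Set G) => (t : G)) h7
      simpa [g'] using h71
    have hk : ∀ n : ℕ, g ^ (2 * n + 1) * x * (g ^ (2 * n + 1))⁻¹ = x⁻¹ := by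
      intro n
      induction n with
      | zero => simpa using hg
      | succ m ih =>
        have e : g ^ (2 * (m + 1) + 1) = g * g * g ^ (2 * m + 1) := by
          rw [show 2 * (m + 1) + 1 = 2 + (2 * m + 1) by ring, pow_add, pow_two]
        rw [e]
        calc g * g * g ^ (2 * m + 1) * x * (g * g * g ^ (2 * m + 1))⁻¹
            = g * (g * (g ^ (2 * m + 1) * x * (g ^ (2 * m + 1))⁻¹) * g⁻¹) * g⁻¹ := by group
          _ = g * (g * x⁻¹ * g⁻¹) * g⁻¹ := by rw [ih]
          _ = g * (g * x * g⁻¹)⁻¹ * g⁻¹ := by group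
          _ = g * (x⁻¹)⁻¹ * g⁻¹ := by rw [hg]
          _ = g * x * g⁻¹ := by rw [inv_inv]
          _ = x⁻¹ := hg
    have h8 := hk 10
    rw [show 2 * 10 + 1 = 21 by norm_num, hg21] at h8
    simp only [one_mul, inv_one, mul_one] at h8
    have h9 : x ^ 2 = 1 := by
      rw [pow_two]
      nth_rewrite 1 [h8]
      group
    have h10 := orderOf_dvd_of_pow_eq_one h9
    rw [hx] at h10
    omega

end Main2

end Cfsg.Agent.Lib.H1L168
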