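import Cfsg.Agent.Lib.H1Odd
import Cfsg.Agent.Lib.H1FH
import Cfsg.Agent.Lib.PGrp2
import Cfsg.Agent.Lib.H1Huppert2

/-! Normal Hall subgroups inside `G'`, commutators. -/

namespace Cfsg.Agent.Lib.H1Odd2

open scoped commutatorElement
open Cfsg.Agent.Lib

variable {G : Type*} [Group G]

theorem map_commutator_le' {G' : Type*} [Group G'] (f : G →* G') :
    (commutator G).map f ≤ commutator G' := by
  rw [commutator_def, Subgroup.map_commutator]
  exact Subgroup.commutator_mono le_top le_top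

/-- If `H` is solvable, `N ≤ H` normal, and `H = H' N`, then `H = N`. -/
theorem le_of_le_commutator_sup {H N : Subgroup G} [hN : N.Normal] (hH : Group.IsSolvable H)
    (h : H ≤ ⁅H, H⁆ ⊔ N) : H ≤ N := by
  classical
  set N' : Subgroup H := N.subgroupOf H with hN'
  haveI : N'.Normal := Subgroup.Normal.subgroupOf hN H
  by_contra hcontra
  haveI : Nontrivial (H ⧸ N') := by
    rw [QuotientGroup.nontrivial_iff]
    intro htop
    apply hcontra
    intro x hx
    have : (⟨x, hx⟩ : H) ∈ N' := by rw [htop]; exact Subgroup.mem_top _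
    rwa [hN', Subgroup.mem_subgroupOf] at this
  haveI : Group.IsSolvable (H ⧸ N') := inferInstance
  have hlt := Group.IsSolvable.commutator_lt_top_of_nontrivial (H ⧸ N')
  apply hlt.ne
  rw [eq_top_iff]
  rintro q -
  obtain ⟨x, rfl⟩ := QuotientGroup.mk_surjective q
  have hx := h x.2
  obtain ⟨a, ha, n, hn, e⟩ := Subgroup.mem_sup_of_normal_right.mp hx
  rw [← Subgroup.map_subtype_commutator] at ha
  obtain ⟨b, hb, rfl⟩ := ha
  have hnH : (b : G)⁻¹ * x = n := by
    rw [← e]; simp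
  have hmk : ((x : H) : H ⧸ N') = (b : H ⧸ N') := by
    rw [QuotientGroup.eq, hN', Subgroup.mem_subgroupOf]
    have : ((x⁻¹ * b : H) : G) = n⁻¹ := by
      rw [← hnH]; simp
    rw [this]
    exact N.inv_mem hn
  rw [hmk]
  exact map_commutator_le' (QuotientGroup.mk' N') ⟨b, hb, rfl⟩


theorem commutator_mul_central {Q : Type*} [Group Q] {z₁ z₂ a b : Q} (h₁ : z₁ ∈ Subgroup.center Q)
    (h₂ : z₂ ∈ Subgroup.center Q) : ⁅z₁ * a, z₂ * b⁆ = ⁅a, b⁆ := by
  have c1 : ∀ w, w * z₁ = z₁ * w := fun w => Subgroup.mem_center_iff.mp h₁ w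
  have c2 : ∀ w, w * z₂ = z₂ * w := fun w => Subgroup.mem_center_iff.mp h₂ w
  simp only [commutatorElement_def, mul_inv_rev]
  calc z₁ * a * (z₂ * b) * (a⁻¹ * z₁⁻¹) * (b⁻¹ * z₂⁻¹)
      = z₂ * z₁ * (a * b * a⁻¹) * z₁⁻¹ * b⁻¹ * z₂⁻¹ := by
        rw [show z₁ * a * (z₂ * b) = z₁ * (a * z₂) * b by group, c2 a,
          show z₁ * (z₂ * a) * b = (z₁ * z₂) * a * b by group, c2 z₁]; group
    _ = z₂ * z₁ * z₁⁻¹ * (a * b * a⁻¹) * b⁻¹ * z₂⁻¹ := by
        have : (a * b * a⁻¹) * z₁⁻¹ = z₁⁻¹ * (a * b * a⁻¹) := by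
          have h := c1 (a * b * a⁻¹)
          rw [eq_inv_mul_iff_mul_eq, ← mul_assoc, ← h]; group
        rw [mul_assoc (z₂ * z₁), this]; group
    _ = z₂ * (a * b * a⁻¹ * b⁻¹) * z₂⁻¹ := by group
    _ = a * b * a⁻¹ * b⁻¹ := by
        have h := c2 (a * b * a⁻¹ * b⁻¹)
        rw [← h]; group

/-- A normal subgroup `H ≤ G'` of a solvable group with complement `K` equals `[H, K]`. -/
theorem eq_commutator_of_le_derived [Finite G] [Group.IsSolvable G] {H K : Subgroup G} [hHn : H.Normal]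
    (hK : Subgroup.IsComplement' H K) (hle : H ≤ commutator G) : H = ⁅H, K⁆ := by
  classical
  set N : Subgroup G := ⁅H, K⁆ with hNdef
  have hNH : N ≤ H := Cfsg.Agent.Lib.H1Cop.commutator_le_left (by
    rw [Subgroup.normalizer_eq_top_iff.mpr hHn]; exact le_top)
  haveI hNn : N.Normal := by
    rw [← Subgroup.normalizer_eq_top_iff, eq_top_iff, ← hK.sup_eq_top]
    exact sup_le (Cfsg.Agent.Lib.H1Cop.commutator_normalized_left H K)
      (Cfsg.Agent.Lib.H1Cop.commutator_normalized_right H K)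
  set E : Subgroup G := ⁅H, H⁆ ⊔ N with hEdef
  haveI hEn : E.Normal := by
    haveI : (⁅H, H⁆ : Subgroup G).Normal := Subgroup.commutator_normal H H
    exact Subgroup.sup_normal _ _
  have hEH : E ≤ H := sup_le (Subgroup.commutator_le_self H) hNH
  set ψ := QuotientGroup.mk' E with hψ
  have hdec : ∀ g : G, ∃ h ∈ H, ∃ k ∈ K, h * k = g := by
    intro g
    have : g ∈ H ⊔ K := by rw [hK.sup_eq_top]; trivial
    exact Subgroup.mem_sup_of_normal_left.mp this
  have hcomm1 : ∀ h ∈ H, ∀ h' ∈ H, ψ h * ψ h' = ψ h' * ψ h := by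
    intro h hh h' hh'
    have h1 : ⁅h, h'⁆ ∈ E := Subgroup.mem_sup_left (Subgroup.commutator_mem_commutator hh hh')
    have h2 : ψ ⁅h, h'⁆ = 1 := (QuotientGroup.eq_one_iff _).mpr h1
    rw [map_commutatorElement, commutatorElement_eq_one_iff_mul_comm] at h2
    exact h2
  have hcomm2 : ∀ h ∈ H, ∀ k ∈ K, ψ h * ψ k = ψ k * ψ h := by
    intro h hh k hk
    have h1 : ⁅h, k⁆ ∈ E := Subgroup.mem_sup_right (Subgroup.commutator_mem_commutator hh hk)
    have h2 : ψ ⁅h, k⁆ = 1 := (QuotientGroup.eq_one_iff _).mpr h1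
    rw [map_commutatorElement, commutatorElement_eq_one_iff_mul_comm] at h2
    exact h2
  have hcen : ∀ h ∈ H, ψ h ∈ Subgroup.center (G ⧸ E) := by
    intro h hh
    rw [Subgroup.mem_center_iff]
    intro q
    obtain ⟨g, rfl⟩ := QuotientGroup.mk'_surjective E q
    obtain ⟨h', hh', k, hk, rfl⟩ := hdec g
    rw [map_mul, ← hψ]
    calc ψ h' * ψ k * ψ h = ψ h' * (ψ k * ψ h) := mul_assoc _ _ _
      _ = ψ h' * (ψ h * ψ k) := by rw [hcomm2 h hh k hk]
      _ = (ψ h' * ψ h) * ψ k := (mul_assoc _ _ _).symm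
      _ = (ψ h * ψ h') * ψ k := by rw [hcomm1 h hh h' hh']
      _ = ψ h * (ψ h' * ψ k) := mul_assoc _ _ _
  have hQ : commutator (G ⧸ E) ≤ (⁅K, K⁆ : Subgroup G).map ψ := by
    rw [commutator_def, Subgroup.commutator_le]
    intro x _ y _
    obtain ⟨g₁, rfl⟩ := QuotientGroup.mk'_surjective E x
    obtain ⟨g₂, rfl⟩ := QuotientGroup.mk'_surjective E y
    obtain ⟨h₁, hh₁, k₁, hk₁, rfl⟩ := hdec g₁
    obtain ⟨h₂, hh₂, k₂, hk₂, rfl⟩ := hdec g₂
    rw [map_mul, map_mul, commutator_mul_central (hcen _ hh₁) (hcen _ hh₂)]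
    exact ⟨⁅k₁, k₂⁆, Subgroup.commutator_mem_commutator hk₁ hk₂, by rw [map_commutatorElement]⟩
  have hHE : H ≤ E := by
    intro h hh
    have h1 : ψ h ∈ commutator (G ⧸ E) := map_commutator_le' ψ ⟨h, hle hh, rfl⟩
    obtain ⟨k, hk, hkh⟩ := hQ h1
    have hkK : k ∈ K := Subgroup.commutator_le_self K hk
    have h2 : k⁻¹ * h ∈ E := by
      have : (k : G ⧸ E) = (h : G ⧸ E) := hkh
      exact QuotientGroup.eq.mp this
    have hkH : k ∈ H := by
      have h3 := H.mul_mem hh (H.inv_mem (hEH h2))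
      simpa using h3
    have hk1 : k = 1 := by
      have := hK.disjoint
      rw [Subgroup.disjoint_def] at this
      exact this hkH hkK
    rw [hk1] at h2
    simpa using h2
  have hsolvH : Group.IsSolvable H := inferInstance
  exact le_antisymm (le_of_le_commutator_sup hsolvH hHE) hNH

/-- If `H = [H, K]` with `K` acting coprimely then `C_H(K) ≤ H'`. -/
theorem inf_centralizer_le_commutator [Finite G] {H K : Subgroup G} [hHn : H.Normal]
    (hcop : (Nat.card K).Coprime (Nat.card H)) (hHK : H = ⁅H, K⁆) :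
    H ⊓ Subgroup.centralizer (K : Set G) ≤ ⁅H, H⁆ := by
  classical
  haveI hDn : (⁅H, H⁆ : Subgroup G).Normal := Subgroup.commutator_normal H H
  set D : Subgroup G := ⁅H, H⁆ with hD
  set ψ := QuotientGroup.mk' D with hψ
  set V : Subgroup (G ⧸ D) := H.map ψ with hV
  set A : Subgroup (G ⧸ D) := K.map ψ with hA
  haveI hVc : IsMulCommutative V := by
    refine ⟨⟨?_⟩⟩
    rintro ⟨_, h₁, hh₁, rfl⟩ ⟨_, h₂, hh₂, rfl⟩
    apply Subtype.ext
    have h1 : ⁅h₁, h₂⁆ ∈ D := Subgroup.commutator_mem_commutator hh₁ hh₂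
    have h2 : ψ ⁅h₁, h₂⁆ = 1 := (QuotientGroup.eq_one_iff _).mpr h1
    rw [map_commutatorElement, commutatorElement_eq_one_iff_mul_comm] at h2
    exact h2
  haveI hVn : V.Normal := Subgroup.Normal.map hHn _ (QuotientGroup.mk'_surjective D)
  have hAV : A ≤ Subgroup.normalizer (V : Set (G ⧸ D)) := by
    rw [Subgroup.normalizer_eq_top_iff.mpr hVn]; exact le_top
  have hcopV : (Nat.card A).Coprime (Nat.card V) := by
    have h1 : Nat.card A ∣ Nat.card K := Subgroup.card_map_dvd K ψ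
    have h2 : Nat.card V ∣ Nat.card H := Subgroup.card_map_dvd H ψ
    exact Nat.Coprime.coprime_dvd_left h1 (Nat.Coprime.coprime_dvd_right h2 hcop)
  have hbot := Cfsg.Agent.Lib.H1Cop2.inf_commutator_eq_bot hAV hcopV
  intro c hc
  obtain ⟨hcH, hcC⟩ := Subgroup.mem_inf.mp hc
  have hψc : ψ c ∈ (V ⊓ Subgroup.centralizer (A : Set (G ⧸ D))) ⊓ ⁅V, A⁆ := by
    refine Subgroup.mem_inf.mpr ⟨Subgroup.mem_inf.mpr ⟨⟨c, hcH, rfl⟩, ?_⟩, ?_⟩
    · rw [Subgroup.mem_centralizer_iff]
      rintro _ ⟨k, hk, rfl⟩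
      have := Subgroup.mem_centralizer_iff.mp hcC k hk
      have h2 := congrArg ψ this
      simpa only [map_mul] using h2
    · rw [hV, hA, ← Subgroup.map_commutator, ← hHK]
      exact ⟨c, hcH, rfl⟩
  rw [hbot, Subgroup.mem_bot] at hψc
  exact (QuotientGroup.eq_one_iff _).mp hψc


/-- If `G'` is nilpotent of prime index `q` then `q` does not divide `|G'|`. -/
theorem coprime_of_index_prime [Finite G] (hN : Group.IsNilpotent (commutator G))
    (hq : (commutator G).index.Prime) :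
    (Nat.card (commutator G)).Coprime (commutator G).index := by
  classical
  set N : Subgroup G := commutator G with hNdef
  set q := N.index with hqdef
  haveI hqf : Fact q.Prime := ⟨hq⟩
  haveI hNn : N.Normal := (inferInstance : (commutator G).Normal)
  obtain ⟨A, hAq, ⟨k, hk⟩, hAall⟩ := Cfsg.Agent.Lib.H1Wielandt.nilp_decomp (G := N) q
  set A' : Subgroup G := A.map N.subtype with hA'
  have hcardA' : Nat.card A' = Nat.card A := Subgroup.card_map_of_injective N.subtype_injective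
  have hA'N : A' ≤ N := Subgroup.map_subtype_le A
  haveI hA'n : A'.Normal := by
    refine ⟨?_⟩
    rintro _ ⟨a, ha, rfl⟩ g
    have hmem : g * (a : G) * g⁻¹ ∈ N := hNn.conj_mem _ a.2 g
    have hpow : (⟨g * (a : G) * g⁻¹, hmem⟩ : N) ^ Nat.card A = 1 := by
      apply Subtype.ext
      have h1 : a ^ Nat.card A = 1 := by
        have := pow_card_eq_one' (G := A) (x := ⟨a, ha⟩)
        exact congrArg Subtype.val this
      have h2 : (a : G) ^ Nat.card A = 1 := by
        have := congrArg Subtype.val h1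
        simpa using this
      simp only [Subgroup.coe_pow, Subgroup.coe_mk, Subgroup.coe_one]
      rw [conj_pow, h2]
      group
    exact ⟨_, hAall _ ⟨_, hAq, hpow⟩, rfl⟩
  have hcardG : A'.index * Nat.card A' = Nat.card G := Subgroup.index_mul_card A'
  have hcardG2 : N.index * Nat.card N = Nat.card G := Subgroup.index_mul_card N
  have hApos : 0 < Nat.card A := Nat.card_pos
  have hindex : A'.index = q ^ (k + 1) := by
    have : A'.index * Nat.card A = q ^ (k + 1) * Nat.card A := by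
      rw [← hcardA', hcardG, ← hcardG2, ← hqdef, hcardA', ← hk, pow_succ]
      ring
    exact Nat.eq_of_mul_eq_mul_right hApos this
  set R := G ⧸ A' with hR
  have hRcard : Nat.card R = q ^ (k + 1) := by
    rw [hR, ← Subgroup.index_eq_card, hindex]
  have hRp : IsPGroup q R := IsPGroup.of_card hRcard
  -- the derived group of `R`
  set ψ := QuotientGroup.mk' A' with hψ
  have hψs : Function.Surjective ψ := QuotientGroup.mk'_surjective A'
  have hcomm : commutator R = N.map ψ := by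
    rw [hNdef, commutator_def, commutator_def, Subgroup.map_commutator, ← MonoidHom.range_eq_map,
      MonoidHom.range_eq_top.mpr hψs]
  have hindexN : (N.map ψ).index = q := by
    have h1 := Subgroup.index_map N ψ
    rw [MonoidHom.range_eq_top.mpr hψs, Subgroup.index_top, mul_one, QuotientGroup.ker_mk',
      sup_eq_left.mpr hA'N] at h1
    exact h1
  have hcoat : IsCoatom (N.map ψ) := Cfsg.Agent.Lib.H1Huppert.isCoatom_of_index_prime (by rw [hindexN]; exact hq)
  obtain ⟨x, -, hx⟩ := SetLike.exists_of_lt (lt_top_iff_ne_top.mpr hcoat.1)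
  have hsup : N.map ψ ⊔ Subgroup.zpowers x = ⊤ := by
    apply hcoat.2
    refine lt_of_le_of_ne le_sup_left ?_
    intro h
    apply hx
    rw [h]
    exact Subgroup.mem_sup_right (Subgroup.mem_zpowers x)
  have hfrat : Subgroup.zpowers x ⊔ frattini R = ⊤ := by
    rw [eq_top_iff, ← hsup, sup_comm]
    refine sup_le_sup_left ?_ _
    rw [← hcomm]
    exact Cfsg.Agent.Lib.PGrp.commutator_le_frattini hRp
  have htop : Subgroup.zpowers x = ⊤ := frattini_nongenerating hfrat
  have hcyc : IsCyclic R := ⟨x, fun y => by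
    have : y ∈ Subgroup.zpowers x := by rw [htop]; trivial
    exact this⟩
  have hbot : commutator R = ⊥ := by
    rw [commutator_eq_bot_iff]
    exact IsCyclic.commutative
  have hNA : N ≤ A' := by
    intro n hn
    have : ψ n ∈ commutator R := by rw [hcomm]; exact ⟨n, hn, rfl⟩
    rw [hbot, Subgroup.mem_bot] at this
    exact (QuotientGroup.eq_one_iff _).mp this
  have hEq : N = A' := le_antisymm hNA hA'N
  rw [hEq, hcardA']
  rw [hqdef] 
  exact Nat.Coprime.symm ((Nat.Prime.coprime_iff_not_dvd hq).mpr hAq)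

end Cfsg.Agent.Lib.H1Odd2
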