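import Cfsg.Agent.Lib.PSolv
import Cfsg.Agent.Lib.H1Hall
import Cfsg.Agent.Lib.H1Fit
import Cfsg.Agent.Lib.H1Odd2

/-! Groups of `p`-length one. -/

namespace Cfsg.Agent.Lib.H1PLen

open Cfsg Cfsg.Agent.Lib

variable {G : Type*} [Group G] [Finite G] {p : ℕ} [hp : Fact p.Prime]

theorem upper_one : (upperPSeries p G 1).1 = pPrimeCore p G := by
  have h := Cfsg.Agent.Lib.PSolv.upper_succ_even (G := G) p (n := 0) (by simp)
  rw [zero_add] at h
  rw [h]
  have h2 := Cfsg.Agent.Lib.PSolv.comap_pPrimeCore_eq_of_ker_eq (p := p)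
    (QuotientGroup.mk' (upperPSeries p G 0).1) (MonoidHom.id G)
    (QuotientGroup.mk'_surjective _) Function.surjective_id (by
      rw [QuotientGroup.ker_mk', MonoidHom.ker_id]; rfl)
  rw [h2]
  rfl

theorem upper_two : (upperPSeries p G 2).1 = pPrimePCore p G := by
  have h := Cfsg.Agent.Lib.PSolv.upper_succ_odd (G := G) p (n := 1) (by decide)
  rw [show 1 + 1 = 2 from rfl] at h
  rw [h]
  unfold pPrimePCore
  apply Cfsg.Agent.Lib.PSolv.comap_pCore_eq_of_ker_eq
  · exact QuotientGroup.mk'_surjective _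
  · exact QuotientGroup.mk'_surjective _
  · rw [QuotientGroup.ker_mk', QuotientGroup.ker_mk', upper_one]


/-- In a group of `p`-length one the index of `O_{p',p}(G)` is prime to `p`. -/
theorem not_dvd_index (hpl : PLengthLE p 1 G) : ¬ p ∣ (pPrimePCore p G).index := by
  haveI hWn : (pPrimePCore p G).Normal := by
    rw [← upper_two]; exact upperPSeries_normal p G 2
  have h := Cfsg.Agent.Lib.PSolv.upper_succ_even (G := G) p (n := 2) (by decide)
  have h3 : (upperPSeries p G 3).1 = ⊤ := hpl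
  rw [show 2 + 1 = 3 from rfl, h3] at h
  have h4 := Cfsg.Agent.Lib.PSolv.comap_pPrimeCore_eq_of_ker_eq (p := p)
    (QuotientGroup.mk' (upperPSeries p G 2).1) (QuotientGroup.mk' (pPrimePCore p G))
    (QuotientGroup.mk'_surjective _) (QuotientGroup.mk'_surjective _) (by
      rw [QuotientGroup.ker_mk', QuotientGroup.ker_mk', upper_two])
  rw [h4] at h
  have htop : pPrimeCore p (G ⧸ pPrimePCore p G) = ⊤ := by
    rw [eq_top_iff]
    intro q _
    obtain ⟨g, rfl⟩ := QuotientGroup.mk'_surjective _ q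
    have : g ∈ (pPrimeCore p (G ⧸ pPrimePCore p G)).comap (QuotientGroup.mk' (pPrimePCore p G)) := by
      rw [← h]; trivial
    exact this
  have hc := Cfsg.Agent.Lib.H1Core.pPrimeCore_coprime (G := G ⧸ pPrimePCore p G) p
  rw [htop, Subgroup.card_top, ← Subgroup.index_eq_card] at hc
  intro hd
  exact hp.out.one_lt.ne' (Nat.eq_one_of_dvd_coprimes hc hd (dvd_refl p))

theorem pPrimePCore_normal' : (pPrimePCore p G).Normal := by
  rw [← upper_two]; exact upperPSeries_normal p G 2

/-- `p`-subgroups lie in `O_{p',p}(G)` for groups of `p`-length one. -/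
theorem pgroup_le (hpl : PLengthLE p 1 G) {S : Subgroup G} (hS : IsPGroup p S) :
    S ≤ pPrimePCore p G := by
  haveI hWn : (pPrimePCore p G).Normal := pPrimePCore_normal'
  intro x hx
  obtain ⟨k, hk⟩ := (IsPGroup.iff_orderOf.mp hS) ⟨x, hx⟩
  have hk' : orderOf x = p ^ k := by simpa [Subgroup.orderOf_mk] using hk
  set q : G ⧸ pPrimePCore p G := (x : G ⧸ pPrimePCore p G) with hq
  have h1 : orderOf q ∣ p ^ k := by
    rw [← hk']
    exact orderOf_map_dvd (QuotientGroup.mk' (pPrimePCore p G)) x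
  have h2 : orderOf q ∣ (pPrimePCore p G).index := by
    rw [Subgroup.index_eq_card]
    exact orderOf_dvd_natCard q
  have h3 : Nat.Coprime (p ^ k) (pPrimePCore p G).index :=
    Nat.Coprime.pow_left k ((Nat.Prime.coprime_iff_not_dvd hp.out).mpr (not_dvd_index hpl))
  have h4 : orderOf q = 1 := Nat.eq_one_of_dvd_coprimes h3 h1 h2
  rw [orderOf_eq_one_iff, hq, QuotientGroup.eq_one_iff] at h4
  exact h4

/-- `O_{p',p}(G) ≤ O_{p'}(G) S` for a Sylow subgroup `S`. -/
theorem pPrimePCore_le_sup (S : Sylow p G) :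
    pPrimePCore p G ≤ pPrimeCore p G ⊔ (S : Subgroup G) := by
  classical
  haveI hVn : (pPrimeCore p G).Normal := Cfsg.Agent.Lib.H1Core.pPrimeCore_normal p G
  intro w hw
  set ψ := QuotientGroup.mk' (pPrimeCore p G) with hψ
  have hw' : ψ w ∈ pCore p (G ⧸ pPrimeCore p G) := hw
  have hle : pCore p (G ⧸ pPrimeCore p G) ≤ (S : Subgroup G).map ψ := by
    haveI := Cfsg.Agent.Lib.H1Core.pCore_normal p (G ⧸ pPrimeCore p G)
    refine Cfsg.Agent.Lib.H1Hall.normal_pgroup_le (Cfsg.Agent.Lib.H1Core.pCore_isPGroup p) ?_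
    intro hd
    have h2 := hd.trans (Subgroup.index_map_dvd (S : Subgroup G) (QuotientGroup.mk'_surjective _))
    exact S.not_dvd_index h2
  obtain ⟨s, hs, hsw⟩ := hle hw'
  have h3 : s⁻¹ * w ∈ pPrimeCore p G := QuotientGroup.eq.mp hsw
  rw [sup_comm]
  have : w = s * (s⁻¹ * w) := by group
  rw [this]
  exact Subgroup.mul_mem_sup hs h3

/-- Frattini argument for `p`-length one. -/
theorem sup_normalizer_eq_top (hpl : PLengthLE p 1 G) (S : Sylow p G) :
    pPrimeCore p G ⊔ Subgroup.normalizer ((S : Subgroup G) : Set G) = ⊤ := by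
  haveI hWn : (pPrimePCore p G).Normal := pPrimePCore_normal'
  have hSW : (S : Subgroup G) ≤ pPrimePCore p G := pgroup_le hpl S.isPGroup'
  have h := Sylow.normalizer_sup_eq_top' S hSW
  rw [eq_top_iff, ← h]
  refine sup_le le_sup_right ?_
  refine (pPrimePCore_le_sup S).trans ?_
  exact sup_le_sup_left Subgroup.le_normalizer _

theorem pPrimeCore_inf_pgroup {S : Subgroup G} (hS : IsPGroup p S) : pPrimeCore p G ⊓ S = ⊥ := by
  apply Subgroup.inf_eq_bot_of_coprime
  have hc := Cfsg.Agent.Lib.H1Core.pPrimeCore_coprime (G := G) p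
  obtain ⟨k, hk⟩ := IsPGroup.iff_card.mp hS
  rw [hk]
  exact Nat.Coprime.pow_right k hc

end Cfsg.Agent.Lib.H1PLen
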