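import Mathlib
import Cfsg.Agent.Lib.H1PSL2

set_option autoImplicit false

/-! Products of conjugacy classes in `SL₂` and `PSL₂`. -/

namespace Cfsg.Agent.Lib.H1PSL2P

open Matrix Polynomial Cfsg.Agent.Lib.H1GL2 Cfsg.Agent.Lib.H1SL2 Cfsg.Agent.Lib.H1PSL2

variable {F : Type*} [Field F]

/-- Conjugation by a matrix with nonzero determinant on `SL₂`. -/
noncomputable def conjBy (P : M2 F) (hP : P.det ≠ 0) (A : SL2 F) : SL2 F :=
  ⟨P * (A : M2 F) * P⁻¹, by
    rw [Matrix.det_mul, Matrix.det_mul, A.2, mul_one, Matrix.det_nonsing_inv,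
      Ring.inverse_eq_inv', mul_inv_cancel₀ hP]⟩

theorem conjBy_coe (P : M2 F) (hP : P.det ≠ 0) (A : SL2 F) :
    (conjBy P hP A : M2 F) = P * (A : M2 F) * P⁻¹ := rfl

theorem conjBy_mul (P : M2 F) (hP : P.det ≠ 0) (A B : SL2 F) :
    conjBy P hP (A * B) = conjBy P hP A * conjBy P hP B := by
  apply Subtype.ext
  have h1 : P⁻¹ * P = 1 := Matrix.nonsing_inv_mul P (Ne.isUnit hP)
  change P * ((A : M2 F) * B) * P⁻¹ = (P * (A : M2 F) * P⁻¹) * (P * (B : M2 F) * P⁻¹)
  calc P * ((A : M2 F) * B) * P⁻¹ = P * (A : M2 F) * 1 * (B : M2 F) * P⁻¹ := by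
        simp only [mul_one, mul_assoc]
    _ = P * (A : M2 F) * (P⁻¹ * P) * (B : M2 F) * P⁻¹ := by rw [h1]
    _ = _ := by simp only [mul_assoc]

theorem tr_conjBy (P : M2 F) (hP : P.det ≠ 0) (A : SL2 F) : tr (conjBy P hP A) = tr A := by
  have h1 : P⁻¹ * P = 1 := Matrix.nonsing_inv_mul P (Ne.isUnit hP)
  have e1 : tr (conjBy P hP A) = Matrix.trace (P * (A : M2 F) * P⁻¹) := by
    simp [tr, conjBy_coe, Matrix.trace_fin_two]
  have e2 : tr A = Matrix.trace (A : M2 F) := by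
    simp [tr, Matrix.trace_fin_two]
  rw [e1, e2, Matrix.trace_mul_comm, ← mul_assoc, h1, one_mul]

theorem conjBy_of_comm (P : M2 F) (hP : P.det ≠ 0) (G C : SL2 F)
    (h : (G : M2 F) * P = P * (C : M2 F)) : conjBy P hP C = G := by
  apply Subtype.ext
  rw [conjBy_coe, ← h, mul_assoc, Matrix.mul_nonsing_inv P (Ne.isUnit hP), mul_one]

theorem not_scalar_cp (t : F) : ¬ IsScalar ((cp t : SL2 F) : M2 F) := by
  rintro ⟨-, h, -⟩
  simp at h

theorem scalar_iff (G : SL2 F) : IsScalar (G : M2 F) ↔ G = 1 ∨ G = mone := by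
  constructor
  · rintro ⟨h1, h2, h3⟩
    have hd := sl_det G
    rw [h1, zero_mul, sub_zero, ← h3] at hd
    have h9 : ((G : M2 F) 0 0 - 1) * ((G : M2 F) 0 0 + 1) = 0 := by linear_combination hd
    rcases mul_eq_zero.mp h9 with h | h
    · left
      have : (G : M2 F) 0 0 = 1 := sub_eq_zero.mp h
      apply sl_ext <;> simp [h1, h2, ← h3, this]
    · right
      have : (G : M2 F) 0 0 = -1 := eq_neg_of_add_eq_zero_left h
      apply sl_ext <;> simp [mone, h1, h2, ← h3, this]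
  · rintro (rfl | rfl)
    · simp [IsScalar]
    · simp [IsScalar, mone]

/-- Key transfer: factoring the companion matrix gives a factorization of `G`. -/
theorem prod_of_cp [Fintype F] (G : SL2 F) (hG : ¬ IsScalar (G : M2 F)) (A B X : SL2 F)
    (hAB : A * B = cp (tr G)) (hA : tr A = tr X) (hB : tr B = tr X) (h4 : tr X ^ 2 ≠ 4) :
    ∃ U V : SL2 F, G = (U * X * U⁻¹) * (V * X * V⁻¹) := by
  obtain ⟨P, hP, hGP⟩ := exists_conj_of_tr_det (G : M2 F) ((cp (tr G) : SL2 F) : M2 F) hG (not_scalar_cp _)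
    (by simp [tr]) ((sl_det G).trans (sl_det _).symm)
  have h1 := conjBy_of_comm P hP G (cp (tr G)) hGP
  have hA' : IsConj X (conjBy P hP A) := conj_of_trace _ _ (by rw [tr_conjBy, hA]) h4
  have hB' : IsConj X (conjBy P hP B) := conj_of_trace _ _ (by rw [tr_conjBy, hB]) h4
  obtain ⟨U, hU⟩ := isConj_iff.mp hA'
  obtain ⟨V, hV⟩ := isConj_iff.mp hB'
  refine ⟨U, V, ?_⟩
  rw [hU, hV, ← conjBy_mul, hAB, h1]

/-- A factorization of the companion matrix from a solution of the conic. -/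
theorem factor_of_abc (γ α a b c d : F) (h1 : a + d = α) (h2 : a * d - b * c = 1)
    (h3 : c - b + a * γ = α) :
    ∃ A B : SL2 F, tr A = α ∧ tr B = α ∧ A * B = cp γ := by
  refine ⟨mk a b c d h2, (mk a b c d h2)⁻¹ * cp γ, by simpa [tr] using h1, ?_, ?_⟩
  · simp only [tr, sl_mul00, sl_mul11, sl_inv00, sl_inv01, sl_inv10, sl_inv11, mk00, mk01, mk10, mk11,
      cp00, cp01, cp10, cp11]
    linear_combination h3
  · rw [mul_inv_cancel_left]

/-- Split case: a root gives a factorization of every companion matrix. -/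
theorem factor_of_split (α s γ : F) (hs : s ^ 2 - α * s + 1 = 0) :
    ∃ A B : SL2 F, tr A = α ∧ tr B = α ∧ A * B = cp γ := by
  have hs0 : s ≠ 0 := by
    rintro rfl
    simp at hs
  have hinv : s⁻¹ = α - s := by
    field_simp
    linear_combination hs
  refine factor_of_abc γ α 0 (-s) (α - s) α (by ring) ?_ (by ring)
  have : s * s⁻¹ = 1 := mul_inv_cancel₀ hs0
  rw [hinv] at this
  linear_combination this

/-- `q` is odd when `2 ≠ 0`. -/
theorem card_odd [Fintype F] (h2 : (2 : F) ≠ 0) : Fintype.card F % 2 = 1 := by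
  apply FiniteField.odd_card_of_char_ne_two
  intro h
  apply h2
  have : ((ringChar F : ℕ) : F) = 0 := ringChar.Nat.cast_ringChar
  rw [h] at this
  exact_mod_cast this

/-- The conic: `x² - γ x y + y² - α x + α y + 1` has a zero when `γ² ≠ 4`. -/
theorem conic_solution [Fintype F] (h2 : (2 : F) ≠ 0) (α γ : F) (hγ : γ ^ 2 ≠ 4) :
    ∃ a b : F, a ^ 2 - γ * a * b + b ^ 2 - α * a + α * b + 1 = 0 := by
  obtain ⟨e, h2e⟩ : ∃ e : F, 2 * e = 1 := ⟨2⁻¹, mul_inv_cancel₀ h2⟩
  have hc : 1 - γ ^ 2 * e ^ 2 ≠ 0 := by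
    intro h
    apply hγ
    have h4e : 4 * e ^ 2 = 1 := by linear_combination (2 * e + 1) * h2e
    linear_combination (-4 : F) * h - γ ^ 2 * h4e
  let f : F[X] := X ^ 2 - C α * X
  let g : F[X] := C (1 - γ ^ 2 * e ^ 2) * X ^ 2 + C (α * (1 - γ * e)) * X + C 1
  have hf : f.degree = 2 := by
    have : f = C 1 * X ^ 2 + C (-α) * X + C 0 := by
      simp [f, sub_eq_add_neg]
    rw [this]
    exact Polynomial.degree_quadratic one_ne_zero
  have hg : g.degree = 2 := Polynomial.degree_quadratic hc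
  obtain ⟨u, b, h⟩ := FiniteField.exists_root_sum_quadratic hf hg (card_odd h2)
  refine ⟨u + γ * e * b, b, ?_⟩
  simp only [f, g, eval_add, eval_sub, eval_mul, eval_pow, eval_X, eval_C] at h
  linear_combination h + (γ * u * b + γ ^ 2 * e * b ^ 2) * h2e

/-- Factorization in odd characteristic (`γ² ≠ 4`). -/
theorem factor_of_conic [Fintype F] (h2 : (2 : F) ≠ 0) (α γ : F) (hγ : γ ^ 2 ≠ 4) :
    ∃ A B : SL2 F, tr A = α ∧ tr B = α ∧ A * B = cp γ := by
  obtain ⟨a, b, h⟩ := conic_solution h2 α γ hγ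
  refine factor_of_abc γ α a b (α - a * γ + b) (α - a) (by ring) ?_ (by ring)
  linear_combination -h

/-- Factorization for `γ = -2`. -/
theorem factor_of_neg_two (h2 : (2 : F) ≠ 0) (α : F) (hα : α ≠ 0) :
    ∃ A B : SL2 F, tr A = α ∧ tr B = α ∧ A * B = cp (-2) := by
  refine factor_of_abc (-2) α (1 / (2 * α)) (-(1 / (2 * α))) (α - 1 / (2 * α) * (-2) + -(1 / (2 * α)))
    (α - 1 / (2 * α)) (by ring) ?_ (by ring)
  field_simp
  ring

section psl

variable [Fintype F]

/-- Squares of traces are invariants of classes of `PSL₂`. -/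
theorem tr_sq_of_isConj {G₁ G₂ : SL2 F} (h : IsConj (pi G₁) (pi G₂)) : tr G₁ ^ 2 = tr G₂ ^ 2 := by
  obtain ⟨c, hc⟩ := isConj_iff.mp h
  obtain ⟨C, rfl⟩ := pi_surj c
  have h1 : pi (C * G₁ * C⁻¹ * G₂⁻¹) = 1 := by
    simp only [map_mul, map_inv, hc, mul_inv_cancel]
  rw [pi_eq_one_iff] at h1
  have ht : tr (C * G₁ * C⁻¹) = tr G₁ := (tr_of_isConj (isConj_iff.mpr ⟨C, rfl⟩)).symm
  rcases h1 with h1 | h1
  · have h2 : C * G₁ * C⁻¹ = G₂ := mul_inv_eq_one.mp h1
    rw [← ht, h2]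
  · have h2 : C * G₁ * C⁻¹ = mone * G₂ := mul_inv_eq_iff_eq_mul.mp h1
    rw [← ht, h2, tr_mone_mul]
    ring

theorem sq_eq_four_iff (t : F) : t ^ 2 = 4 ↔ t = 2 ∨ t = -2 := by
  constructor
  · intro h
    have h1 : (t - 2) * (t + 2) = 0 := by linear_combination h
    rcases mul_eq_zero.mp h1 with h2 | h2
    · exact Or.inl (sub_eq_zero.mp h2)
    · exact Or.inr (eq_neg_of_add_eq_zero_left h2)
  · rintro (rfl | rfl) <;> ring

theorem not_scalar_of_pi_ne (G : SL2 F) (h : pi G ≠ 1) : ¬ IsScalar (G : M2 F) := by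
  intro hs
  exact h ((pi_eq_one_iff G).mpr ((scalar_iff G).mp hs))

/-- Normal form of a lift of a nonidentity element of `PSL₂`. -/
theorem normal_lift (a : PSL2 F) (ha : a ≠ 1) :
    ∃ A : SL2 F, pi A = a ∧ (tr A ^ 2 ≠ 4 ∨ ∃ s : F, s ≠ 0 ∧ IsConj A (tv s)) := by
  obtain ⟨A, rfl⟩ := pi_surj a
  by_cases h : tr A ^ 2 = 4
  · rcases (sq_eq_four_iff _).mp h with h2 | h2
    · refine ⟨A, rfl, Or.inr ?_⟩
      apply conj_tv_of_tr_two A h2
      rintro rfl
      exact ha (map_one _)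
    · refine ⟨mone * A, pi_mone_mul A, Or.inr ?_⟩
      apply conj_tv_of_tr_two
      · rw [tr_mone_mul, h2]; ring
      · intro h3
        apply ha
        rw [pi_eq_one_iff]
        right
        have h4 : A = mone⁻¹ := eq_inv_of_mul_eq_one_right h3
        rw [h4]
        exact inv_eq_of_mul_eq_one_left mone_mul_mone
  · exact ⟨A, rfl, Or.inl h⟩

/-- Macbeath: prescribed traces. -/
theorem macbeath (α β γ : F) (hα : α ^ 2 ≠ 4) :
    ∃ B : SL2 F, tr B = β ∧ tr (cp α * B) = γ := by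
  have key : ∃ x z : F, x ^ 2 + α * x * z + z ^ 2 - β * x + (γ - α * β) * z + 1 = 0 := by
    by_cases h2 : (2 : F) = 0
    · have hα0 : α ≠ 0 := by
        rintro rfl
        apply hα
        have : (4 : F) = 2 * 2 := by norm_num
        rw [this, h2]
        ring
      have hchar : ringChar F = 2 := by
        have h3 : ((2 : ℕ) : F) = 0 := by exact_mod_cast h2
        have h4 : ringChar F ∣ 2 := (ringChar.spec F 2).mp h3
        have hpp : (ringChar F).Prime := by
          obtain ⟨p, hp⟩ := CharP.exists F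
          rw [ringChar.eq F p]
          exact CharP.char_is_prime F p
        exact (Nat.prime_dvd_prime_iff_eq hpp Nat.prime_two).mp h4
      obtain ⟨x, hx⟩ := FiniteField.isSquare_of_char_two hchar
        (-((β / α) ^ 2 + (γ - α * β) * (β / α) + 1))
      refine ⟨x, β / α, ?_⟩
      have h3 : α * (β / α) = β := by field_simp
      have h5 : x ^ 2 = -((β / α) ^ 2 + (γ - α * β) * (β / α) + 1) := by rw [hx]; ring
      linear_combination h5 + x * h3
    · obtain ⟨e, h2e⟩ : ∃ e : F, 2 * e = 1 := ⟨2⁻¹, mul_inv_cancel₀ h2⟩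
      have hc : 1 - α ^ 2 * e ^ 2 ≠ 0 := by
        intro h
        apply hα
        have h4e : 4 * e ^ 2 = 1 := by linear_combination (2 * e + 1) * h2e
        linear_combination (-4 : F) * h - α ^ 2 * h4e
      let f : F[X] := X ^ 2 - C β * X
      let g : F[X] := C (1 - α ^ 2 * e ^ 2) * X ^ 2 + C (γ - α * β * e) * X + C 1
      have hf : f.degree = 2 := by
        have : f = C 1 * X ^ 2 + C (-β) * X + C 0 := by
          simp [f, sub_eq_add_neg]
        rw [this]
        exact Polynomial.degree_quadratic one_ne_zero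
      have hg : g.degree = 2 := Polynomial.degree_quadratic hc
      obtain ⟨u, z, h⟩ := FiniteField.exists_root_sum_quadratic hf hg (card_odd h2)
      refine ⟨u - α * e * z, z, ?_⟩
      simp only [f, g, eval_add, eval_sub, eval_mul, eval_pow, eval_X, eval_C] at h
      linear_combination h + (-α * u * z + α ^ 2 * e * z ^ 2 + α * β * z) * h2e
  obtain ⟨x, z, h⟩ := key
  refine ⟨mk x (γ + z - α * (β - x)) z (β - x) ?_, ?_, ?_⟩
  · linear_combination -h
  · simp [tr]
  · simp only [tr, sl_mul00, sl_mul11, mk00, mk01, mk10, mk11, cp00, cp01, cp10, cp11]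
    ring

/-- Two values with different squares away from a given value. -/
theorem two_values (h4 : 4 ≤ Fintype.card F) (β : F) :
    ∃ r₁ r₂ : F, r₁ ≠ β ∧ r₂ ≠ β ∧ r₁ ^ 2 ≠ r₂ ^ 2 := by
  classical
  by_cases hβ : β = 0
  · subst hβ
    obtain ⟨r, -, hr⟩ := Finset.exists_mem_notMem_of_card_lt_card
      (s := ({0, 1, -1} : Finset F)) (t := Finset.univ) (by
        rw [Finset.card_univ]
        have := Finset.card_le_three (a := (0 : F)) (b := 1) (c := -1)
        omega)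
    simp only [Finset.mem_insert, Finset.mem_singleton, not_or] at hr
    refine ⟨1, r, one_ne_zero, hr.1, ?_⟩
    intro h
    have h5 : (r - 1) * (r + 1) = 0 := by linear_combination -h
    rcases mul_eq_zero.mp h5 with h6 | h6
    · exact hr.2.1 (sub_eq_zero.mp h6)
    · exact hr.2.2 (eq_neg_of_add_eq_zero_left h6)
  · obtain ⟨r, -, hr⟩ := Finset.exists_mem_notMem_of_card_lt_card
      (s := ({0, β} : Finset F)) (t := Finset.univ) (by
        rw [Finset.card_univ]
        have := Finset.card_le_two (a := (0 : F)) (b := β)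
        omega)
    simp only [Finset.mem_insert, Finset.mem_singleton, not_or] at hr
    refine ⟨0, r, Ne.symm hβ, hr.2, ?_⟩
    intro h
    apply hr.1
    have : r ^ 2 = 0 := by rw [← h]; ring
    simpa using this

/-- Unipotent-unipotent case. -/
theorem two_unip (h4 : 4 ≤ Fintype.card F) (k : F) (hk : k ≠ 0) :
    ∃ e₁ e₂ : F, e₁ ≠ 0 ∧ e₂ ≠ 0 ∧ (2 - k * e₁ ^ 2) ^ 2 ≠ (2 - k * e₂ ^ 2) ^ 2 := by
  classical
  obtain ⟨e, -, hr⟩ := Finset.exists_mem_notMem_of_card_lt_card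
      (s := ({0, 1, -1} : Finset F)) (t := Finset.univ) (by
        rw [Finset.card_univ]
        have := Finset.card_le_three (a := (0 : F)) (b := 1) (c := -1)
        omega)
  simp only [Finset.mem_insert, Finset.mem_singleton, not_or] at hr
  obtain ⟨he0, he1, he2⟩ := hr
  have hsq : e ^ 2 ≠ 1 := by
    intro h
    have h5 : (e - 1) * (e + 1) = 0 := by linear_combination h
    rcases mul_eq_zero.mp h5 with h6 | h6
    · exact he1 (sub_eq_zero.mp h6)
    · exact he2 (eq_neg_of_add_eq_zero_left h6)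
  by_contra hcon
  push Not at hcon
  have h1 := hcon 1 e one_ne_zero he0
  have h2 := hcon 1 (e ^ 2) one_ne_zero (pow_ne_zero 2 he0)
  have h3 : k * (1 - e ^ 2) * (4 - k - k * e ^ 2) = 0 := by linear_combination -h1
  have h5 : k * (1 - e ^ 4) * (4 - k - k * e ^ 4) = 0 := by linear_combination -h2
  have hne : 1 - e ^ 2 ≠ 0 := sub_ne_zero.mpr (Ne.symm hsq)
  have h6 : 4 - k - k * e ^ 2 = 0 := by
    rcases mul_eq_zero.mp h3 with h7 | h7
    · rcases mul_eq_zero.mp h7 with h8 | h8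
      · exact absurd h8 hk
      · exact absurd h8 hne
    · exact h7
  have h7 : 1 - e ^ 4 = 0 ∨ 4 - k - k * e ^ 4 = 0 := by
    rcases mul_eq_zero.mp h5 with h7 | h7
    · rcases mul_eq_zero.mp h7 with h8 | h8
      · exact absurd h8 hk
      · exact Or.inl h8
    · exact Or.inr h7
  rcases h7 with h7 | h7
  · have h8 : (1 - e ^ 2) * (1 + e ^ 2) = 0 := by linear_combination h7
    have h9 : 1 + e ^ 2 = 0 := (mul_eq_zero.mp h8).resolve_left hne
    have h10 : (4 : F) = 0 := by linear_combination h6 + k * h9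
    have h11 : (2 : F) = 0 := by
      have : (2 : F) * 2 = 0 := by linear_combination h10
      simpa using this
    apply hsq
    linear_combination h9 - h11
  · have h8 : k * (e ^ 2 * (1 - e ^ 2)) = 0 := by linear_combination h7 - h6
    have h9 : e ^ 2 * (1 - e ^ 2) = 0 := (mul_eq_zero.mp h8).resolve_left hk
    rcases mul_eq_zero.mp h9 with h10 | h10
    · exact he0 (by simpa using h10)
    · exact hne h10

/-- The element with lower-left entry. -/
def low (r : F) : SL2 F := mk 1 0 r 1 (by ring)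

theorem conj_low (t e : F) (he : e ≠ 0) : IsConj (tv t) (low (-(e ^ 2 * t))) := by
  apply isConj_of (tv t) (low (-(e ^ 2 * t))) (mk 0 (-e⁻¹) e 0 (by field_simp; ring))
  apply sl_ext <;> simp [sl_mul00, sl_mul01, sl_mul10, sl_mul11, low]
  field_simp

/-- An element with prescribed lower-left entry and trace. -/
def el (z β : F) (hz : z ≠ 0) : SL2 F := mk 0 (-z⁻¹) z β (by field_simp; ring)

theorem tr_el (z β : F) (hz : z ≠ 0) : tr (el z β hz) = β := by
  simp [tr, el]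

theorem tr_el_mul_tv (z β s : F) (hz : z ≠ 0) : tr (el z β hz * tv s) = z * s + β := by
  simp [tr, el, sl_mul00, sl_mul11]

theorem tr_tv_mul_el (z β s : F) (hz : z ≠ 0) : tr (tv s * el z β hz) = z * s + β := by
  rw [tr_mul_comm, tr_el_mul_tv]

theorem tr_tv_mul_low (s r : F) : tr (tv s * low r) = 2 + s * r := by
  simp [tr, low, sl_mul00, sl_mul11]
  ring

/-- Products of two nontrivial classes take two trace-squares. -/
theorem exists_two_traces (h4 : 4 ≤ Fintype.card F) (A B : SL2 F)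
    (hA : tr A ^ 2 ≠ 4 ∨ ∃ s : F, s ≠ 0 ∧ IsConj A (tv s))
    (hB : tr B ^ 2 ≠ 4 ∨ ∃ s : F, s ≠ 0 ∧ IsConj B (tv s)) :
    ∃ A₁ A₂ B₁ B₂ : SL2 F, IsConj A A₁ ∧ IsConj A A₂ ∧ IsConj B B₁ ∧ IsConj B B₂ ∧
      tr (A₁ * B₁) ^ 2 ≠ tr (A₂ * B₂) ^ 2 := by
  rcases hA with hα | ⟨s, hs, hAs⟩ <;> rcases hB with hβ | ⟨t, ht, hBt⟩
  · obtain ⟨B₁, h1, h2⟩ := macbeath (tr A) (tr B) 0 hα
    obtain ⟨B₂, h3, h4'⟩ := macbeath (tr A) (tr B) 1 hα
    have hc : IsConj A (cp (tr A)) := conj_of_trace _ _ (tr_cp _).symm hα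
    refine ⟨cp (tr A), cp (tr A), B₁, B₂, hc, hc, conj_of_trace _ _ h1.symm hβ,
      conj_of_trace _ _ h3.symm hβ, ?_⟩
    rw [h2, h4']
    simp
  · obtain ⟨r₁, r₂, h1, h2, h3⟩ := two_values h4 (tr A)
    have hz : ∀ r : F, r ≠ tr A → (r - tr A) / t ≠ 0 := fun r hr =>
      div_ne_zero (sub_ne_zero.mpr hr) ht
    refine ⟨el _ (tr A) (hz r₁ h1), el _ (tr A) (hz r₂ h2), tv t, tv t,
      conj_of_trace _ _ (tr_el _ _ _).symm hα, conj_of_trace _ _ (tr_el _ _ _).symm hα, hBt, hBt, ?_⟩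
    rw [tr_el_mul_tv, tr_el_mul_tv]
    have e : ∀ r : F, (r - tr A) / t * t + tr A = r := by
      intro r
      field_simp
      ring
    rw [e, e]
    exact h3
  · obtain ⟨r₁, r₂, h1, h2, h3⟩ := two_values h4 (tr B)
    have hz : ∀ r : F, r ≠ tr B → (r - tr B) / s ≠ 0 := fun r hr =>
      div_ne_zero (sub_ne_zero.mpr hr) hs
    refine ⟨tv s, tv s, el _ (tr B) (hz r₁ h1), el _ (tr B) (hz r₂ h2), hAs, hAs,
      conj_of_trace _ _ (tr_el _ _ _).symm hβ, conj_of_trace _ _ (tr_el _ _ _).symm hβ, ?_⟩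
    rw [tr_tv_mul_el, tr_tv_mul_el]
    have e : ∀ r : F, (r - tr B) / s * s + tr B = r := by
      intro r
      field_simp
      ring
    rw [e, e]
    exact h3
  · obtain ⟨e₁, e₂, h1, h2, h3⟩ := two_unip h4 (s * t) (mul_ne_zero hs ht)
    refine ⟨tv s, tv s, low (-(e₁ ^ 2 * t)), low (-(e₂ ^ 2 * t)), hAs, hAs,
      hBt.trans (conj_low t e₁ h1), hBt.trans (conj_low t e₂ h2), ?_⟩
    rw [tr_tv_mul_low, tr_tv_mul_low]
    intro h5
    apply h3
    linear_combination h5

/-- The Arad-Herzog property for `PSL₂`. -/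
theorem arad_herzog (h4 : 4 ≤ Fintype.card F) (a b c : PSL2 F) (ha : a ≠ 1) (hb : b ≠ 1) :
    {g : PSL2 F | ∃ u v : PSL2 F, g = (u * a * u⁻¹) * (v * b * v⁻¹)} ≠ {g | IsConj c g} := by
  intro heq
  obtain ⟨A, rfl, hA⟩ := normal_lift a ha
  obtain ⟨B, rfl, hB⟩ := normal_lift b hb
  obtain ⟨A₁, A₂, B₁, B₂, h1, h2, h3, h5, h6⟩ := exists_two_traces h4 A B hA hB
  have key : ∀ A' B' : SL2 F, IsConj A A' → IsConj B B' → IsConj c (pi (A' * B')) := by
    intro A' B' hA' hB'
    obtain ⟨U, rfl⟩ := isConj_iff.mp hA'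
    obtain ⟨V, rfl⟩ := isConj_iff.mp hB'
    have : pi ((U * A * U⁻¹) * (V * B * V⁻¹)) ∈
        {g : PSL2 F | ∃ u v : PSL2 F, g = (u * pi A * u⁻¹) * (v * pi B * v⁻¹)} :=
      ⟨pi U, pi V, by simp only [map_mul, map_inv]⟩
    rw [heq] at this
    exact this
  have h7 := (key A₁ B₁ h1 h3).symm.trans (key A₂ B₂ h2 h5)
  exact h6 (tr_sq_of_isConj h7)

/-- Covering by the square of a class, odd characteristic. -/
theorem square_class_odd (p : ℕ) [hp : Fact p.Prime] [CharP F p] (hp2 : p ≠ 2) (x : PSL2 F)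
    (hx2 : 2 < orderOf x) (hxp : ¬ p ∣ orderOf x) (g : PSL2 F) (hg : g ≠ 1) :
    ∃ u v : PSL2 F, g = (u * x * u⁻¹) * (v * x * v⁻¹) := by
  have h2F : (2 : F) ≠ 0 := two_ne_zero_of_char hp2 hp.out
  obtain ⟨X, rfl⟩ := pi_surj x
  have hX4 : tr X ^ 2 ≠ 4 := by
    intro h
    have h1 : (pi X) ^ p = 1 := by
      rcases (sq_eq_four_iff _).mp h with h2 | h2
      · rw [← map_pow, pow_p_of_tr_two X h2, map_one]
      · have h3 : tr (mone * X) = 2 := by rw [tr_mone_mul, h2]; ring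
        rw [← pi_mone_mul X, ← map_pow, pow_p_of_tr_two _ h3, map_one]
    have h3 := orderOf_dvd_of_pow_eq_one h1
    rcases (Nat.dvd_prime hp.out).mp h3 with h4 | h4
    · omega
    · exact hxp (by rw [h4])
  have hX0 : tr X ≠ 0 := by
    intro h
    have h1 : X * X = mone := by
      apply Subtype.ext
      have h3 := cayley X
      rw [h, zero_smul, zero_sub] at h3
      rw [Matrix.SpecialLinearGroup.coe_mul, h3]
      apply m2_ext <;> simp [mone]
    have h3 : pi X ^ 2 = 1 := by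
      rw [pi_pow_eq_one_iff, pow_two]
      exact Or.inr h1
    have := orderOf_le_of_pow_eq_one (by norm_num) h3
    omega
  obtain ⟨G, hG, hG4⟩ : ∃ G : SL2 F, pi G = g ∧ (tr G = -2 ∨ tr G ^ 2 ≠ 4) := by
    obtain ⟨G, rfl⟩ := pi_surj g
    by_cases h : tr G ^ 2 = 4
    · rcases (sq_eq_four_iff _).mp h with h2 | h2
      · exact ⟨mone * G, pi_mone_mul G, Or.inl (by rw [tr_mone_mul, h2])⟩
      · exact ⟨G, rfl, Or.inl h2⟩
    · exact ⟨G, rfl, Or.inr h⟩
  subst hG
  have hns := not_scalar_of_pi_ne G hg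
  obtain ⟨A, B, hA, hB, hAB⟩ : ∃ A B : SL2 F, tr A = tr X ∧ tr B = tr X ∧ A * B = cp (tr G) := by
    rcases hG4 with h | h
    · rw [h]
      exact factor_of_neg_two h2F _ hX0
    · exact factor_of_conic h2F _ _ h
  obtain ⟨U, V, h⟩ := prod_of_cp G hns A B X hAB hA hB hX4
  refine ⟨pi U, pi V, ?_⟩
  nth_rewrite 1 [h]
  simp only [map_mul, map_inv]

/-- Covering by the square of a class, even characteristic. -/
theorem square_class_even [CharP F 2] (x : PSL2 F)
    (hx2 : 2 < orderOf x) (hxq : ¬ orderOf x ∣ Fintype.card F + 1) (g : PSL2 F) (hg : g ≠ 1) :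
    ∃ u v : PSL2 F, g = (u * x * u⁻¹) * (v * x * v⁻¹) := by
  haveI : Fact (Nat.Prime 2) := ⟨Nat.prime_two⟩
  have h2F : (2 : F) = 0 := two_eq_zero_of_char_two
  obtain ⟨X, rfl⟩ := pi_surj x
  have hle : ¬ (pi X) ^ 2 = 1 := by
    intro h3
    have := orderOf_le_of_pow_eq_one (by norm_num) h3
    omega
  obtain ⟨u, hu, hc⟩ : ∃ u : Fˣ, (u : F) ^ 2 ≠ 1 ∧ IsConj X (dg u) := by
    rcases trichotomy X with h | h | h | h
    · exfalso
      apply hle
      rw [← map_pow, pow_p_of_tr_two X h, map_one]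
    · exfalso
      apply hle
      have h3 : tr X = 2 := by rw [h, h2F]; ring
      rw [← map_pow, pow_p_of_tr_two X h3, map_one]
    · exact h
    · exfalso
      apply hxq
      apply orderOf_dvd_of_pow_eq_one
      rw [← map_pow, nonsplit_pow X h, map_one]
  have ht : tr X = u + ((u⁻¹ : Fˣ) : F) := by rw [tr_of_isConj hc, tr_dg]
  have hinv : (u : F) * ((u⁻¹ : Fˣ) : F) = 1 := by simp
  have hX4 : tr X ^ 2 ≠ 4 := by
    intro h
    apply hu
    have h4 : (4 : F) = 0 := by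
      have : (4 : F) = 2 * 2 := by norm_num
      rw [this, h2F]
      ring
    rw [h4, ht] at h
    have h5 : (u : F) + ((u⁻¹ : Fˣ) : F) = 0 := by simpa using h
    have h6 : ((u⁻¹ : Fˣ) : F) = (u : F) := by linear_combination h5 - (u : F) * 1 * h2F
    rw [h6] at hinv
    linear_combination hinv
  have hroot : (u : F) ^ 2 - tr X * u + 1 = 0 := by
    rw [ht]
    linear_combination -hinv
  obtain ⟨G, rfl⟩ := pi_surj g
  have hns := not_scalar_of_pi_ne G hg
  obtain ⟨A, B, hA, hB, hAB⟩ := factor_of_split (tr X) u (tr G) hroot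
  obtain ⟨U, V, h⟩ := prod_of_cp G hns A B X hAB hA hB hX4
  refine ⟨pi U, pi V, ?_⟩
  nth_rewrite 1 [h]
  simp only [map_mul, map_inv]

end psl

end Cfsg.Agent.Lib.H1PSL2P
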