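import Cfsg.Agent.Lib.H1Small2
import Cfsg.Agent.Lib.SLGen
import Cfsg.Agent.Lib.H1SL2
import Cfsg.Agent.Lib.ClassicalBasic

/-!
# Rigidity of `PSL(2,q)` on the projective line: a finite check
-/

set_option autoImplicit false
set_option linter.unusedVariables false
set_option linter.unusedSectionVars false
set_option linter.style.longLine false

open Equiv

namespace Cfsg.Agent.Lib.H1Rigid

section Check

/-- Discrete logarithm search. -/
def fnd {q : ℕ} (r : ZMod q) (m : ℕ) (a x : ZMod q) : Option ℕ :=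
  (List.range m).find? (fun i => decide (r ^ i * a = x))

/-- The candidate permutation on nonzero residues. -/
def cand {q : ℕ} (r n : ZMod q) (m : ℕ) (s u v x : ZMod q) : ZMod q :=
  match fnd r m 1 x with
  | some i => s ^ i * u
  | none =>
    match fnd r m n x with
    | some i => s ^ i * v
    | none => 0

/-- The candidate permutation of the projective line. -/
def Wc {q : ℕ} (r n : ZMod q) (m : ℕ) (s u v : ZMod q) : Option (ZMod q) → Option (ZMod q)
  | none => some 0
  | some x => if x = 0 then none else some (cand r n m s u v x)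

/-- The word `W τ^{-W y} W τ^y W`. -/
def gy {q : ℕ} (r n : ZMod q) (m : ℕ) (s u v y : ZMod q) (x : Option (ZMod q)) : Option (ZMod q) :=
  Wc r n m s u v ((Wc r n m s u v ((Wc r n m s u v x).map (· + y))).map (· - cand r n m s u v y))

/-- The word is affine with a square multiplier. -/
def testy {q : ℕ} [NeZero q] (r n : ZMod q) (m : ℕ) (s u v y : ZMod q) : Bool :=
  match gy r n m s u v y (some 0), gy r n m s u v y (some 1) with
  | some a, some b =>
      decide ((b - a) ^ m = 1) && decide (∀ x : ZMod q, gy r n m s u v y (some x) = some ((b - a) * x + a))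
  | _, _ => false

/-- The finite check: the only candidates surviving are `x ↦ u / x` with `-u` a square. -/
def Chk (q : ℕ) [NeZero q] (r n : ZMod q) (m : ℕ) (b : ZMod q) : Prop :=
  ∀ s : ZMod q, s ^ m = 1 → s ≠ b → ∀ u : ZMod q, u ≠ 0 → ∀ v : ZMod q, v ≠ 0 →
    (∀ y : ZMod q, y ≠ 0 → testy r n m s u v y = true) →
    (-u) ^ m = 1 ∧ ∀ x : ZMod q, x ≠ 0 → cand r n m s u v x * x = u

instance instChk (q : ℕ) [NeZero q] (r n : ZMod q) (m : ℕ) (b : ZMod q) : Decidable (Chk q r n m b) := by
  unfold Chk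
  infer_instance

end Check

section Model

variable {q : ℕ} [hq : Fact q.Prime]

instance instNZ : NeZero q := ⟨hq.out.ne_zero⟩

/-- Affine permutations of the projective line. -/
def aff (c : (ZMod q)ˣ) (a : ZMod q) : Perm (Option (ZMod q)) where
  toFun x := x.map (fun y => (c : ZMod q) * y + a)
  invFun x := x.map (fun y => ((c⁻¹ : (ZMod q)ˣ) : ZMod q) * (y - a))
  left_inv := by
    rintro (_ | y)
    · rfl
    · change some (((c⁻¹ : (ZMod q)ˣ) : ZMod q) * ((c : ZMod q) * y + a - a)) = some y
      rw [add_sub_cancel_right, Units.inv_mul_cancel_left]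
  right_inv := by
    rintro (_ | y)
    · rfl
    · change some ((c : ZMod q) * (((c⁻¹ : (ZMod q)ˣ) : ZMod q) * (y - a)) + a) = some y
      rw [Units.mul_inv_cancel_left, sub_add_cancel]

@[simp] theorem aff_none (c : (ZMod q)ˣ) (a : ZMod q) : aff c a none = none := rfl
@[simp] theorem aff_some (c : (ZMod q)ˣ) (a x : ZMod q) : aff c a (some x) = some ((c : ZMod q) * x + a) := rfl

theorem aff_ext {c c' : (ZMod q)ˣ} {a a' : ZMod q} (h : aff c a = aff c' a') : c = c' ∧ a = a' := by
  have h0 := congrArg (fun s : Perm (Option (ZMod q)) => s (some 0)) h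
  have h1 := congrArg (fun s : Perm (Option (ZMod q)) => s (some 1)) h
  simp only [aff_some, mul_zero, zero_add, mul_one, Option.some.injEq] at h0 h1
  subst h0
  refine ⟨Units.ext (by simpa using h1), rfl⟩

theorem aff_mul (c c' : (ZMod q)ˣ) (a a' : ZMod q) :
    aff c a * aff c' a' = aff (c * c') ((c : ZMod q) * a' + a) := by
  ext1 x
  rcases x with _ | y
  · rfl
  · simp only [Perm.mul_apply, aff_some, Units.val_mul, Option.some.injEq]
    ring

theorem aff_one : aff (1 : (ZMod q)ˣ) (0 : ZMod q) = 1 := by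
  ext1 x
  rcases x with _ | y
  · rfl
  · simp

theorem aff_pow (c : (ZMod q)ˣ) (a : ZMod q) (n : ℕ) : ∃ b, (aff c a) ^ n = aff (c ^ n) b := by
  induction n with
  | zero => exact ⟨0, by simp [aff_one]⟩
  | succ k ih =>
    obtain ⟨b, hb⟩ := ih
    refine ⟨((c ^ k : (ZMod q)ˣ) : ZMod q) * a + b, ?_⟩
    rw [pow_succ, hb, aff_mul, pow_succ]

theorem unit_pow_eq_one_of_aff_pow {c : (ZMod q)ˣ} {a : ZMod q} {n : ℕ} (h : (aff c a) ^ n = 1) :
    c ^ n = 1 := by
  obtain ⟨b, hb⟩ := aff_pow c a n
  rw [h, ← aff_one] at hb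
  exact (aff_ext hb).1.symm

theorem aff_one_pow (n : ℕ) : (aff (1 : (ZMod q)ˣ) (1 : ZMod q)) ^ n = aff (1 : (ZMod q)ˣ) (n : ZMod q) := by
  induction n with
  | zero => simp [aff_one]
  | succ k ih =>
    rw [pow_succ, ih, aff_mul]
    simp
    ring_nf

theorem aff_eq_mul (c : (ZMod q)ˣ) (a : ZMod q) :
    aff c a = (aff (1 : (ZMod q)ˣ) (1 : ZMod q)) ^ a.val * aff c 0 := by
  rw [aff_one_pow, aff_mul]
  simp

/-- The map `x ↦ -1/x`. -/
def W0fun : Option (ZMod q) → Option (ZMod q)
  | none => some 0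
  | some x => if x = 0 then none else some (-x⁻¹)

/-- The permutation `x ↦ -1/x`. -/
def W0 : Perm (Option (ZMod q)) where
  toFun := W0fun
  invFun := W0fun
  left_inv := by
    rintro (_ | x)
    · simp [W0fun]
    · by_cases hx : x = 0
      · simp [W0fun, hx]
      · simp [W0fun, hx]
  right_inv := by
    rintro (_ | x)
    · simp [W0fun]
    · by_cases hx : x = 0
      · simp [W0fun, hx]
      · simp [W0fun, hx]

@[simp] theorem W0_none : (W0 : Perm (Option (ZMod q))) none = some 0 := rfl
@[simp] theorem W0_zero : (W0 : Perm (Option (ZMod q))) (some 0) = none := by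
  simp [W0, W0fun]
theorem W0_some {x : ZMod q} (hx : x ≠ 0) : (W0 : Perm (Option (ZMod q))) (some x) = some (-x⁻¹) := by
  simp [W0, W0fun, hx]

variable (q) in
/-- The model of `PSL(2,q)` acting on the projective line. -/
def S0 : Subgroup (Perm (Option (ZMod q))) :=
  Subgroup.closure ({aff 1 1} ∪ {s | ∃ c : (ZMod q)ˣ, c ^ ((q - 1) / 2) = 1 ∧ s = aff c 0} ∪ {W0})

/-- Properties of a permutation group on the projective line. -/
structure IsModel (R : Subgroup (Perm (Option (ZMod q)))) : Prop where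
  T : aff 1 1 ∈ R
  M : ∀ c : (ZMod q)ˣ, c ^ ((q - 1) / 2) = 1 → aff c 0 ∈ R
  stab : ∀ s ∈ R, s none = none → ∃ c : (ZMod q)ˣ, c ^ ((q - 1) / 2) = 1 ∧ ∃ a, s = aff c a
  swap : ∃ W ∈ R, W none = some 0 ∧ W (some 0) = none

theorem eq_S0_of_W0_mem {R : Subgroup (Perm (Option (ZMod q)))} (h : IsModel R) (hW0 : W0 ∈ R) : R = S0 q := by
  have hT0 : aff 1 1 ∈ S0 q := Subgroup.subset_closure (Or.inl (Or.inl rfl))
  have hM0 : ∀ c : (ZMod q)ˣ, c ^ ((q - 1) / 2) = 1 → aff c 0 ∈ S0 q := fun c hc =>
    Subgroup.subset_closure (Or.inl (Or.inr ⟨c, hc, rfl⟩))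
  have hW0' : W0 ∈ S0 q := Subgroup.subset_closure (Or.inr rfl)
  have hA : ∀ c : (ZMod q)ˣ, c ^ ((q - 1) / 2) = 1 → ∀ a, aff c a ∈ S0 q := by
    intro c hc a
    rw [aff_eq_mul]
    exact mul_mem (pow_mem hT0 _) (hM0 c hc)
  have hAR : ∀ a : ZMod q, aff (1 : (ZMod q)ˣ) a ∈ R := by
    intro a
    have := aff_eq_mul (1 : (ZMod q)ˣ) a
    rw [this, aff_one, mul_one]
    exact pow_mem h.T _
  apply le_antisymm
  · intro s hs
    rcases hsn : s none with _ | b
    · obtain ⟨c, hc, a, rfl⟩ := h.stab s hs hsn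
      exact hA c hc a
    · -- move `b` to `0` and then `0` to `∞`
      set t : Perm (Option (ZMod q)) := W0⁻¹ * (aff (1 : (ZMod q)ˣ) b)⁻¹ * s with ht
      have htR : t ∈ R := mul_mem (mul_mem (inv_mem hW0) (inv_mem (hAR b))) hs
      have htn : t none = none := by
        simp only [ht, Perm.mul_apply, hsn]
        rw [Perm.inv_eq_iff_eq]
        rw [W0_none, Perm.inv_eq_iff_eq]
        simp
      obtain ⟨c, hc, a, hta⟩ := h.stab t htR htn
      have hs' : s = aff (1 : (ZMod q)ˣ) b * W0 * t := by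
        rw [ht]
        group
      rw [hs', hta]
      exact mul_mem (mul_mem (hA 1 (one_pow _) b) hW0') (hA c hc a)
  · refine (Subgroup.closure_le _).mpr ?_
    rintro s ((rfl | ⟨c, hc, rfl⟩) | rfl)
    · exact h.T
    · exact h.M c hc
    · exact hW0

/-- The scaling property of `W`. -/
theorem swap_scale {R : Subgroup (Perm (Option (ZMod q)))} (h : IsModel R) {W : Perm (Option (ZMod q))} (hW : W ∈ R)
    (h1 : W none = some 0) (h2 : W (some 0) = none) (r : (ZMod q)ˣ) (hr : r ^ ((q - 1) / 2) = 1) :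
    ∃ s : (ZMod q)ˣ, s ^ ((q - 1) / 2) = 1 ∧ W * aff r 0 = aff s 0 * W := by
  have h1' : W⁻¹ (some 0) = none := by
    rw [Perm.inv_eq_iff_eq]
    exact h1.symm
  have h2' : W⁻¹ none = some 0 := by
    rw [Perm.inv_eq_iff_eq]
    exact h2.symm
  set t : Perm (Option (ZMod q)) := W * aff r 0 * W⁻¹ with ht
  have htR : t ∈ R := mul_mem (mul_mem hW (h.M r hr)) (inv_mem hW)
  have htn : t none = none := by
    simp only [ht, Perm.mul_apply, h2', aff_some, mul_zero, add_zero, h2]
  obtain ⟨s, hs, a, hta⟩ := h.stab t htR htn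
  have ht0 : t (some 0) = some 0 := by
    simp only [ht, Perm.mul_apply, h1', aff_none, h1]
  have ha : a = 0 := by
    rw [hta, aff_some] at ht0
    simpa using ht0
  subst ha
  refine ⟨s, hs, ?_⟩
  rw [← hta, ht]
  group

variable {r n : ZMod q} {m : ℕ}

theorem cand_spec {s : ZMod q} {w : ZMod q → ZMod q} (hr0 : r ≠ 0) (hn0 : n ≠ 0)
    (hs : ∀ x, x ≠ 0 → w (r * x) = s * w x)
    (hcover : ∀ x : ZMod q, x ≠ 0 → (∃ i < m, r ^ i * 1 = x) ∨ (∃ i < m, r ^ i * n = x))
    (x : ZMod q) (hx : x ≠ 0) : w x = cand r n m s (w 1) (w n) x := by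
  have key : ∀ (a : ZMod q), a ≠ 0 → ∀ i : ℕ, w (r ^ i * a) = s ^ i * w a := by
    intro a ha i
    induction i with
    | zero => simp
    | succ k ih =>
      have h0 : r ^ k * a ≠ 0 := mul_ne_zero (pow_ne_zero _ hr0) ha
      rw [pow_succ', mul_assoc, hs _ h0, ih, pow_succ']
      ring
  unfold cand fnd
  rcases hf : (List.range m).find? (fun i => decide (r ^ i * 1 = x)) with _ | i
  · simp only
    rcases hg : (List.range m).find? (fun i => decide (r ^ i * n = x)) with _ | j
    · exfalso
      rw [List.find?_eq_none] at hf hg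
      rcases hcover x hx with ⟨i, hi, hix⟩ | ⟨i, hi, hix⟩
      · exact hf i (List.mem_range.mpr hi) (by simpa using hix)
      · exact hg i (List.mem_range.mpr hi) (by simpa using hix)
    · simp only
      have := List.find?_some hg
      have hj : r ^ j * n = x := by simpa using this
      rw [← hj, key n hn0]
  · simp only
    have := List.find?_some hf
    have hj : r ^ i * 1 = x := by simpa using this
    rw [← hj, key 1 one_ne_zero]

/-- From the finite check to `W0 ∈ R`. -/
theorem W0_mem_of_chk {R : Subgroup (Perm (Option (ZMod q)))} (h : IsModel R)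
    (r n : (ZMod q)ˣ) (b : ZMod q) (hr : r ^ ((q - 1) / 2) = 1)
    (hcover : ∀ x : ZMod q, x ≠ 0 → (∃ i < (q - 1) / 2, (r : ZMod q) ^ i * 1 = x) ∨ (∃ i < (q - 1) / 2, (r : ZMod q) ^ i * n = x))
    (hb : ∀ W ∈ R, W none = some 0 → W (some 0) = none → ∀ s : (ZMod q)ˣ, W * aff r 0 = aff s 0 * W → (s : ZMod q) ≠ b)
    (hchk : Chk q (r : ZMod q) (n : ZMod q) ((q - 1) / 2) b) : W0 ∈ R := by
  obtain ⟨W, hW, h1, h2⟩ := h.swap
  obtain ⟨s, hs, hsW⟩ := swap_scale h hW h1 h2 r hr
  have hb' := hb W hW h1 h2 s hsW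
  -- the restriction of `W` to residues
  let w : ZMod q → ZMod q := fun x => (W (some x)).getD 0
  have hw : ∀ x, x ≠ 0 → W (some x) = some (w x) := by
    intro x hx
    rcases hWx : W (some x) with _ | y
    · exfalso
      apply hx
      have : W (some x) = W (some 0) := by rw [hWx, h2]
      simpa using W.injective this
    · simp [w, hWx]
  have hw0 : ∀ x, x ≠ 0 → w x ≠ 0 := by
    intro x hx h0
    have h3 : W (some x) = W none := by
      rw [hw x hx, h0, h1]
    have := W.injective h3
    simp at this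
  have hscale : ∀ x, x ≠ 0 → w ((r : ZMod q) * x) = (s : ZMod q) * w x := by
    intro x hx
    have h3 := congrArg (fun t : Perm (Option (ZMod q)) => t (some x)) hsW
    simp only [Perm.mul_apply, aff_some, add_zero, hw x hx] at h3
    have h4 : (r : ZMod q) * x ≠ 0 := mul_ne_zero r.ne_zero hx
    rw [hw _ h4] at h3
    simpa using h3
  have hc := fun x hx => cand_spec (m := (q - 1) / 2) r.ne_zero n.ne_zero hscale hcover x hx
  set u := w 1 with hu
  set v := w n with hv
  have hWc : ∀ x, Wc (r : ZMod q) (n : ZMod q) ((q - 1) / 2) (s : ZMod q) u v x = W x := by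
    rintro (_ | x)
    · exact h1.symm
    · by_cases hx : x = 0
      · subst hx
        simp [Wc, h2]
      · simp only [Wc, if_neg hx]
        rw [hw x hx, hc x hx]
  have hs' : (s : ZMod q) ^ ((q - 1) / 2) = 1 := by
    have := congrArg (fun t : (ZMod q)ˣ => (t : ZMod q)) hs
    simpa using this
  have hfinal := hchk (s : ZMod q) hs' hb' u (hw0 1 one_ne_zero) v (hw0 n n.ne_zero) (by
    intro y hy
    set c0 := cand (r : ZMod q) (n : ZMod q) ((q - 1) / 2) (s : ZMod q) u v y with hc0
    have hwy : w y = c0 := hc y hy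
    set g : Perm (Option (ZMod q)) := W * aff 1 (-c0) * W * aff 1 y * W with hg
    have hgR : g ∈ R := by
      have hA : ∀ a : ZMod q, aff (1 : (ZMod q)ˣ) a ∈ R := by
        intro a
        have := aff_eq_mul (1 : (ZMod q)ˣ) a
        rw [this, aff_one, mul_one]
        exact pow_mem h.T _
      exact mul_mem (mul_mem (mul_mem (mul_mem hW (hA _)) hW) (hA _)) hW
    have hgn : g none = none := by
      simp only [hg, Perm.mul_apply, h1, aff_some, Units.val_one, one_mul, zero_add]
      rw [hw y hy, hwy]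
      simp only [aff_some, Units.val_one, one_mul, add_neg_cancel, h2]
    obtain ⟨c, hcm, a, hga⟩ := h.stab g hgR hgn
    have hgy : ∀ x, gy (r : ZMod q) (n : ZMod q) ((q - 1) / 2) (s : ZMod q) u v y (some x) = some ((c : ZMod q) * x + a) := by
      intro x
      have h5 : g (some x) = some ((c : ZMod q) * x + a) := by rw [hga]; rfl
      rw [← h5]
      unfold gy
      simp only [hWc, hg, Perm.mul_apply]
      rcases W (some x) with _ | z
      · simp only [Option.map_none, aff_none, hWc]
        rcases W none with _ | t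
        · simp
        · simp only [Option.map_some, aff_some, Units.val_one, one_mul]
          congr 2
          ring
      · simp only [Option.map_some, aff_some, Units.val_one, one_mul, hWc]
        rcases W (some (z + y)) with _ | t
        · simp
        · simp only [Option.map_some, aff_some, Units.val_one, one_mul]
          congr 2
          ring
    have hcm' : (c : ZMod q) ^ ((q - 1) / 2) = 1 := by
      have := congrArg (fun t : (ZMod q)ˣ => (t : ZMod q)) hcm
      simpa using this
    unfold testy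
    rw [hgy 0, hgy 1]
    simp only [mul_zero, zero_add, mul_one, add_sub_cancel_right]
    simp only [Bool.and_eq_true, decide_eq_true_eq]
    exact ⟨hcm', hgy⟩)
  obtain ⟨hu1, hu2⟩ := hfinal
  have hu0 : u ≠ 0 := hw0 1 one_ne_zero
  -- `W0 = W ∘ (x ↦ -u x)`
  let c : (ZMod q)ˣ := Units.mk0 (-u) (neg_ne_zero.mpr hu0)
  have hcval : (c : ZMod q) = -u := rfl
  have hcm : c ^ ((q - 1) / 2) = 1 := by
    apply Units.ext
    simpa [hcval] using hu1
  have hW0eq : W0 = W * aff c 0 := by
    ext1 x
    rcases x with _ | x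
    · simp only [W0_none, Perm.mul_apply, aff_none, h1]
    · by_cases hx : x = 0
      · subst hx
        simp [h2]
      · rw [W0_some hx]
        simp only [Perm.mul_apply, aff_some, add_zero, hcval]
        have h5 : -u * x ≠ 0 := mul_ne_zero (neg_ne_zero.mpr hu0) hx
        rw [hw _ h5]
        have h6 := hu2 _ h5
        rw [← hc _ h5] at h6
        have h7 : w (-u * x) = -x⁻¹ := by
          apply mul_right_cancel₀ h5
          rw [h6]
          field_simp
        rw [h7]
  rw [hW0eq]
  exact mul_mem hW (h.M c hcm)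

end Model

section Action

variable {G : Type*} [Group G] [Finite G] {q : ℕ} [hq : Fact q.Prime]

open Cfsg.Agent.Lib.H1Small

/-- Free action of a subgroup of prime order on the other Sylow subgroups. -/
theorem free_action (P Q : Sylow q G) (hP : Nat.card (P : Subgroup G) = q) (hne : Q ≠ P) {τ : G}
    (hτ : τ ∈ (P : Subgroup G)) (hord : orderOf τ = q) (i : ℕ) (h : τ ^ i • Q = Q) : q ∣ i := by
  have h1 : τ ^ i ∈ Subgroup.normalizer ((Q : Subgroup G) : Set G) := (smul_eq_iff_mem_nrm Q _).mp h
  have h2 : τ ^ i ∈ (P : Subgroup G) := pow_mem hτ i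
  have h3 : τ ^ i ∈ (Q : Subgroup G) := mem_of_mem_nrm Q P.isPGroup' h2 h1
  by_contra hnd
  have h4 : τ ^ i ≠ 1 := fun h => hnd (hord ▸ orderOf_dvd_of_pow_eq_one h)
  have h5 := zpowers_eq_of_mem_prime_card (P : Subgroup G) hP h2 h4
  have h6 : (P : Subgroup G) ≤ Q := by
    rw [← h5]
    exact (Subgroup.zpowers_le).mpr h3
  have h7 : (P : Subgroup G) = Q := Subgroup.eq_of_le_of_card_ge h6 (card_sylow_eq Q P).le
  exact hne (Sylow.ext h7.symm)

/-- Labels. -/
def lab (P Q₀ : Sylow q G) (τ : G) : Option (ZMod q) → Sylow q G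
  | none => P
  | some i => τ ^ i.val • Q₀

theorem smul_self_of_mem (P : Sylow q G) {τ : G} (hτ : τ ∈ (P : Subgroup G)) : τ • P = P :=
  (smul_eq_iff_mem_nrm P τ).mpr (Subgroup.le_normalizer hτ)

theorem pow_smul_self_of_mem (P : Sylow q G) {τ : G} (hτ : τ ∈ (P : Subgroup G)) (i : ℕ) : τ ^ i • P = P :=
  smul_self_of_mem P (pow_mem hτ i)

theorem lab_bij (P Q₀ : Sylow q G) (hP : Nat.card (P : Subgroup G) = q) (hne : Q₀ ≠ P) {τ : G}
    (hτ : τ ∈ (P : Subgroup G)) (hord : orderOf τ = q) (hn : Nat.card (Sylow q G) = q + 1) :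
    Function.Bijective (lab P Q₀ τ) := by
  have hinj : Function.Injective (lab P Q₀ τ) := by
    have hsn : ∀ i : ZMod q, τ ^ i.val • Q₀ ≠ P := by
      intro i h
      apply hne
      have h1 := congrArg (fun R : Sylow q G => (τ ^ i.val)⁻¹ • R) h
      simp only [inv_smul_smul] at h1
      rw [h1, inv_smul_eq_iff, pow_smul_self_of_mem P hτ]
    have hss : ∀ a b : ℕ, a ≤ b → τ ^ a • Q₀ = τ ^ b • Q₀ → q ∣ b - a := by
      intro a b hab h
      apply free_action P Q₀ hP hne hτ hord
      have h2 : b = a + (b - a) := by omega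
      rw [h2, pow_add, mul_smul] at h
      have h3 := congrArg (fun R : Sylow q G => (τ ^ a)⁻¹ • R) h
      simp only [inv_smul_smul] at h3
      exact h3.symm
    rintro (_ | i) (_ | j) h
    · rfl
    · exact absurd h.symm (hsn j)
    · exact absurd h (hsn i)
    · have h1 : τ ^ i.val • Q₀ = τ ^ j.val • Q₀ := h
      have hi := ZMod.val_lt i
      have hj := ZMod.val_lt j
      have hij : i.val = j.val := by
        rcases le_total i.val j.val with hle | hle
        · have h2 := hss _ _ hle h1
          by_contra hne'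
          have hpos : 0 < j.val - i.val := by omega
          have h3 := Nat.le_of_dvd hpos h2
          omega
        · have h2 := hss _ _ hle h1.symm
          by_contra hne'
          have hpos : 0 < i.val - j.val := by omega
          have h3 := Nat.le_of_dvd hpos h2
          omega
      rw [ZMod.val_injective q hij]
  apply hinj.bijective_of_nat_card_le
  rw [hn, Finite.card_option, Nat.card_zmod]

theorem pow_val_modEq {τ : G} (hord : orderOf τ = q) {a b : ℕ} (h : (a : ZMod q) = (b : ZMod q)) : τ ^ a = τ ^ b := by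
  rw [pow_eq_pow_iff_modEq, hord]
  exact (ZMod.natCast_eq_natCast_iff a b q).mp h

/-- The existence of a permutation model. -/
theorem exists_model [IsSimpleGroup G] (P : Sylow q G) (hP : Nat.card (P : Subgroup G) = q)
    (hn : Nat.card (Sylow q G) = q + 1)
    (hN : Nat.card (Subgroup.normalizer ((P : Subgroup G) : Set G)) = q * ((q - 1) / 2))
    (hq3 : Odd q) :
    ∃ f : G →* Perm (Option (ZMod q)), Function.Injective f ∧ IsModel f.range := by
  classical
  have hq1 : q.Prime := hq.out
  have hq2 := hq1.two_le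
  obtain ⟨x, hx⟩ := exists_prime_orderOf_dvd_card' (G := (P : Subgroup G)) q (by rw [hP])
  set τ : G := (x : G) with hτdef
  have hτ : τ ∈ (P : Subgroup G) := x.2
  have hord : orderOf τ = q := (Subgroup.orderOf_coe x).trans hx
  haveI : Nontrivial (Sylow q G) := Finite.one_lt_card_iff_nontrivial.mp (by rw [hn]; omega)
  obtain ⟨Q₀, hne⟩ := exists_ne P
  let e : Option (ZMod q) ≃ Sylow q G := Equiv.ofBijective _ (lab_bij P Q₀ hP hne hτ hord hn)
  have he_none : e none = P := rfl
  have he_some : ∀ i : ZMod q, e (some i) = τ ^ i.val • Q₀ := fun i => rfl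
  let f : G →* Perm (Option (ZMod q)) :=
    { toFun := fun g => e.trans ((MulAction.toPerm g).trans e.symm)
      map_one' := by
        ext1 x
        simp
      map_mul' := by
        intro a b
        ext1 x
        simp [mul_smul] }
  have hf : ∀ g x, e (f g x) = g • e x := by
    intro g x
    change e (e.symm (g • e x)) = g • e x
    simp
  have hfinj : Function.Injective f := by
    rw [← MonoidHom.ker_eq_bot_iff]
    rcases (MonoidHom.normal_ker f).eq_bot_or_eq_top with h | h
    · exact h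
    · exfalso
      have h1 : τ ∈ MonoidHom.ker f := by rw [h]; trivial
      have h2 : f τ = 1 := h1
      have h3 := hf τ (some 0)
      rw [h2, he_some] at h3
      simp only [Perm.one_apply, he_some, ZMod.val_zero, pow_zero, one_smul] at h3
      have h4 := free_action P Q₀ hP hne hτ hord 1 (by rw [pow_one]; exact h3.symm)
      have h5 := Nat.le_of_dvd one_pos h4
      omega
  -- affine description of the normalizer
  have hm0 : 0 < (q - 1) / 2 := by
    obtain ⟨k, hk⟩ := hq3
    omega
  have hP' : (P : Subgroup G) = Subgroup.zpowers τ :=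
    (zpowers_eq_of_mem_prime_card (P : Subgroup G) hP hτ (by
      intro h
      rw [h, orderOf_one] at hord
      omega)).symm
  have hdata : ∀ g : G, g • P = P → ∃ c : (ZMod q)ˣ, c ^ ((q - 1) / 2) = 1 ∧ ∃ a, f g = aff c a := by
    intro g hg
    have hgN : g ∈ Subgroup.normalizer ((P : Subgroup G) : Set G) := (smul_eq_iff_mem_nrm P g).mp hg
    have h1 : g * τ * g⁻¹ ∈ (P : Subgroup G) := (Subgroup.mem_normalizer_iff.mp hgN τ).mp hτ
    rw [hP'] at h1
    have hfin : IsOfFinOrder τ := orderOf_pos_iff.mp (by omega)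
    obtain ⟨k, hk⟩ := (hfin.mem_powers_iff_mem_zpowers).mpr h1
    have hk' : τ ^ k = g * τ * g⁻¹ := hk
    have hk0 : (k : ZMod q) ≠ 0 := by
      intro h0
      rw [ZMod.natCast_eq_zero_iff] at h0
      have h3 : τ ^ k = 1 := by
        rw [← hord] at h0
        exact orderOf_dvd_iff_pow_eq_one.mp h0
      rw [hk'] at h3
      have h4 : τ = 1 := by
        have := congrArg (fun t => g⁻¹ * t * g) h3
        simpa [mul_assoc] using this
      rw [h4, orderOf_one] at hord
      omega
    let c : (ZMod q)ˣ := Units.mk0 (k : ZMod q) hk0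
    have hgQ : g • Q₀ ≠ P := by
      intro h
      apply hne
      have h2 : g • Q₀ = g • P := by rw [h, hg]
      exact MulAction.injective g h2
    obtain ⟨a, ha⟩ : ∃ a, e (some a) = g • Q₀ := by
      rcases hs : e.symm (g • Q₀) with _ | a
      · exfalso
        apply hgQ
        have := congrArg e hs
        rw [Equiv.apply_symm_apply] at this
        exact this.trans he_none
      · refine ⟨a, ?_⟩
        have := congrArg e hs
        simpa using this.symm
    have hfg : f g = aff c a := by
      ext1 y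
      apply e.injective
      rw [hf]
      rcases y with _ | i
      · change g • e none = e none
        rw [he_none, hg]
      · rw [aff_some, he_some, he_some]
        have h5 : g • τ ^ i.val • Q₀ = (τ ^ k) ^ i.val • g • Q₀ := by
          rw [hk', conj_pow, smul_smul, smul_smul]
          congr 1
          group
        rw [h5, ← ha, he_some, smul_smul, ← pow_mul, ← pow_add]
        congr 1
        apply pow_val_modEq hord
        simp [c]
    refine ⟨c, ?_, a, hfg⟩
    -- the multiplier is a square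
    let g' : Subgroup.normalizer ((P : Subgroup G) : Set G) := ⟨g, hgN⟩
    have h6 : g ^ (q * ((q - 1) / 2)) = 1 := by
      have h7 := pow_card_eq_one' (x := g')
      rw [hN] at h7
      have h71 := congrArg (fun t : Subgroup.normalizer ((P : Subgroup G) : Set G) => (t : G)) h7
      simpa [g'] using h71
    have h8 : (aff c a) ^ (q * ((q - 1) / 2)) = 1 := by
      rw [← hfg, ← map_pow, h6, map_one]
    have h9 := unit_pow_eq_one_of_aff_pow h8
    have h10 : c ^ (q - 1) = 1 := ZMod.units_pow_card_sub_one_eq_one q c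
    have h11 : q * ((q - 1) / 2) = (q - 1) * ((q - 1) / 2) + (q - 1) / 2 := by
      have : q = (q - 1) + 1 := by omega
      nth_rewrite 1 [this]
      ring
    rw [h11, pow_add, pow_mul, h10, one_pow, one_mul] at h9
    exact h9
  refine ⟨f, hfinj, ⟨?_, ?_, ?_, ?_⟩⟩
  · -- translation
    refine ⟨τ, ?_⟩
    ext1 y
    apply e.injective
    rw [hf]
    rcases y with _ | i
    · change τ • e none = e none
      rw [he_none]
      exact smul_self_of_mem P hτ
    · rw [aff_some, he_some, he_some, smul_smul, ← pow_succ']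
      congr 1
      apply pow_val_modEq hord
      simp
  · -- multipliers: a counting argument
    intro c hc
    have hcard : Nat.card ({c : (ZMod q)ˣ // c ^ ((q - 1) / 2) = 1} × ZMod q) ≤
        Nat.card (Subgroup.normalizer ((P : Subgroup G) : Set G)) := by
      rw [Nat.card_prod, Nat.card_zmod, hN, mul_comm]
      apply Nat.mul_le_mul_left
      have h1 := IsCyclic.card_pow_eq_one_le (α := (ZMod q)ˣ) hm0
      rw [Nat.card_eq_fintype_card, Fintype.card_subtype]
      exact h1
    have hch : ∀ g : Subgroup.normalizer ((P : Subgroup G) : Set G),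
        ∃ y : {c : (ZMod q)ˣ // c ^ ((q - 1) / 2) = 1} × ZMod q, f g = aff y.1.1 y.2 := by
      intro g
      obtain ⟨c, hc, a, ha⟩ := hdata g ((smul_eq_iff_mem_nrm P g).mpr g.2)
      exact ⟨(⟨c, hc⟩, a), ha⟩
    choose Φ hΦ using hch
    have hΦinj : Function.Injective Φ := by
      intro g g' h
      apply Subtype.ext
      apply hfinj
      rw [hΦ, hΦ, h]
    obtain ⟨g, hg⟩ := (hΦinj.bijective_of_nat_card_le hcard).2 (⟨c, hc⟩, 0)
    refine ⟨g, ?_⟩
    rw [hΦ, hg]
  · rintro s ⟨g, rfl⟩ hs
    apply hdata g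
    have h1 := hf g none
    rw [hs, he_none] at h1
    exact h1.symm
  · -- the swap
    obtain ⟨g, hg⟩ := MulAction.exists_smul_eq G P Q₀
    set τ' : G := g * τ * g⁻¹ with hτ'
    have hτ'mem : τ' ∈ (Q₀ : Subgroup G) := by
      rw [← hg, mem_smul_sylow]
      simpa [hτ', mul_assoc] using hτ
    have hord' : orderOf τ' = q := by
      have h71 := MulEquiv.orderOf_eq (MulAut.conj g) τ
      rw [MulAut.conj_apply, hord] at h71
      exact h71
    have hRne : g • Q₀ ≠ Q₀ := by
      intro h
      apply hne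
      have h2 : g • Q₀ = g • P := by rw [h, hg]
      exact MulAction.injective g h2
    have hP0 : Nat.card (Q₀ : Subgroup G) = q := (card_sylow_eq Q₀ P).trans hP
    obtain ⟨y, hy⟩ := (lab_bij Q₀ (g • Q₀) hP0 hRne hτ'mem hord' hn).2 P
    rcases y with _ | i
    · exact absurd hy hne
    · have hy' : τ' ^ i.val • g • Q₀ = P := hy
      refine ⟨f (τ' ^ i.val * g), ⟨_, rfl⟩, ?_, ?_⟩
      · apply e.injective
        rw [hf, he_none, he_some, ZMod.val_zero, pow_zero, one_smul, mul_smul, hg,
          pow_smul_self_of_mem Q₀ hτ'mem]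
      · apply e.injective
        rw [hf, he_some, ZMod.val_zero, pow_zero, one_smul, mul_smul, hy', he_none]

end Action

section Final

open Cfsg.Agent.Lib.H1Small

open Cfsg.Agent.Lib.SLGen in
theorem commutator_SL2_eq_top {F : Type*} [Field F] {a : F} (ha : a ≠ 0) (hsq : a ^ 2 ≠ 1) :
    commutator (Matrix.SpecialLinearGroup (Fin 2) F) = ⊤ := by
  rw [eq_top_iff]
  intro A _
  refine sl_induction (fun A => A ∈ commutator (Matrix.SpecialLinearGroup (Fin 2) F)) ?_ (fun _ _ => mul_mem) (one_mem _) A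
  intro i j hij c
  obtain ⟨x, y, hab⟩ := T_mem_commutatorSet_of_sq hij ha hsq c
  rw [← hab]
  exact Subgroup.commutator_mem_commutator (Subgroup.mem_top _) (Subgroup.mem_top _)

open Cfsg.Agent.Lib.SLGen in
theorem PSL2_isSimple {F : Type*} [Field F] {a : F} (ha : a ≠ 0) (hsq : a ^ 2 ≠ 1) :
    IsSimpleGroup (Matrix.ProjectiveSpecialLinearGroup (Fin 2) F) := by
  have hperf : commutator (Matrix.ProjectiveSpecialLinearGroup (Fin 2) F) = ⊤ := by
    have : Group.IsPerfect (Matrix.SpecialLinearGroup (Fin 2) F) := ⟨commutator_SL2_eq_top ha hsq⟩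
    have : Group.IsPerfect (Matrix.ProjectiveSpecialLinearGroup (Fin 2) F) := inferInstance
    exact this.commutator_eq_top
  exact MulAction.IwasawaStructure.isSimpleGroup hperf PSLIwasawa inferInstance

theorem exists_non_sq_one {F : Type*} [Field F] [Fintype F] (h4 : 4 ≤ Fintype.card F) :
    ∃ a : F, a ≠ 0 ∧ a ^ 2 ≠ 1 := by
  classical
  by_contra hcon
  push Not at hcon
  have h1 : (Finset.univ : Finset F) ⊆ {0, 1, -1} := by
    intro a _
    by_cases ha : a = 0
    · simp [ha]
    · have h2 := hcon a ha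
      have h3 : a * a = 1 := by rw [← pow_two]; exact h2
      rcases mul_self_eq_one_iff.mp h3 with h4 | h4 <;> simp [h4]
  have h2 := Finset.card_le_card h1
  have h3 : ({0, 1, -1} : Finset F).card ≤ 3 := Finset.card_le_three
  rw [Finset.card_univ] at h2
  omega

theorem PSL2_card {F : Type*} [Field F] [Fintype F] :
    Nat.card (Matrix.ProjectiveSpecialLinearGroup (Fin 2) F) * Nat.gcd 2 (Fintype.card F - 1) =
      Fintype.card F * (Fintype.card F ^ 2 - 1) := by
  have h1 := Cfsg.Agent.Lib.ClassicalBasic.card_SL_eq_center_mul_PSL (F := F) 2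
  rw [Cfsg.Agent.Lib.ClassicalBasic.card_center_SL 2 (by norm_num)] at h1
  rw [← h1]
  exact Cfsg.Agent.Lib.H1SL2.card_sl2

variable {q : ℕ} [hq : Fact q.Prime]

/-- The Sylow data for a simple group of the order of `PSL(2,q)`. -/
theorem sylow_of_card {H : Type*} [Group H] [Finite H] [IsSimpleGroup H] (M : ℕ) (hcard : Nat.card H = q * M)
    (hqM : ¬ q ∣ M) (hM : M = (q + 1) * ((q - 1) / 2)) (hM0 : 0 < (q - 1) / 2)
    (hcand : (Nat.divisors M).filter (fun d => d % q = 1 ∧ 2 ≤ d) = {q + 1}) (P : Sylow q H) :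
    Nat.card (P : Subgroup H) = q ∧ Nat.card (Sylow q H) = q + 1 ∧
      Nat.card (Subgroup.normalizer ((P : Subgroup H) : Set H)) = q * ((q - 1) / 2) := by
  have hq1 : q.Prime := hq.out
  obtain ⟨h1, h2, h3, h4⟩ := sylow_data (p := q) 1 M (by rw [hcard, pow_one]) hqM P
  rw [pow_one] at h1
  have hM0' : M ≠ 0 := by
    intro h
    rw [h] at hqM
    exact hqM (dvd_zero q)
  have hne := sylow_card_ne_one P (by rw [h1]; exact hq1.one_lt.ne') (by
    rw [h1, hcard]
    intro h
    have h5 : M = 1 := by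
      have : q * 1 = q * M := by omega
      exact (Nat.eq_of_mul_eq_mul_left hq1.pos this).symm
    rw [h5] at hM
    have h6 := hq1.two_le
    nlinarith)
  have hc : Nat.card (Sylow q H) ∈ (Nat.divisors M).filter (fun d => d % q = 1 ∧ 2 ≤ d) :=
    Finset.mem_filter.mpr ⟨Nat.mem_divisors.mpr ⟨h2, hM0'⟩, h3, by
      have : 0 < Nat.card (Sylow q H) := Nat.card_pos
      omega⟩
  rw [hcand, Finset.mem_singleton] at hc
  refine ⟨h1, hc, ?_⟩
  rw [hc, hcard, hM] at h4
  have h5 : Nat.card (Subgroup.normalizer ((P : Subgroup H) : Set H)) * (q + 1) = (q * ((q - 1) / 2)) * (q + 1) := by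
    rw [h4]
    ring
  exact Nat.eq_of_mul_eq_mul_right (by omega) h5

/-- The isomorphism type of a simple group of the order of `PSL(2,q)`, given the finite check. -/
theorem range_eq_S0 {H : Type*} [Group H] [Finite H] [IsSimpleGroup H] (M : ℕ) (hcard : Nat.card H = q * M)
    (hqM : ¬ q ∣ M) (hM : M = (q + 1) * ((q - 1) / 2)) (hM0 : 0 < (q - 1) / 2) (hodd : Odd q)
    (hcand : (Nat.divisors M).filter (fun d => d % q = 1 ∧ 2 ≤ d) = {q + 1})
    (r n : (ZMod q)ˣ) (hr : r ^ ((q - 1) / 2) = 1)
    (hcover : ∀ x : ZMod q, x ≠ 0 → (∃ i < (q - 1) / 2, (r : ZMod q) ^ i * 1 = x) ∨ (∃ i < (q - 1) / 2, (r : ZMod q) ^ i * n = x))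
    (hchk : Chk q (r : ZMod q) (n : ZMod q) ((q - 1) / 2) 0) :
    ∃ f : H →* Perm (Option (ZMod q)), Function.Injective f ∧ f.range = S0 q := by
  obtain ⟨P⟩ : Nonempty (Sylow q H) := inferInstance
  obtain ⟨h1, h2, h3⟩ := sylow_of_card M hcard hqM hM hM0 hcand P
  obtain ⟨f, hf, hmod⟩ := exists_model P h1 h2 h3 hodd
  refine ⟨f, hf, eq_S0_of_W0_mem hmod (W0_mem_of_chk hmod r n 0 hr hcover ?_ hchk)⟩
  intro W _ _ _ s _
  exact s.ne_zero

/-- A simple group of the order of `PSL(2,q)` is `PSL(2,q)`, given the finite check. -/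
theorem iso_PSL2 {H : Type*} [Group H] [Finite H] [IsSimpleGroup H] {F : Type*} [Field F] [Fintype F]
    (hF : Fintype.card F = q) (M : ℕ) (hcard : Nat.card H = q * M)
    (hqM : ¬ q ∣ M) (hM : M = (q + 1) * ((q - 1) / 2)) (hM0 : 0 < (q - 1) / 2) (hodd : Odd q) (h4 : 4 ≤ q)
    (hcand : (Nat.divisors M).filter (fun d => d % q = 1 ∧ 2 ≤ d) = {q + 1})
    (r n : (ZMod q)ˣ) (hr : r ^ ((q - 1) / 2) = 1)
    (hcover : ∀ x : ZMod q, x ≠ 0 → (∃ i < (q - 1) / 2, (r : ZMod q) ^ i * 1 = x) ∨ (∃ i < (q - 1) / 2, (r : ZMod q) ^ i * n = x))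
    (hchk : Chk q (r : ZMod q) (n : ZMod q) ((q - 1) / 2) 0) :
    Nonempty (H ≃* Matrix.ProjectiveSpecialLinearGroup (Fin 2) F) := by
  obtain ⟨a, ha, hsq⟩ := exists_non_sq_one (F := F) (by omega)
  haveI := PSL2_isSimple ha hsq
  have hcardF : Nat.card (Matrix.ProjectiveSpecialLinearGroup (Fin 2) F) = q * M := by
    have h1 := PSL2_card (F := F)
    rw [hF] at h1
    have h2 : Nat.gcd 2 (q - 1) = 2 := by
      obtain ⟨k, hk⟩ := hodd
      rw [show q - 1 = 2 * k by omega]
      exact Nat.gcd_mul_right_right k 2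
    rw [h2] at h1
    have h3 : q ^ 2 - 1 = (q + 1) * (q - 1) := by
      have : 1 ≤ q := by omega
      zify [this, (Nat.one_le_pow 2 q (by omega))]
      ring
    have h5 : q - 1 = 2 * ((q - 1) / 2) := by
      obtain ⟨k, hk⟩ := hodd
      omega
    rw [h3, h5] at h1
    rw [hM]
    apply Nat.eq_of_mul_eq_mul_right (two_pos)
    rw [h1]
    ring
  obtain ⟨f, hf, hfr⟩ := range_eq_S0 M hcard hqM hM hM0 hodd hcand r n hr hcover hchk
  obtain ⟨f', hf', hfr'⟩ := range_eq_S0 (H := Matrix.ProjectiveSpecialLinearGroup (Fin 2) F) M hcardF hqM hM hM0 hodd hcand r n hr hcover hchk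
  exact ⟨(MonoidHom.ofInjective hf).trans ((MulEquiv.subgroupCongr (hfr.trans hfr'.symm)).trans (MonoidHom.ofInjective hf').symm)⟩

end Final

end Cfsg.Agent.Lib.H1Rigid
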