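import Mathlib
import Cfsg.Agent.Lib.H1SL2

set_option autoImplicit false

/-! Numbers of conjugacy classes of `SL₂` and `GL₂` over a finite field. -/

namespace Cfsg.Agent.Lib.H1SL2C

open Matrix Cfsg.Agent.Lib.H1GL2 Cfsg.Agent.Lib.H1SL2

variable {F : Type*} [Field F] [Fintype F]

/-- Counting conjugacy classes through a bijection from a type of representatives. -/
theorem card_classes_of_reps {G α : Type*} [Group G] (r : α → G)
    (hinj : ∀ x y, IsConj (r x) (r y) → x = y) (hsurj : ∀ g : G, ∃ x, IsConj g (r x)) :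
    Nat.card (ConjClasses G) = Nat.card α := by
  apply Eq.symm
  apply Nat.card_congr
  refine Equiv.ofBijective (fun x => ConjClasses.mk (r x)) ⟨?_, ?_⟩
  · intro x y h
    exact hinj x y (ConjClasses.mk_eq_mk_iff_isConj.mp h)
  · intro C
    obtain ⟨g, rfl⟩ := ConjClasses.mk_surjective C
    obtain ⟨x, hx⟩ := hsurj g
    exact ⟨x, (ConjClasses.mk_eq_mk_iff_isConj.mpr hx).symm⟩

omit [Fintype F] in
theorem tr_one : tr (1 : SL2 F) = 2 := by
  simp [tr]
  norm_num

omit [Fintype F] in
theorem tr_tv (b : F) : tr (tv b) = 2 := by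
  simp [tr]
  norm_num

omit [Fintype F] in
theorem tr_mone : tr (mone : SL2 F) = -2 := by
  simp [tr]
  norm_num

omit [Fintype F] in
theorem isConj_mone_mul {g h : SL2 F} : IsConj (mone * g) (mone * h) ↔ IsConj g h := by
  have key : ∀ g h : SL2 F, IsConj g h → IsConj (mone * g) (mone * h) := by
    intro g h hc
    obtain ⟨c, rfl⟩ := isConj_iff.mp hc
    refine isConj_iff.mpr ⟨c, ?_⟩
    have : c * (mone * g) * c⁻¹ = (c * mone) * g * c⁻¹ := by group
    rw [this, ← mone_comm]
    group
  refine ⟨fun hc => ?_, key g h⟩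
  have := key _ _ hc
  rwa [← mul_assoc, ← mul_assoc, mone_mul_mone, one_mul, one_mul] at this

omit [Fintype F] in
theorem mone_mul_mone' (g : SL2 F) : mone * (mone * g) = g := by
  rw [← mul_assoc, mone_mul_mone, one_mul]

/-- The three unipotent representatives. -/
def uu (ε : F) : Fin 3 → SL2 F := ![1, tv 1, tv ε]

omit [Fintype F] in
theorem uu_inj {ε : F} (hε : ¬ IsSquare ε) (x y : Fin 3) (h : IsConj (uu ε x) (uu ε y)) : x = y := by
  have hε0 : ε ≠ 0 := fun h => hε (h ▸ IsSquare.zero)
  have h1 : ∀ b : F, b ≠ 0 → ¬ IsConj (1 : SL2 F) (tv b) := by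
    intro b hb hc
    exact tv_ne_one hb (isConj_one_right.mp hc)
  have h2 : ¬ IsConj (tv (1 : F)) (tv ε) := by
    rw [tv_conj_iff one_ne_zero hε0, one_mul]
    exact hε
  fin_cases x <;> fin_cases y
  · rfl
  · exact absurd (show IsConj (1 : SL2 F) (tv 1) from h) (h1 1 one_ne_zero)
  · exact absurd (show IsConj (1 : SL2 F) (tv ε) from h) (h1 ε hε0)
  · exact absurd (show IsConj (tv (1 : F)) (1 : SL2 F) from h).symm (h1 1 one_ne_zero)
  · rfl
  · exact absurd (show IsConj (tv (1 : F)) (tv ε) from h) h2
  · exact absurd (show IsConj (tv ε) (1 : SL2 F) from h).symm (h1 ε hε0)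
  · exact absurd (show IsConj (tv ε) (tv (1 : F)) from h).symm h2
  · rfl

omit [Fintype F] in
theorem uu_tr (ε : F) (x : Fin 3) : tr (uu ε x) = 2 := by
  fin_cases x
  · exact tr_one
  · exact tr_tv _
  · exact tr_tv _

/-- **`SL₂(q)`, `q` odd, has `q + 4` classes.** -/
theorem card_classes_odd (hodd : Odd (Fintype.card F)) :
    Nat.card (ConjClasses (SL2 F)) = Fintype.card F + 4 := by
  classical
  have hchar : ringChar F ≠ 2 := by
    intro h
    have := FiniteField.even_card_of_char_two h
    exact (Nat.not_even_iff_odd.mpr hodd) (Nat.even_iff.mpr this)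
  have h2F : (2 : F) ≠ 0 := Ring.two_ne_zero hchar
  have h2ne : (2 : F) ≠ -2 := by
    intro h
    have : (2 : F) * 2 = 0 := by linear_combination h
    exact (mul_ne_zero h2F h2F) this
  obtain ⟨ε, hε⟩ := FiniteField.exists_nonsquare hchar
  have hε0 : ε ≠ 0 := fun h => hε (h ▸ IsSquare.zero)
  let r : {t : F // t ^ 2 ≠ 4} ⊕ (Bool × Fin 3) → SL2 F := fun x =>
    match x with
    | Sum.inl t => cp t.1
    | Sum.inr (true, k) => uu ε k
    | Sum.inr (false, k) => mone * uu ε k
  have hr : ∀ s : Bool, ∀ k, tr (r (Sum.inr (s, k))) = if s then 2 else -2 := by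
    intro s k
    cases s
    · simp only [r]
      rw [tr_mone_mul, uu_tr]
      simp
    · simp only [r]
      rw [uu_tr]
      simp
  have h4 : ∀ s : Bool, (if s then (2 : F) else -2) ^ 2 = 4 := by
    intro s
    cases s <;> simp <;> ring
  rw [card_classes_of_reps r]
  · rw [Nat.card_sum, Nat.card_prod, Nat.card_eq_fintype_card, Nat.card_eq_fintype_card,
      Nat.card_eq_fintype_card]
    simp only [Fintype.card_bool, Fintype.card_fin]
    have h5 : Fintype.card {t : F // t ^ 2 ≠ 4} = Fintype.card F - 2 := by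
      have h6 : ∀ t : F, t ∈ ({2, -2} : Finset F) ↔ t ^ 2 = 4 := by
        intro t
        simp only [Finset.mem_insert, Finset.mem_singleton]
        constructor
        · rintro (rfl | rfl) <;> ring
        · intro h
          have : (t - 2) * (t + 2) = 0 := by linear_combination h
          rcases mul_eq_zero.mp this with h7 | h7
          · left; exact sub_eq_zero.mp h7
          · right; linear_combination h7
      have h7 := Fintype.card_of_subtype ({2, -2} : Finset F) h6
      rw [Finset.card_pair h2ne] at h7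
      have h8 := Fintype.card_subtype_compl (fun t : F => t ^ 2 = 4)
      rw [h7] at h8
      exact h8
    rw [h5]
    have hq : 2 ≤ Fintype.card F := Fintype.one_lt_card
    omega
  · rintro (⟨t, ht⟩ | ⟨s, k⟩) (⟨t', ht'⟩ | ⟨s', k'⟩) hc
    · have := tr_of_isConj hc
      simp only [r, tr_cp] at this
      subst this
      rfl
    · exfalso
      have := tr_of_isConj hc
      rw [hr] at this
      simp only [r, tr_cp] at this
      apply ht
      rw [this, h4]
    · exfalso
      have := tr_of_isConj hc
      rw [hr] at this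
      simp only [r, tr_cp] at this
      apply ht'
      rw [← this, h4]
    · have h1 := tr_of_isConj hc
      rw [hr, hr] at h1
      have hss : s = s' := by
        cases s <;> cases s' <;> simp at h1 ⊢
        · exact h2ne h1.symm
        · exact h2ne h1
      subst hss
      have hkk : k = k' := by
        cases s
        · simp only [r] at hc
          exact uu_inj hε k k' (isConj_mone_mul.mp hc)
        · simp only [r] at hc
          exact uu_inj hε k k' hc
      rw [hkk]
  · -- every element has a representative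
    have huni : ∀ x : SL2 F, tr x = 2 → ∃ k, IsConj x (uu ε k) := by
      intro x hx
      by_cases hx1 : x = 1
      · exact ⟨0, by rw [hx1]; rfl⟩
      obtain ⟨b, hb, hbc⟩ := conj_tv_of_tr_two x hx hx1
      by_cases hs : IsSquare b
      · refine ⟨1, hbc.trans ((tv_conj_iff hb one_ne_zero).mpr ?_)⟩
        rwa [mul_one]
      · refine ⟨2, hbc.trans ((tv_conj_iff hb hε0).mpr ?_)⟩
        rw [← quadraticChar_one_iff_isSquare (mul_ne_zero hb hε0), map_mul,
          quadraticChar_neg_one_iff_not_isSquare.mpr hs, quadraticChar_neg_one_iff_not_isSquare.mpr hε]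
        norm_num
    intro g
    by_cases h1 : tr g ^ 2 = 4
    · have h2 : (tr g - 2) * (tr g + 2) = 0 := by linear_combination h1
      rcases mul_eq_zero.mp h2 with h3 | h3
      · obtain ⟨k, hk⟩ := huni g (sub_eq_zero.mp h3)
        exact ⟨Sum.inr (true, k), hk⟩
      · obtain ⟨k, hk⟩ := huni (mone * g) (by rw [tr_mone_mul]; linear_combination -h3)
        refine ⟨Sum.inr (false, k), ?_⟩
        have := isConj_mone_mul.mpr hk
        rwa [mone_mul_mone'] at this
    · refine ⟨Sum.inl ⟨tr g, h1⟩, ?_⟩
      simp only [r]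
      exact conj_of_trace g (cp (tr g)) (tr_cp _).symm h1

/-- **`SL₂(q)`, `q` even, has `q + 1` classes.** -/
theorem card_classes_even [CharP F 2] :
    Nat.card (ConjClasses (SL2 F)) = Fintype.card F + 1 := by
  classical
  have h20 : (2 : F) = 0 := two_eq_zero_of_char_two
  have h40 : (4 : F) = 0 := by
    have : (4 : F) = 2 * 2 := by norm_num
    rw [this, h20, zero_mul]
  let r : {t : F // t ≠ 0} ⊕ Bool → SL2 F := fun x =>
    match x with
    | Sum.inl t => cp t.1
    | Sum.inr true => 1
    | Sum.inr false => tv 1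
  rw [card_classes_of_reps r]
  · rw [Nat.card_sum, Nat.card_eq_fintype_card, Nat.card_eq_fintype_card]
    simp only [Fintype.card_bool]
    have h5 : Fintype.card {t : F // t ≠ 0} = Fintype.card F - 1 := by
      rw [Fintype.card_subtype_compl (fun t : F => t = 0)]
      simp
    rw [h5]
    have hq : 2 ≤ Fintype.card F := Fintype.one_lt_card
    omega
  · have h1 : ¬ IsConj (1 : SL2 F) (tv 1) := fun hc => tv_ne_one one_ne_zero (isConj_one_right.mp hc)
    have htr : ∀ b : Bool, tr (r (Sum.inr b)) = 0 := by
      intro b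
      cases b
      · simp only [r]; rw [tr_tv, h20]
      · simp only [r]; rw [tr_one, h20]
    rintro (⟨t, ht⟩ | b) (⟨t', ht'⟩ | b') hc
    · have := tr_of_isConj hc
      simp only [r, tr_cp] at this
      subst this
      rfl
    · exfalso
      have := tr_of_isConj hc
      rw [htr] at this
      simp only [r, tr_cp] at this
      exact ht this
    · exfalso
      have := tr_of_isConj hc
      rw [htr] at this
      simp only [r, tr_cp] at this
      exact ht' this.symm
    · cases b <;> cases b'
      · rfl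
      · exact absurd (show IsConj (tv (1 : F)) (1 : SL2 F) from hc).symm h1
      · exact absurd (show IsConj (1 : SL2 F) (tv 1) from hc) h1
      · rfl
  · intro g
    by_cases h0 : tr g = 0
    · have h2 : tr g = 2 := by rw [h0, h20]
      by_cases hg1 : g = 1
      · exact ⟨Sum.inr true, by rw [hg1]; rfl⟩
      obtain ⟨b, hb, hbc⟩ := conj_tv_of_tr_two g h2 hg1
      refine ⟨Sum.inr false, hbc.trans ((tv_conj_iff hb one_ne_zero).mpr ?_)⟩
      exact FiniteField.isSquare_of_char_two (ringChar.eq F 2) _
    · refine ⟨Sum.inl ⟨tr g, h0⟩, ?_⟩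
      simp only [r]
      apply conj_of_trace g (cp (tr g)) (tr_cp _).symm
      rw [h40]
      exact pow_ne_zero 2 h0

/-- **`GL₂(q)` has `q² - 1` classes.** -/
theorem card_classes_gl2 : Nat.card (ConjClasses (GL2 F)) = Fintype.card F ^ 2 - 1 := by
  classical
  have hcomp : ∀ t : F, ∀ δ : Fˣ, (comp t (δ : F)).det ≠ 0 := by
    intro t δ
    rw [det2]
    simp
  let gcomp : F × Fˣ → GL2 F := fun x => Matrix.GeneralLinearGroup.mkOfDetNeZero (comp x.1 (x.2 : F)) (hcomp x.1 x.2)
  have hgc : ∀ x : F × Fˣ, ((gcomp x : GL2 F) : M2 F) = comp x.1 (x.2 : F) := fun x => rfl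
  let gs : Fˣ → GL2 F := fun a => Matrix.GeneralLinearGroup.mkOfDetNeZero ((a : F) • (1 : M2 F)) (by
    rw [det2]
    simp)
  have hgs : ∀ a : Fˣ, ((gs a : GL2 F) : M2 F) = (a : F) • (1 : M2 F) := fun a => rfl
  let r : (F × Fˣ) ⊕ Fˣ → GL2 F := fun x =>
    match x with
    | Sum.inl x => gcomp x
    | Sum.inr a => gs a
  -- invariants of conjugate elements
  have htr : ∀ g h : GL2 F, IsConj g h → Matrix.trace (g : M2 F) = Matrix.trace (h : M2 F) := by
    intro g h hc
    obtain ⟨c, rfl⟩ := isConj_iff.mp hc
    simp only [Units.val_mul]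
    rw [Matrix.trace_mul_comm, ← mul_assoc]
    simp
  have hdt : ∀ g h : GL2 F, IsConj g h → Matrix.det (g : M2 F) = Matrix.det (h : M2 F) := by
    intro g h hc
    obtain ⟨c, rfl⟩ := isConj_iff.mp hc
    simp only [Units.val_mul, Matrix.det_mul]
    rw [mul_comm, ← mul_assoc]
    have : Matrix.det ((c⁻¹ : GL2 F) : M2 F) * Matrix.det (c : M2 F) = 1 := by
      rw [← Matrix.det_mul]
      simp
    rw [this, one_mul]
  have hsc : ∀ (a : Fˣ) (h : GL2 F), IsConj (gs a) h → h = gs a := by
    intro a h hc
    obtain ⟨c, rfl⟩ := isConj_iff.mp hc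
    apply Units.ext
    simp only [Units.val_mul, hgs]
    rw [mul_smul_comm, mul_one, smul_mul_assoc]
    simp
  rw [card_classes_of_reps r]
  · rw [Nat.card_sum, Nat.card_prod, Nat.card_eq_fintype_card, Nat.card_eq_fintype_card]
    rw [Fintype.card_units]
    have hq : 2 ≤ Fintype.card F := Fintype.one_lt_card
    obtain ⟨m, hm⟩ : ∃ m, Fintype.card F = m + 1 := ⟨Fintype.card F - 1, by omega⟩
    rw [hm]
    simp only [Nat.add_sub_cancel]
    have : (m + 1) ^ 2 - 1 = m * m + 2 * m := by
      have : (m + 1) ^ 2 = m * m + 2 * m + 1 := by ring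
      omega
    rw [this]
    ring
  · rintro (⟨t, δ⟩ | a) (⟨t', δ'⟩ | a') hc
    · have h1 := htr _ _ hc
      have h2 := hdt _ _ hc
      simp only [r, hgc, Matrix.trace_fin_two] at h1 h2
      rw [det2, det2] at h2
      simp at h1 h2
      subst h1
      have : δ = δ' := Units.ext h2
      rw [this]
    · exfalso
      have h1 := hsc a' _ hc.symm
      have h2 := congrArg (fun g : GL2 F => (g : M2 F) 1 0) h1
      simp [r, hgc, hgs] at h2
    · exfalso
      have h1 := hsc a _ hc
      have h2 := congrArg (fun g : GL2 F => (g : M2 F) 1 0) h1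
      simp [r, hgc, hgs] at h2
    · have h1 := hsc a _ hc
      have h2 := congrArg (fun g : GL2 F => (g : M2 F) 0 0) h1
      simp [r, hgs] at h2
      have : a' = a := Units.ext h2
      rw [this]
  · intro g
    by_cases hs : IsScalar (g : M2 F)
    · have hne : (g : M2 F) 0 0 ≠ 0 := by
        intro h0
        have hd : Matrix.det (g : M2 F) ≠ 0 := by
          have := (Matrix.isUnit_iff_isUnit_det _).mp g.isUnit
          exact this.ne_zero
        apply hd
        rw [det2, h0, hs.1]
        ring
      refine ⟨Sum.inr (Units.mk0 _ hne), ?_⟩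
      have : g = gs (Units.mk0 _ hne) := by
        apply Units.ext
        rw [hgs]
        apply m2_ext <;> simp [hs.1, hs.2.1, ← hs.2.2]
      change IsConj g (gs (Units.mk0 _ hne))
      rw [← this]
    · have hd : Matrix.det (g : M2 F) ≠ 0 := by
        have := (Matrix.isUnit_iff_isUnit_det _).mp g.isUnit
        exact this.ne_zero
      rw [det2] at hd
      refine ⟨Sum.inl ((g : M2 F) 0 0 + (g : M2 F) 1 1, Units.mk0 _ hd), ?_⟩
      obtain ⟨P, hP, hgP⟩ := exists_comp (g : M2 F) hs
      exact isConj_gl_of g _ P hP hgP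

end Cfsg.Agent.Lib.H1SL2C
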