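import Mathlib
import Cfsg.Agent.Lib.H1PSL2P
import Cfsg.Agent.Lib.H1GL2C
import Cfsg.Agent.Lib.H1SL2C
import Cfsg.Agent.Lib.H1Dicyclic
import Cfsg.Agent.Lib.H1SZ

set_option autoImplicit false

/-! Tori of `SL₂`: centralizers of elements with `tr² ≠ 4`. -/

namespace Cfsg.Agent.Lib.H1Torus

open Matrix Cfsg.Agent.Lib.H1GL2 Cfsg.Agent.Lib.H1SL2 Cfsg.Agent.Lib.H1PSL2 Cfsg.Agent.Lib.H1PSL2P
  Cfsg.Agent.Lib.H1SL2C

variable {F : Type*} [Field F]

/-- The centralizer of an element. -/
abbrev Tz (x : SL2 F) : Subgroup (SL2 F) := Subgroup.centralizer ({x} : Set (SL2 F))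

theorem mem_Tz {x g : SL2 F} : g ∈ Tz x ↔ g * x = x * g := Subgroup.mem_centralizer_singleton_iff

theorem self_mem_Tz (x : SL2 F) : x ∈ Tz x := mem_Tz.mpr rfl

theorem not_scalar {x : SL2 F} (hx : tr x ^ 2 ≠ 4) : ¬ IsScalar (x : M2 F) := by
  intro h
  rcases (scalar_iff x).mp h with rfl | rfl
  · rw [tr_one] at hx
    exact hx (by ring)
  · rw [tr_mone] at hx
    exact hx (by ring)

theorem exists_form {x : SL2 F} (hx : tr x ^ 2 ≠ 4) {g : SL2 F} (hg : g ∈ Tz x) :
    ∃ a b : F, (g : M2 F) = a • (1 : M2 F) + b • (x : M2 F) ∧ a ^ 2 + a * b * tr x + b ^ 2 = 1 := by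
  obtain ⟨a, b, hab⟩ := Cfsg.Agent.Lib.H1GL2C.comm_eq_add_smul (x : M2 F) (g : M2 F) (not_scalar hx)
    (congrArg Subtype.val (mem_Tz.mp hg))
  refine ⟨a, b, hab, ?_⟩
  have hd := sl_det g
  have hdx := sl_det x
  rw [hab] at hd
  simp at hd
  simp only [tr]
  linear_combination hd - b ^ 2 * hdx

theorem tr_form {x : SL2 F} {g : SL2 F} {a b : F} (h : (g : M2 F) = a • (1 : M2 F) + b • (x : M2 F)) :
    tr g = 2 * a + b * tr x := by
  simp only [tr, h]
  simp
  ring

theorem tr_sq_form {t a b : F} (hrel : a ^ 2 + a * b * t + b ^ 2 = 1) :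
    (2 * a + b * t) ^ 2 - 4 = b ^ 2 * (t ^ 2 - 4) := by
  linear_combination 4 * hrel

theorem eq_of_tr_four {x : SL2 F} (hx : tr x ^ 2 ≠ 4) {g : SL2 F} (hg : g ∈ Tz x)
    (h1 : g ≠ 1) (h2 : g ≠ mone) : tr g ^ 2 ≠ 4 := by
  intro h4
  obtain ⟨a, b, hab, hrel⟩ := exists_form hx hg
  have h5 := tr_sq_form hrel
  rw [← tr_form hab, h4, sub_self] at h5
  have h6 : b ^ 2 * (tr x ^ 2 - 4) = 0 := h5.symm
  have h7 : tr x ^ 2 - 4 ≠ 0 := sub_ne_zero.mpr hx
  have h8 : b = 0 := by
    simpa [h7] using h6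
  rw [h8] at hab
  have h9 : IsScalar (g : M2 F) := by
    rw [hab]
    simp [IsScalar]
  rcases (scalar_iff g).mp h9 with h | h
  · exact h1 h
  · exact h2 h

/-- `Tz x` for `g ∈ Tz x` not `±1` is `Tz g`. -/
theorem Tz_eq {x : SL2 F} (hx : tr x ^ 2 ≠ 4) {g : SL2 F} (hg : g ∈ Tz x)
    (h1 : g ≠ 1) (h2 : g ≠ mone) : Tz g = Tz x := by
  obtain ⟨a, b, hab, hrel⟩ := exists_form hx hg
  have hb : b ≠ 0 := by
    rintro rfl
    apply eq_of_tr_four hx hg h1 h2
    rw [tr_form hab]
    simp only [zero_mul, add_zero]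
    simp only [zero_mul, add_zero, ne_eq, OfNat.ofNat_ne_zero, not_false_eq_true, zero_pow] at hrel
    linear_combination 4 * hrel
  ext h
  rw [mem_Tz, mem_Tz]
  constructor
  · intro he
    have h3 : (h : M2 F) * g = g * h := congrArg Subtype.val he
    rw [hab] at h3
    simp only [mul_add, add_mul, mul_smul_comm, smul_mul_assoc, mul_one, one_mul] at h3
    have h4 : b • ((h : M2 F) * x) = b • ((x : M2 F) * h) := add_left_cancel h3
    exact Subtype.ext (smul_right_injective _ hb h4)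
  · intro he
    have h3 : (h : M2 F) * x = x * h := congrArg Subtype.val he
    apply Subtype.ext
    change (h : M2 F) * g = g * h
    rw [hab]
    simp only [mul_add, add_mul, mul_smul_comm, smul_mul_assoc, mul_one, one_mul, h3]

theorem inv_coe (g : SL2 F) : ((g⁻¹ : SL2 F) : M2 F) = tr g • (1 : M2 F) - g := by
  apply m2_ext <;> simp [sl_inv00, sl_inv01, sl_inv10, sl_inv11, tr]

theorem tr_inv (g : SL2 F) : tr g⁻¹ = tr g := by
  simp only [tr, sl_inv00, sl_inv11]
  ring

/-- Elements of the torus with the same trace as `x`. -/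
theorem same_trace {x : SL2 F} (hx : tr x ^ 2 ≠ 4) {y : SL2 F} (hy : y ∈ Tz x) (ht : tr y = tr x) :
    y = x ∨ y = x⁻¹ := by
  obtain ⟨a, b, hab, hrel⟩ := exists_form hx hy
  have h5 := tr_sq_form hrel
  rw [← tr_form hab, ht] at h5
  have h7 : tr x ^ 2 - 4 ≠ 0 := sub_ne_zero.mpr hx
  have h8 : (1 - b ^ 2) * (tr x ^ 2 - 4) = 0 := by linear_combination h5
  have h9 : (1 - b) * (1 + b) = 0 := by
    have := (mul_eq_zero.mp h8).resolve_right h7
    linear_combination this
  have htr := tr_form hab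
  rw [ht] at htr
  have hinv := inv_coe x
  rcases mul_eq_zero.mp h9 with hb | hb
  · have hb1 : b = 1 := (sub_eq_zero.mp hb).symm
    subst hb1
    have h2a : 2 * a = 0 := by linear_combination -htr
    have hrel2 : a * (a + tr x) = 0 := by linear_combination hrel
    rcases mul_eq_zero.mp hrel2 with h0 | h0
    · left
      apply Subtype.ext
      rw [hab, h0]
      simp
    · by_cases ha : a = 0
      · left
        apply Subtype.ext
        rw [hab, ha]
        simp
      · right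
        have h2 : (2 : F) = 0 := by
          rcases mul_eq_zero.mp h2a with h3 | h3
          · exact h3
          · exact absurd h3 ha
        apply Subtype.ext
        rw [hab, hinv]
        have ea : tr x = -a := by linear_combination h0
        rw [ea]
        apply m2_ext
        · simp; linear_combination (a + (x : M2 F) 0 0) * h2
        · simp; linear_combination ((x : M2 F) 0 1) * h2
        · simp; linear_combination ((x : M2 F) 1 0) * h2
        · simp; linear_combination (a + (x : M2 F) 1 1) * h2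
  · have hb1 : b = -1 := eq_neg_of_add_eq_zero_right hb
    subst hb1
    have h2a : 2 * a = 2 * tr x := by linear_combination -htr
    have hrel2 : a * (a - tr x) = 0 := by linear_combination hrel
    by_cases hat : a = tr x
    · right
      apply Subtype.ext
      rw [hab, hinv, hat]
      simp [sub_eq_add_neg]
    · have ha0 : a = 0 := (mul_eq_zero.mp hrel2).resolve_right (sub_ne_zero.mpr hat)
      have h2t : 2 * tr x = 0 := by rw [← h2a, ha0]; ring
      rcases mul_eq_zero.mp h2t with h2 | h3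
      · left
        apply Subtype.ext
        rw [hab, ha0]
        apply m2_ext
        · simp; linear_combination (-(x : M2 F) 0 0) * h2
        · simp; linear_combination (-(x : M2 F) 0 1) * h2
        · simp; linear_combination (-(x : M2 F) 1 0) * h2
        · simp; linear_combination (-(x : M2 F) 1 1) * h2
      · exact absurd (ha0.trans h3.symm) hat

/-- A conjugator inverting `x` inverts the whole torus. -/
theorem inverts_all {x : SL2 F} (hx : tr x ^ 2 ≠ 4) {w : SL2 F} (hw : w * x * w⁻¹ = x⁻¹)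
    {t : SL2 F} (ht : t ∈ Tz x) : w * t * w⁻¹ = t⁻¹ := by
  obtain ⟨a, b, hab, -⟩ := exists_form hx ht
  apply Subtype.ext
  have h1 : (w : M2 F) * ((w⁻¹ : SL2 F) : M2 F) = 1 := by
    have : ((w * w⁻¹ : SL2 F) : M2 F) = 1 := by rw [mul_inv_cancel]; rfl
    exact this
  have h2 : (w : M2 F) * (x : M2 F) * ((w⁻¹ : SL2 F) : M2 F) = tr x • (1 : M2 F) - x := by
    have := congrArg Subtype.val hw
    rw [inv_coe x] at this
    exact this
  have e : ((w * t * w⁻¹ : SL2 F) : M2 F) = (w : M2 F) * (t : M2 F) * ((w⁻¹ : SL2 F) : M2 F) := rfl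
  rw [e, hab, inv_coe t, tr_form hab, hab]
  simp only [mul_add, add_mul, mul_smul_comm, smul_mul_assoc, mul_one]
  rw [h1, h2]
  apply m2_ext <;> simp <;> ring

theorem inverts_inv {x w : SL2 F} (hw : w * x * w⁻¹ = x⁻¹) : w⁻¹ * x * w⁻¹⁻¹ = x⁻¹ := by
  have h1 : x = w⁻¹ * x⁻¹ * w := by
    rw [← hw]
    group
  have h2 : x⁻¹ = w⁻¹ * x * w := by
    nth_rewrite 1 [h1]
    group
  rw [inv_inv, ← h2]

/-- The normalizer of the torus. -/
theorem mem_normalizer_iff {x : SL2 F} (hx : tr x ^ 2 ≠ 4) (g : SL2 F) :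
    g ∈ Subgroup.normalizer ((Tz x : Subgroup (SL2 F)) : Set (SL2 F)) ↔
      g * x * g⁻¹ = x ∨ g * x * g⁻¹ = x⁻¹ := by
  constructor
  · intro hg
    have h1 : g * x * g⁻¹ ∈ Tz x := (Subgroup.mem_normalizer_iff.mp hg x).mp (self_mem_Tz x)
    apply same_trace hx h1
    exact (tr_of_isConj (isConj_iff.mpr ⟨g, rfl⟩)).symm
  · rintro (h | h)
    · apply Subgroup.le_normalizer
      apply mem_Tz.mpr
      calc g * x = g * x * g⁻¹ * g := by group
        _ = x * g := by rw [h]
    · rw [Subgroup.mem_normalizer_iff]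
      intro t
      constructor
      · intro ht
        rw [inverts_all hx h ht]
        exact (Tz x).inv_mem ht
      · intro ht
        have h2 := inverts_all hx h ht
        have h3 : g * t * g⁻¹ ∈ Tz x := ht
        have h4 := inverts_all hx (inverts_inv h) h3
        have e : g⁻¹ * (g * t * g⁻¹) * g⁻¹⁻¹ = t := by group
        rw [e] at h4
        rw [h4]
        exact (Tz x).inv_mem h3

theorem ne_inv_of_four {x : SL2 F} (hx : tr x ^ 2 ≠ 4) : x ≠ x⁻¹ := by
  intro h
  have h1 := inv_coe x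
  rw [← h] at h1
  have h00 := congrFun (congrFun h1 0) 0
  have h01 := congrFun (congrFun h1 0) 1
  have h10 := congrFun (congrFun h1 1) 0
  have h11 := congrFun (congrFun h1 1) 1
  simp [tr] at h00 h01 h10 h11
  apply hx
  have hd := sl_det x
  have e1 : (2 : F) * (x : M2 F) 0 1 = 0 := by linear_combination h01
  have e2 : (2 : F) * (x : M2 F) 1 0 = 0 := by linear_combination h10
  have e3 : (2 : F) * (x : M2 F) 0 0 = (x : M2 F) 0 0 + (x : M2 F) 1 1 := by linear_combination h00
  simp only [tr]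
  by_cases h2 : (2 : F) = 0
  · have h00' : (x : M2 F) 0 0 + (x : M2 F) 1 1 = 0 := by
      rw [← e3, h2, zero_mul]
    rw [h00']
    have : (4 : F) = 2 * 2 := by norm_num
    rw [this, h2]
    ring
  · have h01' : (x : M2 F) 0 1 = 0 := (mul_eq_zero.mp e1).resolve_left h2
    have e4 : (x : M2 F) 0 0 = (x : M2 F) 1 1 := by
      exact h00
    rw [h01', zero_mul, sub_zero, ← e4] at hd
    rw [← e4]
    linear_combination 4 * hd

section finite

variable [Fintype F]

/-- An inverter exists. -/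
theorem exists_inverter {x : SL2 F} (hx : tr x ^ 2 ≠ 4) : ∃ w : SL2 F, w * x * w⁻¹ = x⁻¹ := by
  have h : IsConj x x⁻¹ := conj_of_trace _ _ (tr_inv x).symm hx
  exact isConj_iff.mp h

theorem not_mem_of_inverts {x w : SL2 F} (hx : tr x ^ 2 ≠ 4) (hw : w * x * w⁻¹ = x⁻¹) : w ∉ Tz x := by
  intro h
  have h1 := mem_Tz.mp h
  rw [h1, mul_inv_cancel_right] at hw
  exact ne_inv_of_four hx hw

theorem inverts_of_mem_normalizer {x g : SL2 F} (hx : tr x ^ 2 ≠ 4)
    (hg : g ∈ Subgroup.normalizer ((Tz x : Subgroup (SL2 F)) : Set (SL2 F))) (hgT : g ∉ Tz x) :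
    g * x * g⁻¹ = x⁻¹ := by
  rcases (mem_normalizer_iff hx g).mp hg with h | h
  · exfalso
    apply hgT
    apply mem_Tz.mpr
    calc g * x = g * x * g⁻¹ * g := by group
      _ = x * g := by rw [h]
  · exact h

theorem mul_inv_mem_of_inverts {x g w : SL2 F} (hg : g * x * g⁻¹ = x⁻¹) (hw : w * x * w⁻¹ = x⁻¹) :
    g * w⁻¹ ∈ Tz x := by
  apply mem_Tz.mpr
  have h1 : w⁻¹ * x * w = x⁻¹ := by
    have := inverts_inv hw
    rwa [inv_inv] at this
  have h2 : w⁻¹ * x = x⁻¹ * w⁻¹ := by
    calc w⁻¹ * x = w⁻¹ * x * w * w⁻¹ := by group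
      _ = x⁻¹ * w⁻¹ := by rw [h1]
  have h3 : g * x⁻¹ = x * g := by
    have h4 := inverts_inv hg
    have h5 : g * x⁻¹ * g⁻¹ = x := by
      calc g * x⁻¹ * g⁻¹ = (g * x * g⁻¹)⁻¹ := by group
        _ = x := by rw [hg, inv_inv]
    calc g * x⁻¹ = g * x⁻¹ * g⁻¹ * g := by group
      _ = x * g := by rw [h5]
  calc g * w⁻¹ * x = g * (w⁻¹ * x) := by group
    _ = g * (x⁻¹ * w⁻¹) := by rw [h2]
    _ = (g * x⁻¹) * w⁻¹ := by group
    _ = (x * g) * w⁻¹ := by rw [h3]
    _ = x * (g * w⁻¹) := by group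

theorem Tz_le_normalizer (x : SL2 F) :
    Tz x ≤ Subgroup.normalizer ((Tz x : Subgroup (SL2 F)) : Set (SL2 F)) :=
  Subgroup.le_normalizer

/-- The normalizer has twice the order of the torus. -/
theorem card_normalizer {x : SL2 F} (hx : tr x ^ 2 ≠ 4) :
    Nat.card (Subgroup.normalizer ((Tz x : Subgroup (SL2 F)) : Set (SL2 F))) = 2 * Nat.card (Tz x) := by
  obtain ⟨w, hw⟩ := exists_inverter hx
  set N := Subgroup.normalizer ((Tz x : Subgroup (SL2 F)) : Set (SL2 F)) with hN
  have hwN : w ∈ N := (mem_normalizer_iff hx w).mpr (Or.inr hw)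
  have hidx : ((Tz x).subgroupOf N).index = 2 := by
    rw [Subgroup.index_eq_two_iff]
    refine ⟨⟨w, hwN⟩, ?_⟩
    rintro ⟨b, hb⟩
    simp only [Subgroup.mem_subgroupOf, Subgroup.coe_mul]
    by_cases hbT : b ∈ Tz x
    · right
      refine ⟨hbT, ?_⟩
      intro h
      apply not_mem_of_inverts hx hw
      have : w = b⁻¹ * (b * w) := by group
      rw [this]
      exact (Tz x).mul_mem ((Tz x).inv_mem hbT) h
    · left
      refine ⟨?_, hbT⟩
      have h1 := mul_inv_mem_of_inverts (inverts_of_mem_normalizer hx hb hbT) hw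
      have h2 : w * w ∈ Tz x := by
        apply mem_Tz.mpr
        have h3 : w * x = x⁻¹ * w := by
          calc w * x = w * x * w⁻¹ * w := by group
            _ = x⁻¹ * w := by rw [hw]
        have h4 : w * x⁻¹ = x * w := by
          have h5 : (w * x * w⁻¹)⁻¹ = x := by rw [hw, inv_inv]
          calc w * x⁻¹ = (w * x * w⁻¹)⁻¹ * w := by group
            _ = x * w := by rw [h5]
        calc w * w * x = w * (w * x) := by group
          _ = w * (x⁻¹ * w) := by rw [h3]
          _ = (w * x⁻¹) * w := by group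
          _ = (x * w) * w := by rw [h4]
          _ = x * (w * w) := by group
      have : b * w = (b * w⁻¹) * (w * w) := by group
      rw [this]
      exact (Tz x).mul_mem h1 h2
  have h1 := Subgroup.card_mul_index ((Tz x).subgroupOf N)
  rw [hidx, Cfsg.Agent.Lib.H1SZ.card_subgroupOf_of_le (Tz_le_normalizer x)] at h1
  rw [← h1, mul_comm]

/-- Elements of the normalizer outside the torus square to `-1`. -/
theorem sq_outside {x g : SL2 F} (hx : tr x ^ 2 ≠ 4)
    (hg : g ∈ Subgroup.normalizer ((Tz x : Subgroup (SL2 F)) : Set (SL2 F))) (hgT : g ∉ Tz x) :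
    g * g = mone := by
  have hinv := inverts_of_mem_normalizer hx hg hgT
  have h3 : g * x = x⁻¹ * g := by
    calc g * x = g * x * g⁻¹ * g := by group
      _ = x⁻¹ * g := by rw [hinv]
  have h4 : g * x⁻¹ = x * g := by
    have h5 : (g * x * g⁻¹)⁻¹ = x := by rw [hinv, inv_inv]
    calc g * x⁻¹ = (g * x * g⁻¹)⁻¹ * g := by group
      _ = x * g := by rw [h5]
  have hsq : g * g ∈ Tz x := by
    apply mem_Tz.mpr
    calc g * g * x = g * (g * x) := by group
      _ = g * (x⁻¹ * g) := by rw [h3]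
      _ = (g * x⁻¹) * g := by group
      _ = (x * g) * g := by rw [h4]
      _ = x * (g * g) := by group
  by_cases h1 : g * g = 1
  · by_cases h2 : (2 : F) = 0
    · rw [mone_eq_one_of_two h2]
      exact h1
    · exfalso
      apply hgT
      rcases eq_one_or_mone_of_sq h2 g h1 with rfl | rfl
      · exact (Tz x).one_mem
      · apply mem_Tz.mpr
        exact mone_comm x
  · by_contra h5
    apply hgT
    have h6 := Tz_eq hx hsq h1 h5
    rw [← h6]
    apply mem_Tz.mpr
    group

/-- The conjugacy classes of the normalizer of a torus. -/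
theorem card_classes_normalizer {x : SL2 F} (hx : tr x ^ 2 ≠ 4) (τ : SL2 F) (m : ℕ) (hm : 0 < m)
    (hτ : τ ∈ Tz x) (hgen : ∀ t ∈ Tz x, ∃ k : ℕ, t = τ ^ k) (hord : orderOf τ = 2 * m) :
    Nat.card (ConjClasses (Subgroup.normalizer ((Tz x : Subgroup (SL2 F)) : Set (SL2 F)))) = m + 3 := by
  obtain ⟨w, hw⟩ := exists_inverter hx
  set N := Subgroup.normalizer ((Tz x : Subgroup (SL2 F)) : Set (SL2 F)) with hN
  have hwN : w ∈ N := (mem_normalizer_iff hx w).mpr (Or.inr hw)
  have hτN : τ ∈ N := Tz_le_normalizer x hτ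
  apply Cfsg.Agent.Lib.H1Dicyclic.card_classes ((Tz x).subgroupOf N) ⟨τ, hτN⟩ ⟨w, hwN⟩ m hm
  · exact Subgroup.mem_subgroupOf.mpr hτ
  · rintro ⟨t, ht⟩ ht2
    obtain ⟨k, hk⟩ := hgen t (Subgroup.mem_subgroupOf.mp ht2)
    refine ⟨k, ?_⟩
    apply Subtype.ext
    simpa using hk
  · rw [← hord]
    exact Subgroup.orderOf_mk τ hτN
  · intro h
    exact not_mem_of_inverts hx hw (Subgroup.mem_subgroupOf.mp h)
  · rintro ⟨g, hg⟩ hgT
    apply Subgroup.mem_subgroupOf.mpr
    have hgT' : g ∉ Tz x := fun h => hgT (Subgroup.mem_subgroupOf.mpr h)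
    exact mul_inv_mem_of_inverts (inverts_of_mem_normalizer hx hg hgT') hw
  · rintro ⟨g, hg⟩ hgT ⟨t, ht⟩ ht2
    have hgT' : g ∉ Tz x := fun h => hgT (Subgroup.mem_subgroupOf.mpr h)
    apply Subtype.ext
    exact inverts_all hx (inverts_of_mem_normalizer hx hg hgT') (Subgroup.mem_subgroupOf.mp ht2)

end finite

end Cfsg.Agent.Lib.H1Torus

namespace Cfsg.Agent.Lib.H1Torus

open Matrix Polynomial Cfsg.Agent.Lib.H1GL2 Cfsg.Agent.Lib.H1SL2 Cfsg.Agent.Lib.H1PSL2 Cfsg.Agent.Lib.H1PSL2P
  Cfsg.Agent.Lib.H1SL2C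

variable {F : Type*} [Field F] [Fintype F]

/-- The nonsplit torus. -/
theorem ns_data : ∃ τ : SL2 F, orderOf τ = Fintype.card F + 1 ∧
    (∀ t : F, (∀ s : F, s ^ 2 - t * s + 1 ≠ 0) → ∃ k : ℕ, tr (τ ^ k) = t) ∧
    (∀ g : SL2 F, ¬ IsScalar (τ : M2 F) → g * τ = τ * g → ∃ k : ℕ, g = τ ^ k) := by
  obtain ⟨p, hp⟩ := CharP.exists F
  haveI : Fact p.Prime := ⟨CharP.char_is_prime F p⟩
  haveI : NeZero 2 := ⟨by omega⟩
  obtain ⟨θ, hθ⟩ := Cfsg.Agent.Lib.H1Singer.exists_gen F p 2
  have hq : 1 < Fintype.card F := Fintype.one_lt_card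
  have hq2 : Fintype.card F ^ 2 - 1 = (Fintype.card F - 1) * (Fintype.card F + 1) := by
    obtain ⟨k, hk⟩ : ∃ k, Fintype.card F = k + 1 := ⟨Fintype.card F - 1, by omega⟩
    rw [hk]
    simp only [Nat.add_sub_cancel]
    have : (k + 1) ^ 2 = k * (k + 1 + 1) + 1 := by ring
    omega
  set ξ := θ ^ (Fintype.card F - 1) with hξ
  have hord : orderOf ξ = Fintype.card F + 1 := by
    rw [hξ, orderOf_pow_of_dvd (by omega) (by rw [hθ, hq2]; exact dvd_mul_right _ _), hθ, hq2,
      Nat.mul_div_cancel_left _ (by omega)]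
  have hpow : ∀ x : FiniteField.Extension F p 2,
      algebraMap F _ (Algebra.norm F x) = x ^ (Fintype.card F + 1) := by
    intro x
    have h1 := FiniteField.algebraMap_norm_eq_pow (K := F) (K' := FiniteField.Extension F p 2) (x := x)
    have h2 : (Nat.card (FiniteField.Extension F p 2) - 1) / (Nat.card F - 1) = Fintype.card F + 1 := by
      rw [FiniteField.natCard_extension, Nat.card_eq_fintype_card, hq2,
        Nat.mul_div_cancel_left _ (by omega)]
    rw [h2] at h1
    exact h1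
  have hξ1 : ((ξ : FiniteField.Extension F p 2)) ^ (Fintype.card F + 1) = 1 := by
    rw [← hord, ← Units.val_pow_eq_pow_val, pow_orderOf_eq_one, Units.val_one]
  have hnorm : Algebra.norm F ((ξ : FiniteField.Extension F p 2)) = 1 := by
    have h1 := hpow (ξ : FiniteField.Extension F p 2)
    rw [hξ1] at h1
    exact (algebraMap F _).injective (h1.trans (map_one _).symm)
  have hprim : IsPrimitiveRoot ((ξ : FiniteField.Extension F p 2)) (Fintype.card F + 1) := by
    rw [IsPrimitiveRoot.coe_units_iff, ← hord]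
    exact IsPrimitiveRoot.orderOf ξ
  let τ : SL2 F := ⟨Cfsg.Agent.Lib.H1Singer.rho F p 2 ξ, by
    rw [Cfsg.Agent.Lib.H1Singer.det_rho, hnorm]⟩
  have hτpow : ∀ n : ℕ, ((τ ^ n : SL2 F) : M2 F) =
      Cfsg.Agent.Lib.H1Singer.rho F p 2 ((ξ : FiniteField.Extension F p 2) ^ n) := by
    intro n
    rw [map_pow, Matrix.SpecialLinearGroup.coe_pow]
  refine ⟨τ, ?_, ?_, ?_⟩
  · rw [← hord, orderOf_eq_orderOf_iff]
    intro n
    constructor
    · intro h
      have h1 := hτpow n
      rw [h] at h1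
      apply Units.ext
      apply Cfsg.Agent.Lib.H1Singer.rho_injective F p 2
      rw [Units.val_pow_eq_pow_val, ← h1, Units.val_one, map_one]
      simp
    · intro h
      have h1 := hτpow n
      rw [← Units.val_pow_eq_pow_val, h, Units.val_one, map_one] at h1
      apply Subtype.ext
      rw [h1]
      simp
  · intro t ht
    obtain ⟨Q, hQ⟩ := dvd_X_pow_card_add_one t ht
    set φ := algebraMap F (FiniteField.Extension F p 2) with hφ
    have hd : (X ^ 2 - C t * X + 1 : F[X]).map φ ∣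
        (X ^ (Fintype.card F + 1) - 1 : (FiniteField.Extension F p 2)[X]) := by
      rw [show (X ^ (Fintype.card F + 1) - 1 : (FiniteField.Extension F p 2)[X]) =
        (X ^ (Fintype.card F + 1) - 1 : F[X]).map φ by simp, hQ, Polynomial.map_mul]
      exact dvd_mul_right _ _
    have hsp : (X ^ (Fintype.card F + 1) - 1 : (FiniteField.Extension F p 2)[X]).Splits :=
      X_pow_sub_one_splits hprim
    have hne : (X ^ (Fintype.card F + 1) - 1 : (FiniteField.Extension F p 2)[X]) ≠ 0 :=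
      Polynomial.X_pow_sub_C_ne_zero (by omega) _
    have hsp2 := hsp.of_dvd hne hd
    have hdeg : ((X ^ 2 - C t * X + 1 : F[X]).map φ).degree ≠ 0 := by
      have h1 : (X ^ 2 - C t * X + 1 : F[X]).natDegree = 2 := by compute_degree!
      have h2 : (X ^ 2 - C t * X + 1 : F[X]).Monic := by monicity!
      rw [Polynomial.degree_map, Polynomial.degree_eq_natDegree h2.ne_zero, h1]
      norm_num
    obtain ⟨y, hy⟩ := hsp2.exists_eval_eq_zero hdeg
    have hy1 : y ^ 2 - φ t * y + 1 = 0 := by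
      simpa using hy
    have hy2 : y ^ (Fintype.card F + 1) = 1 := by
      obtain ⟨R, hR⟩ := hd
      have := congrArg (Polynomial.eval y) hR
      rw [Polynomial.eval_mul, hy, zero_mul] at this
      simp at this
      exact sub_eq_zero.mp this
    obtain ⟨k, -, hk⟩ := hprim.eq_pow_of_pow_eq_one hy2
    refine ⟨k, ?_⟩
    have h1 := hτpow k
    rw [hk] at h1
    have h2 := cayley (τ ^ k)
    have h3 : (Cfsg.Agent.Lib.H1Singer.rho F p 2 y) * (Cfsg.Agent.Lib.H1Singer.rho F p 2 y) =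
        t • (Cfsg.Agent.Lib.H1Singer.rho F p 2 y) - 1 := by
      have h4 : y * y = φ t * y - 1 := by linear_combination hy1
      rw [← map_mul, h4, map_sub, map_mul, AlgHom.commutes, map_one, Algebra.algebraMap_eq_smul_one,
        smul_mul_assoc, one_mul]
    rw [h1, h3] at h2
    have h4 : (t - tr (τ ^ k)) • (Cfsg.Agent.Lib.H1Singer.rho F p 2 y) = 0 := by
      rw [sub_smul]
      exact sub_eq_zero.mpr (sub_left_injective h2)
    rcases smul_eq_zero.mp h4 with h5 | h5
    · exact (sub_eq_zero.mp h5).symm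
    · exfalso
      have h6 := (τ ^ k).2
      have h7 : ((τ ^ k : SL2 F) : M2 F) = 0 := h1.trans h5
      rw [h7] at h6
      simp at h6
  · intro g hτns hg
    obtain ⟨a, b, hab⟩ := Cfsg.Agent.Lib.H1GL2C.comm_eq_add_smul (τ : M2 F) (g : M2 F) hτns
      (congrArg Subtype.val hg)
    let x : FiniteField.Extension F p 2 := algebraMap F _ a + algebraMap F _ b * ξ
    have hx : Cfsg.Agent.Lib.H1Singer.rho F p 2 x = (g : M2 F) := by
      rw [hab]
      simp only [x, map_add, map_mul, AlgHom.commutes]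
      rw [Algebra.algebraMap_eq_smul_one, Algebra.algebraMap_eq_smul_one, smul_mul_assoc, one_mul]
    have hdet : Algebra.norm F x = 1 := by
      rw [← Cfsg.Agent.Lib.H1Singer.det_rho, hx]
      exact g.2
    have hx1 : x ^ (Fintype.card F + 1) = 1 := by
      rw [← hpow, hdet, map_one]
    obtain ⟨k, -, hk⟩ := hprim.eq_pow_of_pow_eq_one hx1
    refine ⟨k, ?_⟩
    apply Subtype.ext
    rw [hτpow, hk, hx]

/-- A root of the characteristic polynomial gives an eigenvector. -/
theorem eigen_of_root (g : SL2 F) (s : F) (hs : s ^ 2 - tr g * s + 1 = 0) :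
    ∃ v : Fin 2 → F, v ≠ 0 ∧ (g : M2 F).mulVec v = s • v := by
  have h1 : ((g : M2 F) - s • (1 : M2 F)).det = 0 := by
    rw [det2]
    simp
    have hd := sl_det g
    simp only [tr] at hs
    linear_combination hd + hs
  obtain ⟨v, hv, hv2⟩ := Matrix.exists_mulVec_eq_zero_iff.mpr h1
  refine ⟨v, hv, ?_⟩
  rw [Matrix.sub_mulVec, Matrix.smul_mulVec, Matrix.one_mulVec] at hv2
  exact sub_eq_zero.mp hv2

/-- Elements with no eigenvector have no root. -/
theorem no_root_of_no_eigen (g : SL2 F)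
    (h : ∀ (c : F) (v : Fin 2 → F), v ≠ 0 → (g : M2 F).mulVec v ≠ c • v) (s : F) :
    s ^ 2 - tr g * s + 1 ≠ 0 := by
  intro hs
  obtain ⟨v, hv, hv2⟩ := eigen_of_root g s hs
  exact h s v hv hv2

end Cfsg.Agent.Lib.H1Torus
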