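import Mathlib
import Cfsg.Agent.Lib.H1Torus
import Cfsg.Agent.Lib.H1Fusion

set_option autoImplicit false

/-! Tori of `SL₂`: split and nonsplit tori, Sylow subgroups. -/

namespace Cfsg.Agent.Lib.H1Torus

open Matrix Polynomial Cfsg.Agent.Lib.H1GL2 Cfsg.Agent.Lib.H1SL2 Cfsg.Agent.Lib.H1PSL2 Cfsg.Agent.Lib.H1PSL2P
  Cfsg.Agent.Lib.H1SL2C

open scoped Pointwise

variable {F : Type*} [Field F] [Fintype F]

/-- Cyclic torus facts. -/
theorem Tz_eq_zpowers {x : SL2 F} (hgen : ∀ t ∈ Tz x, ∃ k : ℕ, t = x ^ k) :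
    Tz x = Subgroup.zpowers x := by
  apply le_antisymm
  · intro t ht
    obtain ⟨k, rfl⟩ := hgen t ht
    exact Subgroup.npow_mem_zpowers x k
  · rw [Subgroup.zpowers_le]
    exact self_mem_Tz x

theorem card_Tz {x : SL2 F} (hgen : ∀ t ∈ Tz x, ∃ k : ℕ, t = x ^ k) :
    Nat.card (Tz x) = orderOf x := by
  rw [Tz_eq_zpowers hgen, Nat.card_zpowers]

theorem isCyclic_Tz {x : SL2 F} (hgen : ∀ t ∈ Tz x, ∃ k : ℕ, t = x ^ k) : IsCyclic (Tz x) := by
  rw [Tz_eq_zpowers hgen]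
  exact Subgroup.isCyclic_zpowers x

theorem comm_Tz {x : SL2 F} (hgen : ∀ t ∈ Tz x, ∃ k : ℕ, t = x ^ k) {s t : SL2 F} (hs : s ∈ Tz x)
    (ht : t ∈ Tz x) : s * t = t * s := by
  obtain ⟨k, rfl⟩ := hgen s hs
  obtain ⟨l, rfl⟩ := hgen t ht
  rw [← pow_add, ← pow_add, add_comm]

/-- Conjugating the data of a torus. -/
theorem Tz_conj (x g t : SL2 F) (ht : t ∈ Tz (g * x * g⁻¹)) : g⁻¹ * t * g ∈ Tz x := by
  rw [mem_Tz] at ht ⊢
  calc g⁻¹ * t * g * x = g⁻¹ * (t * (g * x * g⁻¹)) * g := by group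
    _ = g⁻¹ * ((g * x * g⁻¹) * t) * g := by rw [ht]
    _ = x * (g⁻¹ * t * g) := by group

/-- The Sylow subgroup inside a torus: the main lemma. -/
theorem sylow_of_le_Tz {x : SL2 F} (hx : tr x ^ 2 ≠ 4) (hgen : ∀ t ∈ Tz x, ∃ k : ℕ, t = x ^ k)
    {ℓ : ℕ} [hℓ : Fact ℓ.Prime] (hℓ2 : ℓ ≠ 2) (P : Sylow ℓ (SL2 F)) (hP : (P : Subgroup (SL2 F)) ≤ Tz x)
    (hne : (P : Subgroup (SL2 F)) ≠ ⊥) :
    Subgroup.centralizer ((P : Subgroup (SL2 F)) : Set (SL2 F)) = Tz x ∧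
      Subgroup.normalizer ((P : Subgroup (SL2 F)) : Set (SL2 F)) =
        Subgroup.normalizer ((Tz x : Subgroup (SL2 F)) : Set (SL2 F)) := by
  obtain ⟨y, hyP, hy1⟩ := (Subgroup.bot_or_exists_ne_one _).resolve_left hne
  have hyM : y ≠ mone := by
    rintro rfl
    obtain ⟨k, hk⟩ := P.isPGroup' ⟨mone, hyP⟩
    have h1 : (mone : SL2 F) ^ (ℓ ^ k) = 1 := by
      have := congrArg Subtype.val hk
      simpa using this
    have hodd : Odd (ℓ ^ k) := (hℓ.out.odd_of_ne_two hℓ2).pow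
    obtain ⟨j, hj⟩ := hodd
    rw [hj, pow_succ, pow_mul, pow_two, mone_mul_mone, one_pow, one_mul] at h1
    exact hy1 h1
  have hT := Tz_eq hx (hP hyP) hy1 hyM
  have hC : Subgroup.centralizer ((P : Subgroup (SL2 F)) : Set (SL2 F)) = Tz x := by
    apply le_antisymm
    · intro c hc
      rw [← hT]
      apply mem_Tz.mpr
      exact ((Subgroup.mem_centralizer_iff.mp hc) y hyP).symm
    · intro t ht
      rw [Subgroup.mem_centralizer_iff]
      intro h hh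
      exact comm_Tz hgen (hP hh) ht
  refine ⟨hC, le_antisymm ?_ ?_⟩
  · have := Cfsg.Agent.Lib.H1Fusion.normalizer_le_normalizer_centralizer (P : Subgroup (SL2 F))
    rwa [hC] at this
  · intro g hg
    apply Cfsg.Agent.Lib.H1Conj.mem_normalizer_of_conj_smul_eq
    obtain ⟨R, hR⟩ := Cfsg.Agent.Lib.H1Fusion.exists_sylow_conj P g
    rw [← hR]
    have hRT : (R : Subgroup (SL2 F)) ≤ Tz x := by
      rw [hR]
      intro z hz
      rw [Cfsg.Agent.Lib.H1Core.mem_conj_smul] at hz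
      have h1 := hP hz
      have h2 := (Subgroup.mem_normalizer_iff.mp hg _).mp h1
      have e : g * (g⁻¹ * z * g) * g⁻¹ = z := by group
      rwa [e] at h2
    haveI hn : (P.subtype hP : Subgroup (Tz x)).Normal := by
      constructor
      rintro ⟨n, hn⟩ hn2 ⟨c, hc⟩
      have hcomm : (⟨c, hc⟩ : Tz x) * ⟨n, hn⟩ * (⟨c, hc⟩ : Tz x)⁻¹ = ⟨n, hn⟩ := by
        apply Subtype.ext
        simp only [Subgroup.coe_mul, Subgroup.coe_inv]
        rw [comm_Tz hgen hc hn, mul_inv_cancel_right]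
      rw [hcomm]
      exact hn2
    have h3 : R.subtype hRT = P.subtype hP := by
      haveI := Sylow.unique_of_normal (P.subtype hP) hn
      exact Subsingleton.elim _ _
    have h4 := congrArg (fun S : Sylow ℓ (Tz x) => (S : Subgroup (Tz x))) h3
    simp only [Sylow.coe_subtype] at h4
    have h5 := (Subgroup.subgroupOf_inj).mp h4
    rwa [inf_eq_left.mpr hRT, inf_eq_left.mpr hP] at h5

/-- Sylow subgroups are conjugate into a torus whose index is prime to `ℓ`. -/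
theorem exists_conj_le_Tz (x : SL2 F) {ℓ : ℕ} [hℓ : Fact ℓ.Prime] (hidx : ¬ ℓ ∣ (Tz x).index)
    (P : Sylow ℓ (SL2 F)) : ∃ g : SL2 F, (P : Subgroup (SL2 F)) ≤ Tz (g * x * g⁻¹) := by
  obtain ⟨Q⟩ : Nonempty (Sylow ℓ (Tz x)) := inferInstance
  have h1 : IsPGroup ℓ ((Q : Subgroup (Tz x)).map (Tz x).subtype) :=
    Q.isPGroup'.map _
  have h2 : ¬ ℓ ∣ ((Q : Subgroup (Tz x)).map (Tz x).subtype).index := by
    rw [Subgroup.index_map_subtype]
    intro h
    rcases (Nat.Prime.dvd_mul hℓ.out).mp h with h3 | h3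
    · exact Q.not_dvd_index h3
    · exact hidx h3
  let P₁ : Sylow ℓ (SL2 F) := h1.toSylow h2
  obtain ⟨g, hg⟩ := MulAction.exists_smul_eq (SL2 F) P₁ P
  refine ⟨g, ?_⟩
  rw [← hg, Sylow.coe_subgroup_smul]
  intro z hz
  rw [Cfsg.Agent.Lib.H1Core.mem_conj_smul] at hz
  have h3 : g⁻¹ * z * g ∈ ((Q : Subgroup (Tz x)).map (Tz x).subtype) := hz
  have h4 : g⁻¹ * z * g ∈ Tz x := by
    obtain ⟨t, -, ht⟩ := h3
    rw [← ht]
    exact t.2
  apply mem_Tz.mpr
  have h5 := mem_Tz.mp h4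
  calc z * (g * x * g⁻¹) = g * ((g⁻¹ * z * g) * x) * g⁻¹ := by group
    _ = g * (x * (g⁻¹ * z * g)) * g⁻¹ := by rw [h5]
    _ = g * x * g⁻¹ * z := by group

/-- The Sylow theorem for cyclic tori. -/
theorem sylow_torus {x : SL2 F} (hx : tr x ^ 2 ≠ 4) (hgen : ∀ t ∈ Tz x, ∃ k : ℕ, t = x ^ k)
    {ℓ : ℕ} [hℓ : Fact ℓ.Prime] (hℓ2 : ℓ ≠ 2) (hdvd : ℓ ∣ orderOf x) (hidx : ¬ ℓ ∣ (Tz x).index)
    (P : Sylow ℓ (SL2 F)) :
    Nat.card (Subgroup.centralizer ((P : Subgroup (SL2 F)) : Set (SL2 F))) = orderOf x ∧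
    IsCyclic (Subgroup.centralizer ((P : Subgroup (SL2 F)) : Set (SL2 F))) ∧
    Nat.card (Subgroup.normalizer ((P : Subgroup (SL2 F)) : Set (SL2 F))) = 2 * orderOf x := by
  obtain ⟨g, hg⟩ := exists_conj_le_Tz x hidx P
  set x' := g * x * g⁻¹ with hx'
  have hconj : IsConj x x' := isConj_iff.mpr ⟨g, rfl⟩
  have hx2 : tr x' ^ 2 ≠ 4 := by rwa [← tr_of_isConj hconj]
  have hord : orderOf x' = orderOf x := by
    rw [hx']
    exact (orderOf_injective (MulAut.conj g).toMonoidHom (MulAut.conj g).injective x)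
  have hgen2 : ∀ t ∈ Tz x', ∃ k : ℕ, t = x' ^ k := by
    intro t ht
    obtain ⟨k, hk⟩ := hgen _ (Tz_conj x g t ht)
    refine ⟨k, ?_⟩
    rw [hx', conj_pow, ← hk]
    group
  have hne : (P : Subgroup (SL2 F)) ≠ ⊥ := by
    apply P.ne_bot_of_dvd_card
    rw [← Subgroup.index_mul_card (Tz x)]
    apply Dvd.dvd.mul_left
    rw [card_Tz hgen]
    exact hdvd
  obtain ⟨hC, hN⟩ := sylow_of_le_Tz hx2 hgen2 hℓ2 P hg hne
  rw [hC, hN, card_normalizer hx2, card_Tz hgen2, hord]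
  exact ⟨rfl, isCyclic_Tz hgen2, rfl⟩

/-- Facts on the diagonal element. -/
theorem diag_tr {d : SL2 F} (h01 : (d : M2 F) 0 1 = 0) (ha : (d : M2 F) 0 0 ^ 2 ≠ 1) : tr d ^ 2 ≠ 4 := by
  have hd := sl_det d
  rw [h01, zero_mul, sub_zero] at hd
  intro h
  have h1 : ((d : M2 F) 0 0 - (d : M2 F) 1 1) ^ 2 = 0 := by
    simp only [tr] at h
    linear_combination h - 4 * hd
  have h2 : (d : M2 F) 0 0 - (d : M2 F) 1 1 = 0 := by simpa using h1
  have h3 : (d : M2 F) 0 0 = (d : M2 F) 1 1 := sub_eq_zero.mp h2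
  apply ha
  rw [pow_two]
  nth_rewrite 2 [h3]
  exact hd

theorem mem_Tz_diag {d : SL2 F} (h01 : (d : M2 F) 0 1 = 0) (h10 : (d : M2 F) 1 0 = 0)
    (ha : (d : M2 F) 0 0 ^ 2 ≠ 1) (g : SL2 F) :
    g ∈ Tz d ↔ ((g : M2 F) 0 1 = 0 ∧ (g : M2 F) 1 0 = 0) := by
  have hd := sl_det d
  rw [h01, zero_mul, sub_zero] at hd
  have hne : (d : M2 F) 0 0 - (d : M2 F) 1 1 ≠ 0 := by
    intro h2
    have h3 : (d : M2 F) 0 0 = (d : M2 F) 1 1 := sub_eq_zero.mp h2
    apply ha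
    rw [pow_two]
    nth_rewrite 2 [h3]
    exact hd
  rw [mem_Tz]
  constructor
  · intro h
    have e01 := congrArg (fun z : SL2 F => (z : M2 F) 0 1) h
    have e10 := congrArg (fun z : SL2 F => (z : M2 F) 1 0) h
    simp only [sl_mul01, sl_mul10, h01, h10] at e01 e10
    have h1 : (g : M2 F) 0 1 * ((d : M2 F) 0 0 - (d : M2 F) 1 1) = 0 := by linear_combination -e01
    have h2 : (g : M2 F) 1 0 * ((d : M2 F) 0 0 - (d : M2 F) 1 1) = 0 := by linear_combination e10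
    exact ⟨(mul_eq_zero.mp h1).resolve_right hne, (mul_eq_zero.mp h2).resolve_right hne⟩
  · rintro ⟨h1, h2⟩
    apply sl_ext <;> simp only [sl_mul00, sl_mul01, sl_mul10, sl_mul11, h01, h10, h1, h2] <;> ring

/-- The diagonal torus is generated by a generator of `Fˣ`. -/
theorem diag_gen (ζ : Fˣ) (hζ : ∀ u : Fˣ, ∃ k : ℕ, u = ζ ^ k) {d : SL2 F}
    (h01 : (d : M2 F) 0 1 = 0) (h10 : (d : M2 F) 1 0 = 0) (ha : (d : M2 F) 0 0 ^ 2 ≠ 1) :
    ∀ t ∈ Tz d, ∃ k : ℕ, t = (dg ζ) ^ k := by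
  intro t ht
  obtain ⟨h1, h2⟩ := (mem_Tz_diag h01 h10 ha t).mp ht
  have hdt := sl_det t
  rw [h1, zero_mul, sub_zero] at hdt
  have h0 : (t : M2 F) 0 0 ≠ 0 := by
    intro h
    rw [h, zero_mul] at hdt
    exact zero_ne_one hdt
  obtain ⟨k, hk⟩ := hζ (Units.mk0 _ h0)
  refine ⟨k, ?_⟩
  rw [← map_pow, ← hk]
  apply sl_ext
  · rfl
  · simpa using h1
  · simpa using h2
  · simp only [dg11, Units.val_inv_eq_inv_val, Units.val_mk0]
    exact eq_inv_of_mul_eq_one_right hdt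

/-- The Sylow structure for `ℓ ∣ q - 1`. -/
theorem sylow_split (hodd : Odd (Fintype.card F)) {ℓ : ℕ} [hℓ : Fact ℓ.Prime] (hℓ2 : ℓ ≠ 2)
    (hdvd : ℓ ∣ Fintype.card F - 1) (P : Sylow ℓ (SL2 F)) :
    Nat.card (Subgroup.centralizer ((P : Subgroup (SL2 F)) : Set (SL2 F))) = Fintype.card F - 1 ∧
    IsCyclic (Subgroup.centralizer ((P : Subgroup (SL2 F)) : Set (SL2 F))) ∧
    Nat.card (Subgroup.normalizer ((P : Subgroup (SL2 F)) : Set (SL2 F))) = 2 * (Fintype.card F - 1) := by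
  classical
  have hq : 1 < Fintype.card F := Fintype.one_lt_card
  obtain ⟨ζ, hζ⟩ := IsCyclic.exists_ofOrder_eq_natCard (α := Fˣ)
  rw [Nat.card_units, Nat.card_eq_fintype_card] at hζ
  have hζgen : ∀ u : Fˣ, ∃ k : ℕ, u = ζ ^ k := by
    intro u
    have h1 : Function.Bijective (fun i : Fin (orderOf ζ) => ζ ^ (i : ℕ)) := by
      rw [Fintype.bijective_iff_injective_and_card]
      refine ⟨fun i j h => Fin.ext (pow_injOn_Iio_orderOf i.2 j.2 h), ?_⟩
      rw [Fintype.card_fin, hζ, Fintype.card_units]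
    obtain ⟨i, hi⟩ := h1.2 u
    exact ⟨i, hi.symm⟩
  have hℓ3 : 3 ≤ ℓ := by have := hℓ.out.two_le; omega
  have hq4 : 4 ≤ Fintype.card F := by
    have := Nat.le_of_dvd (by omega) hdvd
    omega
  have hsq : (ζ : F) ^ 2 ≠ 1 := by
    intro h
    have h1 : ζ ^ 2 = 1 := Units.ext (by simpa using h)
    have h2 := orderOf_dvd_of_pow_eq_one h1
    rw [hζ] at h2
    have := Nat.le_of_dvd (by norm_num) h2
    omega
  have h01 : (dg ζ : M2 F) 0 1 = 0 := rfl
  have h10 : (dg ζ : M2 F) 1 0 = 0 := rfl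
  have hx := diag_tr h01 hsq
  have hgen := diag_gen ζ hζgen h01 h10 hsq
  have hord : orderOf (dg ζ) = Fintype.card F - 1 := by
    rw [orderOf_injective dg dg_injective, hζ]
  have hidx : ¬ ℓ ∣ (Tz (dg ζ)).index := by
    have h1 := Subgroup.index_mul_card (Tz (dg ζ))
    rw [card_Tz hgen, hord, card_sl2] at h1
    have h2 : Fintype.card F ^ 2 - 1 = (Fintype.card F - 1) * (Fintype.card F + 1) := by
      obtain ⟨k, hk⟩ : ∃ k, Fintype.card F = k + 1 := ⟨Fintype.card F - 1, by omega⟩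
      rw [hk]
      simp only [Nat.add_sub_cancel]
      have : (k + 1) ^ 2 = k * (k + 1 + 1) + 1 := by ring
      omega
    rw [h2] at h1
    have h3 : (Tz (dg ζ)).index = Fintype.card F * (Fintype.card F + 1) := by
      have h4 : 0 < Fintype.card F - 1 := by omega
      apply Nat.eq_of_mul_eq_mul_right h4
      rw [h1]
      ring
    rw [h3]
    intro h5
    rcases (Nat.Prime.dvd_mul hℓ.out).mp h5 with h6 | h6
    · have : ℓ ∣ 1 := by
        have h7 := Nat.dvd_sub h6 hdvd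
        have e : Fintype.card F - (Fintype.card F - 1) = 1 := by omega
        rwa [e] at h7
      exact hℓ.out.one_lt.ne' (Nat.dvd_one.mp this)
    · have : ℓ ∣ 2 := by
        have h7 := Nat.dvd_sub h6 hdvd
        have e : Fintype.card F + 1 - (Fintype.card F - 1) = 2 := by omega
        rwa [e] at h7
      exact hℓ2 ((Nat.prime_dvd_prime_iff_eq hℓ.out Nat.prime_two).mp this)
  have := sylow_torus hx hgen hℓ2 (by rw [hord]; exact hdvd) hidx P
  rwa [hord] at this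

/-- A generator of the nonsplit torus has no eigenvalue in `F`. -/
theorem ns_gen_props (τ : SL2 F) (hord : orderOf τ = Fintype.card F + 1) :
    tr τ ^ 2 ≠ 4 ∧ ¬ IsScalar (τ : M2 F) := by
  obtain ⟨p, hp⟩ := CharP.exists F
  haveI : Fact p.Prime := ⟨CharP.char_is_prime F p⟩
  have hpp : p.Prime := Fact.out
  obtain ⟨f, hf⟩ := FiniteField.card F p
  have hq : 1 < Fintype.card F := Fintype.one_lt_card
  have hpq : p ∣ Fintype.card F := by
    rw [hf.2]
    exact dvd_pow_self p (by exact_mod_cast f.2.ne')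
  have hcop : Nat.Coprime (Fintype.card F + 1) p := by
    rw [Nat.coprime_comm, hpp.coprime_iff_not_dvd]
    intro h
    have h4 : p ∣ 1 := (Nat.dvd_add_right hpq).mp h
    exact hpp.one_lt.ne' (Nat.dvd_one.mp h4)
  have h4 : tr τ ^ 2 ≠ 4 := by
    intro h
    have h1 : τ ^ (p * 2) = 1 := by
      rcases (sq_eq_four_iff _).mp h with h2 | h2
      · rw [pow_mul, pow_p_of_tr_two τ h2, one_pow]
      · have h3 : tr (mone * τ) = 2 := by rw [tr_mone_mul, h2]; ring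
        have h5 := pow_p_of_tr_two _ h3
        have h6 : τ ^ (p * 2) = (mone * τ) ^ (p * 2) := by
          have hc : Commute mone τ := mone_comm τ
          rw [hc.mul_pow, mul_comm p 2, pow_mul mone, pow_two mone, mone_mul_mone, one_pow, one_mul]
        rw [h6, pow_mul, h5, one_pow]
    have h2 := orderOf_dvd_of_pow_eq_one h1
    rw [hord] at h2
    have h3 : Fintype.card F + 1 ∣ 2 := hcop.dvd_of_dvd_mul_left h2
    have := Nat.le_of_dvd (by norm_num) h3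
    omega
  exact ⟨h4, not_scalar h4⟩

/-- The Sylow structure for `ℓ ∣ q + 1`. -/
theorem sylow_nonsplit {ℓ : ℕ} [hℓ : Fact ℓ.Prime] (hℓ2 : ℓ ≠ 2)
    (hdvd : ℓ ∣ Fintype.card F + 1) (P : Sylow ℓ (SL2 F)) :
    Nat.card (Subgroup.centralizer ((P : Subgroup (SL2 F)) : Set (SL2 F))) = Fintype.card F + 1 ∧
    IsCyclic (Subgroup.centralizer ((P : Subgroup (SL2 F)) : Set (SL2 F))) ∧
    Nat.card (Subgroup.normalizer ((P : Subgroup (SL2 F)) : Set (SL2 F))) = 2 * (Fintype.card F + 1) := by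
  have hq : 1 < Fintype.card F := Fintype.one_lt_card
  obtain ⟨τ, hord, -, hgen0⟩ := ns_data (F := F)
  obtain ⟨hx, hns⟩ := ns_gen_props τ hord
  have hgen : ∀ t ∈ Tz τ, ∃ k : ℕ, t = τ ^ k := fun t ht => hgen0 t hns (mem_Tz.mp ht)
  have hidx : ¬ ℓ ∣ (Tz τ).index := by
    have h1 := Subgroup.index_mul_card (Tz τ)
    rw [card_Tz hgen, hord, card_sl2] at h1
    have h2 : Fintype.card F ^ 2 - 1 = (Fintype.card F - 1) * (Fintype.card F + 1) := by
      obtain ⟨k, hk⟩ : ∃ k, Fintype.card F = k + 1 := ⟨Fintype.card F - 1, by omega⟩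
      rw [hk]
      simp only [Nat.add_sub_cancel]
      have : (k + 1) ^ 2 = k * (k + 1 + 1) + 1 := by ring
      omega
    rw [h2] at h1
    have h3 : (Tz τ).index = Fintype.card F * (Fintype.card F - 1) := by
      apply Nat.eq_of_mul_eq_mul_right (by omega : 0 < Fintype.card F + 1)
      rw [h1]
      ring
    rw [h3]
    intro h5
    rcases (Nat.Prime.dvd_mul hℓ.out).mp h5 with h6 | h6
    · have : ℓ ∣ 1 := by
        have h7 := Nat.dvd_sub hdvd h6
        have e : Fintype.card F + 1 - Fintype.card F = 1 := by omega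
        rwa [e] at h7
      exact hℓ.out.one_lt.ne' (Nat.dvd_one.mp this)
    · have : ℓ ∣ 2 := by
        have h7 := Nat.dvd_sub hdvd h6
        have e : Fintype.card F + 1 - (Fintype.card F - 1) = 2 := by omega
        rwa [e] at h7
      exact hℓ2 ((Nat.prime_dvd_prime_iff_eq hℓ.out Nat.prime_two).mp this)
  have := sylow_torus hx hgen hℓ2 (by rw [hord]; exact hdvd) hidx P
  rwa [hord] at this

end Cfsg.Agent.Lib.H1Torus
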