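import Mathlib
import Cfsg.Agent.Lib.H1Torus2

set_option autoImplicit false

/-! Sylow `2`-subgroups of `SL₂(q)`, `q` odd. -/

namespace Cfsg.Agent.Lib.H1SL2Syl2

open Matrix Cfsg.Agent.Lib.H1GL2 Cfsg.Agent.Lib.H1SL2 Cfsg.Agent.Lib.H1PSL2 Cfsg.Agent.Lib.H1PSL2P
  Cfsg.Agent.Lib.H1SL2C Cfsg.Agent.Lib.H1Torus

open scoped Pointwise

/-- Extension of a subgroup by an inverting element. -/
theorem exists_ext {G : Type*} [Group G] (U : Subgroup G) (w : G)
    (hinv : ∀ a ∈ U, w * a * w⁻¹ = a⁻¹) (hw : w * w ∈ U) :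
    ∃ R : Subgroup G, ∀ g, g ∈ R ↔ g ∈ U ∨ g * w⁻¹ ∈ U := by
  have h1 : ∀ a ∈ U, w * a = a⁻¹ * w := by
    intro a ha
    calc w * a = w * a * w⁻¹ * w := by group
      _ = a⁻¹ * w := by rw [hinv a ha]
  refine ⟨{ carrier := {g | g ∈ U ∨ g * w⁻¹ ∈ U}
            mul_mem' := ?_
            one_mem' := Or.inl U.one_mem
            inv_mem' := ?_ }, fun g => Iff.rfl⟩
  · rintro g h (hg | hg) (hh | hh)
    · exact Or.inl (U.mul_mem hg hh)
    · right
      rw [mul_assoc]
      exact U.mul_mem hg hh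
    · right
      have e : g * h * w⁻¹ = (g * w⁻¹) * (w * h * w⁻¹) := by group
      rw [e, hinv h hh]
      exact U.mul_mem hg (U.inv_mem hh)
    · left
      have e : g * h = (g * w⁻¹) * (w * (h * w⁻¹) * w⁻¹) * (w * w) := by group
      rw [e, hinv _ hh]
      exact U.mul_mem (U.mul_mem hg (U.inv_mem hh)) hw
  · rintro g (hg | hg)
    · exact Or.inl (U.inv_mem hg)
    · right
      have e : g⁻¹ * w⁻¹ = (w * w)⁻¹ * (w * (g * w⁻¹)⁻¹ * w⁻¹) := by group
      rw [e, hinv _ (U.inv_mem hg)]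
      exact U.mul_mem (U.inv_mem hw) (U.inv_mem (U.inv_mem hg))

/-- The order of an extension. -/
theorem card_ext {G : Type*} [Group G] [Finite G] (U R : Subgroup G) (w : G) (hwU : w ∉ U)
    (hR : ∀ g, g ∈ R ↔ g ∈ U ∨ g * w⁻¹ ∈ U) : Nat.card R = 2 * Nat.card U := by
  have hUR : U ≤ R := fun g hg => (hR g).mpr (Or.inl hg)
  have hwR : w ∈ R := (hR w).mpr (Or.inr (by rw [mul_inv_cancel]; exact U.one_mem))
  have hidx : (U.subgroupOf R).index = 2 := by
    rw [Subgroup.index_eq_two_iff]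
    refine ⟨⟨w, hwR⟩, ?_⟩
    rintro ⟨b, hb⟩
    simp only [Subgroup.mem_subgroupOf, Subgroup.coe_mul]
    by_cases hbU : b ∈ U
    · right
      refine ⟨hbU, ?_⟩
      intro h
      apply hwU
      have : w = b⁻¹ * (b * w) := by group
      rw [this]
      exact U.mul_mem (U.inv_mem hbU) h
    · left
      refine ⟨?_, hbU⟩
      rcases (hR (b * w)).mp (R.mul_mem hb hwR) with h | h
      · exact h
      · exfalso
        apply hbU
        have : b = b * w * w⁻¹ := by group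
        rw [this]
        exact h
  have h1 := Subgroup.card_mul_index (U.subgroupOf R)
  rw [hidx, Cfsg.Agent.Lib.H1SZ.card_subgroupOf_of_le hUR] at h1
  rw [← h1, mul_comm]

variable {F : Type*} [Field F] [Fintype F]

/-- The hypotheses on the pair `x, w`. -/
structure Dat (x w : SL2 F) (a m : ℕ) : Prop where
  hx : tr x ^ 2 ≠ 4
  hgen : ∀ t ∈ Tz x, ∃ k : ℕ, t = x ^ k
  ha : 2 ≤ a
  hm : Odd m
  hord : orderOf x = 2 ^ a * m
  hw : w * x * w⁻¹ = x⁻¹
  h2 : (2 : F) ≠ 0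

namespace Dat

variable {x w : SL2 F} {a m : ℕ} (D : Dat x w a m)
include D

theorem hm0 : m ≠ 0 := by
  rintro rfl
  exact (by decide : ¬ Odd 0) D.hm

theorem ord_u : orderOf (x ^ m) = 2 ^ a := by
  have h0 := D.hm0
  rw [orderOf_pow_of_dvd h0 (by rw [D.hord]; exact dvd_mul_left _ _), D.hord]
  exact Nat.mul_div_cancel _ (Nat.pos_of_ne_zero h0)

theorem u_mem : x ^ m ∈ Tz x := (Tz x).pow_mem (self_mem_Tz x) m

theorem u_sq_mem : ∀ j : ℕ, (x ^ m) ^ j ∈ Tz x := fun j => (Tz x).pow_mem D.u_mem j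

theorem u_ne_one : x ^ m ≠ 1 := by
  intro h
  have h1 := D.ord_u
  rw [h, orderOf_one] at h1
  have : 2 ^ a ≥ 2 ^ 2 := Nat.pow_le_pow_right (by norm_num) D.ha
  omega

theorem u_ne_mone : x ^ m ≠ mone := by
  intro h
  have h1 := D.ord_u
  have h2 : (x ^ m) ^ 2 = 1 := by rw [h, pow_two, mone_mul_mone]
  have h3 := orderOf_dvd_of_pow_eq_one h2
  rw [h1] at h3
  have h4 := Nat.le_of_dvd (by norm_num) h3
  have : 2 ^ a ≥ 2 ^ 2 := Nat.pow_le_pow_right (by norm_num) D.ha
  omega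

theorem Tz_u : Tz (x ^ m) = Tz x := Tz_eq D.hx D.u_mem D.u_ne_one D.u_ne_mone

theorem hu4 : tr (x ^ m) ^ 2 ≠ 4 := eq_of_tr_four D.hx D.u_mem D.u_ne_one D.u_ne_mone

/-- A `2`-element of the torus lies in `U`. -/
theorem mem_U_of_two {t : SL2 F} (ht : t ∈ Tz x) {b : ℕ} (hb : t ^ 2 ^ b = 1) :
    t ∈ Subgroup.zpowers (x ^ m) := by
  obtain ⟨k, rfl⟩ := D.hgen t ht
  rw [← pow_mul] at hb
  have h1 := orderOf_dvd_of_pow_eq_one hb
  rw [D.hord] at h1
  have h2 : m ∣ k := by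
    have h3 : m ∣ k * 2 ^ b := (dvd_mul_left m _).trans h1
    have hc : Nat.Coprime m (2 ^ b) :=
      Nat.Coprime.pow_right b (Nat.coprime_two_right.mpr D.hm)
    exact hc.dvd_of_dvd_mul_right h3
  obtain ⟨l, rfl⟩ := h2
  rw [pow_mul]
  exact Subgroup.npow_mem_zpowers _ l

/-- `-1` lies in `U`. -/
theorem mone_mem_U : (mone : SL2 F) ∈ Subgroup.zpowers (x ^ m) := by
  have h0 : (x ^ m) ^ (2 ^ (a - 1)) * (x ^ m) ^ (2 ^ (a - 1)) = 1 := by
    rw [← pow_add, ← two_mul, ← pow_succ']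
    have e : a - 1 + 1 = a := by have := D.ha; omega
    rw [e, ← D.ord_u, pow_orderOf_eq_one]
  have h1 : (x ^ m) ^ (2 ^ (a - 1)) ≠ 1 := by
    intro h
    have h3 := orderOf_dvd_of_pow_eq_one h
    rw [D.ord_u] at h3
    have h4 : 2 ^ a ≤ 2 ^ (a - 1) := Nat.le_of_dvd (by positivity) h3
    have h5 : 2 ^ (a - 1) < 2 ^ a := Nat.pow_lt_pow_right (by norm_num) (by have := D.ha; omega)
    omega
  rcases eq_one_or_mone_of_sq D.h2 _ h0 with h | h
  · exact absurd h h1
  · rw [← h]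
    exact Subgroup.npow_mem_zpowers _ _

theorem w_sq : w * w = mone :=
  sq_outside D.hx ((mem_normalizer_iff D.hx w).mpr (Or.inr D.hw)) (not_mem_of_inverts D.hx D.hw)

theorem w_not_T : w ∉ Tz x := not_mem_of_inverts D.hx D.hw

theorem w_inv_all {t : SL2 F} (ht : t ∈ Tz x) : w * t * w⁻¹ = t⁻¹ := inverts_all D.hx D.hw ht

theorem U_le_T : Subgroup.zpowers (x ^ m) ≤ Tz x := by
  rw [Subgroup.zpowers_le]
  exact D.u_mem

/-- The existence of the Sylow subgroup. -/
theorem exists_R : ∃ R : Subgroup (SL2 F), ∀ g, g ∈ R ↔ g ∈ Subgroup.zpowers (x ^ m) ∨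
    g * w⁻¹ ∈ Subgroup.zpowers (x ^ m) := by
  apply exists_ext
  · intro t ht
    exact D.w_inv_all (D.U_le_T ht)
  · rw [D.w_sq]
    exact D.mone_mem_U

end Dat

/-- Properties of a subgroup `S` with the given description. -/
structure Syl (x w : SL2 F) (a m : ℕ) (S : Subgroup (SL2 F)) : Prop where
  D : Dat x w a m
  hS : ∀ g, g ∈ S ↔ g ∈ Subgroup.zpowers (x ^ m) ∨ g * w⁻¹ ∈ Subgroup.zpowers (x ^ m)

namespace Syl

variable {x w : SL2 F} {a m : ℕ} {S : Subgroup (SL2 F)} (H : Syl x w a m S)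
include H

theorem U_le : Subgroup.zpowers (x ^ m) ≤ S := fun g hg => (H.hS g).mpr (Or.inl hg)

theorem w_mem : w ∈ S := (H.hS w).mpr (Or.inr (by rw [mul_inv_cancel]; exact Subgroup.one_mem _))

theorem u_mem : x ^ m ∈ S := H.U_le (Subgroup.mem_zpowers _)

theorem card : Nat.card S = 2 ^ (a + 1) := by
  have h1 := card_ext _ S w (fun h => H.D.w_not_T (H.D.U_le_T h)) H.hS
  rw [h1, Nat.card_zpowers, H.D.ord_u, pow_succ']

/-- Part one: the centralizer. -/
theorem centralizer_eq :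
    Subgroup.centralizer (S : Set (SL2 F)) = Subgroup.center (SL2 F) := by
  apply le_antisymm
  · intro c hc
    rw [Subgroup.mem_centralizer_iff] at hc
    have h1 : c ∈ Tz x := by
      rw [← H.D.Tz_u]
      exact mem_Tz.mpr (hc _ H.u_mem).symm
    have h2 := H.D.w_inv_all h1
    have h3 : w * c = c * w := hc _ H.w_mem
    rw [h3, mul_inv_cancel_right] at h2
    have h4 : c * c = 1 := by
      nth_rewrite 1 [h2]
      exact inv_mul_cancel c
    exact (mem_center_iff c).mpr (eq_one_or_mone_of_sq H.D.h2 c h4)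
  · intro c hc
    rw [Subgroup.mem_centralizer_iff]
    intro y _
    exact (Subgroup.mem_center_iff.mp hc y)

/-- An element of the torus normalizing `S` lies in `U`. -/
theorem T_inter {t : SL2 F} (ht : t ∈ Tz x)
    (hn : t ∈ Subgroup.normalizer (S : Set (SL2 F))) : t ∈ Subgroup.zpowers (x ^ m) := by
  have h1 : t * w * t⁻¹ ∈ S := (Subgroup.mem_normalizer_iff.mp hn w).mp H.w_mem
  have h2 : t * w * t⁻¹ = t * t * w := by
    have h3 := H.D.w_inv_all ((Tz x).inv_mem ht)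
    rw [inv_inv] at h3
    calc t * w * t⁻¹ = t * (w * t⁻¹ * w⁻¹) * w := by group
      _ = t * t * w := by rw [h3]
  rw [h2] at h1
  have h3 : t * t ∈ Subgroup.zpowers (x ^ m) := by
    rcases (H.hS _).mp h1 with h | h
    · exfalso
      apply H.D.w_not_T
      have h4 := H.D.U_le_T h
      have : w = (t * t)⁻¹ * (t * t * w) := by group
      rw [this]
      exact (Tz x).mul_mem ((Tz x).inv_mem ((Tz x).mul_mem ht ht)) h4
    · have : t * t = t * t * w * w⁻¹ := by group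
      rw [this]
      exact h
  apply H.D.mem_U_of_two ht (b := a + 1)
  rw [pow_succ', pow_mul, pow_two, ← H.D.ord_u]
  obtain ⟨k, hk⟩ := Subgroup.mem_zpowers_iff.mp h3
  rw [← hk, ← zpow_natCast, ← _root_.zpow_mul, mul_comm, _root_.zpow_mul, zpow_natCast, pow_orderOf_eq_one,
    _root_.one_zpow]

/-- Elements outside the torus square to `-1`. -/
theorem outside_sq {y : SL2 F} (hy : y * w⁻¹ ∈ Tz x) : y * y = mone := by
  have hinv : y * x * y⁻¹ = x⁻¹ := by
    have h1 := mem_Tz.mp ((Tz x).inv_mem hy)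
    have hw := H.D.hw
    have h2 : (y * w⁻¹) * x⁻¹ = x⁻¹ * (y * w⁻¹) := by
      have h3 := mem_Tz.mp hy
      calc (y * w⁻¹) * x⁻¹ = x⁻¹ * (x * (y * w⁻¹)) * x⁻¹ := by group
        _ = x⁻¹ * ((y * w⁻¹) * x) * x⁻¹ := by rw [h3]
        _ = x⁻¹ * (y * w⁻¹) := by group
    calc y * x * y⁻¹ = (y * w⁻¹) * (w * x * w⁻¹) * (y * w⁻¹)⁻¹ := by group
      _ = (y * w⁻¹) * x⁻¹ * (y * w⁻¹)⁻¹ := by rw [hw]
      _ = x⁻¹ * (y * w⁻¹) * (y * w⁻¹)⁻¹ := by rw [h2]
      _ = x⁻¹ := by group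
  have hnT : y ∉ Tz x := not_mem_of_inverts H.D.hx hinv
  exact sq_outside H.D.hx ((mem_normalizer_iff H.D.hx y).mpr (Or.inr hinv)) hnT

/-- Part two: `S` is self-normalizing when `a ≥ 3`. -/
theorem normalizer_eq (ha : 3 ≤ a) : Subgroup.normalizer (S : Set (SL2 F)) = S := by
  apply le_antisymm _ Subgroup.le_normalizer
  intro g hg
  have h1 : g * x ^ m * g⁻¹ ∈ S := (Subgroup.mem_normalizer_iff.mp hg _).mp H.u_mem
  have hord : orderOf (g * x ^ m * g⁻¹) = 2 ^ a := by
    have : orderOf (g * x ^ m * g⁻¹) = orderOf (x ^ m) :=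
      orderOf_injective (MulAut.conj g).toMonoidHom (MulAut.conj g).injective _
    rw [this, H.D.ord_u]
  have h2 : g * x ^ m * g⁻¹ ∈ Subgroup.zpowers (x ^ m) := by
    rcases (H.hS _).mp h1 with h | h
    · exact h
    · exfalso
      have h3 := H.outside_sq (H.D.U_le_T h)
      have h4 : (g * x ^ m * g⁻¹) ^ 4 = 1 := by
        have e : (g * x ^ m * g⁻¹) ^ 4 = ((g * x ^ m * g⁻¹) * (g * x ^ m * g⁻¹)) * ((g * x ^ m * g⁻¹) * (g * x ^ m * g⁻¹)) := by
          noncomm_ring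
        rw [e, h3, mone_mul_mone]
      have h5 := orderOf_dvd_of_pow_eq_one h4
      rw [hord] at h5
      have h6 : 2 ^ a ∣ 2 ^ 2 := by simpa using h5
      have h7 := (Nat.pow_dvd_pow_iff_le_right (by norm_num : 1 < 2)).mp h6
      omega
  have h3 : g * x ^ m * g⁻¹ ∈ Tz (x ^ m) := by
    rw [H.D.Tz_u]
    exact H.D.U_le_T h2
  have h4 := same_trace H.D.hu4 h3 (tr_of_isConj (isConj_iff.mpr ⟨g, rfl⟩)).symm
  rcases h4 with h4 | h4
  · have hgT : g ∈ Tz x := by
      rw [← H.D.Tz_u]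
      apply mem_Tz.mpr
      calc g * x ^ m = g * x ^ m * g⁻¹ * g := by group
        _ = x ^ m * g := by rw [h4]
    exact H.U_le (H.T_inter hgT hg)
  · have hwu : w * x ^ m * w⁻¹ = (x ^ m)⁻¹ := H.D.w_inv_all H.D.u_mem
    have h5 := mul_inv_mem_of_inverts h4 hwu
    rw [H.D.Tz_u] at h5
    have h6 : g * w⁻¹ ∈ Subgroup.normalizer (S : Set (SL2 F)) :=
      Subgroup.mul_mem _ hg (Subgroup.inv_mem _ (Subgroup.le_normalizer H.w_mem))
    exact (H.hS g).mpr (Or.inr (H.T_inter h5 h6))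

end Syl

/-- Quaternion identities. -/
theorem quat_ids {R : Type*} [Ring R] (i j : R) (hi : i * i = -1) (hj : j * j = -1)
    (hji : j * i = -(i * j)) :
    (-1 + i + j + i * j) * i = (i * j) * (-1 + i + j + i * j) ∧
    (-1 + i + j + i * j) * j = i * (-1 + i + j + i * j) ∧
    (-1 + i + j + i * j) * (-1 + i + j + i * j) =
      -((-1 + i + j + i * j) + (-1 + i + j + i * j)) - (1 + 1 + 1 + 1) := by
  have hik : i * (i * j) = -j := by rw [← mul_assoc, hi]; simp
  have hki : (i * j) * i = j := by rw [mul_assoc, hji, mul_neg, hik, neg_neg]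
  have hkj : (i * j) * j = -i := by rw [mul_assoc, hj]; simp
  have hjk : j * (i * j) = i := by rw [← mul_assoc, hji, neg_mul, hkj, neg_neg]
  have hkk : (i * j) * (i * j) = -1 := by rw [← mul_assoc, hki, hj]
  refine ⟨?_, ?_, ?_⟩
  · simp only [add_mul, mul_add, neg_mul, mul_neg, one_mul, mul_one, neg_neg, hi, hj, hji, hik, hki,
      hjk, hkj, hkk]
    abel
  · simp only [add_mul, mul_add, neg_mul, mul_neg, one_mul, mul_one, neg_neg, hi, hj, hji, hik, hki,
      hjk, hkj, hkk]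
    abel
  · simp only [add_mul, mul_add, neg_mul, mul_neg, one_mul, mul_one, neg_neg, hi, hj, hji, hik, hki,
      hjk, hkj, hkk]
    abel

/-- Cayley–Hamilton in `M₂`. -/
theorem cayley_m2 (A : M2 F) : A * A = (A 0 0 + A 1 1) • A - (A 0 0 * A 1 1 - A 0 1 * A 1 0) • 1 := by
  ext a b
  fin_cases a <;> fin_cases b <;>
    simp [Matrix.mul_apply, Fin.sum_univ_two] <;> ring

/-- The element of order three normalizing the quaternion group. -/
theorem exists_three {u w : SL2 F} (h2 : (2 : F) ≠ 0) (hu : u * u = mone) (hw : w * w = mone)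
    (hwu : w * u = mone * (u * w)) (huw : w ≠ u) :
    ∃ H : SL2 F, H * u = (u * w) * H ∧ H * w = u * H ∧ H ^ 3 = 1 ∧ H ≠ 1 := by
  have hm : ((mone : SL2 F) : M2 F) = -1 := by
    ext a b
    fin_cases a <;> fin_cases b <;> simp [mone, mk]
  have hi : (u : M2 F) * (u : M2 F) = -1 := by
    rw [← hm, ← hu]; rfl
  have hj : (w : M2 F) * (w : M2 F) = -1 := by
    rw [← hm, ← hw]; rfl
  have hji : (w : M2 F) * (u : M2 F) = -((u : M2 F) * (w : M2 F)) := by
    have := congrArg (fun z : SL2 F => (z : M2 F)) hwu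
    simpa [Matrix.SpecialLinearGroup.coe_mul, hm] using this
  obtain ⟨h1, h3, h4⟩ := quat_ids _ _ hi hj hji
  set A : M2 F := -1 + (u : M2 F) + (w : M2 F) + (u : M2 F) * (w : M2 F) with hA
  set e : F := 2⁻¹ with he
  have he2 : 2 * e = 1 := mul_inv_cancel₀ h2
  have hee2 : e * e * 2 = e := by
    calc e * e * 2 = e * (2 * e) := by ring
      _ = e := by rw [he2, mul_one]
  have hee4 : e * e * 4 = 1 := by
    calc e * e * 4 = (2 * e) * (2 * e) := by ring
      _ = 1 := by rw [he2, one_mul]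
  set B : M2 F := e • A with hB
  have hBB : B * B = -B - 1 := by
    rw [hB, smul_mul_smul_comm, h4]
    calc (e * e) • (-(A + A) - (1 + 1 + 1 + 1 : M2 F))
        = -((e * e * 2) • A) - (e * e * 4) • (1 : M2 F) := by module
      _ = -(e • A) - 1 := by rw [hee2, hee4, one_smul]
  have hBu : B * (u : M2 F) = ((u : M2 F) * (w : M2 F)) * B := by
    rw [hB, smul_mul_assoc, mul_smul_comm, h1]
  have hBw : B * (w : M2 F) = (u : M2 F) * B := by
    rw [hB, smul_mul_assoc, mul_smul_comm, h3]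
  have huw' : (w : M2 F) ≠ (u : M2 F) := fun h => huw (Subtype.ext h)
  have hns : ¬ IsScalar B := by
    rintro ⟨h01, h10, h00⟩
    have hsc : B = (B 0 0) • (1 : M2 F) := by
      ext a b
      fin_cases a <;> fin_cases b <;> simp [h01, h10, ← h00]
    have hB0 : B 0 0 ≠ 0 := by
      intro h0
      rw [h0, zero_smul] at hsc
      rw [hsc] at hBB
      have : (1 : M2 F) = 0 := by
        have h5 : (0 : M2 F) * 0 = -0 - 1 := hBB
        simp only [mul_zero, neg_zero, zero_sub] at h5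
        rw [← neg_eq_zero, ← h5]
      exact one_ne_zero this
    have h5 : (u : M2 F) = (u : M2 F) * (w : M2 F) := by
      have h6 := hBu
      rw [hsc, smul_mul_assoc, mul_smul_comm, one_mul, mul_one] at h6
      exact smul_right_injective _ hB0 h6
    have h6 : u = u * w := Subtype.ext h5
    have h7 : w = 1 := by
      have : u * 1 = u * w := by rw [mul_one]; exact h6
      exact (mul_left_cancel this).symm
    rw [h7, one_mul] at hw
    have h8 : (1 : F) = -1 := by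
      have := congrArg (fun z : SL2 F => (z : M2 F) 0 0) hw
      simpa using this
    apply h2
    linear_combination h8
  have ht : (B 0 0 + B 1 1) = -1 := by
    by_contra ht
    have ht' : (B 0 0 + B 1 1) + 1 ≠ 0 := fun h => ht (by linear_combination h)
    apply hns
    have hc := cayley_m2 B
    rw [hBB] at hc
    have h5 : ((B 0 0 + B 1 1) + 1) • B = ((B 0 0 * B 1 1 - B 0 1 * B 1 0) - 1) • (1 : M2 F) := by
      have h6 : (B 0 0 + B 1 1) • B - (B 0 0 * B 1 1 - B 0 1 * B 1 0) • (1 : M2 F) + B + 1 = 0 := by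
        rw [← hc]; abel
      calc ((B 0 0 + B 1 1) + 1) • B
          = ((B 0 0 + B 1 1) • B - (B 0 0 * B 1 1 - B 0 1 * B 1 0) • (1 : M2 F) + B + 1)
            + ((B 0 0 * B 1 1 - B 0 1 * B 1 0) - 1) • (1 : M2 F) := by module
        _ = _ := by rw [h6, zero_add]
    obtain ⟨c, d, hc0, h5'⟩ : ∃ c d : F, c ≠ 0 ∧ c • B = d • (1 : M2 F) := ⟨_, _, ht', h5⟩
    have h7 : ∀ a b, B a b = c⁻¹ * (d • (1 : M2 F)) a b := by
      intro a b
      rw [← h5', Matrix.smul_apply, smul_eq_mul, inv_mul_cancel_left₀ hc0]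
    refine ⟨?_, ?_, ?_⟩
    · rw [h7 0 1]; simp
    · rw [h7 1 0]; simp
    · rw [h7 0 0, h7 1 1]; simp
  have hd : B.det = 1 := by
    rw [Matrix.det_fin_two]
    have hc := cayley_m2 B
    rw [hBB, ht] at hc
    have h5 := congrArg (fun z : M2 F => z 0 0) hc
    simp only [Matrix.sub_apply, Matrix.neg_apply, one_apply_eq, Matrix.smul_apply, smul_eq_mul] at h5
    linear_combination h5
  refine ⟨⟨B, hd⟩, Subtype.ext hBu, Subtype.ext hBw, ?_, ?_⟩
  · apply Subtype.ext
    show B ^ 3 = 1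
    have e3 : B ^ 3 = B * B * B := by noncomm_ring
    rw [e3, hBB]
    have e4 : (-B - 1) * B = -(B * B) - B := by noncomm_ring
    rw [e4, hBB]
    abel
  · intro h
    have h5 : B = 1 := congrArg (fun z : SL2 F => (z : M2 F)) h
    rw [h5, one_mul, mul_one] at hBw
    exact huw' hBw

namespace Syl

variable {x w : SL2 F} {m : ℕ} {S : Subgroup (SL2 F)} (H : Syl x w 2 m S)
include H

theorem u_sq : (x ^ m) * (x ^ m) = mone := by
  have h4 : (x ^ m) ^ (2 ^ 2) = 1 := by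
    rw [← H.D.ord_u]; exact pow_orderOf_eq_one _
  have e : (x ^ m) ^ (2 ^ 2) = ((x ^ m) * (x ^ m)) * ((x ^ m) * (x ^ m)) := by
    simp only [pow_succ, pow_zero, one_mul, mul_assoc]
    norm_num [pow_succ, mul_assoc]
  rw [e] at h4
  rcases eq_one_or_mone_of_sq H.D.h2 _ h4 with h | h
  · exfalso
    have h5 : (x ^ m) ^ 2 = 1 := by rw [pow_two]; exact h
    have h6 := orderOf_dvd_of_pow_eq_one h5
    rw [H.D.ord_u] at h6
    exact absurd h6 (by norm_num)
  · exact h

/-- The upper bound on the normalizer. -/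
theorem card_le : Nat.card (Subgroup.normalizer (S : Set (SL2 F))) ≤ 24 := by
  classical
  set N := Subgroup.normalizer (S : Set (SL2 F)) with hN
  set u := x ^ m with hu
  let Y : Set (SL2 F) := (S : Set (SL2 F)) \ {1, mone}
  have hYc : Nat.card Y ≤ 6 := by
    have h1 : Y.ncard + ({1, mone} : Set (SL2 F)).ncard = (S : Set (SL2 F)).ncard := by
      apply Set.ncard_diff_add_ncard_of_subset _ (Set.toFinite _)
      rintro z (rfl | rfl)
      · exact S.one_mem
      · exact H.U_le H.D.mone_mem_U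
    have h2 : ({1, mone} : Set (SL2 F)).ncard = 2 := by
      apply Set.ncard_pair
      intro h
      have h8 : (1 : F) = -1 := by
        have := congrArg (fun z : SL2 F => (z : M2 F) 0 0) h
        simpa using this
      apply H.D.h2
      linear_combination h8
    have h3 : (S : Set (SL2 F)).ncard = 8 := by
      rw [Set.ncard_eq_toFinset_card', ← Nat.card_eq_card_toFinset]
      have := H.card
      simpa using this
    rw [Nat.card_coe_set_eq]
    omega
  have hconj : ∀ g : N, (g : SL2 F) * u * (g : SL2 F)⁻¹ ∈ Y := by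
    rintro ⟨g, hg⟩
    refine ⟨(Subgroup.mem_normalizer_iff.mp hg _).mp H.u_mem, ?_⟩
    rintro (h | h)
    · apply H.D.u_ne_one
      show u = 1
      have h3 : g * u * g⁻¹ = 1 := h
      have : u = g⁻¹ * (g * u * g⁻¹) * g := by group
      rw [this, h3]
      group
    · apply H.D.u_ne_mone
      show u = mone
      have h3 : g * u * g⁻¹ = mone := h
      have : u = g⁻¹ * (g * u * g⁻¹) * g := by group
      rw [this, h3, mul_assoc, mone_comm, ← mul_assoc, inv_mul_cancel, one_mul]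
  let s : Y → N := fun y =>
    if h : ∃ g : N, (g : SL2 F) * u * (g : SL2 F)⁻¹ = y then h.choose else 1
  have hs : ∀ g : N, ((s ⟨_, hconj g⟩ : N) : SL2 F) * u * ((s ⟨_, hconj g⟩ : N) : SL2 F)⁻¹ = (g : SL2 F) * u * (g : SL2 F)⁻¹ := by
    intro g
    have h : ∃ g' : N, (g' : SL2 F) * u * (g' : SL2 F)⁻¹ = ((⟨_, hconj g⟩ : Y) : SL2 F) := ⟨g, rfl⟩
    simp only [s, dif_pos h]
    exact h.choose_spec
  have hU : ∀ g : N, ((s ⟨_, hconj g⟩ : N) : SL2 F)⁻¹ * g ∈ Subgroup.zpowers u := by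
    intro g
    apply H.T_inter
    · rw [← H.D.Tz_u]
      apply mem_Tz.mpr
      have h1 := hs g
      set t : SL2 F := ((s ⟨_, hconj g⟩ : N) : SL2 F) with ht
      have h2 : (t⁻¹ * g) * u = u * (t⁻¹ * g) := by
        calc (t⁻¹ * g) * u = t⁻¹ * ((g : SL2 F) * u * (g : SL2 F)⁻¹) * g := by group
          _ = t⁻¹ * (t * u * t⁻¹) * g := by rw [h1]
          _ = u * (t⁻¹ * g) := by group
      exact h2
    · exact N.mul_mem (N.inv_mem (s _).2) g.2
  let f : N → Y × Subgroup.zpowers u := fun g => (⟨_, hconj g⟩, ⟨_, hU g⟩)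
  have hf : Function.Injective f := by
    intro g g' h
    have h1 : (⟨_, hconj g⟩ : Y) = ⟨_, hconj g'⟩ := congrArg Prod.fst h
    have h2 := congrArg (fun z => ((z.2 : Subgroup.zpowers u) : SL2 F)) h
    simp only [f] at h2
    rw [h1] at h2
    apply Subtype.ext
    exact mul_left_cancel h2
  have h1 := Nat.card_le_card_of_injective f hf
  rw [Nat.card_prod, Nat.card_zpowers, H.D.ord_u] at h1
  calc Nat.card N ≤ Nat.card Y * 2 ^ 2 := h1
    _ ≤ 6 * 2 ^ 2 := Nat.mul_le_mul_right _ hYc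
    _ = 24 := by norm_num

/-- Part three: the normalizer has order `24`. -/
theorem card_norm : Nat.card (Subgroup.normalizer (S : Set (SL2 F))) = 3 * Nat.card S := by
  have hc := H.card
  rw [hc]
  have hw1 := H.D.w_sq
  have hu1 := H.u_sq
  have hwu : w * x ^ m = mone * (x ^ m * w) := by
    have h1 := H.D.w_inv_all H.D.u_mem
    have h2 : (x ^ m)⁻¹ = mone * x ^ m := by
      apply inv_eq_of_mul_eq_one_right
      rw [← mul_assoc, ← mone_comm, mul_assoc, hu1, mone_mul_mone]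
    calc w * x ^ m = w * x ^ m * w⁻¹ * w := by group
      _ = mone * (x ^ m * w) := by rw [h1, h2, mul_assoc]
  have hne : w ≠ x ^ m := fun h => H.D.w_not_T (h ▸ H.D.u_mem)
  obtain ⟨T, hT1, hT2, hT3, hT4⟩ := exists_three H.D.h2 hu1 hw1 hwu hne
  have hTN : T ∈ Subgroup.normalizer (S : Set (SL2 F)) := by
    apply Subgroup.mem_normalizer_fintype
    intro g hg
    have hc1 : T * x ^ m * T⁻¹ = x ^ m * w := by rw [hT1, mul_inv_cancel_right]
    have hc2 : T * w * T⁻¹ = x ^ m := by rw [hT2, mul_inv_cancel_right]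
    have hpow : ∀ k : ℤ, T * (x ^ m) ^ k * T⁻¹ ∈ S := by
      intro k
      have e : T * (x ^ m) ^ k * T⁻¹ = (T * (x ^ m) * T⁻¹) ^ k := by
        rw [conj_zpow]
      rw [e, hc1]
      exact S.zpow_mem (S.mul_mem H.u_mem H.w_mem) k
    rcases (H.hS g).mp hg with h | h
    · obtain ⟨k, rfl⟩ := Subgroup.mem_zpowers_iff.mp h
      exact hpow k
    · obtain ⟨k, hk⟩ := Subgroup.mem_zpowers_iff.mp h
      have e : g = (x ^ m) ^ k * w := by rw [hk]; group
      have e2 : T * g * T⁻¹ = (T * (x ^ m) ^ k * T⁻¹) * (T * w * T⁻¹) := by rw [e]; group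
      rw [e2, hc2]
      exact S.mul_mem (hpow k) H.u_mem
  have h3 : 3 ∣ Nat.card (Subgroup.normalizer (S : Set (SL2 F))) := by
    have h4 : orderOf T = 3 := orderOf_eq_prime hT3 hT4
    have h5 := orderOf_dvd_natCard (⟨T, hTN⟩ : Subgroup.normalizer (S : Set (SL2 F)))
    rw [Subgroup.orderOf_mk, h4] at h5
    exact h5
  have h8 : 8 ∣ Nat.card (Subgroup.normalizer (S : Set (SL2 F))) := by
    have := Subgroup.card_dvd_of_le (Subgroup.le_normalizer (H := S))
    rw [hc] at this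
    exact this
  have hle := H.card_le
  have hpos : 0 < Nat.card (Subgroup.normalizer (S : Set (SL2 F))) := Nat.card_pos
  omega

end Syl

/-- Conjugating the description. -/
theorem exists_syl_of {x : SL2 F} {a m : ℕ} (hx : tr x ^ 2 ≠ 4)
    (hgen : ∀ t ∈ Tz x, ∃ k : ℕ, t = x ^ k) (ha : 2 ≤ a) (hm : Odd m) (hord : orderOf x = 2 ^ a * m)
    (h2 : (2 : F) ≠ 0) (hidx : ∃ r, Odd r ∧ Nat.card (SL2 F) = 2 ^ (a + 1) * r)
    (S : Sylow 2 (SL2 F)) : ∃ x' w' : SL2 F, Syl x' w' a m S := by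
  obtain ⟨w, hw⟩ := exists_inverter hx
  have D : Dat x w a m := ⟨hx, hgen, ha, hm, hord, hw, h2⟩
  obtain ⟨R, hR⟩ := D.exists_R
  have H0 : Syl x w a m R := ⟨D, hR⟩
  have hcard := H0.card
  have hP : IsPGroup 2 R := IsPGroup.of_card hcard
  have hnd : ¬ 2 ∣ R.index := by
    obtain ⟨r, hr, hcr⟩ := hidx
    have h1 := Subgroup.index_mul_card R
    rw [hcard, hcr, mul_comm] at h1
    have h3 : R.index = r := Nat.eq_of_mul_eq_mul_left (by positivity) h1
    rw [h3]
    exact hr.not_two_dvd_nat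
  let P : Sylow 2 (SL2 F) := hP.toSylow hnd
  obtain ⟨g, hg⟩ := MulAction.exists_smul_eq (SL2 F) P S
  have hS : ∀ y, y ∈ (S : Subgroup (SL2 F)) ↔ g⁻¹ * y * g ∈ R := by
    intro y
    rw [← hg, Sylow.coe_subgroup_smul, Cfsg.Agent.Lib.H1Core.mem_conj_smul]
    rfl
  have hconj : IsConj x (g * x * g⁻¹) := isConj_iff.mpr ⟨g, rfl⟩
  have hz : ∀ y, y ∈ Subgroup.zpowers ((g * x * g⁻¹) ^ m) ↔ g⁻¹ * y * g ∈ Subgroup.zpowers (x ^ m) := by
    intro y
    rw [Subgroup.mem_zpowers_iff, Subgroup.mem_zpowers_iff, conj_pow]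
    constructor
    · rintro ⟨k, rfl⟩
      refine ⟨k, ?_⟩
      rw [conj_zpow]
      group
    · rintro ⟨k, hk⟩
      refine ⟨k, ?_⟩
      rw [conj_zpow, hk]
      group
  refine ⟨g * x * g⁻¹, g * w * g⁻¹, ⟨⟨?_, ?_, ha, hm, ?_, ?_, h2⟩, ?_⟩⟩
  · rwa [← tr_of_isConj hconj]
  · intro t ht
    obtain ⟨k, hk⟩ := hgen _ (Tz_conj x g t ht)
    refine ⟨k, ?_⟩
    rw [conj_pow, ← hk]
    group
  · rw [← hord]
    exact orderOf_injective (MulAut.conj g).toMonoidHom (MulAut.conj g).injective x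
  · calc g * w * g⁻¹ * (g * x * g⁻¹) * (g * w * g⁻¹)⁻¹ = g * (w * x * w⁻¹) * g⁻¹ := by group
      _ = (g * x * g⁻¹)⁻¹ := by rw [hw]; group
  · intro y
    rw [hS, hR, hz, hz]
    have e : g⁻¹ * (y * (g * w * g⁻¹)⁻¹) * g = g⁻¹ * y * g * w⁻¹ := by group
    rw [e]

/-- Two-adic bookkeeping. -/
theorem two_adic {n a m : ℕ} (hm : Odd m) (hn : n = 2 ^ a * m) :
    (4 ∣ n → 2 ≤ a) ∧ (8 ∣ n → 3 ≤ a) ∧ (n % 8 = 4 → a = 2) := by
  obtain ⟨k, rfl⟩ := hm
  subst hn
  rcases a with _ | _ | _ | a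
  · refine ⟨?_, ?_, ?_⟩ <;> intro h <;> simp at h <;> omega
  · refine ⟨?_, ?_, ?_⟩ <;> intro h <;> simp at h <;> omega
  · refine ⟨?_, ?_, ?_⟩ <;> intro h <;> simp at h ⊢ <;> omega
  · have e : 2 ^ (a + 1 + 1 + 1) * (2 * k + 1) = 8 * (2 ^ a * (2 * k + 1)) := by ring
    rw [e]
    refine ⟨fun _ => by omega, fun _ => by omega, ?_⟩
    intro h
    omega

/-- The description of a Sylow `2`-subgroup. -/
theorem exists_syl (hodd : Odd (Fintype.card F)) (S : Sylow 2 (SL2 F)) :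
    ∃ (x w : SL2 F) (a m : ℕ), Syl x w a m S ∧
      ((Fintype.card F % 8 = 1 ∨ Fintype.card F % 8 = 7) → 3 ≤ a) ∧
      ((Fintype.card F % 8 = 3 ∨ Fintype.card F % 8 = 5) → a = 2) := by
  classical
  have hchar : ringChar F ≠ 2 := by
    intro h
    have := FiniteField.even_card_of_char_two h
    exact (Nat.not_even_iff_odd.mpr hodd) (Nat.even_iff.mpr this)
  have h2F : (2 : F) ≠ 0 := Ring.two_ne_zero hchar
  have hq : 1 < Fintype.card F := Fintype.one_lt_card
  obtain ⟨t, ht⟩ := hodd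
  have hq2 : Fintype.card F ^ 2 - 1 = (Fintype.card F - 1) * (Fintype.card F + 1) := by
    obtain ⟨k, hk⟩ : ∃ k, Fintype.card F = k + 1 := ⟨Fintype.card F - 1, by omega⟩
    rw [hk]
    simp only [Nat.add_sub_cancel]
    have : (k + 1) ^ 2 = k * (k + 1 + 1) + 1 := by ring
    omega
  by_cases hq4 : Fintype.card F % 4 = 1
  · obtain ⟨ζ, hζ⟩ := IsCyclic.exists_ofOrder_eq_natCard (α := Fˣ)
    rw [Nat.card_units, Nat.card_eq_fintype_card] at hζ
    have hζgen : ∀ u : Fˣ, ∃ k : ℕ, u = ζ ^ k := by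
      intro u
      have h1 : Function.Bijective (fun i : Fin (orderOf ζ) => ζ ^ (i : ℕ)) := by
        rw [Fintype.bijective_iff_injective_and_card]
        refine ⟨fun i j h => Fin.ext (pow_injOn_Iio_orderOf i.2 j.2 h), ?_⟩
        rw [Fintype.card_fin, hζ, Fintype.card_units]
      obtain ⟨i, hi⟩ := h1.2 u
      exact ⟨i, hi.symm⟩
    have hsq : (ζ : F) ^ 2 ≠ 1 := by
      intro h
      have h1 : ζ ^ 2 = 1 := Units.ext (by simpa using h)
      have h2 := orderOf_dvd_of_pow_eq_one h1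
      rw [hζ] at h2
      have := Nat.le_of_dvd (by norm_num) h2
      omega
    have h01 : (dg ζ : M2 F) 0 1 = 0 := rfl
    have h10 : (dg ζ : M2 F) 1 0 = 0 := rfl
    have hx := diag_tr h01 hsq
    have hgen := diag_gen ζ hζgen h01 h10 hsq
    have hord : orderOf (dg ζ) = Fintype.card F - 1 := by
      rw [orderOf_injective dg dg_injective, hζ]
    obtain ⟨a, m, hm, hn⟩ := Nat.exists_eq_two_pow_mul_odd (n := Fintype.card F - 1) (by omega)
    obtain ⟨h1, h3, h4⟩ := two_adic hm hn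
    have ha : 2 ≤ a := h1 (by omega)
    have hidx : ∃ r, Odd r ∧ Nat.card (SL2 F) = 2 ^ (a + 1) * r := by
      refine ⟨Fintype.card F * m * (t + 1), ?_, ?_⟩
      · have h5 : Odd (t + 1) := by
          rw [Nat.odd_iff]; omega
        exact (Odd.mul ⟨t, ht⟩ hm).mul h5
      · rw [card_sl2, hq2, hn]
        have h6 : Fintype.card F + 1 = 2 * (t + 1) := by omega
        rw [h6]
        ring
    obtain ⟨x', w', H⟩ := exists_syl_of hx hgen ha hm (by rw [hord, hn]) h2F hidx S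
    refine ⟨x', w', a, m, H, ?_, ?_⟩
    · rintro (h | h)
      · exact h3 (by omega)
      · omega
    · rintro (h | h)
      · omega
      · exact h4 (by omega)
  · have hq43 : Fintype.card F % 4 = 3 := by omega
    obtain ⟨τ, hord, -, hgen0⟩ := ns_data (F := F)
    obtain ⟨hx, hns⟩ := ns_gen_props τ hord
    have hgen : ∀ t ∈ Tz τ, ∃ k : ℕ, t = τ ^ k := fun t ht => hgen0 t hns (mem_Tz.mp ht)
    obtain ⟨a, m, hm, hn⟩ := Nat.exists_eq_two_pow_mul_odd (n := Fintype.card F + 1) (by omega)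
    obtain ⟨h1, h3, h4⟩ := two_adic hm hn
    have ha : 2 ≤ a := h1 (by omega)
    have hidx : ∃ r, Odd r ∧ Nat.card (SL2 F) = 2 ^ (a + 1) * r := by
      refine ⟨Fintype.card F * t * m, ?_, ?_⟩
      · have h5 : Odd t := by
          rw [Nat.odd_iff]; omega
        exact (Odd.mul ⟨t, ht⟩ h5).mul hm
      · rw [card_sl2, hq2, hn]
        have h6 : Fintype.card F - 1 = 2 * t := by omega
        rw [h6]
        ring
    obtain ⟨x', w', H⟩ := exists_syl_of hx hgen ha hm (by rw [hord, hn]) h2F hidx S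
    refine ⟨x', w', a, m, H, ?_, ?_⟩
    · rintro (h | h)
      · omega
      · exact h3 (by omega)
    · rintro (h | h)
      · exact h4 (by omega)
      · omega

/-- The final statement. -/
theorem sylow_two (hodd : Odd (Fintype.card F)) (S : Sylow 2 (SL2 F)) :
    Subgroup.centralizer ((S : Subgroup (SL2 F)) : Set (SL2 F)) = Subgroup.center (SL2 F) ∧
    ((Fintype.card F % 8 = 1 ∨ Fintype.card F % 8 = 7) →
      Subgroup.normalizer ((S : Subgroup (SL2 F)) : Set (SL2 F)) = (S : Subgroup (SL2 F))) ∧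
    ((Fintype.card F % 8 = 3 ∨ Fintype.card F % 8 = 5) →
      Nat.card (Subgroup.normalizer ((S : Subgroup (SL2 F)) : Set (SL2 F))) = 3 * Nat.card S) := by
  obtain ⟨x, w, a, m, H, h1, h2⟩ := exists_syl hodd S
  refine ⟨H.centralizer_eq, fun h => H.normalizer_eq (h1 h), fun h => ?_⟩
  obtain rfl := h2 h
  exact H.card_norm

end Cfsg.Agent.Lib.H1SL2Syl2
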