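import Cfsg.Agent.Lib.H1Small

set_option autoImplicit false

/-! Sylow normalizer API with subgroup coercions. -/

namespace Cfsg.Agent.Lib.H1Small

variable {G : Type*} [Group G] [Finite G]

theorem smul_eq_iff_mem_nrm {p : ℕ} (P : Sylow p G) (g : G) :
    g • P = P ↔ g ∈ Subgroup.normalizer ((P : Subgroup G) : Set G) :=
  Sylow.smul_eq_iff_mem_normalizer

theorem inf_nrm {p : ℕ} [Fact p.Prime] {A : Subgroup G} (hA : IsPGroup p A) (P : Sylow p G) :
    A ⊓ Subgroup.normalizer ((P : Subgroup G) : Set G) = A ⊓ (P : Subgroup G) :=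
  hA.inf_normalizer_sylow P

/-- A `p`-element normalizing a Sylow subgroup lies in it. -/
theorem mem_of_mem_nrm {p : ℕ} [Fact p.Prime] (P : Sylow p G) {A : Subgroup G} (hA : IsPGroup p A)
    {z : G} (hzA : z ∈ A) (hzN : z ∈ Subgroup.normalizer ((P : Subgroup G) : Set G)) :
    z ∈ (P : Subgroup G) := by
  have h3 : z ∈ A ⊓ Subgroup.normalizer ((P : Subgroup G) : Set G) := Subgroup.mem_inf.mpr ⟨hzA, hzN⟩
  rw [inf_nrm hA P] at h3
  exact (Subgroup.mem_inf.mp h3).2

theorem isPGroup_zpowers_of_orderOf {p : ℕ} [hp : Fact p.Prime] {z : G} (hz : orderOf z = p) :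
    IsPGroup p (Subgroup.zpowers z) := by
  rw [IsPGroup.iff_card, Nat.card_zpowers, hz]
  exact ⟨1, by simp⟩

/-- All Sylow subgroups have the same order. -/
theorem card_sylow_eq {p : ℕ} [Fact p.Prime] (P Q : Sylow p G) :
    Nat.card (P : Subgroup G) = Nat.card (Q : Subgroup G) := by
  rw [P.card_eq_multiplicity, Q.card_eq_multiplicity]

/-- normalizer of a conjugate. -/
theorem mem_nrm_smul {p : ℕ} [Fact p.Prime] (P : Sylow p G) (g z : G) :
    z ∈ Subgroup.normalizer (((g • P : Sylow p G) : Subgroup G) : Set G) ↔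
      g⁻¹ * z * g ∈ Subgroup.normalizer ((P : Subgroup G) : Set G) := by
  rw [← smul_eq_iff_mem_nrm, ← smul_eq_iff_mem_nrm, smul_smul]
  constructor
  · intro h
    have e : g⁻¹ * z * g = g⁻¹ * (z * g) := by group
    rw [e, mul_smul, h, inv_smul_smul]
  · intro h
    have e : g⁻¹ * z * g = g⁻¹ * (z * g) := by group
    rw [e, mul_smul, inv_smul_eq_iff] at h
    exact h

/-- A simple group of non-prime order is not commutative. -/
theorem not_comm_of_not_prime [IsSimpleGroup G] (h : ¬ (Nat.card G).Prime) : ¬ IsMulCommutative G := by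
  intro hc
  apply h
  letI : CommGroup G := { (inferInstance : Group G) with mul_comm := hc.is_comm.comm }
  exact IsSimpleGroup.prime_card

/-- Standard Sylow data. -/
theorem sylow_data {p : ℕ} [hp : Fact p.Prime] (a m : ℕ) (hc : Nat.card G = p ^ a * m)
    (hm : ¬ p ∣ m) (P : Sylow p G) :
    Nat.card (P : Subgroup G) = p ^ a ∧ Nat.card (Sylow p G) ∣ m ∧ Nat.card (Sylow p G) % p = 1 ∧
      Nat.card (Subgroup.normalizer ((P : Subgroup G) : Set G)) * Nat.card (Sylow p G) = Nat.card G := by
  have hp' : p.Prime := hp.out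
  have hm0 : m ≠ 0 := by
    rintro rfl
    exact hm (dvd_zero p)
  have h1 : Nat.card (P : Subgroup G) = p ^ a := by
    rw [P.card_eq_multiplicity, hc, Nat.factorization_mul (pow_ne_zero _ hp'.ne_zero) hm0,
      Nat.Prime.factorization_pow hp']
    simp [Nat.factorization_eq_zero_of_not_dvd hm]
  have h2 : (P : Subgroup G).index = m := by
    have := (P : Subgroup G).index_mul_card
    rw [h1, hc, mul_comm] at this
    exact Nat.eq_of_mul_eq_mul_left (pow_pos hp'.pos a) this
  refine ⟨h1, h2 ▸ P.card_dvd_index, ?_, ?_⟩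
  · have := card_sylow_modEq_one p G
    unfold Nat.ModEq at this
    rw [this, Nat.mod_eq_of_lt hp'.one_lt]
  · rw [P.card_eq_index_normalizer]
    exact Subgroup.card_mul_index _

/-- In a simple group, a proper nontrivial Sylow subgroup is not normal, so the Sylow number is not
one. -/
theorem sylow_card_ne_one [IsSimpleGroup G] {p : ℕ} [hp : Fact p.Prime] (P : Sylow p G)
    (h1 : Nat.card (P : Subgroup G) ≠ 1) (h2 : Nat.card (P : Subgroup G) ≠ Nat.card G) :
    Nat.card (Sylow p G) ≠ 1 := by
  intro hn
  haveI : Subsingleton (Sylow p G) := (Nat.card_eq_one_iff_unique.mp hn).1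
  have hnorm := Sylow.normal_of_subsingleton P
  rcases hnorm.eq_bot_or_eq_top with h | h
  · apply h1
    rw [h]
    exact Subgroup.card_bot
  · apply h2
    rw [h]
    exact Subgroup.card_top

/-- Burnside in numeric form: a proper nontrivial Sylow subgroup of a simple group is not
centralized by its normalizer. -/
theorem not_normalizer_le_centralizer [IsSimpleGroup G] {p : ℕ} [hp : Fact p.Prime] (P : Sylow p G)
    (h1 : Nat.card (P : Subgroup G) ≠ 1) (h2 : Nat.card (P : Subgroup G) ≠ Nat.card G) :
    ¬ Subgroup.normalizer ((P : Subgroup G) : Set G) ≤ Subgroup.centralizer ((P : Subgroup G) : Set G) := by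
  intro h
  rcases burnside_simple P h with h3 | h3
  · apply h1
    rw [h3]
    exact Subgroup.card_bot
  · apply h2
    rw [h3]
    exact Subgroup.card_top

/-- Proper subgroups of a nonabelian simple group have index at least `d`, once `2|G|` does not divide
`(d-1)!`. -/
theorem le_index_of_not_dvd [IsSimpleGroup G] (hG : ¬ IsMulCommutative G) (H : Subgroup G)
    (hH : H ≠ ⊤) (d : ℕ) (hd : ¬ 2 * Nat.card G ∣ (d - 1).factorial) : d ≤ H.index := by
  by_contra hlt
  apply hd
  have h1 := two_mul_card_dvd_factorial hG H hH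
  exact h1.trans (Nat.factorial_dvd_factorial (by omega))

/-- Sylow subgroups of prime order: main reduction for the Burnside argument. If the Sylow number is
`n`, `|G| = p * m`, and `m / n` is coprime to `p - 1`, contradiction. -/
theorem false_of_prime_sylow [IsSimpleGroup G] {p : ℕ} [hp : Fact p.Prime] (m k : ℕ)
    (hc : Nat.card G = p * m) (hm : ¬ p ∣ m) (hm1 : m ≠ 1)
    (hn : Nat.card (Sylow p G) * k = m) (hk : Nat.Coprime k (p - 1)) : False := by
  have hp' : p.Prime := hp.out
  obtain ⟨P⟩ : Nonempty (Sylow p G) := inferInstance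
  obtain ⟨h1, -, -, h4⟩ := sylow_data (p := p) 1 m (by rw [pow_one]; exact hc) hm P
  rw [pow_one] at h1
  have hm0 : 0 < m := by
    rcases Nat.eq_zero_or_pos m with h | h
    · subst h; exact absurd (dvd_zero p) hm
    · exact h
  have hn0 : 0 < Nat.card (Sylow p G) := Nat.card_pos
  have hN : Nat.card (Subgroup.normalizer ((P : Subgroup G) : Set G)) = p * k := by
    apply Nat.eq_of_mul_eq_mul_right hn0
    rw [h4, hc, ← hn]
    ring
  refine not_normalizer_le_centralizer P ?_ ?_ (normalizer_le_centralizer_of_coprime _ h1 k hN hk)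
  · rw [h1]; exact hp'.one_lt.ne'
  · rw [h1, hc]
    intro h
    have : p * 1 = p * m := by simpa using h
    exact hm1 (Nat.eq_of_mul_eq_mul_left hp'.pos this).symm

/-- A Sylow subgroup of a nonabelian simple group is proper. -/
theorem card_sylow_ne_card [IsSimpleGroup G] (hG : ¬ IsMulCommutative G) {p : ℕ} [hp : Fact p.Prime]
    (P : Sylow p G) : Nat.card (P : Subgroup G) ≠ Nat.card G := by
  intro h1
  have htop : (P : Subgroup G) = ⊤ := Subgroup.eq_top_of_card_eq _ h1
  apply hG
  have hp2 : IsPGroup p G := by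
    intro g
    have hg : g ∈ (P : Subgroup G) := by rw [htop]; trivial
    obtain ⟨n, hn⟩ := P.isPGroup' ⟨g, hg⟩
    exact ⟨n, by simpa using congrArg Subtype.val hn⟩
  haveI : Nontrivial G := IsSimpleGroup.toNontrivial
  have hcen : Nontrivial (Subgroup.center G) := hp2.center_nontrivial
  have htopc : Subgroup.center G = ⊤ := by
    rcases (inferInstance : (Subgroup.center G).Normal).eq_bot_or_eq_top with h | h
    · exfalso
      rw [h] at hcen
      exact not_subsingleton _ (inferInstance : Subsingleton (⊥ : Subgroup G))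
    · exact h
  exact ⟨⟨fun a b => by
    have ha : a ∈ Subgroup.center G := by rw [htopc]; trivial
    exact (Subgroup.mem_center_iff.mp ha b).symm⟩⟩

/-- A Sylow subgroup for a dividing prime is nontrivial. -/
theorem card_sylow_ne_one {p : ℕ} [hp : Fact p.Prime] (P : Sylow p G) (hd : p ∣ Nat.card G) :
    Nat.card (P : Subgroup G) ≠ 1 := by
  intro h1
  have hdd : p ∣ (P : Subgroup G).index := by
    have := (P : Subgroup G).index_mul_card
    rw [h1, mul_one] at this
    rw [this]; exact hd
  exact P.not_dvd_index hdd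

/-- The Sylow subgroup for the smallest prime of a nonabelian simple group is not cyclic. -/
theorem not_isCyclic_sylow_minFac [IsSimpleGroup G] (hG : ¬ IsMulCommutative G) {p : ℕ}
    [hp : Fact p.Prime] (hm : (Nat.card G).minFac = p) (P : Sylow p G) :
    ¬ IsCyclic (P : Subgroup G) := by
  intro hc
  have hd : p ∣ Nat.card G := hm ▸ Nat.minFac_dvd _
  exact not_normalizer_le_centralizer P (card_sylow_ne_one P hd) (card_sylow_ne_card hG P)
    (IsCyclic.normalizer_le_centralizer hm hc)

theorem card_subtype_ne_add_one {X : Type*} [Finite X] (a : X) :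
    Nat.card {x : X // x ≠ a} + 1 = Nat.card X := by
  classical
  haveI := Fintype.ofFinite X
  rw [Nat.card_eq_fintype_card, Nat.card_eq_fintype_card, Fintype.card_subtype_compl]
  have h1 : 0 < Fintype.card X := Fintype.card_pos_iff.mpr ⟨a⟩
  simp only [Fintype.card_subtype_eq]
  omega

/-- Automorphisms of a group acting on the nonidentity elements. -/
theorem card_mulAut_dvd {A : Type*} [Group A] [Finite A] :
    Nat.card (MulAut A) ∣ (Nat.card {x : A // x ≠ 1}).factorial := by
  classical
  haveI : Fintype {x : A // x ≠ 1} := Fintype.ofFinite _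
  let f : MulAut A →* Equiv.Perm {x : A // x ≠ 1} :=
    { toFun := fun φ => φ.toEquiv.subtypeEquiv (by intro x; simp)
      map_one' := by ext; rfl
      map_mul' := by intros; ext; rfl }
  have hf : Function.Injective f := by
    intro a b hab
    ext x
    by_cases hx : x = 1
    · rw [hx, map_one, map_one]
    · have := congrArg (fun g : Equiv.Perm {x : A // x ≠ 1} => ((g ⟨x, hx⟩ : {x : A // x ≠ 1}) : A)) hab
      exact this
  have := Subgroup.card_dvd_of_injective f hf
  rwa [Nat.card_perm] at this

/-- A nonidentity element of a group of prime order has that order. -/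
theorem orderOf_eq_of_mem_prime_card {p : ℕ} [hp : Fact p.Prime] (A : Subgroup G)
    (hA : Nat.card A = p) {y : G} (hy : y ∈ A) (hy1 : y ≠ 1) : orderOf y = p := by
  have h1 : orderOf y ∣ p := by
    rw [← hA, ← Subgroup.orderOf_mk y hy]
    exact orderOf_dvd_natCard _
  rcases (Nat.dvd_prime hp.out).mp h1 with h | h
  · exact absurd (orderOf_eq_one_iff.mp h) hy1
  · exact h

/-- A subgroup of prime order is generated by any of its nonidentity elements. -/
theorem zpowers_eq_of_mem_prime_card {p : ℕ} [hp : Fact p.Prime] (A : Subgroup G)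
    (hA : Nat.card A = p) {y : G} (hy : y ∈ A) (hy1 : y ≠ 1) : Subgroup.zpowers y = A := by
  apply Subgroup.eq_of_le_of_card_ge ((Subgroup.zpowers_le).mpr hy)
  rw [hA, Nat.card_zpowers, orderOf_eq_of_mem_prime_card A hA hy hy1]

/-- Two subgroups of the same prime order sharing a nonidentity element coincide. -/
theorem eq_of_common_prime_card {p : ℕ} [hp : Fact p.Prime] (A B : Subgroup G)
    (hA : Nat.card A = p) (hB : Nat.card B = p) {y : G} (hyA : y ∈ A) (hyB : y ∈ B) (hy1 : y ≠ 1) :
    A = B := by
  rw [← zpowers_eq_of_mem_prime_card A hA hyA hy1, zpowers_eq_of_mem_prime_card B hB hyB hy1]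

end Cfsg.Agent.Lib.H1Small
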