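import Cfsg.Agent.Lib.H1Small2

set_option autoImplicit false

/-! Sign and fixed point arguments for permutation actions of simple groups. -/

namespace Cfsg.Agent.Lib.H1Small

variable {G : Type*} [Group G] [Finite G]

/-- Shape of an even involution. -/
theorem sign_involution {X : Type*} [Fintype X] [DecidableEq X] (σ : Equiv.Perm X)
    (h : σ ^ 2 = 1) (hσ : Equiv.Perm.sign σ = 1) :
    ∃ k, Fintype.card X = Fintype.card (Function.fixedPoints σ) + 4 * k := by
  classical
  have hord : orderOf σ ∣ 2 := orderOf_dvd_of_pow_eq_one h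
  have hall : ∀ n ∈ σ.cycleType, n = 2 := by
    intro n hn
    have h1 := Equiv.Perm.dvd_of_mem_cycleType hn
    have h2 := Equiv.Perm.two_le_of_mem_cycleType hn
    have h3 := Nat.le_of_dvd (by norm_num) (h1.trans hord)
    omega
  obtain ⟨m, hm⟩ : ∃ m, σ.cycleType = Multiset.replicate m 2 :=
    ⟨σ.cycleType.card, Multiset.eq_replicate.mpr ⟨rfl, hall⟩⟩
  have hsum : σ.cycleType.sum = 2 * m := by
    rw [hm, Multiset.sum_replicate]; simp [mul_comm]
  have hcard : σ.cycleType.card = m := by rw [hm, Multiset.card_replicate]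
  have hs := Equiv.Perm.sign_of_cycleType σ
  rw [hσ, hsum, hcard] at hs
  have hev : Even m := by
    by_contra hodd
    rw [Nat.not_even_iff_odd] at hodd
    have h5 : Odd (2 * m + m) := by
      obtain ⟨j, rfl⟩ := hodd
      exact ⟨3 * j + 1, by ring⟩
    rw [h5.neg_one_pow] at hs
    exact absurd hs (by decide)
  obtain ⟨k, rfl⟩ := hev
  refine ⟨k, ?_⟩
  have h6 := Equiv.Perm.card_fixedPoints σ
  have h7 : σ.cycleType.sum ≤ Fintype.card X := by
    rw [Equiv.Perm.sum_cycleType]
    exact Finset.card_le_univ _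
  rw [hsum] at h6 h7
  omega

/-- All elements act evenly for a nonabelian simple group. -/
theorem sign_toPerm_eq_one [IsSimpleGroup G] (hG : ¬ IsMulCommutative G) {X : Type*}
    [MulAction G X] [Fintype X] [DecidableEq X] (x : G) :
    Equiv.Perm.sign (MulAction.toPerm x : Equiv.Perm X) = 1 := by
  let s : G →* ℤˣ := Equiv.Perm.sign.comp (MulAction.toPermHom G X)
  have hs : s.ker = ⊤ := by
    rcases s.normal_ker.eq_bot_or_eq_top with h | h
    · exfalso
      apply hG
      have hi : Function.Injective s := (MonoidHom.ker_eq_bot_iff s).mp h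
      refine ⟨⟨fun a b => hi ?_⟩⟩
      rw [map_mul, map_mul, mul_comm]
    · exact h
  have : x ∈ s.ker := by rw [hs]; trivial
  exact MonoidHom.mem_ker.mp this

/-- An involution in a nonabelian simple group acting on a finite set moves a number of points
divisible by 4. -/
theorem card_eq_fixedBy_add_four [IsSimpleGroup G] (hG : ¬ IsMulCommutative G) {X : Type*}
    [MulAction G X] [Finite X] (x : G) (hx : x ^ 2 = 1) :
    ∃ k, Nat.card X = Nat.card (MulAction.fixedBy X x) + 4 * k := by
  classical
  haveI := Fintype.ofFinite X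
  have h1 : (MulAction.toPerm x : Equiv.Perm X) ^ 2 = 1 := by
    have := map_pow (MulAction.toPermHom G X) x 2
    rw [hx, map_one] at this
    exact this.symm
  obtain ⟨k, hk⟩ := sign_involution _ h1 (sign_toPerm_eq_one hG x)
  refine ⟨k, ?_⟩
  rw [Nat.card_eq_fintype_card, hk]
  congr 1
  rw [← Nat.card_eq_fintype_card]
  rfl

/-- Fixed points of an element normalizing but not centralizing a Sylow subgroup of prime order, on
the other Sylow subgroups. -/
theorem card_fixed_mul_le {p : ℕ} [hp : Fact p.Prime] (P : Sylow p G)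
    (hP : Nat.card (P : Subgroup G) = p) (x : G)
    (hxN : x ∈ Subgroup.normalizer ((P : Subgroup G) : Set G))
    (hxC : x ∉ Subgroup.centralizer ((P : Subgroup G) : Set G)) :
    Nat.card {Q : Sylow p G // Q ≠ P ∧ x • Q = Q} * p + 1 ≤ Nat.card (Sylow p G) := by
  classical
  have hpp : p.Prime := hp.out
  -- non-identity elements of P generate P
  have hgen : ∀ w u : (P : Subgroup G), w ≠ 1 → u ∈ Subgroup.zpowers w := by
    intro w u hw
    exact mem_zpowers_of_prime_card hP hw
  -- conjugation by x moves every nontrivial element of P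
  have hmove : ∀ u : (P : Subgroup G), u ≠ 1 → x * (u : G) * x⁻¹ ≠ u := by
    intro u hu h
    apply hxC
    rw [Subgroup.mem_centralizer_iff]
    intro v hv
    obtain ⟨k, hk⟩ := Subgroup.mem_zpowers_iff.mp (hgen u ⟨v, hv⟩ hu)
    have hv' : ((u : G)) ^ k = v := by
      have := congrArg Subtype.val hk
      simpa using this
    have hcomm : Commute x (u : G) := by
      show x * (u : G) = (u : G) * x
      have := h
      rw [mul_inv_eq_iff_eq_mul] at this
      exact this
    rw [← hv']
    exact ((hcomm.zpow_right k).eq).symm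
  -- the stabilizer in P of another Sylow subgroup is trivial
  have hfree : ∀ (Q : Sylow p G) (u : (P : Subgroup G)), Q ≠ P → (u : G) • Q = Q → u = 1 := by
    intro Q u hQ hu
    by_contra hne
    apply hQ
    have h1 : (u : G) ∈ (Q : Subgroup G) := by
      apply mem_of_mem_nrm Q P.isPGroup' (A := (P : Subgroup G)) u.2
      exact (smul_eq_iff_mem_nrm Q (u : G)).mp hu
    -- hence P ≤ Q
    have h2 : (P : Subgroup G) ≤ (Q : Subgroup G) := by
      intro v hv
      obtain ⟨k, hk⟩ := Subgroup.mem_zpowers_iff.mp (hgen u ⟨v, hv⟩ hne)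
      have hv' : ((u : G)) ^ k = v := by
        have := congrArg Subtype.val hk
        simpa using this
      rw [← hv']
      exact Subgroup.zpow_mem _ h1 k
    exact (Sylow.ext (P.is_maximal' Q.isPGroup' h2)).symm ▸ rfl
  -- two fixed points in one orbit coincide
  have horb : ∀ (Q Q' : Sylow p G) (u : (P : Subgroup G)), Q ≠ P → x • Q = Q → x • Q' = Q' →
      (u : G) • Q = Q' → u = 1 := by
    intro Q Q' u hQ hfQ hfQ' huQ
    by_contra hne
    have hxu : x * (u : G) * x⁻¹ ∈ (P : Subgroup G) :=
      (Subgroup.mem_normalizer_iff.mp hxN _).mp u.2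
    have e1 : (x * (u : G) * x⁻¹) • Q = Q' := by
      have hinv : x⁻¹ • Q = Q := by
        rw [inv_smul_eq_iff]; exact hfQ.symm
      rw [mul_smul, mul_smul, hinv, huQ, hfQ']
    let u' : (P : Subgroup G) := ⟨x * (u : G) * x⁻¹, hxu⟩
    let w : (P : Subgroup G) := u⁻¹ * u'
    have hw1 : w ≠ 1 := by
      intro h1
      have h2 : u' = u := by
        have := mul_eq_one_iff_eq_inv.mp h1
        simpa using this.symm
      exact hmove u hne (congrArg Subtype.val h2)
    have hw2 : (w : G) • Q = Q := by
      have : (w : G) = (u : G)⁻¹ * (x * (u : G) * x⁻¹) := rfl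
      rw [this, mul_smul, e1, inv_smul_eq_iff]
      exact huQ.symm
    exact hw1 (hfree Q w hQ hw2)
  -- the injection
  let F := {Q : Sylow p G // Q ≠ P ∧ x • Q = Q}
  let φ : F × (P : Subgroup G) → {Q : Sylow p G // Q ≠ P} := fun a =>
    ⟨(a.2 : G) • a.1.1, by
      intro h
      apply a.1.2.1
      have hP' : (a.2 : G) • P = P := (smul_eq_iff_mem_nrm P _).mpr (Subgroup.le_normalizer a.2.2)
      exact smul_left_cancel (a.2 : G) (h.trans hP'.symm)⟩
  have hφ : Function.Injective φ := by
    rintro ⟨Q, u⟩ ⟨Q', v⟩ h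
    have h1 : (u : G) • Q.1 = (v : G) • Q'.1 := congrArg Subtype.val h
    have h2 : ((v⁻¹ * u : (P : Subgroup G)) : G) • Q.1 = Q'.1 := by
      show ((v : G)⁻¹ * (u : G)) • Q.1 = Q'.1
      rw [mul_smul, h1, inv_smul_smul]
    have h3 := horb Q.1 Q'.1 (v⁻¹ * u) Q.2.1 Q.2.2 Q'.2.2 h2
    have h4 : u = v := by
      have := mul_eq_one_iff_eq_inv.mp h3
      simpa using this.symm
    subst h4
    have h5 : Q.1 = Q'.1 := smul_left_cancel (u : G) h1
    have h6 : Q = Q' := Subtype.ext h5
    rw [h6]
  have h := Nat.card_le_card_of_injective φ hφ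
  rw [Nat.card_prod, hP] at h
  have h2 := card_subtype_ne_add_one P
  show Nat.card F * p + 1 ≤ _
  omega

/-- Fixed points on all Sylow subgroups. -/
theorem card_fixedBy_eq (P : Type*) [MulAction G P] [Finite P] (a : P) (x : G) (ha : x • a = a) :
    Nat.card (MulAction.fixedBy P x) = Nat.card {Q : P // Q ≠ a ∧ x • Q = Q} + 1 := by
  classical
  haveI := Fintype.ofFinite P
  have e : MulAction.fixedBy P x ≃ Option {Q : P // Q ≠ a ∧ x • Q = Q} :=
    { toFun := fun q => if h : q.1 = a then none else some ⟨q.1, h, q.2⟩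
      invFun := fun o => match o with
        | none => ⟨a, ha⟩
        | some q => ⟨q.1, q.2.2⟩
      left_inv := by
        intro q
        by_cases h : q.1 = a
        · simp only [h, dif_pos]
          exact Subtype.ext h.symm
        · simp only [h, dif_neg, not_false_eq_true]
      right_inv := by
        intro o
        cases o with
        | none => simp
        | some q =>
          have : q.1 ≠ a := q.2.1
          simp [this] }
  rw [Nat.card_congr e]
  simp [Finite.card_option]

/-- A subgroup of `K` of order divisible by `|K|` is `K`. -/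
theorem eq_of_coprime_dvd {H K : Subgroup G} (hHK : H ≤ K) (a b : ℕ) (hab : Nat.Coprime a b)
    (ha : a ∣ Nat.card H) (hb : b ∣ Nat.card H) (hK : Nat.card K = a * b) : H = K := by
  apply Subgroup.eq_of_le_of_card_ge hHK
  rw [hK]
  exact Nat.le_of_dvd Nat.card_pos (Nat.Coprime.mul_dvd_of_dvd_of_dvd hab ha hb)

/-- If an element `t` of order `a` of the normalizer (of order `p * a`) of a subgroup of prime order
`p` centralizes it, then the whole normalizer does. -/
theorem normalizer_le_centralizer_of_elem {p a : ℕ} [hp : Fact p.Prime] (A : Subgroup G)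
    (hA : Nat.card A = p) (hN : Nat.card (Subgroup.normalizer (A : Set G)) = a * p)
    (hc : Nat.Coprime a p) (t : G) (ht : orderOf t = a)
    (hN' : t ∈ Subgroup.normalizer (A : Set G)) (hC : t ∈ Subgroup.centralizer (A : Set G)) :
    Subgroup.normalizer (A : Set G) ≤ Subgroup.centralizer (A : Set G) := by
  have hPC : A ≤ Subgroup.centralizer (A : Set G) ⊓ Subgroup.normalizer (A : Set G) :=
    le_inf (le_centralizer_of_prime_card _ hA) Subgroup.le_normalizer
  have d1 : p ∣ Nat.card ↥(Subgroup.centralizer (A : Set G) ⊓ Subgroup.normalizer (A : Set G)) := by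
    have := Subgroup.card_dvd_of_le hPC
    rwa [hA] at this
  have d2 : a ∣ Nat.card ↥(Subgroup.centralizer (A : Set G) ⊓ Subgroup.normalizer (A : Set G)) := by
    have := orderOf_dvd_natCard (⟨t, Subgroup.mem_inf.mpr ⟨hC, hN'⟩⟩ :
      ↥(Subgroup.centralizer (A : Set G) ⊓ Subgroup.normalizer (A : Set G)))
    rwa [Subgroup.orderOf_mk, ht] at this
  exact inf_eq_right.mp (eq_of_coprime_dvd inf_le_right a p hc d2 d1 hN)

end Cfsg.Agent.Lib.H1Small
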