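import Mathlib
import Cfsg.Prelude.Def_CaseTheorems
import Cfsg.Agent.Lib.PGrp2
import Cfsg.Agent.Lib.H1Quat
import Cfsg.Agent.Lib.PMaxClass3
import Cfsg.Agent.Lib.H1Small

set_option autoImplicit false

/-! 2-groups whose normal abelian subgroups are cyclic. -/

namespace Cfsg.Agent.Lib.H1TwoClass

open Subgroup

theorem sq_cases {n a : ℕ} (hn : 2 ≤ n) (ha : a < 2 ^ n) (h : a * a ≡ 1 [MOD 2 ^ n]) :
    a = 1 ∨ a = 2 ^ (n - 1) + 1 ∨ a = 2 ^ n - 1 ∨ a = 2 ^ (n - 1) - 1 := by
  obtain ⟨m, rfl⟩ : ∃ m, n = m + 2 := ⟨n - 2, by omega⟩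
  have e1 : 2 ^ (m + 2) = 4 * 2 ^ m := by ring
  have e2 : m + 2 - 1 = m + 1 := by omega
  rw [e2]
  have e3 : 2 ^ (m + 1) = 2 * 2 ^ m := by ring
  have hpos : 0 < 2 ^ m := by positivity
  have hodd : a % 2 = 1 := by
    have h1 : a * a % 2 = 1 := by
      have h2 : (a * a) % (2 ^ (m + 2)) = 1 % (2 ^ (m + 2)) := h
      have h3 : 2 ∣ 2 ^ (m + 2) := dvd_pow_self 2 (by omega)
      have h4 := (Nat.ModEq.of_dvd h3 h : a * a ≡ 1 [MOD 2])
      exact h4
    rcases Nat.mod_two_eq_zero_or_one a with h2 | h2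
    · rw [Nat.mul_mod, h2] at h1
      simp at h1
    · exact h2
  obtain ⟨b, rfl⟩ : ∃ b, a = 2 * b + 1 := ⟨a / 2, by omega⟩
  have hd : 2 ^ m ∣ b * (b + 1) := by
    have h1 : (2 * b + 1) * (2 * b + 1) = 4 * (b * (b + 1)) + 1 := by ring
    rw [h1] at h
    have h2 : (2 ^ (m + 2)) ∣ 4 * (b * (b + 1)) := by
      have h3 := (Nat.modEq_iff_dvd' (by omega)).mp h.symm
      simpa using h3
    rw [e1] at h2
    exact Nat.dvd_of_mul_dvd_mul_left (by norm_num) h2
  rcases Nat.even_or_odd b with hb | hb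
  · have hc : Nat.Coprime (2 ^ m) (b + 1) := Nat.Coprime.pow_left _ (Nat.coprime_two_left.mpr hb.add_one)
    have hdb : 2 ^ m ∣ b := hc.dvd_of_dvd_mul_right hd
    obtain ⟨c, rfl⟩ := hdb
    have hc2 : c < 2 := by
      by_contra hge
      have : 2 ^ m * 2 ≤ 2 ^ m * c := Nat.mul_le_mul_left _ (by omega)
      omega
    interval_cases c
    · left; simp
    · right; left; rw [e3]; ring
  · have hc : Nat.Coprime (2 ^ m) b := Nat.Coprime.pow_left _ (Nat.coprime_two_left.mpr hb)
    have hdb : 2 ^ m ∣ b + 1 := hc.dvd_of_dvd_mul_left hd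
    obtain ⟨c, hc'⟩ := hdb
    have hc2 : c ≤ 2 := by
      by_contra hge
      have : 2 ^ m * 3 ≤ 2 ^ m * c := Nat.mul_le_mul_left _ (by omega)
      omega
    have hc0 : c ≠ 0 := by
      rintro rfl
      simp at hc'
    have hc1 : 1 ≤ c := Nat.pos_of_ne_zero hc0
    interval_cases c
    · right; right; right
      have h5 : b + 1 = 2 ^ m := by simpa using hc'
      rw [e3, ← h5]
      omega
    · right; right; left
      rw [e1]
      have h6 : 4 * 2 ^ m = 2 * (b + 1) := by
        rw [hc']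
        ring
      rw [h6]
      omega

variable {P : Type*} [Group P]

/-- conjugation of powers -/
theorem conj_pow_eq {g x : P} {a : ℕ} (h : g * x * g⁻¹ = x ^ a) (i : ℕ) : g * x ^ i * g⁻¹ = x ^ (a * i) := by
  rw [← conj_pow, h, pow_mul]

theorem pow_eq_one_of_dvd' {x : P} {n e : ℕ} (h : orderOf x = n) (he : n ∣ e) : x ^ e = 1 :=
  orderOf_dvd_iff_pow_eq_one.mp (h ▸ he)

section Cyc

variable [Finite P] {x : P} {n : ℕ} (hn : 1 ≤ n) (hxo : orderOf x = 2 ^ n)

include hn hxo

theorem z_sq : x ^ (2 ^ (n - 1)) * x ^ (2 ^ (n - 1)) = 1 := by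
  rw [← pow_add]
  apply pow_eq_one_of_dvd' hxo
  obtain ⟨m, rfl⟩ : ∃ m, n = m + 1 := ⟨n - 1, by omega⟩
  simp only [Nat.add_sub_cancel]
  rw [pow_succ]
  exact ⟨1, by ring⟩

theorem z_ne : x ^ (2 ^ (n - 1)) ≠ 1 := by
  intro h
  have h1 := orderOf_dvd_of_pow_eq_one h
  rw [hxo] at h1
  have h2 := (Nat.pow_dvd_pow_iff_le_right (by norm_num : 1 < 2)).mp h1
  omega

/-- the involutions of a cyclic 2-group -/
theorem inv_cases {y : P} (hy : y ∈ zpowers x) (h : y * y = 1) : y = 1 ∨ y = x ^ (2 ^ (n - 1)) := by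
  obtain ⟨k, rfl⟩ := Cfsg.Agent.Lib.H1Quat.exists_pow_of_mem_zpowers hy
  obtain ⟨m, rfl⟩ : ∃ m, n = m + 1 := ⟨n - 1, by omega⟩
  simp only [Nat.add_sub_cancel] at *
  rw [← pow_add] at h
  have h1 := orderOf_dvd_of_pow_eq_one h
  rw [hxo, pow_succ] at h1
  have h2 : 2 ^ m ∣ k := by
    have : 2 ^ m * 2 ∣ k * 2 := by
      have e : k * 2 = k + k := by ring
      rw [e]
      exact h1
    exact Nat.dvd_of_mul_dvd_mul_right (by norm_num) this
  obtain ⟨c, rfl⟩ := h2
  rcases Nat.even_or_odd' c with ⟨d, rfl | rfl⟩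
  · left
    apply pow_eq_one_of_dvd' hxo
    rw [pow_succ]
    exact ⟨d, by ring⟩
  · right
    have e : 2 ^ m * (2 * d + 1) = 2 ^ m + d * 2 ^ (m + 1) := by rw [pow_succ]; ring
    have : x ^ 2 ^ (m + 1) = 1 := by rw [← hxo]; exact pow_orderOf_eq_one x
    rw [e, pow_add, mul_comm d, pow_mul, this, one_pow, mul_one]

/-- powers killed by an odd factor -/
theorem pow_eq_of_odd_mul {i c : ℕ} (hc : Odd c) (h : x ^ (2 * c * i) = 1) :
    x ^ i = 1 ∨ x ^ i = x ^ (2 ^ (n - 1)) := by
  apply inv_cases hn hxo (Subgroup.npow_mem_zpowers x i)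
  rw [← pow_add]
  apply pow_eq_one_of_dvd' hxo
  have h1 := orderOf_dvd_of_pow_eq_one h
  rw [hxo] at h1
  have h2 : 2 ^ n ∣ c * (2 * i) := by
    have e : c * (2 * i) = 2 * c * i := by ring
    rw [e]
    exact h1
  have h3 : Nat.Coprime (2 ^ n) c := Nat.Coprime.pow_left _ (Nat.coprime_two_left.mpr hc)
  have h4 := h3.dvd_of_dvd_mul_left h2
  have e : i + i = 2 * i := by ring
  rw [e]
  exact h4

end Cyc

/-- normal subgroups from generators: the four-group -/
theorem noV4_of_hV (hV : ∀ A : Subgroup P, A.Normal → IsMulCommutative A → IsCyclic A) [Finite P]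
    {z t : P} (hz : z ≠ 1) (ht : t ≠ 1) (hzt : z ≠ t) (hz2 : z * z = 1) (ht2 : t * t = 1)
    (hcomm : z * t = t * z) (hzc : ∀ g : P, g * z * g⁻¹ = z)
    (htc : ∀ g : P, g * t * g⁻¹ = t ∨ g * t * g⁻¹ = t * z) : False := by
  classical
  let E : Subgroup P :=
    { carrier := {1, z, t, t * z}
      one_mem' := by simp
      mul_mem' := by
        have hz' : z = z⁻¹ := eq_inv_of_mul_eq_one_left hz2
        have hh : t * z * (t * z) = 1 := by
          calc t * z * (t * z) = t * (z * t) * z := by group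
            _ = t * (t * z) * z := by rw [hcomm]
            _ = (t * t) * (z * z) := by group
            _ = 1 := by rw [ht2, hz2, one_mul]
        have h1 : z * (t * z) = t := by
          calc z * (t * z) = (z * t) * z := by group
            _ = (t * z) * z := by rw [hcomm]
            _ = t * (z * z) := by group
            _ = t := by rw [hz2, mul_one]
        have h2 : t * (t * z) = z := by
          calc t * (t * z) = (t * t) * z := by group
            _ = z := by rw [ht2, one_mul]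
        have h3 : t * z * z = t := by
          calc t * z * z = t * (z * z) := by group
            _ = t := by rw [hz2, mul_one]
        have h4 : t * z * t = z := by
          calc t * z * t = t * (z * t) := by group
            _ = t * (t * z) := by rw [hcomm]
            _ = z := h2
        rintro a b (rfl | rfl | rfl | rfl) (rfl | rfl | rfl | rfl) <;>
          simp [hz2, ht2, hh, h1, h2, h3, h4, hcomm]
      inv_mem' := by
        have hh : t * z * (t * z) = 1 := by
          calc t * z * (t * z) = t * (z * t) * z := by group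
            _ = t * (t * z) * z := by rw [hcomm]
            _ = (t * t) * (z * z) := by group
            _ = 1 := by rw [ht2, hz2, one_mul]
        rintro a (rfl | rfl | rfl | rfl)
        · simp
        · rw [inv_eq_of_mul_eq_one_left hz2]; simp
        · rw [inv_eq_of_mul_eq_one_left ht2]; simp
        · rw [inv_eq_of_mul_eq_one_left hh]; simp }
  have hmem : ∀ a, a ∈ E ↔ a = 1 ∨ a = z ∨ a = t ∨ a = t * z := fun a => Iff.rfl
  have hEn : E.Normal := by
    constructor
    intro a ha g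
    rw [hmem] at ha ⊢
    have hzc' := hzc g
    rcases ha with rfl | rfl | rfl | rfl
    · left; simp
    · right; left; exact hzc' 
    · rcases htc g with h | h
      · right; right; left; exact h
      · right; right; right; exact h
    · have h5 : g * (t * z) * g⁻¹ = (g * t * g⁻¹) * (g * z * g⁻¹) := by group
      rw [h5, hzc']
      rcases htc g with h | h
      · rw [h]; right; right; right; rfl
      · rw [h]
        right; right; left
        calc t * z * z = t * (z * z) := by group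
          _ = t := by rw [hz2, mul_one]
  have hcz : ∀ a ∈ E, a * z = z * a := by
    intro a ha
    rw [hmem] at ha
    have h0 := hzc a
    rw [mul_inv_eq_iff_eq_mul] at h0
    exact h0
  have hct : ∀ a ∈ E, a * t = t * a := by
    intro a ha
    rw [hmem] at ha
    rcases ha with rfl | rfl | rfl | rfl
    · simp
    · exact hcomm
    · rfl
    · calc t * z * t = t * (z * t) := by group
        _ = t * (t * z) := by rw [hcomm]
        _ = t * (t * z) := rfl
  have hEc : IsMulCommutative E := by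
    constructor
    constructor
    rintro ⟨a, ha⟩ ⟨b, hb⟩
    apply Subtype.ext
    show a * b = b * a
    have hb' := hb
    rw [hmem] at hb'
    rcases hb' with rfl | rfl | rfl | rfl
    · simp
    · exact hcz a ha
    · exact hct a ha
    · calc a * (t * z) = (a * t) * z := by group
        _ = t * (a * z) := by rw [hct a ha]; group
        _ = t * (z * a) := by rw [hcz a ha]
        _ = t * z * a := by group
  haveI hcyc := hV E hEn hEc
  haveI : Fintype E := Fintype.ofFinite _
  have h1 := IsCyclic.card_pow_eq_one_le (α := E) (n := 2) (by norm_num)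
  let S : Finset E := {⟨1, E.one_mem⟩, ⟨z, (hmem z).mpr (Or.inr (Or.inl rfl))⟩, ⟨t, (hmem t).mpr (Or.inr (Or.inr (Or.inl rfl)))⟩}
  have h2 : S ⊆ Finset.univ.filter (fun a : E => a ^ 2 = 1) := by
    intro a ha
    simp only [S, Finset.mem_insert, Finset.mem_singleton] at ha
    simp only [Finset.mem_filter, Finset.mem_univ, true_and]
    apply Subtype.ext
    rcases ha with rfl | rfl | rfl
    · simp
    · show z ^ 2 = 1
      rw [sq, hz2]
    · show t ^ 2 = 1
      rw [sq, ht2]
  have h3 : S.card = 3 := by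
    rw [Finset.card_eq_three]
    refine ⟨_, _, _, ?_, ?_, ?_, rfl⟩
    · intro h; exact hz (congrArg Subtype.val h).symm
    · intro h; exact ht (congrArg Subtype.val h).symm
    · intro h; exact hzt (congrArg Subtype.val h)
  have h4 := Finset.card_le_card h2
  omega

/-- self-centralizing maximal normal abelian subgroups -/
theorem exists_self_cent [Finite P] {p : ℕ} [Fact p.Prime] (hP : IsPGroup p P) :
    ∃ U : Subgroup P, U.Normal ∧ IsMulCommutative U ∧ centralizer (U : Set P) = U := by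
  classical
  let F : Set (Subgroup P) := {A | A.Normal ∧ IsMulCommutative A}
  have hbot : (⊥ : Subgroup P) ∈ F := by
    refine ⟨inferInstance, ⟨⟨?_⟩⟩⟩
    rintro ⟨a, ha⟩ ⟨b, hb⟩
    rw [mem_bot] at ha hb
    apply Subtype.ext
    simp [ha, hb]
  obtain ⟨U, -, hU⟩ := (Set.toFinite F).exists_le_maximal hbot
  obtain ⟨hUn, hUc⟩ := hU.prop
  refine ⟨U, hUn, hUc, ?_⟩
  haveI := hUn
  have hUC : U ≤ centralizer (U : Set P) := by
    intro a ha
    rw [mem_centralizer_iff]
    intro b hb
    have := hUc.is_comm.comm (⟨b, hb⟩ : U) ⟨a, ha⟩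
    exact congrArg Subtype.val this
  by_contra hne
  have hlt : U < centralizer (U : Set P) := lt_of_le_of_ne hUC (Ne.symm hne)
  haveI : (centralizer (U : Set P)).Normal := inferInstance
  obtain ⟨V, hVn, hUV, hVC, -, -, v, hv, hvU, -, hform⟩ :=
    Cfsg.Agent.Lib.PGrp.exists_normal_between hP U _ hlt
  have hvc : v ∈ centralizer (U : Set P) := hVC hv
  have hcv : ∀ u ∈ U, v * u = u * v := fun u hu => (mem_centralizer_iff.mp hvc u hu).symm
  have hVcomm : IsMulCommutative V := by
    constructor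
    constructor
    rintro ⟨a, ha⟩ ⟨b, hb⟩
    apply Subtype.ext
    show a * b = b * a
    obtain ⟨k, u, hu, rfl⟩ := hform a ha
    obtain ⟨l, w, hw, rfl⟩ := hform b hb
    have h1 : Commute v u := hcv u hu
    have h2 : Commute v w := hcv w hw
    have h3 : Commute u w := by
      have := hUc.is_comm.comm (⟨u, hu⟩ : U) ⟨w, hw⟩
      exact congrArg Subtype.val this
    have c1 : Commute (v ^ k) (v ^ l) := (Commute.refl v).pow_pow k l
    have c2 : Commute (v ^ k) w := h2.pow_left k
    have c3 : Commute u (v ^ l) := (h1.pow_left l).symm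
    calc v ^ k * u * (v ^ l * w) = v ^ k * (u * v ^ l) * w := by group
      _ = v ^ k * (v ^ l * u) * w := by rw [c3.eq]
      _ = v ^ l * v ^ k * (u * w) := by rw [← mul_assoc (v ^ k), c1.eq]; group
      _ = v ^ l * (v ^ k * w) * u := by rw [h3.eq]; group
      _ = v ^ l * (w * v ^ k) * u := by rw [c2.eq]
      _ = v ^ l * w * (v ^ k * u) := by group
  have := hU.le_of_ge (⟨hVn, hVcomm⟩ : V ∈ F) hUV.le
  exact hvU (this hv)

section Main

variable [Finite P]

theorem z_central {x : P} {n : ℕ} (hn : 1 ≤ n) (hxo : orderOf x = 2 ^ n) (hUn : (zpowers x).Normal)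
    (g : P) : g * x ^ (2 ^ (n - 1)) * g⁻¹ = x ^ (2 ^ (n - 1)) := by
  have hmem : g * x ^ (2 ^ (n - 1)) * g⁻¹ ∈ zpowers x := hUn.conj_mem _ (npow_mem_zpowers x _) g
  have hsq : (g * x ^ (2 ^ (n - 1)) * g⁻¹) * (g * x ^ (2 ^ (n - 1)) * g⁻¹) = 1 := by
    have h1 := z_sq hn hxo
    calc (g * x ^ (2 ^ (n - 1)) * g⁻¹) * (g * x ^ (2 ^ (n - 1)) * g⁻¹)
        = g * (x ^ (2 ^ (n - 1)) * x ^ (2 ^ (n - 1))) * g⁻¹ := by group
      _ = 1 := by rw [h1]; group
  rcases inv_cases hn hxo hmem hsq with h | h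
  · exfalso
    apply z_ne hn hxo
    have h2 : x ^ (2 ^ (n - 1)) = g⁻¹ * (g * x ^ (2 ^ (n - 1)) * g⁻¹) * g := by group
    rw [h2, h]
    group
  · exact h

/-- The set-up hypothesis: no normal four-group. -/
def NoV4 (P : Type*) [Group P] : Prop :=
  ∀ z t : P, z ≠ 1 → t ≠ 1 → z ≠ t → z * z = 1 → t * t = 1 → z * t = t * z → (∀ g : P, g * z * g⁻¹ = z) →
    (∀ g : P, g * t * g⁻¹ = t ∨ g * t * g⁻¹ = t * z) → False

/-- the "modular" action is impossible -/
theorem modular_false {x : P} {n : ℕ} (hn : 3 ≤ n) (hxo : orderOf x = 2 ^ n)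
    (hUn : (zpowers x).Normal) (hE : NoV4 P) (V : Subgroup P) (hVn : V.Normal) (hUV : zpowers x ≤ V)
    (t : P) (htV : t ∈ V) (htU : t ∉ zpowers x) (ht2 : t * t ∈ zpowers x)
    (hform : ∀ y ∈ V, y ∈ zpowers x ∨ t⁻¹ * y ∈ zpowers x)
    (hta : t * x * t⁻¹ = x ^ (2 ^ (n - 1) + 1)) : False := by
  have hn1 : 1 ≤ n := by omega
  set M := 2 ^ (n - 1) with hM
  set z := x ^ M with hz
  have hz2 : z * z = 1 := z_sq hn1 hxo
  have hz1 : z ≠ 1 := z_ne hn1 hxo
  have hzc : ∀ g : P, g * z * g⁻¹ = z := z_central hn1 hxo hUn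
  have hzo : orderOf z = 2 := orderOf_eq_prime (by rw [sq]; exact hz2) hz1
  obtain ⟨e, he⟩ : ∃ e, n = e + 3 := ⟨n - 3, by omega⟩
  subst he
  have hMe : M = 4 * 2 ^ e := by
    rw [hM]
    have : e + 3 - 1 = e + 2 := by omega
    rw [this]
    ring
  set c := 1 + 2 * 2 ^ e with hc
  have hcodd : Odd c := ⟨2 ^ e, by omega⟩
  have h2c : M + 2 = 2 * c := by rw [hMe, hc]; ring
  have hordM : 2 ^ (e + 3) = 2 * M := by rw [hMe]; ring
  have hpow1 : ∀ a : ℕ, M ∣ a → x ^ (2 * a) = 1 := by
    rintro a ⟨b, rfl⟩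
    apply pow_eq_one_of_dvd' hxo
    rw [hordM]
    exact ⟨b, by ring⟩
  -- square of t
  obtain ⟨m, hm⟩ := Cfsg.Agent.Lib.H1Quat.exists_pow_of_mem_zpowers ht2
  have hm2 : 2 ∣ m := by
    have h1 : t * (t * t) * t⁻¹ = t * t := by group
    rw [← hm, conj_pow_eq hta] at h1
    have h2 : (M + 1) * m = M * m + m := by ring
    rw [h2, pow_add, pow_mul] at h1
    have h3 : z ^ m = 1 := mul_eq_right.mp h1
    rw [← hzo]
    exact orderOf_dvd_of_pow_eq_one h3
  obtain ⟨k, rfl⟩ := hm2
  obtain ⟨j, hj⟩ : ∃ j, M ∣ c * j + k := by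
    have hcop : Nat.Coprime c M := by
      rw [hMe]
      have : (4 : ℕ) = 2 ^ 2 := by norm_num
      rw [this, ← pow_add]
      exact Nat.Coprime.pow_right _ hcodd.coprime_two_right
    have hM1 : 1 < M := by
      rw [hMe]
      have : 0 < 2 ^ e := by positivity
      omega
    obtain ⟨m₀, -, hm₀⟩ := Nat.exists_mul_mod_eq_one_of_coprime hcop hM1
    refine ⟨m₀ * (k * (M - 1)), ?_⟩
    have h1 : c * m₀ = M * (c * m₀ / M) + 1 := by
      have := Nat.div_add_mod (c * m₀) M
      omega
    obtain ⟨M', hM'⟩ : ∃ M', M = M' + 1 := ⟨M - 1, by omega⟩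
    rw [hM'] at h1 ⊢
    simp only [Nat.add_sub_cancel]
    generalize c * m₀ / (M' + 1) = q at h1
    refine ⟨q * (k * M') + k, ?_⟩
    calc c * (m₀ * (k * M')) + k = (c * m₀) * (k * M') + k := by ring
      _ = ((M' + 1) * q + 1) * (k * M') + k := by rw [h1]
      _ = (M' + 1) * (q * (k * M') + k) := by ring
  set t₁ := t * x ^ j with ht₁
  have hcx : ∀ i : ℕ, t₁ * x ^ i * t₁⁻¹ = x ^ ((M + 1) * i) := by
    intro i
    have h1 : x ^ j * x ^ i * (x ^ j)⁻¹ = x ^ i := by
      rw [← pow_add, add_comm, pow_add]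
      group
    calc t₁ * x ^ i * t₁⁻¹ = t * (x ^ j * x ^ i * (x ^ j)⁻¹) * t⁻¹ := by rw [ht₁]; group
      _ = x ^ ((M + 1) * i) := by rw [h1, conj_pow_eq hta]
  have ht₁2 : t₁ * t₁ = 1 := by
    have h1 : t₁ * t₁ = t * x ^ j * t⁻¹ * (t * t) * x ^ j := by rw [ht₁]; group
    rw [h1, conj_pow_eq hta, ← hm, ← pow_add, ← pow_add]
    have h2 : (M + 1) * j + 2 * k + j = 2 * (c * j + k) := by
      calc (M + 1) * j + 2 * k + j = (M + 2) * j + 2 * k := by ring
        _ = 2 * c * j + 2 * k := by rw [h2c]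
        _ = 2 * (c * j + k) := by ring
    rw [h2]
    exact hpow1 _ hj
  have ht₁U : t₁ ∉ zpowers x := by
    intro h
    apply htU
    have h2 : t = t₁ * (x ^ j)⁻¹ := by rw [ht₁]; group
    rw [h2]
    exact mul_mem h (inv_mem (npow_mem_zpowers x j))
  have ht₁V : t₁ ∈ V := V.mul_mem htV (hUV (npow_mem_zpowers x j))
  have hzU : z ∈ zpowers x := npow_mem_zpowers x _
  refine hE z t₁ hz1 ?_ ?_ hz2 ht₁2 ?_ hzc ?_
  · intro h
    exact ht₁U (by rw [h]; exact one_mem _)
  · intro h
    exact ht₁U (h ▸ hzU)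
  · have := hzc t₁
    rw [mul_inv_eq_iff_eq_mul] at this
    exact this.symm
  · intro g
    set h := g * t₁ * g⁻¹ with hh
    have hhV : h ∈ V := hVn.conj_mem _ ht₁V g
    have hhU : h ∉ zpowers x := by
      intro h1
      apply ht₁U
      have := hUn.conj_mem _ h1 g⁻¹
      have e2 : g⁻¹ * h * g⁻¹⁻¹ = t₁ := by rw [hh]; group
      rwa [e2] at this
    have hh2 : h * h = 1 := by
      calc h * h = g * (t₁ * t₁) * g⁻¹ := by rw [hh]; group
        _ = 1 := by rw [ht₁2]; group
    rcases hform h hhV with h1 | h1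
    · exact absurd h1 hhU
    have h3 : t₁⁻¹ * h ∈ zpowers x := by
      have e2 : t₁⁻¹ * h = (x ^ j)⁻¹ * (t⁻¹ * h) := by rw [ht₁]; group
      rw [e2]
      exact mul_mem (inv_mem (npow_mem_zpowers x j)) h1
    obtain ⟨i, hi⟩ := Cfsg.Agent.Lib.H1Quat.exists_pow_of_mem_zpowers h3
    have h4 : h = t₁ * x ^ i := by rw [hi]; group
    have h5 : x ^ (2 * c * i) = 1 := by
      have h6 : h * h = (t₁ * x ^ i * t₁⁻¹) * (t₁ * t₁) * x ^ i := by rw [h4]; group
      rw [hh2, ht₁2, hcx, mul_one, ← pow_add] at h6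
      have h7 : (M + 1) * i + i = 2 * c * i := by
        calc (M + 1) * i + i = (M + 2) * i := by ring
          _ = 2 * c * i := by rw [h2c]
      rw [h7] at h6
      exact h6.symm
    rcases pow_eq_of_odd_mul hn1 hxo hcodd h5 with h6 | h6
    · left
      rw [h4, h6, mul_one]
    · right
      rw [h4, h6]

/-- elements of a subgroup of "index two" form -/
theorem form_of_sq {U : Subgroup P} {t : P} (ht2 : t * t ∈ U) (y : P)
    (hy : ∃ k : ℕ, ∃ u ∈ U, y = t ^ k * u) : y ∈ U ∨ t⁻¹ * y ∈ U := by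
  obtain ⟨k, u, hu, rfl⟩ := hy
  rcases Nat.even_or_odd' k with ⟨l, rfl | rfl⟩
  · left
    rw [pow_mul, sq]
    exact U.mul_mem (U.pow_mem ht2 l) hu
  · right
    have : t⁻¹ * (t ^ (2 * l + 1) * u) = (t * t) ^ l * u := by
      rw [pow_succ', pow_mul, sq]
      group
    rw [this]
    exact U.mul_mem (U.pow_mem ht2 l) hu

/-- action of `t` normalizing `x`: modular data -/
theorem exists_action {x t : P} {n : ℕ} (hxo : orderOf x = 2 ^ n) (hUn : (zpowers x).Normal)
    (ht2 : t * t ∈ zpowers x) :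
    ∃ a, a < 2 ^ n ∧ t * x * t⁻¹ = x ^ a ∧ a * a ≡ 1 [MOD 2 ^ n] := by
  have hmem : t * x * t⁻¹ ∈ zpowers x := hUn.conj_mem x (mem_zpowers x) t
  obtain ⟨a₀, ha₀⟩ := Cfsg.Agent.Lib.H1Quat.exists_pow_of_mem_zpowers hmem
  have hpos : 0 < 2 ^ n := by positivity
  have hx : x ^ (a₀ % 2 ^ n) = t * x * t⁻¹ := by
    rw [← ha₀]
    have := pow_mod_orderOf x a₀
    rwa [hxo] at this
  refine ⟨a₀ % 2 ^ n, Nat.mod_lt _ hpos, hx.symm, ?_⟩
  set a := a₀ % 2 ^ n
  obtain ⟨m, hm⟩ := Cfsg.Agent.Lib.H1Quat.exists_pow_of_mem_zpowers ht2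
  have h1 : (t * t) * x * (t * t)⁻¹ = x := by
    rw [← hm, ((Commute.refl x).pow_left m).eq]
    group
  have h2 : t * (t * x * t⁻¹) * t⁻¹ = x := by
    calc t * (t * x * t⁻¹) * t⁻¹ = (t * t) * x * (t * t)⁻¹ := by group
      _ = x := h1
  rw [← hx, conj_pow_eq hx.symm] at h2
  have h3 : x ^ (a * a) = x ^ 1 := by rw [h2, pow_one]
  rw [pow_eq_pow_iff_modEq, hxo] at h3
  exact h3

/-- The conclusion of the classification. -/
def TwoClassConcl (P : Type*) [Group P] : Prop :=
  (∃ k, 1 ≤ k ∧ Nonempty (P ≃* QuaternionGroup (2 ^ k))) ∨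
    (∃ k, 3 ≤ k ∧ Nonempty (P ≃* DihedralGroup (2 ^ k))) ∨ Cfsg.IsQuasiDihedral P

theorem core {x : P} {n : ℕ} (hP : IsPGroup 2 P) (hxo : orderOf x = 2 ^ n) (hUn : (zpowers x).Normal)
    (hC : centralizer ((zpowers x : Subgroup P) : Set P) = zpowers x) (hnc : ¬ IsCyclic P)
    (hE : NoV4 P) : TwoClassConcl P := by
  classical
  haveI : Fact (Nat.Prime 2) := ⟨Nat.prime_two⟩
  haveI := hUn
  set U : Subgroup P := zpowers x with hU
  have hUtop : U ≠ ⊤ := by
    intro h
    apply hnc
    refine ⟨x, fun g => ?_⟩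
    have h1 : g ∈ U := by rw [h]; trivial
    exact h1
  have hnormtop : ∀ (A : Subgroup P), A.Normal → normalizer (A : Set P) = ⊤ :=
    fun A hA => Subgroup.normalizer_eq_top_iff.mpr hA
  -- `n ≥ 2`
  have hn2 : 2 ≤ n := by
    by_contra hlt
    have h1 := Cfsg.Agent.Lib.H1Small.relIndex_centralizer_dvd_card_mulAut U
    rw [hC, hnormtop U hUn, Subgroup.relIndex_top_right] at h1
    haveI : IsCyclic U := inferInstance
    rw [IsCyclic.card_mulAut, Nat.card_zpowers, hxo] at h1
    have h2 : Nat.totient (2 ^ n) = 1 := by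
      have : n = 0 ∨ n = 1 := by omega
      rcases this with rfl | rfl <;> norm_num
    rw [h2, Nat.dvd_one, Subgroup.index_eq_one] at h1
    exact hUtop h1
  have hn1 : 1 ≤ n := by omega
  set z := x ^ (2 ^ (n - 1)) with hz
  have hz2 : z * z = 1 := z_sq hn1 hxo
  have hz1 : z ≠ 1 := z_ne hn1 hxo
  have hzc : ∀ g : P, g * z * g⁻¹ = z := z_central hn1 hxo hUn
  have hzU : z ∈ U := npow_mem_zpowers x _
  -- the subgroup of order 4
  set w := x ^ (2 ^ (n - 2)) with hw
  have hwo : orderOf w = 2 ^ 2 := by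
    rw [hw, orderOf_pow_of_dvd (by positivity) (by rw [hxo]; exact pow_dvd_pow 2 (by omega)), hxo]
    exact Nat.pow_div (by omega) (by norm_num) |>.trans (by congr 1; omega)
  have hU₂n : (zpowers w).Normal := by
    constructor
    intro y hy g
    obtain ⟨k, rfl⟩ := Cfsg.Agent.Lib.H1Quat.exists_pow_of_mem_zpowers hy
    rw [← conj_pow]
    apply pow_mem
    have h1 : g * x * g⁻¹ ∈ U := hUn.conj_mem x (mem_zpowers x) g
    obtain ⟨b, hb⟩ := Cfsg.Agent.Lib.H1Quat.exists_pow_of_mem_zpowers h1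
    rw [hw, conj_pow_eq hb.symm, mul_comm, pow_mul]
    exact npow_mem_zpowers _ _
  haveI := hU₂n
  set C₂ : Subgroup P := centralizer ((zpowers w : Subgroup P) : Set P) with hC₂def
  haveI : C₂.Normal := inferInstance
  have hwU : zpowers w ≤ U := by
    rw [zpowers_le]
    exact npow_mem_zpowers x _
  have hUC₂ : U ≤ C₂ := by
    intro u hu
    rw [hC₂def, mem_centralizer_iff]
    intro v hv
    have h1 : v ∈ U := hwU hv
    obtain ⟨k, rfl⟩ := Cfsg.Agent.Lib.H1Quat.exists_pow_of_mem_zpowers hu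
    obtain ⟨l, rfl⟩ := Cfsg.Agent.Lib.H1Quat.exists_pow_of_mem_zpowers h1
    exact ((Commute.refl x).pow_pow l k).eq
  have hC₂U : C₂ = U := by
    by_contra hne
    have hlt : U < C₂ := lt_of_le_of_ne hUC₂ (Ne.symm hne)
    obtain ⟨V, hVn, hUV, hVC, -, -, t, htV, htU, ht2, hform⟩ :=
      Cfsg.Agent.Lib.PGrp.exists_normal_between hP U C₂ hlt
    rw [sq] at ht2
    obtain ⟨a, ha, hta, haa⟩ := exists_action hxo hUn ht2
    have htw : t * w * t⁻¹ = w := by
      have h1 : t ∈ C₂ := hVC htV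
      have h2 := mem_centralizer_iff.mp h1 w (mem_zpowers w)
      rw [← h2]
      group
    rw [hw, conj_pow_eq hta] at htw
    have h4 : a * 2 ^ (n - 2) ≡ 1 * 2 ^ (n - 2) [MOD 2 ^ n] := by
      rw [one_mul]
      have := (pow_eq_pow_iff_modEq (x := x)).mp htw
      rwa [hxo] at this
    have h5 : a ≡ 1 [MOD 4] := by
      have h6 : 2 ^ n = 4 * 2 ^ (n - 2) := by
        obtain ⟨e, rfl⟩ : ∃ e, n = e + 2 := ⟨n - 2, by omega⟩
        simp only [Nat.add_sub_cancel]
        ring
      rw [h6] at h4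
      exact Nat.ModEq.mul_right_cancel' (by positivity) h4
    have hhform : ∀ y ∈ V, y ∈ U ∨ t⁻¹ * y ∈ U := fun y hy => form_of_sq ht2 y (hform y hy)
    rcases sq_cases hn2 ha haa with h | h | h | h
    · -- centralizes
      apply htU
      rw [← hC, mem_centralizer_iff]
      intro v hv
      obtain ⟨k, rfl⟩ := Cfsg.Agent.Lib.H1Quat.exists_pow_of_mem_zpowers hv
      rw [h, pow_one] at hta
      have h6 : t * x = x * t := by
        rw [mul_inv_eq_iff_eq_mul] at hta
        exact hta
      exact (((show Commute t x from h6).pow_right k).eq).symm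
    · rcases Nat.lt_or_ge n 3 with h3 | h3
      · have : n = 2 := by omega
        subst this
        rw [h] at h5
        exact absurd h5 (by decide)
      · exact modular_false h3 hxo hUn hE V hVn hUV.le t htV htU ht2 hhform (h ▸ hta)
    · obtain ⟨e, rfl⟩ : ∃ e, n = e + 2 := ⟨n - 2, by omega⟩
      have h6 : 2 ^ (e + 2) = 4 * 2 ^ e := by ring
      have h7 : 0 < 2 ^ e := by positivity
      rw [h, h6] at h5
      have h8 : (4 * 2 ^ e - 1) % 4 = 1 := h5
      omega
    · rcases Nat.lt_or_ge n 3 with h3 | h3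
      · have : n = 2 := by omega
        subst this
        norm_num at h
        subst h
        apply htU
        rw [← hC, mem_centralizer_iff]
        intro v hv
        obtain ⟨k, rfl⟩ := Cfsg.Agent.Lib.H1Quat.exists_pow_of_mem_zpowers hv
        rw [pow_one] at hta
        have h6 : t * x = x * t := by
          rw [mul_inv_eq_iff_eq_mul] at hta
          exact hta
        exact (((show Commute t x from h6).pow_right k).eq).symm
      · obtain ⟨e, rfl⟩ : ∃ e, n = e + 3 := ⟨n - 3, by omega⟩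
        have h6 : 2 ^ (e + 3 - 1) = 4 * 2 ^ e := by
          have : e + 3 - 1 = e + 2 := by omega
          rw [this]
          ring
        have h7 : 0 < 2 ^ e := by positivity
        rw [h, h6] at h5
        have h8 : (4 * 2 ^ e - 1) % 4 = 1 := h5
        omega
  -- index two
  have hidx : U.index = 2 := by
    have h1 := Cfsg.Agent.Lib.H1Small.relIndex_centralizer_dvd_card_mulAut (zpowers w)
    rw [← hC₂def, hC₂U, hnormtop _ hU₂n, Subgroup.relIndex_top_right] at h1
    haveI : IsCyclic (zpowers w) := inferInstance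
    rw [IsCyclic.card_mulAut, Nat.card_zpowers, hwo] at h1
    have h2 : Nat.totient (2 ^ 2) = 2 := by decide
    rw [h2] at h1
    rcases (Nat.dvd_prime Nat.prime_two).mp h1 with h3 | h3
    · exact absurd (Subgroup.index_eq_one.mp h3) hUtop
    · exact h3
  have hcard : Nat.card P = 2 ^ (n + 1) := by
    have h1 := U.index_mul_card
    rw [hidx, hU, Nat.card_zpowers, hxo] at h1
    rw [← h1]
    ring
  obtain ⟨y, hyU⟩ : ∃ y, y ∉ U := by
    by_contra h
    push_neg at h
    exact hUtop ((Subgroup.eq_top_iff' U).mpr h)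
  have hall : ∀ g, g ∈ U ∨ y⁻¹ * g ∈ U := by
    intro g
    by_cases hg : g ∈ U
    · exact Or.inl hg
    · right
      rw [Subgroup.mul_mem_iff_of_index_two hidx]
      simp [hg, hyU]
  have hy2 : y * y ∈ U := Subgroup.mul_self_mem_of_index_two hidx y
  obtain ⟨a, ha, hya, haa⟩ := exists_action hxo hUn hy2
  have hyinv : y⁻¹ ∉ U := fun h => hyU (by simpa using inv_mem h)
  have hcent : a ≠ 1 := by
    intro h
    apply hyU
    rw [← hC, mem_centralizer_iff]
    intro v hv
    obtain ⟨k, rfl⟩ := Cfsg.Agent.Lib.H1Quat.exists_pow_of_mem_zpowers hv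
    rw [h, pow_one] at hya
    have h6 : y * x = x * y := by
      rw [mul_inv_eq_iff_eq_mul] at hya
      exact hya
    exact (((show Commute y x from h6).pow_right k).eq).symm
  -- the inversion case
  have hinvcase : y * x * y⁻¹ = x⁻¹ → TwoClassConcl P := by
    intro hinv
    obtain ⟨m, hm⟩ := Cfsg.Agent.Lib.H1Quat.exists_pow_of_mem_zpowers hy2
    have h1 : y * (y * y) * y⁻¹ = y * y := by group
    have h2 : (y * y) * (y * y) = 1 := by
      have h3 : y * x ^ m * y⁻¹ = (x ^ m)⁻¹ := by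
        rw [← conj_pow, hinv, inv_pow]
      rw [← hm] at h1 ⊢
      rw [h3] at h1
      nth_rw 1 [← h1]
      simp
    rcases inv_cases hn1 hxo hy2 h2 with h3 | h3
    · -- dihedral
      rcases Nat.lt_or_ge n 3 with h4 | h4
      · exfalso
        have hn2' : n = 2 := by omega
        refine hE z y hz1 ?_ ?_ hz2 h3 ?_ hzc ?_
        · intro h
          exact hyU (by rw [h]; exact one_mem _)
        · intro h
          exact hyU (h ▸ hzU)
        · have := hzc y
          rw [mul_inv_eq_iff_eq_mul] at this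
          exact this.symm
        · -- conjugates of `y`
          have hyz : y * z = z * y := by
            have := hzc y
            rw [mul_inv_eq_iff_eq_mul] at this
            exact this
          have hpowz : ∀ i : ℕ, x ^ i * y * (x ^ i)⁻¹ = y ∨ x ^ i * y * (x ^ i)⁻¹ = y * z := by
            intro i
            have h5 : y * (x ^ i)⁻¹ * y⁻¹ = x ^ i := by
              have h51 : y * (x ^ i)⁻¹ * y⁻¹ = (y * x ^ i * y⁻¹)⁻¹ := by group
              rw [h51, ← conj_pow, hinv, inv_pow, inv_inv]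
            have h6 : x ^ i * y * (x ^ i)⁻¹ = x ^ i * (y * (x ^ i)⁻¹ * y⁻¹) * y := by group
            rw [h6, h5, ← pow_add]
            have h7 : x ^ (i + i) ∈ U := npow_mem_zpowers x _
            have h8 : x ^ (i + i) * x ^ (i + i) = 1 := by
              rw [← pow_add]
              apply pow_eq_one_of_dvd' hxo
              rw [hn2']
              exact ⟨i, by ring⟩
            rcases inv_cases hn1 hxo h7 h8 with h9 | h9
            · left
              rw [h9, one_mul]
            · right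
              rw [h9]
              exact hyz.symm
          intro g
          have hUy : ∀ u ∈ U, u * y * u⁻¹ = y ∨ u * y * u⁻¹ = y * z := by
            intro u hu
            obtain ⟨i, rfl⟩ := Cfsg.Agent.Lib.H1Quat.exists_pow_of_mem_zpowers hu
            exact hpowz i
          rcases hall g with hg | hg
          · exact hUy g hg
          · have h5 : g = y * (y⁻¹ * g) := by group
            set u := y⁻¹ * g with hu
            rw [h5]
            have h6 : y * u * y * (y * u)⁻¹ = y * (u * y * u⁻¹) * y⁻¹ := by group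
            rw [h6]
            rcases hUy u hg with h7 | h7
            · left
              rw [h7]
              group
            · right
              rw [h7]
              calc y * (y * z) * y⁻¹ = y * (y * z * y⁻¹) := by group
                _ = y * (z * y * y⁻¹) := by rw [hyz]
                _ = y * z := by group
      · haveI : NeZero (2 ^ n) := ⟨by positivity⟩
        obtain ⟨e⟩ := Cfsg.Agent.Lib.PMaxClass.dihedral_iso (Q := P) (m := 2 ^ n) x y hxo h3 hinv hyU
          (by rw [hcard]; ring)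
        exact Or.inr (Or.inl ⟨n, h4, ⟨e⟩⟩)
    · -- quaternion
      left
      obtain ⟨e, rfl⟩ : ∃ e, n = e + 1 := ⟨n - 1, by omega⟩
      simp only [Nat.add_sub_cancel] at *
      haveI : NeZero (2 ^ e) := ⟨by positivity⟩
      obtain ⟨f⟩ := Cfsg.Agent.Lib.H1Quat.quat_iso (G := P) (n := 2 ^ e) x y
        (by rw [hxo]; ring) hinv (by rw [sq]; exact h3) hyU hall
      exact ⟨e, by omega, ⟨f⟩⟩
  rcases sq_cases hn2 ha haa with h | h | h | h
  · exact absurd h hcent
  · rcases Nat.lt_or_ge n 3 with h3 | h3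
    · have hn2' : n = 2 := by omega
      subst hn2'
      apply hinvcase
      rw [hya, h]
      norm_num
      rw [← mul_left_inj x, inv_mul_cancel, ← pow_succ]
      have h4 : x ^ (3 + 1) = x ^ (2 ^ 2) := by norm_num
      rw [h4, ← hxo]
      exact pow_orderOf_eq_one x
    · exfalso
      exact modular_false h3 hxo hUn hE ⊤ inferInstance le_top y trivial hyU hy2
        (fun g _ => hall g) (h ▸ hya)
  · apply hinvcase
    rw [hya, h]
    apply eq_inv_of_mul_eq_one_left
    rw [← pow_succ, Nat.sub_add_cancel Nat.one_le_two_pow, ← hxo]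
    exact pow_orderOf_eq_one x
  · -- semidihedral
    rcases Nat.lt_or_ge n 3 with h3 | h3
    · exfalso
      have hn2' : n = 2 := by omega
      subst hn2'
      apply hcent
      rw [h]
      norm_num
    right; right
    obtain ⟨m, hm⟩ := Cfsg.Agent.Lib.H1Quat.exists_pow_of_mem_zpowers hy2
    obtain ⟨e, he⟩ : ∃ e, n = e + 3 := ⟨n - 3, by omega⟩
    have hMe : 2 ^ (n - 1) = 4 * 2 ^ e := by
      have : n - 1 = e + 2 := by omega
      rw [this]
      ring
    have hpe : 0 < 2 ^ e := by positivity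
    set c := 2 * 2 ^ e - 1 with hc
    have hcodd : Odd c := ⟨2 ^ e - 1, by omega⟩
    have hac : a = 1 + 2 * c := by
      rw [h, hMe, hc]
      omega
    have h1 : y * (y * y) * y⁻¹ = y * y := by group
    rw [← hm, conj_pow_eq hya] at h1
    have h2 : x ^ (2 * c * m) = 1 := by
      have h3 : a * m = m + 2 * c * m := by rw [hac]; ring
      rw [h3, pow_add] at h1
      exact mul_eq_left.mp h1
    have hy2' : y * y = 1 ∨ y * y = z := by
      rw [← hm]
      exact pow_eq_of_odd_mul hn1 hxo hcodd h2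
    obtain ⟨y₀, hy₀U, hy₀2, hy₀a⟩ : ∃ y₀, y₀ ∉ U ∧ y₀ * y₀ = 1 ∧ y₀ * x * y₀⁻¹ = x ^ a := by
      rcases hy2' with h3 | h3
      · exact ⟨y, hyU, h3, hya⟩
      · refine ⟨y * x, ?_, ?_, ?_⟩
        · intro h4
          apply hyU
          have h5 : y = (y * x) * x⁻¹ := by group
          rw [h5]
          exact mul_mem h4 (inv_mem (mem_zpowers x))
        · have h4 : y * x * (y * x) = (y * x * y⁻¹) * (y * y) * x := by group
          rw [h4, hya, h3, hz, ← pow_add, ← pow_succ]
          apply pow_eq_one_of_dvd' hxo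
          have h5 : a + 2 ^ (n - 1) + 1 = 2 ^ n := by
            rw [h, hMe, he, pow_add]
            omega
          rw [h5]
        · have h4 : y * x * x * (y * x)⁻¹ = y * x * y⁻¹ := by group
          rw [h4, hya]
    have hy₀1 : y₀ ≠ 1 := by
      intro h4
      exact hy₀U (by rw [h4]; exact one_mem _)
    have hy₀o : orderOf y₀ = 2 := orderOf_eq_prime (by rw [sq]; exact hy₀2) hy₀1
    exact ⟨n, h3, hcard, x, y₀, hxo, hy₀o, by rw [hy₀a, h]⟩

/-- 2-groups without noncyclic normal abelian subgroups. -/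
theorem two_class (hP : IsPGroup 2 P) (hnc : ¬ IsCyclic P)
    (hV : ∀ A : Subgroup P, A.Normal → IsMulCommutative A → IsCyclic A) : TwoClassConcl P := by
  haveI : Fact (Nat.Prime 2) := ⟨Nat.prime_two⟩
  obtain ⟨U, hUn, hUc, hC⟩ := exists_self_cent hP
  haveI hcyc := hV U hUn hUc
  obtain ⟨g, hg⟩ := IsCyclic.exists_generator (α := U)
  have hUeq : U = zpowers (g : P) := by
    apply le_antisymm
    · intro u hu
      obtain ⟨k, hk⟩ := Subgroup.mem_zpowers_iff.mp (hg ⟨u, hu⟩)
      have := congrArg Subtype.val hk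
      exact ⟨k, by simpa using this⟩
    · rw [zpowers_le]
      exact g.2
  obtain ⟨n, hn⟩ := IsPGroup.iff_card.mp (hP.to_subgroup U)
  have hxo : orderOf (g : P) = 2 ^ n := by
    rw [← Nat.card_zpowers, ← hUeq, hn]
  rw [hUeq] at hUn hC
  refine core hP hxo hUn hC hnc ?_
  intro z t hz ht hzt hz2 ht2 hcomm hzc htc
  exact noV4_of_hV hV hz ht hzt hz2 ht2 hcomm hzc htc

end Main

end Cfsg.Agent.Lib.H1TwoClass
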