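import Mathlib
import Cfsg.Agent.Lib.H1TwoClass

set_option autoImplicit false

/-! 2-groups with a cyclic subgroup of index two. -/

namespace Cfsg.Agent.Lib.H1TwoClass2

open Subgroup Cfsg.Agent.Lib.H1TwoClass

variable {P : Type*} [Group P]

/-- The conclusion, including the dihedral group of order eight. -/
def TwoClassConcl' (P : Type*) [Group P] : Prop :=
  (∃ k, 1 ≤ k ∧ Nonempty (P ≃* QuaternionGroup (2 ^ k))) ∨
    (∃ k, 2 ≤ k ∧ Nonempty (P ≃* DihedralGroup (2 ^ k))) ∨ Cfsg.IsQuasiDihedral P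

theorem idx2 [Finite P] {x : P} {n : ℕ} (hn2 : 2 ≤ n) (hxo : orderOf x = 2 ^ n) (hUn : (zpowers x).Normal)
    (hidx : (zpowers x).index = 2) (hab : ∀ y, y ∉ zpowers x → y * x * y⁻¹ ≠ x)
    (hmod : ∀ y, y ∉ zpowers x → 3 ≤ n → y * x * y⁻¹ = x ^ (2 ^ (n - 1) + 1) → False) :
    TwoClassConcl' P := by
  classical
  haveI := hUn
  set U : Subgroup P := zpowers x with hU
  have hUtop : U ≠ ⊤ := by
    intro h
    rw [h, Subgroup.index_top] at hidx
    omega
  have hn1 : 1 ≤ n := by omega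
  set z := x ^ (2 ^ (n - 1)) with hz
  have hz2 : z * z = 1 := z_sq hn1 hxo
  have hz1 : z ≠ 1 := z_ne hn1 hxo
  have hzU : z ∈ U := npow_mem_zpowers x _
  have hcard : Nat.card P = 2 ^ (n + 1) := by
    have h1 := U.index_mul_card
    rw [hidx, hU, Nat.card_zpowers, hxo] at h1
    rw [← h1]
    ring
  obtain ⟨y, hyU⟩ : ∃ y, y ∉ U := by
    by_contra h
    push_neg at h
    exact hUtop ((Subgroup.eq_top_iff' U).mpr h)
  have hall : ∀ g, g ∈ U ∨ y⁻¹ * g ∈ U := by
    intro g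
    by_cases hg : g ∈ U
    · exact Or.inl hg
    · right
      rw [Subgroup.mul_mem_iff_of_index_two hidx]
      simp [hg, hyU]
  have hy2 : y * y ∈ U := Subgroup.mul_self_mem_of_index_two hidx y
  obtain ⟨a, ha, hya, haa⟩ := exists_action hxo hUn hy2
  have hyinv : y⁻¹ ∉ U := fun h => hyU (by simpa using inv_mem h)
  have hcent : a ≠ 1 := by
    intro h
    rw [h, pow_one] at hya
    exact hab y hyU hya
  -- the inversion case
  have hinvcase : y * x * y⁻¹ = x⁻¹ → TwoClassConcl' P := by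
    intro hinv
    obtain ⟨m, hm⟩ := Cfsg.Agent.Lib.H1Quat.exists_pow_of_mem_zpowers hy2
    have h1 : y * (y * y) * y⁻¹ = y * y := by group
    have h2 : (y * y) * (y * y) = 1 := by
      have h3 : y * x ^ m * y⁻¹ = (x ^ m)⁻¹ := by
        rw [← conj_pow, hinv, inv_pow]
      rw [← hm] at h1 ⊢
      rw [h3] at h1
      nth_rw 1 [← h1]
      simp
    rcases inv_cases hn1 hxo hy2 h2 with h3 | h3
    · -- dihedral
      haveI : NeZero (2 ^ n) := ⟨by positivity⟩
      obtain ⟨e⟩ := Cfsg.Agent.Lib.PMaxClass.dihedral_iso (Q := P) (m := 2 ^ n) x y hxo h3 hinv hyU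
        (by rw [hcard]; ring)
      exact Or.inr (Or.inl ⟨n, hn2, ⟨e⟩⟩)
    · -- quaternion
      left
      obtain ⟨e, rfl⟩ : ∃ e, n = e + 1 := ⟨n - 1, by omega⟩
      simp only [Nat.add_sub_cancel] at *
      haveI : NeZero (2 ^ e) := ⟨by positivity⟩
      obtain ⟨f⟩ := Cfsg.Agent.Lib.H1Quat.quat_iso (G := P) (n := 2 ^ e) x y
        (by rw [hxo]; ring) hinv (by rw [sq]; exact h3) hyU hall
      exact ⟨e, by omega, ⟨f⟩⟩
  rcases sq_cases hn2 ha haa with h | h | h | h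
  · exact absurd h hcent
  · rcases Nat.lt_or_ge n 3 with h3 | h3
    · have hn2' : n = 2 := by omega
      subst hn2'
      apply hinvcase
      rw [hya, h]
      norm_num
      rw [← mul_left_inj x, inv_mul_cancel, ← pow_succ]
      have h4 : x ^ (3 + 1) = x ^ (2 ^ 2) := by norm_num
      rw [h4, ← hxo]
      exact pow_orderOf_eq_one x
    · exfalso
      exact hmod y hyU h3 (h ▸ hya)
  · apply hinvcase
    rw [hya, h]
    apply eq_inv_of_mul_eq_one_left
    rw [← pow_succ, Nat.sub_add_cancel Nat.one_le_two_pow, ← hxo]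
    exact pow_orderOf_eq_one x
  · -- semidihedral
    rcases Nat.lt_or_ge n 3 with h3 | h3
    · exfalso
      have hn2' : n = 2 := by omega
      subst hn2'
      apply hcent
      rw [h]
      norm_num
    right; right
    obtain ⟨m, hm⟩ := Cfsg.Agent.Lib.H1Quat.exists_pow_of_mem_zpowers hy2
    obtain ⟨e, he⟩ : ∃ e, n = e + 3 := ⟨n - 3, by omega⟩
    have hMe : 2 ^ (n - 1) = 4 * 2 ^ e := by
      have : n - 1 = e + 2 := by omega
      rw [this]
      ring
    have hpe : 0 < 2 ^ e := by positivity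
    set c := 2 * 2 ^ e - 1 with hc
    have hcodd : Odd c := ⟨2 ^ e - 1, by omega⟩
    have hac : a = 1 + 2 * c := by
      rw [h, hMe, hc]
      omega
    have h1 : y * (y * y) * y⁻¹ = y * y := by group
    rw [← hm, conj_pow_eq hya] at h1
    have h2 : x ^ (2 * c * m) = 1 := by
      have h3 : a * m = m + 2 * c * m := by rw [hac]; ring
      rw [h3, pow_add] at h1
      exact mul_eq_left.mp h1
    have hy2' : y * y = 1 ∨ y * y = z := by
      rw [← hm]
      exact pow_eq_of_odd_mul hn1 hxo hcodd h2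
    obtain ⟨y₀, hy₀U, hy₀2, hy₀a⟩ : ∃ y₀, y₀ ∉ U ∧ y₀ * y₀ = 1 ∧ y₀ * x * y₀⁻¹ = x ^ a := by
      rcases hy2' with h3 | h3
      · exact ⟨y, hyU, h3, hya⟩
      · refine ⟨y * x, ?_, ?_, ?_⟩
        · intro h4
          apply hyU
          have h5 : y = (y * x) * x⁻¹ := by group
          rw [h5]
          exact mul_mem h4 (inv_mem (mem_zpowers x))
        · have h4 : y * x * (y * x) = (y * x * y⁻¹) * (y * y) * x := by group
          rw [h4, hya, h3, hz, ← pow_add, ← pow_succ]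
          apply pow_eq_one_of_dvd' hxo
          have h5 : a + 2 ^ (n - 1) + 1 = 2 ^ n := by
            rw [h, hMe, he, pow_add]
            omega
          rw [h5]
        · have h4 : y * x * x * (y * x)⁻¹ = y * x * y⁻¹ := by group
          rw [h4, hya]
    have hy₀1 : y₀ ≠ 1 := by
      intro h4
      exact hy₀U (by rw [h4]; exact one_mem _)
    have hy₀o : orderOf y₀ = 2 := orderOf_eq_prime (by rw [sq]; exact hy₀2) hy₀1
    exact ⟨n, h3, hcard, x, y₀, hxo, hy₀o, by rw [hy₀a, h]⟩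


theorem concl_of (h : TwoClassConcl' P) :
    (∃ k : ℕ, Nonempty (P ≃* DihedralGroup (2 ^ (k + 2)))) ∨
      (∃ k : ℕ, Nat.card P = 2 ^ (k + 4) ∧ ∃ a b : P, orderOf a = 2 ^ (k + 3) ∧ orderOf b = 2 ∧
        b * a * b⁻¹ = a ^ (2 ^ (k + 2) - 1)) ∨
      (∃ k : ℕ, Nonempty (P ≃* QuaternionGroup (2 ^ (k + 1)))) := by
  rcases h with ⟨k, hk, h⟩ | ⟨k, hk, h⟩ | ⟨n, hn, hc, x, y, hx, hy, hxy⟩
  · right; right
    obtain ⟨e, rfl⟩ : ∃ e, k = e + 1 := ⟨k - 1, by omega⟩
    exact ⟨e, h⟩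
  · left
    obtain ⟨e, rfl⟩ : ∃ e, k = e + 2 := ⟨k - 2, by omega⟩
    exact ⟨e, h⟩
  · right; left
    obtain ⟨e, rfl⟩ : ∃ e, n = e + 3 := ⟨n - 3, by omega⟩
    refine ⟨e, hc, x, y, hx, hy, ?_⟩
    simpa using hxy

end Cfsg.Agent.Lib.H1TwoClass2
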