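import Cfsg.Agent.Lib.WielandtJoin
import Cfsg.Agent.Lib.Comp

/-! Wielandt's zipper lemma and the subnormality criterion. -/

namespace Cfsg.Agent.Lib.H1Zip

open Cfsg Subgroup
open scoped Pointwise

universe u

/-- The normalizing-family property. -/
def Abs (G : Type u) [Group G] : Prop :=
  ∀ S S₀ : Set (Subgroup G), (∀ U ∈ S, U.IsSubnormal) → (∀ U ∈ S, ∀ g : G, MulAut.conj g • U ∈ S) → S₀ ⊂ S →
    ∃ X ∈ S, X ∉ S₀ ∧ X ≤ normalizer ((sSup S₀ : Subgroup G) : Set G)

variable {G : Type u} [Group G]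

theorem mem_conj {g x : G} {H : Subgroup G} : x ∈ MulAut.conj g • H ↔ g⁻¹ * x * g ∈ H := by
  simp [Subgroup.mem_pointwise_smul_iff_inv_smul_mem]

theorem conj_subgroupOf (V : Subgroup G) (U : Subgroup G) (v : V) :
    MulAut.conj v • (U.subgroupOf V) = (MulAut.conj (v : G) • U).subgroupOf V := by
  ext y
  rw [mem_conj, Subgroup.mem_subgroupOf, Subgroup.mem_subgroupOf, mem_conj]
  simp

theorem sSup_subgroupOf [Finite G] (V : Subgroup G) (S₀ : Set (Subgroup G)) (hS₀ : ∀ U ∈ S₀, U ≤ V) :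
    sSup ((fun U : Subgroup G => U.subgroupOf V) '' S₀) = (sSup S₀).subgroupOf V := by
  apply Subgroup.map_injective V.subtype_injective
  rw [Subgroup.map_subgroupOf_eq_of_le (sSup_le hS₀)]
  apply le_antisymm
  · rw [Subgroup.map_le_iff_le_comap]
    apply sSup_le
    rintro _ ⟨U, hU, rfl⟩
    intro x hx
    exact (le_sSup hU : U ≤ sSup S₀) hx
  · apply sSup_le
    intro U hU
    rw [← Subgroup.map_subgroupOf_eq_of_le (hS₀ U hU)]
    exact Subgroup.map_mono (le_sSup (Set.mem_image_of_mem _ hU))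

/-- Transfer of the normalizing-family property to a subgroup. -/
theorem rel_of_abs [Finite G] (V : Subgroup G) (h : Abs V) {S S₀ : Set (Subgroup G)}
    (hS : ∀ U ∈ S, U ≤ V ∧ (U.subgroupOf V).IsSubnormal) (hconj : ∀ U ∈ S, ∀ g ∈ V, MulAut.conj g • U ∈ S)
    (h₀ : S₀ ⊂ S) : ∃ X ∈ S, X ∉ S₀ ∧ X ≤ normalizer ((sSup S₀ : Subgroup G) : Set G) := by
  classical
  set SV : Set (Subgroup V) := (fun U : Subgroup G => U.subgroupOf V) '' S with hSV
  set S₀V : Set (Subgroup V) := (fun U : Subgroup G => U.subgroupOf V) '' S₀ with hS₀V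
  have hinj : ∀ U ∈ S, ∀ U' ∈ S, U.subgroupOf V = U'.subgroupOf V → U = U' := by
    intro U hU U' hU' e
    rw [← Subgroup.map_subgroupOf_eq_of_le (hS U hU).1, ← Subgroup.map_subgroupOf_eq_of_le (hS U' hU').1, e]
  have hsub : S₀V ⊂ SV := by
    constructor
    · exact Set.image_mono h₀.1
    · intro hle
      obtain ⟨X, hX, hX₀⟩ := Set.exists_of_ssubset h₀
      obtain ⟨Y, hY, e⟩ := hle (Set.mem_image_of_mem _ hX)
      have : Y = X := hinj Y (h₀.1 hY) X hX e
      exact hX₀ (this ▸ hY)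
  obtain ⟨X', hX', hX'₀, hnorm⟩ := h SV S₀V
    (by
      rintro _ ⟨U, hU, rfl⟩
      exact (hS U hU).2)
    (by
      rintro _ ⟨U, hU, rfl⟩ g
      rw [conj_subgroupOf]
      exact Set.mem_image_of_mem _ (hconj U hU g g.2))
    hsub
  obtain ⟨X, hX, rfl⟩ := hX'
  refine ⟨X, hX, fun hX₀ => hX'₀ (Set.mem_image_of_mem _ hX₀), ?_⟩
  have hXV := (hS X hX).1
  have hSup := sSup_subgroupOf V S₀ (fun U hU => (hS U (h₀.1 hU)).1)
  have hS₀V_le : sSup S₀ ≤ V := sSup_le (fun U hU => (hS U (h₀.1 hU)).1)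
  rw [hS₀V, hSup] at hnorm
  intro x hx
  have hxV := hXV hx
  have hx' : (⟨x, hxV⟩ : V) ∈ normalizer (((sSup S₀).subgroupOf V : Subgroup V) : Set V) :=
    hnorm (by simpa [Subgroup.mem_subgroupOf] using hx)
  rw [Subgroup.mem_normalizer_iff] at hx' ⊢
  intro y
  constructor
  · intro hy
    have hyV := hS₀V_le hy
    have := (hx' ⟨y, hyV⟩).mp (by simpa [Subgroup.mem_subgroupOf] using hy)
    simpa [Subgroup.mem_subgroupOf] using this
  · intro hy
    have hyV : y ∈ V := by
      have h1 := hS₀V_le hy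
      have h2 : y = x⁻¹ * (x * y * x⁻¹) * x := by group
      rw [h2]
      exact V.mul_mem (V.mul_mem (V.inv_mem hxV) h1) hxV
    have := (hx' ⟨y, hyV⟩).mpr (by simpa [Subgroup.mem_subgroupOf] using hy)
    simpa [Subgroup.mem_subgroupOf] using this

/-- Normalizing-family property for finite groups. -/
theorem abs_all : ∀ (n : ℕ) (G : Type u) [Group G] [Finite G], Nat.card G = n → Abs G := by
  intro n
  induction n using Nat.strong_induction_on with
  | _ n ih =>
  intro G _ _ hn S S₀ hS hconj h₀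
  classical
  set U : Subgroup G := sSup S₀ with hU
  obtain ⟨X₀, hX₀, hX₀'⟩ := Set.exists_of_ssubset h₀
  by_cases hUn : U.Normal
  · refine ⟨X₀, hX₀, hX₀', ?_⟩
    rw [Subgroup.normalizer_eq_top_iff.mpr hUn]
    exact le_top
  -- `U` is subnormal
  have hUsn : U.IsSubnormal := by
    rw [hU, sSup_eq_iSup']
    exact Cfsg.Agent.Lib.WielandtJoin.isSubnormal_iSup _ (fun i => hS _ (h₀.1 i.2))
  have hUtop : U ≠ ⊤ := by
    intro h
    apply hUn
    rw [h]
    infer_instance
  obtain ⟨K, hKn, hUK, hKtop⟩ := hUsn.exists_normal_and_le_and_lt_top_of_ne hUtop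
  haveI := hKn
  have hKcard : Nat.card K < n := by
    rw [← hn]
    have h1 : Nat.card K ≤ Nat.card G := Subgroup.card_le_card_group K
    have h2 : Nat.card K ≠ Nat.card G := fun h => hKtop.ne (Subgroup.eq_top_of_card_eq K h)
    omega
  have hAbs : Abs K := ih _ hKcard K rfl
  -- the members of the family inside `K`
  set SK : Set (Subgroup G) := {X | X ∈ S ∧ X ≤ K} with hSK
  have h₀K : S₀ ⊆ SK := fun X hX => ⟨h₀.1 hX, (le_sSup hX).trans hUK⟩
  by_cases hprop : S₀ = SK
  · exfalso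
    apply hUn
    refine ⟨fun x hx g => ?_⟩
    have hmem : ∀ X ∈ S₀, MulAut.conj g • X ∈ S₀ := by
      intro X hX
      have h1 : MulAut.conj g • X ∈ SK := by
        refine ⟨hconj X (h₀.1 hX) g, ?_⟩
        intro y hy
        rw [mem_conj] at hy
        have hXK := (le_sSup hX : X ≤ sSup S₀).trans hUK
        have := hKn.conj_mem _ (hXK hy) g
        simpa [mul_assoc] using this
      rw [hprop]
      exact h1
    have hle : U ≤ U.comap (MulAut.conj g).toMonoidHom := by
      apply sSup_le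
      intro X hX y hy
      rw [Subgroup.mem_comap]
      apply (le_sSup (hmem X hX) : MulAut.conj g • X ≤ sSup S₀)
      rw [mem_conj]
      simpa [mul_assoc] using hy
    exact hle hx
  · have hss : S₀ ⊂ SK := lt_of_le_of_ne h₀K hprop
    obtain ⟨X, hX, hX₀, hXn⟩ := rel_of_abs K hAbs (S := SK) (S₀ := S₀)
      (fun Y hY => ⟨hY.2, (hS Y hY.1).subgroupOf⟩)
      (fun Y hY g hg => ⟨hconj Y hY.1 g, by
        intro y hy
        rw [mem_conj] at hy
        have := hKn.conj_mem _ (hY.2 hy) g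
        simpa [mul_assoc] using this⟩)
      hss
    exact ⟨X, hX.1, hX₀, hXn⟩

/-- The statement of the normalizing family lemma. -/
theorem normalizing_family [Finite G] (S S₀ : Set (Subgroup G)) (hS : ∀ U ∈ S, U.IsSubnormal)
    (hconj : ∀ U ∈ S, ∀ g : G, MulAut.conj g • U ∈ S) (h₀ : S₀ ⊂ S) :
    ∃ X ∈ S, X ∉ S₀ ∧ X ≤ normalizer ((sSup S₀ : Subgroup G) : Set G) :=
  abs_all _ G rfl S S₀ hS hconj h₀

/-- **The zipper lemma**, general form. -/
theorem zipper [Finite G] (A : Subgroup G) (U : Set (Subgroup G)) (hU : U.Nonempty)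
    (S : Subgroup G → Set (Subgroup G))
    (hS : ∀ V B : Subgroup G, B ∈ S V ↔ (∃ g : G, B = MulAut.conj g • A) ∧ B ≤ V ∧ (B.subgroupOf V).IsSubnormal)
    (h1 : ∀ V ∈ U, A ∈ S V) (h2 : ∀ V ∈ U, ∀ W ∈ U, ∀ B ∈ S W, B ≤ V → B ∈ S V)
    (h3 : ∀ V ∈ U, ∀ W ∈ U, ∃ X ∈ U, Subgroup.normalizer ((sSup (S V ∩ S W) : Subgroup G) : Set G) ≤ X) :
    ∃ M ∈ U, ∀ V ∈ U, V ≤ M := by
  classical
  by_contra hno
  push_neg at hno
  -- maximal elements
  have hmaxex : ∀ V ∈ U, ∃ M, Maximal (· ∈ U) M ∧ V ≤ M := by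
    intro V hV
    obtain ⟨M, hVM, hM⟩ := (Set.toFinite U).exists_le_maximal hV
    exact ⟨M, hM, hVM⟩
  let P : Set (Subgroup G × Subgroup G) := {q | Maximal (· ∈ U) q.1 ∧ Maximal (· ∈ U) q.2 ∧ q.1 ≠ q.2}
  have hPne : P.Nonempty := by
    obtain ⟨V₀, hV₀⟩ := hU
    obtain ⟨M, hM, -⟩ := hmaxex V₀ hV₀
    obtain ⟨V, hV, hVM⟩ := hno M hM.prop
    obtain ⟨M', hM', hVM'⟩ := hmaxex V hV
    refine ⟨(M, M'), hM, hM', ?_⟩
    intro e
    have e' : M = M' := e
    rw [← e'] at hVM'
    exact hVM hVM'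
  obtain ⟨⟨V, W⟩, ⟨hV, hW, hVW⟩, hbest⟩ := Set.exists_max_image P (fun q => (S q.1 ∩ S q.2).ncard)
    (Set.toFinite P) hPne
  simp only at hV hW hVW hbest
  -- the key step
  have key : ∀ V W : Subgroup G, Maximal (· ∈ U) V → Maximal (· ∈ U) W → V ≠ W →
      (∀ q ∈ P, (S q.1 ∩ S q.2).ncard ≤ (S V ∩ S W).ncard) →
      ∀ X, Maximal (· ∈ U) X → Subgroup.normalizer ((sSup (S V ∩ S W) : Subgroup G) : Set G) ≤ X → X = V := by
    intro V W hV hW hVW hbest X hX hNX
    by_contra hXV
    set D : Set (Subgroup G) := S V ∩ S W with hD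
    have hDX : ∀ B ∈ D, B ≤ X := fun B hB =>
      (le_sSup hB).trans ((Subgroup.le_normalizer).trans hNX)
    have hVinv : ∀ B ∈ S V, ∀ g ∈ V, MulAut.conj g • B ∈ S V := by
      intro B hB g hg
      rw [hS] at hB ⊢
      obtain ⟨⟨x, rfl⟩, hBV, hBs⟩ := hB
      refine ⟨⟨g * x, ?_⟩, ?_, ?_⟩
      · rw [map_mul, mul_smul]
      · intro y hy
        rw [mem_conj] at hy
        have h5 := V.mul_mem (V.mul_mem hg (hBV hy)) (V.inv_mem hg)
        simpa [mul_assoc] using h5
      · have h5 : (MulAut.conj g • (MulAut.conj x • A)).subgroupOf V =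
            MulAut.conj (⟨g, hg⟩ : V) • ((MulAut.conj x • A).subgroupOf V) :=
          (conj_subgroupOf V (MulAut.conj x • A) ⟨g, hg⟩).symm
        rw [h5]
        exact hBs.smul _
    by_cases hDV : D = S V
    · -- `V` normalizes the join
      have hVN : V ≤ Subgroup.normalizer ((sSup D : Subgroup G) : Set G) := by
        intro v hv
        have hsubs : ∀ (a : G), a ∈ V → sSup D ≤ (sSup D).comap (MulAut.conj a).toMonoidHom := by
          intro a ha
          apply sSup_le
          intro B hB y hy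
          rw [Subgroup.mem_comap]
          have hB' : B ∈ S V := hDV ▸ hB
          have h5 : MulAut.conj a • B ∈ D := by
            rw [hDV]
            exact hVinv B hB' a ha
          apply (le_sSup h5 : MulAut.conj a • B ≤ sSup D)
          rw [mem_conj]
          simpa [mul_assoc] using hy
        rw [Subgroup.mem_normalizer_iff]
        intro y
        constructor
        · intro hy
          exact hsubs v hv hy
        · intro hy
          have := hsubs v⁻¹ (V.inv_mem hv) hy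
          rw [Subgroup.mem_comap] at this
          simpa [MulAut.conj_apply, mul_assoc] using this
      have hVX : V ≤ X := hVN.trans hNX
      exact hXV (le_antisymm (hV.le_of_ge hX.prop hVX) hVX)
    · have hss : D ⊂ S V := lt_of_le_of_ne Set.inter_subset_left hDV
      obtain ⟨B, hB, hBD, hBn⟩ := rel_of_abs V (abs_all _ V rfl) (S := S V) (S₀ := D)
        (fun Y hY => by
          have := (hS V Y).mp hY
          exact ⟨this.2.1, this.2.2⟩)
        (fun Y hY g hg => hVinv Y hY g hg) hss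
      have hBX : B ≤ X := hBn.trans hNX
      have hBSX : B ∈ S X := h2 X hX.prop V hV.prop B hB hBX
      have hDsub : D ⊆ S V ∩ S X := fun B' hB' => ⟨hB'.1, h2 X hX.prop V hV.prop B' hB'.1 (hDX B' hB')⟩
      have hstrict : D ⊂ S V ∩ S X :=
        ⟨hDsub, fun hle => hBD (hle ⟨hB, hBSX⟩)⟩
      have hlt := Set.ncard_lt_ncard hstrict (Set.toFinite _)
      have hle := hbest (V, X) ⟨hV, hX, fun h => hXV h.symm⟩
      exact absurd hle (not_le.mpr hlt)
  obtain ⟨X₀, hX₀, hNX₀⟩ := h3 V hV.prop W hW.prop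
  obtain ⟨X, hX, hX₀X⟩ := hmaxex X₀ hX₀
  have hNX : Subgroup.normalizer ((sSup (S V ∩ S W) : Subgroup G) : Set G) ≤ X := hNX₀.trans hX₀X
  have e1 : X = V := key V W hV hW hVW (fun q hq => hbest q hq) X hX hNX
  have e2 : X = W := key W V hW hV hVW.symm (fun q hq => by
      rw [Set.inter_comm (S W) (S V)]
      exact hbest q hq) X hX (by rwa [Set.inter_comm (S W) (S V)])
  exact hVW (e1.symm.trans e2)

/-- Transport of subnormality under conjugation. -/
theorem sn_conj {X Y : Subgroup G} (h : (X.subgroupOf Y).IsSubnormal) (x : G) :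
    ((MulAut.conj x • X).subgroupOf (MulAut.conj x • Y)).IsSubnormal := by
  have hmem : ∀ y : Y, x * (y : G) * x⁻¹ ∈ MulAut.conj x • Y := by
    intro y
    rw [mem_conj]
    simpa [mul_assoc] using y.2
  let f : Y →* ↥(MulAut.conj x • Y) :=
    { toFun := fun y => ⟨x * y * x⁻¹, hmem y⟩
      map_one' := Subtype.ext (by
        show x * (1 : G) * x⁻¹ = 1
        group)
      map_mul' := fun a b => Subtype.ext (by
        show x * ((a : G) * b) * x⁻¹ = (x * a * x⁻¹) * (x * b * x⁻¹)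
        group) }
  have hf : Function.Surjective f := by
    rintro ⟨y, hy⟩
    rw [mem_conj] at hy
    refine ⟨⟨x⁻¹ * y * x, hy⟩, Subtype.ext ?_⟩
    show x * (x⁻¹ * y * x) * x⁻¹ = y
    group
  have h1 := h.map hf
  have h2 : (X.subgroupOf Y).map f = (MulAut.conj x • X).subgroupOf (MulAut.conj x • Y) := by
    ext ⟨y, hy⟩
    rw [mem_conj] at hy
    constructor
    · rintro ⟨⟨a, ha⟩, ha', e⟩
      have e' : x * a * x⁻¹ = y := congrArg Subtype.val e
      have ha'' : a ∈ X := ha'
      rw [Subgroup.mem_subgroupOf, mem_conj]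
      show x⁻¹ * y * x ∈ X
      rw [← e']
      simpa [mul_assoc] using ha''
    · intro hy'
      rw [Subgroup.mem_subgroupOf, mem_conj] at hy'
      refine ⟨⟨x⁻¹ * y * x, hy⟩, hy', Subtype.ext ?_⟩
      show x * (x⁻¹ * y * x) * x⁻¹ = y
      group
  rwa [h2] at h1

/-- Transport of subnormality in a subgroup of a subgroup. -/
theorem sn_sub {X L V : Subgroup G} (hLV : L ≤ V) (h : (X.subgroupOf L).IsSubnormal) :
    ((X.subgroupOf V).subgroupOf (L.subgroupOf V)).IsSubnormal := by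
  let f : L →* ↥(L.subgroupOf V) :=
    { toFun := fun y => ⟨⟨y, hLV y.2⟩, y.2⟩
      map_one' := rfl
      map_mul' := fun _ _ => rfl }
  have hf : Function.Surjective f := by
    rintro ⟨⟨y, hyV⟩, hy⟩
    exact ⟨⟨y, hy⟩, rfl⟩
  have h1 := h.map hf
  have h2 : (X.subgroupOf L).map f = (X.subgroupOf V).subgroupOf (L.subgroupOf V) := by
    ext ⟨⟨y, hyV⟩, hy⟩
    constructor
    · rintro ⟨⟨a, ha⟩, ha', e⟩
      have e' : a = y := congrArg (fun z : ↥(L.subgroupOf V) => ((z : V) : G)) e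
      subst e'
      simpa [Subgroup.mem_subgroupOf] using ha'
    · intro hy'
      refine ⟨⟨y, hy⟩, ?_, rfl⟩
      simpa [Subgroup.mem_subgroupOf] using hy'
  rwa [h2] at h1

theorem sup_subgroupOf {B C V : Subgroup G} (hB : B ≤ V) (hC : C ≤ V) :
    B.subgroupOf V ⊔ C.subgroupOf V = (B ⊔ C).subgroupOf V := by
  apply Subgroup.map_injective V.subtype_injective
  rw [Subgroup.map_sup, Subgroup.map_subgroupOf_eq_of_le hB, Subgroup.map_subgroupOf_eq_of_le hC,
    Subgroup.map_subgroupOf_eq_of_le (sup_le hB hC)]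

/-- **Wielandt's subnormality criterion**. -/
theorem wielandt_crit : ∀ (n : ℕ) (G : Type u) [Group G] [Finite G], Nat.card G = n → ∀ A : Subgroup G,
    (∀ g : G, (A.subgroupOf (A ⊔ MulAut.conj g • A)).IsSubnormal) → A.IsSubnormal := by
  intro n
  induction n using Nat.strong_induction_on with
  | _ n ih =>
  intro G _ _ hn A h
  classical
  by_contra hns
  have hAtop : A ≠ ⊤ := by
    rintro rfl
    exact hns Subgroup.IsSubnormal.top
  have hconjP : ∀ x : G, ∀ g : G, ((MulAut.conj x • A).subgroupOf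
      ((MulAut.conj x • A) ⊔ MulAut.conj g • (MulAut.conj x • A))).IsSubnormal := by
    intro x g
    have h1 := sn_conj (h (x⁻¹ * g * x)) x
    have h2 : MulAut.conj x • (A ⊔ MulAut.conj (x⁻¹ * g * x) • A) =
        (MulAut.conj x • A) ⊔ MulAut.conj g • (MulAut.conj x • A) := by
      rw [Subgroup.smul_sup, ← mul_smul, ← map_mul, ← mul_smul, ← map_mul]
      congr 3
      group
    rwa [h2] at h1
  have hIH : ∀ V : Subgroup G, V ≠ ⊤ → ∀ B : Subgroup G, (∃ x : G, B = MulAut.conj x • A) → B ≤ V →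
      (B.subgroupOf V).IsSubnormal := by
    intro V hV B hB hBV
    have hcard : Nat.card V < n := by
      rw [← hn]
      have h1 : Nat.card V ≤ Nat.card G := Subgroup.card_le_card_group V
      have h2 : Nat.card V ≠ Nat.card G := fun h => hV (Subgroup.eq_top_of_card_eq V h)
      omega
    apply ih _ hcard V rfl
    intro v
    obtain ⟨x, rfl⟩ := hB
    have h1 := hconjP x v
    set B : Subgroup G := MulAut.conj x • A with hBdef
    have hconjle : MulAut.conj (v : G) • B ≤ V := by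
      intro y hy
      rw [mem_conj] at hy
      have := V.mul_mem (V.mul_mem v.2 (hBV hy)) (V.inv_mem v.2)
      simpa [mul_assoc] using this
    rw [conj_subgroupOf, sup_subgroupOf hBV hconjle]
    exact sn_sub (sup_le hBV hconjle) h1
  let U : Set (Subgroup G) := {W | A ≤ W ∧ W ≠ ⊤}
  let S : Subgroup G → Set (Subgroup G) := fun V =>
    {B | (∃ g : G, B = MulAut.conj g • A) ∧ B ≤ V ∧ (B.subgroupOf V).IsSubnormal}
  have hone : A = MulAut.conj (1 : G) • A := by
    rw [map_one, one_smul]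
  have hmemA : ∀ V ∈ U, A ∈ S V := fun V hV =>
    ⟨⟨1, hone⟩, hV.1, hIH V hV.2 A ⟨1, hone⟩ hV.1⟩
  obtain ⟨M, hM, hMall⟩ := zipper A U ⟨A, le_rfl, hAtop⟩ S (fun V B => Iff.rfl) hmemA
    (fun V hV W hW B hB hBV => ⟨hB.1, hBV, hIH V hV.2 B hB.1 hBV⟩)
    (by
      intro V hV W hW
      refine ⟨Subgroup.normalizer ((sSup (S V ∩ S W) : Subgroup G) : Set G), ⟨?_, ?_⟩, le_rfl⟩
      · have hAmem : A ∈ S V ∩ S W := ⟨hmemA V hV, hmemA W hW⟩
        exact (le_sSup hAmem).trans Subgroup.le_normalizer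
      · intro htop
        set D : Subgroup G := sSup (S V ∩ S W) with hD
        have hDn : D.Normal := Subgroup.normalizer_eq_top_iff.mp htop
        have hDV : D ≤ V := sSup_le (fun B hB => hB.1.2.1)
        have hDtop : D ≠ ⊤ := by
          intro h
          rw [h, top_le_iff] at hDV
          exact hV.2 hDV
        have hAmem : A ∈ S V ∩ S W := ⟨hmemA V hV, hmemA W hW⟩
        have hAD : A ≤ D := le_sSup hAmem
        exact hns (Subgroup.IsSubnormal.trans hAD (hIH D hDtop A ⟨1, hone⟩ hAD) hDn.isSubnormal))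
  -- a conjugate of `A` outside `M`
  have hout : ∃ g : G, ¬ MulAut.conj g • A ≤ M := by
    by_contra hall
    push_neg at hall
    have hK : Subgroup.normalClosure (A : Set G) ≤ M := by
      apply (Subgroup.closure_le _).mpr
      intro y hy
      obtain ⟨a, ha, hc⟩ := Group.mem_conjugatesOfSet_iff.mp hy
      obtain ⟨g, rfl⟩ := isConj_iff.mp hc
      apply hall g
      rw [mem_conj]
      simpa [mul_assoc] using ha
    have hKtop : Subgroup.normalClosure (A : Set G) ≠ ⊤ := by
      intro h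
      rw [h, top_le_iff] at hK
      exact hM.2 hK
    have hAK : A ≤ Subgroup.normalClosure (A : Set G) := Subgroup.le_normalClosure
    exact hns (Subgroup.IsSubnormal.trans hAK (hIH _ hKtop A ⟨1, hone⟩ hAK)
      (Subgroup.normalClosure_normal).isSubnormal)
  obtain ⟨g, hg⟩ := hout
  by_cases hL : A ⊔ MulAut.conj g • A = ⊤
  · have h1 := h g
    rw [hL] at h1
    exact hns (Subgroup.IsSubnormal.trans le_top h1 Subgroup.IsSubnormal.top)
  · have h1 : A ⊔ MulAut.conj g • A ≤ M := hMall _ ⟨le_sup_left, hL⟩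
    exact hg (le_sup_right.trans h1)

/-- If the join of a subgroup with each of its conjugates is nilpotent, it is subnormal and lies in the
Fitting subgroup. -/
theorem nilpotent_crit [Finite G] (A : Subgroup G)
    (h : ∀ g : G, Group.IsNilpotent (A ⊔ MulAut.conj g • A : Subgroup G)) :
    A.IsSubnormal ∧ A ≤ Cfsg.fittingSubgroup G := by
  have hsn : A.IsSubnormal := by
    apply wielandt_crit _ G rfl A
    intro g
    haveI := h g
    exact Cfsg.Agent.Lib.WielandtJoin.isSubnormal_of_isNilpotent _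
  refine ⟨hsn, Cfsg.Agent.Lib.Comp.nilp_subnormal_le_fitting hsn ?_⟩
  have h1 := h 1
  rw [map_one, one_smul, sup_idem] at h1
  exact h1

end Cfsg.Agent.Lib.H1Zip
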