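import Mathlib
import Cfsg.Agent.Lib.CharBrauer4
import Cfsg.Agent.Lib.CharLin
import Cfsg.Agent.Lib.CharAlg

set_option autoImplicit false

/-! Gallagher's count of irreducible characters over a faithful central character. -/

namespace Cfsg.Agent.Lib.H3Gal

open Cfsg Module
open scoped ComplexConjugate
open Cfsg.Agent.Lib.CharBasic Cfsg.Agent.Lib.CharOrth Cfsg.Agent.Lib.CharLin

universe u

variable {G : Type u} [Group G] [Fintype G]

/-- Central elements and irreducible characters. -/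
theorem central_mul {χ : G → ℂ} (hχ : IsIrrCharacter G χ) {z : G} (hz : z ∈ Subgroup.center G) (g : G) :
    χ 1 * χ (z * g) = χ z * χ g := by
  obtain ⟨n, ρ, hρ, rfl⟩ := hχ
  obtain ⟨c, hc⟩ := schur ρ hρ (ρ z) (by
    intro h v
    have h1 : z * h = h * z := (Subgroup.mem_center_iff.mp hz h).symm
    have h2 : ρ z * ρ h = ρ h * ρ z := by rw [← map_mul, ← map_mul, h1]
    exact LinearMap.congr_fun h2 v)
  have h3 : ∀ g, ρ.character (z * g) = c * ρ.character g := by
    intro g
    simp only [Representation.character, map_mul, hc]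
    have : (c • (LinearMap.id : (Fin n → ℂ) →ₗ[ℂ] (Fin n → ℂ))) * ρ g = c • ρ g := by
      ext v; simp
    rw [this, map_smul, smul_eq_mul]
  have h4 : ρ.character z = c * ρ.character 1 := by
    have := h3 1
    rwa [mul_one] at this
  rw [h3 g, h4]; ring

section W

variable {N : Subgroup G} [hNn : N.Normal] [Fintype N] (lam : N →* ℂˣ)

/-- The space of class functions transforming under `lam`. -/
def WW : Submodule ℂ (G → ℂ) where
  carrier := {f | IsClassFunction G f ∧ ∀ (z : N) (g : G), f (z * g) = (lam z : ℂ) * f g}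
  add_mem' := by
    rintro a b ⟨h1, h2⟩ ⟨h3, h4⟩
    refine ⟨fun g x => ?_, fun z g => ?_⟩
    · simp only [Pi.add_apply, h1 g x, h3 g x]
    · simp only [Pi.add_apply, h2, h4]; ring
  zero_mem' := ⟨fun _ _ => rfl, fun _ _ => by simp⟩
  smul_mem' := by
    rintro c a ⟨h1, h2⟩
    refine ⟨fun g x => ?_, fun z g => ?_⟩
    · simp only [Pi.smul_apply, h1 g x]
    · simp only [Pi.smul_apply, smul_eq_mul, h2]; ring

theorem lam_mul_conj (z : N) : (lam z : ℂ) * conj (lam z : ℂ) = 1 := by
  have h1 : ((lam z : ℂˣ) : ℂ) ^ Nat.card N = 1 := by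
    rw [← Units.val_pow_eq_pow_val, ← map_pow, pow_card_eq_one']; simp
  have h2 : ‖((lam z : ℂˣ) : ℂ)‖ = 1 :=
    Complex.norm_eq_one_of_pow_eq_one h1 Nat.card_pos.ne'
  rw [Complex.mul_conj, Complex.normSq_eq_norm_sq, h2]; simp

/-- Restricting an irreducible character. -/
theorem irr_div {χ : G → ℂ} (hχ : IsIrrCharacter G χ) (hN : N ≤ Subgroup.center G) (y : N) (g : G) :
    χ (y * g) = (χ y / χ 1) * χ g := by
  have h1 : χ 1 ≠ 0 := by
    obtain ⟨n, hn, h⟩ := Cfsg.Agent.Lib.CharAlg.IsIrrCharacter.map_one_pos hχ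
    rw [h]; exact_mod_cast hn.ne'
  have := central_mul hχ (hN y.2) g
  field_simp
  rw [mul_comm]; exact this

theorem of_scalar {χ : G → ℂ} (hχ : IsIrrCharacter G χ) (hN : N ≤ Subgroup.center G)
    (hy : ∀ y : N, χ y / χ 1 * conj (lam y : ℂ) = 1) (z : N) (g : G) :
    χ (z * g) = (lam z : ℂ) * χ g := by
  rw [irr_div hχ hN z g]
  congr 1
  have h1 := hy z
  have h2 := lam_mul_conj lam z
  have h3 : conj ((lam z : ℂˣ) : ℂ) ≠ 0 := by
    intro h; rw [h, mul_zero] at h2; exact zero_ne_one h2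
  apply mul_right_cancel₀ h3
  rw [h1, h2]

theorem inner_res_ne_zero_iff {χ : G → ℂ} (hχ : IsIrrCharacter G χ) (hN : N ≤ Subgroup.center G) :
    classInner (fun n : N => χ n) (fun n : N => ((lam n : ℂˣ) : ℂ)) ≠ 0 ↔
      ∀ (z : N) (g : G), χ (z * g) = (lam z : ℂ) * χ g := by
  have h10 : χ 1 ≠ 0 := by
    obtain ⟨n, hn, h⟩ := Cfsg.Agent.Lib.CharAlg.IsIrrCharacter.map_one_pos hχ
    rw [h]; exact_mod_cast hn.ne'
  constructor
  · intro hne
    refine of_scalar lam hχ hN ?_
    intro y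
    -- reindex
    have hs : ∑ z : N, χ z * conj ((lam z : ℂˣ) : ℂ) =
        (χ y / χ 1 * conj ((lam y : ℂˣ) : ℂ)) * ∑ z : N, χ z * conj ((lam z : ℂˣ) : ℂ) := by
      conv_lhs => rw [← Equiv.sum_comp (Equiv.mulLeft y)]
      rw [Finset.mul_sum]
      refine Finset.sum_congr rfl fun z _ => ?_
      have h1 : ((y * z : N) : G) = (y : G) * z := rfl
      simp only [Equiv.coe_mulLeft, h1, map_mul, Units.val_mul]
      rw [irr_div hχ hN y z]
      ring
    have hne' : ∑ z : N, χ z * conj ((lam z : ℂˣ) : ℂ) ≠ 0 := by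
      intro h0
      apply hne
      unfold classInner
      rw [h0, mul_zero]
    have h0 : (χ y / χ 1 * conj ((lam y : ℂˣ) : ℂ)) * ∑ z : N, χ z * conj ((lam z : ℂˣ) : ℂ) =
        1 * ∑ z : N, χ z * conj ((lam z : ℂˣ) : ℂ) := by
      rw [one_mul]; exact hs.symm
    exact mul_right_cancel₀ hne' h0
  · intro h
    have h1 : (fun n : N => χ n) = χ 1 • (fun n : N => ((lam n : ℂˣ) : ℂ)) := by
      funext n
      have := h n 1
      rw [mul_one] at this
      simp only [Pi.smul_apply, smul_eq_mul]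
      rw [this]; ring
    rw [h1, classInner_smul_left, classInner_irr_self (isIrrCharacter_of_hom lam), mul_one]
    exact h10

/-- Inner product of an element of `WW` with an irreducible character outside `A` vanishes. -/
theorem inner_eq_zero_of_mem {f : G → ℂ} (hf : f ∈ WW lam) {χ : G → ℂ} (hχ : IsIrrCharacter G χ)
    (hN : N ≤ Subgroup.center G) (hA : ¬ ∀ (z : N) (g : G), χ (z * g) = (lam z : ℂ) * χ g) :
    classInner f χ = 0 := by
  by_contra hne
  apply hA
  have h10 : χ 1 ≠ 0 := by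
    obtain ⟨n, hn, h⟩ := Cfsg.Agent.Lib.CharAlg.IsIrrCharacter.map_one_pos hχ
    rw [h]; exact_mod_cast hn.ne'
  have hne' : ∑ g : G, f g * conj (χ g) ≠ 0 := by
    intro h0
    apply hne
    unfold classInner
    rw [h0, mul_zero]
  refine of_scalar lam hχ hN ?_
  intro y
  have hs : ∑ g : G, f g * conj (χ g) =
      ((lam y : ℂ) * conj (χ y / χ 1)) * ∑ g : G, f g * conj (χ g) := by
    conv_lhs => rw [← Equiv.sum_comp (Equiv.mulLeft (y : G))]
    rw [Finset.mul_sum]
    refine Finset.sum_congr rfl fun g _ => ?_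
    simp only [Equiv.coe_mulLeft]
    rw [hf.2 y g, irr_div hχ hN y g, map_mul]
    ring
  have h0 : ((lam y : ℂ) * conj (χ y / χ 1)) * ∑ g : G, f g * conj (χ g) =
      1 * ∑ g : G, f g * conj (χ g) := by
    rw [one_mul]; exact hs.symm
  have h1 := mul_right_cancel₀ hne' h0
  have h2 := congrArg conj h1
  simp only [map_one, map_mul, Complex.conj_conj] at h2
  rw [mul_comm]
  exact h2

open Classical in
theorem finrank_WW_eq_A (hN : N ≤ Subgroup.center G) :
    finrank ℂ (WW lam : Submodule ℂ (G → ℂ)) =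
      Nat.card {χ : IrrCharacter G // ∀ (z : N) (g : G), (χ : G → ℂ) (z * g) = (lam z : ℂ) * (χ : G → ℂ) g} := by
  classical
  haveI : Finite (IrrCharacter G) := finite_irr
  haveI : Fintype (IrrCharacter G) := Fintype.ofFinite _
  let A := {χ : IrrCharacter G // ∀ (z : N) (g : G), (χ : G → ℂ) (z * g) = (lam z : ℂ) * (χ : G → ℂ) g}
  let b : A → (G → ℂ) := fun χ => (χ.1 : G → ℂ)
  have hb : LinearIndependent ℂ b :=
    (linearIndependent_irr (G := G)).comp (fun χ : A => χ.1) Subtype.val_injective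
  have hspan : (WW lam : Submodule ℂ (G → ℂ)) = Submodule.span ℂ (Set.range b) := by
    apply le_antisymm
    · intro f hf
      rw [classFun_eq_sum f hf.1]
      refine Submodule.sum_mem _ fun χ _ => ?_
      by_cases hA : ∀ (z : N) (g : G), (χ : G → ℂ) (z * g) = (lam z : ℂ) * (χ : G → ℂ) g
      · exact Submodule.smul_mem _ _ (Submodule.subset_span ⟨⟨χ, hA⟩, rfl⟩)
      · rw [inner_eq_zero_of_mem lam hf χ.2 hN hA, zero_smul]
        exact Submodule.zero_mem _
    · rw [Submodule.span_le]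
      rintro _ ⟨χ, rfl⟩
      exact ⟨classFunction_of_isIrrCharacter χ.1.2, χ.2⟩
  rw [hspan, finrank_span_eq_card hb, Nat.card_eq_fintype_card]

end W

section Sp

variable {N : Subgroup G} [hNn : N.Normal] [Fintype N] (lam : N →* ℂˣ)

variable (N) in
/-- Special elements. -/
def IsSp (g : G) : Prop := ∀ x : G, x⁻¹ * g⁻¹ * x * g ∈ N → x * g = g * x

variable (N) in
/-- Special classes. -/
abbrev SpC := {C : ConjClasses (G ⧸ N) // ∃ g : G, ConjClasses.mk (g : G ⧸ N) = C ∧
  ∀ x : G, x⁻¹ * g⁻¹ * x * g ∈ N → x * g = g * x}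

/-- Representative. -/
noncomputable def repC (C : SpC N) : G := C.2.choose

theorem repC_mk (C : SpC N) : ConjClasses.mk ((repC C : G) : G ⧸ N) = C.1 := C.2.choose_spec.1

theorem repC_sp (C : SpC N) : IsSp N (repC C) := C.2.choose_spec.2

theorem conj_lift (hN : N ≤ Subgroup.center G) {g h : G}
    (hgh : ConjClasses.mk (g : G ⧸ N) = ConjClasses.mk (h : G ⧸ N)) :
    ∃ (x : G) (z : N), h = x * ((z : G) * g) * x⁻¹ := by
  rw [ConjClasses.mk_eq_mk_iff_isConj, isConj_iff] at hgh
  obtain ⟨c, hc⟩ := hgh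
  obtain ⟨x, rfl⟩ := QuotientGroup.mk_surjective c
  have h1 : ((x * g * x⁻¹ : G) : G ⧸ N) = (h : G ⧸ N) := by
    rw [← hc]; rfl
  rw [QuotientGroup.eq] at h1
  obtain ⟨y, hy⟩ : ∃ y, y = (x * g * x⁻¹)⁻¹ * h := ⟨_, rfl⟩
  rw [← hy] at h1
  refine ⟨x, ⟨y, h1⟩, ?_⟩
  have hc' := Subgroup.mem_center_iff.mp (hN h1)
  simp only
  calc h = (x * g * x⁻¹) * y := by rw [hy]; group
    _ = y * (x * g * x⁻¹) := hc' _
    _ = (y * x) * g * x⁻¹ := by group
    _ = (x * y) * g * x⁻¹ := by rw [hc' x]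
    _ = x * (y * g) * x⁻¹ := by group

open Classical in
/-- The basic function. -/
noncomputable def fC (g₀ g : G) : ℂ :=
  ∑ x : G, ∑ z : N, if g = x * ((z : G) * g₀) * x⁻¹ then (lam z : ℂ) else 0

theorem fC_mem (hN : N ≤ Subgroup.center G) (g₀ : G) : fC lam g₀ ∈ WW lam := by
  classical
  refine ⟨fun g h => ?_, fun y g => ?_⟩
  · unfold fC
    rw [← Equiv.sum_comp (Equiv.mulLeft h)]
    refine Finset.sum_congr rfl fun x _ => Finset.sum_congr rfl fun z _ => ?_
    simp only [Equiv.coe_mulLeft]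
    have : h * g * h⁻¹ = h * x * ((z : G) * g₀) * (h * x)⁻¹ ↔ g = x * ((z : G) * g₀) * x⁻¹ := by
      constructor
      · intro e
        have e2 : g = h⁻¹ * (h * g * h⁻¹) * h := by group
        rw [e2, e]; group
      · intro e
        rw [e]; group
    simp only [this]
  · unfold fC
    rw [Finset.mul_sum]
    refine Finset.sum_congr rfl fun x _ => ?_
    rw [← Equiv.sum_comp (Equiv.mulLeft y), Finset.mul_sum]
    refine Finset.sum_congr rfl fun z _ => ?_
    simp only [Equiv.coe_mulLeft]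
    have hy := Subgroup.mem_center_iff.mp (hN y.2)
    have : (y : G) * g = x * (((y * z : N) : G) * g₀) * x⁻¹ ↔ g = x * ((z : G) * g₀) * x⁻¹ := by
      have e0 : x * (((y * z : N) : G) * g₀) * x⁻¹ = (y : G) * (x * ((z : G) * g₀) * x⁻¹) := by
        have e1 : ((y * z : N) : G) = (y : G) * z := rfl
        rw [e1]
        have e2 : x * ((y : G) * z * g₀) * x⁻¹ = (x * (y : G)) * (z * g₀) * x⁻¹ := by group
        rw [e2, hy x]; group
      rw [e0]
      exact mul_right_inj _
    simp only [this, map_mul, Units.val_mul]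
    split_ifs <;> simp

theorem fC_off {g₀ h : G} (hne : ConjClasses.mk (g₀ : G ⧸ N) ≠ ConjClasses.mk (h : G ⧸ N))
    (hN : N ≤ Subgroup.center G) : fC lam g₀ h = 0 := by
  classical
  unfold fC
  refine Finset.sum_eq_zero fun x _ => Finset.sum_eq_zero fun z _ => ?_
  rw [if_neg]
  intro e
  apply hne
  rw [ConjClasses.mk_eq_mk_iff_isConj, isConj_iff]
  refine ⟨(x : G ⧸ N), ?_⟩
  rw [e]
  have hz : ((z : G) : G ⧸ N) = 1 := (QuotientGroup.eq_one_iff _).mpr z.2
  simp only [QuotientGroup.mk_mul, QuotientGroup.mk_inv, hz, one_mul]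

theorem fC_self {g₀ : G} (hs : IsSp N g₀) (hN : N ≤ Subgroup.center G) : fC lam g₀ g₀ ≠ 0 := by
  classical
  have hin : ∀ x : G, (∑ z : N, if g₀ = x * ((z : G) * g₀) * x⁻¹ then (lam z : ℂ) else 0) =
      if x * g₀ = g₀ * x then 1 else 0 := by
    intro x
    split_ifs with hc
    · rw [Finset.sum_eq_single (1 : N)]
      · rw [if_pos (by
          show g₀ = x * (((1 : N) : G) * g₀) * x⁻¹
          rw [Subgroup.coe_one, one_mul, hc]; group)]
        simp
      · intro z _ hz1
        rw [if_neg]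
        intro e
        apply hz1
        have hz := Subgroup.mem_center_iff.mp (hN z.2)
        have e2 : x * ((z : G) * g₀) * x⁻¹ = (z : G) * g₀ := by
          have : x * ((z : G) * g₀) * x⁻¹ = (x * (z : G)) * g₀ * x⁻¹ := by group
          rw [this, hz x, mul_assoc (z : G), hc]; group
        rw [e2] at e
        have e3 : (z : G) = 1 := by
          have e4 : (z : G) * g₀ = 1 * g₀ := by rw [one_mul]; exact e.symm
          exact mul_right_cancel e4
        exact Subtype.ext e3
      · intro h; exact absurd (Finset.mem_univ _) h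
    · refine Finset.sum_eq_zero fun z _ => ?_
      rw [if_neg]
      intro e
      apply hc
      apply hs x
      have hz := Subgroup.mem_center_iff.mp (hN z.2)
      have e2 : x⁻¹ * g₀⁻¹ * x * g₀ = (z : G)⁻¹ := by
        have e3 : x⁻¹ * g₀ * x = (z : G) * g₀ := by
          conv_lhs => rw [e]
          group
        have e4 : x⁻¹ * g₀⁻¹ * x = ((z : G) * g₀)⁻¹ := by
          rw [← e3]; group
        rw [e4, mul_inv_rev]
        have hzi := Subgroup.mem_center_iff.mp (inv_mem (hN z.2))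
        have e5 : (z : G)⁻¹ * g₀ = g₀ * (z : G)⁻¹ := (hzi g₀).symm
        rw [mul_assoc, e5]; group
      rw [e2]
      exact inv_mem z.2
  unfold fC
  simp only [hin]
  rw [Finset.sum_boole]
  have : (Finset.univ.filter fun x : G => x * g₀ = g₀ * x).card ≠ 0 := by
    apply Finset.card_ne_zero.mpr
    exact ⟨1, by simp⟩
  exact_mod_cast this

/-- Evaluation on representatives. -/
noncomputable def evalC : (WW lam : Submodule ℂ (G → ℂ)) →ₗ[ℂ] (SpC N → ℂ) where
  toFun f := fun C => (f : G → ℂ) (repC C)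
  map_add' _ _ := rfl
  map_smul' _ _ := rfl

theorem evalC_inj (hN : N ≤ Subgroup.center G) (hfaith : ∀ z : N, (lam z : ℂ) = 1 → z = 1) :
    Function.Injective (evalC lam) := by
  rw [injective_iff_map_eq_zero]
  rintro ⟨f, hf1, hf2⟩ h0
  ext g
  show f g = 0
  by_cases hs : IsSp N g
  · let C : SpC N := ⟨ConjClasses.mk (g : G ⧸ N), g, rfl, hs⟩
    have h1 : f (repC C) = 0 := congrFun h0 C
    have h2 : ConjClasses.mk ((repC C : G) : G ⧸ N) = ConjClasses.mk (g : G ⧸ N) := repC_mk C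
    obtain ⟨x, z, hz⟩ := conj_lift hN h2
    have hz2 := Subgroup.mem_center_iff.mp (hN z.2)
    rw [hz, hf1, hf2, h1, mul_zero]
  · unfold IsSp at hs
    push Not at hs
    obtain ⟨x, hx, hne⟩ := hs
    let z : N := ⟨_, hx⟩
    have hz2 := Subgroup.mem_center_iff.mp (hN hx)
    have h1 : g = (z : G) * (x⁻¹ * g * x) := by
      have e1 : (z : G) * (x⁻¹ * g * x) = (x⁻¹ * g * x) * (z : G) := (hz2 _).symm
      rw [e1]
      show g = x⁻¹ * g * x * (x⁻¹ * g⁻¹ * x * g)
      group
    have h2 : f g = (lam z : ℂ) * f g := by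
      conv_lhs => rw [h1]
      rw [hf2]
      congr 1
      have := hf1 g x⁻¹
      rw [inv_inv] at this
      exact this
    have hz1 : (lam z : ℂ) ≠ 1 := by
      intro e
      have := hfaith z e
      have h3 : x⁻¹ * g⁻¹ * x * g = 1 := congrArg Subtype.val this
      apply hne
      have h4 : x⁻¹ * g⁻¹ * x = g⁻¹ := mul_eq_one_iff_eq_inv.mp h3
      have h5 : g⁻¹ * x = x * g⁻¹ := by
        calc g⁻¹ * x = x * (x⁻¹ * g⁻¹ * x) := by group
          _ = x * g⁻¹ := by rw [h4]
      have : x * g = g * (g⁻¹ * x) * g := by group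
      rw [this, h5]; group
    have h3 : (1 - (lam z : ℂ)) * f g = 0 := by
      rw [sub_mul, one_mul, ← h2, sub_self]
    rcases mul_eq_zero.mp h3 with h4 | h4
    · exact absurd (sub_eq_zero.mp h4).symm hz1
    · exact h4

theorem evalC_surj (hN : N ≤ Subgroup.center G) : Function.Surjective (evalC lam) := by
  classical
  haveI : Fintype (SpC N) := Fintype.ofFinite _
  intro a
  let F : G → ℂ := ∑ C : SpC N, (a C / fC lam (repC C) (repC C)) • fC lam (repC C)
  have hF : F ∈ (WW lam : Submodule ℂ (G → ℂ)) :=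
    Submodule.sum_mem _ fun C _ => Submodule.smul_mem _ _ (fC_mem lam hN _)
  refine ⟨⟨F, hF⟩, ?_⟩
  funext C'
  show F (repC C') = a C'
  simp only [F, Finset.sum_apply, Pi.smul_apply, smul_eq_mul]
  rw [Finset.sum_eq_single C']
  · rw [div_mul_cancel₀ _ (fC_self lam (repC_sp C') hN)]
  · intro C _ hne
    have h0 : fC lam (repC C) (repC C') = 0 := by
      refine fC_off lam ?_ hN
      intro e
      apply hne
      apply Subtype.ext
      rw [← repC_mk C, ← repC_mk C', e]
    rw [h0, mul_zero]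
  · intro h; exact absurd (Finset.mem_univ _) h

theorem finrank_WW_eq_Sp (hN : N ≤ Subgroup.center G) (hfaith : ∀ z : N, (lam z : ℂ) = 1 → z = 1) :
    finrank ℂ (WW lam : Submodule ℂ (G → ℂ)) = Nat.card (SpC N) := by
  classical
  haveI : Fintype (SpC N) := Fintype.ofFinite _
  rw [LinearEquiv.finrank_eq (LinearEquiv.ofBijective (evalC lam)
    ⟨evalC_inj lam hN hfaith, evalC_surj lam hN⟩), Module.finrank_fintype_fun_eq_card,
    Nat.card_eq_fintype_card]

/-- The final count. -/
theorem gallagher (hN : N ≤ Subgroup.center G) (ψ : IrrCharacter N)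
    (hfaith : ∀ n : N, (ψ : N → ℂ) n = (ψ : N → ℂ) 1 → n = 1) :
    Nat.card {χ : IrrCharacter G // classInner (fun n : N => (χ : G → ℂ) n) (ψ : N → ℂ) ≠ 0} =
      Nat.card (SpC N) := by
  have hab : ∀ a b : N, a * b = b * a := by
    intro a b
    exact Subtype.ext (Subgroup.mem_center_iff.mp (hN b.2) a)
  have h1 : (ψ : N → ℂ) 1 = 1 := irr_degree_one_of_comm ψ.2 hab
  obtain ⟨lam, hlam⟩ := exists_hom_of_linear (IsIrrCharacter.isCharacter ψ.2) h1
  have e1 : Nat.card {χ : IrrCharacter G // classInner (fun n : N => (χ : G → ℂ) n) (ψ : N → ℂ) ≠ 0} =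
      Nat.card {χ : IrrCharacter G // ∀ (z : N) (g : G), (χ : G → ℂ) (z * g) = (lam z : ℂ) * (χ : G → ℂ) g} :=
    Nat.card_congr (Equiv.subtypeEquivRight fun χ => by
      rw [hlam]; exact inner_res_ne_zero_iff lam χ.2 hN)
  rw [e1, ← finrank_WW_eq_A lam hN]
  refine finrank_WW_eq_Sp lam hN fun z hz => hfaith z ?_
  rw [h1, hlam]; exact hz

end Sp

end Cfsg.Agent.Lib.H3Gal
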