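import Mathlib
import Cfsg.Agent.Lib.H1Core

set_option autoImplicit false

/-! The socle of a group algebra of a `p`-group in characteristic `p` and its effect on lattices. -/

namespace Cfsg.Agent.Lib.H3TIP

open Module
open scoped Pointwise

/-- Every non-zero left ideal of `F[P]` contains the norm element. -/
theorem socle {F : Type*} [Field F] {p : ℕ} [hp : Fact p.Prime] (hp0 : (p : F) = 0)
    {P : Type*} [Group P] [Fintype P] (hP : IsPGroup p P) (c : P → F) (hc : c ≠ 0) :
    ∃ z : P → F, ∀ x, ∑ y, z y * c (y⁻¹ * x) = 1 := by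
  classical
  let tr : P → (P → F) → (P → F) := fun y f x => f (y⁻¹ * x)
  let A : AddSubgroup (P → F) := AddSubgroup.closure (Set.range fun y => tr y c)
  have hpA : ∀ a : P → F, p • a = 0 := by
    intro a
    funext x
    simp [hp0]
  have hfin : Finite A := by
    haveI : AddGroup.FG A := by
      rw [AddGroup.fg_iff_addSubgroup_fg]
      refine ⟨(Finset.univ.image fun y => tr y c), ?_⟩
      simp [A]
    refine AddCommGroup.finite_of_fg_torsion (G := A) ?_
    intro a
    rw [isOfFinAddOrder_iff_nsmul_eq_zero]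
    refine ⟨p, hp.out.pos, ?_⟩
    exact Subtype.ext (hpA a.1)
  have hA0 : c ∈ A := by
    have : tr 1 c = c := by
      funext x
      simp [tr]
    rw [← this]
    exact AddSubgroup.subset_closure ⟨1, rfl⟩
  have hst : ∀ y, ∀ a ∈ A, tr y a ∈ A := by
    intro y a ha
    induction ha using AddSubgroup.closure_induction with
    | mem a ha =>
      obtain ⟨y', rfl⟩ := ha
      have : tr y (tr y' c) = tr (y * y') c := by
        funext x
        simp [tr, mul_assoc]
      rw [this]
      exact AddSubgroup.subset_closure ⟨_, rfl⟩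
    | zero => exact zero_mem _
    | add a b _ _ h1 h2 =>
      have : tr y (a + b) = tr y a + tr y b := rfl
      rw [this]
      exact add_mem h1 h2
    | neg a _ h1 =>
      have : tr y (-a) = -tr y a := rfl
      rw [this]
      exact neg_mem h1
  letI act : MulAction P A :=
    { smul := fun y a => ⟨tr y a.1, hst y a.1 a.2⟩
      one_smul := by
        intro a
        apply Subtype.ext
        funext x
        show a.1 (1⁻¹ * x) = a.1 x
        simp
      mul_smul := by
        intro y y' a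
        apply Subtype.ext
        funext x
        show a.1 ((y * y')⁻¹ * x) = a.1 (y'⁻¹ * (y⁻¹ * x))
        simp [mul_assoc] }
  have hcard : p ∣ Nat.card A := by
    have hP' : IsPGroup p (Multiplicative A) := by
      intro g
      refine ⟨1, ?_⟩
      rw [pow_one]
      apply Multiplicative.toAdd.injective
      rw [toAdd_pow]
      exact Subtype.ext (hpA g.toAdd.1)
    have h1 : Nat.card (Multiplicative A) = Nat.card A := rfl
    rcases hP'.card_eq_or_dvd with h | h
    · exfalso
      rw [h1] at h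
      have hsub := (Nat.card_eq_one_iff_unique.mp h).1
      have : (⟨c, hA0⟩ : A) = 0 := hsub.elim _ _
      exact hc (congrArg Subtype.val this)
    · rwa [h1] at h
  have hfix0 : (0 : A) ∈ MulAction.fixedPoints P A := by
    intro y
    apply Subtype.ext
    rfl
  obtain ⟨b, hb, hbne⟩ := hP.exists_fixed_point_of_prime_dvd_card_of_fixed_point (α := A) hcard hfix0
  have hbc : ∀ x, b.1 x = b.1 1 := by
    intro x
    have h1 : tr x b.1 = b.1 := congrArg Subtype.val (hb x)
    have h2 := congrFun h1 x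
    simp only [tr, inv_mul_cancel] at h2
    exact h2.symm
  have hκ : b.1 1 ≠ 0 := by
    intro h0
    apply hbne
    apply Subtype.ext
    funext x
    rw [hbc x, h0]
    rfl
  have hex : ∀ a ∈ A, ∃ z : P → F, ∀ x, a x = ∑ y, z y * c (y⁻¹ * x) := by
    intro a ha
    induction ha using AddSubgroup.closure_induction with
    | mem a ha =>
      obtain ⟨y', rfl⟩ := ha
      refine ⟨fun y => if y = y' then 1 else 0, fun x => ?_⟩
      simp [tr]
    | zero => exact ⟨0, fun x => by simp⟩
    | add a b _ _ h1 h2 =>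
      obtain ⟨z1, h1⟩ := h1
      obtain ⟨z2, h2⟩ := h2
      refine ⟨z1 + z2, fun x => ?_⟩
      simp only [Pi.add_apply, add_mul, Finset.sum_add_distrib, h1, h2]
    | neg a _ h1 =>
      obtain ⟨z1, h1⟩ := h1
      refine ⟨-z1, fun x => ?_⟩
      simp only [Pi.neg_apply, neg_mul, Finset.sum_neg_distrib, h1]
  obtain ⟨z, hz⟩ := hex b.1 b.2
  refine ⟨fun y => (b.1 1)⁻¹ * z y, fun x => ?_⟩
  have h3 := hz x
  rw [hbc x] at h3
  simp only [mul_assoc]
  rw [← Finset.mul_sum, ← h3, inv_mul_cancel₀ hκ]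

section lattice

variable {B : ValuationSubring ℂ} {V : Type*} [AddCommGroup V] [Module ℂ V] [Module B V]
  [IsScalarTower B ℂ V]

/-- The norm element is zero modulo the maximal ideal on a lattice of small rank. -/
theorem key_sigma [FiniteDimensional ℂ V] {p : ℕ} [hp : Fact p.Prime] (hpB : (p : ℂ) ∈ B.nonunits)
    {P : Type*} [Group P] [Fintype P] (hP : IsPGroup p P) (σ : P → V →ₗ[ℂ] V)
    (hσ : ∀ x y v, σ (x * y) v = σ x (σ y v))
    (hd : finrank ℂ V < Fintype.card P) (L : Submodule B V) (hL : ∀ x, ∀ l ∈ L, σ x l ∈ L)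
    {v : V} (hv : v ∈ L) :
    ∑ x, σ x v ∈ (IsLocalRing.maximalIdeal B) • L := by
  classical
  have hnl : ¬ LinearIndependent ℂ (fun x => σ x v) := by
    intro hli
    have := hli.fintype_card_le_finrank
    omega
  obtain ⟨c, hc0, i, hi⟩ := Fintype.not_linearIndependent_iff.mp hnl
  obtain ⟨x₀, -, hx₀⟩ := Finset.exists_max_image Finset.univ (fun x => B.valuation (c x))
    ⟨i, Finset.mem_univ _⟩
  have hc₀ : c x₀ ≠ 0 := by
    intro h0
    have h1 := hx₀ i (Finset.mem_univ _)
    rw [h0, map_zero, le_zero_iff] at h1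
    exact hi ((map_eq_zero _).mp h1)
  have hmem : ∀ x, c x / c x₀ ∈ B := by
    intro x
    rw [← B.valuation_le_one_iff, map_div₀]
    have h2 : B.valuation (c x₀) ≠ 0 := (map_ne_zero _).mpr hc₀
    exact (div_le_one₀ (zero_lt_iff.mpr h2)).mpr (hx₀ x (Finset.mem_univ _))
  let c' : P → B := fun x => ⟨c x / c x₀, hmem x⟩
  have hrel : ∑ x, ((c' x : B) : ℂ) • σ x v = 0 := by
    have : ∀ x, ((c' x : B) : ℂ) • σ x v = (c x₀)⁻¹ • (c x • σ x v) := by
      intro x
      rw [smul_smul]
      congr 1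
      show c x / c x₀ = _
      field_simp
    simp only [this]
    rw [← Finset.smul_sum, hc0, smul_zero]
  have hc1 : c' x₀ = 1 := by
    apply Subtype.ext
    show c x₀ / c x₀ = 1
    exact div_self hc₀
  let res := IsLocalRing.residue B
  have hpm : ((p : ℕ) : B) ∈ IsLocalRing.maximalIdeal B := by
    obtain ⟨ha, hm⟩ := ValuationSubring.mem_nonunits_iff_exists_mem_maximalIdeal.mp hpB
    have : ((p : ℕ) : B) = ⟨(p : ℂ), ha⟩ := by
      apply Subtype.ext
      simp
    rw [this]; exact hm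
  have hp0 : ((p : ℕ) : IsLocalRing.ResidueField B) = 0 := by
    have : res ((p : ℕ) : B) = 0 := (IsLocalRing.residue_eq_zero_iff _).mpr hpm
    rwa [map_natCast] at this
  have hne : (fun x => res (c' x)) ≠ 0 := by
    intro h0
    have := congrFun h0 x₀
    simp only [hc1, map_one, Pi.zero_apply] at this
    exact one_ne_zero this
  obtain ⟨z₀, hz₀⟩ := socle hp0 hP _ hne
  choose z hz using fun y => IsLocalRing.residue_surjective (z₀ y)
  let e : P → B := fun x => ∑ y, z y * c' (y⁻¹ * x)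
  have he : ∀ x, 1 - e x ∈ IsLocalRing.maximalIdeal B := by
    intro x
    rw [← IsLocalRing.residue_eq_zero_iff, map_sub, map_one]
    have : IsLocalRing.residue B (e x) = 1 := by
      simp only [e, map_sum, map_mul, hz]
      exact hz₀ x
    rw [this, sub_self]
  have hrel2 : ∑ x, ((e x : B) : ℂ) • σ x v = 0 := by
    have h1 : ∑ y, ((z y : B) : ℂ) • σ y (∑ x, ((c' x : B) : ℂ) • σ x v) = 0 := by
      rw [hrel]; simp
    rw [← h1]
    have h2 : ∀ y, ((z y : B) : ℂ) • σ y (∑ x, ((c' x : B) : ℂ) • σ x v) =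
        ∑ x, ((z y : B) : ℂ) • ((c' (y⁻¹ * x) : B) : ℂ) • σ x v := by
      intro y
      rw [map_sum, Finset.smul_sum, ← Equiv.sum_comp (Equiv.mulLeft y⁻¹)]
      refine Finset.sum_congr rfl fun x _ => ?_
      simp only [map_smul, Equiv.coe_mulLeft]
      rw [← hσ]
      simp
    simp only [h2]
    rw [Finset.sum_comm]
    refine Finset.sum_congr rfl fun x _ => ?_
    have h3 : ((e x : B) : ℂ) = ∑ y, ((z y : B) : ℂ) * ((c' (y⁻¹ * x) : B) : ℂ) := by
      simp [e]
    rw [h3, Finset.sum_smul]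
    simp only [mul_smul]
  have hsm : ∀ (a : B) (u : V), a • u = ((a : B) : ℂ) • u := by
    intro a u
    exact (algebraMap_smul ℂ a u).symm
  have h5 : ∑ x, σ x v = ∑ x, (1 - e x) • σ x v := by
    have h6 : ∀ x, (1 - e x) • σ x v = σ x v - ((e x : B) : ℂ) • σ x v := by
      intro x
      rw [sub_smul, one_smul, hsm]
    simp only [h6]
    rw [Finset.sum_sub_distrib, hrel2, sub_zero]
  rw [h5]
  exact Submodule.sum_mem _ fun x _ => Submodule.smul_mem_smul (he x) (hL x v hv)

end lattice

section orbit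

/-- Sum over a free action. -/
theorem free_sum {P X A : Type*} [Group P] [Fintype P] [MulAction P X] [Fintype X] [AddCommMonoid A]
    (hfree : ∀ (x : P) (ω : X), x • ω = ω → x = 1) (f : X → A) :
    ∃ Θ : Finset X, ∑ ω, f ω = ∑ θ ∈ Θ, ∑ x : P, f (x • θ) := by
  classical
  let Q := MulAction.orbitRel.Quotient P X
  haveI : Fintype Q := Fintype.ofFinite _
  let r : Q → X := fun q => Quotient.out q
  have hr : ∀ q : Q, (Quotient.mk'' (r q) : Q) = q := fun q => Quotient.out_eq' q
  have hbij : Function.Bijective (fun q : Q × P => q.2 • r q.1) := by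
    constructor
    · rintro ⟨q₁, x₁⟩ ⟨q₂, x₂⟩ h
      simp only at h
      have h1 : q₁ = q₂ := by
        rw [← hr q₁, ← hr q₂]
        apply Quotient.sound'
        show r q₁ ∈ MulAction.orbit P (r q₂)
        refine ⟨x₁⁻¹ * x₂, ?_⟩
        show (x₁⁻¹ * x₂) • r q₂ = r q₁
        rw [mul_smul, ← h, inv_smul_smul]
      subst h1
      have h2 : (x₁⁻¹ * x₂) • r q₁ = r q₁ := by
        rw [mul_smul, ← h, inv_smul_smul]
      have h3 := hfree _ _ h2
      have h4 : x₁ = x₂ := by
        have : x₂ = x₁ * (x₁⁻¹ * x₂) := by group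
        rw [this, h3, mul_one]
      rw [h4]
    · intro ω
      let q : Q := Quotient.mk'' ω
      have h1 : (Quotient.mk'' (r q) : Q) = Quotient.mk'' ω := hr q
      have h2 : r q ∈ MulAction.orbit P ω := Quotient.exact' h1
      obtain ⟨x, hx⟩ := h2
      refine ⟨(q, x⁻¹), ?_⟩
      show x⁻¹ • r q = ω
      rw [← hx]
      exact inv_smul_smul x ω
  have hinj : Function.Injective r := by
    intro q₁ q₂ h
    rw [← hr q₁, ← hr q₂, h]
  refine ⟨Finset.univ.image r, ?_⟩
  rw [Finset.sum_image (fun a _ b _ h => hinj h), ← Function.Bijective.sum_comp hbij f,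
    Fintype.sum_prod_type]

end orbit

section main

variable {G : Type*} [Group G] [Fintype G] {p : ℕ} [hp : Fact p.Prime]

/-- A valuation ring of `ℂ` in which `p` is a non-unit. -/
theorem exists_val (p : ℕ) (hp : p.Prime) : ∃ B : ValuationSubring ℂ, (p : ℂ) ∈ B.nonunits := by
  let A : Subring ℂ := (Int.castRingHom ℂ).range
  let pA : A := ⟨(p : ℂ), ⟨(p : ℤ), by simp⟩⟩
  let I : Ideal A := Ideal.span {pA}
  have hI : I ≠ ⊤ := by
    rw [Ne, Ideal.span_singleton_eq_top]
    intro hu
    obtain ⟨⟨b, n, hn⟩, hb2⟩ := isUnit_iff_exists_inv.mp hu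
    have h1 : (p : ℂ) * b = 1 := congrArg Subtype.val hb2
    rw [← hn] at h1
    have h2 : ((p : ℤ) * n : ℤ) = 1 := by
      have : (((p : ℤ) * n : ℤ) : ℂ) = ((1 : ℤ) : ℂ) := by
        push_cast
        simpa using h1
      exact_mod_cast this
    have h3 := Int.isUnit_iff.mp (IsUnit.of_mul_eq_one _ h2)
    rcases h3 with h3 | h3
    · have : p = 1 := by exact_mod_cast h3
      exact hp.one_lt.ne' this
    · have : (0 : ℤ) ≤ p := by positivity
      omega
  obtain ⟨B, -, hB⟩ := Ideal.image_subset_nonunits_valuationSubring I hI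
  exact ⟨B, hB ⟨pA, Ideal.subset_span rfl, rfl⟩⟩

/-- The trivial-intersection property forces fusion inside `H`. -/
theorem ti_mem (P : Sylow p G)
    (hTI : ∀ g : G, g ∉ Subgroup.normalizer ((P : Subgroup G) : Set G) →
      (P : Subgroup G) ⊓ (MulAut.conj g • (P : Subgroup G)) = ⊥)
    (H : Subgroup G) (hH : Subgroup.normalizer ((P : Subgroup G) : Set G) ≤ H)
    {x g : G} (hx : x ∈ (P : Subgroup G)) (hx1 : x ≠ 1) (hy : g⁻¹ * x * g ∈ H) : g ∈ H := by
  classical
  have hpp : p.Prime := Fact.out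
  have hPH : (P : Subgroup G) ≤ H := Subgroup.le_normalizer.trans hH
  obtain ⟨k₀, hk₀⟩ := P.isPGroup' ⟨x, hx⟩
  have hk₁ : x ^ p ^ k₀ = 1 := congrArg Subtype.val hk₀
  let y : H := ⟨g⁻¹ * x * g, hy⟩
  have hyp : IsPGroup p (Subgroup.zpowers y) := by
    have h1 : y ^ p ^ k₀ = 1 := by
      apply Subtype.ext
      show (g⁻¹ * x * g) ^ p ^ k₀ = 1
      have h2 : g⁻¹ * x * g = g⁻¹ * x * g⁻¹⁻¹ := by simp
      rw [h2, conj_pow, hk₁]; simp
    have h3 : orderOf y ∣ p ^ k₀ := orderOf_dvd_of_pow_eq_one h1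
    obtain ⟨j, -, hj⟩ := (Nat.dvd_prime_pow hpp).mp h3
    apply IsPGroup.of_card (n := j)
    rw [Nat.card_zpowers, hj]
  obtain ⟨S, hS⟩ := hyp.exists_le_sylow
  obtain ⟨k, rfl⟩ := MulAction.exists_smul_eq H (P.subtype hPH) S
  have h1 : y ∈ ((k • P.subtype hPH : Sylow p H) : Subgroup H) := hS (Subgroup.mem_zpowers y)
  rw [Cfsg.Agent.Lib.H1Core.mem_sylow_smul] at h1
  have h2 : ((k⁻¹ * y * k : H) : G) ∈ (P : Subgroup G) := h1
  have h3 : ((k : G))⁻¹ * (g⁻¹ * x * g) * k ∈ (P : Subgroup G) := h2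
  have hm : g * k ∈ Subgroup.normalizer ((P : Subgroup G) : Set G) := by
    by_contra hn
    have h4 : x ∈ (P : Subgroup G) ⊓ (MulAut.conj (g * (k : G)) • (P : Subgroup G)) := by
      refine Subgroup.mem_inf.mpr ⟨hx, ?_⟩
      rw [Cfsg.Agent.Lib.H1Core.mem_conj_smul]
      have : (g * (k : G))⁻¹ * x * (g * k) = ((k : G))⁻¹ * (g⁻¹ * x * g) * k := by group
      rw [this]; exact h3
    rw [hTI _ hn, Subgroup.mem_bot] at h4
    exact hx1 h4
  have h5 := hH hm
  have : g = (g * k) * (k : G)⁻¹ := by group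
  rw [this]
  exact mul_mem h5 (inv_mem k.2)

/-- The main lattice argument: no `H`-fixed vector in small rank when the `G`-average vanishes. -/
theorem no_fixed_vector (P : Sylow p G)
    (hTI : ∀ g : G, g ∉ Subgroup.normalizer ((P : Subgroup G) : Set G) →
      (P : Subgroup G) ⊓ (MulAut.conj g • (P : Subgroup G)) = ⊥)
    (H : Subgroup G) (hH : Subgroup.normalizer ((P : Subgroup G) : Set G) ≤ H)
    {d : ℕ} (ρ : Representation ℂ G (Fin d → ℂ)) (hd : d < Nat.card (P : Subgroup G))
    (w : Fin d → ℂ) (hw : ∀ h ∈ H, ρ h w = w) (h0 : ∑ g, ρ g w = 0) : w = 0 := by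
  classical
  have hpp : p.Prime := Fact.out
  have hPH : (P : Subgroup G) ≤ H := Subgroup.le_normalizer.trans hH
  obtain ⟨B, hB⟩ := exists_val p hpp
  haveI : Fintype H := Fintype.ofFinite _
  haveI : Fintype (G ⧸ H) := Fintype.ofFinite _
  haveI : Fintype (P : Subgroup G) := Fintype.ofFinite _
  let V := Fin d → ℂ
  let f : G ⧸ H → V := fun ω => ρ ω.out w
  have hf : ∀ g : G, f (g : G ⧸ H) = ρ g w := by
    intro g
    obtain ⟨h, hh⟩ := QuotientGroup.mk_out_eq_mul H g
    show ρ (g : G ⧸ H).out w = _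
    rw [hh, map_mul, Module.End.mul_apply, hw _ h.2]
  have hfs : ∀ (x : G) (ω : G ⧸ H), f (x • ω) = ρ x (f ω) := by
    intro x ω
    have h1 : x • ω = ((x * ω.out : G) : G ⧸ H) := by
      conv_lhs => rw [← QuotientGroup.out_eq' ω]
      rfl
    rw [h1, hf, map_mul, Module.End.mul_apply]
  have hsum : ∑ ω, f ω = 0 := by
    have hbij : Function.Bijective (fun q : (G ⧸ H) × H => q.1.out * (q.2 : G)) := by
      constructor
      · rintro ⟨a, h⟩ ⟨b, h'⟩ e
        simp only at e
        have h1 : ((a.out * (h : G) : G) : G ⧸ H) = a := by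
          rw [QuotientGroup.mk_mul_of_mem _ h.2, QuotientGroup.out_eq']
        have h2 : ((b.out * (h' : G) : G) : G ⧸ H) = b := by
          rw [QuotientGroup.mk_mul_of_mem _ h'.2, QuotientGroup.out_eq']
        have h3 : a = b := by rw [← h1, ← h2, e]
        subst h3
        have h4 := mul_left_cancel e
        rw [Subtype.ext h4]
      · intro g
        have h1 : ((g : G ⧸ H).out)⁻¹ * g ∈ H := by
          rw [← QuotientGroup.eq, QuotientGroup.out_eq']
        refine ⟨((g : G ⧸ H), ⟨_, h1⟩), ?_⟩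
        simp
    have h2 : ∑ q : (G ⧸ H) × H, ρ (q.1.out * (q.2 : G)) w = 0 := by
      rw [Function.Bijective.sum_comp hbij (fun g => ρ g w)]
      exact h0
    rw [Fintype.sum_prod_type] at h2
    have h3 : ∀ a : G ⧸ H, ∑ h : H, ρ (a.out * (h : G)) w = (Fintype.card H) • f a := by
      intro a
      have : ∀ h : H, ρ (a.out * (h : G)) w = f a := by
        intro h
        rw [map_mul, Module.End.mul_apply, hw _ h.2]
      simp only [this]
      simp
    simp only [h3] at h2
    rw [← Finset.smul_sum] at h2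
    have hcard : (Fintype.card H : ℂ) ≠ 0 := by
      exact_mod_cast Fintype.card_ne_zero
    have h4 : (Fintype.card H : ℂ) • ∑ ω, f ω = 0 := by
      rw [Nat.cast_smul_eq_nsmul]
      exact h2
    exact (smul_eq_zero.mp h4).resolve_left hcard
  -- the free action of `P` off the base point
  let ω₀ : G ⧸ H := ((1 : G) : G ⧸ H)
  have hfix : ∀ x ∈ H, x • ω₀ = ω₀ := by
    intro x hx
    show ((x * 1 : G) : G ⧸ H) = ((1 : G) : G ⧸ H)
    rw [mul_one, QuotientGroup.eq]
    simpa using hx
  let X := {ω : G ⧸ H // ω ≠ ω₀}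
  letI act : MulAction (P : Subgroup G) X :=
    { smul := fun x ω => ⟨(x : G) • ω.1, by
        intro e
        apply ω.2
        have h1 : ω.1 = (x : G)⁻¹ • ((x : G) • ω.1) := (inv_smul_smul _ _).symm
        rw [h1, e]
        exact hfix _ (inv_mem (hPH x.2))⟩
      one_smul := fun ω => Subtype.ext (one_smul G ω.1)
      mul_smul := fun x y ω => Subtype.ext (mul_smul (x : G) (y : G) ω.1) }
  have hfree : ∀ (x : (P : Subgroup G)) (ω : X), x • ω = ω → x = 1 := by
    intro x ω hxω
    by_contra hx1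
    have hx1' : (x : G) ≠ 1 := fun e => hx1 (Subtype.ext e)
    have h1 : (x : G) • ω.1 = ω.1 := congrArg Subtype.val hxω
    have h2 : (x : G) • ((ω.1.out : G) : G ⧸ H) = ((ω.1.out : G) : G ⧸ H) := by
      rw [QuotientGroup.out_eq']; exact h1
    have h3 : (((x : G) * ω.1.out : G) : G ⧸ H) = ((ω.1.out : G) : G ⧸ H) := h2
    rw [QuotientGroup.eq] at h3
    have h4 : ω.1.out⁻¹ * (x : G) * ω.1.out ∈ H := by
      have := inv_mem h3
      have e : (((x : G) * ω.1.out)⁻¹ * ω.1.out)⁻¹ = ω.1.out⁻¹ * (x : G) * ω.1.out := by group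
      rwa [e] at this
    have h5 := ti_mem P hTI H hH x.2 hx1' h4
    apply ω.2
    rw [← QuotientGroup.out_eq' ω.1]
    show ((ω.1.out : G) : G ⧸ H) = ((1 : G) : G ⧸ H)
    rw [QuotientGroup.eq]
    simpa using h5
  haveI : Fintype X := Fintype.ofFinite _
  obtain ⟨Θ, hΘ⟩ := free_sum hfree (fun ω : X => f ω.1)
  let u : V := ∑ θ ∈ Θ, f θ.1
  have hXsum : ∑ ω : X, f ω.1 = ∑ x : (P : Subgroup G), ρ (x : G) u := by
    rw [hΘ]
    simp only [u, map_sum]
    rw [Finset.sum_comm]
    refine Finset.sum_congr rfl fun x _ => Finset.sum_congr rfl fun θ _ => ?_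
    exact hfs (x : G) θ.1
  have hw0 : f ω₀ = w := by
    have := hf 1
    rw [map_one] at this
    exact this
  have hsplit : ∑ ω, f ω = f ω₀ + ∑ ω : X, f ω.1 := by
    rw [← Finset.add_sum_erase _ _ (Finset.mem_univ ω₀)]
    congr 1
    refine Finset.sum_bij' (fun ω hω => ⟨ω, (Finset.mem_erase.mp hω).1⟩) (fun ω _ => ω.1) ?_ ?_ ?_ ?_ ?_
    · intro _ _; exact Finset.mem_univ _
    · intro ω _; exact Finset.mem_erase.mpr ⟨ω.2, Finset.mem_univ _⟩
    · intro _ _; rfl
    · intro _ _; rfl
    · intro _ _; rfl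
  have hwσ : w = ∑ x : (P : Subgroup G), ρ (x : G) (-u) := by
    rw [hsum, hw0, hXsum] at hsplit
    simp only [map_neg, Finset.sum_neg_distrib]
    exact eq_neg_of_add_eq_zero_left hsplit.symm
  -- the lattice
  let L : Submodule B V := Submodule.span B (Set.range fun g => ρ g w)
  have hsm : ∀ (g : G) (a : B) (l : V), ρ g (a • l) = a • ρ g l := by
    intro g a l
    have h1 : a • l = ((a : B) : ℂ) • l := (algebraMap_smul ℂ a l).symm
    have h2 : a • ρ g l = ((a : B) : ℂ) • ρ g l := (algebraMap_smul ℂ a (ρ g l)).symm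
    rw [h1, h2, map_smul]
  have hL : ∀ g, ∀ l ∈ L, ρ g l ∈ L := by
    intro g l hl
    induction hl using Submodule.span_induction with
    | mem x hx =>
      obtain ⟨g', rfl⟩ := hx
      refine Submodule.subset_span ⟨g * g', ?_⟩
      simp only [map_mul, Module.End.mul_apply]
    | zero => simp
    | add a b _ _ h1 h2 =>
      rw [map_add]
      exact add_mem h1 h2
    | smul a x _ h1 =>
      rw [hsm]
      exact L.smul_mem a h1
  have hfL : ∀ ω, f ω ∈ L := fun ω => Submodule.subset_span ⟨ω.out, rfl⟩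
  have huL : -u ∈ L := neg_mem (Submodule.sum_mem _ fun θ _ => hfL θ.1)
  have hcard : finrank ℂ V < Fintype.card (P : Subgroup G) := by
    rw [← Nat.card_eq_fintype_card]
    simpa [V] using hd
  have hkey := key_sigma hB (P.isPGroup') (fun x : (P : Subgroup G) => ρ (x : G))
    (by
      intro x y v
      simp [Module.End.mul_apply])
    hcard L (fun x l hl => hL _ l hl) huL
  rw [← hwσ] at hkey
  let 𝔪 := IsLocalRing.maximalIdeal B
  have hst : ∀ g, ∀ l ∈ 𝔪 • L, ρ g l ∈ 𝔪 • L := by
    intro g l hl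
    induction hl using Submodule.smul_induction_on' with
    | smul a ha x hx =>
      rw [hsm]
      exact Submodule.smul_mem_smul ha (hL g x hx)
    | add a b _ _ h1 h2 =>
      rw [map_add]
      exact add_mem h1 h2
  have hle : L ≤ 𝔪 • L := by
    rw [Submodule.span_le]
    rintro _ ⟨g, rfl⟩
    exact hst g w hkey
  have hbot : L = ⊥ := Submodule.eq_bot_of_le_smul_of_le_jacobson_bot 𝔪 L
    (Submodule.fg_span (Set.finite_range _)) hle (IsLocalRing.maximalIdeal_le_jacobson _)
  have hwL : w ∈ L := by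
    refine Submodule.subset_span ⟨1, ?_⟩
    simp
  rw [hbot, Submodule.mem_bot] at hwL
  exact hwL

end main

end Cfsg.Agent.Lib.H3TIP
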