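import Mathlib
import Cfsg.Agent.Lib.H3TIP
import Cfsg.Agent.Lib.CharNormal
import Cfsg.Agent.Lib.CharGlaub5

set_option autoImplicit false

/-! Restriction of characters of small degree to overgroups of the normalizer of a TI Sylow subgroup. -/

namespace Cfsg.Agent.Lib.H3TIP2

open Cfsg Module
open scoped ComplexConjugate Pointwise
open Cfsg.Agent.Lib.CharBasic Cfsg.Agent.Lib.CharOrth Cfsg.Agent.Lib.CharAlg
open Cfsg.Agent.Lib.CharLin Cfsg.Agent.Lib.CharNormal

universe u

variable {G : Type u} [Group G] [Fintype G] {p : ℕ} [hp : Fact p.Prime]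

/-- The trivial character is an irreducible character. -/
theorem one_irr : IsIrrCharacter G (fun _ => (1 : ℂ)) := by
  have := isIrrCharacter_of_hom (1 : G →* ℂˣ)
  simpa using this

theorem inner_H_zero (P : Sylow p G)
    (hTI : ∀ g : G, g ∉ Subgroup.normalizer ((P : Subgroup G) : Set G) →
      (P : Subgroup G) ⊓ (MulAut.conj g • (P : Subgroup G)) = ⊥)
    (H : Subgroup G) [Fintype H] (hH : Subgroup.normalizer ((P : Subgroup G) : Set G) ≤ H)
    {τ : G → ℂ} (hτ : IsIrrCharacter G τ) (hne : τ ≠ fun _ => 1)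
    (hd : ∀ n : ℕ, τ 1 = n → n < Nat.card (P : Subgroup G)) : ∑ h : H, τ h = 0 := by
  classical
  have hτne := IsIrrCharacter.ne_zero hτ
  have hin : classInner τ (fun _ => (1 : ℂ)) = 0 := by
    rw [classInner_irr hτ one_irr, if_neg hne]
  obtain ⟨n, ρ, hρ, hc⟩ := hτ
  subst hc
  have h1n : ρ.character 1 = (n : ℂ) := by
    rw [Representation.char_one]; simp
  have hdn : n < Nat.card (P : Subgroup G) := hd n h1n
  have hn0 : (n : ℂ) ≠ 0 := by
    rw [← h1n]; exact hτne
  let E : (Fin n → ℂ) →ₗ[ℂ] (Fin n → ℂ) := ∑ g, ρ g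
  have hEa : ∀ v, E v = ∑ g, ρ g v := fun v => by simp [E, LinearMap.sum_apply]
  obtain ⟨c, hcE⟩ := schur ρ hρ E (by
    intro g v
    rw [hEa, hEa, map_sum]
    have h1 : ∑ x, ρ x (ρ g v) = ∑ x, ρ (x * g) v := by
      refine Finset.sum_congr rfl fun x _ => ?_
      rw [map_mul, Module.End.mul_apply]
    have h2 : ∑ x, ρ g (ρ x v) = ∑ x, ρ (g * x) v := by
      refine Finset.sum_congr rfl fun x _ => ?_
      rw [map_mul, Module.End.mul_apply]
    have e1 : ∑ x, ρ (x * g) v = ∑ y, ρ y v := Equiv.sum_comp (Equiv.mulRight g) (fun y => ρ y v)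
    have e2 : ∑ x, ρ (g * x) v = ∑ y, ρ y v := Equiv.sum_comp (Equiv.mulLeft g) (fun y => ρ y v)
    rw [h1, h2, e1, e2])
  have htr : LinearMap.trace ℂ _ E = c * n := by
    rw [hcE, map_smul, LinearMap.trace_id]; simp
  have htr2 : LinearMap.trace ℂ _ E = ∑ g, ρ.character g := by
    simp only [E, map_sum]
    rfl
  have hsum0 : ∑ g, ρ.character g = 0 := by
    have h1 := hin
    unfold classInner at h1
    simp only [map_one, mul_one] at h1
    have hG : ((Nat.card G : ℂ))⁻¹ ≠ 0 := inv_ne_zero card_ne_zero_C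
    exact (mul_eq_zero.mp h1).resolve_left hG
  have hc0 : c = 0 := by
    have : c * n = 0 := by rw [← htr, htr2, hsum0]
    exact (mul_eq_zero.mp this).resolve_right hn0
  have hE0 : ∀ v, ∑ g, ρ g v = 0 := by
    intro v
    rw [← hEa, hcE, hc0]; simp
  let F : (Fin n → ℂ) →ₗ[ℂ] (Fin n → ℂ) := ∑ h : H, ρ (h : G)
  have hFa : ∀ v, F v = ∑ h : H, ρ (h : G) v := fun v => by simp [F, LinearMap.sum_apply]
  have hF0 : ∀ v, F v = 0 := by
    intro v
    refine Cfsg.Agent.Lib.H3TIP.no_fixed_vector P hTI H hH ρ hdn (F v) ?_ (hE0 _)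
    intro h₀ hh₀
    rw [hFa, map_sum]
    have h1 : ∀ h : H, ρ h₀ (ρ (h : G) v) = ρ (((⟨h₀, hh₀⟩ : H) * h : H) : G) v := by
      intro h
      show _ = ρ (h₀ * (h : G)) v
      rw [map_mul, Module.End.mul_apply]
    simp only [h1]
    exact Equiv.sum_comp (Equiv.mulLeft (⟨h₀, hh₀⟩ : H)) (fun h : H => ρ (h : G) v)
  have hF00 : F = 0 := LinearMap.ext hF0
  have htrF : LinearMap.trace ℂ _ F = ∑ h : H, ρ.character (h : G) := by
    simp only [F, map_sum]
    rfl
  rw [← htrF, hF00, map_zero]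

/-- The inner product statement. -/
theorem ti_inner (P : Sylow p G)
    (hTI : ∀ g : G, g ∉ Subgroup.normalizer ((P : Subgroup G) : Set G) →
      (P : Subgroup G) ⊓ (MulAut.conj g • (P : Subgroup G)) = ⊥)
    (χ : G → ℂ) (hχ : IsCharacter G χ) (hdeg : charDegree χ ^ 2 ≤ Nat.card (P : Subgroup G))
    (H : Subgroup G) [Fintype H] (hH : Subgroup.normalizer ((P : Subgroup G) : Set G) ≤ H) :
    classInner χ χ = classInner (fun h : H => χ h) (fun h : H => χ h) := by
  classical
  by_cases hχ1 : χ 1 = 0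
  · have h0 := IsCharacter.eq_zero_of_map_one hχ hχ1
    subst h0
    simp [classInner]
  obtain ⟨D, hD⟩ := IsCharacter.map_one_nat hχ
  have hdegD : charDegree χ = D := Cfsg.Agent.Lib.CharGlaub5.charDegree_of_nat hD
  rw [hdegD] at hdeg
  let Θ : G → ℂ := χ * (fun g => conj (χ g))
  have hΘ : IsCharacter G Θ := IsCharacter.mul hχ (IsCharacter.conj hχ)
  have hΘ1 : Θ 1 = ((D ^ 2 : ℕ) : ℂ) := by
    show χ 1 * conj (χ 1) = _
    rw [hD]; simp [sq]
  have hinner : classInner χ χ = classInner Θ (fun _ => 1) := by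
    unfold classInner
    simp [Θ]
  have hinner0 : classInner Θ (fun _ => 1) ≠ 0 := by
    rw [← hinner]
    intro h
    have := eq_zero_of_classInner_self_eq_zero χ h
    rw [this] at hχ1
    exact hχ1 rfl
  have hexp := classFun_eq_sum Θ (classFunction_of_isCharacter hΘ)
  have hkey : ∀ τ : IrrCharacter G, (τ : G → ℂ) ≠ (fun _ => 1) →
      classInner Θ (τ : G → ℂ) * ∑ h : H, (τ : G → ℂ) h = 0 := by
    intro τ hτ1
    by_cases h0 : classInner Θ (τ : G → ℂ) = 0
    · rw [h0, zero_mul]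
    · have hsub := IsCharacter.sub_constituent hΘ τ.2 h0
      have hinn2 : classInner (Θ - (τ : G → ℂ)) (fun _ => 1) ≠ 0 := by
        rw [classInner_sub_left, classInner_irr τ.2 one_irr, if_neg hτ1, sub_zero]
        exact hinner0
      have hsub1 : (Θ - (τ : G → ℂ)) 1 ≠ 0 := by
        intro h
        have := IsCharacter.eq_zero_of_map_one hsub h
        apply hinn2
        rw [this]
        simp [classInner]
      obtain ⟨m, hm⟩ := IsCharacter.map_one_nat hsub
      rw [inner_H_zero P hTI H hH τ.2 hτ1 (by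
        intro n hn
        have h3 : ((D ^ 2 : ℕ) : ℂ) - (n : ℂ) = m := by
          have : (Θ - (τ : G → ℂ)) 1 = Θ 1 - (τ : G → ℂ) 1 := rfl
          rw [hm, hΘ1, hn] at this
          exact this.symm
        have h4 : D ^ 2 = m + n := by
          have : ((D ^ 2 : ℕ) : ℂ) = ((m + n : ℕ) : ℂ) := by
            push_cast
            push_cast at h3
            rw [← h3]; ring
          exact_mod_cast this
        have h5 : m ≠ 0 := by
          intro e
          apply hsub1
          rw [hm, e]; simp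
        omega), mul_zero]
  have hRHS : classInner (fun h : H => χ h) (fun h : H => χ h) =
      ((Nat.card H : ℂ))⁻¹ * ∑ h : H, Θ h := by
    unfold classInner
    rfl
  rw [hRHS, hinner]
  have hsumΘ : ∑ h : H, Θ h = ∑ τ : IrrCharacter G,
      classInner Θ (τ : G → ℂ) * ∑ h : H, (τ : G → ℂ) h := by
    have : ∀ h : H, Θ h = ∑ τ : IrrCharacter G, classInner Θ (τ : G → ℂ) * (τ : G → ℂ) h := by
      intro h
      have h1 := congrFun hexp (h : G)
      rw [Finset.sum_apply] at h1
      simp only [Pi.smul_apply, smul_eq_mul] at h1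
      exact h1
    simp only [this]
    rw [Finset.sum_comm]
    refine Finset.sum_congr rfl fun τ _ => ?_
    rw [Finset.mul_sum]
  let τ₁ : IrrCharacter G := ⟨fun _ => 1, one_irr⟩
  rw [hsumΘ, Finset.sum_eq_single τ₁]
  · have hcard : (Nat.card H : ℂ) ≠ 0 := by
      exact_mod_cast Nat.card_pos.ne'
    have h1 : ∑ h : H, (τ₁ : G → ℂ) h = (Nat.card H : ℂ) := by
      show ∑ h : H, (1 : ℂ) = _
      simp [Nat.card_eq_fintype_card]
    rw [h1]
    show _ = _ * (classInner Θ (fun _ => 1) * (Nat.card H : ℂ))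
    field_simp
  · intro τ _ hτ
    refine hkey τ ?_
    intro e
    exact hτ (Subtype.ext e)
  · intro h; exact absurd (Finset.mem_univ _) h

end Cfsg.Agent.Lib.H3TIP2
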