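import Mathlib
import Cfsg.Agent.Lib.H3Gal
import Cfsg.Agent.Lib.H3TIP2
import Cfsg.Agent.Lib.CharGlaub8

set_option autoImplicit false
set_option linter.unusedSectionVars false

/-! Groups whose Sylow subgroup has all its elements with the same centralizer: exceptional families. -/

namespace Cfsg.Agent.Lib.H3Exc

open Cfsg Module
open scoped ComplexConjugate Pointwise
open Cfsg.Agent.Lib.CharBasic Cfsg.Agent.Lib.CharOrth Cfsg.Agent.Lib.CharAlg
open Cfsg.Agent.Lib.CharLin Cfsg.Agent.Lib.CharInd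

universe u

section grp

variable {G : Type u} [Group G] {p : ℕ} [hp : Fact p.Prime] (P : Sylow p G)

/-- The centralizer of the Sylow subgroup. -/
abbrev CC : Subgroup G := Subgroup.centralizer ((P : Subgroup G) : Set G)

/-- The normalizer of the Sylow subgroup. -/
abbrev NN : Subgroup G := Subgroup.normalizer ((P : Subgroup G) : Set G)

/-- The Sylow subgroup inside its centralizer. -/
abbrev PC : Subgroup (CC P) := (P : Subgroup G).subgroupOf (CC P)

/-- The centralizer hypothesis. -/
def Star : Prop := ∀ x ∈ (P : Subgroup G), x ≠ 1 →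
  Subgroup.centralizer ({x} : Set G) = CC P

variable {P}

theorem star_comm (hS : Star P) {x y : G} (hx : x ∈ (P : Subgroup G)) (hy : y ∈ (P : Subgroup G)) :
    x * y = y * x := by
  by_cases hx1 : x = 1
  · rw [hx1]; simp
  · have h1 : x ∈ Subgroup.centralizer ({x} : Set G) := by
      rw [Subgroup.mem_centralizer_singleton_iff]
    rw [hS x hx hx1] at h1
    exact (Subgroup.mem_centralizer_iff.mp h1 y hy).symm

theorem P_le_CC (hS : Star P) : (P : Subgroup G) ≤ CC P := by
  intro x hx
  rw [Subgroup.mem_centralizer_iff]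
  intro y hy
  exact star_comm hS hy hx

theorem CC_le_NN : CC P ≤ NN P := by
  intro g hg
  rw [Subgroup.mem_normalizer_iff]
  intro h
  have h1 : g * h * g⁻¹ = h ∨ h ∉ (P : Subgroup G) := by
    by_cases hh : h ∈ (P : Subgroup G)
    · left
      have := Subgroup.mem_centralizer_iff.mp hg h hh
      rw [← this]; group
    · right; exact hh
  constructor
  · intro hh
    rcases h1 with h2 | h2
    · rw [h2]; exact hh
    · exact absurd hh h2
  · intro hh
    have h3 : g⁻¹ ∈ CC P := inv_mem hg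
    have h5 := Subgroup.mem_centralizer_iff.mp h3 _ hh
    have h4 : g⁻¹ * (g * h * g⁻¹) = h * g⁻¹ := by group
    rw [h4] at h5
    have h6 : h = g * h * g⁻¹ := (mul_right_cancel h5).symm
    rw [h6]; exact hh

theorem mem_CC_of_fix (hS : Star P) {x g : G} (hx : x ∈ (P : Subgroup G)) (hx1 : x ≠ 1)
    (hc : g * x = x * g) : g ∈ CC P := by
  rw [← hS x hx hx1, Subgroup.mem_centralizer_singleton_iff]
  exact hc

section fin

variable [Finite G]

theorem mem_normalizer_of_conj {g : G} (h : ∀ z ∈ (P : Subgroup G), g * z * g⁻¹ ∈ (P : Subgroup G)) :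
    g ∈ NN P := by
  have hinj : Function.Injective (fun y : (P : Subgroup G) =>
      (⟨g * y * g⁻¹, h y y.2⟩ : (P : Subgroup G))) := by
    intro a b hab
    have := congrArg Subtype.val hab
    simp only at this
    exact Subtype.ext (by simpa using this)
  have hsurj := Finite.injective_iff_surjective.mp hinj
  rw [Subgroup.mem_normalizer_iff]
  intro y
  refine ⟨fun hy => h y hy, fun hy => ?_⟩
  obtain ⟨z, hz⟩ := hsurj ⟨_, hy⟩
  have h6 : g * (z : G) * g⁻¹ = g * y * g⁻¹ := congrArg Subtype.val hz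
  have h7 : (z : G) = y := by simpa using h6
  rw [← h7]; exact z.2

/-- A `p`-element of the normalizer lies in `P`. -/
theorem mem_P_of_pelt {z : G} (hz : z ∈ NN P) (hzp : IsPGroup p (Subgroup.zpowers z)) :
    z ∈ (P : Subgroup G) := by
  have hle : Subgroup.zpowers z ≤ NN P := Subgroup.zpowers_le.mpr hz
  have h1 : IsPGroup p (Subgroup.zpowers z ⊔ (P : Subgroup G) : Subgroup G) :=
    hzp.to_sup_of_normal_right' P.isPGroup' hle
  have h2 := P.is_maximal' h1 le_sup_right
  rw [← h2]
  exact Subgroup.mem_sup_left (Subgroup.mem_zpowers z)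

theorem ti_star (hS : Star P) {x g : G} (hx : x ∈ (P : Subgroup G)) (hx1 : x ≠ 1)
    (hy : g⁻¹ * x * g ∈ (P : Subgroup G)) : g ∈ NN P := by
  refine mem_normalizer_of_conj fun z hz => ?_
  have h1 : g * z * g⁻¹ * x = x * (g * z * g⁻¹) := by
    have h2 := star_comm hS hz hy
    have h3 : g * z * g⁻¹ * x = g * (z * (g⁻¹ * x * g)) * g⁻¹ := by group
    rw [h3, h2]; group
  have h4 : g * z * g⁻¹ ∈ CC P := mem_CC_of_fix hS hx hx1 h1
  have hzp : IsPGroup p (Subgroup.zpowers (g * z * g⁻¹)) := by
    have hz' : IsPGroup p (Subgroup.zpowers z) := P.isPGroup'.to_le (Subgroup.zpowers_le.mpr hz)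
    have := hz'.map (MulAut.conj g).toMonoidHom
    rw [MonoidHom.map_zpowers] at this
    exact this
  exact mem_P_of_pelt (CC_le_NN h4) hzp

/-- The projection onto `P`. -/
theorem exists_proj (hS : Star P) : ∃ (π : CC P →* PC P) (q : ℕ), (∀ z : PC P, π z = z) ∧
    Nat.Coprime q p ∧ ∀ y : CC P, y ^ q = ((π y : PC P) : CC P) ^ q := by
  classical
  have hle := P_le_CC hS
  let S : Sylow p (CC P) := P.subtype hle
  have hSc : (S : Subgroup (CC P)) = PC P := rfl
  have hcen : ∀ y : CC P, ∀ z ∈ (S : Subgroup (CC P)), y * z = z * y := by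
    intro y z hz
    apply Subtype.ext
    have h1 : ((z : CC P) : G) ∈ (P : Subgroup G) := hz
    exact (Subgroup.mem_centralizer_iff.mp y.2 _ h1).symm
  have hnc : Subgroup.normalizer ((S : Subgroup (CC P)) : Set (CC P)) ≤
      Subgroup.centralizer ((S : Subgroup (CC P)) : Set (CC P)) := by
    intro y _
    rw [Subgroup.mem_centralizer_iff]
    intro z hz
    exact (hcen y z hz).symm
  have hcomp : Subgroup.IsComplement' (MonoidHom.transferSylow S hnc).ker (PC P) :=
    MonoidHom.ker_transferSylow_isComplement' S hnc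
  set K₀ := (MonoidHom.transferSylow S hnc).ker with hK₀
  haveI : K₀.Normal := MonoidHom.normal_ker _
  have hinf : K₀ ⊓ (PC P) = ⊥ := hcomp.disjoint.eq_bot
  have hdec : ∀ g : CC P, ∃ m ∈ K₀, ∃ h ∈ (PC P), g = m * h := by
    intro g
    obtain ⟨⟨m, h⟩, e⟩ := hcomp.2 g
    exact ⟨m, m.2, h, h.2, e.symm⟩
  obtain ⟨π, hπ1, hπ2⟩ := Cfsg.Agent.Lib.CharGlaub8.proj_of_compl K₀ (PC P) hinf hdec
  refine ⟨π, Nat.card K₀, hπ2, ?_, ?_⟩
  · have h1 : (PC P).index = Nat.card K₀ := hcomp.index_eq_card
    rw [← h1]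
    have h2 : ¬ p ∣ (PC P).index := S.not_dvd_index
    exact ((Nat.Prime.coprime_iff_not_dvd hp.out).mpr h2).symm
  · intro y
    obtain ⟨m, hm, h, hh, rfl⟩ := hdec y
    have h1 : π (m * h) = ⟨h, hh⟩ := by
      rw [map_mul, hπ1 m hm, one_mul]
      exact hπ2 ⟨h, hh⟩
    rw [h1]
    have hcm : Commute m h := hcen m h hh
    rw [hcm.mul_pow]
    have : m ^ Nat.card K₀ = 1 := by
      have := pow_card_eq_one' (G := K₀) (x := ⟨m, hm⟩)
      exact congrArg Subtype.val this
    rw [this, one_mul]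

/-- The key fusion statement. -/
theorem fusion_S (hS : Star P) {π : CC P →* PC P} {q : ℕ} (hc : Nat.Coprime q p)
    (hq : ∀ y : CC P, y ^ q = ((π y : PC P) : CC P) ^ q) {y : CC P} (hy : π y ≠ 1) {g : G}
    (hg : g * (y : G) * g⁻¹ ∈ NN P) : g ∈ NN P := by
  have hzP : (((π y : PC P) : CC P) : G) ∈ (P : Subgroup G) := (π y).2
  set z : G := (((π y : PC P) : CC P) : G) with hz
  have hz1 : z ≠ 1 := by
    intro h
    apply hy
    exact Subtype.ext (Subtype.ext h)
  have hyq : (y : G) ^ q = z ^ q := by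
    have := congrArg Subtype.val (hq y)
    simpa using this
  have hxP : z ^ q ∈ (P : Subgroup G) := pow_mem hzP q
  have hx1 : z ^ q ≠ 1 := by
    intro h
    obtain ⟨k, hk⟩ := P.isPGroup' ⟨z, hzP⟩
    have hk' : z ^ p ^ k = 1 := congrArg Subtype.val hk
    have h2 : Nat.Coprime q (p ^ k) := Nat.Coprime.pow_right k hc
    have h3 := (pow_gcd_eq_one (a := z)).mpr ⟨h, hk'⟩
    rw [h2.gcd_eq_one, pow_one] at h3
    exact hz1 h3
  have h5 : g * z ^ q * g⁻¹ = (g * (y : G) * g⁻¹) ^ q := by
    rw [conj_pow, hyq]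
  have h6 : g * z ^ q * g⁻¹ ∈ NN P := by
    rw [h5]; exact pow_mem hg q
  have hzp : IsPGroup p (Subgroup.zpowers (g * z ^ q * g⁻¹)) := by
    have hz' : IsPGroup p (Subgroup.zpowers (z ^ q)) := P.isPGroup'.to_le (Subgroup.zpowers_le.mpr hxP)
    have := hz'.map (MulAut.conj g).toMonoidHom
    rw [MonoidHom.map_zpowers] at this
    exact this
  have h7 := mem_P_of_pelt h6 hzp
  have h8 : g⁻¹ ∈ NN P := by
    refine ti_star hS hxP hx1 ?_
    simpa using h7
  simpa using inv_mem h8

end fin

end grp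

section chars

variable {G : Type u} [Group G] [Fintype G] {p : ℕ} [hp : Fact p.Prime] {P : Sylow p G}

/-- Conjugating a function on the centralizer. -/
noncomputable def cj (g : G) (u : CC P → ℂ) : CC P → ℂ :=
  fun y => extendByZero (CC P) u (g⁻¹ * y * g)

theorem cj_add (g : G) (u v : CC P → ℂ) : cj g (u + v) = cj g u + cj g v := by
  funext y
  simp only [cj, Pi.add_apply]
  by_cases h : g⁻¹ * (y : G) * g ∈ CC P
  · simp only [extendByZero_of_mem _ _ h, Pi.add_apply]
  · simp only [extendByZero_of_not_mem _ _ h, add_zero]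

theorem cj_sub (g : G) (u v : CC P → ℂ) : cj g (u - v) = cj g u - cj g v := by
  funext y
  simp only [cj, Pi.sub_apply]
  by_cases h : g⁻¹ * (y : G) * g ∈ CC P
  · simp only [extendByZero_of_mem _ _ h, Pi.sub_apply]
  · simp only [extendByZero_of_not_mem _ _ h, sub_zero]

variable [Fintype (CC P)] [Fintype (NN P)]

/-- The pairing. -/
noncomputable def Pair (u v : CC P → ℂ) : ℂ :=
  (Nat.card (CC P) : ℂ)⁻¹ * ∑ g : NN P, classInner u (cj (g : G) v)

theorem Pair_sub_left (a b c : CC P → ℂ) : Pair (a - b) c = Pair a c - Pair b c := by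
  simp only [Pair, classInner_sub_left, Finset.sum_sub_distrib, mul_sub]

theorem Pair_sub_right (a b c : CC P → ℂ) : Pair a (b - c) = Pair a b - Pair a c := by
  simp only [Pair, cj_sub, classInner_sub_right, Finset.sum_sub_distrib, mul_sub]

/-- The restriction formula. -/
theorem ind_res (hS : Star P) {π : CC P →* PC P} {q : ℕ} (hc : Nat.Coprime q p)
    (hq : ∀ y : CC P, y ^ q = ((π y : PC P) : CC P) ^ q) (v : CC P → ℂ)
    (hv : ∀ y : CC P, π y = 1 → v y = 0) (y : CC P) :
    indFun (CC P) v y = (Nat.card (CC P) : ℂ)⁻¹ * ∑ g : NN P, cj (g : G) v y := by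
  classical
  rw [indFun_apply]
  congr 1
  have h0 : ∀ x : G, x ∉ NN P → extendByZero (CC P) v (x⁻¹ * y * x) = 0 := by
    intro x hx
    by_cases h1 : x⁻¹ * (y : G) * x ∈ CC P
    · rw [extendByZero_of_mem _ _ h1]
      apply hv
      by_contra h2
      apply hx
      refine fusion_S hS hc hq h2 ?_
      have : x * (x⁻¹ * (y : G) * x) * x⁻¹ = y := by group
      show x * ((⟨x⁻¹ * (y : G) * x, h1⟩ : CC P) : G) * x⁻¹ ∈ NN P
      simp only [this]
      exact CC_le_NN y.2
    · exact extendByZero_of_not_mem _ _ h1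
  have h1 : ∑ x : G, extendByZero (CC P) v (x⁻¹ * y * x) =
      ∑ x ∈ Finset.univ.filter (· ∈ NN P), extendByZero (CC P) v (x⁻¹ * y * x) := by
    symm
    apply Finset.sum_filter_of_ne
    intro x _ hne
    by_contra hx
    exact hne (h0 x hx)
  rw [h1, Finset.sum_subtype (p := fun x => x ∈ NN P) (Finset.univ.filter (· ∈ NN P)) (by simp)
    (fun x => extendByZero (CC P) v (x⁻¹ * y * x))]
  rfl

/-- The isometry. -/
theorem iso (hS : Star P) {π : CC P →* PC P} {q : ℕ} (hc : Nat.Coprime q p)
    (hq : ∀ y : CC P, y ^ q = ((π y : PC P) : CC P) ^ q) (u v : CC P → ℂ)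
    (hv : ∀ y : CC P, π y = 1 → v y = 0) :
    classInner (indFun (CC P) u) (indFun (CC P) v) = Pair u v := by
  rw [frobenius (CC P) u _ (indFun_classFunction _ _)]
  have h1 : (fun h : CC P => indFun (CC P) v h) =
      (Nat.card (CC P) : ℂ)⁻¹ • ∑ g : NN P, cj (g : G) v := by
    funext y
    rw [ind_res hS hc hq v hv y]
    simp only [Pi.smul_apply, Finset.sum_apply, smul_eq_mul]
  rw [h1, classInner_smul_right, classInner_sum_right]
  simp [Pair]

end chars

section atoms

variable {G : Type u} [Group G] [Fintype G] {p : ℕ} [hp : Fact p.Prime] {P : Sylow p G}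

/-- Transformation under the Sylow subgroup. -/
def HasCh (f : CC P → ℂ) (θ : PC P →* ℂˣ) : Prop :=
  ∀ (z : PC P) (c : CC P), f ((z : CC P) * c) = (θ z : ℂ) * f c

theorem hom_mul_conj {A : Type*} [Group A] [Finite A] (θ : A →* ℂˣ) (z : A) :
    (θ z : ℂ) * conj (θ z : ℂ) = 1 := by
  have h1 : ((θ z : ℂˣ) : ℂ) ^ Nat.card A = 1 := by
    rw [← Units.val_pow_eq_pow_val, ← map_pow, pow_card_eq_one']; simp
  have h2 : ‖((θ z : ℂˣ) : ℂ)‖ = 1 :=
    Complex.norm_eq_one_of_pow_eq_one h1 Nat.card_pos.ne'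
  rw [Complex.mul_conj, Complex.normSq_eq_norm_sq, h2]; simp

theorem inner_zero_of_ne [Fintype (CC P)] {f h : CC P → ℂ} {θ θ' : PC P →* ℂˣ}
    (hf : HasCh f θ) (hh : HasCh h θ') (hne : θ ≠ θ') : classInner f h = 0 := by
  classical
  obtain ⟨z, hz⟩ : ∃ z, θ z ≠ θ' z := by
    by_contra hno
    push Not at hno
    exact hne (MonoidHom.ext hno)
  by_contra hin
  have hne' : ∑ c : CC P, f c * conj (h c) ≠ 0 := by
    intro h0
    apply hin
    unfold classInner
    rw [h0, mul_zero]
  have hs : ∑ c : CC P, f c * conj (h c) =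
      ((θ z : ℂ) * conj (θ' z : ℂ)) * ∑ c : CC P, f c * conj (h c) := by
    conv_lhs => rw [← Equiv.sum_comp (Equiv.mulLeft (z : CC P))]
    rw [Finset.mul_sum]
    refine Finset.sum_congr rfl fun c _ => ?_
    simp only [Equiv.coe_mulLeft]
    rw [hf z c, hh z c, map_mul]
    ring
  have h0 : ((θ z : ℂ) * conj (θ' z : ℂ)) * ∑ c : CC P, f c * conj (h c) =
      1 * ∑ c : CC P, f c * conj (h c) := by
    rw [one_mul]; exact hs.symm
  have h1 := mul_right_cancel₀ hne' h0
  apply hz
  have h2 := hom_mul_conj θ' z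
  have h3 : (θ z : ℂ) = (θ' z : ℂ) := by
    have h4 : conj ((θ' z : ℂˣ) : ℂ) ≠ 0 := by
      intro e; rw [e, mul_zero] at h2; exact zero_ne_one h2
    apply mul_right_cancel₀ h4
    rw [h1, h2]
  exact Units.ext h3

theorem conj_mem_P {g : G} (hg : g ∈ NN P) {z : G} (hz : z ∈ (P : Subgroup G)) :
    g⁻¹ * z * g ∈ (P : Subgroup G) := by
  have h1 : g⁻¹ ∈ NN P := inv_mem hg
  have := (Subgroup.mem_normalizer_iff.mp h1 z).mp hz
  simpa using this

theorem conj_mem_CC {g : G} (hg : g ∈ NN P) {c : G} (hc : c ∈ CC P) : g⁻¹ * c * g ∈ CC P := by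
  rw [Subgroup.mem_centralizer_iff]
  intro z hz
  have h1 : g * z * g⁻¹ ∈ (P : Subgroup G) := (Subgroup.mem_normalizer_iff.mp hg z).mp hz
  have h2 := Subgroup.mem_centralizer_iff.mp hc _ h1
  calc z * (g⁻¹ * c * g) = g⁻¹ * ((g * z * g⁻¹) * c) * g := by group
    _ = g⁻¹ * (c * (g * z * g⁻¹)) * g := by rw [h2]
    _ = g⁻¹ * c * g * z := by group

/-- The conjugation action on the Sylow subgroup inside the centralizer. -/
noncomputable def cP (hS : Star P) (g : NN P) : PC P →* PC P where
  toFun z := ⟨⟨(g : G)⁻¹ * ((z : CC P) : G) * g, P_le_CC hS (conj_mem_P g.2 z.2)⟩, conj_mem_P g.2 z.2⟩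
  map_one' := by
    apply Subtype.ext
    apply Subtype.ext
    simp
  map_mul' a b := by
    apply Subtype.ext
    apply Subtype.ext
    show (g : G)⁻¹ * (((a : CC P) : G) * ((b : CC P) : G)) * g =
      ((g : G)⁻¹ * ((a : CC P) : G) * g) * ((g : G)⁻¹ * ((b : CC P) : G) * g)
    group

theorem cP_coe (hS : Star P) (g : NN P) (z : PC P) :
    (((cP hS g z : PC P) : CC P) : G) = (g : G)⁻¹ * ((z : CC P) : G) * g := rfl

theorem hasCh_cj (hS : Star P) {f : CC P → ℂ} {θ : PC P →* ℂˣ} (hf : HasCh f θ) (g : NN P) :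
    HasCh (cj (g : G) f) (θ.comp (cP hS g)) := by
  intro z c
  have hc' : (g : G)⁻¹ * (c : G) * g ∈ CC P := conj_mem_CC g.2 c.2
  have h1 : (g : G)⁻¹ * (((z : CC P) * c : CC P) : G) * g ∈ CC P :=
    conj_mem_CC g.2 ((z : CC P) * c).2
  show extendByZero (CC P) f _ = _ * extendByZero (CC P) f _
  rw [extendByZero_of_mem _ _ h1, extendByZero_of_mem _ _ hc']
  have h2 : (⟨(g : G)⁻¹ * (((z : CC P) * c : CC P) : G) * g, h1⟩ : CC P) =
      ((cP hS g z : PC P) : CC P) * ⟨(g : G)⁻¹ * (c : G) * g, hc'⟩ := by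
    apply Subtype.ext
    show (g : G)⁻¹ * (((z : CC P) : G) * (c : G)) * g =
      ((g : G)⁻¹ * ((z : CC P) : G) * g) * ((g : G)⁻¹ * (c : G) * g)
    group
  rw [h2, hf]
  rfl

theorem cj_of_mem {f : CC P → ℂ} (hf : IsClassFunction (CC P) f) {g : G} (hg : g ∈ CC P) :
    cj g f = f := by
  funext y
  have h1 : g⁻¹ * (y : G) * g ∈ CC P := mul_mem (mul_mem (inv_mem hg) y.2) hg
  show extendByZero (CC P) f _ = _
  rw [extendByZero_of_mem _ _ h1]
  have := hf y (⟨g, hg⟩ : CC P)⁻¹
  rw [← this]
  congr 1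
  apply Subtype.ext
  simp

/-- The action on nontrivial characters of `P` is free modulo the centralizer. -/
theorem comp_cP_ne (hS : Star P) {θ : PC P →* ℂˣ} (hθ : θ ≠ 1) {g : NN P} (hg : (g : G) ∉ CC P) :
    θ.comp (cP hS g) ≠ θ := by
  intro e
  apply hθ
  have hcomm : ∀ a b : PC P, a * b = b * a := by
    intro a b
    apply Subtype.ext
    apply Subtype.ext
    exact star_comm hS a.2 b.2
  let φ : PC P → PC P := fun z => z⁻¹ * cP hS g z
  have hinj : Function.Injective φ := by
    intro a b hab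
    by_contra hne
    have h1 : a * b⁻¹ ≠ 1 := fun h => hne (mul_inv_eq_one.mp h)
    have h2 : cP hS g (a * b⁻¹) = a * b⁻¹ := by
      have h3 : a⁻¹ * cP hS g a = b⁻¹ * cP hS g b := hab
      rw [map_mul, map_inv]
      have h4 : cP hS g a = a * (b⁻¹ * cP hS g b) := by
        rw [← h3]; group
      rw [h4]
      group
    -- `g` centralizes `a * b⁻¹`
    set w := a * b⁻¹ with hw
    have h5 : (g : G)⁻¹ * ((w : CC P) : G) * g = ((w : CC P) : G) := by
      rw [← cP_coe hS g w, h2]
    have h6 : (g : G) * ((w : CC P) : G) = ((w : CC P) : G) * g := by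
      have : ((w : CC P) : G) * g = g * ((g : G)⁻¹ * ((w : CC P) : G) * g) := by group
      rw [this, h5]
    have h7 : ((w : CC P) : G) ≠ 1 := fun h => h1 (Subtype.ext (Subtype.ext h))
    exact hg (mem_CC_of_fix hS w.2 h7 h6)
  have hsurj := Finite.injective_iff_surjective.mp hinj
  apply MonoidHom.ext
  intro z
  obtain ⟨y, rfl⟩ := hsurj z
  have h1 : θ (cP hS g y) = θ y := DFunLike.congr_fun e y
  show θ (y⁻¹ * cP hS g y) = 1
  rw [map_mul, map_inv, h1, inv_mul_cancel]

variable [Fintype (CC P)] [Fintype (NN P)]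

open Classical in
theorem sum_ite_CC (a : ℂ) : ∑ g : NN P, (if ((g : G) ∈ CC P) then a else 0) = (Nat.card (CC P) : ℂ) * a := by
  classical
  rw [Finset.sum_ite, Finset.sum_const_zero, add_zero, Finset.sum_const, nsmul_eq_mul]
  congr 1
  have : (Finset.univ.filter fun g : NN P => (g : G) ∈ CC P).card = Nat.card (CC P) := by
    rw [← Fintype.card_subtype, ← Nat.card_eq_fintype_card]
    refine Nat.card_congr ⟨fun g => ⟨g.1.1, g.2⟩, fun c => ⟨⟨c.1, CC_le_NN c.2⟩, c.2⟩, fun _ => rfl, fun _ => rfl⟩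
  exact_mod_cast this

theorem pair_same (hS : Star P) {f h : CC P → ℂ} {θ : PC P →* ℂˣ} (hf : HasCh f θ) (hh : HasCh h θ)
    (hθ : θ ≠ 1) (hc : IsClassFunction (CC P) h) : Pair f h = classInner f h := by
  classical
  unfold Pair
  have h1 : ∀ g : NN P, classInner f (cj (g : G) h) = if ((g : G) ∈ CC P) then classInner f h else 0 := by
    intro g
    split_ifs with hg
    · rw [cj_of_mem hc hg]
    · exact inner_zero_of_ne hf (hasCh_cj hS hh g) (comp_cP_ne hS hθ hg).symm
  simp only [h1]
  rw [sum_ite_CC, ← mul_assoc, inv_mul_cancel₀ (by exact_mod_cast Nat.card_pos.ne'), one_mul]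

theorem pair_zero (hS : Star P) {f h : CC P → ℂ} {θ θ' : PC P →* ℂˣ} (hf : HasCh f θ) (hh : HasCh h θ')
    (hne : ∀ g : NN P, θ ≠ θ'.comp (cP hS g)) : Pair f h = 0 := by
  unfold Pair
  rw [Finset.sum_eq_zero, mul_zero]
  intro g _
  exact inner_zero_of_ne hf (hasCh_cj hS hh g) (hne g)

theorem cj_one {g : G} (hg : g ∈ NN P) : cj g (fun _ => (1 : ℂ)) = (fun _ : CC P => (1 : ℂ)) := by
  funext y
  show extendByZero (CC P) _ _ = _
  rw [extendByZero_of_mem _ _ (conj_mem_CC hg y.2)]

theorem pair_one : Pair (fun _ : CC P => (1 : ℂ)) (fun _ : CC P => (1 : ℂ)) =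
    (Nat.card (CC P) : ℂ)⁻¹ * Nat.card (NN P) := by
  unfold Pair
  congr 1
  have h1 : ∀ g : NN P, classInner (fun _ : CC P => (1 : ℂ)) (cj (g : G) (fun _ : CC P => (1 : ℂ))) = 1 := by
    intro g
    rw [cj_one g.2]
    exact classInner_irr_self (Cfsg.Agent.Lib.H3TIP2.one_irr)
  simp only [h1]
  simp [Nat.card_eq_fintype_card]

end atoms

section orbits

/-- Orbit representatives. -/
theorem orbit_reps {N X : Type*} [Group N] [Fintype N] [MulAction N X] [DecidableEq X] (e : ℕ) :
    ∀ (m : ℕ) (A : Finset X), A.card = m → (∀ g : N, ∀ x ∈ A, g • x ∈ A) →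
      (∀ x ∈ A, (Finset.univ.image fun g : N => g • x).card = e) →
      ∃ R ⊆ A, (∀ η ∈ R, ∀ η' ∈ R, ∀ g : N, η = g • η' → η = η') ∧
        ∀ B ⊆ A, (∀ g : N, ∀ x ∈ B, g • x ∈ B) → B.card = e * (B ∩ R).card := by
  intro m
  induction m using Nat.strong_induction_on with
  | _ m ih =>
    intro A hm hinv horb
    by_cases hA : A.Nonempty
    · obtain ⟨x, hx⟩ := hA
      set O := Finset.univ.image fun g : N => g • x with hO
      have hOA : O ⊆ A := by
        intro y hy
        obtain ⟨g, -, rfl⟩ := Finset.mem_image.mp hy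
        exact hinv g x hx
      have hxO : x ∈ O := Finset.mem_image.mpr ⟨1, Finset.mem_univ _, one_smul _ _⟩
      have hOpos : 0 < O.card := Finset.card_pos.mpr ⟨x, hxO⟩
      have hinvO : ∀ g : N, ∀ y, g • y ∈ O ↔ y ∈ O := by
        intro g y
        constructor
        · intro h
          obtain ⟨k, -, hk⟩ := Finset.mem_image.mp h
          refine Finset.mem_image.mpr ⟨g⁻¹ * k, Finset.mem_univ _, ?_⟩
          rw [mul_smul, hk, inv_smul_smul]
        · intro h
          obtain ⟨k, -, rfl⟩ := Finset.mem_image.mp h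
          refine Finset.mem_image.mpr ⟨g * k, Finset.mem_univ _, mul_smul _ _ _⟩
      have hcard : (A \ O).card < m := by
        rw [Finset.card_sdiff_of_subset hOA, hm]
        have := Finset.card_le_card hOA
        omega
      obtain ⟨R', hR'A, hsep, hcount⟩ := ih _ hcard (A \ O) rfl (by
        intro g y hy
        rw [Finset.mem_sdiff] at hy ⊢
        exact ⟨hinv g y hy.1, fun h => hy.2 ((hinvO g y).mp h)⟩) (fun y hy =>
          horb y (Finset.mem_sdiff.mp hy).1)
      have hxR' : x ∉ R' := fun h => (Finset.mem_sdiff.mp (hR'A h)).2 hxO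
      refine ⟨insert x R', ?_, ?_, ?_⟩
      · intro y hy
        rcases Finset.mem_insert.mp hy with rfl | h
        · exact hx
        · exact (Finset.mem_sdiff.mp (hR'A h)).1
      · intro η hη η' hη' g e'
        rcases Finset.mem_insert.mp hη with rfl | h1 <;> rcases Finset.mem_insert.mp hη' with rfl | h2
        · rfl
        · exfalso
          have h3 : η' ∈ O := (hinvO g η').mp (by rw [← e']; exact hxO)
          exact (Finset.mem_sdiff.mp (hR'A h2)).2 h3
        · exfalso
          have h3 : η ∈ O := by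
            rw [e']; exact (hinvO g _).mpr hxO
          exact (Finset.mem_sdiff.mp (hR'A h1)).2 h3
        · exact hsep η h1 η' h2 g e'
      · intro B hBA hBinv
        have hBO : (B \ O) ⊆ A \ O := by
          intro y hy
          rw [Finset.mem_sdiff] at hy ⊢
          exact ⟨hBA hy.1, hy.2⟩
        have h1 := hcount (B \ O) hBO (by
          intro g y hy
          rw [Finset.mem_sdiff] at hy ⊢
          exact ⟨hBinv g y hy.1, fun h => hy.2 ((hinvO g y).mp h)⟩)
        have h2 : (B \ O) ∩ R' = B ∩ R' := by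
          ext y
          simp only [Finset.mem_inter, Finset.mem_sdiff]
          constructor
          · rintro ⟨⟨a, -⟩, b⟩; exact ⟨a, b⟩
          · rintro ⟨a, b⟩; exact ⟨⟨a, (Finset.mem_sdiff.mp (hR'A b)).2⟩, b⟩
        rw [h2] at h1
        by_cases hxB : x ∈ B
        · have hOB : O ⊆ B := by
            intro y hy
            obtain ⟨g, -, rfl⟩ := Finset.mem_image.mp hy
            exact hBinv g x hxB
          have h3 : B.card = O.card + (B \ O).card := by
            rw [Finset.card_sdiff_of_subset hOB]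
            have := Finset.card_le_card hOB
            omega
          have h4 : B ∩ insert x R' = insert x (B ∩ R') := by
            ext y
            simp only [Finset.mem_inter, Finset.mem_insert]
            constructor
            · rintro ⟨a, rfl | b⟩
              · left; rfl
              · right; exact ⟨a, b⟩
            · rintro (rfl | ⟨a, b⟩)
              · exact ⟨hxB, Or.inl rfl⟩
              · exact ⟨a, Or.inr b⟩
          rw [h4, Finset.card_insert_of_notMem (fun h => hxR' (Finset.mem_inter.mp h).2), h3, h1,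
            horb x hx]
          ring
        · have hOB : Disjoint O B := by
            rw [Finset.disjoint_left]
            intro y hy hyB
            obtain ⟨g, -, rfl⟩ := Finset.mem_image.mp hy
            apply hxB
            have := hBinv g⁻¹ _ hyB
            rwa [inv_smul_smul] at this
          have h3 : B \ O = B := Finset.sdiff_eq_self_of_disjoint hOB.symm
          have h4 : B ∩ insert x R' = B ∩ R' := by
            ext y
            simp only [Finset.mem_inter, Finset.mem_insert]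
            constructor
            · rintro ⟨a, rfl | b⟩
              · exact absurd a hxB
              · exact ⟨a, b⟩
            · rintro ⟨a, b⟩
              exact ⟨a, Or.inr b⟩
          rw [h4]
          rw [h3] at h1
          exact h1
    · rw [Finset.not_nonempty_iff_eq_empty] at hA
      refine ⟨∅, by simp, by simp, ?_⟩
      intro B hB _
      have : B = ∅ := by
        rw [hA] at hB
        exact Finset.subset_empty.mp hB
      simp [this]

end orbits

end Cfsg.Agent.Lib.H3Exc
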