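import Mathlib
import Cfsg.Agent.Lib.H3Exc

set_option autoImplicit false
set_option linter.unusedSectionVars false

/-! The main norm computation for exceptional families. -/

namespace Cfsg.Agent.Lib.H3Exc

open Cfsg Module
open scoped ComplexConjugate Pointwise
open Cfsg.Agent.Lib.CharBasic Cfsg.Agent.Lib.CharOrth Cfsg.Agent.Lib.CharAlg
open Cfsg.Agent.Lib.CharLin Cfsg.Agent.Lib.CharInd Cfsg.Agent.Lib.CharNormal

universe u

variable {G : Type u} [Group G] [Fintype G] {p : ℕ} [hp : Fact p.Prime] {P : Sylow p G}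

theorem comp_ne_one (hS : Star P) {θ : PC P →* ℂˣ} (hθ : θ ≠ 1) (g : NN P) :
    θ.comp (cP hS g) ≠ 1 := by
  intro e
  apply hθ
  apply MonoidHom.ext
  intro z
  have h1 : cP hS g (cP hS g⁻¹ z) = z := by
    apply Subtype.ext
    apply Subtype.ext
    show (g : G)⁻¹ * (((g⁻¹ : NN P) : G)⁻¹ * ((z : CC P) : G) * ((g⁻¹ : NN P) : G)) * g = _
    simp only [InvMemClass.coe_inv, inv_inv]
    group
  have h2 := DFunLike.congr_fun e (cP hS g⁻¹ z)
  simp only [MonoidHom.comp_apply, h1] at h2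
  exact h2

section inner

variable [Fintype (CC P)] [Fintype (PC P)]

theorem a_ne_zero_of_inner {ξC T : CC P → ℂ} {ζ : PC P →* ℂˣ} (hξC : IsCharacter (CC P) ξC)
    (hT : IsIrrCharacter (CC P) T) (hTζ : HasCh T ζ) (h : classInner ξC T ≠ 0) :
    classInner (fun z : PC P => ξC z) (fun z => ((ζ z : ℂˣ) : ℂ)) ≠ 0 := by
  have hf := IsCharacter.sub_constituent hξC hT h
  have hres : IsCharacter (PC P) (fun z : PC P => (ξC - T) z) := IsCharacter.res hf (PC P)
  obtain ⟨n, hn⟩ := IsCharacter.classInner_irr_nat hres (isIrrCharacter_of_hom ζ)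
  obtain ⟨d, hd0, hd⟩ := IsIrrCharacter.map_one_pos hT
  have h1 : (fun z : PC P => ξC z) = (fun z : PC P => (ξC - T) z) + (d : ℂ) • (fun z : PC P => ((ζ z : ℂˣ) : ℂ)) := by
    funext z
    have h2 := hTζ z 1
    rw [mul_one, hd] at h2
    simp only [Pi.add_apply, Pi.sub_apply, Pi.smul_apply, smul_eq_mul]
    rw [h2]; ring
  rw [h1, classInner_add_left, classInner_smul_left, hn,
    classInner_irr_self (isIrrCharacter_of_hom ζ), mul_one]
  have : ((n + d : ℕ) : ℂ) ≠ 0 := by
    have : n + d ≠ 0 := by omega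
    exact_mod_cast this
  push_cast at this
  exact this

end inner

section main

variable [Fintype (CC P)] [Fintype (NN P)] [Fintype (PC P)]

set_option maxHeartbeats 4000000 in
/-- The main contradiction. -/
theorem main_false (hS : Star P) {π : CC P →* PC P} {q : ℕ} (hc : Nat.Coprime q p)
    (hq : ∀ y : CC P, y ^ q = ((π y : PC P) : CC P) ^ q) (hπ : ∀ z : PC P, π z = z)
    {e : ℕ} (he : Nat.card (NN P) = e * Nat.card (CC P)) (R : Finset (PC P →* ℂˣ))
    (hR : ∀ η ∈ R, η ≠ 1)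
    (hsep : ∀ η ∈ R, ∀ η' ∈ R, ∀ g : NN P, η = η'.comp (cP hS g) → η = η')
    (ht : e + 1 ≤ R.card)
    {ξ : G → ℂ} (hξ : IsIrrCharacter G ξ) (hξ1 : ξ ≠ fun _ => 1)
    (hc₁ : classInner (fun c : CC P => ξ c) (fun _ => 1) ≠ 0)
    {η₁ η₃ η₄ : PC P →* ℂˣ} (h1R : η₁ ∈ R) (h3R : η₃ ∈ R) (h4R : η₄ ∈ R) (h34 : η₃ ≠ η₄)
    (ha1 : classInner (fun z : PC P => ξ ((z : CC P) : G)) (fun z => ((η₁ z : ℂˣ) : ℂ)) ≠ 0)
    (ha3 : classInner (fun z : PC P => ξ ((z : CC P) : G)) (fun z => ((η₃ z : ℂˣ) : ℂ)) = 0)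
    (ha4 : classInner (fun z : PC P => ξ ((z : CC P) : G)) (fun z => ((η₄ z : ℂˣ) : ℂ)) = 0) :
    False := by
  classical
  let ξC : CC P → ℂ := fun c => ξ c
  have hξCc : IsCharacter (CC P) ξC := IsCharacter.res (IsIrrCharacter.isCharacter hξ) (CC P)
  have hcentral : PC P ≤ Subgroup.center (CC P) := by
    intro z hz
    rw [Subgroup.mem_center_iff]
    intro y
    apply Subtype.ext
    exact (Subgroup.mem_centralizer_iff.mp y.2 _ hz).symm
  haveI hPCn : (PC P).Normal := by
    constructor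
    intro z hz y
    have := Subgroup.mem_center_iff.mp (hcentral hz) y
    have h5 : y * z * y⁻¹ = z := by rw [this]; group
    rw [h5]; exact hz
  -- a constituent of `ξC` over `η₁`
  obtain ⟨β₁, hβξ, hβη⟩ : ∃ β : IrrCharacter (CC P), classInner ξC (β : CC P → ℂ) ≠ 0 ∧ HasCh (β : CC P → ℂ) η₁ := by
    have hexp := classFun_eq_sum ξC (classFunction_of_isCharacter hξCc)
    have h1 : (fun z : PC P => ξ ((z : CC P) : G)) =
        ∑ β : IrrCharacter (CC P), classInner ξC (β : CC P → ℂ) • (fun z : PC P => (β : CC P → ℂ) z) := by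
      funext z
      have h2 := congrFun hexp (z : CC P)
      rw [Finset.sum_apply] at h2 ⊢
      exact h2
    rw [h1, classInner_sum_left] at ha1
    obtain ⟨β, -, hβ⟩ := Finset.exists_ne_zero_of_sum_ne_zero ha1
    rw [classInner_smul_left] at hβ
    refine ⟨β, left_ne_zero_of_mul hβ, ?_⟩
    exact (Cfsg.Agent.Lib.H3Gal.inner_res_ne_zero_iff η₁ β.2 hcentral).mp (right_ne_zero_of_mul hβ)
  -- the family
  let ν : (PC P →* ℂˣ) → CC P →* ℂˣ := fun η => (η * η₁⁻¹).comp π
  let T : (PC P →* ℂˣ) → CC P → ℂ := fun η c => (β₁ : CC P → ℂ) c * ((ν η c : ℂˣ) : ℂ)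
  have hTirr : ∀ η, IsIrrCharacter (CC P) (T η) := fun η => Cfsg.Agent.Lib.CharGlaub7.irr_mul_hom β₁.2 (ν η)
  have hνP : ∀ η (z : PC P), ν η (z : CC P) = η z * (η₁ z)⁻¹ := by
    intro η z
    show (η * η₁⁻¹) (π z) = _
    rw [hπ z]; rfl
  have hTch : ∀ η, HasCh (T η) η := by
    intro η z c
    show (β₁ : CC P → ℂ) ((z : CC P) * c) * ((ν η ((z : CC P) * c) : ℂˣ) : ℂ) =
      ((η z : ℂˣ) : ℂ) * ((β₁ : CC P → ℂ) c * ((ν η c : ℂˣ) : ℂ))
    rw [hβη z c, map_mul, hνP η z, Units.val_mul, Units.val_mul, Units.val_inv_eq_inv_val]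
    have h1 : ((η₁ z : ℂˣ) : ℂ) ≠ 0 := Units.ne_zero _
    field_simp
  have hT1 : ∀ η, T η 1 = (β₁ : CC P → ℂ) 1 := by
    intro η
    simp [T]
  have hTvan : ∀ η η' (y : CC P), π y = 1 → (T η - T η') y = 0 := by
    intro η η' y hy
    have h1 : ν η y = 1 := by
      show (η * η₁⁻¹) (π y) = 1
      rw [hy, map_one]
    have h2 : ν η' y = 1 := by
      show (η' * η₁⁻¹) (π y) = 1
      rw [hy, map_one]
    simp only [Pi.sub_apply, T, h1, h2, sub_self]
  have hT11 : T η₁ = (β₁ : CC P → ℂ) := by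
    funext c
    have h1 : ν η₁ c = 1 := by
      show (η₁ * η₁⁻¹) (π c) = 1
      simp
    simp only [T, h1]
    simp
  choose m hm using fun η => IsCharacter.classInner_irr_nat hξCc (hTirr η)
  have hmTa : ∀ η, m η ≠ 0 → classInner (fun z : PC P => ξ ((z : CC P) : G)) (fun z => ((η z : ℂˣ) : ℂ)) ≠ 0 := by
    intro η hne
    refine a_ne_zero_of_inner hξCc (hTirr η) (hTch η) ?_
    rw [hm]
    exact_mod_cast hne
  have hm1 : m η₁ ≠ 0 := by
    intro h0
    apply hβξ
    rw [← hT11, hm, h0]; simp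
  have hm3 : m η₃ = 0 := by
    by_contra hne
    exact hmTa η₃ hne ha3
  have hm4 : m η₄ = 0 := by
    by_contra hne
    exact hmTa η₄ hne ha4
  have hTinner : ∀ η, classInner (T η) (T η) = 1 := fun η => classInner_irr_self (hTirr η)
  have hclT : ∀ η, IsClassFunction (CC P) (T η) := fun η => classFunction_of_isIrrCharacter (hTirr η)
  have hPairT : ∀ η ∈ R, ∀ η' ∈ R, Pair (T η) (T η') = if η = η' then 1 else 0 := by
    intro η hη η' hη'
    split_ifs with h
    · subst h
      rw [pair_same hS (hTch η) (hTch η) (hR η hη) (hclT η), hTinner]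
    · exact pair_zero hS (hTch η) (hTch η') (fun g hg => h (hsep η hη η' hη' g hg))
  have hdd : ∀ a b c d : PC P →* ℂˣ, a ∈ R → b ∈ R → c ∈ R → d ∈ R →
      classInner (indFun (CC P) (T a - T b)) (indFun (CC P) (T c - T d)) =
        (if a = c then 1 else 0) - (if a = d then 1 else 0) - (if b = c then 1 else 0) +
          (if b = d then 1 else 0) := by
    intro a b c d ha hb hc' hd
    rw [iso hS hc hq _ _ (hTvan c d), Pair_sub_left, Pair_sub_right, Pair_sub_right,
      hPairT a ha c hc', hPairT a ha d hd, hPairT b hb c hc', hPairT b hb d hd]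
    ring
  have hdξ : ∀ a b, classInner (indFun (CC P) (T a - T b)) ξ = (m a : ℂ) - m b := by
    intro a b
    rw [frobenius (CC P) _ ξ (classFunction_of_isIrrCharacter hξ)]
    show classInner (T a - T b) ξC = _
    rw [classInner_sub_left, ← classInner_conj_symm ξC (T a), ← classInner_conj_symm ξC (T b), hm, hm]
    simp
  have hξd : ∀ a b, classInner ξ (indFun (CC P) (T a - T b)) = (m a : ℂ) - m b := by
    intro a b
    rw [← classInner_conj_symm, hdξ]
    simp
  have hξξ : classInner ξ ξ = 1 := classInner_irr_self hξ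
  have hmle : ∀ η ∈ R, ∀ ζ ∈ R, η ≠ ζ → m ζ = 0 → m η ≤ 1 := by
    intro η hη ζ hζ hne hmζ
    have haa : classInner (indFun (CC P) (T η - T ζ)) (indFun (CC P) (T η - T ζ)) = 2 := by
      rw [hdd η ζ η ζ hη hζ hη hζ]
      simp [hne, hne.symm]
      norm_num
    have haξ := hdξ η ζ
    have hξa := hξd η ζ
    rw [hmζ] at haξ hξa
    simp only [Nat.cast_zero, sub_zero] at haξ hξa
    have hn := classInner_self_re_nonneg (indFun (CC P) (T η - T ζ) - (m η : ℂ) • ξ)
    have hval : classInner (indFun (CC P) (T η - T ζ) - (m η : ℂ) • ξ)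
        (indFun (CC P) (T η - T ζ) - (m η : ℂ) • ξ) = ((2 - (m η : ℝ) ^ 2 : ℝ) : ℂ) := by
      simp only [classInner_sub_left, classInner_sub_right, classInner_smul_left,
        classInner_smul_right, haa, haξ, hξa, hξξ, Complex.conj_natCast]
      push_cast
      ring
    rw [hval, Complex.ofReal_re] at hn
    by_contra hgt
    have h2 : (2 : ℝ) ≤ m η := by
      have : 2 ≤ m η := by omega
      exact_mod_cast this
    nlinarith
  have h13 : η₁ ≠ η₃ := fun h => hm1 (h ▸ hm3)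
  have h14 : η₁ ≠ η₄ := fun h => hm1 (h ▸ hm4)
  have hm1' : m η₁ = 1 := by
    have := hmle η₁ h1R η₃ h3R h13 hm3
    omega
  have hm10 : (β₁ : CC P → ℂ) 1 = (β₁ : CC P → ℂ) 1 := rfl
  have hD1 : ∀ a b, indFun (CC P) (T a - T b) 1 = 0 := by
    intro a b
    rw [indFun_one_apply]
    simp [hT1]
  have hξ10 : ξ 1 ≠ 0 := IsIrrCharacter.ne_zero hξ
  have hmzero : ∀ η ∈ R, η ≠ η₁ → m η = 0 := by
    intro η hη hne
    by_contra hmne
    have h3e : η ≠ η₃ := fun h => hmne (h ▸ hm3)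
    have h4e : η ≠ η₄ := fun h => hmne (h ▸ hm4)
    have hmη : m η = 1 := by
      have := hmle η hη η₃ h3R h3e hm3
      omega
    have haa := hdd η₁ η₃ η₁ η₃ h1R h3R h1R h3R
    have hbb := hdd η η₄ η η₄ hη h4R hη h4R
    have hab := hdd η₁ η₃ η η₄ h1R h3R hη h4R
    have hba := hdd η η₄ η₁ η₃ hη h4R h1R h3R
    simp only [if_true, if_neg h13, if_neg h13.symm, if_neg h4e, if_neg h4e.symm, if_neg hne,
      if_neg hne.symm, if_neg h14, if_neg h14.symm, if_neg h3e, if_neg h3e.symm, if_neg h34,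
      if_neg h34.symm] at haa hbb hab hba
    have haξ := hdξ η₁ η₃
    have hbξ := hdξ η η₄
    have hξa := hξd η₁ η₃
    have hξb := hξd η η₄
    rw [hm1', hm3] at haξ hξa
    rw [hmη, hm4] at hbξ hξb
    set a' := indFun (CC P) (T η₁ - T η₃) with ha'
    set b' := indFun (CC P) (T η - T η₄) with hb'
    have hZ : classInner (a' + b' - (2 : ℂ) • ξ) (a' + b' - (2 : ℂ) • ξ) = 0 := by
      simp only [classInner_sub_left, classInner_sub_right, classInner_add_left, classInner_add_right,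
        classInner_smul_left, classInner_smul_right, haa, hbb, hab, hba, haξ, hbξ, hξa, hξb, hξξ]
      simp
      norm_num
    have hZ0 := eq_zero_of_classInner_self_eq_zero _ hZ
    have h1 := congrFun hZ0 1
    simp only [Pi.sub_apply, Pi.add_apply, Pi.smul_apply, smul_eq_mul, Pi.zero_apply, ha', hb',
      hD1] at h1
    apply hξ10
    simpa using h1
  have hM : ∀ η ∈ R, (m η : ℂ) = if η = η₁ then 1 else 0 := by
    intro η hη
    split_ifs with h
    · rw [h, hm1']; simp
    · rw [hmzero η hη h]; simp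
  -- the principal part
  obtain ⟨c, hcv⟩ := IsCharacter.classInner_irr_nat hξCc (Cfsg.Agent.Lib.H3TIP2.one_irr (G := CC P))
  have hc0 : c ≠ 0 := by
    intro h0
    apply hc₁
    show classInner ξC _ = 0
    rw [hcv, h0]; simp
  let χ₀ : CC P → ℂ := fun y => (((η₃.comp π) y : ℂˣ) : ℂ)
  have hχ₀irr : IsIrrCharacter (CC P) χ₀ := isIrrCharacter_of_hom (η₃.comp π)
  have h03 : η₃ ≠ 1 := hR η₃ h3R
  have hχ₀ch : HasCh χ₀ η₃ := by
    intro z c
    show ((η₃ (π ((z : CC P) * c)) : ℂˣ) : ℂ) = ((η₃ z : ℂˣ) : ℂ) * ((η₃ (π c) : ℂˣ) : ℂ)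
    rw [map_mul, hπ z, map_mul, Units.val_mul]
  let one_C : CC P → ℂ := fun _ => 1
  have hone_irr : IsIrrCharacter (CC P) one_C := Cfsg.Agent.Lib.H3TIP2.one_irr
  have hone_ch : HasCh one_C (1 : PC P →* ℂˣ) := by
    intro z c
    simp [one_C]
  have hcomp1 : ∀ g : NN P, (1 : PC P →* ℂˣ).comp (cP hS g) = 1 := fun g => MonoidHom.one_comp _
  have P00 : Pair χ₀ χ₀ = 1 := by
    rw [pair_same hS hχ₀ch hχ₀ch h03 (classFunction_of_isIrrCharacter hχ₀irr), classInner_irr_self hχ₀irr]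
  have P01 : Pair χ₀ one_C = 0 := by
    refine pair_zero hS hχ₀ch hone_ch (fun g => ?_)
    rw [hcomp1]; exact h03
  have P10 : Pair one_C χ₀ = 0 := by
    refine pair_zero hS hone_ch hχ₀ch (fun g => ?_)
    exact (comp_ne_one hS h03 g).symm
  have P11 : Pair one_C one_C = (e : ℂ) := by
    have h1 := pair_one (P := P)
    have hcne : (Nat.card (CC P) : ℂ) ≠ 0 := by exact_mod_cast Nat.card_pos.ne'
    show Pair (fun _ : CC P => (1 : ℂ)) (fun _ : CC P => (1 : ℂ)) = _
    rw [h1, he]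
    push_cast
    field_simp
  have PχT : ∀ η ∈ R, η ≠ η₃ → Pair χ₀ (T η) = 0 := by
    intro η hη hne
    refine pair_zero hS hχ₀ch (hTch η) (fun g hg => hne ?_)
    exact (hsep η₃ h3R η hη g hg).symm
  have P1T : ∀ η ∈ R, Pair one_C (T η) = 0 := by
    intro η hη
    refine pair_zero hS hone_ch (hTch η) (fun g => ?_)
    exact (comp_ne_one hS (hR η hη) g).symm
  let u₀ : CC P → ℂ := χ₀ - one_C
  have hu₀v : ∀ y : CC P, π y = 1 → u₀ y = 0 := by
    intro y hy
    simp [u₀, χ₀, one_C, hy]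
  let a₀ : G → ℂ := indFun (CC P) u₀
  have h00 : classInner a₀ a₀ = 1 + e := by
    show classInner (indFun (CC P) u₀) (indFun (CC P) u₀) = _
    rw [iso hS hc hq _ _ hu₀v]
    show Pair (χ₀ - one_C) (χ₀ - one_C) = _
    rw [Pair_sub_left, Pair_sub_right, Pair_sub_right, P00, P01, P10, P11]
    ring
  have h0d : ∀ η ∈ R, η ≠ η₃ → classInner a₀ (indFun (CC P) (T η₁ - T η)) = 0 := by
    intro η hη hne
    show classInner (indFun (CC P) u₀) _ = _
    rw [iso hS hc hq _ _ (hTvan η₁ η)]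
    show Pair (χ₀ - one_C) (T η₁ - T η) = _
    rw [Pair_sub_left, Pair_sub_right, Pair_sub_right, PχT η₁ h1R h13, PχT η hη hne, P1T η₁ h1R, P1T η hη]
    ring
  have hξχ₀ : classInner ξC χ₀ = 0 := by
    by_contra hne
    exact a_ne_zero_of_inner hξCc hχ₀irr hχ₀ch hne ha3
  have h0ξ : classInner a₀ ξ = -(c : ℂ) := by
    show classInner (indFun (CC P) u₀) ξ = _
    rw [frobenius (CC P) _ ξ (classFunction_of_isIrrCharacter hξ)]
    show classInner (χ₀ - one_C) ξC = _
    rw [classInner_sub_left, ← classInner_conj_symm ξC χ₀, ← classInner_conj_symm ξC one_C, hξχ₀]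
    have : classInner ξC one_C = (c : ℂ) := hcv
    rw [this]
    simp
  let one_G : G → ℂ := fun _ => 1
  have hone_G : IsIrrCharacter G one_G := Cfsg.Agent.Lib.H3TIP2.one_irr
  have hχ₀1 : classInner χ₀ one_C = 0 := inner_zero_of_ne hχ₀ch hone_ch h03
  have h01 : classInner a₀ one_G = -1 := by
    show classInner (indFun (CC P) u₀) one_G = _
    rw [frobenius (CC P) _ one_G (classFunction_of_isIrrCharacter hone_G)]
    show classInner (χ₀ - one_C) one_C = _
    rw [classInner_sub_left, hχ₀1, classInner_irr_self hone_irr]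
    ring
  have hd1 : ∀ η ∈ R, classInner (indFun (CC P) (T η₁ - T η)) one_G = 0 := by
    intro η hη
    rw [frobenius (CC P) _ one_G (classFunction_of_isIrrCharacter hone_G)]
    show classInner (T η₁ - T η) one_C = _
    rw [classInner_sub_left, inner_zero_of_ne (hTch η₁) hone_ch (hR η₁ h1R),
      inner_zero_of_ne (hTch η) hone_ch (hR η hη)]
    ring
  have hξ1g : classInner ξ one_G = 0 := by
    rw [classInner_irr hξ hone_G, if_neg hξ1]
  let R' := R.erase η₃
  let X : (PC P →* ℂˣ) → G → ℂ := fun η => ξ - indFun (CC P) (T η₁ - T η)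
  have hXX : ∀ η ∈ R, ∀ η' ∈ R, classInner (X η) (X η') = if η = η' then 1 else 0 := by
    intro η hη η' hη'
    show classInner (ξ - indFun (CC P) (T η₁ - T η)) (ξ - indFun (CC P) (T η₁ - T η')) = _
    rw [classInner_sub_left, classInner_sub_right, classInner_sub_right, hξξ, hξd, hdξ,
      hdd η₁ η η₁ η' h1R hη h1R hη', hM η₁ h1R, hM η hη, hM η' hη']
    have e1 : (if η₁ = η' then (1 : ℂ) else 0) = if η' = η₁ then 1 else 0 := if_congr eq_comm rfl rfl
    rw [if_pos rfl, e1]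
    ring
  have hX0 : ∀ η ∈ R', classInner a₀ (X η) = -(c : ℂ) := by
    intro η hη
    have hη2 := Finset.mem_erase.mp hη
    show classInner a₀ (ξ - indFun (CC P) (T η₁ - T η)) = _
    rw [classInner_sub_right, h0ξ, h0d η hη2.2 hη2.1, sub_zero]
  have hX1 : ∀ η ∈ R, classInner (X η) one_G = 0 := by
    intro η hη
    show classInner (ξ - indFun (CC P) (T η₁ - T η)) one_G = _
    rw [classInner_sub_left, hξ1g, hd1 η hη, sub_zero]
  have hX1v : ∀ η, X η 1 = ξ 1 := by
    intro η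
    show ξ 1 - indFun (CC P) (T η₁ - T η) 1 = _
    rw [hD1, sub_zero]
  have hR'R : ∀ η ∈ R', η ∈ R := fun η hη => (Finset.mem_erase.mp hη).2
  let W : G → ℂ := ∑ η ∈ R', X η
  have hWW : classInner W W = (R'.card : ℂ) := by
    show classInner (∑ η ∈ R', X η) (∑ η ∈ R', X η) = _
    rw [classInner_sum_left]
    have h1 : ∀ η ∈ R', classInner (X η) (∑ η' ∈ R', X η') = 1 := by
      intro η hη
      rw [classInner_sum_right, Finset.sum_congr rfl (fun η' hη' => hXX η (hR'R η hη) η' (hR'R η' hη')),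
        Finset.sum_ite_eq, if_pos hη]
    rw [Finset.sum_congr rfl h1]
    simp
  have h0W : classInner a₀ W = (R'.card : ℂ) * (-(c : ℂ)) := by
    show classInner a₀ (∑ η ∈ R', X η) = _
    rw [classInner_sum_right, Finset.sum_congr rfl hX0]
    simp
  have hW0 : classInner W a₀ = (R'.card : ℂ) * (-(c : ℂ)) := by
    rw [← classInner_conj_symm, h0W]
    simp
  have hW1 : classInner W one_G = 0 := by
    show classInner (∑ η ∈ R', X η) one_G = _
    rw [classInner_sum_left]
    exact Finset.sum_eq_zero fun η hη => hX1 η (hR'R η hη)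
  have h1W : classInner one_G W = 0 := by
    rw [← classInner_conj_symm, hW1]
    simp
  have h10 : classInner one_G a₀ = -1 := by
    rw [← classInner_conj_symm, h01]
    simp
  have h11 : classInner one_G one_G = 1 := classInner_irr_self hone_G
  have hcardR' : R'.card + 1 = R.card := by
    have := Finset.card_erase_add_one h3R
    exact this
  have heR' : e ≤ R'.card := by omega
  have hZval : classInner (a₀ + one_G + (c : ℂ) • W) (a₀ + one_G + (c : ℂ) • W) =
      (((e : ℝ) - (c : ℝ) ^ 2 * (R'.card : ℝ) : ℝ) : ℂ) := by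
    simp only [classInner_add_left, classInner_add_right, classInner_smul_left, classInner_smul_right,
      h00, h01, h0W, h10, h11, h1W, hW0, hW1, hWW, Complex.conj_natCast]
    push_cast
    ring
  have hZre := classInner_self_re_nonneg (a₀ + one_G + (c : ℂ) • W)
  rw [hZval, Complex.ofReal_re] at hZre
  have hc1 : (1 : ℝ) ≤ c := by
    have : 1 ≤ c := Nat.one_le_iff_ne_zero.mpr hc0
    exact_mod_cast this
  have heR2 : (e : ℝ) ≤ R'.card := by exact_mod_cast heR'
  have hR'nn : (0 : ℝ) ≤ R'.card := by positivity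
  have hZzero : ((e : ℝ) - (c : ℝ) ^ 2 * (R'.card : ℝ) : ℝ) = 0 := by
    apply le_antisymm _ hZre
    have hc2 : (1 : ℝ) ≤ (c : ℝ) ^ 2 := one_le_pow₀ hc1
    have h5 : (R'.card : ℝ) ≤ (c : ℝ) ^ 2 * (R'.card : ℝ) := le_mul_of_one_le_left hR'nn hc2
    linarith
  rw [hZzero] at hZval
  have hZ0 := eq_zero_of_classInner_self_eq_zero _ (by simpa using hZval)
  have h1 := congrFun hZ0 1
  have ha₀1 : a₀ 1 = 0 := by
    show indFun (CC P) u₀ 1 = 0
    rw [indFun_one_apply]
    simp [u₀, χ₀, one_C]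
  have hW1v : W 1 = (R'.card : ℂ) * ξ 1 := by
    show (∑ η ∈ R', X η) 1 = _
    rw [Finset.sum_apply, Finset.sum_congr rfl (fun η _ => hX1v η)]
    simp
  obtain ⟨d, hd0, hd⟩ := IsIrrCharacter.map_one_pos hξ
  simp only [Pi.add_apply, Pi.smul_apply, smul_eq_mul, Pi.zero_apply, ha₀1, hW1v, hd] at h1
  have h2 : ((1 + c * (R'.card * d) : ℕ) : ℂ) = 0 := by
    push_cast
    have : one_G 1 = 1 := rfl
    rw [this, zero_add] at h1
    exact h1
  have h3 : 1 + c * (R'.card * d) = 0 := by exact_mod_cast h2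
  omega

end main

end Cfsg.Agent.Lib.H3Exc
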