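import Mathlib
import Cfsg.Agent.Lib.H3Exc2

set_option autoImplicit false
set_option linter.unusedSectionVars false

/-! Restriction of small characters and orbit representatives. -/

namespace Cfsg.Agent.Lib.H3Exc

open Cfsg Module
open scoped ComplexConjugate Pointwise
open Cfsg.Agent.Lib.CharBasic Cfsg.Agent.Lib.CharOrth Cfsg.Agent.Lib.CharAlg
open Cfsg.Agent.Lib.CharLin Cfsg.Agent.Lib.CharInd Cfsg.Agent.Lib.CharNormal

universe u

variable {G : Type u} [Group G] [Fintype G] {p : ℕ} [hp : Fact p.Prime] {P : Sylow p G}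

/-- Conjugation by an element of the normalizer as a permutation of the centralizer. -/
noncomputable def κ (g : NN P) : CC P ≃ CC P where
  toFun c := ⟨(g : G)⁻¹ * c * g, conj_mem_CC g.2 c.2⟩
  invFun c := ⟨(g : G) * c * (g : G)⁻¹, by
    have := conj_mem_CC (inv_mem g.2) c.2
    simpa using this⟩
  left_inv c := by
    apply Subtype.ext
    show (g : G) * ((g : G)⁻¹ * c * g) * (g : G)⁻¹ = c
    group
  right_inv c := by
    apply Subtype.ext
    show (g : G)⁻¹ * ((g : G) * c * (g : G)⁻¹) * g = c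
    group

theorem cj_apply (g : NN P) (f : CC P → ℂ) (c : CC P) : cj (g : G) f c = f (κ g c) := by
  show extendByZero (CC P) f _ = _
  rw [extendByZero_of_mem _ _ (conj_mem_CC g.2 c.2)]
  rfl

section res

variable [Fintype (CC P)] [Fintype (NN P)]

theorem inner_res_cj {χ : G → ℂ} (hχ : IsClassFunction G χ) (g : NN P) (f : CC P → ℂ) :
    classInner (fun c : CC P => χ c) (cj (g : G) f) = classInner (fun c : CC P => χ c) f := by
  unfold classInner
  congr 1
  rw [← Equiv.sum_comp (κ g) (fun w => χ w * conj (f w))]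
  refine Finset.sum_congr rfl fun c _ => ?_
  rw [cj_apply]
  congr 1
  have := hχ c (g : G)⁻¹
  simpa [κ] using this.symm

theorem inner_cj_cj (g h : NN P) (f : CC P → ℂ) :
    classInner (cj (g : G) f) (cj (h : G) f) = classInner f (cj ((g⁻¹ * h : NN P) : G) f) := by
  unfold classInner
  congr 1
  rw [← Equiv.sum_comp (κ g) (fun w => f w * conj (cj ((g⁻¹ * h : NN P) : G) f w))]
  refine Finset.sum_congr rfl fun c _ => ?_
  simp only [cj_apply]
  have e : κ h c = κ (g⁻¹ * h) (κ g c) := by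
    apply Subtype.ext
    show (h : G)⁻¹ * c * h = ((g⁻¹ * h : NN P) : G)⁻¹ * ((g : G)⁻¹ * c * g) * ((g⁻¹ * h : NN P) : G)
    simp only [Subgroup.coe_mul, InvMemClass.coe_inv]
    group
  rw [e]

/-- The sum of conjugates. -/
noncomputable def E₀ (f : CC P → ℂ) : CC P → ℂ :=
  (Nat.card (CC P) : ℂ)⁻¹ • ∑ g : NN P, cj (g : G) f

theorem E₀_norm (hS : Star P) {β : CC P → ℂ} {θ : PC P →* ℂˣ} (hβ : IsIrrCharacter (CC P) β)
    (hβθ : HasCh β θ) (hθ : θ ≠ 1) {e : ℕ} (he : Nat.card (NN P) = e * Nat.card (CC P)) :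
    classInner (E₀ β) (E₀ β) = e := by
  have hcne : (Nat.card (CC P) : ℂ) ≠ 0 := by exact_mod_cast Nat.card_pos.ne'
  unfold E₀
  rw [classInner_smul_left, classInner_smul_right, classInner_sum_left]
  have h1 : ∀ g : NN P, classInner (cj (g : G) β) (∑ h : NN P, cj (h : G) β) =
      (Nat.card (CC P) : ℂ) := by
    intro g
    rw [classInner_sum_right]
    simp only [inner_cj_cj]
    have h2 : ∑ h : NN P, classInner β (cj ((g⁻¹ * h : NN P) : G) β) =
        ∑ k : NN P, classInner β (cj (k : G) β) :=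
      Equiv.sum_comp (Equiv.mulLeft g⁻¹) (fun k : NN P => classInner β (cj (k : G) β))
    rw [h2]
    have h3 := pair_same hS hβθ hβθ hθ (classFunction_of_isIrrCharacter hβ)
    rw [classInner_irr_self hβ] at h3
    unfold Pair at h3
    field_simp at h3
    exact h3
  simp only [h1]
  rw [Finset.sum_const, Finset.card_univ, ← Nat.card_eq_fintype_card, he]
  simp only [map_inv₀, Complex.conj_natCast, nsmul_eq_mul]
  push_cast
  field_simp

theorem E₀_one (β : CC P → ℂ) {e : ℕ} (he : Nat.card (NN P) = e * Nat.card (CC P)) :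
    E₀ β 1 = e * β 1 := by
  have hcne : (Nat.card (CC P) : ℂ) ≠ 0 := by exact_mod_cast Nat.card_pos.ne'
  have h1 : ∀ g : NN P, cj (g : G) β 1 = β 1 := by
    intro g
    rw [cj_apply]
    congr 1
    apply Subtype.ext
    show (g : G)⁻¹ * 1 * g = 1
    simp
  simp only [E₀, Pi.smul_apply, Finset.sum_apply, h1, smul_eq_mul]
  rw [Finset.sum_const, Finset.card_univ, ← Nat.card_eq_fintype_card, he]
  simp only [nsmul_eq_mul]
  push_cast
  field_simp

/-- Restriction to the centralizer. -/
theorem res_eq_E₀ (hS : Star P) {χ β : CC P → ℂ} {θ : PC P →* ℂˣ} (hχ : IsClassFunction (CC P) χ)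
    (hβ : IsIrrCharacter (CC P) β) (hβθ : HasCh β θ) (hθ : θ ≠ 1) {e : ℕ} (he : Nat.card (NN P) = e * Nat.card (CC P))
    (he0 : 0 < e) (hle : (classInner χ χ).re ≤ e) {M : ℕ} (hM0 : M ≠ 0)
    (hinv : ∀ g : NN P, classInner χ (cj (g : G) β) = M) : χ = E₀ β ∧ M = 1 := by
  have hcne : (Nat.card (CC P) : ℂ) ≠ 0 := by exact_mod_cast Nat.card_pos.ne'
  have h1 : classInner χ (E₀ β) = (e : ℂ) * M := by
    unfold E₀
    rw [classInner_smul_right, classInner_sum_right]
    simp only [hinv]
    rw [Finset.sum_const, Finset.card_univ, ← Nat.card_eq_fintype_card, he]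
    simp only [map_inv₀, Complex.conj_natCast, nsmul_eq_mul]
    push_cast
    field_simp
  have h2 : classInner (E₀ β) χ = (e : ℂ) * M := by
    rw [← classInner_conj_symm, h1]
    simp
  have h3 := E₀_norm hS hβ hβθ hθ he
  have h4 : (classInner (χ - E₀ β) (χ - E₀ β)).re = (classInner χ χ).re - 2 * (e * M) + e := by
    rw [classInner_sub_left, classInner_sub_right, classInner_sub_right, h1, h2, h3]
    simp
    ring
  have h5 := classInner_self_re_nonneg (χ - E₀ β)
  rw [h4] at h5
  have he1 : (1 : ℝ) ≤ e := by exact_mod_cast he0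
  have hM1 : (1 : ℝ) ≤ M := by
    have : 1 ≤ M := Nat.one_le_iff_ne_zero.mpr hM0
    exact_mod_cast this
  have hM2 : (M : ℝ) = 1 := by
    by_contra hne
    have h6 : (1 : ℝ) < M := lt_of_le_of_ne hM1 (Ne.symm hne)
    nlinarith
  have hM3 : M = 1 := by exact_mod_cast hM2
  refine ⟨?_, hM3⟩
  have h7 : (classInner (χ - E₀ β) (χ - E₀ β)).re ≤ 0 := by
    rw [h4, hM2]
    linarith
  have h8 : (classInner (χ - E₀ β) (χ - E₀ β)).re = 0 := le_antisymm h7 (classInner_self_re_nonneg _)
  have h9 : classInner (χ - E₀ β) (χ - E₀ β) = 0 := by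
    rw [classInner_self_eq] at h8 ⊢
    rw [Complex.ofReal_re] at h8
    rw [h8]; simp
  exact sub_eq_zero.mp (eq_zero_of_classInner_self_eq_zero _ h9)

/-- The restriction to the normalizer bound. -/
theorem norm_res_le {χ : G → ℂ} {e : ℕ} (he : Nat.card (NN P) = e * Nat.card (CC P))
    (h1 : classInner (fun y : NN P => χ y) (fun y : NN P => χ y) = 1) :
    (classInner (fun c : CC P => χ c) (fun c : CC P => χ c)).re ≤ e := by
  classical
  have hcpos : (0 : ℝ) < Nat.card (CC P) := by exact_mod_cast Nat.card_pos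
  have hnpos : (0 : ℝ) < Nat.card (NN P) := by exact_mod_cast Nat.card_pos
  rw [classInner_self_eq, Complex.ofReal_re]
  have h2 := congrArg Complex.re h1
  rw [classInner_self_eq, Complex.ofReal_re, Complex.one_re] at h2
  have h3 : ∑ c : CC P, ‖χ c‖ ^ 2 ≤ ∑ y : NN P, ‖χ y‖ ^ 2 := by
    let ι : CC P → NN P := fun c => ⟨c, CC_le_NN c.2⟩
    have hι : Function.Injective ι := fun a b h => Subtype.ext (congrArg (fun y : NN P => (y : G)) h)
    have h4 : ∑ c : CC P, ‖χ c‖ ^ 2 = ∑ y ∈ Finset.univ.image ι, ‖χ y‖ ^ 2 := by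
      rw [Finset.sum_image (fun a _ b _ h => hι h)]
    rw [h4]
    exact Finset.sum_le_sum_of_subset_of_nonneg (Finset.subset_univ _) (fun _ _ _ => by positivity)
  have h5 : ∑ y : NN P, ‖χ y‖ ^ 2 = Nat.card (NN P) := by
    field_simp at h2
    linarith
  rw [he] at h5
  push_cast at h5
  rw [h5] at h3
  rw [inv_mul_le_iff₀ hcpos]
  linarith

end res

section orbit

variable [Fintype (PC P)]

/-- The action on characters of `P`. -/
noncomputable def homAct (hS : Star P) : MulAction (NN P) (PC P →* ℂˣ) where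
  smul g θ := θ.comp (cP hS g)
  one_smul θ := by
    apply MonoidHom.ext
    intro z
    show θ (cP hS 1 z) = θ z
    congr 1
    apply Subtype.ext
    apply Subtype.ext
    show ((1 : NN P) : G)⁻¹ * ((z : CC P) : G) * ((1 : NN P) : G) = _
    simp
  mul_smul g h θ := by
    apply MonoidHom.ext
    intro z
    show θ (cP hS (g * h) z) = θ (cP hS h (cP hS g z))
    congr 1
    apply Subtype.ext
    apply Subtype.ext
    show ((g * h : NN P) : G)⁻¹ * ((z : CC P) : G) * ((g * h : NN P) : G) =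
      (h : G)⁻¹ * ((g : G)⁻¹ * ((z : CC P) : G) * g) * h
    simp only [Subgroup.coe_mul]
    group

theorem comp_cP_of_mem (hS : Star P) (θ : PC P →* ℂˣ) {g : NN P} (hg : (g : G) ∈ CC P) :
    θ.comp (cP hS g) = θ := by
  apply MonoidHom.ext
  intro z
  show θ (cP hS g z) = θ z
  congr 1
  apply Subtype.ext
  apply Subtype.ext
  show (g : G)⁻¹ * ((z : CC P) : G) * g = _
  have h5 : ((z : CC P) : G) * g = g * ((z : CC P) : G) := Subgroup.mem_centralizer_iff.mp hg _ z.2
  rw [mul_assoc, h5]
  group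

theorem exists_reps (hS : Star P) [Finite (PC P →* ℂˣ)] {e : ℕ} (he : Nat.card (NN P) = e * Nat.card (CC P))
    (hcard : Nat.card (PC P →* ℂˣ) = Nat.card (PC P)) [Fintype (NN P)] :
    ∃ R : Finset (PC P →* ℂˣ), (∀ η ∈ R, η ≠ 1) ∧
      (∀ η ∈ R, ∀ η' ∈ R, ∀ g : NN P, η = η'.comp (cP hS g) → η = η') ∧
      e * R.card + 1 = Nat.card (PC P) ∧
      ∀ B : Finset (PC P →* ℂˣ), (∀ η ∈ B, η ≠ 1) → (∀ (g : NN P), ∀ η ∈ B, η.comp (cP hS g) ∈ B) →
        B.card = e * (B ∩ R).card := by
  classical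
  haveI : Fintype (PC P →* ℂˣ) := Fintype.ofFinite _
  letI act := homAct (P := P) hS
  have hsmul : ∀ (g : NN P) (θ : PC P →* ℂˣ), g • θ = θ.comp (cP hS g) := fun _ _ => rfl
  let A : Finset (PC P →* ℂˣ) := Finset.univ.filter (· ≠ 1)
  have hA : ∀ g : NN P, ∀ x ∈ A, g • x ∈ A := by
    intro g x hx
    rw [hsmul]
    simp only [A, Finset.mem_filter, Finset.mem_univ, true_and] at hx ⊢
    exact comp_ne_one hS hx g
  have horb : ∀ x ∈ A, (Finset.univ.image fun g : NN P => g • x).card = e := by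
    intro x hx
    have hx1 : x ≠ 1 := by simpa [A] using hx
    have h1 := MulAction.card_orbit_mul_card_stabilizer_eq_card_group (NN P) x
    have h2 : Nat.card (MulAction.stabilizer (NN P) x) = Nat.card (CC P) := by
      refine Nat.card_congr ⟨fun g => ⟨g.1.1, ?_⟩, fun c => ⟨⟨c.1, CC_le_NN c.2⟩, ?_⟩, fun _ => rfl, fun _ => rfl⟩
      · by_contra hn
        exact comp_cP_ne hS hx1 hn g.2
      · exact comp_cP_of_mem hS x c.2
    have h3 : Nat.card (MulAction.orbit (NN P) x) = (Finset.univ.image fun g : NN P => g • x).card := by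
      have : MulAction.orbit (NN P) x = ↑(Finset.univ.image fun g : NN P => g • x) := by
        ext y
        simp [MulAction.mem_orbit_iff]
      rw [this, Nat.card_coe_set_eq, Set.ncard_coe_finset]
    rw [← Nat.card_eq_fintype_card, ← Nat.card_eq_fintype_card, ← Nat.card_eq_fintype_card, h2, h3, he] at h1
    have hcpos : 0 < Nat.card (CC P) := Nat.card_pos
    exact Nat.eq_of_mul_eq_mul_right hcpos h1
  obtain ⟨R, hRA, hsep, hcount⟩ := orbit_reps (N := NN P) e _ A rfl hA horb
  refine ⟨R, ?_, ?_, ?_, ?_⟩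
  · intro η hη
    have := hRA hη
    simpa [A] using this
  · intro η hη η' hη' g h
    exact hsep η hη η' hη' g h
  · have h1 := hcount A le_rfl hA
    have h2 : A ∩ R = R := Finset.inter_eq_right.mpr hRA
    rw [h2] at h1
    have h3 : A.card + 1 = Nat.card (PC P) := by
      have h4 : A = Finset.univ.erase 1 := by
        ext y
        simp [A]
      rw [h4, Finset.card_erase_of_mem (Finset.mem_univ _), Finset.card_univ, ← hcard,
        Nat.card_eq_fintype_card]
      have := Fintype.card_pos (α := PC P →* ℂˣ)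
      omega
    rw [← h3, h1]
  · intro B hB1 hBinv
    refine hcount B ?_ hBinv
    intro η hη
    simp only [A, Finset.mem_filter, Finset.mem_univ, true_and]
    exact hB1 η hη

end orbit

end Cfsg.Agent.Lib.H3Exc
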