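import Mathlib
import Cfsg.Agent.Lib.H3Exc3
import Cfsg.Agent.Lib.CharGlaub5

set_option autoImplicit false
set_option linter.unusedSectionVars false

/-! Characters of small degree under the centralizer hypothesis. -/

namespace Cfsg.Agent.Lib.H3Exc

open Cfsg Module
open scoped ComplexConjugate Pointwise
open Cfsg.Agent.Lib.CharBasic Cfsg.Agent.Lib.CharOrth Cfsg.Agent.Lib.CharAlg
open Cfsg.Agent.Lib.CharLin Cfsg.Agent.Lib.CharInd Cfsg.Agent.Lib.CharNormal

universe u

variable {G : Type u} [Group G] [Fintype G] {p : ℕ} [hp : Fact p.Prime] {P : Sylow p G}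

section two

variable [Fintype (PC P)]

/-- Multiplicity over a character of the Sylow subgroup. -/
noncomputable def aF (ξ : G → ℂ) (θ : PC P →* ℂˣ) : ℂ :=
  classInner (fun z : PC P => ξ ((z : CC P) : G)) (fun z => ((θ z : ℂˣ) : ℂ))

theorem PC_comm (hS : Star P) (a b : PC P) : a * b = b * a := by
  apply Subtype.ext
  apply Subtype.ext
  exact star_comm hS a.2 b.2

theorem cP_bij (hS : Star P) (g : NN P) : Function.Bijective (cP hS g) := by
  rw [← Finite.injective_iff_bijective]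
  rw [injective_iff_map_eq_one]
  intro z hz
  have h1 : (g : G)⁻¹ * ((z : CC P) : G) * g = 1 := congrArg (fun w : PC P => ((w : CC P) : G)) hz
  have h2 : ((z : CC P) : G) = 1 := by
    have h3 : ((z : CC P) : G) = g * ((g : G)⁻¹ * ((z : CC P) : G) * g) * (g : G)⁻¹ := by group
    rw [h3, h1]; group
  exact Subtype.ext (Subtype.ext h2)

theorem aF_inv (hS : Star P) {ξ : G → ℂ} (hξ : IsClassFunction G ξ) (θ : PC P →* ℂˣ) (g : NN P) :
    aF ξ (θ.comp (cP hS g)) = aF ξ θ := by
  unfold aF classInner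
  congr 1
  rw [← Function.Bijective.sum_comp (cP_bij hS g) (fun w : PC P => ξ ((w : CC P) : G) * conj ((θ w : ℂˣ) : ℂ))]
  refine Finset.sum_congr rfl fun z _ => ?_
  have h1 : ξ (((cP hS g z : PC P) : CC P) : G) = ξ ((z : CC P) : G) := by
    rw [cP_coe]
    have := hξ ((z : CC P) : G) (g : G)⁻¹
    simpa using this
  rw [h1]
  rfl

theorem exists_nontriv (hS : Star P) {ξ : G → ℂ} (hξ : IsIrrCharacter G ξ) (hne : ξ ≠ fun _ => 1)
    (hno : ∀ K : Subgroup G, K.Normal → (P : Subgroup G) ≤ K → K = ⊤) :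
    ∃ θ : PC P →* ℂˣ, θ ≠ 1 ∧ aF ξ θ ≠ 0 := by
  classical
  by_contra hall
  push Not at hall
  -- `ξ` is constant on `P`
  have hirr : ∀ τ : IrrCharacter (PC P), ∃ θ : PC P →* ℂˣ, (τ : PC P → ℂ) = fun z => ((θ z : ℂˣ) : ℂ) := by
    intro τ
    exact exists_hom_of_linear (IsIrrCharacter.isCharacter τ.2) (irr_degree_one_of_comm τ.2 (PC_comm hS))
  let ξP : PC P → ℂ := fun z => ξ ((z : CC P) : G)
  have hξP : IsCharacter (PC P) ξP :=
    IsCharacter.res (IsCharacter.res (IsIrrCharacter.isCharacter hξ) (CC P)) (PC P)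
  have hconst : ∀ z : PC P, ξP z = ξP 1 := by
    intro z
    have hexp := classFun_eq_sum ξP (classFunction_of_isCharacter hξP)
    have h1 := congrFun hexp z
    have h2 := congrFun hexp 1
    rw [Finset.sum_apply] at h1 h2
    rw [h1, h2]
    refine Finset.sum_congr rfl fun τ _ => ?_
    simp only [Pi.smul_apply, smul_eq_mul]
    obtain ⟨θ, hθ⟩ := hirr τ
    by_cases hθ1 : θ = 1
    · rw [hθ, hθ1]
      simp
    · have h3 : classInner ξP (τ : PC P → ℂ) = 0 := by
        rw [hθ]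
        exact hall θ hθ1
      rw [h3]; simp
  -- the kernel is everything
  have h1 := classInner_irr_self hξ
  obtain ⟨n, ρ, hρ, rfl⟩ := hξ
  have hK : (ρ.ker : Subgroup G) = ⊤ := by
    apply hno _ (MonoidHom.normal_ker _)
    intro z hz
    rw [MonoidHom.mem_ker]
    have h2 := hconst ⟨⟨z, P_le_CC hS hz⟩, hz⟩
    have h3 : ρ.character z = ρ.character 1 := h2
    rw [Representation.char_one] at h3
    exact (character_eq_finrank_iff ρ z).mp h3
  have hall1 : ∀ g, ρ g = 1 := by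
    intro g
    have : g ∈ (ρ.ker : Subgroup G) := by rw [hK]; trivial
    exact this
  have hcon : ∀ g, ρ.character g = n := by
    intro g
    show LinearMap.trace ℂ _ (ρ g) = _
    rw [hall1 g]
    have := Representation.char_one ρ
    simpa [Representation.character] using this
  rw [classInner_self_eq] at h1
  simp only [hcon] at h1
  have hGc : ((Nat.card G : ℝ)) ≠ 0 := by exact_mod_cast Nat.card_pos.ne'
  have h5 : (n : ℝ) ^ 2 = 1 := by
    have h6 : (((Nat.card G : ℝ)⁻¹ * ∑ _g : G, ‖(n : ℂ)‖ ^ 2 : ℝ) : ℂ) = ((1 : ℝ) : ℂ) := by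
      rw [h1]; simp
    have h7 := Complex.ofReal_injective h6
    simp only [Finset.sum_const, Finset.card_univ, nsmul_eq_mul, Complex.norm_natCast] at h7
    rw [← Nat.card_eq_fintype_card] at h7
    field_simp at h7
    exact h7
  have h6 : n = 1 := by
    have : n ^ 2 = 1 := by exact_mod_cast h5
    exact Nat.pow_eq_one.mp this |>.resolve_right (by norm_num)
  apply hne
  funext g
  rw [hcon, h6]
  simp

theorem card_B_le (hS : Star P) {ξ : G → ℂ} (hξ : IsCharacter G ξ) (B : Finset (PC P →* ℂˣ))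
    (hB : ∀ θ ∈ B, aF ξ θ ≠ 0) {D : ℕ} (hD : ξ 1 = D) : B.card ≤ D := by
  classical
  let ξP : PC P → ℂ := fun z => ξ ((z : CC P) : G)
  have hξP : IsCharacter (PC P) ξP := IsCharacter.res (IsCharacter.res hξ (CC P)) (PC P)
  have hexp := classFun_eq_sum ξP (classFunction_of_isCharacter hξP)
  have h1 := congrFun hexp 1
  rw [Finset.sum_apply] at h1
  simp only [Pi.smul_apply, smul_eq_mul] at h1
  choose n hn using fun τ : IrrCharacter (PC P) => IsCharacter.classInner_irr_nat hξP τ.2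
  choose d hd0 hd using fun τ : IrrCharacter (PC P) => IsIrrCharacter.map_one_pos τ.2
  have h2 : D = ∑ τ : IrrCharacter (PC P), n τ * d τ := by
    have h3 : ((D : ℕ) : ℂ) = ((∑ τ : IrrCharacter (PC P), n τ * d τ : ℕ) : ℂ) := by
      push_cast
      rw [← hD]
      show ξP 1 = _
      rw [h1]
      refine Finset.sum_congr rfl fun τ _ => ?_
      rw [hn, hd]
    exact_mod_cast h3
  let ι : (PC P →* ℂˣ) → IrrCharacter (PC P) := fun θ => ⟨fun z => ((θ z : ℂˣ) : ℂ), isIrrCharacter_of_hom θ⟩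
  have hι : Function.Injective ι := by
    intro a b hab
    apply MonoidHom.ext
    intro z
    have := congrFun (congrArg Subtype.val hab) z
    exact Units.ext this
  rw [h2]
  calc B.card = ∑ θ ∈ B, 1 := by simp
    _ ≤ ∑ θ ∈ B, n (ι θ) * d (ι θ) := by
        refine Finset.sum_le_sum fun θ hθ => ?_
        have h3 : n (ι θ) ≠ 0 := by
          intro h0
          apply hB θ hθ
          have := hn (ι θ)
          rw [h0] at this
          show classInner ξP (fun z => ((θ z : ℂˣ) : ℂ)) = 0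
          rw [show (fun z => ((θ z : ℂˣ) : ℂ)) = ((ι θ : IrrCharacter (PC P)) : PC P → ℂ) from rfl, this]
          simp
        have h4 := hd0 (ι θ)
        exact Nat.mul_pos (Nat.pos_of_ne_zero h3) h4
    _ = ∑ τ ∈ B.image ι, n τ * d τ := by
        rw [Finset.sum_image (fun a _ b _ h => hι h)]
    _ ≤ ∑ τ, n τ * d τ := Finset.sum_le_sum_of_subset (Finset.subset_univ _)

theorem exists_over [Fintype (CC P)] (hS : Star P) {ξ : G → ℂ} (hξ : IsCharacter G ξ) {θ : PC P →* ℂˣ}
    (ha : aF ξ θ ≠ 0) :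
    ∃ β : IrrCharacter (CC P), classInner (fun c : CC P => ξ c) (β : CC P → ℂ) ≠ 0 ∧ HasCh (β : CC P → ℂ) θ := by
  classical
  have hξCc : IsCharacter (CC P) (fun c : CC P => ξ c) := IsCharacter.res hξ (CC P)
  have hcentral : PC P ≤ Subgroup.center (CC P) := by
    intro z hz
    rw [Subgroup.mem_center_iff]
    intro y
    apply Subtype.ext
    exact (Subgroup.mem_centralizer_iff.mp y.2 _ hz).symm
  haveI hPCn : (PC P).Normal := by
    constructor
    intro z hz y
    have := Subgroup.mem_center_iff.mp (hcentral hz) y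
    have h5 : y * z * y⁻¹ = z := by rw [this]; group
    rw [h5]; exact hz
  have hexp := classFun_eq_sum (fun c : CC P => ξ c) (classFunction_of_isCharacter hξCc)
  have h1 : (fun z : PC P => ξ ((z : CC P) : G)) =
      ∑ β : IrrCharacter (CC P), classInner (fun c : CC P => ξ c) (β : CC P → ℂ) • (fun z : PC P => (β : CC P → ℂ) z) := by
    funext z
    have h2 := congrFun hexp (z : CC P)
    rw [Finset.sum_apply] at h2 ⊢
    exact h2
  unfold aF at ha
  rw [h1, classInner_sum_left] at ha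
  obtain ⟨β, -, hβ⟩ := Finset.exists_ne_zero_of_sum_ne_zero ha
  rw [classInner_smul_left] at hβ
  refine ⟨β, left_ne_zero_of_mul hβ, ?_⟩
  exact (Cfsg.Agent.Lib.H3Gal.inner_res_ne_zero_iff θ β.2 hcentral).mp (right_ne_zero_of_mul hβ)

end two

section core

variable [Fintype (CC P)] [Fintype (NN P)] [Fintype (PC P)]

theorem isIrr_one (A : Type*) [Group A] [Fintype A] : IsIrrCharacter A (fun _ => (1 : ℂ)) := by
  simpa using isIrrCharacter_of_hom (1 : A →* ℂˣ)

set_option maxHeartbeats 4000000 in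
theorem case_big (hS : Star P) {π : CC P →* PC P} {q : ℕ} (hc : Nat.Coprime q p)
    (hq : ∀ y : CC P, y ^ q = ((π y : PC P) : CC P) ^ q) (hπ : ∀ z : PC P, π z = z)
    {e : ℕ} (he : Nat.card (NN P) = e * Nat.card (CC P)) (he2 : 2 ≤ e) [Finite (PC P →* ℂˣ)]
    (R : Finset (PC P →* ℂˣ))
    (hR : ∀ η ∈ R, η ≠ 1)
    (hsep : ∀ η ∈ R, ∀ η' ∈ R, ∀ g : NN P, η = η'.comp (cP hS g) → η = η')
    (hRB : ∀ B : Finset (PC P →* ℂˣ), (∀ η ∈ B, η ≠ 1) → (∀ (g : NN P), ∀ η ∈ B, η.comp (cP hS g) ∈ B) →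
        B.card = e * (B ∩ R).card)
    (ht : e + 1 ≤ R.card)
    (hno : ∀ K : Subgroup G, K.Normal → (P : Subgroup G) ≤ K → K = ⊤)
    {χ : G → ℂ} (hχ : IsIrrCharacter G χ) {x : ℕ} (hx : χ 1 = x) (hxe : x ^ 2 + e ≤ e * R.card)
    (hχC : classInner (fun c : CC P => χ c) (fun c : CC P => χ c) = e) : False := by
  classical
  haveI : Fintype (PC P →* ℂˣ) := Fintype.ofFinite _
  let Θ : G → ℂ := fun g => χ g * conj (χ g)
  have hΘ : IsCharacter G Θ :=
    IsCharacter.mul (IsIrrCharacter.isCharacter hχ) (IsCharacter.conj (IsIrrCharacter.isCharacter hχ))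
  have hone := isIrr_one G
  have hoC := isIrr_one (CC P)
  have hΘ1 : classInner Θ (fun _ => 1) = 1 := by
    have h0 : classInner Θ (fun _ => 1) = classInner χ χ := by simp [classInner, Θ]
    rw [h0]
    exact classInner_irr_self hχ
  have hΘC : classInner (fun c : CC P => Θ c) (fun _ => 1) = e := by
    rw [← hχC]
    simp [classInner, Θ]
  have hexp := classFun_eq_sum Θ (classFunction_of_isCharacter hΘ)
  have h2 : (fun c : CC P => Θ c) = ∑ τ : IrrCharacter G, classInner Θ (τ : G → ℂ) • (fun c : CC P => (τ : G → ℂ) c) := by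
    funext c
    have h3 := congrFun hexp (c : G)
    rw [Finset.sum_apply] at h3 ⊢
    exact h3
  rw [h2, classInner_sum_left] at hΘC
  simp only [classInner_smul_left] at hΘC
  let τ₁ : IrrCharacter G := ⟨fun _ => 1, hone⟩
  have h3 : ∃ τ : IrrCharacter G, τ ≠ τ₁ ∧
      classInner Θ (τ : G → ℂ) * classInner (fun c : CC P => (τ : G → ℂ) c) (fun _ => 1) ≠ 0 := by
    by_contra hall
    push Not at hall
    rw [Finset.sum_eq_single τ₁ (fun τ _ hτ => hall τ hτ) (by simp)] at hΘC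
    have h4 : classInner (fun c : CC P => (τ₁ : G → ℂ) c) (fun _ => 1) = 1 := classInner_irr_self hoC
    have h5 : classInner Θ (τ₁ : G → ℂ) = 1 := hΘ1
    rw [h4, h5] at hΘC
    have h6 : (e : ℂ) = 1 := by rw [← hΘC]; ring
    have h7 : e = 1 := by exact_mod_cast h6
    omega
  obtain ⟨τ, hτ1, hτ⟩ := h3
  have hξ := τ.2
  have hne : (τ : G → ℂ) ≠ fun _ => 1 := fun h => hτ1 (Subtype.ext h)
  have hΘξ : IsCharacter G (Θ - (τ : G → ℂ)) := IsCharacter.sub_constituent hΘ hξ (left_ne_zero_of_mul hτ)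
  have hin : classInner (Θ - (τ : G → ℂ)) (fun _ => 1) = 1 := by
    rw [classInner_sub_left, hΘ1, classInner_irr hξ hone, if_neg hne]
    simp
  obtain ⟨D, hD⟩ := IsCharacter.map_one_nat (IsIrrCharacter.isCharacter hξ)
  obtain ⟨m, hm⟩ := IsCharacter.map_one_nat hΘξ
  have hm0 : m ≠ 0 := by
    rintro rfl
    have h8 := IsCharacter.eq_zero_of_map_one hΘξ (by simpa using hm)
    rw [h8] at hin
    simp [classInner] at hin
  have hxD : x ^ 2 = D + m := by
    have h8 : ((x : ℂ)) ^ 2 = D + m := by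
      have h9 : (Θ - (τ : G → ℂ)) 1 = (x : ℂ) ^ 2 - D := by
        simp only [Pi.sub_apply, Θ, hx, hD, Complex.conj_natCast]
        ring
      rw [h9] at hm
      rw [← hm]
      ring
    exact_mod_cast h8
  let B : Finset (PC P →* ℂˣ) := Finset.univ.filter (fun θ => θ ≠ 1 ∧ aF (τ : G → ℂ) θ ≠ 0)
  have hB1 : ∀ η ∈ B, η ≠ 1 := fun η hη => (Finset.mem_filter.mp hη).2.1
  have hBinv : ∀ (g : NN P), ∀ η ∈ B, η.comp (cP hS g) ∈ B := by
    intro g η hη
    have h := (Finset.mem_filter.mp hη).2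
    refine Finset.mem_filter.mpr ⟨Finset.mem_univ _, comp_ne_one hS h.1 g, ?_⟩
    rw [aF_inv hS (classFunction_of_isIrrCharacter hξ)]
    exact h.2
  have hBle := card_B_le hS (IsIrrCharacter.isCharacter hξ) B (fun θ hθ => (Finset.mem_filter.mp hθ).2.2) hD
  have hBe := hRB B hB1 hBinv
  obtain ⟨θ', hθ', haθ'⟩ := exists_nontriv hS hξ hne hno
  have hθ'B : θ' ∈ B := Finset.mem_filter.mpr ⟨Finset.mem_univ _, hθ', haθ'⟩
  have hs0 : 0 < (B ∩ R).card := by
    rcases Nat.eq_zero_or_pos (B ∩ R).card with h | h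
    · rw [h, mul_zero] at hBe
      rw [Finset.card_eq_zero] at hBe
      rw [hBe] at hθ'B
      simp at hθ'B
    · exact h
  obtain ⟨η₁, hη₁⟩ := Finset.card_pos.mp hs0
  have hη₁' := Finset.mem_inter.mp hη₁
  have hs2 : (B ∩ R).card + 2 ≤ R.card := by
    have h8 : e * ((B ∩ R).card + 1) < e * R.card := by
      rw [mul_add, ← hBe]
      omega
    have h9 := Nat.lt_of_mul_lt_mul_left h8
    omega
  have hsd : 1 < (R \ B).card := by
    have h8 := Finset.card_sdiff_add_card_inter R B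
    rw [Finset.inter_comm] at h8
    omega
  obtain ⟨η₃, h3R, η₄, h4R, h34⟩ := Finset.one_lt_card.mp hsd
  have h3R' := Finset.mem_sdiff.mp h3R
  have h4R' := Finset.mem_sdiff.mp h4R
  have hz : ∀ η ∈ R, η ∉ B → aF (τ : G → ℂ) η = 0 := by
    intro η hη hηB
    by_contra h0
    exact hηB (Finset.mem_filter.mpr ⟨Finset.mem_univ _, hR η hη, h0⟩)
  exact main_false hS hc hq hπ he R hR hsep ht hξ hne (right_ne_zero_of_mul hτ) hη₁'.2 h3R'.1 h4R'.1 h34
    (Finset.mem_filter.mp hη₁'.1).2.2 (hz _ h3R'.1 h3R'.2) (hz _ h4R'.1 h4R'.2)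

theorem norm_hom {A : Type*} [Group A] [Finite A] (θ : A →* ℂˣ) (z : A) : ‖((θ z : ℂˣ) : ℂ)‖ = 1 := by
  have h := hom_mul_conj θ z
  rw [Complex.mul_conj] at h
  have h2 : Complex.normSq ((θ z : ℂˣ) : ℂ) = 1 := by exact_mod_cast h
  rw [Complex.normSq_eq_norm_sq] at h2
  have h3 : ‖((θ z : ℂˣ) : ℂ)‖ ≥ 0 := norm_nonneg _
  nlinarith

/-- The scalar subgroup of a representation. -/
theorem case_one {χ : G → ℂ} (hχ : IsIrrCharacter G χ) {x : ℕ} (hx : χ 1 = x)
    (hno : ∀ K : Subgroup G, K.Normal → (P : Subgroup G) ≤ K → K = ⊤)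
    (hnorm : ∀ z ∈ (P : Subgroup G), ‖χ z‖ = x) : x = 1 := by
  classical
  have h1 := classInner_irr_self hχ
  obtain ⟨d, ρ, hρ, rfl⟩ := hχ
  have hd : (x : ℂ) = Module.finrank ℂ (Fin d → ℂ) := by
    rw [← hx, Representation.char_one]
  have hd' : ((x : ℝ)) = Module.finrank ℂ (Fin d → ℂ) := by exact_mod_cast hd
  let Z : Subgroup G :=
    { carrier := {g | ∃ ω : ℂ, ρ g = ω • LinearMap.id}
      mul_mem' := by
        rintro a b ⟨ω₁, h₁⟩ ⟨ω₂, h₂⟩
        refine ⟨ω₁ * ω₂, ?_⟩
        rw [map_mul, h₁, h₂]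
        ext v
        simp [mul_smul]
        ring
      one_mem' := ⟨1, by simp; rfl⟩
      inv_mem' := by
        rintro a ha
        apply (norm_character_eq_iff ρ a⁻¹).mp
        rw [character_inv, RCLike.norm_conj]
        exact (norm_character_eq_iff ρ a).mpr ha }
  have hZn : Z.Normal := by
    constructor
    rintro a ⟨ω, hω⟩ h
    refine ⟨ω, ?_⟩
    rw [map_mul, map_mul, hω]
    apply LinearMap.ext
    intro v
    simp only [Module.End.mul_apply, LinearMap.smul_apply, LinearMap.id_apply, map_smul]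
    have h2 : ρ h (ρ h⁻¹ v) = v := by
      rw [← Module.End.mul_apply, ← map_mul, mul_inv_cancel, map_one]
      rfl
    rw [h2]
  have hZP : (P : Subgroup G) ≤ Z := by
    intro z hz
    apply (norm_character_eq_iff ρ z).mp
    rw [hnorm z hz, hd']
  have hZ := hno Z hZn hZP
  have hall : ∀ g, ‖ρ.character g‖ = x := by
    intro g
    have hg : g ∈ Z := by rw [hZ]; trivial
    rw [hd']
    exact (norm_character_eq_iff ρ g).mpr hg
  rw [classInner_self_eq] at h1
  simp only [hall] at h1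
  have hGc : ((Nat.card G : ℝ)) ≠ 0 := by exact_mod_cast Nat.card_pos.ne'
  have h6 : (((Nat.card G : ℝ)⁻¹ * ∑ _g : G, (x : ℝ) ^ 2 : ℝ) : ℂ) = ((1 : ℝ) : ℂ) := by
    rw [h1]; simp
  have h7 := Complex.ofReal_injective h6
  simp only [Finset.sum_const, Finset.card_univ, nsmul_eq_mul] at h7
  rw [← Nat.card_eq_fintype_card] at h7
  field_simp at h7
  have : x ^ 2 = 1 := by exact_mod_cast h7
  exact Nat.pow_eq_one.mp this |>.resolve_right (by norm_num)

set_option maxHeartbeats 4000000 in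
theorem core (hS : Star P) {n : ℕ} (hn : Nat.card (P : Subgroup G) = p ^ n) {χ : G → ℂ} (hχ : IsIrrCharacter G χ)
    (h1 : χ ≠ fun _ => 1) {x : ℕ} (hx : χ 1 = x) (hdeg : x ^ 2 + 1 < p ^ n)
    (hno : ∀ K : Subgroup G, K.Normal → (P : Subgroup G) ≤ K → K = ⊤) :
    NN P ≤ CC P ∧ x = 1 := by
  classical
  obtain ⟨π, q, hπ, hc, hq⟩ := exists_proj hS
  obtain ⟨e, he⟩ : ∃ e, Nat.card (NN P) = e * Nat.card (CC P) := by
    have h0 : CC P ≤ NN P := CC_le_NN
    obtain ⟨e, he⟩ := Subgroup.card_dvd_of_le h0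
    exact ⟨e, by rw [he]; ring⟩
  have he0 : 0 < e := by
    rcases Nat.eq_zero_or_pos e with h | h
    · rw [h, zero_mul] at he
      exact absurd he Nat.card_pos.ne'
    · exact h
  have hPC : Nat.card (PC P) = p ^ n := by
    rw [← hn]
    exact Nat.card_congr (Subgroup.subgroupOfEquivOfLe (P_le_CC hS)).toEquiv
  let ι : (PC P →* ℂˣ) → IrrCharacter (PC P) := fun θ => ⟨fun z => ((θ z : ℂˣ) : ℂ), isIrrCharacter_of_hom θ⟩
  have hι : Function.Injective ι := by
    intro a b hab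
    apply MonoidHom.ext
    intro z
    have := congrFun (congrArg Subtype.val hab) z
    exact Units.ext this
  haveI hfin : Finite (PC P →* ℂˣ) := Finite.of_injective ι hι
  have hcard : Nat.card (PC P →* ℂˣ) = Nat.card (PC P) := by
    letI : CommGroup (PC P) := { (inferInstance : Group (PC P)) with mul_comm := PC_comm hS }
    exact CommGroup.card_monoidHom_of_hasEnoughRootsOfUnity (PC P) ℂ
  obtain ⟨R, hR, hsep, hRc, hRB⟩ := exists_reps hS he hcard
  have hTI : ∀ g : G, g ∉ Subgroup.normalizer ((P : Subgroup G) : Set G) →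
      (P : Subgroup G) ⊓ (MulAut.conj g • (P : Subgroup G)) = ⊥ := by
    intro g hg
    rw [eq_bot_iff]
    intro y hy
    by_contra hy1
    apply hg
    have hy' := Subgroup.mem_inf.mp hy
    exact ti_star hS hy'.1 hy1 (Cfsg.Agent.Lib.H1Core.mem_conj_smul.mp hy'.2)
  have hdegx : charDegree χ = x := Cfsg.Agent.Lib.CharGlaub5.charDegree_of_nat hx
  have hnormN : classInner (fun y : NN P => χ y) (fun y : NN P => χ y) = 1 := by
    rw [← Cfsg.Agent.Lib.H3TIP2.ti_inner P hTI χ (IsIrrCharacter.isCharacter hχ) ?_ (NN P) le_rfl]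
    · exact classInner_irr_self hχ
    · rw [hdegx, hn]; omega
  have hle := norm_res_le he hnormN
  obtain ⟨θ₀, hθ₀, ha⟩ := exists_nontriv hS hχ h1 hno
  obtain ⟨β, hβχ, hβθ⟩ := exists_over hS (IsIrrCharacter.isCharacter hχ) ha
  have hχCc : IsCharacter (CC P) (fun c : CC P => χ c) := IsCharacter.res (IsIrrCharacter.isCharacter hχ) (CC P)
  obtain ⟨M, hM⟩ := IsCharacter.classInner_irr_nat hχCc β.2
  have hM0 : M ≠ 0 := by
    rintro rfl
    apply hβχ
    rw [hM]; simp
  have hinv : ∀ g : NN P, classInner (fun c : CC P => χ c) (cj (g : G) (β : CC P → ℂ)) = M := by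
    intro g
    rw [inner_res_cj (classFunction_of_isIrrCharacter hχ) g, hM]
  obtain ⟨hE, hM1⟩ := res_eq_E₀ hS (classFunction_of_isCharacter hχCc) β.2 hβθ hθ₀ he he0 hle hM0 hinv
  obtain ⟨b, hb0, hb⟩ := IsIrrCharacter.map_one_pos β.2
  have hxb : x = e * b := by
    have h2 : (x : ℂ) = e * b := by
      rw [← hx]
      have := congrFun hE 1
      rw [E₀_one _ he, hb] at this
      exact this
    exact_mod_cast h2
  have hnorm : classInner (fun c : CC P => χ c) (fun c : CC P => χ c) = e := by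
    rw [hE]; exact E₀_norm hS β.2 hβθ hθ₀ he
  have h3 : x ^ 2 < e * R.card := by
    rw [hPC] at hRc
    omega
  have h4 : e * (b * b) + 1 ≤ R.card := by
    have h5 : e * (e * (b * b)) < e * R.card := by
      have h6 : e * (e * (b * b)) = x ^ 2 := by rw [hxb]; ring
      rw [h6]; exact h3
    exact Nat.lt_of_mul_lt_mul_left h5
  have hbb : 1 ≤ b * b := Nat.mul_pos hb0 hb0
  have ht : e + 1 ≤ R.card := by
    have : e * 1 ≤ e * (b * b) := Nat.mul_le_mul_left _ hbb
    omega
  have hxe : x ^ 2 + e ≤ e * R.card := by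
    have h6 : x ^ 2 + e = e * (e * (b * b) + 1) := by rw [hxb]; ring
    rw [h6]
    exact Nat.mul_le_mul_left _ h4
  by_cases he2 : 2 ≤ e
  · exact (case_big hS hc hq hπ he he2 R hR hsep hRB ht hno hχ hx hxe hnorm).elim
  have he1 : e = 1 := by omega
  subst he1
  have hNC : CC P = NN P := Subgroup.eq_of_le_of_card_ge CC_le_NN (by rw [he, one_mul])
  refine ⟨hNC.ge, ?_⟩
  have hEβ : E₀ (β : CC P → ℂ) = β := by
    unfold E₀
    have h5 : ∀ g : NN P, cj (g : G) (β : CC P → ℂ) = β := fun g =>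
      cj_of_mem (classFunction_of_isIrrCharacter β.2) (by rw [hNC]; exact g.2)
    simp only [h5]
    rw [Finset.sum_const, Finset.card_univ, ← Nat.card_eq_fintype_card, he, one_mul]
    have hcne : (Nat.card (CC P) : ℂ) ≠ 0 := by exact_mod_cast Nat.card_pos.ne'
    funext c
    show (Nat.card (CC P) : ℂ)⁻¹ * (Nat.card (CC P) • (β : CC P → ℂ) c) = _
    rw [nsmul_eq_mul]
    field_simp
  rw [hEβ] at hE
  rw [one_mul] at hxb
  apply case_one hχ hx hno
  intro z hz
  have h5 : χ z = (θ₀ ⟨⟨z, P_le_CC hS hz⟩, hz⟩ : ℂ) * b := by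
    have h6 := hβθ ⟨⟨z, P_le_CC hS hz⟩, hz⟩ 1
    rw [hb, mul_one] at h6
    have h7 := congrFun hE ⟨z, P_le_CC hS hz⟩
    exact h7.trans h6
  rw [h5, norm_mul, norm_hom, one_mul, hxb]
  simp

end core

end Cfsg.Agent.Lib.H3Exc
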