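import Mathlib
import Cfsg.Agent.Lib.H3Exc4

set_option autoImplicit false
set_option linter.unusedSectionVars false

/-! Faithful characters of small degree under the centralizer hypothesis. -/

namespace Cfsg.Agent.Lib.H3Exc

open Cfsg Module
open scoped ComplexConjugate Pointwise
open Cfsg.Agent.Lib.CharBasic Cfsg.Agent.Lib.CharOrth Cfsg.Agent.Lib.CharAlg
open Cfsg.Agent.Lib.CharLin Cfsg.Agent.Lib.CharInd Cfsg.Agent.Lib.CharNormal

universe u

variable {G : Type u} [Group G] [Fintype G] {p : ℕ} [hp : Fact p.Prime] {P : Sylow p G}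

theorem star_sub (hS : Star P) (M : Subgroup G) (hle : (P : Subgroup G) ≤ M) : Star (P.subtype hle) := by
  intro x hx hx1
  ext y
  have hx' : (x : G) ∈ (P : Subgroup G) := hx
  have hx1' : (x : G) ≠ 1 := fun h => hx1 (Subtype.ext h)
  have h := hS x hx' hx1'
  rw [Subgroup.mem_centralizer_singleton_iff, Subgroup.mem_centralizer_iff]
  constructor
  · intro hxy z hz
    have h1 : (y : G) ∈ Subgroup.centralizer ({(x : G)} : Set G) := by
      rw [Subgroup.mem_centralizer_singleton_iff]
      exact congrArg Subtype.val hxy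
    rw [h] at h1
    exact Subtype.ext (Subgroup.mem_centralizer_iff.mp h1 z hz)
  · intro hall
    have h1 : (y : G) ∈ Subgroup.centralizer (((P : Subgroup G) : Set G)) := by
      rw [Subgroup.mem_centralizer_iff]
      intro z hz
      exact congrArg Subtype.val (hall ⟨z, hle hz⟩ hz)
    have h2 : (y : G) ∈ Subgroup.centralizer ({(x : G)} : Set G) := by
      rw [h]; exact h1
    rw [Subgroup.mem_centralizer_singleton_iff] at h2
    exact Subtype.ext h2

theorem exists_conj_in (M : Subgroup G) [hMn : M.Normal] (hle : (P : Subgroup G) ≤ M) (g : G) :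
    ∃ m : M, ∀ y ∈ (P : Subgroup G), ((m : G))⁻¹ * (g * y * g⁻¹) * m ∈ (P : Subgroup G) := by
  classical
  have hQ : ((g • P : Sylow p G) : Subgroup G) ≤ M := by
    intro w hw
    rw [Cfsg.Agent.Lib.H1Core.mem_sylow_smul] at hw
    have h1 := hMn.conj_mem _ (hle hw) g
    have h2 : g * (g⁻¹ * w * g) * g⁻¹ = w := by group
    rwa [h2] at h1
  obtain ⟨m, hm⟩ := MulAction.exists_smul_eq M (P.subtype hle) ((g • P).subtype hQ)
  refine ⟨m, fun y hy => ?_⟩
  have h1 : g * y * g⁻¹ ∈ ((g • P : Sylow p G) : Subgroup G) := by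
    rw [Cfsg.Agent.Lib.H1Core.mem_sylow_smul]
    have h2 : g⁻¹ * (g * y * g⁻¹) * g = y := by group
    rwa [h2]
  have h2 : (⟨g * y * g⁻¹, hQ h1⟩ : M) ∈ (((g • P).subtype hQ : Sylow p M) : Subgroup M) := h1
  rw [← hm, Cfsg.Agent.Lib.H1Core.mem_sylow_smul] at h2
  exact h2

theorem no_proper (M : Subgroup G) (hMe : M = Subgroup.normalClosure ((P : Subgroup G) : Set G))
    (hle : (P : Subgroup G) ≤ M) (K : Subgroup M) (hK : K.Normal)
    (hPK : ((P.subtype hle : Sylow p M) : Subgroup M) ≤ K) : K = ⊤ := by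
  classical
  haveI hMn : M.Normal := by rw [hMe]; exact Subgroup.normalClosure_normal
  have h1 : M ≤ K.map M.subtype := by
    conv_lhs => rw [hMe]
    rw [Subgroup.normalClosure, Subgroup.closure_le]
    intro w hw
    obtain ⟨y, hy, hyw⟩ := Group.mem_conjugatesOfSet_iff.mp hw
    obtain ⟨g, rfl⟩ := isConj_iff.mp hyw
    obtain ⟨m, hm⟩ := exists_conj_in M hle g
    have h2 := hm y hy
    have h3 : g * y * g⁻¹ ∈ M := hMn.conj_mem _ (hle hy) g
    have h4 : (m⁻¹ * ⟨g * y * g⁻¹, h3⟩ * m : M) ∈ K := by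
      apply hPK
      exact h2
    have h5 := hK.conj_mem _ h4 m
    refine ⟨_, h5, ?_⟩
    show ((m : G) * ((m : G)⁻¹ * (g * y * g⁻¹) * m) * (m : G)⁻¹) = _
    group
  rw [eq_top_iff]
  intro x _
  obtain ⟨k, hk, hkx⟩ := h1 x.2
  have : k = x := Subtype.ext hkx
  rwa [← this]

set_option maxHeartbeats 4000000 in
theorem normal_of_faithful (P : Sylow p G) (hS : Star P) {n : ℕ} (hn : Nat.card (P : Subgroup G) = p ^ n)
    {χ : G → ℂ} (hχ : IsCharacter G χ) (hfaith : ∀ g, χ g = χ 1 → g = 1) {x : ℕ} (hx : χ 1 = x)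
    (hdeg : x ^ 2 + 1 < p ^ n) : (P : Subgroup G).Normal := by
  classical
  let M := Subgroup.normalClosure ((P : Subgroup G) : Set G)
  have hle : (P : Subgroup G) ≤ M := Subgroup.le_normalClosure
  haveI hMn : M.Normal := Subgroup.normalClosure_normal
  letI : Fintype M := Fintype.ofFinite _
  let Q : Sylow p M := P.subtype hle
  have hQn : Nat.card (Q : Subgroup M) = p ^ n := by
    rw [← hn]
    exact Nat.card_congr (Subgroup.subgroupOfEquivOfLe hle).toEquiv
  have hSQ : Star Q := star_sub hS M hle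
  have hno : ∀ K : Subgroup M, K.Normal → (Q : Subgroup M) ≤ K → K = ⊤ :=
    fun K hK hPK => no_proper M rfl hle K hK hPK
  have hχM : IsCharacter M (fun c : M => χ c) := IsCharacter.res hχ M
  have hlin : ∀ τ : IrrCharacter M, classInner (fun c : M => χ c) (τ : M → ℂ) ≠ 0 → (τ : M → ℂ) 1 = 1 := by
    intro τ hτ
    by_cases ht1 : (τ : M → ℂ) = fun _ => 1
    · rw [ht1]
    obtain ⟨y, hy0, hy⟩ := IsIrrCharacter.map_one_pos τ.2
    have h1 := IsCharacter.sub_constituent hχM τ.2 hτ
    obtain ⟨m, hm⟩ := IsCharacter.map_one_nat h1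
    have hxy : x = y + m := by
      have h2 : (x : ℂ) = y + m := by
        rw [← hm, ← hx]
        simp [hy]
      exact_mod_cast h2
    have hyx : y ≤ x := by omega
    have hdy : y ^ 2 + 1 < p ^ n := lt_of_le_of_lt (Nat.succ_le_succ (Nat.pow_le_pow_left hyx 2)) hdeg
    letI : Fintype (CC Q) := Fintype.ofFinite _
    letI : Fintype (NN Q) := Fintype.ofFinite _
    letI : Fintype (PC Q) := Fintype.ofFinite _
    have h3 := (core hSQ hQn τ.2 ht1 hy hdy hno).2
    rw [hy, h3]
    simp
  have hcomm : ∀ a b : M, a * b = b * a := by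
    intro a b
    let c : M := a * b * a⁻¹ * b⁻¹
    have hexp := classFun_eq_sum (fun c : M => χ c) (classFunction_of_isCharacter hχM)
    have h1 : ∀ d : M, χ d = ∑ τ : IrrCharacter M, classInner (fun c : M => χ c) (τ : M → ℂ) * (τ : M → ℂ) d := by
      intro d
      have h2 := congrFun hexp d
      rw [Finset.sum_apply] at h2
      exact h2
    have h2 : χ (c : G) = χ 1 := by
      have h3 := h1 c
      have h4 := h1 1
      have h5 : ((1 : M) : G) = 1 := rfl
      rw [h5] at h4
      rw [h3, h4]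
      refine Finset.sum_congr rfl fun τ _ => ?_
      by_cases ht : classInner (fun c : M => χ c) (τ : M → ℂ) = 0
      · rw [ht]; simp
      have h6 := hlin τ ht
      obtain ⟨lam, hlam⟩ := exists_hom_of_linear (IsIrrCharacter.isCharacter τ.2) h6
      rw [hlam]
      simp [c]
    have h3 := hfaith _ h2
    have h4 : c = 1 := Subtype.ext h3
    have h5 : a * b = c * (b * a) := by simp [c, mul_assoc]
    rw [h5, h4, one_mul]
  constructor
  intro y hy g
  obtain ⟨m, hm⟩ := exists_conj_in M hle g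
  have h1 := hm y hy
  have h3 : g * y * g⁻¹ ∈ M := hMn.conj_mem _ (hle hy) g
  have h4 := congrArg Subtype.val (hcomm ⟨g * y * g⁻¹, h3⟩ m)
  have h5 : (g * y * g⁻¹ * (m : G)) = (m : G) * (g * y * g⁻¹) := h4
  have h6 : (m : G)⁻¹ * (g * y * g⁻¹) * m = g * y * g⁻¹ := by
    rw [mul_assoc, h5]
    group
  rwa [h6] at h1

end Cfsg.Agent.Lib.H3Exc
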