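import Mathlib
import Cfsg.Agent.Lib.H3Exc5
import Cfsg.Agent.Lib.H3TIP2

set_option autoImplicit false
set_option linter.unusedSectionVars false

/-! Trivial-intersection Sylow subgroups over a normal complement: commutant comparison. -/

namespace Cfsg.Agent.Lib.H3TIK

open Cfsg Module
open scoped ComplexConjugate Pointwise
open Cfsg.Agent.Lib.CharBasic Cfsg.Agent.Lib.CharOrth Cfsg.Agent.Lib.CharAlg
open Cfsg.Agent.Lib.CharLin Cfsg.Agent.Lib.CharInd Cfsg.Agent.Lib.CharNormal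
open Cfsg.Agent.Lib.H3Exc (NN mem_P_of_pelt)

universe u

variable {Γ : Type u} [Group Γ] [Fintype Γ] {p : ℕ} [hp : Fact p.Prime]

section dim

/-- The commutant of a subgroup, as invariants of the conjugation action. -/
noncomputable abbrev Cmt {d : ℕ} (ρ : Representation ℂ Γ (Fin d → ℂ)) (H : Subgroup Γ) :
    Submodule ℂ ((Fin d → ℂ) →ₗ[ℂ] (Fin d → ℂ)) :=
  Representation.invariants (Representation.linHom (ρ.comp H.subtype) (ρ.comp H.subtype))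

theorem finrank_Cmt {d : ℕ} (ρ : Representation ℂ Γ (Fin d → ℂ)) (H : Subgroup Γ) [Fintype H] :
    (finrank ℂ (Cmt ρ H) : ℂ) = classInner (fun h : H => ρ.character h) (fun h : H => ρ.character h) := by
  haveI : Invertible (Nat.card H : ℂ) := invertibleOfNonzero (by exact_mod_cast Nat.card_pos.ne')
  rw [Cmt, ← Representation.card_inv_mul_sum_char_eq_finrank]
  unfold classInner
  congr 1
  refine Finset.sum_congr rfl fun h _ => ?_
  rw [Representation.char_linHom]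
  show ρ.character ((h : Γ)⁻¹) * ρ.character h = ρ.character h * conj (ρ.character h)
  rw [character_inv, mul_comm]

theorem mem_Cmt {d : ℕ} (ρ : Representation ℂ Γ (Fin d → ℂ)) (H : Subgroup Γ)
    (f : (Fin d → ℂ) →ₗ[ℂ] (Fin d → ℂ)) :
    f ∈ Cmt ρ H ↔ ∀ h ∈ H, ∀ v, ρ h (f v) = f (ρ h v) := by
  rw [Representation.mem_invariants]
  constructor
  · intro hf h hh v
    have h1 := LinearMap.congr_fun (hf ⟨h, hh⟩) (ρ h v)
    have h2 : ρ h⁻¹ (ρ h v) = v := by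
      rw [← Module.End.mul_apply, ← map_mul, inv_mul_cancel, map_one]
      rfl
    have h3 : ρ h (f (ρ h⁻¹ (ρ h v))) = f (ρ h v) := h1
    rwa [h2] at h3
  · intro hf h
    apply LinearMap.ext
    intro w
    show ρ h (f (ρ (h : Γ)⁻¹ w)) = f w
    rw [hf h h.2]
    congr 1
    rw [← Module.End.mul_apply, ← map_mul, mul_inv_cancel, map_one]
    rfl

end dim

section count

variable (P : Sylow p Γ) (K : Subgroup Γ) [hKn : K.Normal]

theorem pow_card_mem (hKP : ∀ l : Γ, ∃ k ∈ K, ∃ u ∈ (P : Subgroup Γ), l = k * u) (w : Γ) :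
    w ^ Nat.card (P : Subgroup Γ) ∈ K := by
  obtain ⟨k, hk, u, hu, rfl⟩ := hKP w
  rw [← QuotientGroup.eq_one_iff, QuotientGroup.mk_pow, QuotientGroup.mk_mul,
    (QuotientGroup.eq_one_iff k).mpr hk, one_mul, ← QuotientGroup.mk_pow]
  have h1 : u ^ Nat.card (P : Subgroup Γ) = 1 := by
    have := pow_card_eq_one' (x := (⟨u, hu⟩ : (P : Subgroup Γ)))
    exact congrArg Subtype.val this
  rw [h1]
  rfl

theorem pow_index_ne_one (hKP : ∀ l : Γ, ∃ k ∈ K, ∃ u ∈ (P : Subgroup Γ), l = k * u) {w : Γ} (hw : w ∉ K) :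
    w ^ (P : Subgroup Γ).index ≠ 1 := by
  intro h1
  apply hw
  have h2 : orderOf w ∣ (P : Subgroup Γ).index := orderOf_dvd_of_pow_eq_one h1
  have h3 : (Nat.card (P : Subgroup Γ)).Coprime (orderOf w) :=
    Nat.Coprime.coprime_dvd_right h2 P.card_coprime_index
  obtain ⟨m, hm⟩ := exists_pow_eq_self_of_coprime h3
  rw [← hm]
  exact pow_mem (pow_card_mem P K hKP w) m

theorem pelt_pow_index (w : Γ) : IsPGroup p (Subgroup.zpowers (w ^ (P : Subgroup Γ).index)) := by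
  obtain ⟨n, hn⟩ := IsPGroup.iff_card.mp P.isPGroup'
  rw [IsPGroup.iff_card]
  rw [Nat.card_zpowers]
  have h1 : orderOf (w ^ (P : Subgroup Γ).index) ∣ p ^ n := by
    apply orderOf_dvd_of_pow_eq_one
    rw [← pow_mul, ← hn, Subgroup.index_mul_card]
    exact pow_card_eq_one'
  obtain ⟨m, -, hm⟩ := (Nat.dvd_prime_pow hp.out).mp h1
  exact ⟨m, hm⟩

theorem conj_pow' (k w : Γ) (q : ℕ) : (k⁻¹ * w * k) ^ q = k⁻¹ * w ^ q * k := by
  have := conj_pow (a := k⁻¹) (b := w) (i := q)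
  simpa using this

theorem exists_conj_N (hKP : ∀ l : Γ, ∃ k ∈ K, ∃ u ∈ (P : Subgroup Γ), l = k * u)
    (hti : ∀ x ∈ (P : Subgroup Γ), x ≠ 1 → ∀ g, g⁻¹ * x * g ∈ (P : Subgroup Γ) → g ∈ NN P)
    {w : Γ} (hw : w ∉ K) : ∃ k ∈ K, k⁻¹ * w * k ∈ NN P := by
  set q := (P : Subgroup Γ).index with hq
  have hu := pelt_pow_index P w
  obtain ⟨S, hS⟩ := hu.exists_le_sylow
  obtain ⟨l, hl⟩ := MulAction.exists_smul_eq Γ P S
  have h1 : w ^ q ∈ (S : Subgroup Γ) := hS (Subgroup.mem_zpowers _)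
  rw [← hl, Cfsg.Agent.Lib.H1Core.mem_sylow_smul] at h1
  obtain ⟨k, hk, v, hv, rfl⟩ := hKP l
  refine ⟨k, hk, ?_⟩
  have h2 : k⁻¹ * w ^ q * k ∈ (P : Subgroup Γ) := by
    have h4 : k⁻¹ * w ^ q * k = v * ((k * v)⁻¹ * w ^ q * (k * v)) * v⁻¹ := by group
    rw [h4]
    exact (P : Subgroup Γ).mul_mem ((P : Subgroup Γ).mul_mem hv h1) ((P : Subgroup Γ).inv_mem hv)
  have h5 : (k⁻¹ * w * k) ^ q = k⁻¹ * w ^ q * k := conj_pow' k w q
  have h6 : k⁻¹ * w ^ q * k ≠ 1 := by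
    intro h7
    have h8 : w ^ q = 1 := by
      have : w ^ q = k * (k⁻¹ * w ^ q * k) * k⁻¹ := by group
      rw [this, h7]; group
    exact pow_index_ne_one P K hKP hw h8
  apply hti _ h2 h6
  rw [← h5]
  have h7 : Commute (k⁻¹ * w * k) ((k⁻¹ * w * k) ^ q) := (Commute.refl _).pow_right q
  rw [h5] at h7 ⊢
  rw [mul_assoc, ← h7.eq, ← mul_assoc, inv_mul_cancel, one_mul]
  exact h2

theorem conj_unique (hKP : ∀ l : Γ, ∃ k ∈ K, ∃ u ∈ (P : Subgroup Γ), l = k * u)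
    (hti : ∀ x ∈ (P : Subgroup Γ), x ≠ 1 → ∀ g, g⁻¹ * x * g ∈ (P : Subgroup Γ) → g ∈ NN P)
    {w k₀ k : Γ} (hw : w ∉ K) (hk₀ : k₀⁻¹ * w * k₀ ∈ NN P) (hk : k⁻¹ * w * k ∈ NN P) :
    k₀⁻¹ * k ∈ NN P := by
  set q := (P : Subgroup Γ).index with hq
  have h1 : (k₀⁻¹ * w * k₀) ^ q ∈ (P : Subgroup Γ) :=
    mem_P_of_pelt (pow_mem hk₀ q) (pelt_pow_index P _)
  have h2 : (k⁻¹ * w * k) ^ q ∈ (P : Subgroup Γ) :=
    mem_P_of_pelt (pow_mem hk q) (pelt_pow_index P _)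
  rw [conj_pow'] at h1 h2
  have h3 : k₀⁻¹ * w ^ q * k₀ ≠ 1 := by
    intro h7
    have h8 : w ^ q = 1 := by
      have : w ^ q = k₀ * (k₀⁻¹ * w ^ q * k₀) * k₀⁻¹ := by group
      rw [this, h7]; group
    exact pow_index_ne_one P K hKP hw h8
  apply hti _ h1 h3
  have h4 : (k₀⁻¹ * k)⁻¹ * (k₀⁻¹ * w ^ q * k₀) * (k₀⁻¹ * k) = k⁻¹ * w ^ q * k := by group
  rw [h4]
  exact h2

open Classical in
theorem count (hKP : ∀ l : Γ, ∃ k ∈ K, ∃ u ∈ (P : Subgroup Γ), l = k * u)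
    (hti : ∀ x ∈ (P : Subgroup Γ), x ≠ 1 → ∀ g, g⁻¹ * x * g ∈ (P : Subgroup Γ) → g ∈ NN P)
    [Fintype K] {w : Γ} (hw : w ∉ K) :
    ∑ k : K, (if (k : Γ)⁻¹ * w * k ∈ NN P then (1 : ℝ) else 0) = Nat.card (K ⊓ NN P : Subgroup Γ) := by
  obtain ⟨k₀, hk₀, hy⟩ := exists_conj_N P K hKP hti hw
  rw [← Equiv.sum_comp (Equiv.mulLeft (⟨k₀, hk₀⟩ : K))]
  have h1 : ∀ k : K, (((Equiv.mulLeft (⟨k₀, hk₀⟩ : K)) k : K) : Γ)⁻¹ * w * ((Equiv.mulLeft (⟨k₀, hk₀⟩ : K)) k : K) ∈ NN P ↔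
      (k : Γ) ∈ NN P := by
    intro k
    have h2 : (((Equiv.mulLeft (⟨k₀, hk₀⟩ : K)) k : K) : Γ) = k₀ * k := rfl
    rw [h2]
    constructor
    · intro h3
      have h4 := conj_unique P K hKP hti hw hy h3
      simpa using h4
    · intro h3
      have h4 : (k₀ * (k : Γ))⁻¹ * w * (k₀ * k) = (k : Γ)⁻¹ * (k₀⁻¹ * w * k₀) * k := by group
      rw [h4]
      exact mul_mem (mul_mem (inv_mem h3) hy) h3
  simp only [h1]
  rw [Finset.sum_boole]
  congr 1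
  rw [← Fintype.card_subtype, ← Nat.card_eq_fintype_card]
  exact Nat.card_congr ⟨fun g => ⟨g.1.1, g.1.2, g.2⟩, fun c => ⟨⟨c.1, c.2.1⟩, c.2.2⟩, fun _ => rfl, fun _ => rfl⟩

open Classical in
theorem sum_off (hKP : ∀ l : Γ, ∃ k ∈ K, ∃ u ∈ (P : Subgroup Γ), l = k * u)
    (hti : ∀ x ∈ (P : Subgroup Γ), x ≠ 1 → ∀ g, g⁻¹ * x * g ∈ (P : Subgroup Γ) → g ∈ NN P)
    [Fintype K] (f : Γ → ℝ) (hf : ∀ g h, f (h * g * h⁻¹) = f g) :
    (Nat.card (K ⊓ NN P : Subgroup Γ) : ℝ) * ∑ w, (if w ∈ K then 0 else f w) =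
      (Nat.card K : ℝ) * ∑ y, (if y ∈ NN P ∧ y ∉ K then f y else 0) := by
  have h1 : ∀ w : Γ, (Nat.card (K ⊓ NN P : Subgroup Γ) : ℝ) * (if w ∈ K then 0 else f w) =
      ∑ k : K, (if w ∉ K ∧ (k : Γ)⁻¹ * w * k ∈ NN P then f w else 0) := by
    intro w
    by_cases hw : w ∈ K
    · simp [hw]
    · rw [if_neg hw, ← count P K hKP hti hw, Finset.sum_mul]
      refine Finset.sum_congr rfl fun k _ => ?_
      by_cases h2 : (k : Γ)⁻¹ * w * k ∈ NN P
      · simp [hw, h2]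
      · simp [hw, h2]
  rw [Finset.mul_sum]
  simp only [h1]
  rw [Finset.sum_comm]
  have h2 : ∀ k : K, ∑ w, (if w ∉ K ∧ (k : Γ)⁻¹ * w * k ∈ NN P then f w else 0) =
      ∑ y, (if y ∈ NN P ∧ y ∉ K then f y else 0) := by
    intro k
    rw [← Equiv.sum_comp (MulAut.conj (k : Γ)).toEquiv]
    refine Finset.sum_congr rfl fun y _ => ?_
    have h3 : ((MulAut.conj (k : Γ)).toEquiv y) = (k : Γ) * y * (k : Γ)⁻¹ := rfl
    rw [h3]
    have h4 : (k : Γ)⁻¹ * ((k : Γ) * y * (k : Γ)⁻¹) * k = y := by group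
    have h5 : (k : Γ) * y * (k : Γ)⁻¹ ∈ K ↔ y ∈ K := by
      constructor
      · intro h6
        have := hKn.conj_mem _ h6 (k : Γ)⁻¹
        have h7 : (k : Γ)⁻¹ * ((k : Γ) * y * (k : Γ)⁻¹) * (k : Γ)⁻¹⁻¹ = y := by group
        rwa [h7] at this
      · intro h6
        exact hKn.conj_mem _ h6 k
    rw [h4, hf y k]
    simp only [h5]
    by_cases h6 : y ∈ K <;> by_cases h7 : y ∈ NN P <;> simp [h6, h7]
  simp only [h2]
  rw [Finset.sum_const, Finset.card_univ, ← Nat.card_eq_fintype_card, nsmul_eq_mul]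

open Classical in
theorem sum_sub (H : Subgroup Γ) [Fintype H] (f : Γ → ℝ) :
    ∑ x : H, f x = ∑ w, if w ∈ H then f w else 0 := by
  rw [← Finset.sum_filter]
  exact (Finset.sum_subtype _ (by simp) f).symm

open Classical in
theorem inner_eq (hKP : ∀ l : Γ, ∃ k ∈ K, ∃ u ∈ (P : Subgroup Γ), l = k * u)
    (hti : ∀ x ∈ (P : Subgroup Γ), x ≠ 1 → ∀ g, g⁻¹ * x * g ∈ (P : Subgroup Γ) → g ∈ NN P)
    [Fintype K] [Fintype (NN P)] [Fintype (K ⊓ NN P : Subgroup Γ)]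
    (f : Γ → ℝ) (hf : ∀ g h, f (h * g * h⁻¹) = f g)
    (hG : ∑ w, f w = Nat.card Γ) (hN : ∑ y : NN P, f y = Nat.card (NN P)) :
    (Nat.card (K ⊓ NN P : Subgroup Γ) : ℝ) * ∑ k : K, f k =
      (Nat.card K : ℝ) * ∑ c : (K ⊓ NN P : Subgroup Γ), f c := by
  have key : ∀ g : Γ → ℝ, ∑ w, g w = (∑ k : K, g k) + ∑ w, (if w ∈ K then 0 else g w) := by
    intro g
    rw [sum_sub K g, ← Finset.sum_add_distrib]
    refine Finset.sum_congr rfl fun w _ => ?_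
    by_cases h : w ∈ K <;> simp [h]
  have key2 : ∀ g : Γ → ℝ, ∑ y : NN P, g y =
      (∑ c : (K ⊓ NN P : Subgroup Γ), g c) + ∑ y, (if y ∈ NN P ∧ y ∉ K then g y else 0) := by
    intro g
    rw [sum_sub (NN P) g, sum_sub (K ⊓ NN P) g, ← Finset.sum_add_distrib]
    refine Finset.sum_congr rfl fun w _ => ?_
    by_cases h : w ∈ K <;> by_cases h' : w ∈ NN P <;> simp [h, h', Subgroup.mem_inf]
  have h1 := sum_off P K hKP hti f hf
  have h2 := sum_off P K hKP hti (fun _ => 1) (fun _ _ => rfl)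
  have h3 := key f
  have h4 := key2 f
  have h5 := key (fun _ => 1)
  have h6 := key2 (fun _ => 1)
  simp only [Finset.sum_const, Finset.card_univ, ← Nat.card_eq_fintype_card, nsmul_eq_mul, mul_one] at h5 h6
  rw [hG] at h3
  rw [hN] at h4
  have e1 : ∑ w, (if w ∈ K then 0 else f w) = (Nat.card Γ : ℝ) - ∑ k : K, f k := by linarith
  have e2 : ∑ y, (if y ∈ NN P ∧ y ∉ K then f y else 0) =
      (Nat.card (NN P) : ℝ) - ∑ c : (K ⊓ NN P : Subgroup Γ), f c := by linarith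
  have e3 : ∑ w, (if w ∈ K then (0 : ℝ) else 1) = (Nat.card Γ : ℝ) - Nat.card K := by linarith
  have e4 : ∑ y, (if y ∈ NN P ∧ y ∉ K then (1 : ℝ) else 0) =
      (Nat.card (NN P) : ℝ) - Nat.card (K ⊓ NN P : Subgroup Γ) := by linarith
  rw [e1, e2] at h1
  rw [e3, e4] at h2
  nlinarith

end count

set_option maxHeartbeats 4000000 in
/-- Irreducible characters of small degree are trivial on `[K, P]`. -/
theorem comm_of_small (P : Sylow p Γ) (K : Subgroup Γ) [hKn : K.Normal] (hKc : (Nat.card K).Coprime p)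
    (hKP : ∀ l : Γ, ∃ k ∈ K, ∃ u ∈ (P : Subgroup Γ), l = k * u)
    (hti : ∀ x ∈ (P : Subgroup Γ), x ≠ 1 → ∀ g, g⁻¹ * x * g ∈ (P : Subgroup Γ) → g ∈ NN P)
    {τ : Γ → ℂ} (hτ : IsIrrCharacter Γ τ) (hdeg : charDegree τ ^ 2 ≤ Nat.card (P : Subgroup Γ))
    {k u : Γ} (hk : k ∈ K) (hu : u ∈ (P : Subgroup Γ)) : τ (k * u * k⁻¹ * u⁻¹) = τ 1 := by
  classical
  letI : Fintype K := Fintype.ofFinite _
  letI : Fintype (NN P) := Fintype.ofFinite _
  letI : Fintype (K ⊓ NN P : Subgroup Γ) := Fintype.ofFinite _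
  have hTI : ∀ g : Γ, g ∉ Subgroup.normalizer ((P : Subgroup Γ) : Set Γ) →
      (P : Subgroup Γ) ⊓ (MulAut.conj g • (P : Subgroup Γ)) = ⊥ := by
    intro g hg
    rw [eq_bot_iff]
    intro y hy
    by_contra hy1
    apply hg
    have hy' := Subgroup.mem_inf.mp hy
    exact hti y hy'.1 hy1 g (Cfsg.Agent.Lib.H1Core.mem_conj_smul.mp hy'.2)
  have hN := Cfsg.Agent.Lib.H3TIP2.ti_inner P hTI τ (IsIrrCharacter.isCharacter hτ) hdeg (NN P) le_rfl
  have hself := classInner_irr_self hτ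
  rw [hself] at hN
  rw [classInner_self_eq] at hself hN
  have hcf := classFunction_of_isIrrCharacter hτ
  have hG : ∑ w, ‖τ w‖ ^ 2 = (Nat.card Γ : ℝ) := by
    have h1 := Complex.ofReal_injective (hself.trans (by simp : (1 : ℂ) = ((1 : ℝ) : ℂ)))
    have hc : (Nat.card Γ : ℝ) ≠ 0 := by exact_mod_cast Nat.card_pos.ne'
    field_simp at h1
    linarith
  have hN' : ∑ y : NN P, ‖τ y‖ ^ 2 = (Nat.card (NN P) : ℝ) := by
    have h1 := Complex.ofReal_injective ((by simp : ((1 : ℝ) : ℂ) = (1 : ℂ)).trans hN)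
    have hc : (Nat.card (NN P) : ℝ) ≠ 0 := by exact_mod_cast Nat.card_pos.ne'
    field_simp at h1
    linarith
  have hinner := inner_eq P K hKP hti (fun w => ‖τ w‖ ^ 2) (fun g h => by
    show ‖τ (h * g * h⁻¹)‖ ^ 2 = ‖τ g‖ ^ 2
    rw [hcf g h]) hG hN'
  obtain ⟨d, ρ, hρ, rfl⟩ := hτ
  have hfr : finrank ℂ (Cmt ρ K) = finrank ℂ (Cmt ρ (K ⊓ NN P)) := by
    have h1 : ((finrank ℂ (Cmt ρ K) : ℕ) : ℂ) = (finrank ℂ (Cmt ρ (K ⊓ NN P)) : ℕ) := by
      rw [finrank_Cmt, finrank_Cmt, classInner_self_eq, classInner_self_eq]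
      congr 1
      have hc1 : (Nat.card K : ℝ) ≠ 0 := by exact_mod_cast Nat.card_pos.ne'
      have hc2 : (Nat.card (K ⊓ NN P : Subgroup Γ) : ℝ) ≠ 0 := by exact_mod_cast Nat.card_pos.ne'
      field_simp
      linarith
    exact_mod_cast h1
  have hle : Cmt ρ K ≤ Cmt ρ (K ⊓ NN P) := by
    intro f hf
    rw [mem_Cmt] at hf ⊢
    exact fun h hh v => hf h (Subgroup.mem_inf.mp hh).1 v
  have heq := Submodule.eq_of_le_of_finrank_eq hle hfr
  -- elements of `C` commute with `P`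
  have hKPb : ∀ x, x ∈ K → x ∈ (P : Subgroup Γ) → x = 1 := by
    intro x hx hxP
    obtain ⟨n, hn⟩ := IsPGroup.iff_card.mp P.isPGroup'
    have h1 : x ^ Nat.card K = 1 := by
      have := pow_card_eq_one' (x := (⟨x, hx⟩ : K))
      exact congrArg Subtype.val this
    have h2 : x ^ Nat.card (P : Subgroup Γ) = 1 := by
      have := pow_card_eq_one' (x := (⟨x, hxP⟩ : (P : Subgroup Γ)))
      exact congrArg Subtype.val this
    have h3 : (Nat.card K).Coprime (Nat.card (P : Subgroup Γ)) := by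
      rw [hn]; exact Nat.Coprime.pow_right n hKc
    have h4 : x ^ Nat.gcd (Nat.card K) (Nat.card (P : Subgroup Γ)) = 1 := pow_gcd_eq_one.mpr ⟨h1, h2⟩
    rw [h3.gcd_eq_one, pow_one] at h4
    exact h4
  have hcu : ρ u ∈ Cmt ρ (K ⊓ NN P) := by
    rw [mem_Cmt]
    intro c hc v
    have hc' := Subgroup.mem_inf.mp hc
    have h1 : c * u * c⁻¹ * u⁻¹ = 1 := by
      apply hKPb
      · have h2 : c * u * c⁻¹ * u⁻¹ = c * (u * c⁻¹ * u⁻¹) := by group
        rw [h2]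
        exact mul_mem hc'.1 (hKn.conj_mem _ (inv_mem hc'.1) u)
      · apply mul_mem _ (inv_mem hu)
        exact (Subgroup.mem_normalizer_iff.mp hc'.2 u).mp hu
    have h2 : c * u = u * c := by
      have h3 : c * u = (c * u * c⁻¹ * u⁻¹) * (u * c) := by group
      rw [h3, h1, one_mul]
    rw [← Module.End.mul_apply, ← map_mul, h2, map_mul, Module.End.mul_apply]
  rw [← heq, mem_Cmt] at hcu
  have h2 : ρ (k * u) = ρ (u * k) := by
    apply LinearMap.ext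
    intro v
    rw [map_mul, map_mul, Module.End.mul_apply, Module.End.mul_apply]
    exact hcu k hk v
  have h3 : k * u * k⁻¹ * u⁻¹ = (k * u) * (u * k)⁻¹ := by group
  have h4 : ρ (k * u * k⁻¹ * u⁻¹) = 1 := by
    rw [h3, map_mul, h2, ← map_mul, mul_inv_cancel, map_one]
  show LinearMap.trace ℂ _ (ρ (k * u * k⁻¹ * u⁻¹)) = LinearMap.trace ℂ _ (ρ 1)
  rw [h4, map_one ρ]

end Cfsg.Agent.Lib.H3TIK
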