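import Mathlib
import Cfsg.Prelude.Def_SylowControl
import Cfsg.Prelude.Def_PLocal
import Cfsg.Prelude.Def_SylowChains
import Cfsg.Agent.Lib.LSyl

/-! Functor regularity and factorizations. -/

set_option autoImplicit false
set_option linter.unusedSectionVars false
set_option linter.unusedVariables false
set_option linter.style.haveILetI false

namespace Cfsg.Agent.Lib.LSyl

open Subgroup Cfsg

variable {p : ℕ} [Fact p.Prime] {G : Type*} [Group G] [Finite G]

theorem chain_fin {α : Type*} {R : α → α → Prop} {a b : α} (h : Relation.ReflTransGen R a b) :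
    ∃ (n : ℕ) (c : Fin (n + 1) → α), c 0 = a ∧ c (Fin.last n) = b ∧ ∀ i : Fin n, R (c i.castSucc) (c i.succ) := by
  induction h with
  | refl => exact ⟨0, fun _ => a, rfl, rfl, fun i => i.elim0⟩
  | @tail b d hab hbd ih =>
    obtain ⟨n, c, h0, hl, hc⟩ := ih
    refine ⟨n + 1, Fin.snoc c d, ?_, ?_, ?_⟩
    · have : (0 : Fin (n + 2)) = Fin.castSucc 0 := rfl
      rw [this, Fin.snoc_castSucc, h0]
    · rw [Fin.snoc_last]
    · intro i
      induction i using Fin.lastCases with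
      | last =>
        rw [Fin.snoc_castSucc, Fin.succ_last, Fin.snoc_last, hl]
        exact hbd
      | cast j =>
        rw [Fin.snoc_castSucc, ← Fin.castSucc_succ, Fin.snoc_castSucc]
        exact hc j

theorem fin_chain {α : Type*} {R : α → α → Prop} {n : ℕ} (c : Fin (n + 1) → α)
    (hc : ∀ i : Fin n, R (c i.castSucc) (c i.succ)) : Relation.ReflTransGen R (c 0) (c (Fin.last n)) := by
  have key : ∀ i : Fin (n + 1), Relation.ReflTransGen R (c 0) (c i) := by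
    intro i
    induction i using Fin.induction with
    | zero => exact Relation.ReflTransGen.refl
    | succ i ih => exact ih.tail (hc i)
  exact key _

variable {H : Type*} [Group H] [Finite H]

theorem controls_mono {𝓕₁ 𝓕₂ : Set (Subgroup G)} (h : 𝓕₁ ⊆ 𝓕₂) (hc : ControlsSylowIntersections p 𝓕₁) :
    ControlsSylowIntersections p 𝓕₂ := by
  intro S T hne hint
  obtain ⟨n, c, X, x, h0, hl, hd⟩ := hc S T hne hint
  refine ⟨n, c, X, x, h0, hl, fun i => ?_⟩
  obtain ⟨⟨h1, h1'⟩, ⟨h2, h2'⟩, h3⟩ := hd i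
  exact ⟨⟨h h1, h1'⟩, ⟨h h2, h2'⟩, h3⟩

theorem controls_transport (e : G ≃* H) {𝓕 : Set (Subgroup G)} (hc : ControlsSylowIntersections p 𝓕) :
    ControlsSylowIntersections p ((fun X : Subgroup G => X.map e.toMonoidHom) '' 𝓕) := by
  have hes : Function.Surjective (e.toMonoidHom : G →* H) := e.surjective
  have hes' : Function.Surjective (e.symm.toMonoidHom : H →* G) := e.symm.surjective
  have hback : ∀ T : Sylow p H, ((T.mapSurjective hes').mapSurjective hes) = T := by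
    intro T
    apply Sylow.ext
    rw [Sylow.coe_mapSurjective, Sylow.coe_mapSurjective, Subgroup.map_map]
    ext y
    simp
  intro S T hne hint
  have hne' : S.mapSurjective hes' ≠ T.mapSurjective hes' := by
    intro h
    apply hne
    rw [← hback S, ← hback T, h]
  have hint' : ((S.mapSurjective hes' : Sylow p G) : Subgroup G) ⊓ ((T.mapSurjective hes' : Sylow p G) : Subgroup G) ≠ ⊥ := by
    rw [Sylow.coe_mapSurjective, Sylow.coe_mapSurjective, ← Subgroup.map_inf _ _ _ e.symm.injective]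
    intro h
    exact hint ((Subgroup.map_eq_bot_iff_of_injective _ e.symm.injective).1 h)
  obtain ⟨n, c, X, x, h0, hl, hd⟩ := hc _ _ hne' hint'
  have hmem : ∀ (A Y : Subgroup G), Y ∈ sylowMembers p 𝓕 A →
      Y.map e.toMonoidHom ∈ sylowMembers p ((fun X : Subgroup G => X.map e.toMonoidHom) '' 𝓕) (A.map e.toMonoidHom) := by
    rintro A Y ⟨hY, P, hP⟩
    refine ⟨⟨Y, hY, rfl⟩, P.mapSurjective (MonoidHom.subgroupMap_surjective e.toMonoidHom Y), ?_⟩
    rw [Sylow.coe_mapSurjective]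
    have e1 : ((P : Subgroup Y).map (e.toMonoidHom.subgroupMap Y)).map (Y.map e.toMonoidHom).subtype
        = ((P : Subgroup Y).map Y.subtype).map e.toMonoidHom := by
      rw [Subgroup.map_map, Subgroup.map_map]
      rfl
    refine e1.trans ?_
    rw [hP, Subgroup.map_inf _ _ _ e.injective]
  refine ⟨n, fun i => (c i).mapSurjective hes, fun i => (X i).map e.toMonoidHom, fun i => e (x i), ?_, ?_, ?_⟩
  · simp only [h0]
    exact hback S
  · simp only [hl]
    exact hback T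
  · intro i
    obtain ⟨h1, h2, h3, h4, h5⟩ := hd i
    refine ⟨?_, ?_, ⟨x i, h3, rfl⟩, ?_, ?_⟩
    · rw [Sylow.coe_mapSurjective]
      exact hmem _ _ h1
    · rw [Sylow.coe_mapSurjective]
      exact hmem _ _ h2
    · rw [Sylow.coe_mapSurjective, Sylow.coe_mapSurjective, ← h4, subgroupConjRight, subgroupConjRight]
      rw [Subgroup.map_map, Subgroup.map_map]
      congr 1
      ext y
      simp
    · rw [Sylow.coe_mapSurjective, Sylow.coe_mapSurjective, ← Subgroup.map_inf _ _ _ e.symm.injective] at h5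
      rw [Sylow.coe_mapSurjective, ← Subgroup.map_inf _ _ _ e.injective]
      intro y hy
      have h6 : e.symm y ∈ (S : Subgroup H).map e.symm.toMonoidHom ⊓ (T : Subgroup H).map e.symm.toMonoidHom := by
        obtain ⟨h7, h8⟩ := mem_inf.1 hy
        exact mem_inf.2 ⟨⟨y, h7, rfl⟩, ⟨y, h8, rfl⟩⟩
      exact ⟨_, h5 (by
        rw [Subgroup.map_inf _ _ _ e.symm.injective]
        exact h6), by simp⟩

/-- A link in a chain. -/
def Lnk (p : ℕ) [Fact p.Prime] (f : Subgroup G → Set (Subgroup G)) (D : Subgroup G) (U V : Sylow p G) : Prop :=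
  ∃ P₀ : Sylow p G, ∃ F ∈ f (P₀ : Subgroup G), ∃ x ∈ normalizer (F : Set G),
    (U : Subgroup G) ≤ normalizer (F : Set G) ∧ (V : Subgroup G) ≤ normalizer (F : Set G) ∧
    subgroupConjRight x (V : Subgroup G) = (U : Subgroup G) ∧ D ≤ (V : Subgroup G)

abbrev Chn (p : ℕ) [Fact p.Prime] (f : Subgroup G → Set (Subgroup G)) (D : Subgroup G) : Sylow p G → Sylow p G → Prop :=
  Relation.ReflTransGen (Lnk p f D)

theorem lnk_conj {f : Subgroup G → Set (Subgroup G)} (hf : IsNormalizerFunctor p f) (g : G) {D : Subgroup G} {U V : Sylow p G}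
    (h : Lnk p f D U V) : Lnk p f (D.map (MulAut.conj g).toMonoidHom) (g • U) (g • V) := by
  obtain ⟨P₀, F, hF, x, hx, hU, hV, hc, hD⟩ := h
  have hnorm : ∀ A : Subgroup G, A ≤ normalizer (F : Set G) →
      A.map (MulAut.conj g).toMonoidHom ≤ normalizer ((F.map (MulAut.conj g).toMonoidHom : Subgroup G) : Set G) := by
    rintro A hA _ ⟨a, ha, rfl⟩
    refine Cfsg.Agent.Lib.PGlaub.mem_normalizer_of_conj_mem ?_
    rintro _ ⟨q, hq, rfl⟩
    refine ⟨a * q * a⁻¹, (mem_normalizer_iff.1 (hA ha) q).1 hq, ?_⟩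
    simp only [MulEquiv.coe_toMonoidHom, MulAut.conj_apply]
    group
  have hgx : g * x * g⁻¹ ∈ normalizer ((F.map (MulAut.conj g).toMonoidHom : Subgroup G) : Set G) := by
    have h1 : (zpowers x) ≤ normalizer (F : Set G) := (zpowers_le).2 hx
    exact hnorm _ h1 ⟨x, mem_zpowers x, rfl⟩
  refine ⟨g • P₀, F.map (MulAut.conj g).toMonoidHom, ?_, g * x * g⁻¹, hgx, ?_, ?_, ?_, ?_⟩
  · rw [coe_smul, (hf _ P₀.2).2 g]
    exact ⟨F, hF, rfl⟩
  · rw [coe_smul]
    exact hnorm _ hU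
  · rw [coe_smul]
    exact hnorm _ hV
  · rw [coe_smul, coe_smul, ← hc, subgroupConjRight, subgroupConjRight, map_cn_cn, map_cn_cn]
    congr 2
    group
  · rw [coe_smul]
    exact Subgroup.map_mono hD

theorem chn_conj {f : Subgroup G → Set (Subgroup G)} (hf : IsNormalizerFunctor p f) (g : G) {D : Subgroup G} {U V : Sylow p G}
    (h : Chn p f D U V) : Chn p f (D.map (MulAut.conj g).toMonoidHom) (g • U) (g • V) := by
  induction h with
  | refl => exact Relation.ReflTransGen.refl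
  | tail _ h ih => exact ih.tail (lnk_conj hf g h)

theorem sylow_full {K : Type*} [Group K] [Finite K] (c P : Sylow p K) (X : Subgroup K) (hPX : (P : Subgroup K) ≤ X)
    (Q : Sylow p ↥X) (hQ : (Q : Subgroup ↥X).map X.subtype = (c : Subgroup K) ⊓ X) : (c : Subgroup K) ≤ X := by
  have h1 : Nat.card ((c : Subgroup K) ⊓ X : Subgroup K) = Nat.card (Q : Subgroup ↥X) := by
    rw [← hQ, Subgroup.card_map_of_injective X.subtype_injective]
  let P' : Sylow p ↥X := P.subtype hPX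
  have h2 : Nat.card (Q : Subgroup ↥X) = Nat.card (P' : Subgroup ↥X) := by
    rw [Sylow.card_eq_multiplicity, Sylow.card_eq_multiplicity]
  have h3 : Nat.card (P' : Subgroup ↥X) = Nat.card (P : Subgroup K) := by
    rw [Sylow.coe_subtype]
    exact Nat.card_congr (Subgroup.subgroupOfEquivOfLe hPX).toEquiv
  have h4 : Nat.card (P : Subgroup K) = Nat.card (c : Subgroup K) := by
    rw [Sylow.card_eq_multiplicity, Sylow.card_eq_multiplicity]
  have h5 : (c : Subgroup K) ⊓ X = (c : Subgroup K) :=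
    Subgroup.eq_of_le_of_card_ge inf_le_left (by rw [h1, h2, h3, h4])
  exact inf_eq_left.1 h5

/-- Sylow subgroups of `M` are Sylow in `G`. -/
theorem exists_toG {M : Subgroup G} (S : Sylow p G) (hSM : (S : Subgroup G) ≤ M) (Q : Sylow p ↥M) :
    ∃ Q' : Sylow p G, (Q' : Subgroup G) = (Q : Subgroup ↥M).map M.subtype := by
  obtain ⟨k, hk⟩ := MulAction.exists_smul_eq ↥M (S.subtype hSM) Q
  refine ⟨(k : G) • S, ?_⟩
  rw [coe_smul, ← hk, coe_smul, Sylow.coe_subtype, Subgroup.map_map]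
  ext y
  constructor
  · rintro ⟨s, hs, rfl⟩
    exact ⟨⟨s, hSM hs⟩, Subgroup.mem_subgroupOf.2 hs, rfl⟩
  · rintro ⟨⟨s, hs'⟩, hs, rfl⟩
    exact ⟨s, Subgroup.mem_subgroupOf.1 hs, rfl⟩

theorem regular_chain {f : Subgroup G → Set (Subgroup G)} (hf : IsNormalizerFunctor p f) (S : Sylow p G)
    (M : Subgroup G) (hSM : (S : Subgroup G) ≤ M) (hr : IsFunctorRegular p f M)
    (U R : Sylow p G) (hU : (U : Subgroup G) ≤ M) (hR : (R : Subgroup G) ≤ M) (D : Subgroup G)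
    (hD : D ≤ (U : Subgroup G) ⊓ (R : Subgroup G)) (hne : D ≠ ⊥) : Chn p f D U R := by
  classical
  by_cases hUR : U = R
  · rw [hUR]
  let UM : Sylow p ↥M := U.subtype hU
  let RM : Sylow p ↥M := R.subtype hR
  have hUM : ∀ y : ↥M, y ∈ (UM : Subgroup ↥M) ↔ (y : G) ∈ (U : Subgroup G) := fun y => by
    show y ∈ ((U.subtype hU : Sylow p ↥M) : Subgroup ↥M) ↔ _
    rw [Sylow.coe_subtype, Subgroup.mem_subgroupOf]
  have hRM : ∀ y : ↥M, y ∈ (RM : Subgroup ↥M) ↔ (y : G) ∈ (R : Subgroup G) := fun y => by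
    show y ∈ ((R.subtype hR : Sylow p ↥M) : Subgroup ↥M) ↔ _
    rw [Sylow.coe_subtype, Subgroup.mem_subgroupOf]
  have hUne : UM ≠ RM := by
    intro h
    apply hUR
    apply Sylow.ext
    ext y
    constructor
    · intro hy
      have h1 := (hUM ⟨y, hU hy⟩).2 hy
      rw [h] at h1
      exact (hRM _).1 h1
    · intro hy
      have h1 := (hRM ⟨y, hR hy⟩).2 hy
      rw [← h] at h1
      exact (hUM _).1 h1
  obtain ⟨⟨d₀, hd₀⟩, hd₀1⟩ := (Subgroup.ne_bot_iff_exists_ne_one).1 hne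
  have hint : (UM : Subgroup ↥M) ⊓ (RM : Subgroup ↥M) ≠ ⊥ := by
    intro h
    obtain ⟨h1, h2⟩ := mem_inf.1 (hD hd₀)
    have h3 : (⟨d₀, hU h1⟩ : ↥M) ∈ (UM : Subgroup ↥M) ⊓ (RM : Subgroup ↥M) :=
      mem_inf.2 ⟨(hUM _).2 h1, (hRM _).2 h2⟩
    rw [h] at h3
    have h4 : (⟨d₀, hU h1⟩ : ↥M) = 1 := (Subgroup.mem_bot).1 h3
    apply hd₀1
    apply Subtype.ext
    exact congrArg (Subtype.val : ↥M → G) h4
  obtain ⟨n, c, X, x, h0, hl, hd⟩ := hr UM RM hUne hint
  choose toG htoG using (fun Q : Sylow p ↥M => exists_toG S hSM Q)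
  have hback : ∀ (A : Sylow p G) (hA : (A : Subgroup G) ≤ M), toG (A.subtype hA) = A := by
    intro A hA
    apply Sylow.ext
    rw [htoG, Sylow.coe_subtype, subgroupOf_map_subtype]
    exact inf_eq_left.2 hA
  have hcm : ∀ (Q : Sylow p ↥M) (y : ↥M), (y : G) ∈ ((toG Q : Sylow p G) : Subgroup G) ↔ y ∈ (Q : Subgroup ↥M) := by
    intro Q y
    rw [htoG]
    constructor
    · rintro ⟨z, hz, he⟩
      have : z = y := Subtype.ext he
      rwa [← this]
    · intro hy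
      exact ⟨y, hy, rfl⟩
  have hchain := fin_chain (R := Lnk p f D) (fun i => toG (c i)) (by
    intro i
    obtain ⟨⟨⟨X₀, hX₀, hXe⟩, Q, hQ⟩, ⟨-, Q₂, hQ₂⟩, h3, h4, h5⟩ := hd i
    obtain ⟨P, F, hF, rfl⟩ := hX₀
    have hFP : F ∈ f (((toG P : Sylow p G)) : Subgroup G) := by
      rw [htoG]
      exact hF
    have hNN := ((hf _ (toG P).2).1 F hFP).2
    have hPX : (P : Subgroup ↥M) ≤ X i := by
      intro y hy
      rw [← hXe]
      refine Subgroup.mem_subgroupOf.2 (mem_inf.2 ⟨y.2, hNN ?_⟩)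
      exact Subgroup.le_normalizer ((hcm P y).2 hy)
    have hc1 := sylow_full (c i.castSucc) P (X i) hPX Q hQ
    have hc2 := sylow_full (c i.succ) P (X i) hPX Q₂ hQ₂
    have hXN : ∀ y : ↥M, y ∈ X i → (y : G) ∈ normalizer (F : Set G) := by
      intro y hy
      rw [← hXe] at hy
      exact (mem_inf.1 (Subgroup.mem_subgroupOf.1 hy)).2
    have hXN2 : ∀ (Q : Sylow p ↥M), (Q : Subgroup ↥M) ≤ X i → ((toG Q : Sylow p G) : Subgroup G) ≤ normalizer (F : Set G) := by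
      intro Q hQX
      rw [htoG]
      rintro _ ⟨y, hy, rfl⟩
      exact hXN y (hQX hy)
    refine ⟨toG P, F, hFP, x i, hXN _ h3, hXN2 _ hc1, hXN2 _ hc2, ?_, ?_⟩
    · rw [htoG, htoG, ← h4, subgroupConjRight, subgroupConjRight, Subgroup.map_map, Subgroup.map_map]
      congr 1
    · intro d hd'
      obtain ⟨h6, h7⟩ := mem_inf.1 (hD hd')
      have h8 : (⟨d, hU h6⟩ : ↥M) ∈ (UM : Subgroup ↥M) ⊓ (RM : Subgroup ↥M) :=
        mem_inf.2 ⟨(hUM _).2 h6, (hRM _).2 h7⟩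
      exact (hcm _ ⟨d, hU h6⟩).2 (mem_inf.1 (h5 h8)).1)
  have e0 : toG (c 0) = U := by rw [h0]; exact hback U hU
  have el : toG (c (Fin.last n)) = R := by rw [hl]; exact hback R hR
  rwa [e0, el] at hchain

/-- The main theorem in `G`. -/
theorem factor_chain {f : Subgroup G → Set (Subgroup G)} (hf : IsNormalizerFunctor p f) (S : Sylow p G)
    (G₁ G₂ : Subgroup G) (h₁ : (S : Subgroup G) ≤ G₁) (h₂ : (S : Subgroup G) ≤ G₂)
    (hprod : ∀ g : G, ∃ g₁ ∈ G₁, ∃ g₂ ∈ G₂, g = g₁ * g₂)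
    (hr₁ : IsFunctorRegular p f G₁) (hr₂ : IsFunctorRegular p f G₂) (U V : Sylow p G)
    (hne : (U : Subgroup G) ⊓ (V : Subgroup G) ≠ ⊥) : Chn p f ((U : Subgroup G) ⊓ (V : Subgroup G)) U V := by
  classical
  obtain ⟨a, ha⟩ := MulAction.exists_smul_eq G S U
  obtain ⟨b, hb⟩ := MulAction.exists_smul_eq G S V
  obtain ⟨g₁, hg₁, g₂, hg₂, hgg⟩ := hprod (a⁻¹ * b)
  let U' : Sylow p G := g₁⁻¹ • S
  let V' : Sylow p G := g₂ • S
  let w : G := a * g₁
  have hwU : w • U' = U := by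
    show (a * g₁) • (g₁⁻¹ • S) = U
    rw [smul_smul, mul_assoc, mul_inv_cancel, mul_one, ha]
  have hwV : w • V' = V := by
    show (a * g₁) • (g₂ • S) = V
    rw [smul_smul, mul_assoc, ← hgg, mul_inv_cancel_left, hb]
  have hU'1 : (U' : Subgroup G) ≤ G₁ := by
    show ((g₁⁻¹ • S : Sylow p G) : Subgroup G) ≤ G₁
    rw [coe_smul]
    rintro _ ⟨s, hs, rfl⟩
    exact mul_mem (mul_mem (inv_mem hg₁) (h₁ hs)) (inv_mem (inv_mem hg₁))
  have hV'2 : (V' : Subgroup G) ≤ G₂ := by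
    show ((g₂ • S : Sylow p G) : Subgroup G) ≤ G₂
    rw [coe_smul]
    rintro _ ⟨s, hs, rfl⟩
    exact mul_mem (mul_mem hg₂ (h₂ hs)) (inv_mem hg₂)
  let D₀ : Subgroup G := (U' : Subgroup G) ⊓ (V' : Subgroup G)
  have hD₀map : D₀.map (MulAut.conj w).toMonoidHom = (U : Subgroup G) ⊓ (V : Subgroup G) := by
    show ((U' : Subgroup G) ⊓ (V' : Subgroup G)).map (MulAut.conj w).toMonoidHom = _
    rw [Subgroup.map_inf _ _ _ (MulAut.conj w).injective, ← coe_smul, ← coe_smul, hwU, hwV]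
  have hD₀ne : D₀ ≠ ⊥ := by
    intro h
    apply hne
    rw [← hD₀map, h, Subgroup.map_bot]
  -- conjugate `D₀` into `S` inside `G₁ ⊓ G₂`
  have hSI : (S : Subgroup G) ≤ G₁ ⊓ G₂ := le_inf h₁ h₂
  have hD₀I : D₀ ≤ G₁ ⊓ G₂ := le_inf (inf_le_left.trans hU'1) (inf_le_right.trans hV'2)
  have hD₀p : IsPGroup p ↥D₀ := U'.2.to_le inf_le_left
  have hcomap : IsPGroup p (D₀.subgroupOf (G₁ ⊓ G₂)) := IsPGroup.comap_subtype hD₀p
  obtain ⟨Q, hQ⟩ := hcomap.exists_le_sylow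
  obtain ⟨k, hk⟩ := MulAction.exists_smul_eq ↥(G₁ ⊓ G₂) Q (S.subtype hSI)
  let R : Sylow p G := (k : G)⁻¹ • S
  have hkG : ∀ y ∈ (R : Subgroup G), y ∈ G₁ ⊓ G₂ := by
    intro y hy
    have h1 : ((k : G)⁻¹ • S : Sylow p G) = R := rfl
    rw [← h1, coe_smul] at hy
    obtain ⟨s, hs, rfl⟩ := hy
    exact mul_mem (mul_mem (inv_mem k.2) (hSI hs)) (inv_mem (inv_mem k.2))
  have hD₀R : D₀ ≤ (R : Subgroup G) := by
    intro d hd
    have h1 : (⟨d, hD₀I hd⟩ : ↥(G₁ ⊓ G₂)) ∈ (Q : Subgroup ↥(G₁ ⊓ G₂)) := hQ (Subgroup.mem_subgroupOf.2 hd)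
    have h2 : k * (⟨d, hD₀I hd⟩ : ↥(G₁ ⊓ G₂)) * k⁻¹ ∈ ((k • Q : Sylow p ↥(G₁ ⊓ G₂)) : Subgroup ↥(G₁ ⊓ G₂)) := by
      rw [coe_smul]
      exact ⟨_, h1, by simp⟩
    rw [hk, Sylow.coe_subtype, Subgroup.mem_subgroupOf] at h2
    have h1' : ((k : G)⁻¹ • S : Sylow p G) = R := rfl
    rw [← h1', coe_smul, mem_map_cn]
    simpa using h2
  have hc1 := regular_chain hf S G₁ h₁ hr₁ U' R hU'1 (fun y hy => (mem_inf.1 (hkG y hy)).1) D₀
    (le_inf inf_le_left hD₀R) hD₀ne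
  have hc2 := regular_chain hf S G₂ h₂ hr₂ R V' (fun y hy => (mem_inf.1 (hkG y hy)).2) hV'2 D₀
    (le_inf hD₀R inf_le_right) hD₀ne
  have hc3 := chn_conj hf w (hc1.trans hc2)
  rwa [hwU, hwV, hD₀map] at hc3

theorem regular_top {f : Subgroup G → Set (Subgroup G)} (hf : IsNormalizerFunctor p f) (S : Sylow p G)
    (G₁ G₂ : Subgroup G) (h₁ : (S : Subgroup G) ≤ G₁) (h₂ : (S : Subgroup G) ≤ G₂)
    (hprod : ∀ g : G, ∃ g₁ ∈ G₁, ∃ g₂ ∈ G₂, g = g₁ * g₂)
    (hr₁ : IsFunctorRegular p f G₁) (hr₂ : IsFunctorRegular p f G₂) : IsFunctorRegular p f ⊤ := by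
  classical
  let 𝓕G : Set (Subgroup G) := {X | ∃ P₀ : Sylow p G, ∃ F ∈ f (P₀ : Subgroup G), X = normalizer (F : Set G)}
  have hmem : ∀ (U : Sylow p G) (P₀ : Sylow p G) (F : Subgroup G), F ∈ f (P₀ : Subgroup G) →
      (U : Subgroup G) ≤ normalizer (F : Set G) → normalizer (F : Set G) ∈ sylowMembers p 𝓕G (U : Subgroup G) := by
    intro U P₀ F hF hU
    refine ⟨⟨P₀, F, hF, rfl⟩, U.subtype hU, ?_⟩
    rw [Sylow.coe_subtype, subgroupOf_map_subtype]
  have hc : ControlsSylowIntersections p 𝓕G := by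
    intro U V hne hint
    obtain ⟨n, c, h0, hl, hd⟩ := chain_fin (factor_chain hf S G₁ G₂ h₁ h₂ hprod hr₁ hr₂ U V hint)
    choose P₀ F hF x hx hU hV hcj hD using hd
    exact ⟨n, c, fun i => normalizer (F i : Set G), x, h0, hl, fun i =>
      ⟨hmem _ _ _ (hF i) (hU i), hmem _ _ _ (hF i) (hV i), hx i, hcj i, le_inf (hD i) ((hD i).trans (hV i))⟩⟩
  have ht := controls_transport (Subgroup.topEquiv (G := G)).symm hc
  have hes : Function.Surjective ((Subgroup.topEquiv (G := G)).symm.toMonoidHom : G →* ↥(⊤ : Subgroup G)) :=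
    (Subgroup.topEquiv (G := G)).symm.surjective
  refine controls_mono ?_ ht
  rintro _ ⟨X, ⟨P₀, F, hF, rfl⟩, rfl⟩
  refine ⟨⊤ ⊓ normalizer (F : Set G), ⟨P₀.mapSurjective hes, F, ?_, rfl⟩, ?_⟩
  · have e : ((P₀.mapSurjective hes : Sylow p ↥(⊤ : Subgroup G)) : Subgroup ↥(⊤ : Subgroup G)).map (⊤ : Subgroup G).subtype = (P₀ : Subgroup G) := by
      rw [Sylow.coe_mapSurjective, Subgroup.map_map]
      ext y
      constructor
      · rintro ⟨z, hz, rfl⟩
        exact hz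
      · intro hy
        exact ⟨y, hy, rfl⟩
    rw [e]
    exact hF
  · ext y
    rw [Subgroup.mem_subgroupOf]
    constructor
    · intro hy
      exact ⟨y.1, (mem_inf.1 hy).2, rfl⟩
    · rintro ⟨z, hz, rfl⟩
      exact mem_inf.2 ⟨mem_top _, hz⟩

end Cfsg.Agent.Lib.LSyl
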