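import Mathlib
import Cfsg.Prelude.Def_SylowChains
import Cfsg.Agent.Lib.LSyl2
import Cfsg.Agent.Lib.PSolv
import Cfsg.Agent.Lib.PJ4
import Cfsg.Agent.Lib.H1Trace
import Cfsg.Agent.Lib.H1Quat
import Cfsg.Agent.Lib.PQuad2

/-! Connectivity of the Sylow graph. -/

set_option autoImplicit false
set_option linter.unusedSectionVars false
set_option linter.unusedVariables false
set_option linter.style.haveILetI false

namespace Cfsg.Agent.Lib.LConn

open Subgroup Cfsg Cfsg.Agent.Lib.LSyl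

universe u
variable {p : ℕ} [Fact p.Prime] {G : Type u} [Group G] [Finite G]

theorem orderOf_conj_aux (a b : G) : orderOf (a * b * a⁻¹) = orderOf b :=
  MulEquiv.orderOf_eq (MulAut.conj a) b

def Adj (p : ℕ) [Fact p.Prime] (A B : Sylow p G) : Prop := A ≠ B ∧ (A : Subgroup G) ⊓ (B : Subgroup G) ≠ ⊥

abbrev Conn (p : ℕ) [Fact p.Prime] : Sylow p G → Sylow p G → Prop := Relation.ReflTransGen (Adj p)

theorem adj_symm {A B : Sylow p G} (h : Adj p A B) : Adj p B A :=
  ⟨h.1.symm, by rw [inf_comm]; exact h.2⟩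

theorem conn_symm {A B : Sylow p G} (h : Conn p A B) : Conn p B A := by
  induction h with
  | refl => exact Relation.ReflTransGen.refl
  | tail _ h ih => exact Relation.ReflTransGen.head (adj_symm h) ih

theorem adj_smul (g : G) {A B : Sylow p G} (h : Adj p A B) : Adj p (g • A) (g • B) := by
  refine ⟨fun e => h.1 (MulAction.injective g e), ?_⟩
  rw [coe_smul, coe_smul, ← Subgroup.map_inf _ _ _ (MulAut.conj g).injective]
  intro e
  exact h.2 ((Subgroup.map_eq_bot_iff_of_injective _ (MulAut.conj g).injective).1 e)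

theorem conn_smul (g : G) {A B : Sylow p G} (h : Conn p A B) : Conn p (g • A) (g • B) := by
  induction h with
  | refl => exact Relation.ReflTransGen.refl
  | tail _ h ih => exact ih.tail (adj_smul g h)

theorem conn_of_inf {A B : Sylow p G} (h : (A : Subgroup G) ⊓ (B : Subgroup G) ≠ ⊥) : Conn p A B := by
  by_cases hAB : A = B
  · rw [hAB]
  · exact Relation.ReflTransGen.single ⟨hAB, h⟩

theorem conn_of_mem {A B : Sylow p G} {a : G} (ha : a ≠ 1) (h1 : a ∈ (A : Subgroup G)) (h2 : a ∈ (B : Subgroup G)) : Conn p A B := by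
  refine conn_of_inf (fun h => ha ?_)
  have : a ∈ (A : Subgroup G) ⊓ (B : Subgroup G) := mem_inf.2 ⟨h1, h2⟩
  rw [h] at this
  exact this

theorem chain_of_all (h : ∀ A B : Sylow p G, Conn p A B) : IsSylowChainConnected p G := by
  classical
  intro S T
  by_cases hST : S = T
  · exact ⟨0, fun _ => S, rfl, hST, fun i => inf_le_left, fun i => i.elim0⟩
  by_cases hb : (S : Subgroup G) ⊓ (T : Subgroup G) = ⊥
  · obtain ⟨n, c, h0, hl, hc⟩ := chain_fin (h S T)
    refine ⟨n, c, h0, hl, fun i => ?_, hc⟩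
    rw [hb]
    exact bot_le
  · refine ⟨1, ![S, T], rfl, rfl, fun i => ?_, fun i => ?_⟩
    · fin_cases i
      · exact inf_le_left
      · exact inf_le_right
    · fin_cases i
      exact ⟨hST, hb⟩

/-- The stabilizer of the connected component. -/
def stb (T : Sylow p G) : Subgroup G where
  carrier := {g | Conn p T (g • T)}
  one_mem' := by
    show Conn p T ((1 : G) • T)
    rw [one_smul]
  mul_mem' := by
    intro a b ha hb
    show Conn p T ((a * b) • T)
    rw [mul_smul]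
    exact Relation.ReflTransGen.trans ha (conn_smul a hb)
  inv_mem' := by
    intro a ha
    show Conn p T (a⁻¹ • T)
    have h1 := conn_smul a⁻¹ ha
    rw [inv_smul_smul] at h1
    exact conn_symm h1

theorem mem_stb {T : Sylow p G} {g : G} : g ∈ stb T ↔ Conn p T (g • T) := Iff.rfl

theorem mem_smul_iff (T : Sylow p G) (g x : G) : x ∈ ((g • T : Sylow p G) : Subgroup G) ↔ g⁻¹ * x * g ∈ (T : Subgroup G) := by
  rw [coe_smul, mem_map_cn]

theorem conj_mem_smul {T : Sylow p G} {x : G} (g : G) (h : x ∈ (T : Subgroup G)) : g * x * g⁻¹ ∈ ((g • T : Sylow p G) : Subgroup G) := by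
  rw [mem_smul_iff]
  have e : g⁻¹ * (g * x * g⁻¹) * g = x := by group
  rwa [e]

theorem mem_stb_of_fix {T : Sylow p G} {a c : G} (ha : a ∈ (T : Subgroup G)) (ha1 : a ≠ 1) (hc : c * a * c⁻¹ = a) : c ∈ stb T := by
  refine conn_of_mem ha1 ha ?_
  have := conj_mem_smul c ha
  rwa [hc] at this

theorem smul_eq_of_mem {T : Sylow p G} {t : G} (ht : t ∈ (T : Subgroup G)) : t • T = T :=
  (Sylow.smul_eq_iff_mem_normalizer).2 (Subgroup.le_normalizer ht)

theorem T_le_stb (T : Sylow p G) : (T : Subgroup G) ≤ stb T := by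
  intro t ht
  rw [mem_stb, smul_eq_of_mem ht]

theorem eq_top_of_stb {T : Sylow p G} (h : stb T = ⊤) : ∀ A B : Sylow p G, Conn p A B := by
  have key : ∀ A : Sylow p G, Conn p T A := by
    intro A
    obtain ⟨g, rfl⟩ := MulAction.exists_smul_eq G T A
    have : g ∈ stb T := by rw [h]; exact mem_top _
    exact this
  exact fun A B => (conn_symm (key A)).trans (key B)

/-- Coprime generation. -/
theorem le_stb_of_noncyclic (T : Sylow p G) (A K : Subgroup G) (hAT : A ≤ (T : Subgroup G)) [IsMulCommutative A]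
    (hnc : ¬ IsCyclic A) (hAK : A ≤ normalizer (K : Set G)) (hcop : (Nat.card A).Coprime (Nat.card K)) : K ≤ stb T := by
  rw [← Cfsg.Agent.Lib.H1Trace.iSup_centralizer_eq A K hnc hAK hcop]
  refine iSup₂_le ?_
  rintro a ⟨haA, ha1⟩ c hc
  have hc2 := (mem_inf.1 hc).2
  have h3 := (mem_centralizer_iff.1 hc2) a rfl
  refine mem_stb_of_fix (hAT haA) ha1 ?_
  rw [← h3]
  group

/-- A `p`-element of an overgroup of `T` lies in a conjugate of `T`. -/
theorem exists_smul_mem (T : Sylow p G) (H : Subgroup G) (hTH : (T : Subgroup G) ≤ H) {y : G} (hy : y ∈ H) {k : ℕ}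
    (hk : orderOf y = p ^ k) : ∃ h ∈ H, y ∈ ((h • T : Sylow p G) : Subgroup G) := by
  have hz : IsPGroup p (zpowers (⟨y, hy⟩ : ↥H)) := by
    apply IsPGroup.of_card (n := k)
    rw [Nat.card_zpowers, Subgroup.orderOf_mk, hk]
  obtain ⟨Q, hQ⟩ := hz.exists_le_sylow
  obtain ⟨a, ha⟩ := MulAction.exists_smul_eq ↥H (T.subtype hTH) Q
  have h1 : (⟨y, hy⟩ : ↥H) ∈ (Q : Subgroup ↥H) := hQ (mem_zpowers _)
  rw [← ha, coe_smul, mem_map_cn, Sylow.coe_subtype, Subgroup.mem_subgroupOf] at h1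
  refine ⟨a, a.2, ?_⟩
  rw [mem_smul_iff]
  simpa using h1

theorem exists_order_p {Q : Subgroup G} (hQ : IsPGroup p Q) (hne : Q ≠ ⊥) : ∃ x ∈ Q, orderOf x = p := by
  obtain ⟨k, hk⟩ := IsPGroup.iff_card.1 hQ
  have hk0 : k ≠ 0 := by
    rintro rfl
    apply hne
    rw [pow_zero] at hk
    exact Subgroup.card_eq_one.1 hk
  have hd : p ∣ Nat.card Q := by
    rw [hk]
    exact dvd_pow_self p hk0
  obtain ⟨x, hx⟩ := exists_prime_orderOf_dvd_card' (p := p) hd
  exact ⟨x, x.2, by rw [Subgroup.orderOf_coe]; exact hx⟩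

theorem exists_elt (T : Sylow p G) (N : Subgroup G) [N.Normal] (hN : p ∣ Nat.card N) :
    ∃ x ∈ (T : Subgroup G) ⊓ N, orderOf x = p := by
  refine exists_order_p (T.2.to_le inf_le_left) ?_
  intro h
  have h1 := Sylow.ne_bot_of_dvd_card (Cfsg.Agent.Lib.PNilp.sylowOfNormal T N) hN
  apply h1
  rw [Cfsg.Agent.Lib.PNilp.coe_sylowOfNormal, eq_bot_iff]
  intro y hy
  have : (y : G) ∈ (T : Subgroup G) ⊓ N := mem_inf.2 ⟨hy, y.2⟩
  rw [h] at this
  exact Subtype.ext this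

theorem isElem_zpowers {x : G} (hx : orderOf x = p) : IsElementaryAbelian p (zpowers x) := by
  refine ⟨inferInstance, fun a ha => ?_⟩
  obtain ⟨i, rfl⟩ := mem_zpowers_iff.1 ha
  rw [← zpow_natCast, ← zpow_mul, mul_comm, zpow_mul, zpow_natCast, ← hx, pow_orderOf_eq_one, one_zpow]

/-- Two independent commuting elements of order `p`. -/
theorem noncyclic_of {x y : G} (hx : orderOf x = p) (hy : orderOf y = p) (hc : x * y = y * x) (hny : y ∉ zpowers x) :
    IsMulCommutative ↥(zpowers x ⊔ zpowers y) ∧ ¬ IsCyclic ↥(zpowers x ⊔ zpowers y) := by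
  have hcz : zpowers y ≤ centralizer ((zpowers x : Subgroup G) : Set G) := by
    rw [zpowers_le, mem_centralizer_iff]
    intro a ha
    obtain ⟨i, rfl⟩ := mem_zpowers_iff.1 ha
    have : Commute x y := hc
    exact ((this.zpow_left i).eq)
  have hE := Cfsg.Agent.Lib.PQuad.isElementaryAbelian_sup (isElem_zpowers hx) (isElem_zpowers hy) hcz
  refine ⟨hE.1, ?_⟩
  intro hcyc
  obtain ⟨g, hg⟩ := hcyc.exists_generator
  have h1 : orderOf g = Nat.card ↥(zpowers x ⊔ zpowers y) := orderOf_eq_card_of_forall_mem_zpowers hg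
  have h2 : orderOf g ∣ p := by
    apply orderOf_dvd_of_pow_eq_one
    apply Subtype.ext
    exact hE.2 _ g.2
  have hpp : p.Prime := Fact.out
  have h3 : Nat.card ↥(zpowers x ⊔ zpowers y) ≤ p := by
    rw [← h1]
    exact Nat.le_of_dvd hpp.pos h2
  have h4 : zpowers x = zpowers x ⊔ zpowers y := by
    apply Subgroup.eq_of_le_of_card_ge le_sup_left
    rw [Nat.card_zpowers, hx]
    exact h3
  apply hny
  rw [h4]
  exact (le_sup_right : zpowers y ≤ zpowers x ⊔ zpowers y) (mem_zpowers y)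

theorem conn_main (N M : Subgroup G) [N.Normal] [M.Normal] (hN : p ∣ Nat.card N) (hM : p ∣ Nat.card M)
    (hK : ¬ p ∣ Nat.card ↥(N ⊓ M)) : ∀ A B : Sylow p G, Conn p A B := by
  classical
  set K := N ⊓ M with hKdef
  haveI hKn : K.Normal := Subgroup.normal_inf_normal N M
  have hpp : p.Prime := Fact.out
  have hKT : ∀ T : Sylow p G, K ⊓ (T : Subgroup G) = ⊥ := by
    intro T
    have h1 : IsPGroup p ↥(K ⊓ (T : Subgroup G)) := T.2.to_le inf_le_right
    obtain ⟨k, hk⟩ := IsPGroup.iff_card.1 h1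
    have h2 : Nat.card ↥(K ⊓ (T : Subgroup G)) ∣ Nat.card K := Subgroup.card_dvd_of_le inf_le_left
    rw [hk] at h2
    have hk0 : k = 0 := by
      by_contra h
      exact hK ((dvd_pow_self p h).trans h2)
    rw [hk0, pow_zero] at hk
    exact Subgroup.card_eq_one.1 hk
  have hcomm : ∀ (T : Sylow p G) (x y : G), x ∈ (T : Subgroup G) → y ∈ (T : Subgroup G) → x ∈ N → y ∈ M → x * y = y * x := by
    intro T x y hxT hyT hxN hyM
    have h1 : x * y * x⁻¹ * y⁻¹ ∈ N := by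
      have := ‹N.Normal›.conj_mem _ (inv_mem hxN) y
      have h2 : x * y * x⁻¹ * y⁻¹ = x * (y * x⁻¹ * y⁻¹) := by group
      rw [h2]
      exact mul_mem hxN this
    have h2 : x * y * x⁻¹ * y⁻¹ ∈ M := mul_mem (‹M.Normal›.conj_mem _ hyM x) (inv_mem hyM)
    have h3 : x * y * x⁻¹ * y⁻¹ ∈ (T : Subgroup G) :=
      mul_mem (mul_mem (mul_mem hxT hyT) (inv_mem hxT)) (inv_mem hyT)
    have h4 : x * y * x⁻¹ * y⁻¹ ∈ K ⊓ (T : Subgroup G) := mem_inf.2 ⟨mem_inf.2 ⟨h1, h2⟩, h3⟩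
    rw [hKT T] at h4
    have h5 : x * y * x⁻¹ * y⁻¹ = 1 := h4
    calc x * y = (x * y * x⁻¹ * y⁻¹) * (y * x) := by group
      _ = y * x := by rw [h5, one_mul]
  -- step 1
  have step1 : ∀ T : Sylow p G, K ≤ stb T := by
    intro T
    obtain ⟨x, hx, hxo⟩ := exists_elt T N hN
    obtain ⟨y, hy, hyo⟩ := exists_elt T M hM
    obtain ⟨hxT, hxN⟩ := mem_inf.1 hx
    obtain ⟨hyT, hyM⟩ := mem_inf.1 hy
    have hny : y ∉ zpowers x := by
      intro h
      have hyN : y ∈ N := (zpowers_le.2 hxN) h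
      have h1 : y ∈ K ⊓ (T : Subgroup G) := mem_inf.2 ⟨mem_inf.2 ⟨hyN, hyM⟩, hyT⟩
      rw [hKT T] at h1
      have h2 : y = 1 := h1
      rw [h2, orderOf_one] at hyo
      exact hpp.one_lt.ne hyo
    obtain ⟨hcomm', hnc⟩ := noncyclic_of hxo hyo (hcomm T x y hxT hyT hxN hyM) hny
    haveI := hcomm'
    have hAT : zpowers x ⊔ zpowers y ≤ (T : Subgroup G) := sup_le (zpowers_le.2 hxT) (zpowers_le.2 hyT)
    refine le_stb_of_noncyclic T _ K hAT hnc ?_ ?_
    · rw [Subgroup.normalizer_eq_top_iff.2 hKn]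
      exact le_top
    · obtain ⟨k, hk⟩ := IsPGroup.iff_card.1 (T.2.to_le hAT)
      rw [hk]
      exact Nat.Coprime.pow_left k ((Nat.Prime.coprime_iff_not_dvd hpp).2 hK)
  -- step 2
  have step2 : ∀ (T : Sylow p G) (x y : G), x ∈ (T : Subgroup G) → x ≠ 1 → x ∈ N → y ∈ M → y ∈ stb T := by
    intro T x y hxT hx1 hxN hyM
    have hc : x⁻¹ * (y * x * y⁻¹) ∈ K := by
      refine mem_inf.2 ⟨mul_mem (inv_mem hxN) (‹N.Normal›.conj_mem _ hxN y), ?_⟩
      have e : x⁻¹ * (y * x * y⁻¹) = (x⁻¹ * y * x⁻¹⁻¹) * y⁻¹ := by group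
      rw [e]
      exact mul_mem (‹M.Normal›.conj_mem _ hyM x⁻¹) (inv_mem hyM)
    set Hx : Subgroup G := K ⊔ zpowers x with hHx
    have hxH : x ∈ Hx := (le_sup_right : zpowers x ≤ Hx) (mem_zpowers x)
    have hwH : y * x * y⁻¹ ∈ Hx := by
      have e : y * x * y⁻¹ = x * (x⁻¹ * (y * x * y⁻¹)) := by group
      rw [e]
      exact mul_mem hxH ((le_sup_left : K ≤ Hx) hc)
    obtain ⟨kx, hkx⟩ := IsPGroup.iff_orderOf.1 T.2 ⟨x, hxT⟩
    rw [Subgroup.orderOf_mk] at hkx
    have hz1 : IsPGroup p (zpowers (⟨x, hxH⟩ : ↥Hx)) := by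
      apply IsPGroup.of_card (n := kx)
      rw [Nat.card_zpowers, Subgroup.orderOf_mk, hkx]
    have hz2 : IsPGroup p (zpowers (⟨y * x * y⁻¹, hwH⟩ : ↥Hx)) := by
      apply IsPGroup.of_card (n := kx)
      rw [Nat.card_zpowers, Subgroup.orderOf_mk, orderOf_conj_aux, hkx]
    obtain ⟨R, hR⟩ := hz1.exists_le_sylow
    obtain ⟨R', hR'⟩ := hz2.exists_le_sylow
    obtain ⟨k₁, hk₁⟩ := MulAction.exists_smul_eq ↥Hx R R'
    obtain ⟨T', hT'⟩ := (R.2.map Hx.subtype : IsPGroup p ((R : Subgroup ↥Hx).map Hx.subtype : Subgroup G)).exists_le_sylow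
    have hxT' : x ∈ (T' : Subgroup G) := hT' ⟨⟨x, hxH⟩, hR (mem_zpowers _), rfl⟩
    have h1 : Conn p T T' := conn_of_mem hx1 hxT hxT'
    obtain ⟨k, hk, z, hz, hkz⟩ := Subgroup.mem_sup_of_normal_left.1 k₁.2
    have hzT' : z ∈ (T' : Subgroup G) := (zpowers_le.2 hxT') hz
    have h2 : Conn p T' (k • T') := step1 T' hk
    have h3 : ((k₁ : G) • T') = k • T' := by
      rw [← hkz, mul_smul, smul_eq_of_mem hzT']
    have hwmem : y * x * y⁻¹ ∈ (((k₁ : G) • T' : Sylow p G) : Subgroup G) := by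
      have h4 : (⟨y * x * y⁻¹, hwH⟩ : ↥Hx) ∈ (R' : Subgroup ↥Hx) := hR' (mem_zpowers _)
      rw [← hk₁, coe_smul] at h4
      obtain ⟨r, hr, hre⟩ := h4
      have h5 : (k₁ : G) * (r : G) * (k₁ : G)⁻¹ = y * x * y⁻¹ := congrArg Subtype.val hre
      rw [← h5]
      exact conj_mem_smul _ (hT' ⟨r, hr, rfl⟩)
    have hw1 : y * x * y⁻¹ ≠ 1 := by
      intro h
      apply hx1
      have e : x = y⁻¹ * (y * x * y⁻¹) * y := by group
      rw [e, h]
      group
    have h6 : Conn p ((k₁ : G) • T') (y • T) := conn_of_mem hw1 hwmem (conj_mem_smul y hxT)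
    rw [h3] at h6
    exact h1.trans (h2.trans h6)
  obtain ⟨S⟩ : Nonempty (Sylow p G) := inferInstance
  obtain ⟨y₀, hy₀, hy₀o⟩ := exists_elt S M hM
  obtain ⟨hy₀S, hy₀M⟩ := mem_inf.1 hy₀
  have hy₀1 : y₀ ≠ 1 := by
    rintro rfl
    rw [orderOf_one] at hy₀o
    exact hpp.one_lt.ne hy₀o
  have key : ∀ T : Sylow p G, Conn p T S := by
    intro T
    obtain ⟨x, hx, hxo⟩ := exists_elt T N hN
    obtain ⟨hxT, hxN⟩ := mem_inf.1 hx
    have hx1 : x ≠ 1 := by
      rintro rfl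
      rw [orderOf_one] at hxo
      exact hpp.one_lt.ne hxo
    have h1 := step2 T x y₀ hxT hx1 hxN hy₀M
    obtain ⟨h, hh, hyh⟩ := exists_smul_mem T (stb T) (T_le_stb T) h1 (k := 1) (by rw [pow_one, hy₀o])
    exact Relation.ReflTransGen.trans hh (conn_of_mem hy₀1 hyh hy₀S)
  exact fun A B => (key A).trans (conn_symm (key B))

theorem s3058 (hG : ¬ IsSylowChainConnected p G) (N M : Subgroup G) [N.Normal] [M.Normal]
    (hN : p ∣ Nat.card N) (hM : p ∣ Nat.card M) : p ∣ Nat.card ↥(N ⊓ M) := by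
  by_contra hK
  exact hG (chain_of_all (conn_main N M hN hM hK))

end Cfsg.Agent.Lib.LConn
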