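import Mathlib
import Cfsg.Agent.Lib.LConn

/-! Connectivity of the Sylow graph for `p`-solvable groups. -/

set_option autoImplicit false
set_option linter.unusedSectionVars false
set_option linter.unusedVariables false
set_option linter.style.haveILetI false

namespace Cfsg.Agent.Lib.LConn

open Subgroup Cfsg Cfsg.Agent.Lib.LSyl

universe u
variable {p : ℕ} [Fact p.Prime] {G : Type u} [Group G] [Finite G]

theorem exists_Q (hdiv : p ∣ Nat.card G) (hsol : IsPSolvable p G) (P : Sylow p G) :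
    ∃ Q : Subgroup G, Q ≠ ⊥ ∧ Q ≤ (P : Subgroup G) ∧
      ∀ g : G, ∃ k ∈ pPrimeCore p G, ∃ n ∈ normalizer (Q : Set G), g = k * n := by
  classical
  set K₀ := pPrimeCore p G with hK₀
  haveI hK₀n : K₀.Normal := Cfsg.Agent.Lib.H1Core.pPrimeCore_normal p G
  have hcK₀ : (Nat.card K₀).Coprime p := Cfsg.Agent.Lib.H1Core.pPrimeCore_coprime p
  have hpp : p.Prime := Fact.out
  set O := pCore p (G ⧸ K₀) with hO
  haveI hOn : O.Normal := Cfsg.Agent.Lib.H1Core.pCore_normal p _
  have hOp : IsPGroup p O := Cfsg.Agent.Lib.H1Core.pCore_isPGroup p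
  have hmk : Function.Surjective (QuotientGroup.mk' K₀) := QuotientGroup.mk'_surjective K₀
  have hOne : O ≠ ⊥ := by
    intro h
    have hs : IsPSolvable p (G ⧸ K₀) := Cfsg.Agent.Lib.PSolv.isPSolvable_of_surjective _ hmk hsol
    have h0 : pPrimeCore p (G ⧸ K₀) = ⊥ := Cfsg.Agent.Lib.PJ.pPrimeCore_quot
    have h1 := Cfsg.Agent.Lib.PSolv.centralizer_le_of_isPSolvable h0 (Cfsg.Agent.Lib.PSolv.isPSolvable_subgroup hs _)
    have htop : K₀ = ⊤ := by
      rw [eq_top_iff]
      intro g _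
      have h2 : (QuotientGroup.mk' K₀ g) ∈ centralizer (pCore p (G ⧸ K₀) : Set (G ⧸ K₀)) := by
        rw [mem_centralizer_iff]
        intro y hy
        have h3 : y ∈ O := hy
        rw [h] at h3
        have h4 : y = 1 := h3
        rw [h4, one_mul, mul_one]
      have h5 := h1 h2
      rw [← hO, h] at h5
      have h6 : QuotientGroup.mk' K₀ g = 1 := h5
      exact (QuotientGroup.eq_one_iff g).1 h6
    rw [htop, Nat.card_congr Subgroup.topEquiv.toEquiv] at hcK₀
    exact (Nat.Prime.coprime_iff_not_dvd hpp).1 hcK₀.symm hdiv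
  let L : Subgroup G := O.comap (QuotientGroup.mk' K₀)
  haveI hLn : L.Normal := hOn.comap _
  have hK₀L : K₀ ≤ L := by
    intro k hk
    show QuotientGroup.mk' K₀ k ∈ O
    have : QuotientGroup.mk' K₀ k = 1 := (QuotientGroup.eq_one_iff k).2 hk
    rw [this]
    exact one_mem _
  refine ⟨(P : Subgroup G) ⊓ L, ?_, inf_le_left, ?_⟩
  · intro h
    apply hOne
    have hd : ¬ p ∣ Nat.card L := by
      intro hd
      obtain ⟨x, hx, hxo⟩ := exists_elt P L hd
      rw [h] at hx
      have h1 : x = 1 := hx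
      rw [h1, orderOf_one] at hxo
      exact hpp.one_lt.ne hxo
    have hLK : L ≤ K₀ := Cfsg.Agent.Lib.H1Core.le_pPrimeCore hLn ((Nat.Prime.coprime_iff_not_dvd hpp).2 hd).symm
    rw [eq_bot_iff]
    intro y hy
    obtain ⟨o, rfl⟩ := hmk y
    have h1 : o ∈ K₀ := hLK hy
    have h2 : QuotientGroup.mk' K₀ o = 1 := (QuotientGroup.eq_one_iff o).2 h1
    rw [h2]
    exact one_mem _
  · intro g
    let P₁ := Cfsg.Agent.Lib.PNilp.sylowOfNormal P L
    let P₂ := Cfsg.Agent.Lib.PNilp.sylowOfNormal (g • P) L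
    obtain ⟨ℓ, hℓ⟩ := MulAction.exists_smul_eq ↥L P₁ P₂
    have hq : IsPGroup p (↥L ⧸ K₀.subgroupOf L) := by
      intro x
      obtain ⟨y, rfl⟩ := QuotientGroup.mk'_surjective _ x
      obtain ⟨n, hn⟩ := hOp ⟨QuotientGroup.mk' K₀ y, y.2⟩
      refine ⟨n, ?_⟩
      rw [← map_pow, QuotientGroup.mk'_apply, QuotientGroup.eq_one_iff, Subgroup.mem_subgroupOf]
      have h1 : (QuotientGroup.mk' K₀ (y : G)) ^ p ^ n = 1 := congrArg Subtype.val hn
      rw [← map_pow] at h1
      have h2 := (QuotientGroup.eq_one_iff _).1 h1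
      simpa using h2
    have hsup := Cfsg.Agent.Lib.PNilp.sup_eq_top_of_isPGroup_quotient P₁ (K₀.subgroupOf L) hq
    have hℓmem : ℓ ∈ K₀.subgroupOf L ⊔ (P₁ : Subgroup ↥L) := by
      rw [sup_comm, hsup]
      exact mem_top _
    obtain ⟨k, hk, q, hq', hkq⟩ := Subgroup.mem_sup_of_normal_left.1 hℓmem
    have hk' : ((k : ↥L) : G) ∈ K₀ := Subgroup.mem_subgroupOf.1 hk
    have hqP : ((q : ↥L) : G) ∈ (P : Subgroup G) := by
      rw [Cfsg.Agent.Lib.PNilp.coe_sylowOfNormal] at hq'
      exact hq'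
    have hqQ : ((q : ↥L) : G) ∈ (P : Subgroup G) ⊓ L := mem_inf.2 ⟨hqP, q.2⟩
    refine ⟨k, hk', (k : G)⁻¹ * g, ?_, by group⟩
    refine Cfsg.Agent.Lib.PGlaub.mem_normalizer_of_conj_mem (fun u hu => ?_)
    obtain ⟨huP, huL⟩ := mem_inf.1 hu
    have h1 : (⟨g * u * g⁻¹, hLn.conj_mem _ huL g⟩ : ↥L) ∈ (P₂ : Subgroup ↥L) := by
      show _ ∈ ((Cfsg.Agent.Lib.PNilp.sylowOfNormal (g • P) L : Sylow p ↥L) : Subgroup ↥L)
      rw [Cfsg.Agent.Lib.PNilp.coe_sylowOfNormal]
      exact conj_mem_smul g huP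
    rw [← hℓ, coe_smul] at h1
    obtain ⟨r, hr, hre⟩ := h1
    have hr' : ((r : ↥L) : G) ∈ (P : Subgroup G) ⊓ L := by
      refine mem_inf.2 ⟨?_, r.2⟩
      rw [Cfsg.Agent.Lib.PNilp.coe_sylowOfNormal] at hr
      exact hr
    have h2 : ((ℓ : ↥L) : G) * (r : G) * ((ℓ : ↥L) : G)⁻¹ = g * u * g⁻¹ := congrArg Subtype.val hre
    have hℓe : ((ℓ : ↥L) : G) = (k : G) * (q : G) := by rw [← hkq]; rfl
    have e : (k : G)⁻¹ * g * u * ((k : G)⁻¹ * g)⁻¹ = (q : G) * (r : G) * (q : G)⁻¹ := by
      have h3 : g * u * g⁻¹ = (k : G) * ((q : G) * (r : G) * (q : G)⁻¹) * (k : G)⁻¹ := by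
        rw [← h2, hℓe]
        group
      calc (k : G)⁻¹ * g * u * ((k : G)⁻¹ * g)⁻¹ = (k : G)⁻¹ * (g * u * g⁻¹) * k := by group
        _ = _ := by rw [h3]; group
    rw [e]
    exact mul_mem (mul_mem hqQ hr') (inv_mem hqQ)

theorem exists_noncyc (P : Sylow p G)
    (hne : ¬ ∀ H K : Subgroup ↥(P : Subgroup G), Nat.card H = p → Nat.card K = p → H = K) :
    ∃ x ∈ (P : Subgroup G), ∃ y ∈ (P : Subgroup G), orderOf x = p ∧ orderOf y = p ∧ x * y = y * x ∧ y ∉ zpowers x := by
  classical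
  have hpp : p.Prime := Fact.out
  push Not at hne
  obtain ⟨H, K, hH, hK, hHK⟩ := hne
  haveI : Fact (1 < p) := ⟨hpp.one_lt⟩
  haveI hnt : Nontrivial ↥(P : Subgroup G) := by
    rw [← Finite.one_lt_card_iff_nontrivial]
    have h1 := Subgroup.card_le_card_group H
    have h2 := hpp.one_lt
    omega
  have hcnt := P.2.center_nontrivial
  have hcne : Subgroup.center ↥(P : Subgroup G) ≠ ⊥ := (Subgroup.nontrivial_iff_ne_bot _).1 hcnt
  obtain ⟨z, hz, hzo⟩ := exists_order_p (P.2.to_subgroup _ : IsPGroup p ↥(Subgroup.center ↥(P : Subgroup G))) hcne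
  -- a subgroup of order `p` different from `⟨z⟩`
  obtain ⟨W, hW, hWne⟩ : ∃ W : Subgroup ↥(P : Subgroup G), Nat.card W = p ∧ W ≠ zpowers z := by
    by_cases h : H = zpowers z
    · refine ⟨K, hK, fun h2 => hHK ?_⟩
      rw [h, h2]
    · exact ⟨H, hH, h⟩
  haveI : Nontrivial ↥W := by
    rw [← Finite.one_lt_card_iff_nontrivial, hW]
    exact hpp.one_lt
  obtain ⟨w, hw⟩ := exists_ne (1 : ↥W)
  have hw1 : (w : ↥(P : Subgroup G)) ≠ 1 := fun h => hw (Subtype.ext h)
  have hwo : orderOf (w : ↥(P : Subgroup G)) = p := by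
    have h1 := orderOf_dvd_natCard w
    rw [hW] at h1
    rcases (Nat.dvd_prime hpp).1 h1 with h2 | h2
    · exfalso
      apply hw
      exact orderOf_eq_one_iff.1 h2
    · rwa [Subgroup.orderOf_coe]
  have hwz : w.1 ∉ zpowers z := by
    intro h
    apply hWne
    apply Subgroup.eq_of_le_of_card_ge
    · intro y hy
      have h1 : zpowers (w : ↥(P : Subgroup G)) = W := by
        apply Subgroup.eq_of_le_of_card_ge (zpowers_le.2 w.2)
        rw [Nat.card_zpowers, hwo, hW]
      rw [← h1] at hy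
      exact (zpowers_le.2 h) hy
    · rw [Nat.card_zpowers, hzo, hW]
  refine ⟨(z : G), z.2, ((w : ↥(P : Subgroup G)) : G), (w : ↥(P : Subgroup G)).2, ?_, ?_, ?_, ?_⟩
  · rw [Subgroup.orderOf_coe]
    exact hzo
  · rw [Subgroup.orderOf_coe]
    exact hwo
  · have h1 := (Subgroup.mem_center_iff.1 hz) (w : ↥(P : Subgroup G))
    exact (congrArg Subtype.val h1).symm
  · intro h
    obtain ⟨i, hi⟩ := mem_zpowers_iff.1 h
    apply hwz
    refine mem_zpowers_iff.2 ⟨i, Subtype.ext ?_⟩
    simpa using hi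

/-- Unique subgroup of order `p` in a cyclic group. -/
theorem unique_of_cyclic {X : Type*} [Group X] [Finite X] [IsCyclic X] (H K : Subgroup X) (hH : Nat.card H = p)
    (hK : Nat.card K = p) : H = K := by
  classical
  have hpp : p.Prime := Fact.out
  haveI := Fintype.ofFinite X
  have h := IsCyclic.card_pow_eq_one_le (α := X) (n := p) hpp.pos
  set S : Finset X := Finset.univ.filter (fun a : X => a ^ p = 1) with hS
  have key : ∀ U : Subgroup X, Nat.card U = p → (U : Set X) = (S : Set X) := by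
    intro U hU
    apply Set.eq_of_subset_of_ncard_le
    · intro u hu
      have h1 : (⟨u, hu⟩ : ↥U) ^ p = 1 := by
        rw [← hU]
        exact pow_card_eq_one'
      have h2 : u ^ p = 1 := congrArg Subtype.val h1
      simp [hS, h2]
    · rw [Set.ncard_coe_finset]
      have h3 : Nat.card ↥(U : Set X) = (U : Set X).ncard := Nat.card_coe_set_eq _
      have h4 : Nat.card ↥(U : Set X) = p := hU
      omega
    · exact Finset.finite_toSet S
  have h1 := key H hH
  have h2 := key K hK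
  exact SetLike.coe_injective (h1.trans h2.symm)

theorem quat_involution (n : ℕ) (s : QuaternionGroup (2 ^ n)) (h1 : s ≠ 1) (h2 : s ^ 2 = 1) :
    s = QuaternionGroup.a ((2 ^ n : ℕ) : ZMod (2 * 2 ^ n)) := by
  haveI : NeZero (2 ^ n) := ⟨by positivity⟩
  haveI : NeZero (2 * 2 ^ n) := ⟨by positivity⟩
  cases s with
  | a i =>
    have h3 : i + i = 0 := by
      rw [pow_two, QuaternionGroup.a_mul_a] at h2
      have h4 : (QuaternionGroup.a (i + i) : QuaternionGroup (2 ^ n)) = QuaternionGroup.a 0 := h2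
      exact QuaternionGroup.a.inj h4
    have hv : i = ((i.val : ℕ) : ZMod (2 * 2 ^ n)) := (ZMod.natCast_zmod_val i).symm
    have hlt : i.val < 2 * 2 ^ n := ZMod.val_lt i
    have h5 : ((i.val + i.val : ℕ) : ZMod (2 * 2 ^ n)) = 0 := by
      push_cast
      rw [← hv]
      exact h3
    have h6 : 2 * 2 ^ n ∣ i.val + i.val := (ZMod.natCast_eq_zero_iff _ _).1 h5
    obtain ⟨t, ht⟩ := h6
    have ht2 : i.val = 2 ^ n * t := by nlinarith
    have hpos : 0 < 2 ^ n := by positivity
    have ht3 : t < 2 := by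
      by_contra hc
      have : 2 ≤ t := by omega
      nlinarith
    interval_cases t
    · exfalso
      apply h1
      have : i = 0 := by
        rw [hv, ht2]
        simp
      rw [this]
      rfl
    · congr 1
      rw [hv, ht2, mul_one]
  | xa i =>
    exfalso
    have h3 := QuaternionGroup.orderOf_xa (n := 2 ^ n) i
    have h4 := orderOf_dvd_of_pow_eq_one h2
    rw [h3] at h4
    omega

theorem unique_of_quat {X : Type*} [Group X] [Finite X] (n : ℕ) (e : X ≃* QuaternionGroup (2 ^ n)) (H K : Subgroup X)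
    (hH : Nat.card H = 2) (hK : Nat.card K = 2) : H = K := by
  classical
  have key : ∀ U : Subgroup X, Nat.card U = 2 → U = zpowers (e.symm (QuaternionGroup.a ((2 ^ n : ℕ) : ZMod (2 * 2 ^ n)))) := by
    intro U hU
    haveI : Nontrivial ↥U := by
      rw [← Finite.one_lt_card_iff_nontrivial, hU]
      norm_num
    obtain ⟨u, hu⟩ := exists_ne (1 : ↥U)
    have hu1 : (u : X) ≠ 1 := fun h => hu (Subtype.ext h)
    have hu2 : (u : X) ^ 2 = 1 := by
      have h1 : u ^ 2 = 1 := by
        rw [← hU]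
        exact pow_card_eq_one'
      exact congrArg Subtype.val h1
    have h3 : e u = QuaternionGroup.a ((2 ^ n : ℕ) : ZMod (2 * 2 ^ n)) :=
      quat_involution n (e u) (fun h => hu1 (by simpa using h)) (by rw [← map_pow, hu2, map_one])
    have h4 : e.symm (QuaternionGroup.a ((2 ^ n : ℕ) : ZMod (2 * 2 ^ n))) = u := by
      rw [← h3]
      simp
    rw [h4]
    symm
    apply Subgroup.eq_of_le_of_card_ge (zpowers_le.2 u.2)
    have h5 : orderOf (u : X) = 2 := orderOf_eq_prime hu2 hu1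
    rw [Nat.card_zpowers, h5, hU]
  rw [key H hH, key K hK]

theorem s3057 (hdiv : p ∣ Nat.card G) (hsol : IsPSolvable p G) (P : Sylow p G) :
    ¬ IsSylowChainConnected p G ↔
      pCore p G = ⊥ ∧ (IsCyclic ↥(P : Subgroup G) ∨ (p = 2 ∧ ∃ n : ℕ, Nonempty (↥(P : Subgroup G) ≃* QuaternionGroup (2 ^ n)))) := by
  classical
  have hpp : p.Prime := Fact.out
  constructor
  · intro hG
    constructor
    · by_contra hne
      apply hG
      refine chain_of_all (fun A B => conn_of_inf (fun h => hne ?_))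
      rw [eq_bot_iff, ← h]
      exact le_inf (Cfsg.Agent.Lib.H1Core.pCore_le_sylow p A) (Cfsg.Agent.Lib.H1Core.pCore_le_sylow p B)
    · apply Cfsg.Agent.Lib.H1Quat.cyclic_or_quaternion p P.2
      by_contra hne
      obtain ⟨x, hx, y, hy, hxo, hyo, hc, hny⟩ := exists_noncyc P hne
      obtain ⟨hcomm', hnc⟩ := noncyclic_of hxo hyo hc hny
      haveI := hcomm'
      have hAT : zpowers x ⊔ zpowers y ≤ (P : Subgroup G) := sup_le (zpowers_le.2 hx) (zpowers_le.2 hy)
      have hK := le_stb_of_noncyclic P _ (pPrimeCore p G) hAT hnc (by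
        rw [Subgroup.normalizer_eq_top_iff.2 (Cfsg.Agent.Lib.H1Core.pPrimeCore_normal p G)]
        exact le_top) (by
        obtain ⟨k, hk⟩ := IsPGroup.iff_card.1 (P.2.to_le hAT)
        rw [hk]
        exact Nat.Coprime.pow_left k (Cfsg.Agent.Lib.H1Core.pPrimeCore_coprime p).symm)
      obtain ⟨Q, hQne, hQP, hfr⟩ := exists_Q hdiv hsol P
      have hN : normalizer (Q : Set G) ≤ stb P := by
        intro n hn
        refine conn_of_inf (fun h => hQne ?_)
        rw [eq_bot_iff, ← h]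
        refine le_inf hQP (fun q hq => ?_)
        have h1 : n⁻¹ * q * n ∈ Q := by
          have := (mem_normalizer_iff.1 (inv_mem hn) q).1 hq
          simpa using this
        rw [mem_smul_iff]
        exact hQP h1
      apply hG
      refine chain_of_all (eq_top_of_stb (T := P) ?_)
      rw [eq_top_iff]
      intro g _
      obtain ⟨k, hk', n, hn, rfl⟩ := hfr g
      exact mul_mem (hK hk') (hN hn)
  · rintro ⟨hO, hc⟩ hconn
    have huni : ∀ H K : Subgroup ↥(P : Subgroup G), Nat.card H = p → Nat.card K = p → H = K := by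
      intro H K hH hK
      rcases hc with hc | ⟨rfl, n, ⟨e⟩⟩
      · exact unique_of_cyclic H K hH hK
      · exact unique_of_quat n e H K hH hK
    -- uniqueness inside `P`
    have hvP : ∀ u ∈ (P : Subgroup G), ∀ v ∈ (P : Subgroup G), orderOf u = p → orderOf v = p → v ∈ zpowers u := by
      intro u hu v hv huo hvo
      have h1 := huni (zpowers ⟨u, hu⟩) (zpowers ⟨v, hv⟩)
        (by rw [Nat.card_zpowers, Subgroup.orderOf_mk, huo]) (by rw [Nat.card_zpowers, Subgroup.orderOf_mk, hvo])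
      have h2 : (⟨v, hv⟩ : ↥(P : Subgroup G)) ∈ zpowers (⟨u, hu⟩ : ↥(P : Subgroup G)) := by
        rw [h1]
        exact mem_zpowers _
      obtain ⟨i, hi⟩ := mem_zpowers_iff.1 h2
      refine mem_zpowers_iff.2 ⟨i, ?_⟩
      simpa using congrArg Subtype.val hi
    have hv : ∀ (T : Sylow p G), ∀ u ∈ (T : Subgroup G), ∀ v ∈ (T : Subgroup G), orderOf u = p → orderOf v = p → v ∈ zpowers u := by
      intro T u hu v hv' huo hvo
      obtain ⟨g, rfl⟩ := MulAction.exists_smul_eq G P T
      rw [mem_smul_iff] at hu hv'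
      have h1 := hvP _ hu _ hv' (by
        have e : g⁻¹ * u * g = g⁻¹ * u * g⁻¹⁻¹ := by group
        rw [e, orderOf_conj_aux, huo]) (by
        have e : g⁻¹ * v * g = g⁻¹ * v * g⁻¹⁻¹ := by group
        rw [e, orderOf_conj_aux, hvo])
      obtain ⟨i, hi⟩ := mem_zpowers_iff.1 h1
      refine mem_zpowers_iff.2 ⟨i, ?_⟩
      have h2 : g⁻¹ * u ^ i * g = g⁻¹ * v * g := by
        rw [← hi]
        have e : (g⁻¹ * u * g) = g⁻¹ * u * g⁻¹⁻¹ := by group
        rw [e, conj_zpow]
        group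
      have h3 := mul_left_cancel (mul_right_cancel h2)
      exact h3
    have hPne : (P : Subgroup G) ≠ ⊥ := Sylow.ne_bot_of_dvd_card P hdiv
    obtain ⟨z, hz, hzo⟩ := exists_order_p P.2 hPne
    have hz1 : z ≠ 1 := by
      rintro rfl
      rw [orderOf_one] at hzo
      exact hpp.one_lt.ne hzo
    have hall : ∀ T : Sylow p G, z ∈ (T : Subgroup G) := by
      intro T
      obtain ⟨n, c, h0, hl, -, hd⟩ := hconn P T
      have key : ∀ i : Fin (n + 1), z ∈ (c i : Subgroup G) := by
        intro i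
        induction i using Fin.induction with
        | zero => rw [h0]; exact hz
        | succ i ih =>
          obtain ⟨u, hu, huo⟩ := exists_order_p ((c i.castSucc).2.to_le inf_le_left) (hd i).2
          obtain ⟨hu1, hu2⟩ := mem_inf.1 hu
          exact (zpowers_le.2 hu2) (hv _ u hu1 z ih huo hzo)
      have := key (Fin.last n)
      rwa [hl] at this
    have hn : (zpowers z).Normal := by
      refine ⟨fun w hw g => ?_⟩
      obtain ⟨i, rfl⟩ := mem_zpowers_iff.1 hw
      rw [← conj_zpow]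
      refine zpow_mem ?_ i
      exact hv (g • P) z (hall _) _ (conj_mem_smul g hz) hzo (by rw [orderOf_conj_aux, hzo])
    have h1 : zpowers z ≤ pCore p G := Cfsg.Agent.Lib.H1Core.le_pCore hn (by
      apply IsPGroup.of_card (n := 1)
      rw [Nat.card_zpowers, hzo, pow_one])
    rw [hO] at h1
    exact hz1 (h1 (mem_zpowers z))

end Cfsg.Agent.Lib.LConn
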