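import Mathlib
import Cfsg.Agent.Lib.H3TIK
import Cfsg.Agent.Lib.LConn2

set_option autoImplicit false
set_option linter.unusedSectionVars false

/-! p-solvable groups with a trivial-intersection Sylow subgroup and a small faithful character. -/

namespace Cfsg.Agent.Lib.H3TIK

open Cfsg Module
open scoped ComplexConjugate Pointwise
open Cfsg.Agent.Lib.CharBasic Cfsg.Agent.Lib.CharOrth Cfsg.Agent.Lib.CharAlg
open Cfsg.Agent.Lib.CharLin Cfsg.Agent.Lib.CharInd Cfsg.Agent.Lib.CharNormal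
open Cfsg.Agent.Lib.H3Exc (NN mem_P_of_pelt)

universe u

set_option maxHeartbeats 4000000 in
theorem normal_of_small {G : Type u} [Group G] [Fintype G] {p : ℕ} [hp : Fact p.Prime]
    (hsolv : IsPSolvable p G) (P : Sylow p G)
    (hTI : ∀ g : G, g ∉ Subgroup.normalizer ((P : Subgroup G) : Set G) →
      (P : Subgroup G) ⊓ (MulAut.conj g • (P : Subgroup G)) = ⊥)
    {χ : G → ℂ} (hχ : IsCharacter G χ) (hfaith : ∀ g : G, χ g = χ 1 → g = 1) {x : ℕ} (hx : χ 1 = x)
    (hdeg : x ^ 2 ≤ Nat.card (P : Subgroup G)) : (P : Subgroup G).Normal := by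
  classical
  by_cases hdiv : p ∣ Nat.card G
  swap
  · have h1 : (P : Subgroup G) = ⊥ := by
      obtain ⟨n, hn⟩ := IsPGroup.iff_card.mp P.isPGroup'
      have h2 : Nat.card (P : Subgroup G) ∣ Nat.card G := Subgroup.card_subgroup_dvd_card _
      rcases Nat.eq_zero_or_pos n with h0 | h0
      · rw [h0, pow_zero] at hn
        exact Subgroup.eq_bot_of_card_eq _ hn
      · exfalso
        apply hdiv
        rw [hn] at h2
        exact (dvd_pow_self p h0.ne').trans h2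
    rw [h1]
    infer_instance
  obtain ⟨Q, hQ, hQP, hfr⟩ := Cfsg.Agent.Lib.LConn.exists_Q hdiv hsolv P
  set K := pPrimeCore p G with hK
  haveI hKn : K.Normal := Cfsg.Agent.Lib.H1Core.pPrimeCore_normal p G
  have hKc : (Nat.card K).Coprime p := Cfsg.Agent.Lib.H1Core.pPrimeCore_coprime p
  have hti : ∀ y ∈ (P : Subgroup G), y ≠ 1 → ∀ g, g⁻¹ * y * g ∈ (P : Subgroup G) → g ∈ NN P := by
    intro y hy hy1 g hg
    by_contra hgn
    have h1 := hTI g hgn
    have h2 : y ∈ (P : Subgroup G) ⊓ (MulAut.conj g • (P : Subgroup G)) :=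
      Subgroup.mem_inf.mpr ⟨hy, Cfsg.Agent.Lib.H1Core.mem_conj_smul.mpr hg⟩
    rw [h1] at h2
    exact hy1 (Subgroup.mem_bot.mp h2)
  obtain ⟨y₀, hyQ, hy1⟩ := Q.bot_or_exists_ne_one.resolve_left hQ
  have hNQ : ∀ n ∈ Subgroup.normalizer (Q : Set G), n ∈ NN P := by
    intro n hn
    apply hti y₀ (hQP hyQ) hy1 n
    apply hQP
    have h1 := (Subgroup.mem_normalizer_iff.mp (inv_mem hn) y₀).mp hyQ
    simpa using h1
  let L : Subgroup G := K ⊔ (P : Subgroup G)
  have hLmem : ∀ l ∈ L, ∃ k ∈ K, ∃ u ∈ (P : Subgroup G), l = k * u := by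
    intro l hl
    have h1 : l ∈ ((K ⊔ (P : Subgroup G) : Subgroup G) : Set G) := hl
    rw [Subgroup.normal_mul] at h1
    obtain ⟨k, hk, u, hu, rfl⟩ := Set.mem_mul.mp h1
    exact ⟨k, hk, u, hu, rfl⟩
  have hKL : K ≤ L := le_sup_left
  have hPL : (P : Subgroup G) ≤ L := le_sup_right
  haveI hLn : L.Normal := by
    constructor
    intro l hl g
    obtain ⟨k, hk, u, hu, rfl⟩ := hLmem l hl
    obtain ⟨k₀, hk₀, n, hn, rfl⟩ := hfr g
    have hn' := hNQ n hn
    have hu' : n * u * n⁻¹ ∈ (P : Subgroup G) := (Subgroup.mem_normalizer_iff.mp hn' u).mp hu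
    have e : (k₀ * n) * (k * u) * (k₀ * n)⁻¹ =
        ((k₀ * n) * k * (k₀ * n)⁻¹) * (k₀ * ((n * u * n⁻¹) * k₀⁻¹ * (n * u * n⁻¹)⁻¹)) * (n * u * n⁻¹) := by
      group
    rw [e]
    refine mul_mem (mul_mem (hKL (hKn.conj_mem _ hk _)) (hKL (mul_mem hk₀ (hKn.conj_mem _ (inv_mem hk₀) _)))) (hPL hu')
  letI : Fintype L := Fintype.ofFinite _
  let P' : Sylow p L := P.subtype hPL
  let K' : Subgroup L := K.subgroupOf L
  haveI hK'n : K'.Normal := Subgroup.Normal.subgroupOf hKn L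
  have hKc' : (Nat.card K').Coprime p := by
    have h1 : Nat.card K' = Nat.card K := Nat.card_congr (Subgroup.subgroupOfEquivOfLe hKL).toEquiv
    rw [h1]
    exact hKc
  have hP'c : Nat.card (P' : Subgroup L) = Nat.card (P : Subgroup G) :=
    Nat.card_congr (Subgroup.subgroupOfEquivOfLe hPL).toEquiv
  have hKP' : ∀ l : L, ∃ k ∈ K', ∃ u ∈ (P' : Subgroup L), l = k * u := by
    intro l
    obtain ⟨k, hk, u, hu, h1⟩ := hLmem l.1 l.2
    exact ⟨⟨k, hKL hk⟩, hk, ⟨u, hPL hu⟩, hu, Subtype.ext h1⟩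
  have hti' : ∀ y ∈ (P' : Subgroup L), y ≠ 1 → ∀ g, g⁻¹ * y * g ∈ (P' : Subgroup L) → g ∈ NN P' := by
    intro y hy hy1 g hg
    have h1 : (g : G) ∈ NN P := hti y hy (fun h => hy1 (Subtype.ext h)) g hg
    rw [Subgroup.mem_normalizer_iff]
    intro z
    exact Subgroup.mem_normalizer_iff.mp h1 z
  have hχL : IsCharacter L (fun c : L => χ c) := IsCharacter.res hχ L
  have hlin : ∀ τ : IrrCharacter L, classInner (fun c : L => χ c) (τ : L → ℂ) ≠ 0 →
      ∀ k ∈ K', ∀ u ∈ (P' : Subgroup L), (τ : L → ℂ) (k * u * k⁻¹ * u⁻¹) = (τ : L → ℂ) 1 := by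
    intro τ hτ k hk u hu
    obtain ⟨y, hy0, hy⟩ := IsIrrCharacter.map_one_pos τ.2
    have h1 := IsCharacter.sub_constituent hχL τ.2 hτ
    obtain ⟨m, hm⟩ := IsCharacter.map_one_nat h1
    have hxy : x = y + m := by
      have h2 : (x : ℂ) = y + m := by
        rw [← hm, ← hx]
        simp [hy]
      exact_mod_cast h2
    have hyx : y ≤ x := by omega
    have hdy : charDegree (τ : L → ℂ) ^ 2 ≤ Nat.card (P' : Subgroup L) := by
      rw [Cfsg.Agent.Lib.CharGlaub5.charDegree_of_nat hy, hP'c]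
      exact (Nat.pow_le_pow_left hyx 2).trans hdeg
    exact comm_of_small P' K' hKc' hKP' hti' τ.2 hdy hk hu
  have hcomm : ∀ k ∈ K, ∀ u ∈ (P : Subgroup G), k * u = u * k := by
    intro k hk u hu
    have hexp := classFun_eq_sum (fun c : L => χ c) (classFunction_of_isCharacter hχL)
    have h1 : ∀ d : L, χ d = ∑ τ : IrrCharacter L, classInner (fun c : L => χ c) (τ : L → ℂ) * (τ : L → ℂ) d := by
      intro d
      have h2 := congrFun hexp d
      rw [Finset.sum_apply] at h2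
      exact h2
    let k' : L := ⟨k, hKL hk⟩
    let u' : L := ⟨u, hPL hu⟩
    have h2 : χ ((k' * u' * k'⁻¹ * u'⁻¹ : L) : G) = χ 1 := by
      have h3 := h1 (k' * u' * k'⁻¹ * u'⁻¹)
      have h4 := h1 1
      have h5 : ((1 : L) : G) = 1 := rfl
      rw [h5] at h4
      rw [h3, h4]
      refine Finset.sum_congr rfl fun τ _ => ?_
      by_cases ht : classInner (fun c : L => χ c) (τ : L → ℂ) = 0
      · rw [ht]; simp
      · rw [hlin τ ht k' hk u' hu]
    have h3 := hfaith _ h2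
    have h4 : k * u * k⁻¹ * u⁻¹ = 1 := h3
    have h5 : k * u = (k * u * k⁻¹ * u⁻¹) * (u * k) := by group
    rw [h5, h4, one_mul]
  constructor
  intro y hy g
  obtain ⟨n, hn⟩ := IsPGroup.iff_card.mp P.isPGroup'
  have hz : g * y * g⁻¹ ∈ L := hLn.conj_mem _ (hPL hy) g
  obtain ⟨k, hk, u, hu, hku⟩ := hLmem _ hz
  rw [hku]
  have hcard : ∀ {w : G}, w ∈ (P : Subgroup G) → w ^ Nat.card (P : Subgroup G) = 1 := by
    intro w hw
    have := pow_card_eq_one' (x := (⟨w, hw⟩ : (P : Subgroup G)))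
    exact congrArg Subtype.val this
  have h1 : (g * y * g⁻¹) ^ Nat.card (P : Subgroup G) = 1 := by
    rw [conj_pow, hcard hy]
    group
  have hc : Commute k u := hcomm k hk u hu
  have h2 : k ^ Nat.card (P : Subgroup G) = 1 := by
    rw [hku, hc.mul_pow, hcard hu, mul_one] at h1
    exact h1
  have h3 : k ^ Nat.card K = 1 := by
    have := pow_card_eq_one' (x := (⟨k, hk⟩ : K))
    exact congrArg Subtype.val this
  have h4 : (Nat.card K).Coprime (Nat.card (P : Subgroup G)) := by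
    rw [hn]; exact Nat.Coprime.pow_right n hKc
  have h5 : k ^ Nat.gcd (Nat.card K) (Nat.card (P : Subgroup G)) = 1 := pow_gcd_eq_one.mpr ⟨h3, h2⟩
  rw [h4.gcd_eq_one, pow_one] at h5
  rw [h5, one_mul]
  exact hu

end Cfsg.Agent.Lib.H3TIK
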