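import Cfsg.Agent.Lib.IrrBasic
import Cfsg.Agent.Lib.CharOrth

/-!
# Sums of character values over conjugates
-/

set_option autoImplicit false

namespace Cfsg.Agent.Lib.H4Char

open Cfsg Cfsg.Agent.Lib.IrrBasic
open scoped ComplexConjugate

variable {G : Type*} [Group G] [Fintype G]

theorem sum_conj_val (χ : IrrCharacter G) (u v : G) :
    (∑ t : G, χ.1 (t * u * t⁻¹ * v)) * χ.1 1 = (Nat.card G : ℂ) * (χ.1 u * χ.1 v) := by
  classical
  obtain ⟨θ, hθd⟩ : ∃ θ : G → ℂ, θ = fun x => if IsConj u x then 1 else 0 := ⟨_, rfl⟩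
  have hθ : IsClassFunction G θ := by
    intro g h
    have : IsConj u (h * g * h⁻¹) ↔ IsConj u g := by
      have h2 : IsConj g (h * g * h⁻¹) := isConj_iff.mpr ⟨h, rfl⟩
      exact ⟨fun h3 => h3.trans h2.symm, fun h3 => h3.trans h2⟩
    simp only [hθd, this]
  have h1 := sum_mul_val_mul χ θ hθ v
  have h2 : ∑ g, θ g * χ.1 (g * v) = ∑ x, if IsConj u x then χ.1 (x * v) else 0 := by
    refine Finset.sum_congr rfl fun x _ => ?_
    rw [hθd]
    by_cases hx : IsConj u x <;> simp [hx]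
  have h3 : omega χ θ = ((Subgroup.centralizer ({u} : Set G)).index : ℂ) * χ.1 u / χ.1 1 := by
    rw [omega, ← card_class_eq_index u]
    congr 1
    rw [← nsmul_eq_mul, ← Finset.sum_const, Finset.sum_filter]
    refine Finset.sum_congr rfl fun x _ => ?_
    rw [hθd]
    by_cases hx : IsConj u x
    · simp only [if_pos hx, one_mul]
      exact (val_of_isConj χ hx).symm
    · simp only [if_neg hx, zero_mul]
  have h4 := sum_conj_eq u (fun x => χ.1 (x * v))
  have h5 : ((Nat.card (Subgroup.centralizer ({u} : Set G)) : ℕ) : ℂ) * ((Subgroup.centralizer ({u} : Set G)).index : ℂ) = (Nat.card G : ℂ) := by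
    exact_mod_cast (Subgroup.centralizer ({u} : Set G)).card_mul_index
  have hv := val_one_ne_zero χ
  rw [h2, h3] at h1
  have h8 : ∀ s : ℂ, s = ((Subgroup.centralizer ({u} : Set G)).index : ℂ) * χ.1 u / χ.1 1 * χ.1 v →
      ((Nat.card (Subgroup.centralizer ({u} : Set G)) : ℂ) * s) * χ.1 1 = (Nat.card G : ℂ) * (χ.1 u * χ.1 v) := by
    intro s hs
    rw [hs, ← h5]
    field_simp
  rw [h4, nsmul_eq_mul]
  apply h8
  refine Eq.trans (Finset.sum_congr rfl fun x _ => ?_) h1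
  by_cases hx : IsConj u x <;> simp [hx]

theorem sum_commutator_val (χ : IrrCharacter G) (y : G) :
    (∑ t : G, χ.1 (t * y * t⁻¹ * y⁻¹)) * χ.1 1 = (Nat.card G : ℂ) * (χ.1 y * conj (χ.1 y)) := by
  rw [sum_conj_val, val_inv]

/-- The convolution of two irreducible characters. -/
theorem sum_val_mul_val_inv [Fintype (IrrCharacter G)] (χ ψ : IrrCharacter G) (g : G) :
    (∑ u : G, χ.1 u * ψ.1 (u⁻¹ * g)) * χ.1 1 = if χ = ψ then (Nat.card G : ℂ) * χ.1 g else 0 := by
  classical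
  obtain ⟨θ, hθd⟩ : ∃ θ : G → ℂ, θ = fun w => conj (χ.1 w) := ⟨_, rfl⟩
  have hθ : IsClassFunction G θ := by
    intro w t
    rw [hθd]
    show conj (χ.1 (t * w * t⁻¹)) = conj (χ.1 w)
    rw [val_conj]
  have h1 := sum_mul_val_mul ψ θ hθ g
  have h2 : ∑ u : G, χ.1 u * ψ.1 (u⁻¹ * g) = ∑ w, θ w * ψ.1 (w * g) := by
    rw [← Equiv.sum_comp (Equiv.inv G)]
    refine Finset.sum_congr rfl fun w _ => ?_
    rw [hθd]
    simp only [Equiv.inv_apply, inv_inv]
    rw [val_inv]
  rw [h2, h1, omega]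
  have h3 : ∑ w, θ w * ψ.1 w = if χ = ψ then (Nat.card G : ℂ) else 0 := by
    have h4 := sum_val_mul_conj ψ χ
    rw [if_congr eq_comm rfl rfl] at h4
    rw [← h4]
    refine Finset.sum_congr rfl fun w _ => ?_
    rw [hθd]
    ring
  rw [h3]
  by_cases h : χ = ψ
  · subst h
    rw [if_pos rfl, if_pos rfl]
    have := val_one_ne_zero χ
    field_simp
  · rw [if_neg h, if_neg h]
    simp

end Cfsg.Agent.Lib.H4Char
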