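import Cfsg.Agent.Lib.H4Char
import Cfsg.Agent.Lib.BlockNorm
import Cfsg.Agent.Lib.CharLin

/-!
# Products of conjugacy classes and character values
-/

set_option autoImplicit false

namespace Cfsg.Agent.Lib.H4Char2

open Cfsg Cfsg.Agent.Lib.IrrBasic Cfsg.Agent.Lib.H4Char
open scoped ComplexConjugate

variable {G : Type*} [Group G] [Fintype G]

theorem isConj_of_val_eq {g h : G} (H : ∀ χ : IrrCharacter G, χ.1 g = χ.1 h) : IsConj g h := by
  classical
  have := Fintype.ofFinite (IrrCharacter G)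
  by_contra hc
  have h1 := sum_irr_val_mul_conj g h
  rw [if_neg hc] at h1
  have h2 := sum_irr_val_mul_conj h h
  rw [if_pos (IsConj.refl h)] at h2
  have h3 : ∑ χ : IrrCharacter G, χ.1 g * conj (χ.1 h) = ∑ χ : IrrCharacter G, χ.1 h * conj (χ.1 h) :=
    Finset.sum_congr rfl fun χ _ => by rw [H χ]
  rw [h1, h2] at h3
  have h4 : (Nat.card (Subgroup.centralizer ({h} : Set G)) : ℂ) ≠ 0 := by
    exact_mod_cast Nat.card_pos.ne'
  exact h4 h3.symm

theorem val_eq_of_isConj {g h : G} (hc : IsConj g h) (χ : IrrCharacter G) : χ.1 g = χ.1 h := val_of_isConj χ hc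

/-- The class of `x y` is the product of the classes. -/
theorem class_prod_iff (x y : G) : (∀ z : G, IsConj (x * y) z ↔ ∃ a b : G, z = a * x * a⁻¹ * (b * y * b⁻¹)) ↔
    ∀ (a b : G) (χ : IrrCharacter G), χ.1 1 * χ.1 (a * x * a⁻¹ * (b * y * b⁻¹)) = χ.1 x * χ.1 y := by
  constructor
  · intro h a b χ
    have h1 : ∀ u v, IsConj x u → IsConj y v → χ.1 (u * v) = χ.1 (x * y) := by
      intro u v hu hv
      obtain ⟨a, ha⟩ := isConj_iff.mp hu
      obtain ⟨b, hb⟩ := isConj_iff.mp hv
      have h2 := (h (u * v)).mpr ⟨a, b, by rw [ha, hb]⟩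
      exact (val_of_isConj χ h2).symm
    have h3 := BlockNorm.val_mul_val_of_const χ x y h1
    have h4 := h1 (a * x * a⁻¹) (b * y * b⁻¹) (isConj_iff.mpr ⟨a, rfl⟩) (isConj_iff.mpr ⟨b, rfl⟩)
    rw [h4, h3]
  · intro h z
    constructor
    · intro hz
      obtain ⟨t, rfl⟩ := isConj_iff.mp hz
      exact ⟨t, t, by group⟩
    · rintro ⟨a, b, rfl⟩
      apply isConj_of_val_eq
      intro χ
      have h1 := h a b χ
      have h2 := h 1 1 χ
      simp only [one_mul, inv_one, mul_one] at h2
      have hv := val_one_ne_zero χ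
      exact mul_left_cancel₀ hv (h2.trans h1.symm)

theorem s4755 (x y : G) (h : ∀ (a b : G) (χ : IrrCharacter G), χ.1 (a * x * a⁻¹ * (b * y * b⁻¹)) = χ.1 (a * x * a⁻¹) * χ.1 (b * y * b⁻¹)) :
    (∀ z : G, IsConj (x * y) z ↔ ∃ a b : G, z = a * x * a⁻¹ * (b * y * b⁻¹)) ∧
      (∀ χ : IrrCharacter G, χ.1 1 ≠ 1 → χ.1 (x * y) = 0) ∧
      (∀ z : G, IsConj (x * y) z ↔ (x * y)⁻¹ * z ∈ commutator G) := by
  classical
  have := Fintype.ofFinite (IrrCharacter G)
  have hconst : ∀ (a b : G) (χ : IrrCharacter G), χ.1 (a * x * a⁻¹ * (b * y * b⁻¹)) = χ.1 x * χ.1 y := by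
    intro a b χ
    rw [h a b χ, val_conj, val_conj]
  have hxy : ∀ χ : IrrCharacter G, χ.1 (x * y) = χ.1 x * χ.1 y := by
    intro χ
    have := hconst 1 1 χ
    simpa using this
  have hdeg : ∀ χ : IrrCharacter G, χ.1 x * χ.1 y = χ.1 1 * χ.1 (x * y) := by
    intro χ
    refine BlockNorm.val_mul_val_of_const χ x y ?_
    intro u v hu hv
    obtain ⟨a, ha⟩ := isConj_iff.mp hu
    obtain ⟨b, hb⟩ := isConj_iff.mp hv
    rw [← ha, ← hb, hconst, hxy]
  have h2 : ∀ χ : IrrCharacter G, χ.1 1 ≠ 1 → χ.1 (x * y) = 0 := by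
    intro χ hχ
    have h3 := hdeg χ
    rw [← hxy] at h3
    have h4 : (χ.1 1 - 1) * χ.1 (x * y) = 0 := by linear_combination -h3
    exact (mul_eq_zero.mp h4).resolve_left (sub_ne_zero.mpr hχ)
  have h1 : ∀ z : G, IsConj (x * y) z ↔ ∃ a b : G, z = a * x * a⁻¹ * (b * y * b⁻¹) := by
    intro z
    constructor
    · intro hz
      obtain ⟨t, rfl⟩ := isConj_iff.mp hz
      exact ⟨t, t, by group⟩
    · rintro ⟨a, b, rfl⟩
      apply isConj_of_val_eq
      intro χ
      rw [hconst, hxy]
  refine ⟨h1, h2, ?_⟩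
  -- the size of the centralizer
  obtain ⟨g, hg⟩ : ∃ g, g = x * y := ⟨_, rfl⟩
  rw [← hg] at h2 ⊢
  have hC : (Nat.card (Subgroup.centralizer ({g} : Set G)) : ℂ) = ((commutator G).index : ℂ) := by
    have h3 := sum_irr_val_mul_conj g g
    rw [if_pos (IsConj.refl g)] at h3
    rw [← h3, ← CharLin.card_linear, Nat.card_eq_fintype_card, Fintype.card_subtype]
    rw [← Finset.sum_boole]
    refine Finset.sum_congr rfl fun χ _ => ?_
    by_cases hχ : χ.1 1 = 1
    · rw [if_pos hχ]
      obtain ⟨lam, hlam⟩ := CharLin.exists_hom_of_linear (CharBasic.IsIrrCharacter.isCharacter χ.2) hχ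
      have h5 : χ.1 g = (lam g : ℂ) := by
        rw [hlam]
      have h6 : ‖χ.1 g‖ = 1 := by
        rw [h5]
        have h7 : (lam g : ℂ) ^ orderOf g = 1 := by
          have : lam g ^ orderOf g = 1 := by
            rw [← map_pow, pow_orderOf_eq_one, map_one]
          rw [← Units.val_pow_eq_pow_val, this, Units.val_one]
        exact Complex.norm_eq_one_of_pow_eq_one h7 (orderOf_pos g).ne'
      rw [Complex.mul_conj, Complex.normSq_eq_norm_sq, h6]
      simp
    · rw [if_neg hχ, h2 χ hχ]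
      simp
  have hC' : Nat.card (Subgroup.centralizer ({g} : Set G)) = (commutator G).index := by
    exact_mod_cast hC
  have hsub : ∀ z : G, IsConj g z → g⁻¹ * z ∈ commutator G := by
    intro z hz
    obtain ⟨t, rfl⟩ := isConj_iff.mp hz
    have h3 : g⁻¹ * (t * g * t⁻¹) = g⁻¹ * t * g * t⁻¹ := by group
    rw [h3]
    have h4 := Subgroup.commutator_mem_commutator (Subgroup.mem_top g⁻¹) (Subgroup.mem_top t)
    rw [commutatorElement_def, inv_inv] at h4
    exact h4
  have hcard1 : (Finset.univ.filter fun z : G => IsConj g z).card = Nat.card (commutator G) := by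
    have h3 := card_class_eq_index g
    have h4 := (Subgroup.centralizer ({g} : Set G)).card_mul_index
    have h5 := (commutator G).card_mul_index
    have h6 : (Finset.univ.filter fun z : G => IsConj g z).card = (Subgroup.centralizer ({g} : Set G)).index := by
      convert h3
    rw [h6]
    rw [hC'] at h4
    have h7 : 0 < (commutator G).index := Nat.pos_of_ne_zero (Subgroup.index_ne_zero_of_finite)
    apply Nat.eq_of_mul_eq_mul_left h7
    rw [h4, mul_comm, h5]
  have hcard2 : (Finset.univ.filter fun z : G => g⁻¹ * z ∈ commutator G).card = Nat.card (commutator G) := by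
    rw [← Fintype.card_subtype, ← Nat.card_eq_fintype_card]
    refine Nat.card_congr ⟨fun q => ⟨g⁻¹ * q.1, q.2⟩, fun q => ⟨g * q.1, by simpa using q.2⟩, fun q => by simp, fun q => by simp⟩
  have heq : (Finset.univ.filter fun z : G => IsConj g z) = (Finset.univ.filter fun z : G => g⁻¹ * z ∈ commutator G) := by
    apply Finset.eq_of_subset_of_card_le
    · intro z hz
      simp only [Finset.mem_filter, Finset.mem_univ, true_and] at hz ⊢
      exact hsub z hz
    · rw [hcard1, hcard2]
  intro z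
  have h8 := Finset.ext_iff.mp heq z
  simp only [Finset.mem_filter, Finset.mem_univ, true_and] at h8
  exact h8

open BlockMain4 BlockNorm in
/-- A character of `G` whose restriction to a normal subgroup does not contain `N` in its kernel sums to zero on `N`. -/
theorem sum_normal_eq_zero (N : Subgroup G) [N.Normal] [Fintype N] (χ : IrrCharacter G) (h : ∃ x ∈ N, χ.1 x ≠ χ.1 1) :
    ∑ n : N, χ.1 n = 0 := by
  classical
  by_contra h0
  obtain ⟨x, hx, hne⟩ := h
  have h1 : classInner (fun n : N => χ.1 n) (oneIrr N).1 ≠ 0 := by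
    rw [classInner]
    simp only [oneIrr, map_one, mul_one]
    exact mul_ne_zero (inv_ne_zero (by exact_mod_cast Nat.card_pos.ne')) h0
  exact hne (val_eq_of_inner_one N χ h1 ⟨x, hx⟩)

/-- The coset sum. -/
theorem sum_coset_val (N : Subgroup G) [N.Normal] [Fintype N] (χ : IrrCharacter G) (g : G) (h : ∃ x ∈ N, χ.1 x ≠ χ.1 1) :
    ∑ n : N, χ.1 ((n : G) * g) = 0 := by
  classical
  obtain ⟨θ, hθd⟩ : ∃ θ : G → ℂ, θ = fun x => if x ∈ N then 1 else 0 := ⟨_, rfl⟩
  have hθ : IsClassFunction G θ := by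
    intro x t
    rw [hθd]
    have : t * x * t⁻¹ ∈ N ↔ x ∈ N := by
      constructor
      · intro h1
        have h2 := Subgroup.Normal.conj_mem (inferInstance : N.Normal) _ h1 t⁻¹
        simpa [mul_assoc] using h2
      · intro h1
        exact Subgroup.Normal.conj_mem (inferInstance : N.Normal) _ h1 t
    simp only [this]
  have h1 := sum_mul_val_mul χ θ hθ g
  have hconv : ∀ F : G → ℂ, ∑ x, θ x * F x = ∑ n : N, F n := by
    intro F
    rw [hθd]
    simp only [ite_mul, one_mul, zero_mul]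
    rw [← Finset.sum_filter]
    exact Finset.sum_subtype (Finset.univ.filter (· ∈ N)) (by simp) F
  rw [hconv (fun x => χ.1 (x * g)), omega, hconv (fun x => χ.1 x), sum_normal_eq_zero N χ h] at h1
  rw [h1]
  simp

theorem s4802 (N M : Subgroup G) [N.Normal] [M.Normal] (g : G) (hgM : g ∈ M) (hgN : g ∉ N) (hNM : N ≤ M) :
    {h : G | IsConj g h} = (M : Set G) \ (N : Set G) ↔
      ((∀ χ : IrrCharacter G, (∀ x ∈ N, χ.1 x = χ.1 1) → ∀ x ∈ M, x ∉ N → ∀ y ∈ M, y ∉ N → χ.1 x = χ.1 y) ∧
        (∀ χ : IrrCharacter G, (∃ x ∈ N, χ.1 x ≠ χ.1 1) → χ.1 g = 0)) := by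
  classical
  have := Fintype.ofFinite (IrrCharacter G)
  constructor
  · intro h
    have hc : ∀ x ∈ M, x ∉ N → IsConj g x := by
      intro x hx hxN
      have : x ∈ {h : G | IsConj g h} := by
        rw [h]
        exact ⟨hx, hxN⟩
      exact this
    refine ⟨fun χ _ x hx hxN y hy hyN => ?_, fun χ hχ => ?_⟩
    · rw [← val_of_isConj χ (hc x hx hxN), val_of_isConj χ (hc y hy hyN)]
    · have h1 := sum_coset_val N χ g hχ
      have h2 : ∀ n : N, χ.1 ((n : G) * g) = χ.1 g := by
        intro n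
        refine (val_of_isConj χ (hc _ (M.mul_mem (hNM n.2) hgM) ?_)).symm
        intro h3
        apply hgN
        have := N.mul_mem (N.inv_mem n.2) h3
        simpa using this
      simp_rw [h2] at h1
      rw [Finset.sum_const, nsmul_eq_mul] at h1
      have h4 : ((Finset.univ : Finset N).card : ℂ) ≠ 0 := by
        rw [Finset.card_univ]
        exact_mod_cast Fintype.card_ne_zero
      exact (mul_eq_zero.mp h1).resolve_left h4
  · rintro ⟨h1, h2⟩
    ext x
    simp only [Set.mem_setOf_eq, Set.mem_diff, SetLike.mem_coe]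
    constructor
    · intro hx
      obtain ⟨t, rfl⟩ := isConj_iff.mp hx
      refine ⟨Subgroup.Normal.conj_mem inferInstance _ hgM t, fun h3 => hgN ?_⟩
      have h4 := Subgroup.Normal.conj_mem (inferInstance : N.Normal) _ h3 t⁻¹
      simpa [mul_assoc] using h4
    · rintro ⟨hxM, hxN⟩
      by_contra hc
      have h3 : ¬ IsConj x g := fun h => hc h.symm
      have h4 := sum_irr_val_mul_conj x g
      rw [if_neg h3] at h4
      have h5 := sum_irr_val_mul_conj g g
      rw [if_pos (IsConj.refl g)] at h5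
      have h6 : ∑ χ : IrrCharacter G, χ.1 x * conj (χ.1 g) = ∑ χ : IrrCharacter G, χ.1 g * conj (χ.1 g) := by
        refine Finset.sum_congr rfl fun χ _ => ?_
        by_cases hχ : ∀ y ∈ N, χ.1 y = χ.1 1
        · rw [h1 χ hχ x hxM hxN g hgM hgN]
        · push Not at hχ
          rw [h2 χ hχ]
          simp
      rw [h4, h5] at h6
      have h7 : (Nat.card (Subgroup.centralizer ({g} : Set G)) : ℂ) ≠ 0 := by
        exact_mod_cast Nat.card_pos.ne'
      exact h7 h6.symm

end Cfsg.Agent.Lib.H4Char2
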