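import Cfsg.Agent.Lib.H4Char2
import Cfsg.Agent.Lib.BlockMain3
import Cfsg.Agent.Lib.BlockReg2
import Cfsg.Agent.Lib.H1Frob

/-!
# Codegrees
-/

set_option autoImplicit false

namespace Cfsg.Agent.Lib.H4Cod

open Cfsg Cfsg.Agent.Lib.IrrBasic Cfsg.Agent.Lib.H4Char Cfsg.Agent.Lib.H4Char2 Cfsg.Agent.Lib
open scoped ComplexConjugate

variable {G : Type*} [Group G] [Fintype G]

/-- A character of `p`-defect zero vanishes on `p`-singular elements. -/
theorem val_eq_zero_of_not_dvd {p : ℕ} (hp : p.Prime) (χ : IrrCharacter G) (h : ¬ p ∣ Nat.card G / charDegree χ.1)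
    {g : G} (hg : p ∣ orderOf g) : χ.1 g = 0 := by
  classical
  have := Fintype.ofFinite (IrrCharacter G)
  have : Fact p.Prime := ⟨hp⟩
  obtain ⟨M, hM⟩ := BlockMain2.exists_isPModular hp
  have := hM.2.1.isPrime
  have h1 := (BlockMain3.not_dvd_iff_blockOf_eq hM χ).mp h
  have hB : IsPBlock M (blockOf M χ.1) := ⟨χ, rfl⟩
  have h2 := BlockReg2.sum_degree_val_eq_zero (p := p) hM hB hg
  rw [Finset.sum_eq_single χ] at h2
  · have h3 : χ ∈ blockOf M χ.1 := BlockDefect.mem_blockOf_self χ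
    rw [if_pos h3] at h2
    have h4 : (charDegree χ.1 : ℂ) ≠ 0 := by
      exact_mod_cast BlockOku.charDegree_ne_zero' χ
    exact (mul_eq_zero.mp h2).resolve_left h4
  · intro ξ _ hξ
    rw [if_neg]
    rw [h1]
    exact hξ
  · intro h'
    exact absurd (Finset.mem_univ _) h'

/-- The kernel of an irreducible character. -/
def kerS (χ : IrrCharacter G) : Subgroup G where
  carrier := {g | χ.1 g = χ.1 1}
  mul_mem' := by
    intro a b ha hb
    simp only [Set.mem_setOf_eq, BlockInfl.val_eq_one_iff_rep] at ha hb ⊢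
    rw [map_mul, ha, hb, one_mul]
  one_mem' := rfl
  inv_mem' := by
    intro a ha
    simp only [Set.mem_setOf_eq] at ha ⊢
    rw [val_inv, ha, val_one, Complex.conj_natCast]

theorem mem_kerS {χ : IrrCharacter G} {g : G} : g ∈ kerS χ ↔ χ.1 g = χ.1 1 := Iff.rfl

instance kerS_normal (χ : IrrCharacter G) : (kerS χ).Normal where
  conj_mem := by
    intro g hg t
    rw [mem_kerS] at hg ⊢
    rw [val_conj, hg]

theorem charDegree_eq_of_comp {H : Type*} [Group H] [Fintype H] (χ : IrrCharacter G) (ψ : IrrCharacter H) (f : G →* H)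
    (h : χ.1 = ψ.1 ∘ f) : charDegree χ.1 = charDegree ψ.1 := by
  have h1 := BlockOku.val_one_eq_charDegree χ
  have h2 := BlockOku.val_one_eq_charDegree ψ
  have h3 : χ.1 1 = ψ.1 1 := by
    rw [h]
    simp
  rw [h1, h2] at h3
  exact_mod_cast h3

/-- The character on the quotient by the kernel. -/
theorem exists_faithful (χ : IrrCharacter G) :
    ∃ ψ : IrrCharacter (G ⧸ kerS χ), χ.1 = ψ.1 ∘ (QuotientGroup.mk : G → G ⧸ kerS χ) ∧
      (∀ g : G ⧸ kerS χ, ψ.1 g = ψ.1 1 → g = 1) ∧ charDegree ψ.1 = charDegree χ.1 ∧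
      Nat.card G = Nat.card (kerS χ) * Nat.card (G ⧸ kerS χ) := by
  classical
  obtain ⟨ψ, hψ⟩ := BlockNorm.exists_deflate (kerS χ) χ (fun n hn => hn)
  refine ⟨ψ, hψ, ?_, ?_, ?_⟩
  · intro g hg
    obtain ⟨t, rfl⟩ := QuotientGroup.mk_surjective g
    rw [QuotientGroup.eq_one_iff]
    rw [mem_kerS, hψ]
    exact hg
  · exact (charDegree_eq_of_comp χ ψ (QuotientGroup.mk' (kerS χ)) hψ).symm
  · rw [(kerS χ).card_eq_card_quotient_mul_card_subgroup, mul_comm]

/-- S4808. -/
theorem s4808 {p : ℕ} (hp : p.Prime) :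
    p ∣ Nat.card G ↔ ∃ χ : IrrCharacter G, p ∣ (Nat.card G / (Nat.card {g : G // χ.1 g = χ.1 1} * charDegree χ.1)) := by
  classical
  have := Fintype.ofFinite (IrrCharacter G)
  have hk : ∀ χ : IrrCharacter G, Nat.card {g : G // χ.1 g = χ.1 1} = Nat.card (kerS χ) := fun χ => rfl
  have hcod : ∀ χ : IrrCharacter G, Nat.card G / (Nat.card {g : G // χ.1 g = χ.1 1} * charDegree χ.1) =
      Nat.card (G ⧸ kerS χ) / charDegree χ.1 := by
    intro χ
    obtain ⟨ψ, _, _, hd, hc⟩ := exists_faithful χ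
    rw [hk, hc]
    exact Nat.mul_div_mul_left _ _ Nat.card_pos
  have : Fact p.Prime := ⟨hp⟩
  constructor
  · intro hdvd
    by_contra hcon
    push Not at hcon
    obtain ⟨g, hg⟩ := exists_prime_orderOf_dvd_card' p hdvd
    have hval : ∀ χ : IrrCharacter G, g ∉ kerS χ → χ.1 g = 0 := by
      intro χ hχ
      obtain ⟨ψ, h1, h2, hd, hc⟩ := exists_faithful χ
      have h3 := hcon χ
      rw [hcod χ, ← hd] at h3
      have h4 : orderOf (g : G ⧸ kerS χ) = p := by
        have h5 : (g : G ⧸ kerS χ) ^ p = 1 := by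
          rw [← QuotientGroup.mk_pow, ← hg, pow_orderOf_eq_one]
          rfl
        have h6 : (g : G ⧸ kerS χ) ≠ 1 := by
          rwa [Ne, QuotientGroup.eq_one_iff]
        exact orderOf_eq_prime h5 h6
      have h7 := val_eq_zero_of_not_dvd hp ψ h3 (g := (g : G ⧸ kerS χ)) (by rw [h4])
      rw [h1]
      exact h7
    have h1 := sum_irr_val_mul_conj g 1
    have hg1 : g ≠ 1 := by
      rintro rfl
      rw [orderOf_one] at hg
      exact hp.one_lt.ne hg
    rw [if_neg (fun h => hg1 (by simpa using h))] at h1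
    have h2 : ∀ χ : IrrCharacter G, χ.1 g * conj (χ.1 1) = ((if g ∈ kerS χ then Complex.normSq (χ.1 1) else 0 : ℝ) : ℂ) := by
      intro χ
      by_cases h3 : g ∈ kerS χ
      · rw [if_pos h3, mem_kerS.mp h3, Complex.mul_conj]
      · rw [if_neg h3, hval χ h3]
        simp
    simp_rw [h2] at h1
    rw [← Complex.ofReal_sum] at h1
    have h3 : ∑ χ : IrrCharacter G, (if g ∈ kerS χ then Complex.normSq (χ.1 1) else 0 : ℝ) = 0 := by
      exact_mod_cast h1
    have h4 := (Finset.sum_eq_zero_iff_of_nonneg (fun χ _ => by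
      split_ifs
      · exact Complex.normSq_nonneg _
      · exact le_rfl)).mp h3 (BlockMain4.oneIrr G) (Finset.mem_univ _)
    rw [if_pos (by rw [mem_kerS]; rfl)] at h4
    have h5 := Complex.normSq_eq_zero.mp h4
    exact val_one_ne_zero _ h5
  · rintro ⟨χ, hχ⟩
    rw [hcod χ] at hχ
    obtain ⟨ψ, _, _, hd, hc⟩ := exists_faithful χ
    have h1 := BlockNorm.charDegree_dvd_card ψ
    rw [hd] at h1
    have h2 : p ∣ Nat.card (G ⧸ kerS χ) := hχ.trans (Nat.div_dvd_of_dvd h1)
    rw [hc]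
    exact h2.trans (dvd_mul_left _ _)

/-- The degree is at most the square root of the order. -/
theorem degree_sq_le (χ : IrrCharacter G) : charDegree χ.1 * charDegree χ.1 ≤ Nat.card G := by
  classical
  have h1 := sum_val_mul_conj χ χ
  rw [if_pos rfl] at h1
  have h2 : ∀ g : G, χ.1 g * conj (χ.1 g) = ((Complex.normSq (χ.1 g) : ℝ) : ℂ) := fun g => Complex.mul_conj _
  simp_rw [h2] at h1
  rw [← Complex.ofReal_sum] at h1
  have h3 : ∑ g : G, Complex.normSq (χ.1 g) = (Nat.card G : ℝ) := by exact_mod_cast h1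
  have h4 : Complex.normSq (χ.1 1) ≤ ∑ g : G, Complex.normSq (χ.1 g) :=
    Finset.single_le_sum (f := fun g => Complex.normSq (χ.1 g)) (fun g _ => Complex.normSq_nonneg _) (Finset.mem_univ 1)
  rw [h3, BlockOku.val_one_eq_charDegree, Complex.normSq_natCast] at h4
  exact_mod_cast h4

/-- The structure of a group with a faithful irreducible character of prime codegree. -/
theorem core_prime (χ : IrrCharacter G) (hf : ∀ g, χ.1 g = χ.1 1 → g = 1) {p : ℕ} (hp : p.Prime)
    (hcod : Nat.card G = p * charDegree χ.1) :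
    Nat.card G = p ∨ ∃ P H : Subgroup G, P.Normal ∧ Nat.card P = p ∧ P.IsComplement' H ∧ H ≠ ⊥ ∧
      ∀ h ∈ H, (∀ x ∈ P, h * x = x * h) → h = 1 := by
  classical
  have : Fact p.Prime := ⟨hp⟩
  obtain ⟨d, hd⟩ : ∃ d, d = charDegree χ.1 := ⟨_, rfl⟩
  rw [← hd] at hcod
  have hd0 : d ≠ 0 := by
    rw [hd]
    exact BlockOku.charDegree_ne_zero' χ
  by_cases hd1 : d = 1
  · left
    rw [hcod, hd1, mul_one]
  right
  have hle : d ≤ p := by
    have h1 := degree_sq_le χ
    rw [← hd, hcod] at h1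
    exact Nat.le_of_mul_le_mul_right h1 (Nat.pos_of_ne_zero hd0)
  have hne : d ≠ p := by
    intro h
    apply hd1
    have h2 : Nat.card G = p ^ 2 := by
      rw [hcod, h, sq]
    have h3 := IsPGroup.isMulCommutative_of_card_eq_prime_sq h2
    have h4 := CharLin.irr_degree_one_of_comm χ.2 (fun a b => h3.is_comm.comm a b)
    have h5 := BlockOku.val_one_eq_charDegree χ
    rw [h4, ← hd] at h5
    exact_mod_cast h5.symm
  have hlt : d < p := lt_of_le_of_ne hle hne
  have hpd : ¬ p ∣ d := fun h => absurd (Nat.le_of_dvd (Nat.pos_of_ne_zero hd0) h) (by omega)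
  have hfac : (Nat.card G).factorization p = 1 := by
    rw [hcod, Nat.factorization_mul hp.ne_zero hd0, Finsupp.add_apply, hp.factorization_self,
      Nat.factorization_eq_zero_of_not_dvd hpd]
  obtain ⟨P⟩ : Nonempty (Sylow p G) := inferInstance
  have hPc : Nat.card P = p := by
    rw [P.card_eq_multiplicity, hfac, pow_one]
  have hPi : (P : Subgroup G).index = d := by
    have h1 := (P : Subgroup G).card_mul_index
    have h2 : Nat.card (P : Subgroup G) = p := hPc
    rw [h2, hcod] at h1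
    exact Nat.eq_of_mul_eq_mul_left hp.pos h1
  have hnp : Nat.card (Sylow p G) = 1 := by
    have h1 := Sylow.card_dvd_index P
    rw [hPi] at h1
    have h2 := card_sylow_modEq_one p G
    have h3 : Nat.card (Sylow p G) < p := lt_of_le_of_lt (Nat.le_of_dvd (Nat.pos_of_ne_zero hd0) h1) hlt
    have h4 : Nat.card (Sylow p G) % p = 1 % p := h2
    rwa [Nat.mod_eq_of_lt h3, Nat.mod_eq_of_lt hp.one_lt] at h4
  have hsub : Subsingleton (Sylow p G) := by
    have := Nat.card_eq_one_iff_unique.mp hnp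
    exact this.1
  have hPn : (P : Subgroup G).Normal := Sylow.normal_of_subsingleton P
  have hcop : Nat.Coprime (Nat.card (P : Subgroup G)) (P : Subgroup G).index := by
    have h2 : Nat.card (P : Subgroup G) = p := hPc
    rw [h2, hPi]
    exact (Nat.Prime.coprime_iff_not_dvd hp).2 hpd
  obtain ⟨H, hH⟩ := Subgroup.exists_right_complement'_of_coprime hcop
  have hHc : Nat.card H = d := by
    have h1 := hH.card_mul_card
    have h2 : Nat.card (P : Subgroup G) = p := hPc
    rw [h2, hcod] at h1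
    exact Nat.eq_of_mul_eq_mul_left hp.pos h1
  have hHne : H ≠ ⊥ := by
    rintro rfl
    apply hd1
    rw [← hHc]
    simp
  have hvan : ∀ g, g ∉ (P : Subgroup G) → χ.1 g = 0 := by
    intro g hg
    have h1 : ¬ ∃ k, orderOf g = p ^ k := by
      rintro ⟨k, hk⟩
      have hpg : IsPGroup p (Subgroup.zpowers g) := IsPGroup.of_card (n := k) (by rw [Nat.card_zpowers, hk])
      obtain ⟨S, hS⟩ := hpg.exists_le_sylow
      have : S = P := Subsingleton.elim _ _
      rw [this] at hS
      exact hg (hS (Subgroup.mem_zpowers g))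
    have h2 : ∃ r, r.Prime ∧ r ∣ orderOf g ∧ r ≠ p := by
      by_contra hcon
      push Not at hcon
      exact h1 ⟨_, Nat.eq_prime_pow_of_unique_prime_dvd (orderOf_pos g).ne' (fun {r} hr hrd => hcon r hr hrd)⟩
    obtain ⟨r, hr, hrd, hrp⟩ := h2
    refine val_eq_zero_of_not_dvd hr χ ?_ hrd
    rw [← hd, hcod, Nat.mul_div_cancel _ (Nat.pos_of_ne_zero hd0)]
    intro h
    exact hrp ((Nat.prime_dvd_prime_iff_eq hr hp).1 h)
  have hdisj : ∀ x, x ∈ (P : Subgroup G) → x ∈ H → x = 1 := fun x h1 h2 => Subgroup.disjoint_def.mp hH.disjoint h1 h2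
  obtain ⟨K, hKd⟩ : ∃ K : Subgroup G, K = H ⊓ Subgroup.centralizer ((P : Subgroup G) : Set G) := ⟨_, rfl⟩
  have hKm : ∀ k, k ∈ K ↔ k ∈ H ∧ ∀ x ∈ (P : Subgroup G), x * k = k * x := by
    intro k
    rw [hKd, Subgroup.mem_inf, Subgroup.mem_centralizer_iff]
    rfl
  have hKn : K.Normal := by
    constructor
    intro k hk g
    obtain ⟨⟨x, h⟩, hxh, _⟩ := Subgroup.IsComplement.existsUnique hH g
    simp only at hxh
    obtain ⟨hkH, hkC⟩ := (hKm k).mp hk
    have h1 : (h : G) * k * (h : G)⁻¹ ∈ K := by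
      rw [hKm]
      refine ⟨H.mul_mem (H.mul_mem h.2 hkH) (H.inv_mem h.2), fun y hy => ?_⟩
      have h3 : (h : G)⁻¹ * y * (h : G) ∈ (P : Subgroup G) := by
        have := hPn.conj_mem y hy (h : G)⁻¹
        simpa using this
      have h4 := hkC _ h3
      calc y * ((h : G) * k * (h : G)⁻¹) = (h : G) * (((h : G)⁻¹ * y * (h : G)) * k) * (h : G)⁻¹ := by group
        _ = (h : G) * (k * ((h : G)⁻¹ * y * (h : G))) * (h : G)⁻¹ := by rw [h4]
        _ = _ := by group
    have h2 := ((hKm _).mp h1).2 x x.2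
    have h3 : g * k * g⁻¹ = (h : G) * k * (h : G)⁻¹ := by
      rw [← hxh]
      calc (x : G) * (h : G) * k * ((x : G) * (h : G))⁻¹ = ((x : G) * ((h : G) * k * (h : G)⁻¹)) * (x : G)⁻¹ := by group
        _ = (((h : G) * k * (h : G)⁻¹) * (x : G)) * (x : G)⁻¹ := by rw [h2]
        _ = _ := by group
    rw [h3]
    exact h1
  have hK : ∀ k ∈ K, k = 1 := by
    intro k hk
    apply hf
    by_contra hne
    have h0 := sum_normal_eq_zero K χ ⟨k, hk, hne⟩
    rw [Finset.sum_eq_single (1 : K)] at h0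
    · exact val_one_ne_zero χ h0
    · intro b _ hb
      apply hvan
      intro hbP
      apply hb
      apply Subtype.ext
      exact hdisj _ hbP ((hKm _).mp b.2).1
    · intro h'
      exact absurd (Finset.mem_univ _) h'
  refine ⟨P, H, hPn, hPc, hH, hHne, fun h hhH hcomm => hK h ((hKm h).mpr ⟨hhH, fun x hx => (hcomm x hx).symm⟩)⟩

/-- S4796. -/
theorem s4796 (χ : IrrCharacter G) (hf : ∀ g, χ.1 g = χ.1 1 → g = 1) {p : ℕ} (hp : p.Prime)
    (hcod : Nat.card G = p * charDegree χ.1) :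
    (IsCyclic G ∧ Nat.card G = p) ∨ ∃ H : Subgroup G, IsFrobeniusComplement H ∧ Nat.card (frobeniusKernel H) = p := by
  classical
  have : Fact p.Prime := ⟨hp⟩
  rcases core_prime χ hf hp hcod with h1 | ⟨P, H, hPn, hPc, hH, hHne, hHC⟩
  · left
    exact ⟨isCyclic_of_prime_card h1, h1⟩
  · right
    have hdisj : ∀ x, x ∈ P → x ∈ H → x = 1 := fun x h1 h2 => Subgroup.disjoint_def.mp hH.disjoint h1 h2
    have hfr : IsFrobeniusComplement H := by
      refine ⟨hHne, ?_, ?_⟩
      · rintro rfl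
        have h2 : P = ⊥ := by
          rw [Subgroup.eq_bot_iff_forall]
          intro x hx
          exact hdisj x hx trivial
        rw [h2, Subgroup.card_bot] at hPc
        exact hp.one_lt.ne hPc
      · intro g hg
        rw [Subgroup.eq_bot_iff_forall]
        rintro h ⟨hhH, hh2'⟩
        have hh2 : g⁻¹ * h * g ∈ H := H1Core.mem_conj_smul.mp hh2'
        obtain ⟨⟨x, t⟩, hxt, _⟩ := Subgroup.IsComplement.existsUnique hH g
        simp only at hxt
        have hx1 : (x : G) ≠ 1 := by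
          intro h3
          apply hg
          rw [← hxt, h3, one_mul]
          exact t.2
        have h4 : (x : G)⁻¹ * h * (x : G) ∈ H := by
          have h5 : g⁻¹ * h * g = (t : G)⁻¹ * ((x : G)⁻¹ * h * (x : G)) * (t : G) := by
            rw [← hxt]
            group
          rw [h5] at hh2
          have h6 := H.mul_mem (H.mul_mem t.2 hh2) (H.inv_mem t.2)
          simpa [mul_assoc] using h6
        have h7 : (x : G)⁻¹ * h * (x : G) * h⁻¹ ∈ H := H.mul_mem h4 (H.inv_mem hhH)
        have h8 : (x : G)⁻¹ * h * (x : G) * h⁻¹ ∈ P := by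
          have h9 : (x : G)⁻¹ * h * (x : G) * h⁻¹ = (x : G)⁻¹ * (h * (x : G) * h⁻¹) := by group
          rw [h9]
          exact P.mul_mem (P.inv_mem x.2) (hPn.conj_mem _ x.2 h)
        have h10 := hdisj _ h8 h7
        have h11 : h * (x : G) = (x : G) * h := by
          have h12 : (x : G)⁻¹ * h * (x : G) = h := by
            have := congrArg (· * h) h10
            simpa using this
          calc h * (x : G) = (x : G) * ((x : G)⁻¹ * h * (x : G)) := by group
            _ = _ := by rw [h12]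
        apply hHC h hhH
        intro y hy
        have hx1' : (x : P) ≠ 1 := fun h3 => hx1 (by rw [h3]; rfl)
        obtain ⟨k, hk⟩ := mem_zpowers_of_prime_card hPc (g' := (⟨y, hy⟩ : P)) hx1'
        have h13 : y = (x : G) ^ k := by
          have := congrArg (Subtype.val) hk
          simpa using this.symm
        rw [h13]
        exact (Commute.zpow_right h11 k)
    refine ⟨H, hfr, ?_⟩
    rw [H1Frob.card_kernel hfr, hH.index_eq_card, hPc]

/-- A normal subgroup of prime order is centralized by the commutator subgroup. -/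
theorem commutator_centralizes {P : Subgroup G} (hPn : P.Normal) {p : ℕ} (hp : p.Prime) (hPc : Nat.card P = p)
    (a : G) (ha : a ∈ commutator G) (y : G) (hy : y ∈ P) : a * y = y * a := by
  classical
  have : Fact p.Prime := ⟨hp⟩
  have hnt : Nontrivial P := by
    apply Finite.one_lt_card_iff_nontrivial.mp
    rw [hPc]
    exact hp.one_lt
  obtain ⟨x, hx1⟩ := exists_ne (1 : P)
  have hgen : ∀ u ∈ P, ∃ k : ℤ, u = (x : G) ^ k := by
    intro u hu
    obtain ⟨k, hk⟩ := mem_zpowers_of_prime_card hPc (g' := (⟨u, hu⟩ : P)) hx1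
    refine ⟨k, ?_⟩
    have := congrArg (Subtype.val) hk
    simpa using this.symm
  have hact : ∀ b : G, ∃ k : ℤ, ∀ m : ℤ, b * (x : G) ^ m * b⁻¹ = ((x : G) ^ k) ^ m := by
    intro b
    obtain ⟨k, hk⟩ := hgen _ (hPn.conj_mem x x.2 b)
    refine ⟨k, fun m => ?_⟩
    rw [← hk, conj_zpow]
  have hC : commutator G ≤ Subgroup.centralizer ((P : Subgroup G) : Set G) := by
    rw [commutator_eq_closure, Subgroup.closure_le]
    rintro _ ⟨c, d, rfl⟩
    rw [commutatorElement_def, SetLike.mem_coe, Subgroup.mem_centralizer_iff]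
    intro z₀ hz₀
    obtain ⟨k₁, hk₁⟩ := hact c
    obtain ⟨k₂, hk₂⟩ := hact d
    have h1 : ∀ j : ℤ, (c * d) * (x : G) ^ j * (c * d)⁻¹ = (d * c) * (x : G) ^ j * (d * c)⁻¹ := by
      intro j
      have h2 : c * d * (x : G) ^ j * (c * d)⁻¹ = c * (d * (x : G) ^ j * d⁻¹) * c⁻¹ := by group
      have h3 : d * c * (x : G) ^ j * (d * c)⁻¹ = d * (c * (x : G) ^ j * c⁻¹) * d⁻¹ := by group
      rw [h2, h3, hk₂, hk₁, ← zpow_mul, ← zpow_mul, hk₁, hk₂, ← zpow_mul, ← zpow_mul]
      congr 1
      ring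
    obtain ⟨j, hj⟩ := hgen ((d * c)⁻¹ * z₀ * (d * c)) (by
      have := hPn.conj_mem z₀ hz₀ (d * c)⁻¹
      simpa using this)
    have h4 := h1 j
    rw [← hj] at h4
    have h5 : (d * c) * ((d * c)⁻¹ * z₀ * (d * c)) * (d * c)⁻¹ = z₀ := by group
    rw [h5] at h4
    have h6 : (c * d) * ((d * c)⁻¹ * z₀ * (d * c)) * (c * d)⁻¹ = (c * d * c⁻¹ * d⁻¹) * z₀ * (c * d * c⁻¹ * d⁻¹)⁻¹ := by group
    rw [h6] at h4
    calc z₀ * (c * d * c⁻¹ * d⁻¹) = ((c * d * c⁻¹ * d⁻¹) * z₀ * (c * d * c⁻¹ * d⁻¹)⁻¹) * (c * d * c⁻¹ * d⁻¹) := by rw [h4]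
      _ = _ := by group
  exact (Subgroup.mem_centralizer_iff.mp (hC ha)) y hy |>.symm

/-- S4797, forward direction: a perfect group has no character of prime codegree. -/
theorem not_prime_of_perfect (hG : commutator G = ⊤) (χ : IrrCharacter G) :
    ¬ (Nat.card G / (Nat.card {g : G // χ.1 g = χ.1 1} * charDegree χ.1)).Prime := by
  classical
  intro hprime
  obtain ⟨ψ, h1, hf, hd, hc⟩ := exists_faithful χ
  have hk : Nat.card {g : G // χ.1 g = χ.1 1} = Nat.card (kerS χ) := rfl
  have hcod : Nat.card G / (Nat.card {g : G // χ.1 g = χ.1 1} * charDegree χ.1) =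
      Nat.card (G ⧸ kerS χ) / charDegree χ.1 := by
    rw [hk, hc]
    exact Nat.mul_div_mul_left _ _ Nat.card_pos
  rw [hcod] at hprime
  obtain ⟨q, hq⟩ : ∃ q, q = Nat.card (G ⧸ kerS χ) / charDegree χ.1 := ⟨_, rfl⟩
  rw [← hq] at hprime
  have hdvd := BlockNorm.charDegree_dvd_card ψ
  rw [hd] at hdvd
  have hcard : Nat.card (G ⧸ kerS χ) = q * charDegree ψ.1 := by
    rw [hd, hq]
    exact (Nat.div_mul_cancel hdvd).symm
  have hperf : ∀ u : G ⧸ kerS χ, u ∈ commutator (G ⧸ kerS χ) := by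
    intro u
    obtain ⟨g, rfl⟩ := QuotientGroup.mk_surjective u
    have h2 : g ∈ commutator G := by
      rw [hG]
      trivial
    have h3 : (commutator G).map (QuotientGroup.mk' (kerS χ)) ≤ commutator (G ⧸ kerS χ) := by
      rw [commutator_def, Subgroup.map_commutator]
      exact Subgroup.commutator_mono le_top le_top
    exact h3 ⟨g, h2, rfl⟩
  rcases core_prime ψ hf hprime hcard with h2 | ⟨P, H, hPn, hPc, hH, hHne, hHC⟩
  · have : Fact q.Prime := ⟨hprime⟩
    have hcyc := isCyclic_of_prime_card h2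
    have hcomm : commutator (G ⧸ kerS χ) = ⊥ := by
      rw [commutator_eq_bot_iff_center_eq_top]
      rw [Subgroup.eq_top_iff']
      intro u
      rw [Subgroup.mem_center_iff]
      intro v
      exact (IsCyclic.commGroup.mul_comm) v u
    have h3 : ∀ u : G ⧸ kerS χ, u = 1 := fun u => by
      have := hperf u
      rw [hcomm, Subgroup.mem_bot] at this
      exact this
    have h4 : Nat.card (G ⧸ kerS χ) = 1 := by
      rw [Nat.card_eq_one_iff_unique]
      exact ⟨⟨fun a b => by rw [h3 a, h3 b]⟩, ⟨1⟩⟩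
    rw [h2] at h4
    exact hprime.one_lt.ne' h4
  · apply hHne
    rw [Subgroup.eq_bot_iff_forall]
    intro h hh
    exact hHC h hh fun x hx => commutator_centralizes hPn hprime hPc h (hperf h) x hx

/-- S4797, backward direction. -/
theorem exists_prime_of_not_perfect (hG : commutator G ≠ ⊤) :
    ∃ χ : IrrCharacter G, (Nat.card G / (Nat.card {g : G // χ.1 g = χ.1 1} * charDegree χ.1)).Prime := by
  classical
  obtain ⟨g, hg⟩ : ∃ g, g ∉ commutator G := by
    by_contra hcon
    push Not at hcon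
    exact hG ((Subgroup.eq_top_iff' _).mpr hcon)
  have ha : Abelianization.of g ≠ 1 := by
    intro h
    apply hg
    have h2 : (QuotientGroup.mk g : G ⧸ commutator G) = 1 := h
    rwa [QuotientGroup.eq_one_iff] at h2
  have hfin : Finite (Abelianization G) := by
    unfold Abelianization
    infer_instance
  obtain ⟨φ, hφ⟩ := CommGroup.exists_apply_ne_one_of_hasEnoughRootsOfUnity (Abelianization G) ℂ ha
  obtain ⟨lam, hlam⟩ : ∃ lam : G →* ℂˣ, lam = φ.comp Abelianization.of := ⟨_, rfl⟩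
  have hlg : lam g ≠ 1 := by
    rw [hlam]
    exact hφ
  have hcyc : IsCyclic lam.range := isCyclic_of_subgroup_isDomain ((Units.coeHom ℂ).comp lam.range.subtype) (by
    intro a b h
    apply Subtype.ext
    apply Units.ext
    exact h)
  obtain ⟨m, hm⟩ : ∃ m, m = Nat.card lam.range := ⟨_, rfl⟩
  have hm1 : m ≠ 1 := by
    intro h
    rw [h] at hm
    have h2 := (Nat.card_eq_one_iff_unique.mp hm.symm).1
    have h3 : (⟨lam g, g, rfl⟩ : lam.range) = 1 := Subsingleton.elim _ _
    exact hlg (congrArg Subtype.val h3)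
  obtain ⟨q, hq, hqm⟩ := Nat.exists_prime_and_dvd hm1
  have hm0 : 0 < m := by rw [hm]; exact Nat.card_pos
  obtain ⟨f, hf⟩ : ∃ f : G →* lam.range, f = (powMonoidHom (m / q) : lam.range →* lam.range).comp lam.rangeRestrict := ⟨_, rfl⟩
  have hrange : Nat.card f.range = q := by
    have h1 : f.range = (powMonoidHom (m / q) : lam.range →* lam.range).range := by
      rw [hf, MonoidHom.range_comp, MonoidHom.range_eq_top.mpr lam.rangeRestrict_surjective, ← MonoidHom.range_eq_map]
    rw [h1, IsCyclic.card_powMonoidHom_range, ← hm]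
    have h2 : Nat.gcd m (m / q) = m / q := Nat.gcd_eq_right (Nat.div_dvd_of_dvd hqm)
    rw [h2, Nat.div_div_self hqm hm0.ne']
  obtain ⟨lam', hlam'⟩ : ∃ lam' : G →* ℂˣ, lam' = lam.range.subtype.comp f := ⟨_, rfl⟩
  have hker : ∀ u, lam' u = 1 ↔ u ∈ f.ker := by
    intro u
    rw [MonoidHom.mem_ker, hlam']
    simp
  refine ⟨⟨fun u => (lam' u : ℂ), CharLin.isIrrCharacter_of_hom lam'⟩, ?_⟩
  have hdeg : charDegree (fun u => (lam' u : ℂ)) = 1 := by
    have h1 := BlockOku.val_one_eq_charDegree (⟨fun u => (lam' u : ℂ), CharLin.isIrrCharacter_of_hom lam'⟩ : IrrCharacter G)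
    simp only [map_one, Units.val_one] at h1
    exact_mod_cast h1.symm
  have hk : Nat.card {u : G // (lam' u : ℂ) = (lam' 1 : ℂ)} = Nat.card f.ker := by
    refine Nat.card_congr (Equiv.subtypeEquivRight fun u => ?_)
    rw [← hker, map_one, Units.val_one]
    exact Units.val_eq_one
  show (Nat.card G / (Nat.card {u : G // (lam' u : ℂ) = (lam' 1 : ℂ)} * charDegree (fun u => (lam' u : ℂ)))).Prime
  rw [hk, hdeg, mul_one]
  have h5 := f.ker.card_mul_index
  rw [Subgroup.index_ker, hrange] at h5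
  rw [← h5, Nat.mul_div_cancel_left _ Nat.card_pos]
  exact hq

end Cfsg.Agent.Lib.H4Cod
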