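import Cfsg.Agent.Lib.PNilp
import Cfsg.Prelude.Def_ConjugacyFunctors

/-! Conjugation families, well placed subgroups and local-to-global control of fusion and transfer. -/

set_option linter.unusedSectionVars false
set_option linter.unusedVariables false

namespace Cfsg.Agent.Lib.H9CF

open Cfsg Subgroup Cfsg.Agent.Lib.PNilp

variable {G : Type*} [Group G] [Finite G] {p : ℕ} [hp : Fact p.Prime]

/-- normalizer of a subgroup -/
abbrev NN (H : Subgroup G) : Subgroup G := normalizer (H : Set G)

/-- conjugate of a subgroup -/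
abbrev cg (g : G) (H : Subgroup G) : Subgroup G := H.map (MulAut.conj g).toMonoidHom

theorem mem_cg {g x : G} {H : Subgroup G} : x ∈ cg g H ↔ g⁻¹ * x * g ∈ H := mem_map_conj

theorem cg_mul (a b : G) (H : Subgroup G) : cg (a * b) H = cg a (cg b H) := by
  ext x
  rw [mem_cg, mem_cg, mem_cg]
  have : a⁻¹ * x * a = a⁻¹ * x * a := rfl
  have e : (a * b)⁻¹ * x * (a * b) = b⁻¹ * (a⁻¹ * x * a) * b := by group
  rw [e]

theorem cg_one (H : Subgroup G) : cg (1 : G) H = H := by
  ext x
  rw [mem_cg]
  simp

theorem cg_inv_cg (a : G) (H : Subgroup G) : cg a⁻¹ (cg a H) = H := by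
  rw [← cg_mul]; simp [cg_one]

theorem cg_cg_inv (a : G) (H : Subgroup G) : cg a (cg a⁻¹ H) = H := by
  rw [← cg_mul]; simp [cg_one]

theorem card_cg (a : G) (H : Subgroup G) : Nat.card (cg a H) = Nat.card H :=
  Subgroup.card_map_of_injective (MulAut.conj a).injective

theorem cg_mono (a : G) {H K : Subgroup G} (h : H ≤ K) : cg a H ≤ cg a K := Subgroup.map_mono h

theorem cg_inf (a : G) (H K : Subgroup G) : cg a (H ⊓ K) = cg a H ⊓ cg a K :=
  Subgroup.map_inf _ _ _ (MulAut.conj a).injective

theorem NN_cg (a : G) (H : Subgroup G) : NN (cg a H) = cg a (NN H) := (map_conj_normalizer a H).symm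

theorem relIndex_cg (a : G) (H K : Subgroup G) : (cg a H).relIndex (cg a K) = H.relIndex K :=
  Subgroup.relIndex_map_map_of_injective _ _ (MulAut.conj a).injective

theorem isPGroup_cg (a : G) {H : Subgroup G} (h : IsPGroup p H) : IsPGroup p (cg a H) := h.map _

theorem cj_eq_cg (g : G) (H : Subgroup G) : cj g (H : Set G) = (cg g⁻¹ H : Subgroup G) := by
  ext x
  constructor
  · rintro ⟨a, ha, rfl⟩
    rw [SetLike.mem_coe, mem_cg]
    have : g⁻¹⁻¹ * (g⁻¹ * a * g) * g⁻¹ = a := by group
    rw [this]; exact ha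
  · intro hx
    rw [SetLike.mem_coe, mem_cg] at hx
    refine ⟨_, hx, ?_⟩
    group

theorem cj_subset {g : G} {A B : Set G} (h : A ⊆ B) : cj g A ⊆ cj g B := Set.image_mono h

theorem cj_subset_of_normalizer {x : G} {A : Set G} {D : Subgroup G} (hA : A ⊆ D) (hx : x ∈ NN D) :
    cj x A ⊆ D := by
  rintro _ ⟨a, ha, rfl⟩
  have h1 := (Subgroup.mem_normalizer_iff.1 (inv_mem hx) a).1 (hA ha)
  simpa using h1

theorem cg_eq_self_of_mem {x : G} {D : Subgroup G} (hx : x ∈ NN D) : cg x D = D := by
  ext y
  rw [mem_cg]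
  have h1 := Subgroup.mem_normalizer_iff.1 (inv_mem hx) y
  simp only [inv_inv] at h1
  exact h1.symm

/-- Subgroup of `p`-power index: a Sylow of `L` inside a `p`-subgroup of `L` equals it. -/
theorem eq_of_sylow_le {Y Z L : Subgroup G} (hYZ : Y ≤ Z) (hZp : IsPGroup p Z) (hZL : Z ≤ L)
    (hY : ¬ p ∣ Y.relIndex L) : Y = Z := by
  have h1 : Y.relIndex Z * Z.relIndex L = Y.relIndex L := Subgroup.relIndex_mul_relIndex _ _ _ hYZ hZL
  have h2 : ¬ p ∣ Y.relIndex Z := fun h => hY (h1 ▸ h.trans (Nat.dvd_mul_right _ _))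
  have h3 : Y.relIndex Z ∣ Nat.card Z := by
    exact Subgroup.index_dvd_card _
  obtain ⟨k, hk⟩ := IsPGroup.iff_card.1 hZp
  rw [hk] at h3
  obtain ⟨j, -, hj⟩ := (Nat.dvd_prime_pow hp.out).1 h3
  have h4 : j = 0 := by
    by_contra hj0
    apply h2
    rw [hj]
    exact dvd_pow_self p hj0
  rw [h4, pow_zero] at hj
  apply le_antisymm hYZ
  exact Subgroup.relIndex_eq_one.1 hj

/-! ### Chains -/

/-- A chain of steps. -/
inductive SChain (Step : Set G → G → Prop) : Set G → G → Prop
  | nil (A : Set G) : SChain Step A 1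
  | cons (A : Set G) (x y : G) (hs : Step A x) (hy : SChain Step (cj x A) y) : SChain Step A (x * y)

theorem SChain.trans {Step : Set G → G → Prop} {A : Set G} {g g' : G} (h : SChain Step A g)
    (h' : SChain Step (cj g A) g') : SChain Step A (g * g') := by
  induction h with
  | nil A =>
    rw [cj_one] at h'
    simpa using h'
  | cons A x y hs hy ih =>
    rw [mul_assoc]
    refine SChain.cons A x _ hs (ih ?_)
    rwa [← cj_mul]

theorem SChain.mono {Step : Set G → G → Prop} (hS : ∀ A A' x, A' ⊆ A → Step A x → Step A' x)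
    {A A' : Set G} {g : G} (h : SChain Step A g) (hA : A' ⊆ A) : SChain Step A' g := by
  induction h generalizing A' with
  | nil A => exact SChain.nil _
  | cons A x y hs hy ih =>
    exact SChain.cons A' x y (hS _ _ _ hA hs) (ih (cj_subset hA))

theorem SChain.one {Step : Set G → G → Prop} {A : Set G} {x : G} (h : Step A x) : SChain Step A x := by
  have := SChain.cons A x 1 h (SChain.nil _)
  simpa using this

/-- Chains in a family of normalizers. -/
def FStep (𝓕 : Set (Subgroup G)) (A : Set G) (x : G) : Prop :=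
  ∃ T ∈ 𝓕, x ∈ NN T ∧ A ⊆ T

theorem FStep.mono (𝓕 : Set (Subgroup G)) : ∀ (A A' : Set G) (x : G), A' ⊆ A → FStep 𝓕 A x → FStep 𝓕 A' x := by
  rintro A A' x h ⟨T, hT, hx, hA⟩
  exact ⟨T, hT, hx, h.trans hA⟩

/-- The main theorem on conjugation families: every subgroup of `S` conjugate to a fully normalized
member of `𝓕` gives a conjugation family. -/
theorem fam_chain (S : Sylow p G) (𝓕 : Set (Subgroup G)) (h𝓕 : ∀ U ∈ 𝓕, U ≤ (S : Subgroup G))
    (h : ∀ T : Subgroup G, T ≤ (S : Subgroup G) → ∃ U ∈ 𝓕, (∃ g : G, cg g T = U) ∧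
      ¬ p ∣ ((S : Subgroup G) ⊓ NN U).relIndex (NN U)) (R : Subgroup G) :
    R ≤ (S : Subgroup G) → ∀ g : G, cj g (R : Set G) ⊆ (S : Set G) → SChain (FStep 𝓕) (R : Set G) g := by
  induction' hn : Nat.card (S : Subgroup G) - Nat.card R using Nat.strong_induction_on with n ih generalizing R
  intro hR g hg
  have hchain : AChain S (R : Set G) g := alperin_fusion S (R : Set G) g hR hg
  have key : ∀ (A : Set G) (g : G), AChain S A g → ∀ R' : Subgroup G, A = (R' : Set G) →
      Nat.card R' = Nat.card R → R' ≤ (S : Subgroup G) → SChain (FStep 𝓕) A g := by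
    intro A g hc
    induction hc with
    | nil A => intros; exact SChain.nil _
    | cons A Q x y hA hx ht hy ihy =>
      intro R' hAR hcard hR'S
      set D : Subgroup G := (S : Subgroup G) ⊓ (Q : Subgroup G) with hD
      have hDS : D ≤ (S : Subgroup G) := inf_le_left
      have hAD : A ⊆ D := hA
      have hxN : x ∈ NN D := hx
      have hx1 : SChain (FStep 𝓕) A x := by
        by_cases hDe : D = (S : Subgroup G)
        · -- `S` itself
          obtain ⟨U, hU, ⟨b, hb⟩, -⟩ := h _ le_rfl
          have hUS : U = (S : Subgroup G) := by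
            apply Subgroup.eq_of_le_of_card_ge (h𝓕 U hU)
            rw [← hb, card_cg]
          rw [hUS] at hU
          refine SChain.one ⟨_, hU, ?_, ?_⟩
          · rw [← hDe]; exact hxN
          · rw [← hDe]; exact hAD
        · have hlt : D < (S : Subgroup G) := lt_of_le_of_ne hDS hDe
          set R₁ : Subgroup G := (S : Subgroup G) ⊓ NN D with hR₁
          have hlt2 : D < R₁ := lt_inf_normalizer _ D S.2 hlt
          have hR₁S : R₁ ≤ (S : Subgroup G) := inf_le_left
          have hR₁N : R₁ ≤ NN D := inf_le_right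
          have hsyl : ¬ p ∣ R₁.relIndex (NN D) := ht.1
          obtain ⟨U, hU, ⟨b, hb⟩, hFN⟩ := h D hDS
          have hUN : cg b (NN D) = NN U := by rw [← hb, NN_cg]
          have hR₁p : IsPGroup p R₁ := S.2.to_le hR₁S
          obtain ⟨e, heN, he⟩ := exists_conj_of_relIndex (p := p) (NN U) (cg b R₁) ((S : Subgroup G) ⊓ NN U)
            (isPGroup_cg b hR₁p) (S.2.to_le inf_le_left) (by rw [← hUN]; exact cg_mono b hR₁N) inf_le_right
            (by rw [← hUN, relIndex_cg]; exact hsyl) hFN
          set c : G := e * b with hc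
          have hcR : cg c R₁ = (S : Subgroup G) ⊓ NN U := by
            rw [hc, cg_mul]; exact he
          have hcD : cg c D = U := by
            rw [hc, cg_mul, hb]; exact cg_eq_self_of_mem heN
          have hR'R₁ : A ⊆ R₁ := fun a ha => hlt2.le (hAD ha)
          have hcard1 : Nat.card R < Nat.card R₁ := by
            have h1 : Nat.card R' ≤ Nat.card D := by
              apply Subgroup.card_le_of_le
              intro r hr
              apply hAD
              rw [hAR]
              exact hr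
            have h2 := card_lt_of_lt' hlt2
            omega
          have hcardS : Nat.card R₁ ≤ Nat.card (S : Subgroup G) := Subgroup.card_le_of_le hR₁S
          have hS1 : SChain (FStep 𝓕) (R₁ : Set G) c⁻¹ := by
            refine ih (Nat.card (S : Subgroup G) - Nat.card R₁) (by omega) R₁ rfl hR₁S c⁻¹ ?_
            rw [cj_eq_cg, inv_inv, hcR]
            exact fun a ha => ha.1
          have hS3 : SChain (FStep 𝓕) (((S : Subgroup G) ⊓ NN U : Subgroup G) : Set G) c := by
            have hcard2 : Nat.card ((S : Subgroup G) ⊓ NN U : Subgroup G) = Nat.card R₁ := by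
              rw [← hcR, card_cg]
            refine ih (Nat.card (S : Subgroup G) - Nat.card ((S : Subgroup G) ⊓ NN U : Subgroup G)) (by omega) _ rfl
              inf_le_left c ?_
            rw [cj_eq_cg, ← hcR, cg_inv_cg]
            exact hR₁S
          have hUS : U ≤ (S : Subgroup G) := h𝓕 U hU
          have hxU : c * x * c⁻¹ ∈ NN U := by
            rw [← hcD, NN_cg, mem_cg]
            have : c⁻¹ * (c * x * c⁻¹) * c = x := by group
            rw [this]; exact hxN
          have hA2 : cj c⁻¹ A ⊆ U := by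
            rintro _ ⟨a, ha, rfl⟩
            rw [← hcD, SetLike.mem_coe, mem_cg]
            have : c⁻¹ * (c⁻¹⁻¹ * a * c⁻¹) * c = a := by group
            rw [this]; exact hAD ha
          have hA3 : cj (c * x * c⁻¹) (cj c⁻¹ A) ⊆ U := cj_subset_of_normalizer hA2 hxU
          have step1 : SChain (FStep 𝓕) A c⁻¹ := hS1.mono (FStep.mono 𝓕) hR'R₁
          have step2 : SChain (FStep 𝓕) (cj c⁻¹ A) (c * x * c⁻¹) := SChain.one ⟨U, hU, hxU, hA2⟩
          have step3 : SChain (FStep 𝓕) (cj (c * x * c⁻¹) (cj c⁻¹ A)) c :=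
            hS3.mono (FStep.mono 𝓕) (fun a ha => ⟨hUS (hA3 ha), Subgroup.le_normalizer (hA3 ha)⟩)
          have hall := (step1.trans step2).trans (by rw [cj_mul]; exact step3)
          have e : c⁻¹ * (c * x * c⁻¹) * c = x := by group
          rwa [e] at hall
      refine hx1.trans ?_
      refine ihy (cg x⁻¹ R') ?_ ?_ ?_
      · rw [hAR, cj_eq_cg]
      · rw [card_cg]; exact hcard
      · have h1 : cj x A ⊆ D := cj_subset_of_normalizer hAD hxN
        rw [hAR, cj_eq_cg] at h1
        exact fun a ha => hDS (h1 ha)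
  exact key _ g hchain R rfl rfl hR

/-- Converting a chain to the list form of the definition of a conjugation family. -/
theorem SChain.toList {𝓕 : Set (Subgroup G)} {A : Set G} {g : G} (h : SChain (FStep 𝓕) A g) :
    ∃ (n : ℕ) (T : Fin n → Subgroup G) (x : Fin n → G), (List.ofFn x).prod = g ∧
      (∀ i, T i ∈ 𝓕) ∧ (∀ i, x i ∈ Subgroup.normalizer ((T i : Subgroup G) : Set G)) ∧
      (∀ h : 0 < n, A ⊆ T ⟨0, h⟩) ∧
      ∀ (i : Fin n) (h : i.val + 1 < n),
        (fun a => (((List.ofFn x).take (i.val + 1)).prod)⁻¹ * a * ((List.ofFn x).take (i.val + 1)).prod) '' A ⊆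
          T ⟨i.val + 1, h⟩ := by
  induction h with
  | nil A =>
    exact ⟨0, Fin.elim0, Fin.elim0, by simp, fun i => i.elim0, fun i => i.elim0, fun h => absurd h (lt_irrefl _),
      fun i => i.elim0⟩
  | cons A x₀ y hs hy ih =>
    obtain ⟨T₀, hT₀, hx₀, hA₀⟩ := hs
    obtain ⟨n, T, x, hprod, h1, h2, h3, h4⟩ := ih
    refine ⟨n + 1, Fin.cons T₀ T, Fin.cons x₀ x, ?_, ?_, ?_, ?_, ?_⟩
    · rw [List.ofFn_succ]
      simp [hprod]
    · intro i
      refine Fin.cases ?_ (fun j => ?_) i
      · simpa using hT₀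
      · simpa using h1 j
    · intro i
      refine Fin.cases ?_ (fun j => ?_) i
      · simpa using hx₀
      · simpa using h2 j
    · intro _
      simpa using hA₀
    · intro i hi
      have hlist : List.ofFn (Fin.cons x₀ x : Fin (n + 1) → G) = x₀ :: List.ofFn x := by
        rw [List.ofFn_succ]; simp
      rw [hlist]
      obtain ⟨i, hi'⟩ := i
      cases i with
      | zero =>
        have h0 : 0 < n := by simpa using hi
        have hQ : (Fin.cons T₀ T : Fin (n + 1) → Subgroup G) ⟨0 + 1, hi⟩ = T ⟨0, h0⟩ := rfl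
        have := h3 h0
        simp only [List.take_succ_cons, List.take_zero, List.prod_cons, List.prod_nil, mul_one]
        rw [hQ]
        exact this
      | succ j =>
        have hj : j + 1 < n := by simpa using hi
        have hQ : (Fin.cons T₀ T : Fin (n + 1) → Subgroup G) ⟨j + 1 + 1, hi⟩ = T ⟨j + 1, hj⟩ := rfl
        have := h4 ⟨j, lt_trans (Nat.lt_succ_self j) hj⟩ hj
        rw [hQ]
        simp only [List.take_succ_cons, List.prod_cons]
        refine subset_trans ?_ this
        rintro _ ⟨a, ha, rfl⟩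
        refine ⟨x₀⁻¹ * a * x₀, ⟨a, ha, rfl⟩, ?_⟩
        simp only
        group

/-- A set conjugated into `S`: the subgroup it generates is too. -/
theorem closure_cj_subset {S : Subgroup G} {A : Set G} {g : G} (hA : A ⊆ S)
    (hg : (fun a => g⁻¹ * a * g) '' A ⊆ (S : Set G)) :
    Subgroup.closure A ≤ S ∧ cj g (Subgroup.closure A : Set G) ⊆ (S : Set G) := by
  refine ⟨(Subgroup.closure_le S).2 hA, ?_⟩
  have h1 : Subgroup.closure A ≤ cg g S := by
    rw [Subgroup.closure_le]
    intro a ha
    rw [SetLike.mem_coe, mem_cg]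
    exact hg ⟨a, ha, rfl⟩
  rw [cj_eq_cg]
  intro x hx
  rw [SetLike.mem_coe, mem_cg] at hx
  have h2 := h1 hx
  rw [mem_cg] at h2
  have e : g⁻¹ * (g⁻¹⁻¹ * x * g⁻¹) * g = x := by group
  rwa [e] at h2

/-- The theorem on conjugation families. -/
theorem isConjugationFamily_of (S : Sylow p G) (𝓕 : Set (Subgroup G)) (h𝓕 : ∀ U ∈ 𝓕, U ≤ (S : Subgroup G))
    (h : ∀ T : Subgroup G, T ≤ (S : Subgroup G) → ∃ U ∈ 𝓕, (∃ g : G, T.map (MulAut.conj g).toMonoidHom = U) ∧
      ¬ p ∣ ((S : Subgroup G) ⊓ Subgroup.normalizer ((U : Subgroup G) : Set G)).relIndex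
        (Subgroup.normalizer ((U : Subgroup G) : Set G))) :
    IsConjugationFamily 𝓕 (S : Subgroup G) := by
  refine ⟨h𝓕, ?_⟩
  intro A g _ hA hg
  obtain ⟨h1, h2⟩ := closure_cj_subset hA hg
  have h3 := fam_chain S 𝓕 h𝓕 h _ h1 g h2
  exact (h3.mono (FStep.mono 𝓕) Subgroup.subset_closure).toList

/-! ### Well placed subgroups -/

/-- A `p`-subgroup normalizing `U` can be conjugated so that `U` becomes fully normalized. -/
theorem conj_up (S : Sylow p G) (R U : Subgroup G) (hR : IsPGroup p R) (hRU : R ≤ NN U) :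
    ∃ k : G, cg k R ≤ (S : Subgroup G) ∧ cg k R ≤ NN (cg k U) ∧
      ¬ p ∣ ((S : Subgroup G) ⊓ NN (cg k U)).relIndex (NN (cg k U)) := by
  obtain ⟨R', h1, h2⟩ := exists_sylow_over (p := p) R hR (NN U)
  obtain ⟨k, hk⟩ := MulAction.exists_smul_eq G R' S
  have hS : (S : Subgroup G) = cg k (R' : Subgroup G) := by rw [← hk]; rfl
  have hRR' : R ≤ (R' : Subgroup G) := fun r hr => h1 ⟨hr, hRU hr⟩
  refine ⟨k, ?_, ?_, ?_⟩
  · rw [hS]; exact cg_mono k hRR'
  · rw [NN_cg]; exact cg_mono k hRU
  · rw [NN_cg, hS, ← cg_inf, relIndex_cg]; exact h2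

variable (W : Subgroup G → Subgroup G)

theorem functor_le (hW : IsConjugacyFunctor p W) {P : Subgroup G} (hP : IsPGroup p P) : W P ≤ P := (hW P hP).1

theorem functor_ne_bot (hW : IsConjugacyFunctor p W) {P : Subgroup G} (hP : IsPGroup p P) (h : P ≠ ⊥) : W P ≠ ⊥ :=
  (hW P hP).2.1 h

theorem functor_cg (hW : IsConjugacyFunctor p W) {P : Subgroup G} (hP : IsPGroup p P) (g : G) :
    W (cg g P) = cg g (W P) := (hW P hP).2.2 g

theorem normalizer_le_functor (hW : IsConjugacyFunctor p W) {P : Subgroup G} (hP : IsPGroup p P) :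
    NN P ≤ NN (W P) := by
  intro x hx
  have h1 : cg x (W P) = W P := by
    rw [← functor_cg W hW hP, cg_eq_self_of_mem hx]
  rw [Subgroup.mem_normalizer_iff]
  intro y
  have h3 : x * y * x⁻¹ ∈ cg x (W P) ↔ y ∈ W P := by
    rw [mem_cg, show x⁻¹ * (x * y * x⁻¹) * x = y by group]
  rw [h1] at h3
  exact h3.symm

theorem le_normalizer_functor (hW : IsConjugacyFunctor p W) {P : Subgroup G} (hP : IsPGroup p P) :
    P ≤ NN (W P) := Subgroup.le_normalizer.trans (normalizer_le_functor W hW hP)

/-- A stable term of a tower is at the top. -/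
theorem eq_top_of_stable (S : Sylow p G) (hW : IsConjugacyFunctor p W) (R : Subgroup G) (hR : R ≤ (S : Subgroup G))
    (h : (S : Subgroup G) ⊓ NN (W R) = R) : R = (S : Subgroup G) := by
  by_contra hne
  have hlt : R < (S : Subgroup G) := lt_of_le_of_ne hR hne
  have h1 : R < (S : Subgroup G) ⊓ NN R := lt_inf_normalizer _ R S.2 hlt
  have h2 : (S : Subgroup G) ⊓ NN R ≤ (S : Subgroup G) ⊓ NN (W R) :=
    inf_le_inf_left _ (normalizer_le_functor W hW (S.2.to_le hR))
  rw [h] at h2
  exact absurd (h1.trans_le h2) (lt_irrefl _)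

/-- The tower of `W R` can be made fully normalized at every term, after conjugating `R`. -/
theorem exists_tower (S : Sylow p G) (hW : IsConjugacyFunctor p W) (R : Subgroup G) :
    R ≤ (S : Subgroup G) → ∃ k : G, cg k R ≤ (S : Subgroup G) ∧
      ∀ i, ¬ p ∣ ((S : Subgroup G) ⊓ NN (functorTower W S (W (cg k R)) i)).relIndex
        (NN (functorTower W S (W (cg k R)) i)) := by
  induction' hn : Nat.card (S : Subgroup G) - Nat.card R using Nat.strong_induction_on with n ih generalizing R
  intro hR
  have hRp : IsPGroup p R := S.2.to_le hR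
  obtain ⟨k₁, h1, h2, h3⟩ := conj_up S R (W R) hRp (le_normalizer_functor W hW hRp)
  rw [← functor_cg W hW hRp] at h2 h3
  set R' := cg k₁ R with hR'
  have hR'p : IsPGroup p R' := S.2.to_le h1
  set X : Subgroup G := (S : Subgroup G) ⊓ NN (W R') with hX
  have hR'X : R' ≤ X := le_inf h1 h2
  by_cases he : X = R'
  · -- stable
    refine ⟨k₁, h1, ?_⟩
    have hconst : ∀ i, functorTower W S (W R') i = W R' := by
      intro i
      induction i with
      | zero => rfl
      | succ i ih2 =>
        show W ((S : Subgroup G) ⊓ NN (functorTower W S (W R') i)) = W R'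
        rw [ih2]
        show W X = W R'
        rw [he]
    intro i
    rw [hconst]
    exact h3
  · have hlt : R' < X := lt_of_le_of_ne hR'X (Ne.symm he)
    have hXS : X ≤ (S : Subgroup G) := inf_le_left
    have hc1 : Nat.card R' = Nat.card R := card_cg _ _
    have hc2 : Nat.card R' < Nat.card X := card_lt_of_lt' hlt
    have hc3 : Nat.card X ≤ Nat.card (S : Subgroup G) := Subgroup.card_le_of_le hXS
    obtain ⟨k₂, h4, h5⟩ := ih (Nat.card (S : Subgroup G) - Nat.card X) (by omega) X rfl hXS
    have hXp : IsPGroup p X := S.2.to_le hXS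
    refine ⟨k₂ * k₁, ?_, ?_⟩
    · rw [cg_mul]
      exact (cg_mono k₂ hR'X).trans h4
    · rw [cg_mul, ← hR']
      -- the normalizer of the next term
      have hY : (S : Subgroup G) ⊓ NN (W (cg k₂ R')) = cg k₂ X := by
        rw [functor_cg W hW hR'p]
        symm
        apply eq_of_sylow_le (p := p) (L := NN (cg k₂ (W R')))
        · refine le_inf h4 ?_
          rw [NN_cg]
          exact cg_mono k₂ inf_le_right
        · exact S.2.to_le inf_le_left
        · exact inf_le_right
        · rw [NN_cg, relIndex_cg]; exact h3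
      have hshift : ∀ i, functorTower W S (W (cg k₂ R')) (i + 1) = functorTower W S (W (cg k₂ X)) i := by
        intro i
        induction i with
        | zero =>
          show W ((S : Subgroup G) ⊓ NN (functorTower W S (W (cg k₂ R')) 0)) = W (cg k₂ X)
          show W ((S : Subgroup G) ⊓ NN (W (cg k₂ R'))) = W (cg k₂ X)
          rw [hY]
        | succ i ih2 =>
          show W ((S : Subgroup G) ⊓ NN (functorTower W S (W (cg k₂ R')) (i + 1))) =
            W ((S : Subgroup G) ⊓ NN (functorTower W S (W (cg k₂ X)) i))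
          rw [ih2]
      intro i
      cases i with
      | zero =>
        show ¬ p ∣ ((S : Subgroup G) ⊓ NN (W (cg k₂ R'))).relIndex (NN (W (cg k₂ R')))
        rw [hY, functor_cg W hW hR'p, NN_cg, relIndex_cg]
        exact h3
      | succ i =>
        rw [hshift]
        exact h5 i

/-- Every subgroup of `S` is conjugate to a well placed subgroup. -/
theorem exists_wellPlaced (S : Sylow p G) (hW : IsConjugacyFunctor p W) (T : Subgroup G) (hT : T ≤ (S : Subgroup G)) :
    ∃ g : G, IsWellPlaced p W (S : Subgroup G) (cg g T) := by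
  have hTp : IsPGroup p T := S.2.to_le hT
  obtain ⟨k₁, h1, h2, h3⟩ := conj_up S T T hTp Subgroup.le_normalizer
  set T' := cg k₁ T with hT'
  set R₀ : Subgroup G := (S : Subgroup G) ⊓ NN T' with hR₀
  have hR₀S : R₀ ≤ (S : Subgroup G) := inf_le_left
  obtain ⟨k₂, h4, h5⟩ := exists_tower W S hW R₀ hR₀S
  have hT'R₀ : T' ≤ R₀ := le_inf h1 h2
  have hY : (S : Subgroup G) ⊓ NN (cg k₂ T') = cg k₂ R₀ := by
    symm
    apply eq_of_sylow_le (p := p) (L := NN (cg k₂ T'))
    · refine le_inf h4 ?_
      rw [NN_cg]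
      exact cg_mono k₂ inf_le_right
    · exact S.2.to_le inf_le_left
    · exact inf_le_right
    · rw [NN_cg, relIndex_cg]; exact h3
  have hshift : ∀ i, functorTower W S (cg k₂ T') (i + 1) = functorTower W S (W (cg k₂ R₀)) i := by
    intro i
    induction i with
    | zero =>
      show W ((S : Subgroup G) ⊓ NN (functorTower W S (cg k₂ T') 0)) = W (cg k₂ R₀)
      show W ((S : Subgroup G) ⊓ NN (cg k₂ T')) = W (cg k₂ R₀)
      rw [hY]
    | succ i ih2 =>
      show W ((S : Subgroup G) ⊓ NN (functorTower W S (cg k₂ T') (i + 1))) =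
        W ((S : Subgroup G) ⊓ NN (functorTower W S (W (cg k₂ R₀)) i))
      rw [ih2]
  refine ⟨k₂ * k₁, ?_, ?_⟩
  · rw [cg_mul]
    exact (cg_mono k₂ hT'R₀).trans h4
  · rw [cg_mul, ← hT']
    intro i
    cases i with
    | zero =>
      show ¬ p ∣ ((S : Subgroup G) ⊓ NN (cg k₂ T')).relIndex (NN (cg k₂ T'))
      rw [hY, NN_cg, relIndex_cg]
      exact h3
    | succ i =>
      rw [hshift]
      exact h5 i

/-- Well placed subgroups form a conjugation family. -/
theorem isConjugationFamily_wellPlaced (S : Sylow p G) (hW : IsConjugacyFunctor p W) :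
    IsConjugationFamily {T : Subgroup G | IsWellPlaced p W (S : Subgroup G) T} (S : Subgroup G) := by
  apply isConjugationFamily_of S
  · intro U hU
    exact hU.1
  · intro T hT
    obtain ⟨g, hg⟩ := exists_wellPlaced W S hW T hT
    exact ⟨_, hg, ⟨g, rfl⟩, hg.2 0⟩

end Cfsg.Agent.Lib.H9CF
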