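import Cfsg.Agent.Lib.H9CF

/-! Local-to-global control: abstract induction for well placed subgroups and for fully normalized subgroups. -/

set_option linter.unusedSectionVars false
set_option linter.unusedVariables false

namespace Cfsg.Agent.Lib.H9CF

open Cfsg Subgroup Cfsg.Agent.Lib.PNilp

variable {G : Type*} [Group G] [Finite G] {p : ℕ} [hp : Fact p.Prime]

/-- chains compose to a "good" property -/
theorem SChain.good {Step : Set G → G → Prop} (Good : Set G → G → Prop) (hone : ∀ A, Good A 1)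
    (hcomp : ∀ A g g', Good A g → Good (cj g A) g' → Good A (g * g'))
    (hstep : ∀ A x, Step A x → Good A x) {A : Set G} {g : G} (h : SChain Step A g) : Good A g := by
  induction h with
  | nil A => exact hone A
  | cons A x y hs hy ih => exact hcomp _ _ _ (hstep _ _ hs) ih

/-- Well placed: the next term of the tower. -/
theorem wellPlaced_next (W : Subgroup G → Subgroup G) (S : Subgroup G) (T : Subgroup G)
    (hS : W (S ⊓ NN T) ≤ S) (h : IsWellPlaced p W S T) : IsWellPlaced p W S (W (S ⊓ NN T)) := by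
  refine ⟨hS, ?_⟩
  have hshift : ∀ i, functorTower W S (W (S ⊓ NN T)) i = functorTower W S T (i + 1) := by
    intro i
    induction i with
    | zero => rfl
    | succ i ih =>
      show W (S ⊓ NN (functorTower W S (W (S ⊓ NN T)) i)) = W (S ⊓ NN (functorTower W S T (i + 1)))
      rw [ih]
  intro i
  rw [hshift]
  exact h.2 (i + 1)

/-- The abstract local-to-global theorem for well placed subgroups. -/
theorem abstract_wellPlaced (S : Sylow p G) (W : Subgroup G → Subgroup G) (hW : IsConjugacyFunctor p W)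
    (Good : Set G → G → Prop) (hone : ∀ A, Good A 1)
    (hcomp : ∀ A g g', Good A g → Good (cj g A) g' → Good A (g * g'))
    (hbot : ∀ A g, A ⊆ {1} → Good A g)
    (hdir : ∀ y ∈ NN (W (S : Subgroup G)), ∀ B : Set G, B ⊆ (S : Set G) → cj y B ⊆ (S : Set G) → Good B y)
    (hloc : ∀ T : Subgroup G, T ≠ ⊥ → IsWellPlaced p W (S : Subgroup G) T →
      (∀ y ∈ NN T ⊓ NN (W ((S : Subgroup G) ⊓ NN T)), ∀ B : Set G, B ⊆ (((S : Subgroup G) ⊓ NN T : Subgroup G) : Set G) →
        cj y B ⊆ (((S : Subgroup G) ⊓ NN T : Subgroup G) : Set G) → Good B y) →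
      ∀ x ∈ NN T, ∀ B : Set G, B ⊆ (((S : Subgroup G) ⊓ NN T : Subgroup G) : Set G) →
        cj x B ⊆ (((S : Subgroup G) ⊓ NN T : Subgroup G) : Set G) → Good B x)
    (A : Set G) (g : G) (hA : A ⊆ (S : Set G)) (hg : cj g A ⊆ (S : Set G)) : Good A g := by
  -- the step for a well placed subgroup
  have Q : ∀ T : Subgroup G, T ≠ ⊥ → IsWellPlaced p W (S : Subgroup G) T →
      ∀ x ∈ NN T, ∀ B : Set G, B ⊆ (((S : Subgroup G) ⊓ NN T : Subgroup G) : Set G) →
        cj x B ⊆ (((S : Subgroup G) ⊓ NN T : Subgroup G) : Set G) → Good B x := by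
    intro T
    induction' hn : Nat.card (S : Subgroup G) - Nat.card ((S : Subgroup G) ⊓ NN T : Subgroup G)
      using Nat.strong_induction_on with n ih generalizing T
    intro hT hTw
    apply hloc T hT hTw
    intro y hy B hB hyB
    set R : Subgroup G := (S : Subgroup G) ⊓ NN T with hR
    have hRS : R ≤ (S : Subgroup G) := inf_le_left
    have hRp : IsPGroup p R := S.2.to_le hRS
    have hTR : T ≤ R := le_inf hTw.1 Subgroup.le_normalizer
    have hRne : R ≠ ⊥ := fun h => hT (le_bot_iff.1 (h ▸ hTR))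
    have hUR : W R ≤ R := functor_le W hW hRp
    have hUS : W R ≤ (S : Subgroup G) := hUR.trans hRS
    have hUw : IsWellPlaced p W (S : Subgroup G) (W R) := wellPlaced_next W _ T hUS hTw
    have hUne : W R ≠ ⊥ := functor_ne_bot W hW hRp hRne
    have hRle : R ≤ (S : Subgroup G) ⊓ NN (W R) := le_inf hRS (le_normalizer_functor W hW hRp)
    by_cases he : (S : Subgroup G) ⊓ NN (W R) = R
    · have hRe : R = (S : Subgroup G) := eq_top_of_stable W S hW R hRS he
      apply hdir y (by rw [← hRe]; exact hy.2)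
      · exact fun a ha => hRS (hB ha)
      · exact fun a ha => hRS (hyB ha)
    · have hlt : R < (S : Subgroup G) ⊓ NN (W R) := lt_of_le_of_ne hRle (Ne.symm he)
      have hc1 := card_lt_of_lt' hlt
      have hc2 : Nat.card ((S : Subgroup G) ⊓ NN (W R) : Subgroup G) ≤ Nat.card (S : Subgroup G) :=
        Subgroup.card_le_of_le inf_le_left
      exact ih _ (by omega) (W R) rfl hUne hUw y hy.2 B (hB.trans hRle) (hyB.trans hRle)
  -- chains
  obtain ⟨h1, h2⟩ := closure_cj_subset (S := (S : Subgroup G)) (A := A) (g := g) hA hg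
  have hfam : ∀ U ∈ {T : Subgroup G | IsWellPlaced p W (S : Subgroup G) T}, U ≤ (S : Subgroup G) := fun U hU => hU.1
  have hch := fam_chain S {T : Subgroup G | IsWellPlaced p W (S : Subgroup G) T} hfam (by
    intro T hT
    obtain ⟨k, hk⟩ := exists_wellPlaced W S hW T hT
    exact ⟨_, hk, ⟨k, rfl⟩, hk.2 0⟩) _ h1 g h2
  have hch2 : SChain (FStep {T : Subgroup G | IsWellPlaced p W (S : Subgroup G) T}) A g :=
    hch.mono (FStep.mono _) Subgroup.subset_closure
  refine SChain.good Good hone hcomp ?_ hch2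
  rintro A x ⟨T, hT, hx, hAT⟩
  by_cases hT0 : T = ⊥
  · apply hbot
    intro a ha
    have := hAT ha
    rw [hT0] at this
    exact this
  · apply Q T hT0 hT x hx A
    · exact fun a ha => ⟨hT.1 (hAT ha), Subgroup.le_normalizer (hAT ha)⟩
    · have h3 : cj x A ⊆ T := cj_subset_of_normalizer hAT hx
      exact fun a ha => ⟨hT.1 (h3 ha), Subgroup.le_normalizer (h3 ha)⟩

/-- The abstract local-to-global theorem for a family of functors and fully normalized subgroups. -/
theorem abstract_family (S : Sylow p G) (𝓦 : Set (Subgroup G → Subgroup G))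
    (h𝓦 : ∀ W ∈ 𝓦, IsConjugacyFunctor p W)
    (Good : Set G → G → Prop) (hone : ∀ A, Good A 1)
    (hcomp : ∀ A g g', Good A g → Good (cj g A) g' → Good A (g * g'))
    (hmono : ∀ A A' g, A' ⊆ A → Good A g → Good A' g)
    (hbot : ∀ A g, A ⊆ {1} → Good A g)
    (hdir : ∀ W ∈ 𝓦, ∀ y ∈ NN (W (S : Subgroup G)), ∀ B : Set G, B ⊆ (S : Set G) → cj y B ⊆ (S : Set G) → Good B y)
    (hloc : ∀ T : Subgroup G, T ≠ ⊥ → T ≤ (S : Subgroup G) → ¬ p ∣ ((S : Subgroup G) ⊓ NN T).relIndex (NN T) →
      (∀ W ∈ 𝓦, ∀ y ∈ NN T ⊓ NN (W ((S : Subgroup G) ⊓ NN T)), ∀ B : Set G, B ⊆ (((S : Subgroup G) ⊓ NN T : Subgroup G) : Set G) →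
        cj y B ⊆ (((S : Subgroup G) ⊓ NN T : Subgroup G) : Set G) → Good B y) →
      ∀ x ∈ NN T, ∀ B : Set G, B ⊆ (((S : Subgroup G) ⊓ NN T : Subgroup G) : Set G) →
        cj x B ⊆ (((S : Subgroup G) ⊓ NN T : Subgroup G) : Set G) → Good B x)
    (A : Set G) (g : G) (hA : A ⊆ (S : Set G)) (hg : cj g A ⊆ (S : Set G)) : Good A g := by
  classical
  set FN : Set (Subgroup G) := {T | T ≤ (S : Subgroup G) ∧ ¬ p ∣ ((S : Subgroup G) ⊓ NN T).relIndex (NN T)} with hFN
  have hfam : ∀ U ∈ FN, U ≤ (S : Subgroup G) := fun U hU => hU.1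
  have hconj : ∀ T : Subgroup G, T ≤ (S : Subgroup G) → ∃ U ∈ FN, (∃ g : G, cg g T = U) ∧
      ¬ p ∣ ((S : Subgroup G) ⊓ NN U).relIndex (NN U) := by
    intro T hT
    obtain ⟨k, h1, h2, h3⟩ := conj_up S T T (S.2.to_le hT) Subgroup.le_normalizer
    exact ⟨_, ⟨h1, h3⟩, ⟨k, rfl⟩, h3⟩
  -- statement `Q`
  let Q : Subgroup G → Prop := fun T => ∀ x ∈ NN T, ∀ B : Set G,
      B ⊆ (((S : Subgroup G) ⊓ NN T : Subgroup G) : Set G) →
        cj x B ⊆ (((S : Subgroup G) ⊓ NN T : Subgroup G) : Set G) → Good B x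
  -- statement `P`
  let P : Subgroup G → Prop := fun R => ∀ g : G, cj g (R : Set G) ⊆ (S : Set G) → Good (R : Set G) g
  -- top level
  have Qtop : ∀ T : Subgroup G, T ≠ ⊥ → T ∈ FN → (S : Subgroup G) ⊓ NN T = (S : Subgroup G) → Q T := by
    intro T hT hTF he
    apply hloc T hT hTF.1 hTF.2
    intro W hW y hy B hB hyB
    rw [he] at hy hB hyB
    exact hdir W hW y hy.2 B hB hyB
  -- `P` from `Q`
  have PofQ : ∀ R : Subgroup G, R ≤ (S : Subgroup G) →
      (∀ T : Subgroup G, T ≠ ⊥ → T ∈ FN → Nat.card R < Nat.card ((S : Subgroup G) ⊓ NN T : Subgroup G) → Q T) →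
      P R := by
    intro R hR hQ g hg
    by_cases hR0 : R = ⊥
    · apply hbot
      rw [hR0]
      intro a ha
      exact ha
    have hch := fam_chain S FN hfam hconj R hR g hg
    have key : ∀ (A : Set G) (g : G), SChain (FStep FN) A g → ∀ R' : Subgroup G, A = (R' : Set G) →
        Nat.card R' = Nat.card R → Good A g := by
      intro A g hc
      induction hc with
      | nil A => intros; exact hone A
      | cons A x y hs hy ih =>
        intro R' hAR hcard
        obtain ⟨T, hT, hx, hAT⟩ := hs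
        have hR'T : R' ≤ T := by
          intro r hr
          apply hAT
          rw [hAR]
          exact hr
        have hT0 : T ≠ ⊥ := by
          rintro rfl
          have h1 : R' = ⊥ := le_bot_iff.1 hR'T
          rw [h1] at hcard
          apply hR0
          have h2 : Nat.card R = 1 := by rw [← hcard]; simp
          exact Subgroup.card_eq_one.1 h2
        have hTR : T ≤ (S : Subgroup G) ⊓ NN T := le_inf hT.1 Subgroup.le_normalizer
        have h3 : cj x A ⊆ T := cj_subset_of_normalizer hAT hx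
        have hgood : Good A x := by
          by_cases he : (S : Subgroup G) ⊓ NN T = (S : Subgroup G)
          · exact Qtop T hT0 hT he x hx A (fun a ha => hTR (hAT ha)) (fun a ha => hTR (h3 ha))
          · by_cases hTS : T = (S : Subgroup G)
            · exfalso
              apply he
              rw [hTS]
              exact inf_eq_left.2 Subgroup.le_normalizer
            · have hlt : T < (S : Subgroup G) := lt_of_le_of_ne hT.1 hTS
              have hlt2 : T < (S : Subgroup G) ⊓ NN T := lt_inf_normalizer _ T S.2 hlt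
              have hc1 := card_lt_of_lt' hlt2
              have hc2 : Nat.card R' ≤ Nat.card T := Subgroup.card_le_of_le hR'T
              exact hQ T hT0 hT (by omega) x hx A (fun a ha => hTR (hAT ha)) (fun a ha => hTR (h3 ha))
        refine hcomp _ _ _ hgood (ih (cg x⁻¹ R') ?_ ?_)
        · rw [hAR, cj_eq_cg]
        · rw [card_cg]; exact hcard
    exact key _ g hch R rfl rfl
  -- descending induction
  have main : ∀ k m : ℕ, m + k = Nat.card (S : Subgroup G) + 1 → ∀ T : Subgroup G, T ≠ ⊥ → T ∈ FN →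
      m ≤ Nat.card ((S : Subgroup G) ⊓ NN T : Subgroup G) → Q T := by
    intro k
    induction k with
    | zero =>
      intro m hm T _ _ hc
      have : Nat.card ((S : Subgroup G) ⊓ NN T : Subgroup G) ≤ Nat.card (S : Subgroup G) :=
        Subgroup.card_le_of_le inf_le_left
      omega
    | succ k ih =>
      intro m hm T hT hTF hc
      by_cases hc' : m + 1 ≤ Nat.card ((S : Subgroup G) ⊓ NN T : Subgroup G)
      · exact ih (m + 1) (by omega) T hT hTF hc'
      have hc0 : Nat.card ((S : Subgroup G) ⊓ NN T : Subgroup G) = m := by omega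
      have IH : ∀ T' : Subgroup G, T' ≠ ⊥ → T' ∈ FN → m < Nat.card ((S : Subgroup G) ⊓ NN T' : Subgroup G) → Q T' :=
        fun T' h1 h2 h3 => ih (m + 1) (by omega) T' h1 h2 h3
      set R : Subgroup G := (S : Subgroup G) ⊓ NN T with hR
      by_cases hRS : R = (S : Subgroup G)
      · exact Qtop T hT hTF hRS
      have hRle : R ≤ (S : Subgroup G) := inf_le_left
      have hRlt : R < (S : Subgroup G) := lt_of_le_of_ne hRle hRS
      have hRp : IsPGroup p R := S.2.to_le hRle
      have hTR : T ≤ R := le_inf hTF.1 Subgroup.le_normalizer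
      have hRne : R ≠ ⊥ := fun h => hT (le_bot_iff.1 (h ▸ hTR))
      have hP : ∀ R₁ : Subgroup G, R₁ ≤ (S : Subgroup G) → Nat.card R₁ = m → P R₁ := by
        intro R₁ h1 h2
        apply PofQ R₁ h1
        intro T' h3 h4 h5
        exact IH T' h3 h4 (by omega)
      apply hloc T hT hTF.1 hTF.2
      intro W hW y hy B hB hyB
      have hWf := h𝓦 W hW
      obtain ⟨k₀, h1, h2, h3⟩ := conj_up S R (W R) hRp (le_normalizer_functor W hWf hRp)
      rw [← functor_cg W hWf hRp] at h2 h3
      set R₁ := cg k₀ R with hR₁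
      have hR₁p : IsPGroup p R₁ := S.2.to_le h1
      have hR₁lt : R₁ ≠ (S : Subgroup G) := by
        intro he
        have h4 : Nat.card R₁ = Nat.card R := card_cg _ _
        rw [he] at h4
        have h5 := card_lt_of_lt' hRlt
        omega
      have hU'ne : W R₁ ≠ ⊥ := by
        apply functor_ne_bot W hWf hR₁p
        intro he
        apply hRne
        have h4 : Nat.card R₁ = Nat.card R := card_cg _ _
        rw [he] at h4
        have h5 : Nat.card R = 1 := by rw [← h4]; simp
        exact Subgroup.card_eq_one.1 h5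
      have hU'S : W R₁ ≤ (S : Subgroup G) := (functor_le W hWf hR₁p).trans h1
      have hU'F : W R₁ ∈ FN := ⟨hU'S, h3⟩
      have hle : R₁ ≤ (S : Subgroup G) ⊓ NN (W R₁) := le_inf h1 h2
      have hne : (S : Subgroup G) ⊓ NN (W R₁) ≠ R₁ := fun he => hR₁lt (eq_top_of_stable W S hWf R₁ h1 he)
      have hlt : R₁ < (S : Subgroup G) ⊓ NN (W R₁) := lt_of_le_of_ne hle (Ne.symm hne)
      have hc1 : Nat.card R₁ = m := by rw [hR₁, card_cg]; exact hc0
      have hc2 := card_lt_of_lt' hlt
      have hQ' : Q (W R₁) := IH _ hU'ne hU'F (by omega)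
      -- the pieces
      have hyU : k₀ * y * k₀⁻¹ ∈ NN (W R₁) := by
        rw [hR₁, functor_cg W hWf hRp, NN_cg, mem_cg]
        have : k₀⁻¹ * (k₀ * y * k₀⁻¹) * k₀ = y := by group
        rw [this]; exact hy.2
      have e2 : ∀ b : Set G, b ⊆ (R : Set G) → cj k₀⁻¹ b ⊆ (R₁ : Set G) := by
        rintro b hb _ ⟨a, ha, rfl⟩
        rw [SetLike.mem_coe, hR₁, mem_cg]
        have : k₀⁻¹ * (k₀⁻¹⁻¹ * a * k₀⁻¹) * k₀ = a := by group
        rw [this]; exact hb ha
      have s1 : Good B k₀⁻¹ := by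
        refine hmono _ _ _ hB (hP R hRle hc0 k₀⁻¹ ?_)
        rw [cj_eq_cg, inv_inv]
        exact h1
      have hB2 : cj k₀⁻¹ B ⊆ (R₁ : Set G) := e2 B hB
      have hB3 : cj (k₀ * y * k₀⁻¹) (cj k₀⁻¹ B) ⊆ (R₁ : Set G) := by
        have e3 : cj (k₀ * y * k₀⁻¹) (cj k₀⁻¹ B) = cj k₀⁻¹ (cj y B) := by
          rw [← cj_mul, ← cj_mul]
          congr 1
          group
        rw [e3]
        exact e2 _ hyB
      have s2 : Good (cj k₀⁻¹ B) (k₀ * y * k₀⁻¹) :=
        hQ' _ hyU _ (hB2.trans hle) (hB3.trans hle)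
      have s3 : Good (cj (k₀ * y * k₀⁻¹) (cj k₀⁻¹ B)) k₀ := by
        refine hmono _ _ _ hB3 (hP R₁ h1 hc1 k₀ ?_)
        rw [cj_eq_cg, hR₁, cg_inv_cg]
        exact hRle
      have hall := hcomp _ _ _ (hcomp _ _ _ s1 s2) (by rw [cj_mul]; exact s3)
      have e : k₀⁻¹ * (k₀ * y * k₀⁻¹) * k₀ = y := by group
      rwa [e] at hall
  have hQall : ∀ T : Subgroup G, T ≠ ⊥ → T ∈ FN → Q T := fun T h1 h2 =>
    main (Nat.card (S : Subgroup G) + 1) 0 (by omega) T h1 h2 (Nat.zero_le _)
  obtain ⟨h1, h2⟩ := closure_cj_subset (S := (S : Subgroup G)) (A := A) (g := g) hA hg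
  exact hmono _ _ _ Subgroup.subset_closure (PofQ _ h1 (fun T' h3 h4 _ => hQall T' h3 h4) g h2)

end Cfsg.Agent.Lib.H9CF
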