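import Cfsg.Agent.Lib.H9ZW
import Cfsg.Agent.Lib.PStable
import Cfsg.Agent.Lib.H1Cop

/-!
# Strongly closed `2`-subgroups acting on subgroups without odd normal subgroups
-/

set_option autoImplicit false
set_option linter.unusedVariables false
set_option linter.unusedSectionVars false
set_option linter.style.longLine false

open Cfsg Cfsg.Agent.Lib.H9ZS Subgroup

universe u

namespace Cfsg.Agent.Lib.H9ZX

variable {G : Type u} [Group G] [Finite G]

theorem comm_of_strong (S : Sylow 2 G) (A : Subgroup G) (hA : IsStronglyClosed A (S : Subgroup G)) (H : Subgroup G)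
    (hAH : A ≤ normalizer (H : Set G)) (hO : oddCore ↥H = ⊥) (hdisj : A ⊓ H = ⊥) (a : G) (ha : a ∈ A) (h : G) (hh : h ∈ H) :
    h * a = a * h := by
  classical
  haveI : Fact (Nat.Prime 2) := ⟨Nat.prime_two⟩
  have hAS : A ≤ (S : Subgroup G) := hA.1
  have hA2 : IsPGroup 2 A := S.2.to_le hAS
  obtain ⟨R, hRH, hR2, ⟨P, hP⟩, hAR⟩ := Cfsg.Agent.Lib.PStable.exists_invariant_sylow_of_isPGroup A H hA2 hAH
  have hRmax : ∀ X : Subgroup G, IsPGroup 2 X → X ≤ H → R ≤ X → X ≤ R := by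
    intro X hX hXH hRX x hx
    have h1 : IsPGroup 2 (X.subgroupOf H) := hX.comap_subtype
    have h2 : (P : Subgroup H) ≤ X.subgroupOf H := by
      intro p hp
      rw [Subgroup.mem_subgroupOf]
      apply hRX
      rw [← hP]
      exact ⟨p, hp, rfl⟩
    have h3 := P.is_maximal' h1 h2
    have h4 : (⟨x, hXH hx⟩ : H) ∈ X.subgroupOf H := Subgroup.mem_subgroupOf.mpr hx
    rw [h3] at h4
    rw [← hP]
    exact ⟨_, h4, rfl⟩
  have hsup := IsPGroup.to_sup_of_normal_left' hR2 hA2 hAR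
  obtain ⟨S₁, hS₁⟩ := hsup.exists_le_sylow
  obtain ⟨y, rfl⟩ := MulAction.exists_smul_eq G S S₁
  have hAy : ∀ b ∈ A, y⁻¹ * b * y ∈ A := by
    intro b hb
    have h1 := (Cfsg.Agent.Lib.H9ZW.mem_smul S y b).mp (hS₁ ((le_sup_right : A ≤ _) hb))
    have h2 := hA.2 b hb y⁻¹ (by rwa [inv_inv])
    rwa [inv_inv] at h2
  have hAy' : ∀ e ∈ A, y * e * y⁻¹ ∈ A := by
    intro e he
    let f : A → A := fun b => ⟨y⁻¹ * b * y, hAy b b.2⟩
    have hf : Function.Injective f := by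
      intro b c hbc
      have h1 : y⁻¹ * (b : G) * y = y⁻¹ * (c : G) * y := congrArg Subtype.val hbc
      apply Subtype.ext
      simpa using h1
    obtain ⟨b, hb⟩ := (Finite.injective_iff_surjective.mp hf) ⟨e, he⟩
    have h1 : y⁻¹ * (b : G) * y = e := congrArg Subtype.val hb
    have h2 : (b : G) = y * e * y⁻¹ := by rw [← h1]; group
    rw [← h2]; exact b.2
  have hfus : ∀ g : G, g * a * g⁻¹ ∈ ((y • S : Sylow 2 G) : Subgroup G) → g * a * g⁻¹ ∈ A := by
    intro g hg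
    have h1 := (Cfsg.Agent.Lib.H9ZW.mem_smul S y _).mp hg
    have e1 : y⁻¹ * (g * a * g⁻¹) * y = (y⁻¹ * g) * a * (y⁻¹ * g)⁻¹ := by group
    rw [e1] at h1
    have h2 := hA.2 a ha _ h1
    rw [← e1] at h2
    have h3 := hAy' _ h2
    have e2 : y * (y⁻¹ * (g * a * g⁻¹) * y) * y⁻¹ = g * a * g⁻¹ := by group
    rwa [e2] at h3
  have hzN : zpowers a ≤ normalizer (H : Set G) := zpowers_le.mpr (hAH ha)
  set K : Subgroup G := H ⊔ zpowers a with hK
  have hformK : ∀ x ∈ K, ∃ k ∈ H, ∃ b ∈ zpowers a, k * b = x := fun x hx => (Cfsg.Agent.Lib.H1Cop.mem_sup_iff hzN).mp hx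
  have hHK : H ≤ K := le_sup_left
  have haK : a ∈ K := (le_sup_right : zpowers a ≤ K) (mem_zpowers a)
  have hzp : IsPGroup 2 (zpowers a) := hA2.to_le (zpowers_le.mpr ha)
  have hW := IsPGroup.to_sup_of_normal_left' hR2 hzp (zpowers_le.mpr (hAR ha))
  have hWS : R ⊔ zpowers a ≤ ((y • S : Sylow 2 G) : Subgroup G) :=
    sup_le (le_sup_left.trans hS₁) (zpowers_le.mpr (hS₁ ((le_sup_right : A ≤ _) ha)))
  have hWK : R ⊔ zpowers a ≤ K := sup_le (hRH.trans hHK) le_sup_right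
  obtain ⟨T, hT⟩ := (hW.comap_subtype : IsPGroup 2 ((R ⊔ zpowers a).subgroupOf K)).exists_le_sylow
  have hTW : ∀ t : K, t ∈ (T : Subgroup K) → (t : G) ∈ R ⊔ zpowers a := by
    intro t ht
    obtain ⟨k, hk, b, hb, e⟩ := hformK t t.2
    have hbW : b ∈ R ⊔ zpowers a := (le_sup_right : zpowers a ≤ _) hb
    have hbT : (⟨b, hWK hbW⟩ : K) ∈ (T : Subgroup K) := hT (Subgroup.mem_subgroupOf.mpr hbW)
    have hkT : (⟨k, hHK hk⟩ : K) ∈ (T : Subgroup K) := by
      have : (⟨k, hHK hk⟩ : K) = t * (⟨b, hWK hbW⟩ : K)⁻¹ := by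
        apply Subtype.ext
        simp only [Subgroup.coe_mul, Subgroup.coe_inv]
        rw [← e]; group
      rw [this]
      exact mul_mem ht (inv_mem hbT)
    have hX : IsPGroup 2 (((T : Subgroup K).map K.subtype ⊓ H : Subgroup G)) :=
      (T.2.map K.subtype).to_le inf_le_left
    have hkR := hRmax _ hX inf_le_right (le_inf (fun r hr => ⟨⟨r, hWK ((le_sup_left : R ≤ _) hr)⟩,
      hT (Subgroup.mem_subgroupOf.mpr ((le_sup_left : R ≤ _) hr)), rfl⟩) hRH) ⟨⟨⟨k, hHK hk⟩, hkT, rfl⟩, hk⟩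
    rw [← e]
    exact mul_mem ((le_sup_left : R ≤ _) hkR) hbW
  let aK : K := ⟨a, haK⟩
  obtain ⟨k₀, hk₀⟩ := hA2 ⟨a, ha⟩
  have hk₀' : a ^ 2 ^ k₀ = 1 := congrArg Subtype.val hk₀
  have hk₀K : aK ^ 2 ^ k₀ = 1 := Subtype.ext hk₀'
  have haT : aK ∈ (T : Subgroup K) := hT (Subgroup.mem_subgroupOf.mpr ((le_sup_right : zpowers a ≤ _) (mem_zpowers a)))
  have hiso : ∀ g : K, g * aK * g⁻¹ ∈ (T : Subgroup K) → g * aK * g⁻¹ = aK := by
    intro g hg
    have h1 := hTW _ hg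
    have h2 : (g : G) * a * (g : G)⁻¹ ∈ R ⊔ zpowers a := h1
    have h3 := hfus _ (hWS h2)
    obtain ⟨k, hk, b, hb, e⟩ := hformK g g.2
    obtain ⟨i, hi⟩ := Subgroup.mem_zpowers_iff.mp hb
    have e1 : (g : G) * a * (g : G)⁻¹ = k * a * k⁻¹ := by
      rw [← e, ← hi]
      have : a ^ i * a = a * a ^ i := (Commute.zpow_left (Commute.refl a) i).eq
      calc k * a ^ i * a * (k * a ^ i)⁻¹ = k * (a ^ i * a) * (a ^ i)⁻¹ * k⁻¹ := by group
        _ = k * (a * a ^ i) * (a ^ i)⁻¹ * k⁻¹ := by rw [this]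
        _ = k * a * k⁻¹ := by group
    have h4 : (g : G) * a * (g : G)⁻¹ * a⁻¹ ∈ A ⊓ H := by
      refine Subgroup.mem_inf.mpr ⟨mul_mem h3 (inv_mem ha), ?_⟩
      rw [e1]
      have e2 : k * a * k⁻¹ * a⁻¹ = k * (a * k⁻¹ * a⁻¹) := by group
      rw [e2]
      exact mul_mem hk ((Subgroup.mem_normalizer_iff.mp (hAH ha) k⁻¹).mp (inv_mem hk))
    rw [hdisj, Subgroup.mem_bot] at h4
    apply Subtype.ext
    exact mul_inv_eq_one.mp h4
  have hisoK := Cfsg.Agent.Lib.H9ZU.isolated_of_sylow' T ⟨k₀, hk₀K⟩ haT hiso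
  have hstar := Cfsg.Agent.Lib.H9ZU.zstar_elt k₀ K aK hk₀K hisoK ⟨h, hHK hh⟩
  -- the core of `K` is trivial
  have hcore : oddCore K = ⊥ := by
    haveI hOn : (oddCore K).Normal := Cfsg.Agent.Lib.H1Core.pPrimeCore_normal 2 K
    have hHN : K ≤ normalizer (H : Set G) := sup_le Subgroup.le_normalizer hzN
    haveI hH'n : (H.subgroupOf K).Normal := (normal_subgroupOf_iff_le_normalizer hHK).2 hHN
    have hOH : ∀ o : K, o ∈ oddCore K → (o : G) ∈ H := by
      intro o ho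
      obtain ⟨k, hk, b, hb, e⟩ := hformK o o.2
      obtain ⟨i, hi⟩ := Subgroup.mem_zpowers_iff.mp hb
      have hbK : b ∈ K := (le_sup_right : zpowers a ≤ K) hb
      have hoe : o = (⟨k, hHK hk⟩ : K) * ⟨b, hbK⟩ := Subtype.ext e.symm
      have h1 : (QuotientGroup.mk' (H.subgroupOf K)) o = (QuotientGroup.mk' (H.subgroupOf K)) ⟨b, hbK⟩ := by
        rw [hoe, map_mul]
        have : (QuotientGroup.mk' (H.subgroupOf K)) (⟨k, hHK hk⟩ : K) = 1 :=
          (QuotientGroup.eq_one_iff _).mpr (Subgroup.mem_subgroupOf.mpr hk)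
        rw [this, one_mul]
      have hb2 : (⟨b, hbK⟩ : K) ^ 2 ^ k₀ = 1 := by
        apply Subtype.ext
        show b ^ 2 ^ k₀ = 1
        rw [← hi, ← zpow_natCast, ← zpow_mul, mul_comm, zpow_mul, zpow_natCast, hk₀', one_zpow]
      have h2 : ((QuotientGroup.mk' (H.subgroupOf K)) o) ^ 2 ^ k₀ = 1 := by
        rw [h1, ← map_pow, hb2, map_one]
      have h3 : ((QuotientGroup.mk' (H.subgroupOf K)) o) ^ orderOf o = 1 := by
        rw [← map_pow, pow_orderOf_eq_one, map_one]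
      have hodd := odd_order_of_mem_core ho
      have hc : Nat.gcd (2 ^ k₀) (orderOf o) = 1 := Nat.Coprime.pow_left _ (Nat.coprime_two_left.mpr hodd)
      have h4 : orderOf ((QuotientGroup.mk' (H.subgroupOf K)) o) ∣ 1 := by
        rw [← hc]
        exact Nat.dvd_gcd (orderOf_dvd_of_pow_eq_one h2) (orderOf_dvd_of_pow_eq_one h3)
      have h5 := orderOf_eq_one_iff.mp (Nat.dvd_one.mp h4)
      exact Subgroup.mem_subgroupOf.mp ((QuotientGroup.eq_one_iff _).mp h5)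
    let D : Subgroup H := ((oddCore K).map K.subtype).subgroupOf H
    have hDn : D.Normal := by
      refine ⟨?_⟩
      intro x hx u
      rw [Subgroup.mem_subgroupOf] at hx ⊢
      obtain ⟨o, ho, hoe⟩ := hx
      refine ⟨(⟨u, hHK u.2⟩ : K) * o * (⟨u, hHK u.2⟩ : K)⁻¹, hOn.conj_mem _ ho _, ?_⟩
      simp only [Subgroup.coe_subtype, Subgroup.coe_mul, Subgroup.coe_inv] at hoe ⊢
      rw [hoe]
    have hDodd : Odd (Nat.card D) := by
      rw [← Nat.not_even_iff_odd, even_iff_two_dvd]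
      intro hd
      obtain ⟨x, hx⟩ := exists_prime_orderOf_dvd_card' 2 hd
      obtain ⟨o, ho, hoe⟩ := Subgroup.mem_subgroupOf.mp x.2
      have h1 := odd_order_of_mem_core ho
      have h2 : orderOf o = orderOf (x : H) := by
        rw [← Subgroup.orderOf_coe o, ← Subgroup.orderOf_coe (x : H)]
        congr 1
      rw [h2, Subgroup.orderOf_coe, hx] at h1
      exact absurd h1 (by decide)
    have hDb : D ≤ oddCore H := le_core_of_odd hDn hDodd
    rw [hO] at hDb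
    rw [eq_bot_iff]
    intro o ho
    have h1 : (⟨o, hOH o ho⟩ : H) ∈ D := Subgroup.mem_subgroupOf.mpr ⟨o, ho, rfl⟩
    have h2 := hDb h1
    rw [Subgroup.mem_bot] at h2
    rw [Subgroup.mem_bot]
    apply Subtype.ext
    show (o : G) = 1
    exact congrArg Subtype.val h2
  rw [hcore, Subgroup.mem_bot] at hstar
  have h1 : a * h * a⁻¹ * h⁻¹ = 1 := congrArg Subtype.val hstar
  have h2 : a * h * a⁻¹ = h := mul_inv_eq_one.mp h1
  calc h * a = (a * h * a⁻¹) * a := by rw [h2]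
    _ = a * h := by group

end Cfsg.Agent.Lib.H9ZX
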