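import Cfsg.Agent.Lib.WittSkel

set_option autoImplicit false

namespace Cfsg.Agent.Lib.HermBasic

variable {F : Type*} [Field F]

/-- Trace is surjective. -/
theorem trace_surj (σ : F →+* F) (hσ : σ ≠ RingHom.id F) (hσ2 : ∀ a : F, σ (σ a) = a) (κ : F) (hκ : σ κ = κ) :
    ∃ a : F, a + σ a = κ := by
  obtain ⟨a0, ha0⟩ : ∃ a : F, a + σ a ≠ 0 := by
    by_contra hcon
    push Not at hcon
    have h1 : (1 : F) + 1 = 0 := by simpa using hcon 1
    apply hσ
    ext a
    have h2 := hcon a
    show σ a = a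
    have h3 : (2 : F) * a = 0 := by
      have : (2 : F) = 1 + 1 := by norm_num
      rw [this, h1, zero_mul]
    linear_combination h2 - h3
  refine ⟨κ * (a0 + σ a0)⁻¹ * a0, ?_⟩
  rw [map_mul, map_mul, map_inv₀, map_add, hσ2, hκ]
  have : σ a0 + a0 = a0 + σ a0 := add_comm _ _
  rw [this]
  field_simp

/-- Hilbert 90, multiplicative. -/
theorem hilbert90 (σ : F →+* F) (hσ : σ ≠ RingHom.id F) (hσ2 : ∀ a : F, σ (σ a) = a) (a : F) (ha : a * σ a = 1) :
    ∃ b : F, b ≠ 0 ∧ a * σ b = b := by
  by_cases h1 : 1 + a = 0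
  · have : a = -1 := by linear_combination h1
    subst this
    obtain ⟨c, hc⟩ : ∃ c : F, σ c ≠ c := by
      by_contra hcon
      push Not at hcon
      exact hσ (RingHom.ext hcon)
    refine ⟨c - σ c, sub_ne_zero.mpr (Ne.symm hc), ?_⟩
    rw [map_sub, hσ2]
    ring
  · refine ⟨1 + a, h1, ?_⟩
    rw [map_add, map_one]
    linear_combination ha

variable [Finite F]

/-- Norm is surjective onto the fixed field. -/
theorem norm_surj (σ : F →+* F) (hσ : σ ≠ RingHom.id F) (hσ2 : ∀ a : F, σ (σ a) = a) (μ : F) (hμ : σ μ = μ) (hμ0 : μ ≠ 0) :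
    ∃ a : F, a ≠ 0 ∧ a * σ a = μ := by
  classical
  let s : Fˣ →* Fˣ := Units.map (σ : F →* F)
  have hs : ∀ u : Fˣ, ((s u : Fˣ) : F) = σ u := fun u => rfl
  let N : Fˣ →* Fˣ := MonoidHom.id Fˣ * s
  let H : Fˣ →* Fˣ := MonoidHom.id Fˣ * s⁻¹
  have hN : ∀ u : Fˣ, ((N u : Fˣ) : F) = u * σ u := fun u => rfl
  have hH : ∀ u : Fˣ, ((H u : Fˣ) : F) = u * (σ u)⁻¹ := fun u => by
    show ((u * (s u)⁻¹ : Fˣ) : F) = _
    rw [Units.val_mul, Units.val_inv_eq_inv_val]
    rfl
  have hker : N.ker = H.range := by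
    ext u
    rw [MonoidHom.mem_ker, MonoidHom.mem_range]
    constructor
    · intro hu
      have hu' : (u : F) * σ u = 1 := by
        rw [← hN, hu]; rfl
      obtain ⟨b, hb0, hb⟩ := hilbert90 σ hσ hσ2 u hu'
      refine ⟨Units.mk0 b hb0, ?_⟩
      apply Units.ext
      rw [hH]
      show b * (σ b)⁻¹ = u
      have hσb : σ b ≠ 0 := by simpa using hb0
      field_simp
      linear_combination -hb
    · rintro ⟨b, rfl⟩
      apply Units.ext
      rw [hN, hH, Units.val_one]
      have hb0 : (b : F) ≠ 0 := b.ne_zero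
      have hσb : σ b ≠ 0 := by simpa using hb0
      rw [map_mul, map_inv₀, hσ2]
      field_simp
  have hle : N.range ≤ H.ker := by
    rintro _ ⟨u, rfl⟩
    rw [MonoidHom.mem_ker]
    apply Units.ext
    rw [hH, hN, Units.val_one]
    have hb0 : (u : F) ≠ 0 := u.ne_zero
    have hσb : σ u ≠ 0 := by simpa using hb0
    rw [map_mul, hσ2]
    field_simp
  have hcard1 : Nat.card N.ker * Nat.card N.range = Nat.card Fˣ := by
    rw [← Subgroup.index_ker]
    exact Subgroup.card_mul_index _
  have hcard2 : Nat.card H.ker * Nat.card H.range = Nat.card Fˣ := by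
    rw [← Subgroup.index_ker]
    exact Subgroup.card_mul_index _
  have hcard3 : Nat.card N.range = Nat.card H.ker := by
    rw [hker] at hcard1
    have hpos : 0 < Nat.card H.range := Nat.card_pos
    apply Nat.eq_of_mul_eq_mul_left hpos
    rw [hcard1, ← hcard2, mul_comm]
  have heq : N.range = H.ker := Subgroup.eq_of_le_of_card_ge hle hcard3.ge
  have hμH : Units.mk0 μ hμ0 ∈ H.ker := by
    rw [MonoidHom.mem_ker]
    apply Units.ext
    rw [hH, Units.val_one]
    show μ * (σ μ)⁻¹ = 1
    rw [hμ, mul_inv_cancel₀ hμ0]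
  rw [← heq] at hμH
  obtain ⟨u, hu⟩ := hμH
  refine ⟨u, u.ne_zero, ?_⟩
  have := congrArg Units.val hu
  exact this

/-! ### Sesquilinear forms -/

variable {V : Type*} [AddCommGroup V] [Module F V]

variable (σ : F →+* F) (B : V →ₛₗ[σ] V →ₗ[F] F)

/-- The general isometry `z ↦ z + c B(w,z) u + (d B(u,z) + e B(w,z)) w`. -/
def Eh (w u : V) (c d e : F) : V →ₗ[F] V :=
  LinearMap.id + (c • B w).smulRight u + (d • B u + e • B w).smulRight w

theorem Eh_apply (w u : V) (c d e : F) (z : V) :
    Eh σ B w u c d e z = z + (c * B w z) • u + (d * B u z + e * B w z) • w := rfl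

theorem Eh_isom (hS : B.IsSymm) (w u : V) (c d e : F)
    (C1 : c + σ d + σ d * B w u * c + σ d * B w w * e = 0)
    (C2 : d + σ c + σ c * B u w * d + σ e * B w w * d = 0)
    (C3 : e + σ c * B u u * c + σ c * B u w * e + σ e + σ e * B w u * c + σ e * B w w * e = 0)
    (C4 : σ d * B w w * d = 0) (z z' : V) :
    B (Eh σ B w u c d e z) (Eh σ B w u c d e z') = B z z' := by
  have h1 : ∀ t, B t w = σ (B w t) := fun t => (hS.eq w t).symm
  have h2 : ∀ t, B t u = σ (B u t) := fun t => (hS.eq u t).symm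
  simp only [Eh_apply, map_add, LinearMap.add_apply, map_smulₛₗ, LinearMap.smul_apply, map_smul, smul_eq_mul, map_mul]
  rw [h1 z, h2 z]
  set s := B w z
  set r := B u z
  set s' := B w z'
  set r' := B u z'
  linear_combination σ r * s' * C1 + σ s * r' * C2 + σ s * s' * C3 + σ r * r' * C4

variable {σ B}

/-- An isometric linear endomorphism is a linear equivalence. -/
noncomputable def equivOfIsom [FiniteDimensional F V] (hN : B.Nondegenerate) (h : V →ₗ[F] V)
    (hQ : ∀ z z', B (h z) (h z') = B z z') : V ≃ₗ[F] V :=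
  LinearEquiv.ofInjectiveEndo h (by
    rw [injective_iff_map_eq_zero]
    intro z hz
    apply hN.1 z
    intro y
    rw [← hQ z y, hz]
    simp)

@[simp] theorem equivOfIsom_apply [FiniteDimensional F V] (hN : B.Nondegenerate) (h : V →ₗ[F] V)
    (hQ : ∀ z z', B (h z) (h z') = B z z') (z : V) : equivOfIsom hN h hQ z = h z := rfl

/-- Every functional is represented. -/
theorem exists_represent [FiniteDimensional F V] (hN : B.Nondegenerate) (g : Module.Dual F V) :
    ∃ u, ∀ v, B u v = g v := by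
  classical
  haveI : Finite V := Module.finite_of_finite F
  haveI : Finite (Module.Dual F V) := Module.finite_of_finite F
  let L : V → Module.Dual F V := fun u => B u
  have hL : Function.Bijective L := by
    rw [Nat.bijective_iff_injective_and_card]
    constructor
    · intro a b hab
      have h0 : a - b = 0 := by
        apply hN.1
        intro y
        have : B a y = B b y := by
          have := congrArg (fun t : Module.Dual F V => t y) hab
          exact this
        rw [map_sub, LinearMap.sub_apply, this, sub_self]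
      exact sub_eq_zero.mp h0
    · rw [Module.natCard_eq_pow_finrank (K := F) (V := V), Module.natCard_eq_pow_finrank (K := F) (V := Module.Dual F V), Subspace.dual_finrank_eq]
  obtain ⟨u, hu⟩ := hL.2 g
  exact ⟨u, fun v => by rw [← hu]⟩

theorem exists_perp [FiniteDimensional F V] (hN : B.Nondegenerate) (Z : Submodule F V) {a : V} (ha : a ∉ Z) :
    ∃ u, (∀ z ∈ Z, B u z = 0) ∧ B u a = 1 := by
  obtain ⟨g, hga, hgZ⟩ := Submodule.exists_dual_map_eq_bot_of_notMem (p := Z) ha inferInstance
  have hg : ∀ z ∈ Z, g z = 0 := by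
    intro z hz
    have : g z ∈ Z.map g := Submodule.mem_map_of_mem hz
    rw [hgZ] at this
    simpa using this
  obtain ⟨u, hu⟩ := exists_represent hN ((g a)⁻¹ • g)
  refine ⟨u, fun z hz => ?_, ?_⟩
  · rw [hu]; simp [hg z hz]
  · rw [hu]; simp [hga]

/-- The one-step lemma for Hermitian forms. -/
theorem step [FiniteDimensional F V] (hσ : σ ≠ RingHom.id F) (hσ2 : ∀ a : F, σ (σ a) = a) (hS : B.IsSymm) (hN : B.Nondegenerate)
    (X' : Submodule F V) (x y : V) (hx : x ∉ X') (hy : y ∉ X')
    (hxy : ∀ (a b : F) (u v : V), u ∈ X' → v ∈ X' → B (u + a • x) (v + b • x) = B (u + a • y) (v + b • y)) :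
    ∃ h : V ≃ₗ[F] V, (∀ u v, B (h u) (h v) = B u v) ∧ (∀ x' ∈ X', h x' = x') ∧ h x = y := by
  have hsymm : ∀ a b, σ (B a b) = B b a := fun a b => hS.eq a b
  have hself : ∀ a, σ (B a a) = B a a := fun a => hS.eq a a
  have hxx : B x x = B y y := by
    have := hxy 1 1 0 0 X'.zero_mem X'.zero_mem
    simpa using this
  have hux : ∀ u ∈ X', B u x = B u y := by
    intro u hu
    have := hxy 0 1 u 0 hu X'.zero_mem
    simpa using this
  have hxu : ∀ u ∈ X', B x u = B y u := by
    intro u hu
    rw [← hsymm u x, ← hsymm u y, hux u hu]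
  set w := x - y with hw
  have hwX : ∀ u ∈ X', B w u = 0 := by
    intro u hu
    rw [hw, map_sub, LinearMap.sub_apply, hxu u hu, sub_self]
  have hXw : ∀ u ∈ X', B u w = 0 := by
    intro u hu
    rw [← hsymm, hwX u hu, map_zero]
  set t := B w x with ht
  have hα : B w w = t + σ t := by
    rw [hsymm, ht, hw]
    simp only [map_sub, LinearMap.sub_apply]
    rw [← hxx]
    ring
  have hxw : x - w = y := by rw [hw]; abel
  by_cases ht0 : t ≠ 0
  · have hσt : σ t ≠ 0 := by simpa using ht0
    have hE : ∀ z z', B (Eh σ B w 0 0 0 (-t⁻¹) z) (Eh σ B w 0 0 0 (-t⁻¹) z') = B z z' := Eh_isom σ B hS w 0 0 0 _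
      (by simp) (by simp)
      (by
        simp only [map_zero, zero_mul, mul_zero, add_zero, zero_add, map_neg, map_inv₀]
        rw [hα]
        field_simp
        ring)
      (by simp)
    refine ⟨equivOfIsom hN _ hE, hE, ?_, ?_⟩
    · intro x' hx'
      simp [Eh_apply, hwX x' hx']
    · rw [equivOfIsom_apply, Eh_apply, ← ht]
      have : -t⁻¹ * t = -1 := by field_simp
      simp only [zero_mul, add_zero, zero_smul, zero_add, this, neg_smul, one_smul]
      rw [← sub_eq_add_neg, hxw]
  push Not at ht0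
  have hwwz : B w w = 0 := by rw [hα, ht0, map_zero, add_zero]
  -- case analysis according to whether `x ∈ X' + ⟨w⟩`
  by_cases hmem : x ∈ X' ⊔ Submodule.span F {w}
  · -- hyperbolic element
    obtain ⟨x', hx', s', hs', hxeq⟩ := Submodule.mem_sup.mp hmem
    obtain ⟨a, rfl⟩ := Submodule.mem_span_singleton.mp hs'
    have ha0 : a ≠ 0 := by
      rintro rfl
      apply hx
      rw [← hxeq]
      simpa using hx'
    have ha1 : a ≠ 1 := by
      rintro rfl
      apply hy
      have : y = x' := by
        rw [one_smul] at hxeq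
        rw [← hxw, ← hxeq]
        abel
      rw [this]; exact hx'
    have hwnot : w ∉ X' := by
      intro hwm
      apply hx
      rw [← hxeq]
      exact X'.add_mem hx' (X'.smul_mem _ hwm)
    obtain ⟨u0, hu0X, hu0w⟩ := exists_perp hN X' hwnot
    -- make `u` isotropic
    obtain ⟨c0, hc0⟩ := trace_surj σ hσ hσ2 (- B u0 u0) (by rw [map_neg, hself])
    set u := u0 + c0 • w with hu
    have hwu0 : B w u0 = 1 := by rw [← hsymm, hu0w, map_one]
    have huX : ∀ z ∈ X', B u z = 0 := by
      intro z hz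
      simp [hu, hu0X z hz, hwX z hz]
    have huw : B u w = 1 := by
      simp [hu, hu0w, hwwz]
    have hwu : B w u = 1 := by
      simp [hu, hwu0, hwwz]
    have huu : B u u = 0 := by
      simp only [hu, map_add, LinearMap.add_apply, map_smulₛₗ, LinearMap.smul_apply, map_smul, smul_eq_mul, hu0w, hwu0, hwwz]
      linear_combination hc0 + (σ c0) * 0
    -- the element
    set b := (a - 1) / a with hb
    have hb0 : b ≠ 0 := div_ne_zero (sub_ne_zero.mpr ha1) ha0
    have hσb : σ b ≠ 0 := by simpa using hb0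
    have hE : ∀ z z', B (Eh σ B w u ((σ b)⁻¹ - 1) (b - 1) 0 z) (Eh σ B w u ((σ b)⁻¹ - 1) (b - 1) 0 z') = B z z' :=
      Eh_isom σ B hS w u _ _ 0
      (by
        rw [hwu, hwwz]
        simp only [map_sub, map_one]
        field_simp
        ring)
      (by
        rw [huw, hwwz]
        simp only [map_sub, map_one, map_inv₀, hσ2]
        field_simp
        ring)
      (by simp [huu, hwwz])
      (by simp [hwwz])
    refine ⟨equivOfIsom hN _ hE, hE, ?_, ?_⟩
    · intro x' hx'
      simp [Eh_apply, hwX x' hx', huX x' hx']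
    · rw [equivOfIsom_apply, Eh_apply, ← ht, ht0]
      have h1 : B u x = a := by
        rw [← hxeq, map_add, huX x' hx', map_smul, huw]
        simp
      rw [h1]
      have h2 : (b - 1) * a = -1 := by
        rw [hb]; field_simp; ring
      simp only [mul_zero, zero_smul, add_zero]
      rw [h2, neg_smul, one_smul, ← sub_eq_add_neg, hxw]
  · -- Siegel element
    obtain ⟨u0, hu0X, hu0x⟩ := exists_perp hN _ hmem
    have huX : ∀ z ∈ X', B u0 z = 0 := fun z hz => hu0X z (Submodule.mem_sup_left hz)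
    have huw : B u0 w = 0 := hu0X w (Submodule.mem_sup_right (Submodule.mem_span_singleton_self _))
    have hwu : B w u0 = 0 := by rw [← hsymm, huw, map_zero]
    obtain ⟨e0, he0⟩ := trace_surj σ hσ hσ2 (- B u0 u0) (by rw [map_neg, hself])
    have hE : ∀ z z', B (Eh σ B w u0 1 (-1) e0 z) (Eh σ B w u0 1 (-1) e0 z') = B z z' :=
      Eh_isom σ B hS w u0 _ _ _
      (by rw [hwu, hwwz]; simp)
      (by rw [huw, hwwz]; simp)
      (by
        rw [huw, hwu, hwwz]
        simp only [map_one, one_mul, mul_one, mul_zero, zero_mul, add_zero]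
        linear_combination he0)
      (by simp [hwwz])
    refine ⟨equivOfIsom hN _ hE, hE, ?_, ?_⟩
    · intro x' hx'
      simp [Eh_apply, hwX x' hx', huX x' hx']
    · rw [equivOfIsom_apply, Eh_apply, ← ht, ht0, hu0x]
      simp only [mul_zero, zero_smul, add_zero]
      rw [show (-1 : F) * 1 = -1 by ring, neg_smul, one_smul, ← sub_eq_add_neg, hxw]

/-- Witt's Lemma for Hermitian forms. -/
theorem witt_herm [FiniteDimensional F V] (hσ : σ ≠ RingHom.id F) (hσ2 : ∀ a : F, σ (σ a) = a) (hS : B.IsSymm) (hN : B.Nondegenerate)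
    (X : Submodule F V) (φ : X →ₗ[F] V) (hinj : Function.Injective φ) (hφ : ∀ x x' : X, B (φ x) (φ x') = B x x') :
    ∃ g : V ≃ₗ[F] V, (∀ u v, B (g u) (g v) = B u v) ∧ ∀ x : X, g x = φ x :=
  Cfsg.Agent.Lib.WittSkel.witt_skeleton (fun u v => B u v)
    (fun X' x y hx hy h => step hσ hσ2 hS hN X' x y hx hy h) X φ hinj hφ

end Cfsg.Agent.Lib.HermBasic
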