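import Cfsg.Agent.Lib.HermStd
import Cfsg.Agent.S0754

set_option autoImplicit false

namespace Cfsg.Agent.Lib.HermCount

open Cfsg.Agent.Lib.HermStd

variable {F : Type*} [Field F] [Fintype F] {q : ℕ}

/-- Number of vectors of given norm. -/
noncomputable def a (F : Type*) [Field F] (q n : ℕ) (c : F) : ℕ := Nat.card {v : Fin n → F // Cfsg.hermForm n F q v v = c}

theorem herm_succ {n : ℕ} (v : Fin (n + 1) → F) :
    Cfsg.hermForm (n + 1) F q v v = v 0 ^ (q + 1) + Cfsg.hermForm n F q (Fin.tail v) (Fin.tail v) := by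
  unfold Cfsg.hermForm
  rw [Fin.sum_univ_succ, pow_succ']
  rfl

theorem a_succ (n : ℕ) (c : F) : a F q (n + 1) c = ∑ x : F, a F q n (c - x ^ (q + 1)) := by
  classical
  unfold a
  rw [← Nat.card_sigma]
  apply Nat.card_congr
  exact
    { toFun := fun v => ⟨v.1 0, ⟨Fin.tail v.1, by
        have := v.2
        rw [herm_succ] at this
        linear_combination this⟩⟩
      invFun := fun s => ⟨Fin.cons s.1 s.2.1, by
        rw [herm_succ]
        simp only [Fin.cons_zero, Fin.tail_cons]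
        rw [s.2.2]
        ring⟩
      left_inv := fun v => Subtype.ext (Fin.cons_self_tail v.1)
      right_inv := fun s => by
        rcases s with ⟨x, ⟨w, hw⟩⟩
        rfl }

/-- The nonzero elements of the fixed field. -/
noncomputable def K' (F : Type*) [Field F] [Fintype F] (q : ℕ) : Finset F :=
  by classical exact Finset.univ.filter (fun μ : F => μ ≠ 0 ∧ μ ^ q = μ)

theorem mem_K' {μ : F} : μ ∈ K' F q ↔ μ ≠ 0 ∧ μ ^ q = μ := by
  unfold K'
  simp

theorem norm_mem (hF : Fintype.card F = q ^ 2) {x : F} (hx : x ≠ 0) : x ^ (q + 1) ∈ K' F q := by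
  rw [mem_K']
  refine ⟨pow_ne_zero _ hx, ?_⟩
  rw [← pow_mul, add_mul, one_mul, ← sq, ← hF, pow_add, FiniteField.pow_card, pow_succ' x q]

/-- Summation over `F` of a function of the norm. -/
theorem sum_norm (hF : Fintype.card F = q ^ 2) (φ : F → ℕ) :
    ∑ x : F, φ (x ^ (q + 1)) = φ 0 + (q + 1) * ∑ μ ∈ K' F q, φ μ := by
  classical
  rw [← Finset.add_sum_erase Finset.univ _ (Finset.mem_univ (0 : F))]
  congr 1
  · rw [zero_pow (by omega)]
  · rw [← Finset.sum_fiberwise_of_maps_to (s := Finset.univ.erase (0 : F)) (t := K' F q) (g := fun x => x ^ (q + 1))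
      (fun x hx => norm_mem hF (Finset.ne_of_mem_erase hx)), Finset.mul_sum]
    refine Finset.sum_congr rfl fun μ hμ => ?_
    rw [mem_K'] at hμ
    have h1 : (Finset.filter (fun x : F => x ^ (q + 1) = μ) (Finset.univ.erase 0)).card = q + 1 := by
      have h2 := Cfsg.Agent.S0754.result hF μ hμ.1 hμ.2
      have h3 : (Finset.univ.filter (fun x : F => x ^ (q + 1) = μ)).card = q + 1 := by
        rw [← Fintype.card_subtype, ← Nat.card_eq_fintype_card]
        exact h2
      have h4 : Finset.filter (fun x : F => x ^ (q + 1) = μ) (Finset.univ.erase 0) = Finset.univ.filter (fun x : F => x ^ (q + 1) = μ) := by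
        ext x
        simp only [Finset.mem_filter, Finset.mem_erase, Finset.mem_univ, and_true, true_and]
        constructor
        · exact fun h => h.2
        · intro h
          refine ⟨?_, h⟩
          rintro rfl
          rw [zero_pow (by omega)] at h
          exact hμ.1 h.symm
      rw [h4, h3]
    rw [Finset.sum_congr rfl (g := fun _ => φ μ) (fun x hx => by rw [(Finset.mem_filter.mp hx).2]), Finset.sum_const, smul_eq_mul, h1]

theorem card_K' (hF : Fintype.card F = q ^ 2) : (K' F q).card + 1 = q := by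
  have h := sum_norm hF (fun _ => 1)
  simp only [Finset.sum_const, Finset.card_univ, smul_eq_mul, mul_one, hF] at h
  have hq := one_lt_q hF
  -- q^2 = 1 + (q+1) c
  have h2 : (q + 1) * ((K' F q).card + 1) = (q + 1) * q := by
    nlinarith
  exact Nat.eq_of_mul_eq_mul_left (by omega) h2

/-- Scaling. -/
theorem a_scale (hF : Fintype.card F = q ^ 2) (n : ℕ) {c : F} (hc : c ∈ K' F q) : a F q n c = a F q n 1 := by
  classical
  rw [mem_K'] at hc
  -- a preimage under the norm
  have h2 := Cfsg.Agent.S0754.result hF c hc.1 hc.2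
  have hpos : 0 < Nat.card {x : F // x ^ (q + 1) = c} := by omega
  obtain ⟨⟨l, hl⟩⟩ := (Nat.card_pos_iff.mp hpos).1
  have hl0 : l ≠ 0 := by
    rintro rfl
    rw [zero_pow (by omega)] at hl
    exact hc.1 hl.symm
  unfold a
  symm
  apply Nat.card_congr
  have hsmul : ∀ (t : F) (v : Fin n → F), Cfsg.hermForm n F q (t • v) (t • v) = t ^ (q + 1) * Cfsg.hermForm n F q v v := by
    intro t v
    unfold Cfsg.hermForm
    rw [Finset.mul_sum]
    refine Finset.sum_congr rfl fun i _ => ?_
    simp only [Pi.smul_apply, smul_eq_mul]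
    ring
  exact
    { toFun := fun v => ⟨l • v.1, by rw [hsmul, v.2, hl, mul_one]⟩
      invFun := fun v => ⟨l⁻¹ • v.1, by
        rw [hsmul, v.2, inv_pow, hl, inv_mul_cancel₀ hc.1]⟩
      left_inv := fun v => Subtype.ext (by simp [smul_smul, inv_mul_cancel₀ hl0])
      right_inv := fun v => Subtype.ext (by simp [smul_smul, mul_inv_cancel₀ hl0]) }

theorem neg_mem_K' (hF : Fintype.card F = q ^ 2) {μ : F} (hμ : μ ∈ K' F q) : -μ ∈ K' F q := by
  rw [mem_K'] at hμ ⊢
  refine ⟨neg_ne_zero.mpr hμ.1, ?_⟩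
  have := map_neg (sig hF) μ
  rw [sig_apply, sig_apply, hμ.2] at this
  exact this

theorem one_mem_K' (hF : Fintype.card F = q ^ 2) : (1 : F) ∈ K' F q := by
  rw [mem_K']
  exact ⟨one_ne_zero, one_pow _⟩

theorem one_sub_mem_K' (hF : Fintype.card F = q ^ 2) {μ : F} (hμ : μ ∈ K' F q) (h1 : μ ≠ 1) : 1 - μ ∈ K' F q := by
  rw [mem_K'] at hμ ⊢
  refine ⟨sub_ne_zero.mpr (Ne.symm h1), ?_⟩
  have : sig hF (1 - μ) = sig hF 1 - sig hF μ := map_sub _ _ _
  rw [map_one, sig_apply, sig_apply, hμ.2] at this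
  exact this

/-- Recursion for the isotropic count. -/
theorem z_succ (hF : Fintype.card F = q ^ 2) (n : ℕ) :
    a F q (n + 1) (0 : F) = a F q n 0 + (q + 1) * ((K' F q).card * a F q n 1) := by
  rw [a_succ, sum_norm hF (fun μ => a F q n (0 - μ))]
  simp only [sub_zero, zero_sub]
  congr 2
  rw [Finset.sum_congr rfl (g := fun _ => a F q n 1) (fun μ hμ => a_scale hF n (neg_mem_K' hF hμ)), Finset.sum_const, smul_eq_mul]

/-- Recursion for the norm-one count. -/
theorem u_succ (hF : Fintype.card F = q ^ 2) (n : ℕ) :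
    a F q (n + 1) (1 : F) = a F q n 1 + (q + 1) * (a F q n 0 + ((K' F q).card - 1) * a F q n 1) := by
  classical
  rw [a_succ, sum_norm hF (fun μ => a F q n (1 - μ))]
  simp only [sub_zero]
  congr 2
  rw [← Finset.add_sum_erase _ _ (one_mem_K' hF), sub_self]
  congr 1
  rw [Finset.sum_congr rfl (g := fun _ => a F q n 1) (fun μ hμ => a_scale hF n (one_sub_mem_K' hF (Finset.mem_of_mem_erase hμ) (Finset.ne_of_mem_erase hμ))), Finset.sum_const, smul_eq_mul,
    Finset.card_erase_of_mem (one_mem_K' hF)]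

theorem a_zero_one : a F q 0 (1 : F) = 0 := by
  unfold a
  rw [Nat.card_eq_zero]
  left
  constructor
  rintro ⟨v, hv⟩
  simp [Cfsg.hermForm] at hv

theorem a_zero_zero : a F q 0 (0 : F) = 1 := by
  unfold a
  rw [Nat.card_eq_one_iff_unique]
  refine ⟨⟨fun x y => Subtype.ext (Subsingleton.elim _ _)⟩, ⟨⟨0, by simp [Cfsg.hermForm]⟩⟩⟩

/-- The integer closed forms. -/
theorem closed (hF : Fintype.card F = q ^ 2) (n : ℕ) :
    ((q : ℤ) * a F q n (1 : F) = (q : ℤ) ^ n * ((q : ℤ) ^ n - (-1) ^ n)) ∧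
    ((q : ℤ) * ((a F q n (0 : F) : ℤ) - 1) = ((q : ℤ) ^ n - (-1) ^ n) * ((q : ℤ) ^ n + (-1) ^ n * q)) := by
  have hc := card_K' hF
  have hq := one_lt_q hF
  have hc' : ((K' F q).card : ℤ) = q - 1 := by
    have : ((K' F q).card : ℤ) + 1 = q := by exact_mod_cast hc
    linarith
  have hc2 : (((K' F q).card - 1 : ℕ) : ℤ) = q - 2 := by
    by_cases h1 : (K' F q).card = 0
    · exfalso
      have := Finset.card_pos.mpr ⟨(1 : F), one_mem_K' hF⟩
      omega
    · push_cast [Nat.sub_add_cancel (Nat.one_le_iff_ne_zero.mpr h1), Nat.cast_sub (Nat.one_le_iff_ne_zero.mpr h1)]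
      rw [hc']
      ring
  induction n with
  | zero =>
    rw [a_zero_one, a_zero_zero]
    simp
  | succ n ih =>
    obtain ⟨ih1, ih2⟩ := ih
    have hz := z_succ (q := q) hF n
    have hu := u_succ (q := q) hF n
    have hz' : (a F q (n + 1) (0 : F) : ℤ) = a F q n 0 + (q + 1) * ((q - 1) * a F q n 1) := by
      rw [hz]; push_cast; rw [hc']
    have hu' : (a F q (n + 1) (1 : F) : ℤ) = a F q n 1 + (q + 1) * (a F q n 0 + (q - 2) * a F q n 1) := by
      rw [hu]; push_cast; rw [hc2]
    have hs2 : (-1 : ℤ) ^ n * (-1) ^ n = 1 := by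
      rw [← mul_pow]; simp
    have hAq : (q : ℤ) ^ (n + 1) = q * (q : ℤ) ^ n := by rw [pow_succ]; ring
    have hsq : (-1 : ℤ) ^ (n + 1) = -((-1) ^ n) := by rw [pow_succ]; ring
    rw [hAq, hsq, hz', hu']
    generalize (q : ℤ) ^ n = A at *
    generalize (-1 : ℤ) ^ n = s at *
    constructor
    · linear_combination ((q : ℤ) ^ 2 - q - 1) * ih1 + ((q : ℤ) + 1) * ih2 - (q + 1) * q * hs2
    · linear_combination ih2 + ((q : ℤ) ^ 2 - 1) * ih1

/-- Number of norm one vectors. -/
theorem card_norm_one (hF : Fintype.card F = q ^ 2) (n : ℕ) :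
    Nat.card {v : Fin n → F // Cfsg.hermForm n F q v v = 1} = (if Even n then q ^ (n - 1) * (q ^ n - 1) else q ^ (n - 1) * (q ^ n + 1)) := by
  have hq := one_lt_q hF
  have h := (closed hF n).1
  change ((q : ℤ) * Nat.card {v : Fin n → F // Cfsg.hermForm n F q v v = 1} = _) at h
  generalize Nat.card {v : Fin n → F // Cfsg.hermForm n F q v v = 1} = u at h ⊢
  rcases Nat.eq_zero_or_pos n with rfl | hn
  · simp at h
    simp
    omega
  obtain ⟨k, rfl⟩ : ∃ k, n = k + 1 := ⟨n - 1, by omega⟩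
  simp only [Nat.add_sub_cancel]
  have hqpos : (q : ℤ) ≠ 0 := by positivity
  have h2 : (u : ℤ) = (q : ℤ) ^ k * ((q : ℤ) ^ (k + 1) - (-1) ^ (k + 1)) := by
    apply mul_left_cancel₀ hqpos
    rw [h]
    ring
  split_ifs with heven
  · rw [heven.neg_one_pow] at h2
    have hle : 1 ≤ q ^ (k + 1) := Nat.one_le_pow _ _ (by omega)
    zify [hle]
    exact h2
  · rw [(Nat.not_even_iff_odd.mp heven).neg_one_pow] at h2
    zify
    linear_combination h2

/-- Number of isotropic vectors. -/
theorem card_isotropic (hF : Fintype.card F = q ^ 2) (n : ℕ) :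
    Nat.card {v : Fin n → F // Cfsg.hermForm n F q v v = 0} = (if Even n then (q ^ n - 1) * (q ^ (n - 1) + 1) else (q ^ n + 1) * (q ^ (n - 1) - 1)) + 1 := by
  have hq := one_lt_q hF
  have h := (closed hF n).2
  change ((q : ℤ) * ((Nat.card {v : Fin n → F // Cfsg.hermForm n F q v v = 0} : ℤ) - 1) = _) at h
  generalize Nat.card {v : Fin n → F // Cfsg.hermForm n F q v v = 0} = z at h ⊢
  rcases Nat.eq_zero_or_pos n with rfl | hn
  · simp at h
    have h2 : (z : ℤ) = 1 := by
      rcases h with h3 | h3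
      · omega
      · linarith
    simp
    exact_mod_cast h2
  obtain ⟨k, rfl⟩ : ∃ k, n = k + 1 := ⟨n - 1, by omega⟩
  simp only [Nat.add_sub_cancel]
  have hqpos : (q : ℤ) ≠ 0 := by positivity
  have h2 : (z : ℤ) - 1 = ((q : ℤ) ^ (k + 1) - (-1) ^ (k + 1)) * ((q : ℤ) ^ k + (-1) ^ (k + 1)) := by
    apply mul_left_cancel₀ hqpos
    rw [h]
    ring
  split_ifs with heven
  · rw [heven.neg_one_pow] at h2
    have hle : 1 ≤ q ^ (k + 1) := Nat.one_le_pow _ _ (by omega)
    zify [hle]
    linear_combination h2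
  · rw [(Nat.not_even_iff_odd.mp heven).neg_one_pow] at h2
    have hle : 1 ≤ q ^ k := Nat.one_le_pow _ _ (by omega)
    zify [hle]
    linear_combination h2

end Cfsg.Agent.Lib.HermCount
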