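import Cfsg.Agent.Lib.HermStd

set_option autoImplicit false

namespace Cfsg.Agent.Lib.HermForm

open Cfsg.Agent.Lib.HermStd

variable {F : Type*} [Field F] [Fintype F] {q : ℕ}

theorem hf_add_left {n : ℕ} (u w v : Fin n → F) :
    Cfsg.hermForm n F q (u + w) v = Cfsg.hermForm n F q u v + Cfsg.hermForm n F q w v := by
  simp only [Cfsg.hermForm, Pi.add_apply, add_mul, Finset.sum_add_distrib]

theorem hf_smul_left {n : ℕ} (c : F) (u v : Fin n → F) :
    Cfsg.hermForm n F q (c • u) v = c * Cfsg.hermForm n F q u v := by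
  simp only [Cfsg.hermForm, Pi.smul_apply, smul_eq_mul, Finset.mul_sum, mul_assoc]

theorem hf_add_right (hF : Fintype.card F = q ^ 2) {n : ℕ} (u v w : Fin n → F) :
    Cfsg.hermForm n F q u (v + w) = Cfsg.hermForm n F q u v + Cfsg.hermForm n F q u w := by
  simp only [Cfsg.hermForm, Pi.add_apply, ← sig_apply hF, map_add, mul_add, Finset.sum_add_distrib]

theorem hf_smul_right (hF : Fintype.card F = q ^ 2) {n : ℕ} (c : F) (u v : Fin n → F) :
    Cfsg.hermForm n F q u (c • v) = c ^ q * Cfsg.hermForm n F q u v := by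
  simp only [Cfsg.hermForm, Pi.smul_apply, smul_eq_mul, Finset.mul_sum, mul_pow]
  refine Finset.sum_congr rfl fun i _ => by ring

theorem hf_conj (hF : Fintype.card F = q ^ 2) {n : ℕ} (u v : Fin n → F) :
    Cfsg.hermForm n F q v u = (Cfsg.hermForm n F q u v) ^ q := by
  simp only [Cfsg.hermForm, ← sig_apply hF, map_sum, map_mul, sig_sig]
  refine Finset.sum_congr rfl fun i _ => by ring

theorem hf_sub_left {n : ℕ} (u w v : Fin n → F) :
    Cfsg.hermForm n F q (u - w) v = Cfsg.hermForm n F q u v - Cfsg.hermForm n F q w v := by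
  simp only [Cfsg.hermForm, Pi.sub_apply, sub_mul, Finset.sum_sub_distrib]

theorem hf_single_left {n : ℕ} (i : Fin n) (v : Fin n → F) :
    Cfsg.hermForm n F q (Pi.single i 1) v = (v i) ^ q := by
  classical
  simp [Cfsg.hermForm, Pi.single_apply]

theorem hf_single_right (hF : Fintype.card F = q ^ 2) {n : ℕ} (i : Fin n) (v : Fin n → F) :
    Cfsg.hermForm n F q v (Pi.single i 1) = v i := by
  classical
  rw [hf_conj hF, hf_single_left, ← sig_apply hF, ← sig_apply hF, sig_sig]

theorem hf_nondeg_left (hF : Fintype.card F = q ^ 2) {n : ℕ} {v : Fin n → F} (hv : v ≠ 0) :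
    ∃ x, Cfsg.hermForm n F q x v ≠ 0 := by
  obtain ⟨i, hi⟩ := Function.ne_iff.mp hv
  refine ⟨Pi.single i 1, ?_⟩
  rw [hf_single_left]
  have : q ≠ 0 := by have := one_lt_q hF; omega
  exact pow_ne_zero _ hi

theorem hf_nondeg_right (hF : Fintype.card F = q ^ 2) {n : ℕ} {v : Fin n → F} (hv : v ≠ 0) :
    ∃ x, Cfsg.hermForm n F q v x ≠ 0 := by
  obtain ⟨i, hi⟩ := Function.ne_iff.mp hv
  refine ⟨Pi.single i 1, ?_⟩
  rw [hf_single_right hF]
  exact hi

end Cfsg.Agent.Lib.HermForm
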