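import Cfsg.Agent.Lib.HermBasic
import Cfsg.Prelude.Def_Classical

set_option autoImplicit false

namespace Cfsg.Agent.Lib.HermStd

variable {F : Type*} [Field F] [Fintype F] {q : ℕ}

/-- `q` is a power of the characteristic. -/
theorem exists_prime_pow (hF : Fintype.card F = q ^ 2) : ∃ p m : ℕ, p.Prime ∧ CharP F p ∧ q = p ^ m := by
  obtain ⟨p, hp⟩ := CharP.exists F
  obtain ⟨n, hpp, hn⟩ := FiniteField.card F p
  haveI : Fact p.Prime := ⟨hpp⟩
  have hq : q ∣ p ^ (n : ℕ) := by
    rw [← hn, hF]
    exact Dvd.intro_left (q ^ 1) (by ring)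
  obtain ⟨m, -, hm⟩ := (Nat.dvd_prime_pow hpp).mp hq
  exact ⟨p, m, hpp, hp, hm⟩

/-- The Frobenius `x ↦ x^q` as a ring homomorphism. -/
noncomputable def sig (hF : Fintype.card F = q ^ 2) : F →+* F where
  toFun x := x ^ q
  map_one' := one_pow _
  map_mul' x y := mul_pow x y q
  map_zero' := by
    have : q ≠ 0 := by
      rintro rfl
      have := Fintype.one_lt_card (α := F)
      rw [hF] at this
      simp at this
    exact zero_pow this
  map_add' x y := by
    obtain ⟨p, m, hpp, hc, hq⟩ := exists_prime_pow hF
    haveI : Fact p.Prime := ⟨hpp⟩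
    haveI := hc
    rw [hq]
    exact add_pow_char_pow x y p m

theorem sig_apply (hF : Fintype.card F = q ^ 2) (x : F) : sig hF x = x ^ q := rfl

theorem sig_sig (hF : Fintype.card F = q ^ 2) (x : F) : sig hF (sig hF x) = x := by
  rw [sig_apply, sig_apply, ← pow_mul, ← sq, ← hF, FiniteField.pow_card]

theorem one_lt_q (hF : Fintype.card F = q ^ 2) : 1 < q := by
  have := Fintype.one_lt_card (α := F)
  rw [hF] at this
  rcases q with _ | _ | q
  · simp at this
  · simp at this
  · omega

theorem sig_ne (hF : Fintype.card F = q ^ 2) : sig hF ≠ RingHom.id F := by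
  intro h
  -- every element satisfies `x^q = x`
  classical
  have hall : ∀ x : F, x ^ q = x := by
    intro x
    have := congrArg (fun f : F →+* F => f x) h
    simpa [sig_apply] using this
  have hq1 := one_lt_q hF
  -- the polynomial `X^q - X` would have `q^2` roots
  let P : Polynomial F := Polynomial.X ^ q - Polynomial.X
  have hP : P ≠ 0 := FiniteField.X_pow_card_sub_X_ne_zero F hq1
  have hdeg : P.natDegree = q := FiniteField.X_pow_card_sub_X_natDegree_eq F hq1
  have hroots : (Finset.univ : Finset F).card ≤ P.natDegree := by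
    have h1 : (Finset.univ : Finset F) ⊆ P.roots.toFinset := by
      intro x _
      rw [Multiset.mem_toFinset, Polynomial.mem_roots hP]
      simp [P, Polynomial.IsRoot, hall]
    calc (Finset.univ : Finset F).card ≤ P.roots.toFinset.card := Finset.card_le_card h1
      _ ≤ Multiset.card P.roots := Multiset.toFinset_card_le _
      _ ≤ P.natDegree := Polynomial.card_roots' P
  rw [Finset.card_univ, hF, hdeg] at hroots
  have : q ^ 2 = q * q := sq q
  nlinarith

/-- The form `hermForm` expressed with the Frobenius. -/
theorem hermForm_self_eq (hF : Fintype.card F = q ^ 2) {n : ℕ} (v : Fin n → F) :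
    Cfsg.hermForm n F q v v = ∑ i, v i * sig hF (v i) := by
  unfold Cfsg.hermForm
  refine Finset.sum_congr rfl fun i _ => ?_
  rw [sig_apply]

end Cfsg.Agent.Lib.HermStd
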