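import Mathlib

/-! A homomorphism from `A₅` to `SL₂` mod `±1` through the icosians. -/

set_option autoImplicit false

namespace Cfsg.Agent.Lib.Icos

/-- The ring `ℤ[φ]`, `φ² = φ + 1`, in coordinates. -/
abbrev ZP := ℤ × ℤ

def amul (p q : ZP) : ZP := (p.1 * q.1 + p.2 * q.2, p.1 * q.2 + p.2 * q.1 + p.2 * q.2)

/-- Quaternions over `ℤ[φ]`. -/
abbrev QP := ZP × ZP × ZP × ZP

def qmul (t u : QP) : QP :=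
  (amul t.1 u.1 - amul t.2.1 u.2.1 - amul t.2.2.1 u.2.2.1 - amul t.2.2.2 u.2.2.2,
   amul t.1 u.2.1 + amul t.2.1 u.1 + amul t.2.2.1 u.2.2.2 - amul t.2.2.2 u.2.2.1,
   amul t.1 u.2.2.1 - amul t.2.1 u.2.2.2 + amul t.2.2.1 u.1 + amul t.2.2.2 u.2.1,
   amul t.1 u.2.2.2 + amul t.2.1 u.2.2.1 - amul t.2.2.1 u.2.1 + amul t.2.2.2 u.1)

/-- The norm. -/
def qnorm (t : QP) : ZP :=
  amul t.1 t.1 + amul t.2.1 t.2.1 + amul t.2.2.1 t.2.2.1 + amul t.2.2.2 t.2.2.2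

def tabL : List (ℕ × QP) := [
  (38,(0,0),(0,1),(-1,0),(-1,1)),
  (44,(-1,1),(0,0),(-1,0),(0,1)),
  (47,(-1,1),(0,-1),(0,0),(1,0)),
  (59,(1,0),(1,0),(1,0),(-1,0)),
  (66,(1,0),(1,-1),(0,0),(0,-1)),
  (73,(0,0),(0,1),(1,0),(-1,1)),
  (82,(-1,0),(-1,0),(1,0),(1,0)),
  (89,(0,-1),(-1,0),(0,0),(1,-1)),
  (96,(1,-1),(0,0),(-1,0),(0,-1)),
  (108,(0,0),(0,0),(-2,0),(0,0)),
  (111,(0,-1),(-1,1),(-1,0),(0,0)),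
  (117,(0,-1),(-1,1),(1,0),(0,0)),
  (139,(0,-1),(0,0),(-1,1),(1,0)),
  (142,(0,0),(-1,1),(0,1),(1,0)),
  (148,(0,-1),(1,-1),(-1,0),(0,0)),
  (178,(1,0),(-1,1),(0,0),(0,1)),
  (194,(0,0),(1,0),(1,-1),(0,-1)),
  (195,(1,0),(0,1),(1,-1),(0,0)),
  (204,(0,-1),(1,0),(0,0),(1,-1)),
  (210,(1,0),(0,0),(0,-1),(-1,1)),
  (222,(-1,1),(-1,0),(0,1),(0,0)),
  (227,(-1,1),(0,-1),(0,0),(-1,0)),
  (238,(-1,1),(0,0),(1,0),(0,-1)),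
  (240,(0,0),(0,1),(1,0),(1,-1)),
  (258,(1,0),(-1,0),(1,0),(1,0)),
  (269,(-1,1),(1,0),(0,-1),(0,0)),
  (271,(0,1),(0,0),(1,-1),(1,0)),
  (279,(1,-1),(1,0),(0,1),(0,0)),
  (290,(1,0),(0,0),(0,1),(1,-1)),
  (298,(0,-1),(1,0),(0,0),(-1,1)),
  (326,(0,0),(-1,0),(1,-1),(0,1)),
  (334,(0,0),(2,0),(0,0),(0,0)),
  (345,(0,0),(-1,0),(-1,1),(0,-1)),
  (353,(-1,1),(0,0),(-1,0),(0,-1)),
  (355,(-1,0),(-1,0),(-1,0),(-1,0)),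
  (366,(0,-1),(-1,0),(0,0),(-1,1)),
  (384,(-1,0),(1,0),(-1,0),(1,0)),
  (386,(1,0),(0,-1),(1,-1),(0,0)),
  (397,(0,0),(1,-1),(0,-1),(1,0)),
  (402,(-1,0),(0,-1),(1,-1),(0,0)),
  (414,(0,0),(1,0),(-1,1),(0,1)),
  (420,(1,0),(-1,1),(0,0),(0,-1)),
  (429,(1,0),(0,0),(0,1),(-1,1)),
  (430,(2,0),(0,0),(0,0),(0,0)),
  (446,(-1,0),(0,0),(0,1),(-1,1)),
  (476,(0,0),(0,1),(-1,0),(1,-1)),
  (482,(-1,0),(-1,0),(1,0),(-1,0)),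
  (485,(-1,0),(-1,1),(0,0),(0,-1)),
  (507,(0,0),(0,0),(0,0),(2,0)),
  (513,(1,-1),(0,-1),(0,0),(1,0)),
  (516,(-1,1),(0,1),(0,0),(1,0)),
  (528,(0,-1),(1,-1),(1,0),(0,0)),
  (535,(0,0),(-1,1),(0,-1),(-1,0)),
  (542,(0,-1),(0,0),(1,-1),(-1,0)),
  (551,(0,0),(1,-1),(0,1),(-1,0)),
  (558,(-1,0),(1,0),(1,0),(-1,0)),
  (565,(1,0),(0,-1),(-1,1),(0,0)),
  (577,(0,1),(0,0),(-1,1),(-1,0)),
  (580,(1,0),(-1,0),(-1,0),(-1,0)),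
  (586,(-1,1),(1,0),(0,1),(0,0))
]

def key (x : Equiv.Perm (Fin 5)) : ℕ :=
  (x 0 : ℕ) + 5 * (x 1 : ℕ) + 25 * (x 2 : ℕ) + 125 * (x 3 : ℕ)

def tab (x : Equiv.Perm (Fin 5)) : QP := (tabL.lookup (key x)).getD 0

theorem tab_mul : ∀ x y : alternatingGroup (Fin 5),
    qmul (tab x) (tab y) = (2 : ℤ) • tab (x * y : alternatingGroup (Fin 5)) ∨
    qmul (tab x) (tab y) = (-2 : ℤ) • tab (x * y : alternatingGroup (Fin 5)) := by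
  decide +kernel

theorem tab_norm : ∀ x : alternatingGroup (Fin 5), qnorm (tab x) = (4, 0) := by
  decide +kernel

end Cfsg.Agent.Lib.Icos
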