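import Mathlib

set_option autoImplicit false

/-! Irreducible modules for a cyclic group of prime order: the dimension is the order of `q` mod `p`. -/

namespace Cfsg.Agent.Lib.IrrCyclic

open Subgroup

/-- An automorphism `τ` of order `p` acting irreducibly on an elementary abelian `q`-group
`V` forces `|V| = q ^ e` where `e` is the order of `q` modulo `p`. -/
theorem card_irred {V : Type*} [CommGroup V] [Finite V] [Nontrivial V] {p q : ℕ} [hpf : Fact p.Prime]
    (hq : q.Prime) (hpq : q ≠ p)
    (τ : MulAut V) (hτp : τ ^ p = 1) (hτ : τ ≠ 1) (hexp : ∀ v : V, v ^ q = 1)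
    (hirr : ∀ B : Subgroup V, (∀ b ∈ B, τ b ∈ B) → B = ⊥ ∨ B = ⊤) :
    Nat.card V = q ^ orderOf (q : ZMod p) := by
  classical
  have hp : p.Prime := hpf.out
  haveI : Fact q.Prime := ⟨hq⟩
  have hVq : IsPGroup q V := fun v => ⟨1, by simpa using hexp v⟩
  obtain ⟨m, hm⟩ := IsPGroup.iff_card.mp hVq
  have hm0 : m ≠ 0 := by
    rintro rfl
    have h1 : 1 < Nat.card V := Finite.one_lt_card_iff_nontrivial.mpr inferInstance
    rw [hm] at h1
    simp at h1
  set e := orderOf (q : ZMod p) with he
  have hqne : (q : ZMod p) ≠ 0 := by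
    intro h0
    rw [ZMod.natCast_eq_zero_iff] at h0
    exact hpq ((Nat.prime_dvd_prime_iff_eq hp hq).mp h0).symm
  have he0 : 0 < e := by
    have h1 : (q : ZMod p) ^ (p - 1) = 1 := ZMod.pow_card_sub_one_eq_one hqne
    have h2 := orderOf_dvd_of_pow_eq_one h1
    exact Nat.pos_of_dvd_of_pos h2 (Nat.sub_pos_of_lt hp.one_lt)
  -- fixed points
  have hfix : ∀ v, τ v = v → v = 1 := by
    set B : Subgroup V :=
      { carrier := {v | τ v = v}
        one_mem' := map_one τ
        mul_mem' := by
          intro a b ha hb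
          show τ (a * b) = a * b
          rw [map_mul, show τ a = a from ha, show τ b = b from hb]
        inv_mem' := by
          intro a ha
          show τ a⁻¹ = a⁻¹
          rw [map_inv, show τ a = a from ha] } with hB
    rcases hirr B (fun b hb => by
      show τ (τ b) = τ b
      rw [show τ b = b from hb, show τ b = b from hb]) with h | h
    · intro v hv
      have : v ∈ B := hv
      rw [h] at this
      exact this
    · exfalso
      apply hτ
      ext v
      have : v ∈ B := by rw [h]; trivial
      exact this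
  -- |V| ≡ 1 mod p
  have hmod : Nat.card V ≡ 1 [MOD p] := by
    have hzp : IsPGroup p (zpowers τ) := by
      intro g
      refine ⟨1, ?_⟩
      obtain ⟨g, k, rfl⟩ := g
      apply Subtype.ext
      show ((τ ^ k) ^ p ^ 1 : MulAut V) = 1
      rw [pow_one, ← zpow_natCast, ← zpow_mul, mul_comm, zpow_mul, zpow_natCast, hτp, one_zpow]
    have h1 := hzp.card_modEq_card_fixedPoints V
    have h2 : Nat.card (MulAction.fixedPoints (zpowers τ) V) = 1 := by
      rw [Nat.card_eq_one_iff_unique]
      refine ⟨⟨?_⟩, ⟨⟨1, ?_⟩⟩⟩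
      · rintro ⟨a, ha⟩ ⟨b, hb⟩
        have ha' : a = 1 := hfix a (ha ⟨τ, mem_zpowers τ⟩)
        have hb' : b = 1 := hfix b (hb ⟨τ, mem_zpowers τ⟩)
        exact Subtype.ext (ha'.trans hb'.symm)
      · intro g
        show (g : MulAut V) 1 = 1
        exact map_one _
    rwa [h2] at h1
  have hem : e ∣ m := by
    apply orderOf_dvd_of_pow_eq_one
    have h1 : ((q ^ m : ℕ) : ZMod p) = ((1 : ℕ) : ZMod p) := by
      rw [← hm]
      exact (ZMod.natCast_eq_natCast_iff _ _ _).mpr hmod
    simpa using h1
  -- the ring
  let R := AddMonoid.End (Additive V)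
  haveI hRfin : Finite R := Finite.of_injective (fun f : R => (f : Additive V → Additive V))
    DFunLike.coe_injective
  let T : R := MonoidHom.toAdditive (τ : V ≃* V).toMonoidHom
  have hTx : ∀ x : Additive V, T x = Additive.ofMul (τ (Additive.toMul x)) := fun x => rfl
  have hTpow : ∀ (k : ℕ) x, (T ^ k) x = Additive.ofMul ((τ ^ k) (Additive.toMul x)) := by
    intro k
    induction k with
    | zero => intro x; simp only [pow_zero]; rfl
    | succ k ih =>
      intro x
      rw [pow_succ, pow_succ]
      show (T ^ k) (T x) = _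
      rw [ih, hTx]
      rfl
  have hTp : T ^ p = 1 := by
    ext x
    rw [hTpow, hτp]
    rfl
  have hq0 : ((q : ℕ) : R) = 0 := by
    ext x
    show q • x = 0
    have : Additive.toMul (q • x) = (Additive.toMul x) ^ q := rfl
    apply Additive.toMul.injective
    rw [this, hexp]
    rfl
  set n := q ^ e with hn
  have hn2 : 2 ≤ n := by
    calc 2 ≤ q := hq.two_le
      _ = q ^ 1 := (pow_one q).symm
      _ ≤ q ^ e := Nat.pow_le_pow_right hq.pos he0
  have hTn : T ^ n = T := by
    have h1 : (q : ZMod p) ^ e = 1 := pow_orderOf_eq_one _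
    have h2 : ((n : ℕ) : ZMod p) = ((1 : ℕ) : ZMod p) := by
      rw [hn]; push_cast; exact h1
    have h3 : n ≡ 1 [MOD p] := (ZMod.natCast_eq_natCast_iff _ _ _).mp h2
    have h4 : p ∣ n - 1 := (Nat.modEq_iff_dvd' (by omega)).mp h3.symm
    obtain ⟨k, hk⟩ := h4
    have h5 : n = p * k + 1 := by omega
    rw [h5, pow_succ, pow_mul, hTp, one_pow, one_mul]
  let S := Subring.closure ({T} : Set R)
  letI hSc : CommRing S := Subring.closureCommRingOfComm (by
    rintro _ rfl _ rfl; rfl)
  have hcomm : ∀ x ∈ S, ∀ y ∈ S, x * y = y * x := by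
    intro x hx y hy
    have := mul_comm (⟨x, hx⟩ : S) (⟨y, hy⟩ : S)
    exact congrArg Subtype.val this
  have hTS : T ∈ S := Subring.subset_closure rfl
  have hadd : ∀ x y : R, Commute x y → x ^ n = x → y ^ n = y → (x + y) ^ n = x + y := by
    intro x y hc hx hy
    obtain ⟨r, hr⟩ := hc.exists_add_pow_prime_pow_eq hq e
    rw [hr, hx, hy, hq0]
    simp
  have hPr : ∀ x ∈ S, x ^ n = x := by
    intro x hx
    induction hx using Subring.closure_induction with
    | mem a ha =>
      rcases ha with rfl
      exact hTn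
    | zero => exact zero_pow (by omega)
    | one => exact one_pow _
    | add a b ha hb h1 h2 => exact hadd a b (hcomm a ha b hb) h1 h2
    | neg a ha h1 =>
      have hc : Commute a (-a) := (Commute.refl a).neg_right
      obtain ⟨r, hr⟩ := hc.exists_add_pow_prime_pow_eq hq e
      rw [add_neg_cancel, zero_pow (by positivity), hq0, h1] at hr
      simp only [zero_mul, add_zero] at hr
      have : (-a) ^ q ^ e = -a := by
        have h3 := hr
        rw [eq_comm, add_eq_zero_iff_eq_neg'] at h3
        exact h3
      exact this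
    | mul a b ha hb h1 h2 =>
      have hc : Commute a b := hcomm a ha b hb
      rw [hc.mul_pow, h1, h2]
  -- kernels
  have hker : ∀ x ∈ S, x ≠ 0 → ∀ v : V, x (Additive.ofMul v) = 0 → v = 1 := by
    intro x hx hx0
    set K : Subgroup V :=
      { carrier := {v | x (Additive.ofMul v) = 0}
        one_mem' := by
          show x (Additive.ofMul 1) = 0
          exact map_zero x
        mul_mem' := by
          intro a b ha hb
          show x (Additive.ofMul (a * b)) = 0
          rw [ofMul_mul, map_add, show x (Additive.ofMul a) = 0 from ha,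
            show x (Additive.ofMul b) = 0 from hb, add_zero]
        inv_mem' := by
          intro a ha
          show x (Additive.ofMul a⁻¹) = 0
          rw [ofMul_inv, map_neg, show x (Additive.ofMul a) = 0 from ha, neg_zero] } with hK
    have hinv : ∀ b ∈ K, τ b ∈ K := by
      intro b hb
      show x (Additive.ofMul (τ b)) = 0
      have h1 : x * T = T * x := hcomm x hx T hTS
      have h2 : (x * T) (Additive.ofMul b) = (T * x) (Additive.ofMul b) := by rw [h1]
      have h3 : (x * T) (Additive.ofMul b) = x (Additive.ofMul (τ b)) := rfl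
      have h4 : (T * x) (Additive.ofMul b) = T (x (Additive.ofMul b)) := rfl
      rw [← h3, h2, h4, show x (Additive.ofMul b) = 0 from hb, map_zero]
    rcases hirr K hinv with h | h
    · intro v hv
      have : v ∈ K := hv
      rw [h] at this
      exact this
    · exfalso
      apply hx0
      ext v
      have : Additive.toMul v ∈ K := by rw [h]; trivial
      exact this
  obtain ⟨v₀, hv₀⟩ := exists_ne (1 : V)
  -- image is everything
  have hsurj : ∀ v : V, ∃ x ∈ S, x (Additive.ofMul v₀) = Additive.ofMul v := by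
    set I : Subgroup V :=
      { carrier := {v | ∃ x ∈ S, x (Additive.ofMul v₀) = Additive.ofMul v}
        one_mem' := ⟨0, S.zero_mem, rfl⟩
        mul_mem' := by
          rintro a b ⟨x, hx, h1⟩ ⟨y, hy, h2⟩
          refine ⟨x + y, S.add_mem hx hy, ?_⟩
          show x _ + y _ = _
          rw [h1, h2]; rfl
        inv_mem' := by
          rintro a ⟨x, hx, h1⟩
          refine ⟨-x, S.neg_mem hx, ?_⟩
          show - x _ = _
          rw [h1]; rfl } with hI
    have hinv : ∀ b ∈ I, τ b ∈ I := by
      rintro b ⟨x, hx, h1⟩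
      refine ⟨T * x, S.mul_mem hTS hx, ?_⟩
      show T (x _) = _
      rw [h1]; rfl
    have hv₀I : v₀ ∈ I := ⟨1, S.one_mem, rfl⟩
    rcases hirr I hinv with h | h
    · exfalso
      rw [h] at hv₀I
      exact hv₀ hv₀I
    · intro v
      have : v ∈ I := by rw [h]; trivial
      exact this
  have hle1 : Nat.card V ≤ Nat.card S := by
    let f : S → V := fun x => Additive.toMul ((x : R) (Additive.ofMul v₀))
    have hf : Function.Surjective f := by
      intro v
      obtain ⟨x, hx, h⟩ := hsurj v
      exact ⟨⟨x, hx⟩, by show Additive.toMul (x _) = v; rw [h]; rfl⟩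
    exact Nat.card_le_card_of_surjective f hf
  -- the ring `S` is a domain
  have hv₀' : Additive.ofMul v₀ ≠ 0 := by
    intro h
    exact hv₀ (Additive.ofMul.injective h)
  haveI hSnt : Nontrivial S := by
    refine ⟨⟨1, 0, ?_⟩⟩
    intro h
    have h2 : (1 : R) = 0 := congrArg Subtype.val h
    have h3 : (1 : R) (Additive.ofMul v₀) = (0 : R) (Additive.ofMul v₀) := by rw [h2]
    exact hv₀' h3
  haveI hSnz : NoZeroDivisors S := by
    refine ⟨?_⟩
    rintro ⟨x, hx⟩ ⟨y, hy⟩ h
    by_contra hcon
    push Not at hcon
    have hx0 : x ≠ 0 := fun h0 => hcon.1 (Subtype.ext h0)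
    have hy0 : y ≠ 0 := fun h0 => hcon.2 (Subtype.ext h0)
    have h2 : x * y = 0 := congrArg Subtype.val h
    have h3 : x (y (Additive.ofMul v₀)) = 0 := by
      have : (x * y) (Additive.ofMul v₀) = 0 := by rw [h2]; rfl
      exact this
    have h4 := hker x hx hx0 (Additive.toMul (y (Additive.ofMul v₀))) h3
    have h5 : y (Additive.ofMul v₀) = 0 := by
      apply Additive.toMul.injective
      exact h4
    exact hv₀ (hker y hy hy0 v₀ h5)
  haveI hSd : IsDomain S := NoZeroDivisors.to_isDomain S
  have hle2 : Nat.card S ≤ n := by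
    letI : Fintype S := Fintype.ofFinite S
    have hroots : ∀ x : S, x ≠ 0 → x ∈ Polynomial.nthRoots (n - 1) (1 : S) := by
      intro x hx
      rw [Polynomial.mem_nthRoots (by omega)]
      have h1 : x ^ n = x := Subtype.ext (hPr x.1 x.2)
      have h2 : x * x ^ (n - 1) = x * 1 := by
        rw [← pow_succ', mul_one, show n - 1 + 1 = n by omega, h1]
      exact mul_left_cancel₀ hx h2
    have hcard := Polynomial.card_nthRoots (n - 1) (1 : S)
    have hsub : (Finset.univ : Finset S) ⊆ insert 0 (Polynomial.nthRoots (n - 1) (1 : S)).toFinset := by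
      intro x _
      by_cases hx : x = 0
      · simp [hx]
      · simp only [Finset.mem_insert, Multiset.mem_toFinset]
        exact Or.inr (hroots x hx)
    have h1 := Finset.card_le_card hsub
    have h2 := Finset.card_insert_le (0 : S) (Polynomial.nthRoots (n - 1) (1 : S)).toFinset
    have h3 := Multiset.toFinset_card_le (Polynomial.nthRoots (n - 1) (1 : S))
    rw [Finset.card_univ, ← Nat.card_eq_fintype_card] at h1
    omega
  have hle : q ^ m ≤ q ^ e := by
    rw [← hm]
    exact le_trans hle1 hle2
  have hmle : m ≤ e := (Nat.pow_le_pow_iff_right hq.one_lt).mp hle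
  have hge : e ≤ m := Nat.le_of_dvd (Nat.pos_of_ne_zero hm0) hem
  rw [hm, le_antisymm hmle hge]

end Cfsg.Agent.Lib.IrrCyclic
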