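import Mathlib
import Cfsg.Agent.Lib.ExtraIdx

set_option autoImplicit false

/-! `p`-groups whose class sizes are `1` and `p^a`: the `p`-th powers are central (seat helper2). -/

namespace Cfsg.Agent.Lib.ItoRank

open Subgroup

section basic

variable {P : Type*} [Group P]

theorem comm_pow1 {w z c : P} (hc : c ∈ center P) (h : z * w = c * w * z) (n : ℕ) :
    ∃ ω ∈ center P, z ^ n * w = ω * w * z ^ n := by
  induction n with
  | zero => exact ⟨1, one_mem _, by simp⟩
  | succ n ih =>
    obtain ⟨ω, hω, hωe⟩ := ih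
    refine ⟨c * ω, mul_mem hc hω, ?_⟩
    have hcc : z ^ n * c = c * z ^ n := (Subgroup.mem_center_iff.mp hc (z ^ n))
    rw [pow_succ]
    calc z ^ n * z * w = z ^ n * (z * w) := by group
      _ = z ^ n * (c * w * z) := by rw [h]
      _ = (z ^ n * c) * w * z := by group
      _ = c * (z ^ n * w) * z := by rw [hcc]; group
      _ = c * (ω * w * z ^ n) * z := by rw [hωe]
      _ = c * ω * w * (z ^ n * z) := by group

theorem comm_pow2 {w z c : P} (hc : c ∈ center P) (h : z * w = c * w * z) (n : ℕ) :
    ∃ ω ∈ center P, (w * z) ^ n = w ^ n * z ^ n * ω := by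
  induction n with
  | zero => exact ⟨1, one_mem _, by simp⟩
  | succ n ih =>
    obtain ⟨ω, hω, hωe⟩ := ih
    obtain ⟨ω', hω', hωe'⟩ := comm_pow1 hc h n
    refine ⟨ω' * ω, mul_mem hω' hω, ?_⟩
    have h1 : ω * (w * z) = (w * z) * ω := (Subgroup.mem_center_iff.mp hω (w * z)).symm
    have h2 : (z ^ n * z) * ω' = ω' * (z ^ n * z) := (Subgroup.mem_center_iff.mp hω' _)
    have h3 : w ^ n * ω' = ω' * w ^ n := (Subgroup.mem_center_iff.mp hω' _)
    rw [pow_succ, hωe, pow_succ w, pow_succ z]
    calc w ^ n * z ^ n * ω * (w * z) = w ^ n * z ^ n * (ω * (w * z)) := by group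
      _ = w ^ n * (z ^ n * w) * z * ω := by rw [h1]; group
      _ = w ^ n * (ω' * w * z ^ n) * z * ω := by rw [hωe']
      _ = (w ^ n * ω') * w * z ^ n * z * ω := by group
      _ = ω' * w ^ n * w * z ^ n * z * ω := by rw [h3]
      _ = w ^ n * w * (ω' * (z ^ n * z)) * ω := by
        have h4 : ω' * (w ^ n * w) = (w ^ n * w) * ω' := (Subgroup.mem_center_iff.mp hω' _).symm
        calc ω' * w ^ n * w * z ^ n * z * ω = (ω' * (w ^ n * w)) * z ^ n * z * ω := by group
          _ = (w ^ n * w) * ω' * z ^ n * z * ω := by rw [h4]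
          _ = w ^ n * w * (ω' * (z ^ n * z)) * ω := by group
      _ = w ^ n * w * (z ^ n * z) * (ω' * ω) := by rw [← h2]; group

end basic

/-- the value on `Fin`-like `ZMod` of a product over a range -/
theorem prod_zmod_eq_range {M : Type*} [CommMonoid M] (p : ℕ) [NeZero p] (F : ℕ → M) :
    ∏ i : ZMod p, F i.val = ∏ i ∈ Finset.range p, F i := by
  cases p with
  | zero => exact absurd rfl (NeZero.ne 0)
  | succ m =>
    exact Fin.prod_univ_eq_prod_range F (m + 1)

variable {P : Type*} [Group P] [Finite P] {p : ℕ} [hpf : Fact p.Prime]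

/-- the main computation -/
theorem main_rank (hP : IsPGroup p P) (a : ℕ) (ha : 1 ≤ a)
    (hcs : ∀ x : P, (centralizer ({x} : Set P)).index = 1 ∨ (centralizer ({x} : Set P)).index = p ^ a) (x : P) :
    x ^ p ∈ center P := by
  classical
  have hp := hpf.out
  by_contra hcon
  have hx : x ∉ center P := fun h => hcon (pow_mem h p)
  -- basic facts
  have hcen : ∀ u : P, (centralizer ({u} : Set P)).index = 1 → u ∈ center P := by
    intro u hu
    rw [Subgroup.index_eq_one] at hu
    rw [Subgroup.mem_center_iff]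
    intro v
    have : v ∈ centralizer ({u} : Set P) := by rw [hu]; trivial
    exact Subgroup.mem_centralizer_singleton_iff.mp this
  have hidx : ∀ u : P, u ∉ center P → (centralizer ({u} : Set P)).index = p ^ a := by
    intro u hu
    exact (hcs u).resolve_left (fun h => hu (hcen u h))
  have heq : ∀ u v : P, u ∉ center P → v ∉ center P → centralizer ({u} : Set P) ≤ centralizer ({v} : Set P) →
      centralizer ({u} : Set P) = centralizer ({v} : Set P) := by
    intro u v hu hv hle
    have h1 := Subgroup.relIndex_mul_index hle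
    rw [hidx u hu, hidx v hv] at h1
    have h2 : (centralizer ({u} : Set P)).relIndex (centralizer ({v} : Set P)) = 1 := by
      have h3 : 0 < p ^ a := pow_pos hp.pos a
      exact Nat.eq_of_mul_eq_mul_right h3 (by rw [h1, one_mul])
    exact le_antisymm hle (Subgroup.relIndex_eq_one.mp h2)
  have hcpow : ∀ (u : P) (k : ℕ), centralizer ({u} : Set P) ≤ centralizer ({u ^ k} : Set P) := by
    intro u k v hv
    rw [Subgroup.mem_centralizer_singleton_iff] at hv ⊢
    exact (Commute.pow_right hv k)
  -- `a = 1`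
  by_cases ha1 : a = 1
  · subst ha1
    apply hcon
    rw [Subgroup.mem_center_iff]
    intro u
    rcases hcs u with h | h
    · have := hcen u h
      exact (Subgroup.mem_center_iff.mp this (x ^ p)).symm
    · rw [pow_one] at h
      haveI := Lib.ExtraIdx.normal_of_index hP _ h
      have h2 := Lib.ExtraIdx.pow_mem_of_index (centralizer ({u} : Set P)) h x
      exact (Subgroup.mem_centralizer_singleton_iff.mp h2).symm
  have ha2 : 2 ≤ a := by omega
  -- a good element `z`
  haveI hZn : (center P).Normal := inferInstance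
  have hQp : IsPGroup p (P ⧸ center P) := hP.to_quotient _
  haveI hQnt : Nontrivial (P ⧸ center P) := by
    refine ⟨⟨(x : P ⧸ center P), 1, ?_⟩⟩
    intro h
    exact hx ((QuotientGroup.eq_one_iff x).mp h)
  haveI := hQp.center_nontrivial
  have hpd : p ∣ Nat.card (center (P ⧸ center P)) := by
    obtain ⟨k, hk⟩ := IsPGroup.iff_card.mp (hQp.to_subgroup (center (P ⧸ center P)))
    rw [hk]
    apply dvd_pow_self
    rintro rfl
    rw [pow_zero] at hk
    have := Finite.one_lt_card (α := center (P ⧸ center P))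
    omega
  obtain ⟨zb, hzb⟩ := exists_prime_orderOf_dvd_card' (G := center (P ⧸ center P)) p hpd
  obtain ⟨z, hzz⟩ := QuotientGroup.mk_surjective (zb : P ⧸ center P)
  have hzo : orderOf (z : P ⧸ center P) = p := by rw [hzz, Subgroup.orderOf_coe, hzb]
  have hz1 : z ∉ center P := by
    intro h
    have : (z : P ⧸ center P) = 1 := (QuotientGroup.eq_one_iff z).mpr h
    rw [this, orderOf_one] at hzo
    exact hp.one_lt.ne hzo
  have hz2 : z ^ p ∈ center P := by
    rw [← QuotientGroup.eq_one_iff, QuotientGroup.mk_pow, ← hzo]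
    exact pow_orderOf_eq_one _
  have hz3 : ∀ u : P, z * u * z⁻¹ * u⁻¹ ∈ center P := by
    intro u
    rw [← QuotientGroup.eq_one_iff]
    have h1 : (z : P ⧸ center P) * (u : P ⧸ center P) = (u : P ⧸ center P) * (z : P ⧸ center P) := by
      rw [hzz]
      exact (Subgroup.mem_center_iff.mp zb.2 _).symm
    simp only [QuotientGroup.mk_mul, QuotientGroup.mk_inv]
    rw [h1]
    group
  -- the homomorphism
  let f : P →* center P := MonoidHom.mk' (fun u => ⟨z * u * z⁻¹ * u⁻¹, hz3 u⟩) (by
    intro a b
    apply Subtype.ext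
    show z * (a * b) * z⁻¹ * (a * b)⁻¹ = (z * a * z⁻¹ * a⁻¹) * (z * b * z⁻¹ * b⁻¹)
    have h1 : a⁻¹ * (z * b * z⁻¹ * b⁻¹) = (z * b * z⁻¹ * b⁻¹) * a⁻¹ := (Subgroup.mem_center_iff.mp (hz3 b) _)
    calc z * (a * b) * z⁻¹ * (a * b)⁻¹ = z * a * z⁻¹ * ((z * b * z⁻¹ * b⁻¹) * a⁻¹) := by group
      _ = z * a * z⁻¹ * (a⁻¹ * (z * b * z⁻¹ * b⁻¹)) := by rw [h1]
      _ = (z * a * z⁻¹ * a⁻¹) * (z * b * z⁻¹ * b⁻¹) := by group)
  have hfv : ∀ u : P, (f u : P) = z * u * z⁻¹ * u⁻¹ := fun u => rfl
  set A : Subgroup P := centralizer ({z} : Set P) with hAdef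
  have hfker : ∀ u : P, f u = 1 ↔ u ∈ A := by
    intro u
    rw [hAdef, Subgroup.mem_centralizer_singleton_iff]
    constructor
    · intro h
      have h2 : z * u * z⁻¹ * u⁻¹ = 1 := by
        rw [← hfv, h]; rfl
      rw [mul_inv_eq_one, mul_inv_eq_iff_eq_mul] at h2
      exact h2.symm
    · intro h
      apply Subtype.ext
      rw [hfv]
      show z * u * z⁻¹ * u⁻¹ = 1
      rw [mul_inv_eq_one, mul_inv_eq_iff_eq_mul]
      exact h.symm
  have hAker : f.ker = A := by
    ext u
    rw [MonoidHom.mem_ker, hfker]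
  haveI hAn : A.Normal := by rw [← hAker]; infer_instance
  have hAidx : A.index = p ^ a := hidx z hz1
  have hZA : center P ≤ A := by
    intro u hu
    rw [hAdef, Subgroup.mem_centralizer_singleton_iff]
    exact (Subgroup.mem_center_iff.mp hu z).symm
  -- every element with non-central `p`-th power has centralizer `A`
  have hA : ∀ w : P, w ^ p ∉ center P → centralizer ({w} : Set P) = A := by
    intro w hw
    have hw0 : w ∉ center P := fun h => hw (pow_mem h p)
    have hc := hz3 w
    obtain ⟨ω, hω, hωe⟩ := comm_pow2 (w := w) (z := z) hc (by group) p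
    have hc' : z ^ p * ω ∈ center P := mul_mem hz2 hω
    have hvp : (w * z) ^ p ∉ center P := by
      intro h
      apply hw
      have : w ^ p = (w * z) ^ p * (z ^ p * ω)⁻¹ := by rw [hωe]; group
      rw [this]
      exact mul_mem h (inv_mem hc')
    have hv0 : w * z ∉ center P := fun h => hvp (pow_mem h p)
    have h1 : centralizer ({w * z} : Set P) ≤ centralizer ({w ^ p} : Set P) := by
      intro u hu
      have h2 := hcpow (w * z) p hu
      rw [Subgroup.mem_centralizer_singleton_iff] at h2 ⊢
      have h3 : w ^ p = (w * z) ^ p * (z ^ p * ω)⁻¹ := by rw [hωe]; group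
      rw [h3]
      have h4 : Commute u (z ^ p * ω)⁻¹ := (Subgroup.mem_center_iff.mp (inv_mem hc') u)
      exact Commute.mul_right h2 h4
    have h2 := heq _ _ hv0 hw h1
    have h3 := heq _ _ hw0 hw (hcpow w p)
    have h4 : centralizer ({w} : Set P) = centralizer ({w * z} : Set P) := h3.trans h2.symm
    have hww : w ∈ centralizer ({w} : Set P) := by
      rw [Subgroup.mem_centralizer_singleton_iff]
    have h5 : ∀ b ∈ centralizer ({w} : Set P), b * z = z * b := by
      intro b hb
      have h6 : b * w = w * b := Subgroup.mem_centralizer_singleton_iff.mp hb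
      have h7 := hb
      rw [h4, Subgroup.mem_centralizer_singleton_iff] at h7
      have h8 : w * (b * z) = w * (z * b) := by
        calc w * (b * z) = (w * b) * z := by group
          _ = (b * w) * z := by rw [h6]
          _ = b * (w * z) := by group
          _ = (w * z) * b := h7
          _ = w * (z * b) := by group
      exact mul_left_cancel h8
    apply heq _ _ hw0 hz1
    intro b hb
    rw [Subgroup.mem_centralizer_singleton_iff]
    exact h5 b hb
  have hout : ∀ w : P, w ∉ A → w ^ p ∈ center P := by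
    intro w hw
    by_contra h
    apply hw
    rw [← hA w h, Subgroup.mem_centralizer_singleton_iff]
  have hpowA : ∀ u : P, u ^ p ∈ A := by
    intro u
    by_cases hu : u ∈ A
    · exact pow_mem hu p
    · exact hZA (hout u hu)
  have hxA : x ∈ A := by
    rw [← hA x hcon, Subgroup.mem_centralizer_singleton_iff]
  -- the center of `A`
  set B : Subgroup P := A ⊓ centralizer (A : Set P) with hBdef
  have hxB : x ∈ B := by
    refine ⟨hxA, ?_⟩
    show x ∈ centralizer (A : Set P)
    rw [Subgroup.mem_centralizer_iff]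
    intro h hh
    rw [← hA x hcon] at hh
    exact Subgroup.mem_centralizer_singleton_iff.mp hh
  have hBn : B.Normal := by
    refine ⟨fun u hu g => ⟨hAn.conj_mem u hu.1 g, ?_⟩⟩
    show g * u * g⁻¹ ∈ centralizer (A : Set P)
    rw [Subgroup.mem_centralizer_iff]
    intro h hh
    have h1 : g⁻¹ * h * g ∈ A := by
      have := hAn.conj_mem h hh g⁻¹
      simpa using this
    have h2 := Subgroup.mem_centralizer_iff.mp hu.2 _ h1
    calc h * (g * u * g⁻¹) = g * ((g⁻¹ * h * g) * u) * g⁻¹ := by group
      _ = g * (u * (g⁻¹ * h * g)) * g⁻¹ := by rw [h2]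
      _ = g * u * g⁻¹ * h := by group
  letI cB : CommGroup B := { (inferInstance : Group B) with
    mul_comm := fun a b => Subtype.ext (Subgroup.mem_centralizer_iff.mp b.2.2 a a.2.1) }
  let act : P → (B →* B) := fun v => MonoidHom.mk' (fun u => ⟨v * u * v⁻¹, hBn.conj_mem u u.2 v⟩) (by
    intro a b
    apply Subtype.ext
    show v * (a * b : P) * v⁻¹ = (v * a * v⁻¹) * (v * b * v⁻¹)
    group)
  have hactv : ∀ (v : P) (u : B), ((act v u : B) : P) = v * u * v⁻¹ := fun v u => rfl
  have hact_mul : ∀ (a b : P) (u : B), act (a * b) u = act a (act b u) := by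
    intro a b u
    apply Subtype.ext
    rw [hactv, hactv, hactv]
    group
  have hact_eq : ∀ (a b : P) (u : B), f a = f b → act a u = act b u := by
    intro a b u hab
    apply Subtype.ext
    rw [hactv, hactv]
    have h1 : a⁻¹ * b ∈ A := by
      rw [← hfker, map_mul, map_inv, hab]
      group
    have h2 := Subgroup.mem_centralizer_iff.mp u.2.2 _ h1
    have h3 : b * (u : P) = a * (u : P) * (a⁻¹ * b) := by
      calc b * (u : P) = a * ((a⁻¹ * b) * u) := by group
        _ = a * (u * (a⁻¹ * b)) := by rw [h2]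
        _ = a * (u : P) * (a⁻¹ * b) := by group
    rw [h3]
    group
  let W : Subgroup B := (center P).comap B.subtype
  -- Lemma N
  have hN : ∀ τ : P, τ ∉ A → ∀ u : B, ∏ i : ZMod p, act (τ ^ i.val) u ∈ W := by
    intro τ hτ u
    rw [prod_zmod_eq_range p (fun i => act (τ ^ i) u)]
    have hrec : ∀ n : ℕ, (τ⁻¹ * (u : P)) ^ n = τ⁻¹ ^ n * ((∏ i ∈ Finset.range n, act (τ ^ i) u : B) : P) := by
      intro n
      induction n with
      | zero => simp
      | succ n ih =>
        rw [pow_succ, ih, Finset.prod_range_succ']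
        have h1 : ∏ i ∈ Finset.range n, act (τ ^ (i + 1)) u = act τ (∏ i ∈ Finset.range n, act (τ ^ i) u) := by
          rw [map_prod]
          apply Finset.prod_congr rfl
          intro i _
          rw [← hact_mul, pow_succ']
        rw [h1]
        have h2 : ((act (τ ^ 0) u : B) : P) = u := by
          rw [hactv]; simp
        show τ⁻¹ ^ n * ((∏ i ∈ Finset.range n, act (τ ^ i) u : B) : P) * (τ⁻¹ * (u : P)) =
          τ⁻¹ ^ (n + 1) * (((act τ (∏ i ∈ Finset.range n, act (τ ^ i) u) : B) : P) * ((act (τ ^ 0) u : B) : P))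
        rw [h2, hactv, pow_succ]
        group
    have hτp := hout τ hτ
    have hw : τ⁻¹ * (u : P) ∉ A := by
      intro h
      have : τ⁻¹ ∈ A := by
        have h2 : τ⁻¹ = τ⁻¹ * (u : P) * (u : P)⁻¹ := by group
        rw [h2]
        exact mul_mem h (inv_mem u.2.1)
      exact hτ (by simpa using inv_mem this)
    have hwp := hout _ hw
    have h3 := hrec p
    show ((∏ i ∈ Finset.range p, act (τ ^ i) u : B) : P) ∈ center P
    have h4 : ((∏ i ∈ Finset.range p, act (τ ^ i) u : B) : P) = τ ^ p * (τ⁻¹ * (u : P)) ^ p := by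
      rw [h3, inv_pow]
      group
    rw [h4]
    exact mul_mem hτp hwp
  -- independent elements
  have hAtop : ∃ g : P, g ∉ A := by
    by_contra hall
    push Not at hall
    have : A = ⊤ := eq_top_iff.mpr (fun g _ => hall g)
    rw [this, Subgroup.index_top] at hAidx
    have := Nat.one_lt_pow (by omega : a ≠ 0) hp.one_lt
    omega
  obtain ⟨g, hg⟩ := hAtop
  have hfpow : ∀ u : P, f u ^ p = 1 := by
    intro u
    rw [← map_pow, hfker]
    exact hpowA u
  have hγ1 : f g ≠ 1 := fun h => hg ((hfker g).mp h)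
  have hγo : orderOf (f g) = p := orderOf_eq_prime (hfpow g) hγ1
  have hrange : ∃ h : P, f h ∉ zpowers (f g) := by
    by_contra hall
    push Not at hall
    have hle : f.range ≤ zpowers (f g) := by
      rintro _ ⟨u, rfl⟩
      exact hall u
    have h1 : Nat.card f.range ≤ Nat.card (zpowers (f g)) := Subgroup.card_le_of_le hle
    rw [← Subgroup.index_ker, hAker, hAidx, Nat.card_zpowers, hγo] at h1
    have h2 : p ^ 2 ≤ p ^ a := Nat.pow_le_pow_right hp.pos ha2
    have h3 : p < p ^ 2 := by
      have := hp.one_lt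
      nlinarith
    omega
  obtain ⟨h, hh⟩ := hrange
  have hhA : h ∉ A := by
    intro hA'
    apply hh
    rw [(hfker h).mpr hA']
    exact one_mem _
  have hind : ∀ k : ℕ, g * h ^ k ∉ A := by
    intro k hk
    have h1 : f g * f h ^ k = 1 := by
      rw [← map_pow, ← map_mul]
      exact (hfker _).mpr hk
    have hcop : Nat.Coprime k p := by
      apply Nat.Coprime.symm
      rw [Nat.Prime.coprime_iff_not_dvd hp]
      rintro ⟨t, rfl⟩
      apply hγ1
      rw [pow_mul, hfpow, one_pow, mul_one] at h1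
      exact h1
    obtain ⟨k', -, hk'⟩ := Nat.exists_mul_mod_eq_one_of_coprime hcop hp.one_lt
    apply hh
    have h2 : f h = (f h ^ k) ^ k' := by
      rw [← pow_mul, pow_eq_pow_mod (k * k') (hfpow h), hk', pow_one]
    have h3 : f h ^ k = (f g)⁻¹ := eq_inv_of_mul_eq_one_right h1
    rw [h2, h3]
    exact pow_mem (inv_mem (mem_zpowers _)) _
  -- the array
  let y₀ : B := ⟨x, hxB⟩
  let F : ZMod p → ZMod p → B := fun i j => act (g ^ i.val * h ^ j.val) y₀
  have hL1 : ∀ k : ZMod p, ∏ i : ZMod p, F i (k * i) ∈ W := by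
    intro k
    have h1 : ∀ i : ZMod p, F i (k * i) = act ((g * h ^ k.val) ^ i.val) y₀ := by
      intro i
      apply hact_eq
      have hCZ : ∀ a b : center P, Commute a b := fun a b => Subtype.ext (Subgroup.mem_center_iff.mp a.2 b).symm
      rw [map_mul, map_pow, map_pow, map_pow, map_mul, map_pow, (hCZ _ _).mul_pow, ZMod.val_mul, ← pow_mul,
        (pow_eq_pow_mod (k.val * i.val) (hfpow h)).symm]
    simp only [h1]
    exact hN _ (hind _) y₀
  have hL2 : ∏ j : ZMod p, F 0 j ∈ W := by
    have h1 : ∀ j : ZMod p, F 0 j = act (h ^ j.val) y₀ := by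
      intro j
      show act (g ^ (0 : ZMod p).val * h ^ j.val) y₀ = _
      rw [ZMod.val_zero, pow_zero, one_mul]
    simp only [h1]
    exact hN _ hhA y₀
  have hL3 : ∀ j : ZMod p, ∏ i : ZMod p, F i j ∈ W := by
    intro j
    have h1 : ∀ i : ZMod p, F i j = act (g ^ i.val) (act (h ^ j.val) y₀) := by
      intro i
      exact hact_mul _ _ _
    simp only [h1]
    exact hN _ hg _
  have hF00 : F 0 0 = y₀ := by
    apply Subtype.ext
    show (g ^ (0 : ZMod p).val * h ^ (0 : ZMod p).val) * x * (g ^ (0 : ZMod p).val * h ^ (0 : ZMod p).val)⁻¹ = x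
    rw [ZMod.val_zero]
    simp
  set R : B := ∏ i ∈ Finset.univ.erase (0 : ZMod p), ∏ j : ZMod p, F i j with hR
  have hid1 : ∏ k : ZMod p, ∏ i : ZMod p, F i (k * i) = y₀ ^ p * R := by
    rw [Finset.prod_comm, ← Finset.mul_prod_erase Finset.univ _ (Finset.mem_univ (0 : ZMod p))]
    congr 1
    · simp only [mul_zero, hF00]
      rw [Finset.prod_const, Finset.card_univ, ZMod.card]
    · apply Finset.prod_congr rfl
      intro i hi
      have hi0 : i ≠ 0 := (Finset.mem_erase.mp hi).1
      exact Fintype.prod_equiv (Equiv.mulRight₀ i hi0) _ _ (fun k => rfl)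
  have hid2 : ∏ i : ZMod p, ∏ j : ZMod p, F i j = (∏ j : ZMod p, F 0 j) * R := by
    rw [← Finset.mul_prod_erase Finset.univ _ (Finset.mem_univ (0 : ZMod p))]
  have hR1 : (∏ j : ZMod p, F 0 j) * R ∈ W := by
    rw [← hid2, Finset.prod_comm]
    exact Subgroup.prod_mem _ (fun j _ => hL3 j)
  have hRW : R ∈ W := (Subgroup.mul_mem_cancel_left W hL2).mp hR1
  have hlhs : y₀ ^ p * R ∈ W := by
    rw [← hid1]
    exact Subgroup.prod_mem _ (fun k _ => hL1 k)
  have hy : y₀ ^ p ∈ W := (Subgroup.mul_mem_cancel_right W hRW).mp hlhs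
  apply hcon
  have : ((y₀ ^ p : B) : P) ∈ center P := hy
  simpa using this

end Cfsg.Agent.Lib.ItoRank
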