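import Cfsg.Agent.Lib.F9Line

/-! A group of 7 × 7 matrices over the integers modulo 11 acting on a set of lines given by codes;
the comparison with a permutation chain on these lines. -/

set_option autoImplicit false
set_option linter.unusedSimpArgs false
set_option linter.unusedVariables false
set_option linter.style.haveILetI false
set_option maxRecDepth 100000

namespace Cfsg.Agent.Lib.J1Line

open Cfsg Matrix
open Cfsg.Agent.Lib.PChain Cfsg.Agent.Lib.PermChain Cfsg.Agent.Lib.PermChain2 Cfsg.Agent.Lib.F9Line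

/-- the vectors -/
abbrev V7 : Type := Fin 7 → ZMod 11

/-- the matrix group -/
abbrev GL7 : Type := Matrix.GeneralLinearGroup (Fin 7) (ZMod 11)

/-- digits of a code -/
def dg (n i : ℕ) : ℕ := n / 11 ^ i % 11

/-- the vector of a code -/
def vec7 (n : ℕ) : V7 := fun i => ((dg n i : ℕ) : ZMod 11)

/-- the opposite digit -/
def negd (a : ℕ) : ℕ := (11 - a) % 11

/-- the code of the opposite vector -/
def negc (n : ℕ) : ℕ :=
  negd (dg n 0) + 11 * (negd (dg n 1) + 11 * (negd (dg n 2) + 11 * (negd (dg n 3) + 11 * (negd (dg n 4) +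
    11 * (negd (dg n 5) + 11 * negd (dg n 6))))))

/-- a matrix row applied to a code -/
def mvR (R : ℕ → ℕ → ℕ) (n i : ℕ) : ℕ :=
  (R i 0 * dg n 0 + R i 1 * dg n 1 + R i 2 * dg n 2 + R i 3 * dg n 3 + R i 4 * dg n 4 + R i 5 * dg n 5 + R i 6 * dg n 6) % 11

/-- the matrix with given entries -/
def matR (R : ℕ → ℕ → ℕ) : Matrix (Fin 7) (Fin 7) (ZMod 11) := Matrix.of fun i j => ((R i j : ℕ) : ZMod 11)

theorem matR_mulVec (R : ℕ → ℕ → ℕ) (n : ℕ) (i : Fin 7) : (matR R *ᵥ vec7 n) i = ((mvR R n i : ℕ) : ZMod 11) := by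
  have h : ((mvR R n i : ℕ) : ZMod 11) = (((R i 0 * dg n 0 + R i 1 * dg n 1 + R i 2 * dg n 2 + R i 3 * dg n 3 + R i 4 * dg n 4 + R i 5 * dg n 5 + R i 6 * dg n 6 : ℕ)) : ZMod 11) := by
    show (((_ % 11 : ℕ)) : ZMod 11) = _
    rw [ZMod.natCast_mod]
  rw [h]
  show ∑ j : Fin 7, ((R i j : ℕ) : ZMod 11) * ((dg n j : ℕ) : ZMod 11) = _
  rw [Fin.sum_univ_seven]
  push_cast
  rfl

/-- seven digits agree -/
def eq7 (f g : ℕ → ℕ) : Bool :=
  and (Nat.beq (f 0) (g 0)) (and (Nat.beq (f 1) (g 1)) (and (Nat.beq (f 2) (g 2)) (and (Nat.beq (f 3) (g 3))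
    (and (Nat.beq (f 4) (g 4)) (and (Nat.beq (f 5) (g 5)) (Nat.beq (f 6) (g 6)))))))

theorem eq7_spec {f g : ℕ → ℕ} (h : eq7 f g = true) (i : Fin 7) : f i = g i := by
  simp only [eq7, Bool.and_eq_true] at h
  obtain ⟨h0, h1, h2, h3, h4, h5, h6⟩ := h
  fin_cases i
  · exact Nat.eq_of_beq_eq_true h0
  · exact Nat.eq_of_beq_eq_true h1
  · exact Nat.eq_of_beq_eq_true h2
  · exact Nat.eq_of_beq_eq_true h3
  · exact Nat.eq_of_beq_eq_true h4
  · exact Nat.eq_of_beq_eq_true h5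
  · exact Nat.eq_of_beq_eq_true h6

/-- a letter acts on the lines like a matrix -/
noncomputable def lineY (D : PD) (LV : ℕ → ℕ) (R : ℕ → ℕ → ℕ) (x p : ℕ) : Bool :=
  or (eq7 (mvR R (LV p)) (dg (LV (letter D x p)))) (eq7 (mvR R (LV p)) (dg (negc (LV (letter D x p)))))

/-- the codes of the lines are normalised and increasing -/
def lvY (N : ℕ) (LV : ℕ → ℕ) (p : ℕ) : Bool :=
  and (or (Nat.ble N (Nat.succ p)) (Nat.blt (LV p) (LV (Nat.succ p))))
    (and (Nat.blt (LV p) (nat_lit 19487171))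
      (and (Nat.blt (LV p) (negc (LV p))) (Nat.blt (negc (LV p)) (nat_lit 19487171))))

theorem dg_lt (n i : ℕ) : dg n i < 11 := Nat.mod_lt _ (by norm_num)

theorem negd_lt (a : ℕ) : negd a < 11 := Nat.mod_lt _ (by norm_num)

theorem cast_negd : ∀ a < 11, ((negd a : ℕ) : ZMod 11) = -((a : ℕ) : ZMod 11) := by decide

theorem dig_aux {a0 a1 a2 a3 a4 a5 a6 : ℕ} (h0 : a0 < 11) (h1 : a1 < 11) (h2 : a2 < 11) (h3 : a3 < 11) (h4 : a4 < 11)
    (h5 : a5 < 11) (h6 : a6 < 11) :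
    (a0 + 11 * (a1 + 11 * (a2 + 11 * (a3 + 11 * (a4 + 11 * (a5 + 11 * a6)))))) % 11 = a0 ∧
    (a0 + 11 * (a1 + 11 * (a2 + 11 * (a3 + 11 * (a4 + 11 * (a5 + 11 * a6)))))) / 11 % 11 = a1 ∧
    (a0 + 11 * (a1 + 11 * (a2 + 11 * (a3 + 11 * (a4 + 11 * (a5 + 11 * a6)))))) / 121 % 11 = a2 ∧
    (a0 + 11 * (a1 + 11 * (a2 + 11 * (a3 + 11 * (a4 + 11 * (a5 + 11 * a6)))))) / 1331 % 11 = a3 ∧
    (a0 + 11 * (a1 + 11 * (a2 + 11 * (a3 + 11 * (a4 + 11 * (a5 + 11 * a6)))))) / 14641 % 11 = a4 ∧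
    (a0 + 11 * (a1 + 11 * (a2 + 11 * (a3 + 11 * (a4 + 11 * (a5 + 11 * a6)))))) / 161051 % 11 = a5 ∧
    (a0 + 11 * (a1 + 11 * (a2 + 11 * (a3 + 11 * (a4 + 11 * (a5 + 11 * a6)))))) / 1771561 % 11 = a6 := by
  omega

theorem dg_negc (n : ℕ) (i : Fin 7) : dg (negc n) i = negd (dg n i) := by
  obtain ⟨e0, e1, e2, e3, e4, e5, e6⟩ := dig_aux (negd_lt (dg n 0)) (negd_lt (dg n 1)) (negd_lt (dg n 2)) (negd_lt (dg n 3))
    (negd_lt (dg n 4)) (negd_lt (dg n 5)) (negd_lt (dg n 6))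
  have f0 : ∀ m, dg m 0 = m % 11 := fun m => by simp [dg]
  have f1 : ∀ m, dg m 1 = m / 11 % 11 := fun m => by simp [dg]
  have f2 : ∀ m, dg m 2 = m / 121 % 11 := fun m => by norm_num [dg]
  have f3 : ∀ m, dg m 3 = m / 1331 % 11 := fun m => by norm_num [dg]
  have f4 : ∀ m, dg m 4 = m / 14641 % 11 := fun m => by norm_num [dg]
  have f5 : ∀ m, dg m 5 = m / 161051 % 11 := fun m => by norm_num [dg]
  have f6 : ∀ m, dg m 6 = m / 1771561 % 11 := fun m => by norm_num [dg]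
  fin_cases i
  · show dg (negc n) 0 = _
    rw [f0 (negc n)]
    exact e0
  · show dg (negc n) 1 = _
    rw [f1 (negc n)]
    exact e1
  · show dg (negc n) 2 = _
    rw [f2 (negc n)]
    exact e2
  · show dg (negc n) 3 = _
    rw [f3 (negc n)]
    exact e3
  · show dg (negc n) 4 = _
    rw [f4 (negc n)]
    exact e4
  · show dg (negc n) 5 = _
    rw [f5 (negc n)]
    exact e5
  · show dg (negc n) 6 = _
    rw [f6 (negc n)]
    exact e6

theorem vec7_negc (n : ℕ) : vec7 (negc n) = - vec7 n := by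
  funext i
  show ((dg (negc n) i : ℕ) : ZMod 11) = -((dg n i : ℕ) : ZMod 11)
  rw [dg_negc]
  exact cast_negd _ (dg_lt _ _)

theorem vec7_inj {a b : ℕ} (ha : a < 19487171) (hb : b < 19487171) (h : vec7 a = vec7 b) : a = b := by
  have key : ∀ i : Fin 7, dg a i = dg b i := by
    intro i
    have h1 := congrFun h i
    have h2 : (((dg a i : ℕ)) : ZMod 11) = ((dg b i : ℕ) : ZMod 11) := h1
    rw [ZMod.natCast_eq_natCast_iff'] at h2
    rwa [Nat.mod_eq_of_lt (dg_lt a i), Nat.mod_eq_of_lt (dg_lt b i)] at h2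
  have h0 : a % 11 = b % 11 := by simpa [dg] using key 0
  have h1 : a / 11 % 11 = b / 11 % 11 := by simpa [dg] using key 1
  have h2 : a / 121 % 11 = b / 121 % 11 := by simpa [dg] using key 2
  have h3 : a / 1331 % 11 = b / 1331 % 11 := by simpa [dg] using key 3
  have h4 : a / 14641 % 11 = b / 14641 % 11 := by simpa [dg] using key 4
  have h5 : a / 161051 % 11 = b / 161051 % 11 := by simpa [dg] using key 5
  have h6 : a / 1771561 % 11 = b / 1771561 % 11 := by simpa [dg] using key 6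
  omega

section
variable {D : PD} {LV : ℕ → ℕ}

/-- the vector of a line -/
def vL (LV : ℕ → ℕ) (p : ℕ) : V7 := vec7 (LV p)

/-- `g` permutes the lines like `σ` -/
def LP (D : PD) (LV : ℕ → ℕ) (g : GL7) (σ : Equiv.Perm (Fin D.N)) : Prop :=
  ∀ p : Fin D.N, (g : Matrix (Fin 7) (Fin 7) (ZMod 11)) *ᵥ vL LV p = vL LV (σ p) ∨
    (g : Matrix (Fin 7) (Fin 7) (ZMod 11)) *ᵥ vL LV p = - vL LV (σ p)

theorem LV_mono (hLV : ∀ p, p < D.N → lvY D.N LV p = true) {p q : ℕ} (hpq : p < q) (hq : q < D.N) :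
    LV p < LV q := by
  induction q with
  | zero => omega
  | succ q ih =>
    have h1 := hLV q (by omega)
    simp only [lvY, Bool.and_eq_true, Bool.or_eq_true, Nat.ble_eq, Nat.blt_eq] at h1
    have h2 : LV q < LV (q + 1) := by
      rcases h1.1 with h | h
      · have : q + 1 = Nat.succ q := rfl
        omega
      · exact h
    rcases Nat.lt_succ_iff_lt_or_eq.1 hpq with h | h
    · exact (ih h (by omega)).trans h2
    · rw [h]; exact h2

theorem LV_inj (hLV : ∀ p, p < D.N → lvY D.N LV p = true) {p q : ℕ} (hp : p < D.N) (hq : q < D.N)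
    (h : LV p = LV q) : p = q := by
  rcases Nat.lt_trichotomy p q with h1 | h1 | h1
  · have := LV_mono hLV h1 hq
    omega
  · exact h1
  · have := LV_mono hLV h1 hp
    omega

theorem line_eq (hLV : ∀ p, p < D.N → lvY D.N LV p = true) {p q : ℕ} (hp : p < D.N) (hq : q < D.N)
    (h : vL LV p = vL LV q ∨ vL LV p = - vL LV q) : p = q := by
  have a1 := hLV p hp
  have b1 := hLV q hq
  simp only [lvY, Bool.and_eq_true, Nat.blt_eq] at a1 b1
  obtain ⟨-, a2, a3, a4⟩ := a1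
  obtain ⟨-, b2, b3, b4⟩ := b1
  rcases h with h | h
  · exact LV_inj hLV hp hq (vec7_inj a2 b2 h)
  · exfalso
    have e1 : LV p = negc (LV q) := vec7_inj a2 b4 (by
      rw [vec7_negc]; exact h)
    have e2 : LV q = negc (LV p) := vec7_inj b2 a4 (by
      rw [vec7_negc]
      show vL LV q = - vL LV p
      rw [h, neg_neg])
    omega

theorem LP_one : LP D LV 1 1 := by
  intro p
  left
  simp

theorem LP_mul {g h : GL7} {σ τ : Equiv.Perm (Fin D.N)} (h1 : LP D LV g σ) (h2 : LP D LV h τ) :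
    LP D LV (g * h) (σ * τ) := by
  intro p
  show ((g : Matrix (Fin 7) (Fin 7) (ZMod 11)) * (h : Matrix (Fin 7) (Fin 7) (ZMod 11))) *ᵥ vL LV p = vL LV (σ (τ p)) ∨
    ((g : Matrix (Fin 7) (Fin 7) (ZMod 11)) * (h : Matrix (Fin 7) (Fin 7) (ZMod 11))) *ᵥ vL LV p = - vL LV (σ (τ p))
  rw [← Matrix.mulVec_mulVec]
  rcases h2 p with e | e <;> rcases h1 (τ p) with e' | e'
  · left; rw [e, e']
  · right; rw [e, e']
  · right; rw [e, Matrix.mulVec_neg, e']
  · left; rw [e, Matrix.mulVec_neg, e', neg_neg]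

theorem LP_inv {g : GL7} {σ : Equiv.Perm (Fin D.N)} (h1 : LP D LV g σ) : LP D LV g⁻¹ σ⁻¹ := by
  intro p
  have e2 : σ (σ⁻¹ p) = p := by simp
  have h3 : ((g⁻¹ : GL7) : Matrix (Fin 7) (Fin 7) (ZMod 11)) * (g : Matrix (Fin 7) (Fin 7) (ZMod 11)) = 1 := by
    have := congrArg Units.val (inv_mul_cancel g)
    simpa using this
  have h4 : ((g⁻¹ : GL7) : Matrix (Fin 7) (Fin 7) (ZMod 11)) *ᵥ ((g : Matrix (Fin 7) (Fin 7) (ZMod 11)) *ᵥ vL LV (σ⁻¹ p)) = vL LV (σ⁻¹ p) := by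
    rw [Matrix.mulVec_mulVec, h3, Matrix.one_mulVec]
  rcases h1 (σ⁻¹ p) with e | e
  · left
    rw [e, e2] at h4
    exact h4
  · right
    rw [e, e2, Matrix.mulVec_neg] at h4
    rw [← h4, neg_neg]

theorem LP_unique (hLV : ∀ p, p < D.N → lvY D.N LV p = true) {g : GL7} {σ τ : Equiv.Perm (Fin D.N)}
    (h1 : LP D LV g σ) (h2 : LP D LV g τ) : σ = τ := by
  ext p
  apply line_eq hLV (σ p).2 (τ p).2
  rcases h1 p with e | e <;> rcases h2 p with e' | e'
  · left; rw [← e, e']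
  · right; rw [← e, e']
  · right
    exact neg_eq_iff_eq_neg.1 (e.symm.trans e')
  · left
    exact neg_injective (e.symm.trans e')

/-- the scalar matrices -/
def IsScal (g : GL7) : Prop :=
  (g : Matrix (Fin 7) (Fin 7) (ZMod 11)) = 1 ∨ (g : Matrix (Fin 7) (Fin 7) (ZMod 11)) = -1

theorem LP_of_scal (hLV : ∀ p, p < D.N → lvY D.N LV p = true) {g : GL7} (hg : IsScal g)
    {σ : Equiv.Perm (Fin D.N)} (h : LP D LV g σ) : σ = 1 := by
  ext p
  symm
  show (p : ℕ) = σ p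
  apply line_eq hLV p.2 (σ p).2
  rcases hg with hg | hg <;> rcases h p with e | e <;> rw [hg] at e
  · left; rwa [Matrix.one_mulVec] at e
  · right; rwa [Matrix.one_mulVec] at e
  · right
    rw [Matrix.neg_mulVec, Matrix.one_mulVec] at e
    exact neg_eq_iff_eq_neg.1 e
  · left
    rw [Matrix.neg_mulVec, Matrix.one_mulVec] at e
    exact neg_injective e

/-- the frame -/
structure Frame (D : PD) (LV : ℕ → ℕ) (P C : Matrix (Fin 7) (Fin 7) (ZMod 11)) (bf : Fin 8 → ℕ) : Prop where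
  mem : ∀ i : Fin 8, bf i ∈ D.B
  lt : ∀ i : Fin 8, bf i < D.N
  col : ∀ (j i : Fin 7), P i j = vL LV (bf j.castSucc) i
  cp : C * P = 1
  pc : P * C = 1
  nz : ∀ i, (C *ᵥ vL LV (bf (Fin.last 7))) i ≠ 0

theorem scal_core {G P C : Matrix (Fin 7) (Fin 7) (ZMod 11)} {w : Fin 8 → V7} {e : Fin 8 → ZMod 11}
    (hcol : ∀ (j i : Fin 7), P i j = w j.castSucc i) (cp : C * P = 1) (pc : P * C = 1)
    (nz : ∀ i, (C *ᵥ w (Fin.last 7)) i ≠ 0) (hv : ∀ i, G *ᵥ w i = e i • w i) :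
    G = e (Fin.last 7) • (1 : Matrix (Fin 7) (Fin 7) (ZMod 11)) := by
  obtain ⟨a, ha⟩ : ∃ a : V7, a = C *ᵥ w (Fin.last 7) := ⟨_, rfl⟩
  rw [← ha] at nz
  have hPa : P *ᵥ a = w (Fin.last 7) := by
    rw [ha, Matrix.mulVec_mulVec, pc, Matrix.one_mulVec]
  obtain ⟨d, hd⟩ : ∃ d : Fin 7 → ZMod 11, d = fun j : Fin 7 => e j.castSucc := ⟨_, rfl⟩
  have hGP : G * P = P * Matrix.diagonal d := by
    ext i j
    rw [Matrix.mul_diagonal, hd]
    have h1 : (G * P) i j = (G *ᵥ w j.castSucc) i := by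
      rw [Matrix.mul_apply]
      show _ = ∑ k, G i k * w j.castSucc k
      apply Finset.sum_congr rfl
      intro k _
      rw [hcol j k]
    rw [h1, hv j.castSucc, hcol j i, Pi.smul_apply, smul_eq_mul, mul_comm]
  have h8 : P *ᵥ (Matrix.diagonal d *ᵥ a) = P *ᵥ (e (Fin.last 7) • a) := by
    rw [Matrix.mulVec_mulVec, ← hGP, ← Matrix.mulVec_mulVec, hPa, hv, Matrix.mulVec_smul, hPa]
  have h9 : Matrix.diagonal d *ᵥ a = e (Fin.last 7) • a := by
    have cancel : ∀ u : V7, C *ᵥ (P *ᵥ u) = u := fun u => by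
      rw [Matrix.mulVec_mulVec, cp, Matrix.one_mulVec]
    rw [← cancel (Matrix.diagonal d *ᵥ a), h8, cancel]
  have h10 : ∀ j : Fin 7, d j = e (Fin.last 7) := by
    intro j
    have h11 := congrFun h9 j
    rw [Matrix.mulVec_diagonal, Pi.smul_apply, smul_eq_mul] at h11
    haveI : Fact (Nat.Prime 11) := ⟨by norm_num⟩
    exact mul_right_cancel₀ (nz j) h11
  have h12 : G * P = e (Fin.last 7) • P := by
    rw [hGP]
    ext i j
    rw [Matrix.mul_diagonal, Matrix.smul_apply, smul_eq_mul, h10, mul_comm]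
  calc G = G * (P * C) := by rw [pc, Matrix.mul_one]
    _ = (G * P) * C := by rw [Matrix.mul_assoc]
    _ = e (Fin.last 7) • (1 : Matrix (Fin 7) (Fin 7) (ZMod 11)) := by rw [h12, Matrix.smul_mul, pc]

theorem scal_of_frame {P C : Matrix (Fin 7) (Fin 7) (ZMod 11)} {bf : Fin 8 → ℕ} (hF : Frame D LV P C bf) {g : GL7}
    {σ : Equiv.Perm (Fin D.N)} (h : LP D LV g σ)
    (hfix : ∀ b, b ∈ D.B → (hb : b < D.N) → σ ⟨b, hb⟩ = ⟨b, hb⟩) : IsScal g := by
  have hε : ∀ i : Fin 8, ∃ e : ZMod 11, (e = 1 ∨ e = -1) ∧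
      (g : Matrix (Fin 7) (Fin 7) (ZMod 11)) *ᵥ vL LV (bf i) = e • vL LV (bf i) := by
    intro i
    have h1 := h ⟨bf i, hF.lt i⟩
    rw [hfix _ (hF.mem i) (hF.lt i)] at h1
    rcases h1 with e | e
    · exact ⟨1, Or.inl rfl, by rw [one_smul]; exact e⟩
    · exact ⟨-1, Or.inr rfl, by rw [neg_smul, one_smul]; exact e⟩
  choose e he hv using hε
  have h13 := scal_core (w := fun i => vL LV (bf i)) (e := e) (fun j i => hF.col j i) hF.cp hF.pc hF.nz hv
  rcases he (Fin.last 7) with h14 | h14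
  · left
    rw [h13, h14, one_smul]
  · right
    rw [h13, h14, neg_smul, one_smul]

/-- a lift of faithfulness -/
theorem faith_of_frame (hLV : ∀ p, p < D.N → lvY D.N LV p = true) {P C : Matrix (Fin 7) (Fin 7) (ZMod 11)} {bf : Fin 8 → ℕ}
    (hF : Frame D LV P C bf)
    (hB : baseOK D = true) {g : GL7} {σ : Equiv.Perm (Fin D.N)} (h : LP D LV g σ)
    (hfix : enc D σ = D.B) : σ = 1 := by
  have h1 : ∀ b, b ∈ D.B → (hb : b < D.N) → σ ⟨b, hb⟩ = ⟨b, hb⟩ := by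
    intro b hb hlt
    have h2 : ∀ l : List ℕ, b ∈ l → l.map (pv σ) = l → pv σ b = b := by
      intro l
      induction l with
      | nil => simp
      | cons a l ih =>
        intro h3 h4
        simp only [List.map_cons, List.cons.injEq] at h4
        rcases List.mem_cons.1 h3 with h5 | h5
        · rw [h5]; exact h4.1
        · exact ih h5 h4.2
    have h3 := h2 D.B hb hfix
    simp only [pv, dif_pos hlt] at h3
    have h4 : σ⁻¹ ⟨b, hlt⟩ = ⟨b, hlt⟩ := Fin.ext h3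
    rw [Equiv.Perm.inv_eq_iff_eq] at h4
    exact h4.symm
  exact LP_of_scal hLV (scal_of_frame hF h h1) h

/-- a sifted element of the enveloping group lies in the group of the chain -/
theorem mem_of_sift (hC : Cert D) (hLV : ∀ p, p < D.N → lvY D.N LV p = true) {P C : Matrix (Fin 7) (Fin 7) (ZMod 11)} {bf : Fin 8 → ℕ}
    (hF : Frame D LV P C bf)
    {g : GL7} {σ : Equiv.Perm (Fin D.N)} (hg : LP D LV g σ) (hK : ∀ τ ∈ KK D 0, ∃ g', LP D LV g' τ)
    (hs : sift (cd D) D.k 0 (enc D σ) = true) : σ ∈ KK D 0 := by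
  obtain ⟨h, hh, e⟩ := sift_exists hC.sem hC.checked D.k 0 rfl σ hs
  have e2 : enc D (σ * h⁻¹) = D.B := leq_sound _ _ e
  obtain ⟨g', hg'⟩ := hK h hh
  have h3 : σ * h⁻¹ = 1 := faith_of_frame hLV hF hC.base (LP_mul hg (LP_inv hg')) e2
  have h4 : σ = h := by
    rw [mul_inv_eq_one] at h3
    exact h3
  rw [h4]
  exact hh

/-- A matrix checked on the lines -/
theorem lp_of_line {R : ℕ → ℕ → ℕ} {x : ℕ} (hL : lettersOK D) (h : RangeOK (lineY D LV R x) 0 D.N)
    {g : GL7} (hg : (g : Matrix (Fin 7) (Fin 7) (ZMod 11)) = matR R) : LP D LV g (gp D x)⁻¹ := by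
  intro p
  have h1 := h p (Nat.zero_le _) p.2
  simp only [lineY, Bool.or_eq_true] at h1
  have e1 : (((gp D x)⁻¹ p : Fin D.N) : ℕ) = letter D x p := gp_inv_apply hL x p
  have e2 : vL LV ((gp D x)⁻¹ p : Fin D.N) = vec7 (LV (letter D x p)) := by
    unfold vL
    rw [e1]
  rw [hg, e2]
  rcases h1 with h1 | h1
  · left
    funext i
    have h2 := eq7_spec h1 i
    show (matR R *ᵥ vec7 (LV p)) i = ((dg (LV (letter D x p)) i : ℕ) : ZMod 11)
    rw [matR_mulVec, h2]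
  · right
    rw [← vec7_negc]
    funext i
    have h2 := eq7_spec h1 i
    show (matR R *ᵥ vec7 (LV p)) i = ((dg (negc (LV (letter D x p))) i : ℕ) : ZMod 11)
    rw [matR_mulVec, h2]

end

end Cfsg.Agent.Lib.J1Line
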