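import Cfsg.Agent.Lib.J1VD
set_option autoImplicit false
set_option maxRecDepth 1000000
namespace Cfsg.Agent.Lib.J1VD
open Cfsg.Agent.Lib.PChain Cfsg.Agent.Lib.PermChain Cfsg.Agent.Lib.PermChain2 Cfsg.Agent.Lib.PermChain6 Cfsg.Agent.Lib.PermChain7 Cfsg.Agent.Lib.J1Line

theorem cL_0 : allR (letterY dD) 0 1 = true := by decide +kernel
theorem cL_1 : allR (letterY dD) 1 2 = true := by decide +kernel
theorem cL_2 : allR (letterY dD) 2 3 = true := by decide +kernel
theorem cL_3 : allR (letterY dD) 3 4 = true := by decide +kernel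
theorem cL_4 : allR (letterY dD) 4 5 = true := by decide +kernel
theorem cL_5 : allR (letterY dD) 5 6 = true := by decide +kernel
theorem cL_6 : allR (letterY dD) 6 7 = true := by decide +kernel
theorem cL_7 : allR (letterY dD) 7 8 = true := by decide +kernel
theorem cL_8 : allR (letterY dD) 8 9 = true := by decide +kernel
theorem cL_9 : allR (letterY dD) 9 10 = true := by decide +kernel
theorem cL_10 : allR (letterY dD) 10 11 = true := by decide +kernel
theorem cL_11 : allR (letterY dD) 11 12 = true := by decide +kernel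
theorem cL : RangeOK (letterY dD) 0 12 := ((((((((((((RangeOK.of_allR cL_0)).trans (RangeOK.of_allR cL_1)).trans (RangeOK.of_allR cL_2)).trans (RangeOK.of_allR cL_3)).trans (RangeOK.of_allR cL_4)).trans (RangeOK.of_allR cL_5)).trans (RangeOK.of_allR cL_6)).trans (RangeOK.of_allR cL_7)).trans (RangeOK.of_allR cL_8)).trans (RangeOK.of_allR cL_9)).trans (RangeOK.of_allR cL_10)).trans (RangeOK.of_allR cL_11)
theorem cB : baseOK dD = true := by decide +kernel
theorem cN : numOK dD = true := by decide +kernel
theorem cS' : shapeOK (cd dD) = true := by decide +kernel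
theorem cH0_0 : allR (hwY dD 0) 2 3 = true := by decide +kernel
theorem cH0_1 : allR (hwY dD 0) 3 4 = true := by decide +kernel
theorem cH0 : RangeOK (hwY dD 0) 2 4 := ((RangeOK.of_allR cH0_0)).trans (RangeOK.of_allR cH0_1)
theorem cH : hwAll dD := by
  intro j hj
  have hj' : j < 2 := hj
  interval_cases j
  · exact cH0
  · exact RangeOK.nil _ _
theorem cV0_0 : allR (levelP (cd dD) 0) 0 256 = true := by decide +kernel
theorem cV0_1 : allR (levelP (cd dD) 0) 256 512 = true := by decide +kernel
theorem cV0_2 : allR (levelP (cd dD) 0) 512 768 = true := by decide +kernel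
theorem cV0_3 : allR (levelP (cd dD) 0) 768 1024 = true := by decide +kernel
theorem cV0_4 : allR (levelP (cd dD) 0) 1024 1280 = true := by decide +kernel
theorem cV0_5 : allR (levelP (cd dD) 0) 1280 1536 = true := by decide +kernel
theorem cV0_6 : allR (levelP (cd dD) 0) 1536 1540 = true := by decide +kernel
theorem cV0 : RangeOK (levelP (cd dD) 0) 0 1540 := (((((((RangeOK.of_allR cV0_0)).trans (RangeOK.of_allR cV0_1)).trans (RangeOK.of_allR cV0_2)).trans (RangeOK.of_allR cV0_3)).trans (RangeOK.of_allR cV0_4)).trans (RangeOK.of_allR cV0_5)).trans (RangeOK.of_allR cV0_6)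
theorem cV1_0 : allR (levelP (cd dD) 1) 1540 1654 = true := by decide +kernel
theorem cV1 : RangeOK (levelP (cd dD) 1) 1540 1654 := (RangeOK.of_allR cV1_0)
theorem cV : ∀ j, j < dD.k → RangeOK (levelP (cd dD) j) (dD.off j) (dD.off (j + 1)) := by
  intro j hj
  have hj' : j < 2 := hj
  interval_cases j
  · exact cV0
  · exact cV1
theorem cLV_0 : allR (lvY dD.N LV) 0 1540 = true := by decide +kernel
theorem cLV : RangeOK (lvY dD.N LV) 0 1540 := (RangeOK.of_allR cLV_0)
theorem cLineX_0 : allR (lineY dD LV RX 8) 0 1540 = true := by decide +kernel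
theorem cLineX : RangeOK (lineY dD LV RX 8) 0 1540 := (RangeOK.of_allR cLineX_0)
theorem cLineY_0 : allR (lineY dD LV RY 10) 0 1540 = true := by decide +kernel
theorem cLineY : RangeOK (lineY dD LV RY 10) 0 1540 := (RangeOK.of_allR cLineY_0)
theorem cWx_0 : allR (fun p => Nat.beq (letter dD 0 p) (walk dD p wxL)) 0 1540 = true := by decide +kernel
theorem cWx : RangeOK (fun p => Nat.beq (letter dD 0 p) (walk dD p wxL)) 0 1540 := (RangeOK.of_allR cWx_0)
theorem cWy_0 : allR (fun p => Nat.beq (letter dD 1 p) (walk dD p wyL)) 0 1540 = true := by decide +kernel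
theorem cWy : RangeOK (fun p => Nat.beq (letter dD 1 p) (walk dD p wyL)) 0 1540 := (RangeOK.of_allR cWy_0)
theorem cSiftX : sift (cd dD) dD.k 0 (dD.B.map (letter dD 8)) = true := by decide +kernel
theorem cSiftY : sift (cd dD) dD.k 0 (dD.B.map (letter dD 10)) = true := by decide +kernel
theorem sT : transOK dD = true := by decide +kernel
theorem sF : subOK dD sS = true := by decide +kernel
theorem sR : rootsOK dD sS = true := by decide +kernel
theorem sV : trivOK dD sS = true := by decide +kernel
theorem sD : divOKb dD sS 78 = true := by decide +kernel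
theorem sE : exclOK dD sS 78 wET sET = true := by decide +kernel
theorem sP0_0 : allR (powY dD 7 0) 0 1540 = true := by decide +kernel
theorem sP0 : RangeOK (powY dD 7 0) 0 1540 := (RangeOK.of_allR sP0_0)
theorem sP1_0 : allR (powY dD 7 1) 0 1540 = true := by decide +kernel
theorem sP1 : RangeOK (powY dD 7 1) 0 1540 := (RangeOK.of_allR sP1_0)
theorem sP : powOK dD 7 := by
  intro x h1 h2
  have h1' : 0 ≤ x := h1
  have h2' : x < 2 := h2
  interval_cases x
  · exact sP0
  · exact sP1

end Cfsg.Agent.Lib.J1VD
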