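import Cfsg.Agent.Lib.J1VC
import Cfsg.Prelude.Def_Spor_J1
import Cfsg.Prelude.Def_Sporadic

/-! The group generated by the two matrices over the integers modulo 11 acts on 1540 lines; comparison with the chain. -/

set_option autoImplicit false
set_option linter.unusedSimpArgs false
set_option linter.unusedVariables false
set_option linter.style.haveILetI false
set_option maxRecDepth 100000

namespace Cfsg.Agent.Lib.J1VG

open Cfsg Cfsg.Spor Matrix
open Cfsg.Agent.Lib.PChain Cfsg.Agent.Lib.PermChain Cfsg.Agent.Lib.PermChain2 Cfsg.Agent.Lib.PermChain7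
open Cfsg.Agent.Lib.J1Line Cfsg.Agent.Lib.J1VD

abbrev lX : ℕ := 8
abbrev lY : ℕ := 10

/-- the frame -/
noncomputable def bf (i : Fin 8) : ℕ := bfL.getD i 0

theorem hL : lettersOK dD := cL

theorem hLV : ∀ p, p < dD.N → lvY dD.N LV p = true := fun p hp => cLV p (Nat.zero_le _) hp

theorem mX : jankoMatrixX = matR RX := by decide +kernel
theorem mY : jankoMatrixY = matR RY := by decide +kernel

theorem frameD : Frame dD LV (matR RP) (matR RC) bf where
  mem := by decide +kernel
  lt := by decide +kernel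
  col := by decide +kernel
  cp := by decide +kernel
  pc := by decide +kernel
  nz := by decide +kernel

theorem lpX : LP dD LV jankoX (gp dD lX)⁻¹ := lp_of_line hL cLineX mX
theorem lpY : LP dD LV jankoY (gp dD lY)⁻¹ := lp_of_line hL cLineY mY

theorem lpX' : LP dD LV jankoX⁻¹ (gp dD lX) := by
  have := LP_inv lpX
  rwa [inv_inv] at this

theorem lpY' : LP dD LV jankoY⁻¹ (gp dD lY) := by
  have := LP_inv lpY
  rwa [inv_inv] at this

/-- the group -/
abbrev Γ : Subgroup GL7 := Subgroup.closure {jankoX, jankoY}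

theorem X_mem : jankoX ∈ Γ := Subgroup.subset_closure (by simp)
theorem Y_mem : jankoY ∈ Γ := Subgroup.subset_closure (by simp)

theorem word_mem (l : List ℕ) (hl : ∀ x ∈ l, x = lX ∨ x = lY) :
    ∃ g ∈ Γ, LP dD LV g (evW dD l) := by
  induction l with
  | nil => exact ⟨1, one_mem _, LP_one⟩
  | cons x l ih =>
    obtain ⟨g, hg, hg'⟩ := ih (fun i hi => hl i (by simp [hi]))
    rcases hl x (by simp) with rfl | rfl
    · exact ⟨jankoX⁻¹ * g, mul_mem (inv_mem X_mem) hg, LP_mul lpX' hg'⟩
    · exact ⟨jankoY⁻¹ * g, mul_mem (inv_mem Y_mem) hg, LP_mul lpY' hg'⟩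

theorem gp_word {y : ℕ} {l : List ℕ} (h : RangeOK (fun p => Nat.beq (letter dD y p) (walk dD p l)) 0 dD.N) :
    gp dD y = evW dD l := by
  have h2 : (gp dD y)⁻¹ = (evW dD l)⁻¹ := by
    ext p
    rw [gp_inv_apply hL, evW_inv_apply hL]
    exact Nat.eq_of_beq_eq_true (h p (Nat.zero_le _) p.2)
  exact inv_inj.1 h2

theorem gp0 : gp dD 0 = evW dD wxL := gp_word cWx
theorem gp1 : gp dD 1 = evW dD wyL := gp_word cWy

theorem wx_letters : ∀ x ∈ wxL, x = lX ∨ x = lY := by
  have h : wxL.all (fun x => or (Nat.beq x lX) (Nat.beq x lY)) = true := by decide +kernel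
  intro x hx
  have h2 := List.all_eq_true.1 h x hx
  simpa using h2

theorem wy_letters : ∀ x ∈ wyL, x = lX ∨ x = lY := by
  have h : wyL.all (fun x => or (Nat.beq x lX) (Nat.beq x lY)) = true := by decide +kernel
  intro x hx
  have h2 := List.all_eq_true.1 h x hx
  simpa using h2

theorem lt1 : dD.lt 1 = 2 := by decide +kernel
theorem lt0 : dD.lt 0 = 0 := by decide +kernel

theorem gen_cases {x : ℕ} (h1 : dD.lt 0 ≤ x) (h2 : x < dD.lt (0 + 1)) : x = 0 ∨ x = 1 := by
  have h2' : x < dD.lt 1 := h2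
  rw [lt1] at h2'
  omega

theorem down : ∀ σ ∈ KK dD 0, ∃ g ∈ Γ, LP dD LV g σ := by
  intro τ hτ
  induction hτ using Subgroup.closure_induction with
  | mem y hy =>
    obtain ⟨x, ⟨h1, h2⟩, rfl⟩ := hy
    rcases gen_cases h1 h2 with rfl | rfl
    · rw [gp0]
      exact word_mem _ wx_letters
    · rw [gp1]
      exact word_mem _ wy_letters
  | one => exact ⟨1, one_mem _, LP_one⟩
  | mul a b _ _ ha hb =>
    obtain ⟨g, hg, hg1⟩ := ha
    obtain ⟨g', hg', hg1'⟩ := hb
    exact ⟨g * g', mul_mem hg hg', LP_mul hg1 hg1'⟩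
  | inv a _ ha =>
    obtain ⟨g, hg, hg1⟩ := ha
    exact ⟨g⁻¹, inv_mem hg, LP_inv hg1⟩

theorem hK : ∀ τ ∈ KK dD 0, ∃ g : GL7, LP dD LV g τ := by
  intro τ hτ
  obtain ⟨g, -, h⟩ := down τ hτ
  exact ⟨g, h⟩

theorem cert : Cert dD where
  letters := hL
  base := cB
  hw := cH
  num := cN
  shape := cS'
  levels := cV
  faith := by
    intro g hg he
    obtain ⟨g', hg'⟩ := hK g hg
    exact faith_of_frame hLV frameD cB hg' he

theorem gpX_mem : gp dD lX ∈ KK dD 0 := by
  refine mem_of_sift cert hLV frameD lpX' hK ?_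
  rw [F9Line.enc_gp hL cB]
  exact cSiftX

theorem gpY_mem : gp dD lY ∈ KK dD 0 := by
  refine mem_of_sift cert hLV frameD lpY' hK ?_
  rw [F9Line.enc_gp hL cB]
  exact cSiftY

theorem up : ∀ g ∈ Γ, ∃ σ ∈ KK dD 0, LP dD LV g σ := by
  intro g hg
  induction hg using Subgroup.closure_induction with
  | mem y hy =>
    rcases hy with rfl | rfl
    · exact ⟨_, inv_mem gpX_mem, lpX⟩
    · exact ⟨_, inv_mem gpY_mem, lpY⟩
  | one => exact ⟨1, one_mem _, LP_one⟩
  | mul a b _ _ ha hb =>
    obtain ⟨g, hg, hg1⟩ := ha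
    obtain ⟨g', hg', hg1'⟩ := hb
    exact ⟨g * g', mul_mem hg hg', LP_mul hg1 hg1'⟩
  | inv a _ ha =>
    obtain ⟨g, hg, hg1⟩ := ha
    exact ⟨g⁻¹, inv_mem hg, LP_inv hg1⟩

/-- the homomorphism to the permutations of the lines -/
noncomputable def phi : Γ →* KK dD 0 where
  toFun g := ⟨Classical.choose (up g g.2), (Classical.choose_spec (up g g.2)).1⟩
  map_one' := by
    apply Subtype.ext
    exact LP_unique hLV (Classical.choose_spec (up (1 : Γ) (1 : Γ).2)).2 LP_one
  map_mul' a b := by
    apply Subtype.ext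
    exact LP_unique hLV (Classical.choose_spec (up (a * b : Γ) (a * b : Γ).2)).2
      (LP_mul (Classical.choose_spec (up a a.2)).2 (Classical.choose_spec (up b b.2)).2)

theorem phi_spec (g : Γ) : LP dD LV (g : GL7) (phi g : Equiv.Perm (Fin dD.N)) :=
  (Classical.choose_spec (up g g.2)).2

theorem phi_surj : Function.Surjective phi := by
  rintro ⟨σ, hσ⟩
  obtain ⟨g, hg, h⟩ := down σ hσ
  refine ⟨⟨g, hg⟩, Subtype.ext ?_⟩
  exact LP_unique hLV (phi_spec ⟨g, hg⟩) h

theorem x7 : jankoMatrixX * jankoMatrixX * jankoMatrixX * jankoMatrixX * jankoMatrixX * jankoMatrixX * jankoMatrixX = 1 := by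
  decide +kernel

theorem y5 : jankoMatrixY * jankoMatrixY * jankoMatrixY * jankoMatrixY * jankoMatrixY = 1 := by
  decide +kernel

theorem xt : jankoMatrixX * jankoMatrixX.transpose = 1 := by decide +kernel
theorem yt : jankoMatrixY * jankoMatrixY.transpose = 1 := by decide +kernel

theorem sq_eq {M : Matrix (Fin 7) (Fin 7) (ZMod 11)} (h : M * M.transpose = 1) : M.det * M.det = 1 := by
  have h1 := congrArg Matrix.det h
  rwa [Matrix.det_mul, Matrix.det_transpose, Matrix.det_one] at h1

theorem det_X : jankoMatrixX.det = 1 := by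
  have h1 := sq_eq xt
  have h2 := congrArg Matrix.det x7
  simp only [Matrix.det_mul, Matrix.det_one] at h2
  generalize jankoMatrixX.det = d at h1 h2
  calc d = d * (d * d) * (d * d) * (d * d) := by rw [h1]; ring
    _ = 1 := by rw [← h2]; ring

theorem det_Y : jankoMatrixY.det = 1 := by
  have h1 := sq_eq yt
  have h2 := congrArg Matrix.det y5
  simp only [Matrix.det_mul, Matrix.det_one] at h2
  generalize jankoMatrixY.det = d at h1 h2
  calc d = d * (d * d) * (d * d) := by rw [h1]; ring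
    _ = 1 := by rw [← h2]; ring

theorem det_one_of_mem {g : GL7} (hg : g ∈ Γ) : (g : Matrix (Fin 7) (Fin 7) (ZMod 11)).det = 1 := by
  induction hg using Subgroup.closure_induction with
  | mem y hy =>
    rcases hy with rfl | rfl
    · exact det_X
    · exact det_Y
  | one => simp
  | mul a b _ _ ha hb =>
    show ((a : Matrix (Fin 7) (Fin 7) (ZMod 11)) * (b : Matrix (Fin 7) (Fin 7) (ZMod 11))).det = 1
    rw [Matrix.det_mul, ha, hb, one_mul]
  | inv a _ ha =>
    have h1 : ((a⁻¹ : GL7) : Matrix (Fin 7) (Fin 7) (ZMod 11)) * (a : Matrix (Fin 7) (Fin 7) (ZMod 11)) = 1 := by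
      have := congrArg Units.val (inv_mul_cancel a)
      simpa using this
    have h2 := congrArg Matrix.det h1
    rw [Matrix.det_mul, ha, mul_one, Matrix.det_one] at h2
    exact h2

theorem det_neg_one : (-1 : Matrix (Fin 7) (Fin 7) (ZMod 11)).det = -1 := by
  rw [Matrix.det_neg, Matrix.det_one]
  decide

theorem ne_neg : (-1 : ZMod 11) ≠ 1 := by decide

theorem phi_inj : Function.Injective phi := by
  rw [injective_iff_map_eq_one]
  intro g hg
  have h1 := phi_spec g
  rw [hg] at h1
  have h2 : LP dD LV (g : GL7) 1 := h1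
  have h3 : IsScal (g : GL7) := scal_of_frame frameD h2 (fun b _ hb => rfl)
  rcases h3 with h3 | h3
  · apply Subtype.ext
    apply Units.ext
    exact h3
  · exfalso
    have h4 := det_one_of_mem g.2
    rw [h3, det_neg_one] at h4
    exact ne_neg h4

/-- the comparison -/
noncomputable def iso : Γ ≃* KK dD 0 := MulEquiv.ofBijective phi ⟨phi_inj, phi_surj⟩

theorem hk0 : 0 < dD.k := by decide +kernel
theorem hb0 : dD.B.getD 0 0 = 0 := by decide +kernel
theorem hlen : 0 < dD.B.length := by decide +kernel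
theorem hN0 : 0 < dD.N := by decide +kernel
theorem hN1 : 1 < dD.N := by decide +kernel

theorem card_K0 : Nat.card (KK dD 0) = 175560 := by
  have h := (cert.card (r := 2) (j := 0) (by decide +kernel)).2
  rw [h]
  decide +kernel

theorem card_K1 : Nat.card (KK dD 1) = 114 := by
  have h := (cert.card (r := 1) (j := 1) (by decide +kernel)).2
  rw [h]
  decide +kernel

theorem simple_K0 : IsSimpleGroup (KK dD 0) := by
  refine simple_bd (S := sS) (bd := 78) cert hk0 hb0 hlen hN0 sT sF sR sV sD hN1 sE (p := 7) (e := 1) (by norm_num) ?_ ?_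
  · rw [pow_one]
    exact sP
  · rw [card_K1]
    norm_num

theorem isJ1 : Cfsg.IsJ1 Γ := by
  constructor
  · haveI := simple_K0
    exact iso.isSimpleGroup
  · rw [Nat.card_congr iso.toEquiv, card_K0]

end Cfsg.Agent.Lib.J1VG
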