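import Cfsg.Agent.Lib.J3VV0
import Cfsg.Agent.Lib.J3VV1
import Cfsg.Agent.Lib.J3VV2
set_option autoImplicit false
set_option maxRecDepth 1000000
namespace Cfsg.Agent.Lib.J3VD
open Cfsg.Agent.Lib.PChain Cfsg.Agent.Lib.PermChain Cfsg.Agent.Lib.PermChain2 Cfsg.Agent.Lib.PermChain6 Cfsg.Agent.Lib.F9Code Cfsg.Agent.Lib.F9Line

theorem cV0 : RangeOK (levelP (cd dD) 0) 0 23256 := (((((((((((((((((((((((((((((((((((((((((((((((((((((((((((((((((((((((((((((((((((((((((((RangeOK.of_allR cV0_0)).trans (RangeOK.of_allR cV0_1)).trans (RangeOK.of_allR cV0_2)).trans (RangeOK.of_allR cV0_3)).trans (RangeOK.of_allR cV0_4)).trans (RangeOK.of_allR cV0_5)).trans (RangeOK.of_allR cV0_6)).trans (RangeOK.of_allR cV0_7)).trans (RangeOK.of_allR cV0_8)).trans (RangeOK.of_allR cV0_9)).trans (RangeOK.of_allR cV0_10)).trans (RangeOK.of_allR cV0_11)).trans (RangeOK.of_allR cV0_12)).trans (RangeOK.of_allR cV0_13)).trans (RangeOK.of_allR cV0_14)).trans (RangeOK.of_allR cV0_15)).trans (RangeOK.of_allR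 cV0_16)).trans (RangeOK.of_allR cV0_17)).trans (RangeOK.of_allR cV0_18)).trans (RangeOK.of_allR cV0_19)).trans (RangeOK.of_allR cV0_20)).trans (RangeOK.of_allR cV0_21)).trans (RangeOK.of_allR cV0_22)).trans (RangeOK.of_allR cV0_23)).trans (RangeOK.of_allR cV0_24)).trans (RangeOK.of_allR cV0_25)).trans (RangeOK.of_allR cV0_26)).trans (RangeOK.of_allR cV0_27)).trans (RangeOK.of_allR cV0_28)).trans (RangeOK.of_allR cV0_29)).trans (RangeOK.of_allR cV0_30)).trans (RangeOK.of_allR cV0_31)).trans (RangeOK.of_allR cV0_32)).trans (RangeOK.of_allR cV0_33)).trans (RangeOK.of_allR cV0_34)).trans (RangeOK.of_allR cV0_35)).trans (RangeOK.of_allR cV0_36)).trans (RangeOK.of_allR cV0_37)).trans (RangeOK.of_allR cV0_38)).trans (RangeOK.of_allR cV0_39)).trans (RangeOK.of_allR cV0_40)).trans (RangeOK.of_allR cV0_41)).trans (RangeOK.of_allR cV0_42)).trans (RangeOK.of_allR cV0_43)).trans (RangeOK.of_allR cV0_44)).trans (RangeOK.of_allR cV0_45)).trans (RangeOK.of_allR cV0_46)).trans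 (RangeOK.of_allR cV0_47)).trans (RangeOK.of_allR cV0_48)).trans (RangeOK.of_allR cV0_49)).trans (RangeOK.of_allR cV0_50)).trans (RangeOK.of_allR cV0_51)).trans (RangeOK.of_allR cV0_52)).trans (RangeOK.of_allR cV0_53)).trans (RangeOK.of_allR cV0_54)).trans (RangeOK.of_allR cV0_55)).trans (RangeOK.of_allR cV0_56)).trans (RangeOK.of_allR cV0_57)).trans (RangeOK.of_allR cV0_58)).trans (RangeOK.of_allR cV0_59)).trans (RangeOK.of_allR cV0_60)).trans (RangeOK.of_allR cV0_61)).trans (RangeOK.of_allR cV0_62)).trans (RangeOK.of_allR cV0_63)).trans (RangeOK.of_allR cV0_64)).trans (RangeOK.of_allR cV0_65)).trans (RangeOK.of_allR cV0_66)).trans (RangeOK.of_allR cV0_67)).trans (RangeOK.of_allR cV0_68)).trans (RangeOK.of_allR cV0_69)).trans (RangeOK.of_allR cV0_70)).trans (RangeOK.of_allR cV0_71)).trans (RangeOK.of_allR cV0_72)).trans (RangeOK.of_allR cV0_73)).trans (RangeOK.of_allR cV0_74)).trans (RangeOK.of_allR cV0_75)).trans (RangeOK.of_allR cV0_76)).trans (RangeOK.of_allR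 cV0_77)).trans (RangeOK.of_allR cV0_78)).trans (RangeOK.of_allR cV0_79)).trans (RangeOK.of_allR cV0_80)).trans (RangeOK.of_allR cV0_81)).trans (RangeOK.of_allR cV0_82)).trans (RangeOK.of_allR cV0_83)).trans (RangeOK.of_allR cV0_84)).trans (RangeOK.of_allR cV0_85)).trans (RangeOK.of_allR cV0_86)).trans (RangeOK.of_allR cV0_87)).trans (RangeOK.of_allR cV0_88)).trans (RangeOK.of_allR cV0_89)).trans (RangeOK.of_allR cV0_90)
theorem cV1_0 : allR (levelP (cd dD) 1) 23256 23512 = true := by decide +kernel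
theorem cV1_1 : allR (levelP (cd dD) 1) 23512 23768 = true := by decide +kernel
theorem cV1_2 : allR (levelP (cd dD) 1) 23768 24024 = true := by decide +kernel
theorem cV1_3 : allR (levelP (cd dD) 1) 24024 24280 = true := by decide +kernel
theorem cV1_4 : allR (levelP (cd dD) 1) 24280 24536 = true := by decide +kernel
theorem cV1_5 : allR (levelP (cd dD) 1) 24536 24792 = true := by decide +kernel
theorem cV1_6 : allR (levelP (cd dD) 1) 24792 25048 = true := by decide +kernel
theorem cV1_7 : allR (levelP (cd dD) 1) 25048 25304 = true := by decide +kernel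
theorem cV1_8 : allR (levelP (cd dD) 1) 25304 25416 = true := by decide +kernel
theorem cV1 : RangeOK (levelP (cd dD) 1) 23256 25416 := (((((((((RangeOK.of_allR cV1_0)).trans (RangeOK.of_allR cV1_1)).trans (RangeOK.of_allR cV1_2)).trans (RangeOK.of_allR cV1_3)).trans (RangeOK.of_allR cV1_4)).trans (RangeOK.of_allR cV1_5)).trans (RangeOK.of_allR cV1_6)).trans (RangeOK.of_allR cV1_7)).trans (RangeOK.of_allR cV1_8)
theorem cV : ∀ j, j < dD.k → RangeOK (levelP (cd dD) j) (dD.off j) (dD.off (j + 1)) := by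
  intro j hj
  have hj' : j < 2 := hj
  interval_cases j
  · exact cV0
  · exact cV1

end Cfsg.Agent.Lib.J3VD
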