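import Cfsg.Agent.Lib.J3VD
set_option autoImplicit false
set_option maxRecDepth 1000000
namespace Cfsg.Agent.Lib.J3VD
open Cfsg.Agent.Lib.PChain Cfsg.Agent.Lib.PermChain Cfsg.Agent.Lib.PermChain2 Cfsg.Agent.Lib.PermChain6 Cfsg.Agent.Lib.F9Code Cfsg.Agent.Lib.F9Line

theorem cLine0_0 : allR (lineY dD LV (cS 8) 8) 0 2048 = true := by decide +kernel
theorem cLine0_1 : allR (lineY dD LV (cS 8) 8) 2048 4096 = true := by decide +kernel
theorem cLine0_2 : allR (lineY dD LV (cS 8) 8) 4096 6144 = true := by decide +kernel
theorem cLine0_3 : allR (lineY dD LV (cS 8) 8) 6144 8192 = true := by decide +kernel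
theorem cLine0_4 : allR (lineY dD LV (cS 8) 8) 8192 10240 = true := by decide +kernel
theorem cLine0_5 : allR (lineY dD LV (cS 8) 8) 10240 12288 = true := by decide +kernel
theorem cLine0_6 : allR (lineY dD LV (cS 8) 8) 12288 14336 = true := by decide +kernel
theorem cLine0_7 : allR (lineY dD LV (cS 8) 8) 14336 16384 = true := by decide +kernel
theorem cLine0_8 : allR (lineY dD LV (cS 8) 8) 16384 18432 = true := by decide +kernel
theorem cLine0_9 : allR (lineY dD LV (cS 8) 8) 18432 20480 = true := by decide +kernel
theorem cLine0_10 : allR (lineY dD LV (cS 8) 8) 20480 22528 = true := by decide +kernel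
theorem cLine0_11 : allR (lineY dD LV (cS 8) 8) 22528 23256 = true := by decide +kernel
theorem cLine0 : RangeOK (lineY dD LV (cS 8) 8) 0 23256 := ((((((((((((RangeOK.of_allR cLine0_0)).trans (RangeOK.of_allR cLine0_1)).trans (RangeOK.of_allR cLine0_2)).trans (RangeOK.of_allR cLine0_3)).trans (RangeOK.of_allR cLine0_4)).trans (RangeOK.of_allR cLine0_5)).trans (RangeOK.of_allR cLine0_6)).trans (RangeOK.of_allR cLine0_7)).trans (RangeOK.of_allR cLine0_8)).trans (RangeOK.of_allR cLine0_9)).trans (RangeOK.of_allR cLine0_10)).trans (RangeOK.of_allR cLine0_11)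
theorem cLine1_0 : allR (lineY dD LV (cS 10) 10) 0 2048 = true := by decide +kernel
theorem cLine1_1 : allR (lineY dD LV (cS 10) 10) 2048 4096 = true := by decide +kernel
theorem cLine1_2 : allR (lineY dD LV (cS 10) 10) 4096 6144 = true := by decide +kernel
theorem cLine1_3 : allR (lineY dD LV (cS 10) 10) 6144 8192 = true := by decide +kernel
theorem cLine1_4 : allR (lineY dD LV (cS 10) 10) 8192 10240 = true := by decide +kernel
theorem cLine1_5 : allR (lineY dD LV (cS 10) 10) 10240 12288 = true := by decide +kernel
theorem cLine1_6 : allR (lineY dD LV (cS 10) 10) 12288 14336 = true := by decide +kernel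
theorem cLine1_7 : allR (lineY dD LV (cS 10) 10) 14336 16384 = true := by decide +kernel
theorem cLine1_8 : allR (lineY dD LV (cS 10) 10) 16384 18432 = true := by decide +kernel
theorem cLine1_9 : allR (lineY dD LV (cS 10) 10) 18432 20480 = true := by decide +kernel
theorem cLine1_10 : allR (lineY dD LV (cS 10) 10) 20480 22528 = true := by decide +kernel
theorem cLine1_11 : allR (lineY dD LV (cS 10) 10) 22528 23256 = true := by decide +kernel
theorem cLine1 : RangeOK (lineY dD LV (cS 10) 10) 0 23256 := ((((((((((((RangeOK.of_allR cLine1_0)).trans (RangeOK.of_allR cLine1_1)).trans (RangeOK.of_allR cLine1_2)).trans (RangeOK.of_allR cLine1_3)).trans (RangeOK.of_allR cLine1_4)).trans (RangeOK.of_allR cLine1_5)).trans (RangeOK.of_allR cLine1_6)).trans (RangeOK.of_allR cLine1_7)).trans (RangeOK.of_allR cLine1_8)).trans (RangeOK.of_allR cLine1_9)).trans (RangeOK.of_allR cLine1_10)).trans (RangeOK.of_allR cLine1_11)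
theorem cLine2_0 : allR (lineY dD LV (cS 12) 12) 0 2048 = true := by decide +kernel
theorem cLine2_1 : allR (lineY dD LV (cS 12) 12) 2048 4096 = true := by decide +kernel
theorem cLine2_2 : allR (lineY dD LV (cS 12) 12) 4096 6144 = true := by decide +kernel
theorem cLine2_3 : allR (lineY dD LV (cS 12) 12) 6144 8192 = true := by decide +kernel
theorem cLine2_4 : allR (lineY dD LV (cS 12) 12) 8192 10240 = true := by decide +kernel
theorem cLine2_5 : allR (lineY dD LV (cS 12) 12) 10240 12288 = true := by decide +kernel
theorem cLine2_6 : allR (lineY dD LV (cS 12) 12) 12288 14336 = true := by decide +kernel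
theorem cLine2_7 : allR (lineY dD LV (cS 12) 12) 14336 16384 = true := by decide +kernel
theorem cLine2_8 : allR (lineY dD LV (cS 12) 12) 16384 18432 = true := by decide +kernel
theorem cLine2_9 : allR (lineY dD LV (cS 12) 12) 18432 20480 = true := by decide +kernel
theorem cLine2_10 : allR (lineY dD LV (cS 12) 12) 20480 22528 = true := by decide +kernel
theorem cLine2_11 : allR (lineY dD LV (cS 12) 12) 22528 23256 = true := by decide +kernel
theorem cLine2 : RangeOK (lineY dD LV (cS 12) 12) 0 23256 := ((((((((((((RangeOK.of_allR cLine2_0)).trans (RangeOK.of_allR cLine2_1)).trans (RangeOK.of_allR cLine2_2)).trans (RangeOK.of_allR cLine2_3)).trans (RangeOK.of_allR cLine2_4)).trans (RangeOK.of_allR cLine2_5)).trans (RangeOK.of_allR cLine2_6)).trans (RangeOK.of_allR cLine2_7)).trans (RangeOK.of_allR cLine2_8)).trans (RangeOK.of_allR cLine2_9)).trans (RangeOK.of_allR cLine2_10)).trans (RangeOK.of_allR cLine2_11)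
theorem cLine3_0 : allR (lineY dD LV (cS 14) 14) 0 2048 = true := by decide +kernel
theorem cLine3_1 : allR (lineY dD LV (cS 14) 14) 2048 4096 = true := by decide +kernel
theorem cLine3_2 : allR (lineY dD LV (cS 14) 14) 4096 6144 = true := by decide +kernel
theorem cLine3_3 : allR (lineY dD LV (cS 14) 14) 6144 8192 = true := by decide +kernel
theorem cLine3_4 : allR (lineY dD LV (cS 14) 14) 8192 10240 = true := by decide +kernel
theorem cLine3_5 : allR (lineY dD LV (cS 14) 14) 10240 12288 = true := by decide +kernel
theorem cLine3_6 : allR (lineY dD LV (cS 14) 14) 12288 14336 = true := by decide +kernel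
theorem cLine3_7 : allR (lineY dD LV (cS 14) 14) 14336 16384 = true := by decide +kernel
theorem cLine3_8 : allR (lineY dD LV (cS 14) 14) 16384 18432 = true := by decide +kernel
theorem cLine3_9 : allR (lineY dD LV (cS 14) 14) 18432 20480 = true := by decide +kernel
theorem cLine3_10 : allR (lineY dD LV (cS 14) 14) 20480 22528 = true := by decide +kernel
theorem cLine3_11 : allR (lineY dD LV (cS 14) 14) 22528 23256 = true := by decide +kernel
theorem cLine3 : RangeOK (lineY dD LV (cS 14) 14) 0 23256 := ((((((((((((RangeOK.of_allR cLine3_0)).trans (RangeOK.of_allR cLine3_1)).trans (RangeOK.of_allR cLine3_2)).trans (RangeOK.of_allR cLine3_3)).trans (RangeOK.of_allR cLine3_4)).trans (RangeOK.of_allR cLine3_5)).trans (RangeOK.of_allR cLine3_6)).trans (RangeOK.of_allR cLine3_7)).trans (RangeOK.of_allR cLine3_8)).trans (RangeOK.of_allR cLine3_9)).trans (RangeOK.of_allR cLine3_10)).trans (RangeOK.of_allR cLine3_11)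
theorem cLine4_0 : allR (lineY dD LV (cS 16) 16) 0 2048 = true := by decide +kernel
theorem cLine4_1 : allR (lineY dD LV (cS 16) 16) 2048 4096 = true := by decide +kernel
theorem cLine4_2 : allR (lineY dD LV (cS 16) 16) 4096 6144 = true := by decide +kernel
theorem cLine4_3 : allR (lineY dD LV (cS 16) 16) 6144 8192 = true := by decide +kernel
theorem cLine4_4 : allR (lineY dD LV (cS 16) 16) 8192 10240 = true := by decide +kernel
theorem cLine4_5 : allR (lineY dD LV (cS 16) 16) 10240 12288 = true := by decide +kernel
theorem cLine4_6 : allR (lineY dD LV (cS 16) 16) 12288 14336 = true := by decide +kernel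
theorem cLine4_7 : allR (lineY dD LV (cS 16) 16) 14336 16384 = true := by decide +kernel
theorem cLine4_8 : allR (lineY dD LV (cS 16) 16) 16384 18432 = true := by decide +kernel
theorem cLine4_9 : allR (lineY dD LV (cS 16) 16) 18432 20480 = true := by decide +kernel
theorem cLine4_10 : allR (lineY dD LV (cS 16) 16) 20480 22528 = true := by decide +kernel
theorem cLine4_11 : allR (lineY dD LV (cS 16) 16) 22528 23256 = true := by decide +kernel
theorem cLine4 : RangeOK (lineY dD LV (cS 16) 16) 0 23256 := ((((((((((((RangeOK.of_allR cLine4_0)).trans (RangeOK.of_allR cLine4_1)).trans (RangeOK.of_allR cLine4_2)).trans (RangeOK.of_allR cLine4_3)).trans (RangeOK.of_allR cLine4_4)).trans (RangeOK.of_allR cLine4_5)).trans (RangeOK.of_allR cLine4_6)).trans (RangeOK.of_allR cLine4_7)).trans (RangeOK.of_allR cLine4_8)).trans (RangeOK.of_allR cLine4_9)).trans (RangeOK.of_allR cLine4_10)).trans (RangeOK.of_allR cLine4_11)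
theorem cLine5_0 : allR (lineY dD LV (cS 18) 18) 0 2048 = true := by decide +kernel
theorem cLine5_1 : allR (lineY dD LV (cS 18) 18) 2048 4096 = true := by decide +kernel
theorem cLine5_2 : allR (lineY dD LV (cS 18) 18) 4096 6144 = true := by decide +kernel
theorem cLine5_3 : allR (lineY dD LV (cS 18) 18) 6144 8192 = true := by decide +kernel
theorem cLine5_4 : allR (lineY dD LV (cS 18) 18) 8192 10240 = true := by decide +kernel
theorem cLine5_5 : allR (lineY dD LV (cS 18) 18) 10240 12288 = true := by decide +kernel
theorem cLine5_6 : allR (lineY dD LV (cS 18) 18) 12288 14336 = true := by decide +kernel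
theorem cLine5_7 : allR (lineY dD LV (cS 18) 18) 14336 16384 = true := by decide +kernel
theorem cLine5_8 : allR (lineY dD LV (cS 18) 18) 16384 18432 = true := by decide +kernel
theorem cLine5_9 : allR (lineY dD LV (cS 18) 18) 18432 20480 = true := by decide +kernel
theorem cLine5_10 : allR (lineY dD LV (cS 18) 18) 20480 22528 = true := by decide +kernel
theorem cLine5_11 : allR (lineY dD LV (cS 18) 18) 22528 23256 = true := by decide +kernel
theorem cLine5 : RangeOK (lineY dD LV (cS 18) 18) 0 23256 := ((((((((((((RangeOK.of_allR cLine5_0)).trans (RangeOK.of_allR cLine5_1)).trans (RangeOK.of_allR cLine5_2)).trans (RangeOK.of_allR cLine5_3)).trans (RangeOK.of_allR cLine5_4)).trans (RangeOK.of_allR cLine5_5)).trans (RangeOK.of_allR cLine5_6)).trans (RangeOK.of_allR cLine5_7)).trans (RangeOK.of_allR cLine5_8)).trans (RangeOK.of_allR cLine5_9)).trans (RangeOK.of_allR cLine5_10)).trans (RangeOK.of_allR cLine5_11)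
theorem cLine6_0 : allR (lineY dD LV (cS 20) 20) 0 2048 = true := by decide +kernel
theorem cLine6_1 : allR (lineY dD LV (cS 20) 20) 2048 4096 = true := by decide +kernel
theorem cLine6_2 : allR (lineY dD LV (cS 20) 20) 4096 6144 = true := by decide +kernel
theorem cLine6_3 : allR (lineY dD LV (cS 20) 20) 6144 8192 = true := by decide +kernel
theorem cLine6_4 : allR (lineY dD LV (cS 20) 20) 8192 10240 = true := by decide +kernel
theorem cLine6_5 : allR (lineY dD LV (cS 20) 20) 10240 12288 = true := by decide +kernel
theorem cLine6_6 : allR (lineY dD LV (cS 20) 20) 12288 14336 = true := by decide +kernel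
theorem cLine6_7 : allR (lineY dD LV (cS 20) 20) 14336 16384 = true := by decide +kernel
theorem cLine6_8 : allR (lineY dD LV (cS 20) 20) 16384 18432 = true := by decide +kernel
theorem cLine6_9 : allR (lineY dD LV (cS 20) 20) 18432 20480 = true := by decide +kernel
theorem cLine6_10 : allR (lineY dD LV (cS 20) 20) 20480 22528 = true := by decide +kernel
theorem cLine6_11 : allR (lineY dD LV (cS 20) 20) 22528 23256 = true := by decide +kernel
theorem cLine6 : RangeOK (lineY dD LV (cS 20) 20) 0 23256 := ((((((((((((RangeOK.of_allR cLine6_0)).trans (RangeOK.of_allR cLine6_1)).trans (RangeOK.of_allR cLine6_2)).trans (RangeOK.of_allR cLine6_3)).trans (RangeOK.of_allR cLine6_4)).trans (RangeOK.of_allR cLine6_5)).trans (RangeOK.of_allR cLine6_6)).trans (RangeOK.of_allR cLine6_7)).trans (RangeOK.of_allR cLine6_8)).trans (RangeOK.of_allR cLine6_9)).trans (RangeOK.of_allR cLine6_10)).trans (RangeOK.of_allR cLine6_11)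

end Cfsg.Agent.Lib.J3VD
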