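import Cfsg.Agent.Lib.J3VD
set_option autoImplicit false
set_option maxRecDepth 1000000
namespace Cfsg.Agent.Lib.J3VD
open Cfsg.Agent.Lib.PChain Cfsg.Agent.Lib.PermChain Cfsg.Agent.Lib.PermChain2 Cfsg.Agent.Lib.PermChain6 Cfsg.Agent.Lib.F9Code Cfsg.Agent.Lib.F9Line

theorem cWx_0 : allR (fun p => Nat.beq (letter dD 0 p) (walk dD p wxL)) 0 2048 = true := by decide +kernel
theorem cWx_1 : allR (fun p => Nat.beq (letter dD 0 p) (walk dD p wxL)) 2048 4096 = true := by decide +kernel
theorem cWx_2 : allR (fun p => Nat.beq (letter dD 0 p) (walk dD p wxL)) 4096 6144 = true := by decide +kernel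
theorem cWx_3 : allR (fun p => Nat.beq (letter dD 0 p) (walk dD p wxL)) 6144 8192 = true := by decide +kernel
theorem cWx_4 : allR (fun p => Nat.beq (letter dD 0 p) (walk dD p wxL)) 8192 10240 = true := by decide +kernel
theorem cWx_5 : allR (fun p => Nat.beq (letter dD 0 p) (walk dD p wxL)) 10240 12288 = true := by decide +kernel
theorem cWx_6 : allR (fun p => Nat.beq (letter dD 0 p) (walk dD p wxL)) 12288 14336 = true := by decide +kernel
theorem cWx_7 : allR (fun p => Nat.beq (letter dD 0 p) (walk dD p wxL)) 14336 16384 = true := by decide +kernel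
theorem cWx_8 : allR (fun p => Nat.beq (letter dD 0 p) (walk dD p wxL)) 16384 18432 = true := by decide +kernel
theorem cWx_9 : allR (fun p => Nat.beq (letter dD 0 p) (walk dD p wxL)) 18432 20480 = true := by decide +kernel
theorem cWx_10 : allR (fun p => Nat.beq (letter dD 0 p) (walk dD p wxL)) 20480 22528 = true := by decide +kernel
theorem cWx_11 : allR (fun p => Nat.beq (letter dD 0 p) (walk dD p wxL)) 22528 23256 = true := by decide +kernel
theorem cWx : RangeOK (fun p => Nat.beq (letter dD 0 p) (walk dD p wxL)) 0 23256 := ((((((((((((RangeOK.of_allR cWx_0)).trans (RangeOK.of_allR cWx_1)).trans (RangeOK.of_allR cWx_2)).trans (RangeOK.of_allR cWx_3)).trans (RangeOK.of_allR cWx_4)).trans (RangeOK.of_allR cWx_5)).trans (RangeOK.of_allR cWx_6)).trans (RangeOK.of_allR cWx_7)).trans (RangeOK.of_allR cWx_8)).trans (RangeOK.of_allR cWx_9)).trans (RangeOK.of_allR cWx_10)).trans (RangeOK.of_allR cWx_11)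
theorem cWy_0 : allR (fun p => Nat.beq (letter dD 1 p) (walk dD p wyL)) 0 2048 = true := by decide +kernel
theorem cWy_1 : allR (fun p => Nat.beq (letter dD 1 p) (walk dD p wyL)) 2048 4096 = true := by decide +kernel
theorem cWy_2 : allR (fun p => Nat.beq (letter dD 1 p) (walk dD p wyL)) 4096 6144 = true := by decide +kernel
theorem cWy_3 : allR (fun p => Nat.beq (letter dD 1 p) (walk dD p wyL)) 6144 8192 = true := by decide +kernel
theorem cWy_4 : allR (fun p => Nat.beq (letter dD 1 p) (walk dD p wyL)) 8192 10240 = true := by decide +kernel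
theorem cWy_5 : allR (fun p => Nat.beq (letter dD 1 p) (walk dD p wyL)) 10240 12288 = true := by decide +kernel
theorem cWy_6 : allR (fun p => Nat.beq (letter dD 1 p) (walk dD p wyL)) 12288 14336 = true := by decide +kernel
theorem cWy_7 : allR (fun p => Nat.beq (letter dD 1 p) (walk dD p wyL)) 14336 16384 = true := by decide +kernel
theorem cWy_8 : allR (fun p => Nat.beq (letter dD 1 p) (walk dD p wyL)) 16384 18432 = true := by decide +kernel
theorem cWy_9 : allR (fun p => Nat.beq (letter dD 1 p) (walk dD p wyL)) 18432 20480 = true := by decide +kernel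
theorem cWy_10 : allR (fun p => Nat.beq (letter dD 1 p) (walk dD p wyL)) 20480 22528 = true := by decide +kernel
theorem cWy_11 : allR (fun p => Nat.beq (letter dD 1 p) (walk dD p wyL)) 22528 23256 = true := by decide +kernel
theorem cWy : RangeOK (fun p => Nat.beq (letter dD 1 p) (walk dD p wyL)) 0 23256 := ((((((((((((RangeOK.of_allR cWy_0)).trans (RangeOK.of_allR cWy_1)).trans (RangeOK.of_allR cWy_2)).trans (RangeOK.of_allR cWy_3)).trans (RangeOK.of_allR cWy_4)).trans (RangeOK.of_allR cWy_5)).trans (RangeOK.of_allR cWy_6)).trans (RangeOK.of_allR cWy_7)).trans (RangeOK.of_allR cWy_8)).trans (RangeOK.of_allR cWy_9)).trans (RangeOK.of_allR cWy_10)).trans (RangeOK.of_allR cWy_11)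

end Cfsg.Agent.Lib.J3VD
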