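import Cfsg.Agent.Lib.J3VC0
import Cfsg.Agent.Lib.J3VC1
import Cfsg.Agent.Lib.J3VC2
import Cfsg.Agent.Lib.J3VC3
import Cfsg.Agent.Lib.J3VC4
import Cfsg.Agent.Lib.J3VC5
import Cfsg.Agent.Lib.J3VC6
import Cfsg.Agent.Lib.J3VC7
import Cfsg.Agent.Lib.J3VC8
import Cfsg.Agent.Lib.J3VC9
import Cfsg.Agent.Lib.J3VC10
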