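import Mathlib
import Cfsg.Prelude.Def_ConjugacyFunctors
import Cfsg.Agent.Lib.Comp

set_option autoImplicit false
set_option linter.style.haveILetI false
set_option linter.unusedSectionVars false

/-! The K-sequence of a finite `p`-group. -/

namespace Cfsg.Agent.Lib.KInf

open Cfsg
open scoped commutatorElement

section Basic

variable {P : Type*} [Group P]

theorem lower_anti {Q₁ Q₂ : Subgroup P} (h : Q₁ ≤ Q₂) :
    kLowerStarFamily Q₂ ⊆ kLowerStarFamily Q₁ := by
  rintro B ⟨hB, hN, hC⟩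
  exact ⟨hB, h.trans hN, fun A hA hAQ => hC A hA (hAQ.trans h)⟩

theorem upper_anti {Q₁ Q₂ : Subgroup P} (h : Q₁ ≤ Q₂) :
    kUpperStarFamily Q₂ ⊆ kUpperStarFamily Q₁ := by
  rintro B ⟨hB, hC⟩
  exact ⟨hB, (Subgroup.commutator_mono le_rfl h).trans hC⟩

theorem kSeq_step (n : ℕ) : kSeqOdd P (n + 1) ≤ kSeqOdd P n ∧ kSeqEven P n ≤ kSeqEven P (n + 1) := by
  induction n with
  | zero =>
    refine ⟨le_top, ?_⟩
    exact sSup_le_sSup (lower_anti le_top)
  | succ n ih =>
    have h1 : kSeqOdd P (n + 1 + 1) ≤ kSeqOdd P (n + 1) := by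
      show sSup (kUpperStarFamily (kSeqEven P (n + 1))) ≤ sSup (kUpperStarFamily (kSeqEven P n))
      exact sSup_le_sSup (upper_anti ih.2)
    exact ⟨h1, sSup_le_sSup (lower_anti h1)⟩

theorem kSeqOdd_anti : Antitone (kSeqOdd P) := antitone_nat_of_succ_le fun n => (kSeq_step n).1

theorem kSeqEven_mono : Monotone (kSeqEven P) := monotone_nat_of_le_succ fun n => (kSeq_step n).2

theorem bot_mem_lower (Q : Subgroup P) : (⊥ : Subgroup P) ∈ kLowerStarFamily Q := by
  refine ⟨?_, ?_, ?_⟩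
  · show ⁅(⊥ : Subgroup P), (⊥ : Subgroup P)⁆ ≤ _
    simp
  · intro q _
    rw [Subgroup.mem_normalizer_iff]
    intro x
    simp only [Subgroup.mem_bot]
    constructor
    · rintro rfl; simp
    · intro h; simpa using h
  · intro A _ _ _ _ _
    simp

theorem bot_mem_upper (Q : Subgroup P) : (⊥ : Subgroup P) ∈ kUpperStarFamily Q := by
  refine ⟨?_, ?_⟩
  · show ⁅(⊥ : Subgroup P), (⊥ : Subgroup P)⁆ ≤ _
    simp
  · simp

variable [Finite P]

theorem kSeqEven_stable : ∃ n : ℕ, ∀ m, n ≤ m → kSeqEven P m = kSeqEven P n := by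
  obtain ⟨n, hn⟩ := WellFoundedGT.monotone_chain_condition
    (⟨kSeqEven P, kSeqEven_mono⟩ : ℕ →o Subgroup P)
  exact ⟨n, fun m hm => (hn m hm).symm⟩

theorem kSeqOdd_stable : ∃ n : ℕ, ∀ m, n ≤ m → kSeqOdd P m = kSeqOdd P n := by
  obtain ⟨n, hn⟩ := WellFoundedGT.monotone_chain_condition
    (⟨fun n => OrderDual.toDual (kSeqOdd P n),
      fun _ _ h => OrderDual.toDual_le_toDual.mpr (kSeqOdd_anti h)⟩ : ℕ →o (Subgroup P)ᵒᵈ)
  exact ⟨n, fun m hm => (hn m hm).symm⟩

end Basic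

section Stable

universe u

variable {P : Type u} [Group P] [Finite P]

theorem kSeq_stable : ∃ n : ℕ, ∀ m : ℕ, n ≤ m →
    kSeqEven P m = kInfLower P ∧ kSeqOdd P m = kInfUpper P := by
  obtain ⟨a, ha⟩ := kSeqEven_stable (P := P)
  obtain ⟨b, hb⟩ := kSeqOdd_stable (P := P)
  refine ⟨max a b, fun m hm => ⟨?_, ?_⟩⟩
  · apply le_antisymm
    · exact le_iSup (kSeqEven P) m
    · refine iSup_le fun k => ?_
      calc kSeqEven P k ≤ kSeqEven P (max k m) := kSeqEven_mono (le_max_left _ _)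
        _ = kSeqEven P a := ha _ ((le_max_left a b).trans (hm.trans (le_max_right _ _)))
        _ = kSeqEven P m := (ha _ ((le_max_left a b).trans hm)).symm
  · apply le_antisymm
    · refine le_iInf fun k => ?_
      calc kSeqOdd P m = kSeqOdd P b := hb _ ((le_max_right a b).trans hm)
        _ = kSeqOdd P (max k m) := (hb _ ((le_max_right a b).trans (hm.trans (le_max_right _ _)))).symm
        _ ≤ kSeqOdd P k := kSeqOdd_anti (le_max_left _ _)
    · exact iInf_le (kSeqOdd P) m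

end Stable

section Central

variable {P : Type*} [Group P] [Finite P] {p : ℕ} [Fact p.Prime]

/-- a commutator descent: in a nilpotent group, if `Q` normalizes `C` and `C ≰ Z`, there is
`x ∈ C \ Z` with `⁅x, Q⁆ ≤ Z`. -/
theorem exists_commutator_mem [Group.IsNilpotent P] {Q C Z : Subgroup P}
    (hQ : Q ≤ Subgroup.normalizer (C : Set P)) (hCZ : ¬ C ≤ Z) :
    ∃ x ∈ C, x ∉ Z ∧ ∀ q ∈ Q, ⁅x, q⁆ ∈ Z := by
  classical
  -- iterated commutators
  let T : ℕ → Subgroup P := fun n => Nat.rec C (fun _ S => ⁅S, Q⁆) n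
  have hT0 : T 0 = C := rfl
  have hTs : ∀ n, T (n + 1) = ⁅T n, Q⁆ := fun n => rfl
  have hTC : ∀ n, T n ≤ C := by
    intro n
    induction n with
    | zero => exact le_rfl
    | succ n ih =>
      rw [hTs, Subgroup.commutator_le]
      intro t ht q hq
      have h1 : q * t⁻¹ * q⁻¹ ∈ C := (Subgroup.mem_normalizer_iff.mp (hQ hq) _).mp
        (C.inv_mem (ih ht))
      have h2 : ⁅t, q⁆ = t * (q * t⁻¹ * q⁻¹) := by rw [commutatorElement_def]; group
      rw [h2]
      exact C.mul_mem (ih ht) h1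
  have hTl : ∀ n, T n ≤ (⊤ : Subgroup P).lowerCentralSeries n := by
    intro n
    induction n with
    | zero => intro x _; simp
    | succ n ih =>
      rw [hTs]
      exact Subgroup.commutator_mono ih le_top
  obtain ⟨N, hN⟩ := (Subgroup.nilpotent_iff_lowerCentralSeries (G := P)).mp inferInstance
  have hTN : T N ≤ Z := by
    have := hTl N
    rw [hN] at this
    exact this.trans bot_le
  have : ∃ n, ¬ T n ≤ Z ∧ T (n + 1) ≤ Z := by
    by_contra hcon
    push Not at hcon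
    have hall : ∀ n, ¬ T n ≤ Z := by
      intro n
      induction n with
      | zero => exact hCZ
      | succ n ih => exact hcon n ih
    exact hall N hTN
  obtain ⟨n, hn1, hn2⟩ := this
  obtain ⟨x, hx, hxZ⟩ := SetLike.not_le_iff_exists.mp hn1
  refine ⟨x, hTC n hx, hxZ, fun q hq => hn2 ?_⟩
  rw [hTs]
  exact Subgroup.commutator_mem_commutator hx hq

/-- the subgroup of elements normalizing `Z` with commutators with `Q` in `Z`. -/
def commD (Z Q : Subgroup P) : Subgroup P where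
  carrier := {g | g ∈ Subgroup.normalizer (Z : Set P) ∧ ∀ q ∈ Q, ⁅g, q⁆ ∈ Z}
  one_mem' := ⟨Subgroup.one_mem _, fun q _ => by simp⟩
  mul_mem' := by
    rintro a b ⟨ha, ha'⟩ ⟨hb, hb'⟩
    refine ⟨Subgroup.mul_mem _ ha hb, fun q hq => ?_⟩
    have h1 : a * ⁅b, q⁆ * a⁻¹ ∈ Z := (Subgroup.mem_normalizer_iff.mp ha _).mp (hb' q hq)
    have h2 : ⁅a * b, q⁆ = a * ⁅b, q⁆ * a⁻¹ * ⁅a, q⁆ := by
      simp only [commutatorElement_def]; group
    rw [h2]
    exact Z.mul_mem h1 (ha' q hq)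
  inv_mem' := by
    rintro a ⟨ha, ha'⟩
    refine ⟨Subgroup.inv_mem _ ha, fun q hq => ?_⟩
    have h1 : a⁻¹ * ⁅a, q⁆⁻¹ * a⁻¹⁻¹ ∈ Z :=
      (Subgroup.mem_normalizer_iff.mp (Subgroup.inv_mem _ ha) _).mp (Z.inv_mem (ha' q hq))
    have h2 : ⁅a⁻¹, q⁆ = a⁻¹ * ⁅a, q⁆⁻¹ * a⁻¹⁻¹ := by
      simp only [commutatorElement_def]; group
    rw [h2]
    exact h1

theorem mem_commD {Z Q : Subgroup P} {g : P} :
    g ∈ commD Z Q ↔ g ∈ Subgroup.normalizer (Z : Set P) ∧ ∀ q ∈ Q, ⁅g, q⁆ ∈ Z := Iff.rfl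

/-- elements of `B ⊔ ⟨x⟩`, when `x` centralizes `B`. -/
theorem mem_sup_zpowers {B : Subgroup P} {x : P} (hx : x ∈ Subgroup.centralizer (B : Set P)) {g : P} :
    g ∈ B ⊔ Subgroup.zpowers x ↔ ∃ b ∈ B, ∃ k : ℤ, g = b * x ^ k := by
  constructor
  · intro h
    obtain ⟨b, hb, y, hy, rfl⟩ := Cfsg.Agent.Lib.Comp.mem_sup_of_comm (A := B)
      (B := Subgroup.zpowers x) (fun a ha b hb => by
        obtain ⟨k, rfl⟩ := Subgroup.mem_zpowers_iff.mp hb
        exact (Commute.zpow_right (Subgroup.mem_centralizer_iff.mp hx a ha) k).eq) h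
    obtain ⟨k, rfl⟩ := Subgroup.mem_zpowers_iff.mp hy
    exact ⟨b, hb, k, rfl⟩
  · rintro ⟨b, hb, k, rfl⟩
    exact Subgroup.mul_mem _ (Subgroup.mem_sup_left hb)
      (Subgroup.mem_sup_right (Subgroup.zpow_mem_zpowers x k))

/-- the family step: enlarging `B` by a central element. -/
theorem sup_class_two {B : Subgroup P} {x : P} (hx : x ∈ Subgroup.centralizer (B : Set P))
    (hB : B ∈ classTwoSubgroups P) : B ⊔ Subgroup.zpowers x ∈ classTwoSubgroups P := by
  have hB' : ⁅B, B⁆ ≤ Subgroup.centralizer (B : Set P) := hB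
  have hxk : ∀ (k : ℤ) (c : P), c ∈ B → c * x ^ k = x ^ k * c := fun k c hc =>
    (Commute.zpow_right (Subgroup.mem_centralizer_iff.mp hx c hc) k).eq
  have hcomm : ⁅B ⊔ Subgroup.zpowers x, B ⊔ Subgroup.zpowers x⁆ ≤ ⁅B, B⁆ := by
    rw [Subgroup.commutator_le]
    intro g hg g' hg'
    obtain ⟨b, hb, k, rfl⟩ := (mem_sup_zpowers hx).mp hg
    obtain ⟨b', hb', k', rfl⟩ := (mem_sup_zpowers hx).mp hg'
    set y := x ^ k with hy
    set y' := x ^ k' with hy'
    have e1 : y * b' = b' * y := (hxk k b' hb').symm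
    have e2 : b * y' = y' * b := hxk k' b hb
    have e3 : y * y' = y' * y := (Commute.refl x).zpow_zpow k k'
    have key : (b * y) * (b' * y') = ⁅b, b'⁆ * ((b' * y') * (b * y)) := by
      calc (b * y) * (b' * y') = b * (y * b') * y' := by group
        _ = b * (b' * y) * y' := by rw [e1]
        _ = b * b' * (y * y') := by group
        _ = b * b' * (y' * y) := by rw [e3]
        _ = b * b' * b⁻¹ * (b * y') * y := by group
        _ = b * b' * b⁻¹ * (y' * b) * y := by rw [e2]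
        _ = ⁅b, b'⁆ * ((b' * y') * (b * y)) := by
            simp only [commutatorElement_def]; group
    have : ⁅b * y, b' * y'⁆ = ⁅b, b'⁆ := by
      rw [commutatorElement_def, key]
      group
    rw [this]
    exact Subgroup.commutator_mem_commutator hb hb'
  show ⁅B ⊔ Subgroup.zpowers x, B ⊔ Subgroup.zpowers x⁆ ≤ Subgroup.centralizer _
  refine hcomm.trans ?_
  intro c hc
  rw [Subgroup.mem_centralizer_iff]
  intro g hg
  obtain ⟨b, hb, k, rfl⟩ := (mem_sup_zpowers hx).mp hg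
  have hcB : c ∈ B := Subgroup.commutator_le_self _ hc
  have h1 : b * c = c * b := Subgroup.mem_centralizer_iff.mp (hB' hc) b hb
  rw [mul_assoc, ← hxk k c hcB, ← mul_assoc, h1, mul_assoc]

theorem inf_centralizer_sup {B : Subgroup P} {x : P} (hx : x ∈ Subgroup.centralizer (B : Set P)) :
    B ⊓ Subgroup.centralizer (B : Set P) ≤
      (B ⊔ Subgroup.zpowers x) ⊓ Subgroup.centralizer ((B ⊔ Subgroup.zpowers x : Subgroup P) : Set P) := by
  intro z hz
  obtain ⟨hz1, hz2⟩ := Subgroup.mem_inf.mp hz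
  refine Subgroup.mem_inf.mpr ⟨Subgroup.mem_sup_left hz1, ?_⟩
  rw [Subgroup.mem_centralizer_iff]
  intro g hg
  obtain ⟨b, hb, k, rfl⟩ := (mem_sup_zpowers hx).mp hg
  have h1 : b * z = z * b := Subgroup.mem_centralizer_iff.mp hz2 b hb
  have h2 : z * x ^ k = x ^ k * z :=
    (Commute.zpow_right (Subgroup.mem_centralizer_iff.mp hx z hz1) k).eq
  rw [mul_assoc, ← h2, ← mul_assoc, h1, mul_assoc]

theorem sup_commutator_le {B R : Subgroup P} {x : P} (hx : x ∈ Subgroup.centralizer (B : Set P))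
    (hBR : ⁅B, R⁆ ≤ B ⊓ Subgroup.centralizer (B : Set P))
    (hq : ∀ q ∈ R, ⁅x, q⁆ ∈ B ⊓ Subgroup.centralizer (B : Set P)) :
    ⁅B ⊔ Subgroup.zpowers x, R⁆ ≤ B ⊓ Subgroup.centralizer (B : Set P) := by
  set Z := B ⊓ Subgroup.centralizer (B : Set P) with hZ
  have hcZ : ∀ g ∈ B ⊔ Subgroup.zpowers x, g ∈ Subgroup.normalizer (Z : Set P) := by
    intro g hg
    rw [Subgroup.mem_normalizer_iff]
    have hc : ∀ z ∈ Z, g * z = z * g := by
      intro z hz
      have := (inf_centralizer_sup hx hz).2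
      exact Subgroup.mem_centralizer_iff.mp this g hg
    intro z
    constructor
    · intro hz
      rw [hc z hz]
      simpa using hz
    · intro hz
      have h3 : g * z * g⁻¹ = z := by
        have := hc _ hz
        have h4 : (g * z * g⁻¹) * g = g * z := by group
        rw [h4] at this
        exact mul_left_cancel this
      rw [h3] at hz
      exact hz
  have hle : B ⊔ Subgroup.zpowers x ≤ commD Z R := by
    refine sup_le ?_ ?_
    · intro b hb
      exact ⟨hcZ b (Subgroup.mem_sup_left hb), fun q hq' =>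
        hBR (Subgroup.commutator_mem_commutator hb hq')⟩
    · rw [Subgroup.zpowers_le]
      exact ⟨hcZ x (Subgroup.mem_sup_right (Subgroup.mem_zpowers x)), hq⟩
  rw [Subgroup.commutator_le]
  intro g hg q hq'
  exact (hle hg).2 q hq'

theorem upper_step {Q B : Subgroup P} {x : P} (hx : x ∈ Subgroup.centralizer (B : Set P))
    (hB : B ∈ kUpperStarFamily Q)
    (hq : ∀ q ∈ Q, ⁅x, q⁆ ∈ B ⊓ Subgroup.centralizer (B : Set P)) :
    B ⊔ Subgroup.zpowers x ∈ kUpperStarFamily Q := by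
  obtain ⟨hB2, hBQ⟩ := hB
  exact ⟨sup_class_two hx hB2, (sup_commutator_le hx hBQ hq).trans (inf_centralizer_sup hx)⟩

theorem lower_step {Q B : Subgroup P} {x : P} (hx : x ∈ Subgroup.centralizer (B : Set P))
    (hB : B ∈ kLowerStarFamily Q)
    (hq : ∀ q ∈ Q, ⁅x, q⁆ ∈ B ⊓ Subgroup.centralizer (B : Set P)) :
    B ⊔ Subgroup.zpowers x ∈ kLowerStarFamily Q := by
  obtain ⟨hB2, hQN, hCond⟩ := hB
  refine ⟨sup_class_two hx hB2, ?_, ?_⟩
  · refine Subgroup.le_normalizer_iff.mpr ?_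
    intro q hq' g hg
    obtain ⟨b, hb, k, rfl⟩ := (mem_sup_zpowers hx).mp hg
    have h1 : q * b * q⁻¹ ∈ B := (Subgroup.mem_normalizer_iff.mp (hQN hq') b).mp hb
    have h2 : q * x * q⁻¹ ∈ B ⊔ Subgroup.zpowers x := by
      have h3 : q * x * q⁻¹ = ⁅x, q⁆⁻¹ * x := by
        simp only [commutatorElement_def]; group
      rw [h3]
      refine Subgroup.mul_mem _ (Subgroup.inv_mem _ (Subgroup.mem_sup_left (Subgroup.mem_inf.mp (hq q hq')).1)) ?_
      exact Subgroup.mem_sup_right (Subgroup.mem_zpowers x)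
    have h4 : q * (b * x ^ k) * q⁻¹ = (q * b * q⁻¹) * (q * x * q⁻¹) ^ k := by
      rw [conj_zpow]; group
    rw [h4]
    exact Subgroup.mul_mem _ (Subgroup.mem_sup_left h1) (Subgroup.zpow_mem _ h2 k)
  · intro A hA hAQ hB₁A hc1 hc2
    have h1 : ⁅B, A⁆ ≤ B ⊓ Subgroup.centralizer (B : Set P) := by
      refine hCond A hA hAQ (le_sup_left.trans hB₁A) ?_ ?_
      · exact le_bot_iff.mp (hc1 ▸ Subgroup.commutator_mono le_sup_left le_rfl)
      · exact le_bot_iff.mp (hc2 ▸ Subgroup.commutator_mono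
          (Subgroup.commutator_mono (inf_centralizer_sup hx) le_rfl) le_rfl)
    exact (sup_commutator_le hx h1 (fun q hq' => hq q (hAQ hq'))).trans (inf_centralizer_sup hx)

theorem le_normalizer_centralizer {H L : Subgroup P} (h : H ≤ Subgroup.normalizer (L : Set P)) :
    H ≤ Subgroup.normalizer (Subgroup.centralizer (L : Set P) : Set P) := by
  refine Subgroup.le_normalizer_iff.mpr ?_
  intro g hg c hc
  rw [Subgroup.mem_centralizer_iff] at hc ⊢
  intro m hm
  have hgN : g⁻¹ ∈ Subgroup.normalizer (L : Set P) := Subgroup.inv_mem _ (h hg)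
  have h1 : g⁻¹ * m * g ∈ L := by
    have := (Subgroup.mem_normalizer_iff.mp hgN m).mp hm
    simpa using this
  have h2 := hc _ h1
  calc m * (g * c * g⁻¹) = g * ((g⁻¹ * m * g) * c) * g⁻¹ := by group
    _ = g * (c * (g⁻¹ * m * g)) * g⁻¹ := by rw [h2]
    _ = g * c * g⁻¹ * m := by group

/-- the general centralizer statement for the maximal members of the families. -/
theorem exists_x_of_not_le [Group.IsNilpotent P] {Q B : Subgroup P}
    (hQ : Q ≤ Subgroup.normalizer (B : Set P)) (hC : ¬ Subgroup.centralizer (B : Set P) ≤ B) :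
    ∃ x ∈ Subgroup.centralizer (B : Set P), x ∉ B ∧
      ∀ q ∈ Q, ⁅x, q⁆ ∈ B ⊓ Subgroup.centralizer (B : Set P) := by
  obtain ⟨x, hx, hxZ, hq⟩ := exists_commutator_mem (Q := Q) (C := Subgroup.centralizer (B : Set P))
    (Z := B ⊓ Subgroup.centralizer (B : Set P)) (le_normalizer_centralizer hQ)
    (fun h => hC (h.trans inf_le_left))
  exact ⟨x, hx, fun hxB => hxZ (Subgroup.mem_inf.mpr ⟨hxB, hx⟩), hq⟩

theorem centralizer_le_of_max_class_two {B : Subgroup P} (hB : B ∈ classTwoSubgroups P)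
    (hmax : ∀ C ∈ classTwoSubgroups P, B ≤ C → C = B) : Subgroup.centralizer (B : Set P) ≤ B := by
  intro x hx
  have := hmax _ (sup_class_two hx hB) le_sup_left
  rw [← this]
  exact Subgroup.mem_sup_right (Subgroup.mem_zpowers x)

theorem centralizer_le_of_max_lower [Group.IsNilpotent P] {Q B : Subgroup P}
    (hB : B ∈ kLowerStarFamily Q) (hmax : ∀ C ∈ kLowerStarFamily Q, B ≤ C → C = B) :
    Subgroup.centralizer (B : Set P) ≤ B := by
  by_contra hC
  obtain ⟨x, hx, hxB, hq⟩ := exists_x_of_not_le hB.2.1 hC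
  have := hmax _ (lower_step hx hB hq) le_sup_left
  apply hxB
  rw [← this]
  exact Subgroup.mem_sup_right (Subgroup.mem_zpowers x)

theorem centralizer_le_of_max_upper [Group.IsNilpotent P] {Q B : Subgroup P}
    (hB : B ∈ kUpperStarFamily Q) (hmax : ∀ C ∈ kUpperStarFamily Q, B ≤ C → C = B) :
    Subgroup.centralizer (B : Set P) ≤ B := by
  by_contra hC
  have hQN : Q ≤ Subgroup.normalizer (B : Set P) :=
    Subgroup.le_normalizer_iff_commutator_le_left.mpr (hB.2.trans inf_le_left)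
  obtain ⟨x, hx, hxB, hq⟩ := exists_x_of_not_le hQN hC
  have := hmax _ (upper_step hx hB hq) le_sup_left
  apply hxB
  rw [← this]
  exact Subgroup.mem_sup_right (Subgroup.mem_zpowers x)

theorem exists_max_mem {𝒦 : Set (Subgroup P)} (h0 : 𝒦.Nonempty) :
    ∃ B ∈ 𝒦, ∀ C ∈ 𝒦, B ≤ C → C = B := by
  obtain ⟨B, hB⟩ := Set.Finite.exists_maximal (Set.toFinite 𝒦) h0
  exact ⟨B, hB.1, fun C hC hBC => le_antisymm (hB.2 hC hBC) hBC⟩

theorem centralizer_sSup_lower_le [Group.IsNilpotent P] (Q : Subgroup P) :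
    Subgroup.centralizer ((sSup (kLowerStarFamily Q) : Subgroup P) : Set P) ≤ sSup (kLowerStarFamily Q) := by
  obtain ⟨B, hB, hmax⟩ := exists_max_mem ⟨_, bot_mem_lower Q⟩
  have h1 : B ≤ sSup (kLowerStarFamily Q) := le_sSup hB
  exact (Subgroup.centralizer_le h1).trans ((centralizer_le_of_max_lower hB hmax).trans h1)

theorem centralizer_sSup_upper_le [Group.IsNilpotent P] (Q : Subgroup P) :
    Subgroup.centralizer ((sSup (kUpperStarFamily Q) : Subgroup P) : Set P) ≤ sSup (kUpperStarFamily Q) := by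
  obtain ⟨B, hB, hmax⟩ := exists_max_mem ⟨_, bot_mem_upper Q⟩
  have h1 : B ≤ sSup (kUpperStarFamily Q) := le_sSup hB
  exact (Subgroup.centralizer_le h1).trans ((centralizer_le_of_max_upper hB hmax).trans h1)

end Central

end Cfsg.Agent.Lib.KInf
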