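import Cfsg.Agent.Lib.KegelA
import Cfsg.Agent.Lib.PMin5
import Cfsg.Agent.S0033
import Cfsg.Agent.Lib.FGS3
import Cfsg.Agent.Lib.PGrp2
import Cfsg.Agent.Lib.H1Conj
import Cfsg.Agent.Lib.H1Frat
import Cfsg.Agent.Lib.H1Hall

set_option autoImplicit false
set_option linter.style.haveILetI false

/-! Hughes–Thompson–Kegel: groups in which all elements outside a proper normal subgroup have order `p`. -/

namespace Cfsg.Agent.Lib.Kegel

open Subgroup Cfsg Cfsg.Agent.Lib.KegelA
open scoped Pointwise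

universe u

/-- All elements outside the proper normal subgroup `G` of `L` have `p`-th power one. -/
structure SP {L : Type*} [Group L] (G : Subgroup L) (p : ℕ) : Prop where
  normal : G.Normal
  ne_top : G ≠ ⊤
  pow : ∀ x, x ∉ G → x ^ p = 1

section Basic

variable {L : Type*} [Group L] {G : Subgroup L} {p : ℕ}

theorem eq_one_of_comm [Finite L] (hp : p.Prime) (h : SP G p) {x u : L} (hx : x ∉ G) (hc : x * u = u * x)
    (hu : (orderOf u).Coprime p) : u = 1 := by
  have hup : u ^ p = 1 := by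
    by_cases huG : u ∈ G
    · have h1 : x * u ∉ G := fun h2 => hx (by
        have := G.mul_mem h2 (G.inv_mem huG)
        simpa using this)
      have h2 := h.pow _ h1
      have hcomm : Commute x u := hc
      rw [hcomm.mul_pow, h.pow x hx, one_mul] at h2
      exact h2
    · exact h.pow u huG
  have h1 := orderOf_dvd_of_pow_eq_one hup
  have h2 : orderOf u = 1 := by
    have := Nat.dvd_gcd (dvd_refl _) h1
    rw [hu] at this
    exact Nat.dvd_one.mp this
  exact orderOf_eq_one_iff.mp h2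

theorem pow_not_mem (hp : p.Prime) (h : SP G p) {x : L} (hx : x ∉ G) {j : ℕ} (h0 : 0 < j) (hj : j < p) :
    x ^ j ∉ G := by
  intro hmem
  apply hx
  have hcop : j.Coprime p := ((Nat.Prime.coprime_iff_not_dvd hp).mpr (Nat.not_dvd_of_pos_of_lt h0 hj)).symm
  have hbez : ((j.gcdA p) * (j : ℤ) + (j.gcdB p) * (p : ℤ)) = 1 := by
    have := Nat.gcd_eq_gcd_ab j p
    rw [hcop] at this
    push_cast at this
    linarith
  have h1 : x = (x ^ j) ^ (j.gcdA p) * (x ^ p) ^ (j.gcdB p) := by
    rw [← zpow_natCast, ← zpow_natCast, ← zpow_mul, ← zpow_mul, ← zpow_add]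
    rw [mul_comm (j : ℤ), mul_comm (p : ℤ), hbez, zpow_one]
  rw [h.pow x hx, one_zpow, mul_one] at h1
  rw [h1]
  exact G.zpow_mem hmem _

end Basic

section Tau

variable {L : Type*} [Group L] [Finite L] {p : ℕ}

theorem tau_trivial (hp : p.Prime) (Z : Subgroup L) [Z.Normal]
    (hZ : IsPGroup p Z) (H : Subgroup L) (hH : (Nat.card H).Coprime p) (y : L)
    (hyN : y ∈ normalizer (H : Set L))
    (hfix : ∀ j, 0 < j → j < p → ∀ c ∈ H, y ^ j * c * (y ^ j)⁻¹ = c → c = 1)
    (hN : ∀ r ∈ H, ∀ a : Abelianization Z, ∏ j ∈ Finset.range p, ((tau Z (r * y * r⁻¹)) ^ j) a = 1)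
    (u : L) (hu : u ∈ H) : tau Z u = 1 := by
  classical
  haveI : Fact p.Prime := ⟨hp⟩
  letI : Fintype H := Fintype.ofFinite _
  let σ : Abelianization Z → Abelianization Z := fun a => ∏ r : H, tau Z (r : L) a
  have hσmul : ∀ a b, σ (a * b) = σ a * σ b := by
    intro a b
    simp only [σ, map_mul, Finset.prod_mul_distrib]
  have hσinv : ∀ a, σ a⁻¹ = (σ a)⁻¹ := by
    intro a
    simp only [σ, map_inv, Finset.prod_inv_distrib]
  have hσu : ∀ (w : H) (a : Abelianization Z), σ (tau Z (w : L) a) = σ a := by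
    intro w a
    have h1 : ∀ r : H, tau Z (r : L) (tau Z (w : L) a) = tau Z ((r * w : H) : L) a := by
      intro r
      rw [Subgroup.coe_mul, map_mul]
      rfl
    simp only [σ, h1]
    exact Equiv.prod_comp (Equiv.mulRight w) (fun r : H => tau Z (r : L) a)
  have hyj : ∀ j : ℕ, ∀ c ∈ H, y ^ j * c * (y ^ j)⁻¹ ∈ H := by
    intro j c hc
    exact (mem_normalizer_iff.mp (Subgroup.pow_mem _ hyN j) c).mp hc
  have hb : ∀ j, 0 < j → j < p → ∀ a, ∏ r : H, tau Z ((r : L) * y ^ j * (r : L)⁻¹) a = σ (tau Z (y ^ j) a) := by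
    intro j h0 hj a
    let b : H → H := fun r => ⟨r * (y ^ j * (r : L)⁻¹ * (y ^ j)⁻¹), H.mul_mem r.2 (hyj j _ (H.inv_mem r.2))⟩
    have hinj : Function.Injective b := by
      intro r s hrs
      have h1 : (r : L) * (y ^ j * (r : L)⁻¹ * (y ^ j)⁻¹) = s * (y ^ j * (s : L)⁻¹ * (y ^ j)⁻¹) := congrArg Subtype.val hrs
      have h2 : (s : L)⁻¹ * r ∈ H := H.mul_mem (H.inv_mem s.2) r.2
      have h3 := hfix j h0 hj _ h2 (by
        have h4 : (r : L) = s * (y ^ j * (s : L)⁻¹ * (y ^ j)⁻¹) * (y ^ j * (r : L) * (y ^ j)⁻¹) := by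
          rw [← h1]
          group
        have h5 : y ^ j * ((s : L)⁻¹ * r) * (y ^ j)⁻¹ = (y ^ j * (s : L)⁻¹ * (y ^ j)⁻¹) * (y ^ j * (r : L) * (y ^ j)⁻¹) := by group
        rw [h5]
        conv_rhs => rw [h4]
        group)
      apply Subtype.ext
      have : (r : L) = s * ((s : L)⁻¹ * r) := by group
      rw [this, h3, mul_one]
    have hbij : Function.Bijective b := Finite.injective_iff_bijective.mp hinj
    have h1 : ∀ r : H, tau Z ((r : L) * y ^ j * (r : L)⁻¹) a = tau Z ((b r : H) : L) (tau Z (y ^ j) a) := by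
      intro r
      have h2 : (r : L) * y ^ j * (r : L)⁻¹ = ((b r : H) : L) * y ^ j := by
        show _ = (r : L) * (y ^ j * (r : L)⁻¹ * (y ^ j)⁻¹) * y ^ j
        group
      rw [h2, map_mul]
      rfl
    simp only [h1, σ]
    exact hbij.prod_comp (fun r => tau Z (r : L) (tau Z (y ^ j) a))
  ext a₀
  set v : Abelianization Z := a₀ * (tau Z u a₀)⁻¹ with hv
  have hσv : ∀ j : ℕ, σ (tau Z (y ^ j) v) = 1 := by
    intro j
    set a₁ := tau Z (y ^ j) a₀ with ha₁
    let u' : H := ⟨y ^ j * u * (y ^ j)⁻¹, hyj j u hu⟩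
    have h1 : tau Z (y ^ j) (tau Z u a₀) = tau Z (u' : L) a₁ := by
      have h2 : (u' : L) * y ^ j = y ^ j * u := by
        show y ^ j * u * (y ^ j)⁻¹ * y ^ j = y ^ j * u
        group
      have h3 : tau Z (y ^ j) (tau Z u a₀) = tau Z (y ^ j * u) a₀ := by
        rw [map_mul]
        rfl
      rw [h3, ← h2, map_mul]
      rfl
    have h2 : tau Z (y ^ j) v = a₁ * (tau Z (u' : L) a₁)⁻¹ := by
      rw [hv, map_mul, map_inv, h1]
    rw [h2, hσmul, hσinv, hσu]
    simp
  -- main computation
  have hmain : ∏ r : H, ∏ j ∈ Finset.range p, tau Z ((r : L) * y ^ j * (r : L)⁻¹) v = 1 := by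
    apply Finset.prod_eq_one
    intro r _
    have h1 := hN r r.2 v
    rw [← h1]
    apply Finset.prod_congr rfl
    intro j _
    rw [← map_pow, conj_pow]
  rw [Finset.prod_comm] at hmain
  obtain ⟨k, hk⟩ : ∃ k, p = k + 1 := ⟨p - 1, by have := hp.pos; omega⟩
  rw [hk, Finset.prod_range_succ'] at hmain
  have h0 : ∏ r : H, tau Z ((r : L) * y ^ 0 * (r : L)⁻¹) v = v ^ Nat.card H := by
    simp [Finset.prod_const, Finset.card_univ, Nat.card_eq_fintype_card]
  have h1 : ∏ j ∈ Finset.range k, ∏ r : H, tau Z ((r : L) * y ^ (j + 1) * (r : L)⁻¹) v = 1 := by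
    apply Finset.prod_eq_one
    intro j hj
    rw [hb (j + 1) (Nat.succ_pos j) (by have := Finset.mem_range.mp hj; omega), hσv]
  rw [h1, one_mul, h0] at hmain
  -- v has p-power order
  have hv1 : v = 1 := by
    obtain ⟨n, hn⟩ := IsPGroup.iff_card.mp hZ
    have h2 : Nat.card (Abelianization Z) ∣ p ^ n := by
      rw [← hn]
      exact Subgroup.card_dvd_of_surjective _ (QuotientGroup.mk'_surjective _)
    have h3 : v ^ p ^ n = 1 := orderOf_dvd_iff_pow_eq_one.mp ((orderOf_dvd_natCard v).trans h2)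
    have h4 : orderOf v ∣ Nat.gcd (Nat.card H) (p ^ n) :=
      Nat.dvd_gcd (orderOf_dvd_of_pow_eq_one hmain) (orderOf_dvd_of_pow_eq_one h3)
    rw [Nat.Coprime.pow_right n hH] at h4
    exact orderOf_eq_one_iff.mp (Nat.dvd_one.mp h4)
  have h5 : a₀ = tau Z u a₀ := by
    rw [hv] at hv1
    exact mul_inv_eq_one.mp hv1
  exact h5.symm

/-- `tau` trivial on an abelian normal subgroup means centralizing it. -/
theorem mem_centralizer_of_tau (Z : Subgroup L) [Z.Normal] (hab : IsMulCommutative Z) {u : L}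
    (hu : tau Z u = 1) : u ∈ centralizer (Z : Set L) := by
  rw [mem_centralizer_iff]
  intro z hz
  have h1 : tau Z u (Abelianization.of ⟨z, hz⟩) = Abelianization.of ⟨z, hz⟩ := by rw [hu]; rfl
  rw [tau_of, of_eq_iff] at h1
  have hbot : commutator Z = ⊥ := by
    rw [commutator_def, Subgroup.commutator_eq_bot_iff_le_centralizer]
    intro a _
    rw [mem_centralizer_iff]
    intro b _
    exact hab.is_comm.comm b a
  rw [hbot, Subgroup.mem_bot] at h1
  have h2 := congrArg Subtype.val h1
  simp only [Subgroup.coe_mul, Subgroup.coe_inv, MulAut.conjNormal_apply, Subgroup.coe_one] at h2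
  have h3 : u * z * u⁻¹ = z := inv_mul_eq_one.mp h2
  have h4 := congrArg (· * u) h3
  simp only [inv_mul_cancel_right] at h4
  exact h4.symm

/-- `tau` trivial on a `q`-group for an element of coprime order: centralizes. -/
theorem mem_centralizer_of_tau_q {q : ℕ} [hq : Fact q.Prime] (Q : Subgroup L) [Q.Normal] (hQ : IsPGroup q Q)
    {u : L} (hu : tau Q u = 1) (hcop : (orderOf u).Coprime q) : u ∈ centralizer (Q : Set L) := by
  classical
  set A := zpowers u with hA
  have hAQ : A ≤ normalizer (Q : Set L) := by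
    rw [normalizer_eq_top_iff.mpr ‹_›]; exact le_top
  have hcopA : (Nat.card A).Coprime (Nat.card Q) := by
    rw [Nat.card_zpowers]
    obtain ⟨n, hn⟩ := IsPGroup.iff_card.mp hQ
    rw [hn]
    exact Nat.Coprime.pow_right n hcop
  have hsolv : Group.IsSolvable Q := by
    haveI := hQ.isNilpotent
    exact IsNilpotent.to_isSolvable
  have h1 := Cfsg.Agent.Lib.H1Cop.commutator_sup_centralizer hAQ hcopA (Or.inr hsolv)
  -- the commutators lie in Q'
  have htau : ∀ a ∈ A, tau Q a = 1 := by
    intro a ha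
    obtain ⟨k, rfl⟩ := ha
    show tau Q (u ^ k) = 1
    rw [map_zpow, hu, one_zpow]
  have h2 : ⁅Q, A⁆ ≤ (commutator Q).map Q.subtype := by
    rw [Subgroup.commutator_le]
    intro x hx a ha
    have hxi : x⁻¹ ∈ Q := Q.inv_mem hx
    have h3 : Abelianization.of (⟨x⁻¹, hxi⟩ : Q) = tau Q a (Abelianization.of ⟨x⁻¹, hxi⟩) := by rw [htau a ha]; rfl
    rw [tau_of, of_eq_iff] at h3
    refine ⟨_, h3, ?_⟩
    simp only [Subgroup.coe_subtype, Subgroup.coe_mul, Subgroup.coe_inv, MulAut.conjNormal_apply, commutatorElement_def]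
    group
  set D : Subgroup Q := (centralizer (A : Set L)).subgroupOf Q with hD
  have h3 : D ⊔ commutator Q = ⊤ := by
    rw [eq_top_iff]
    rintro ⟨x, hx⟩ _
    have hx1 : x ∈ ((D ⊔ commutator Q).map Q.subtype) := by
      rw [Subgroup.map_sup]
      have h4 : x ∈ ⁅Q, A⁆ ⊔ (Q ⊓ centralizer (A : Set L)) := by rw [h1]; exact hx
      have h5 : ⁅Q, A⁆ ⊔ (Q ⊓ centralizer (A : Set L)) ≤ D.map Q.subtype ⊔ (commutator Q).map Q.subtype := by
        apply sup_le
        · exact h2.trans le_sup_right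
        · refine le_trans ?_ le_sup_left
          rintro z ⟨hz1, hz2⟩
          exact ⟨⟨z, hz1⟩, hz2, rfl⟩
      exact h5 h4
    obtain ⟨y, hy, hyx⟩ := hx1
    have : y = ⟨x, hx⟩ := Subtype.ext hyx
    rwa [this] at hy
  have h4 : D ⊔ frattini Q = ⊤ := by
    rw [eq_top_iff, ← h3]
    exact sup_le_sup_left (Cfsg.Agent.Lib.PGrp.commutator_le_frattini hQ) _
  have h5 : D = ⊤ := frattini_nongenerating h4
  rw [mem_centralizer_iff]
  intro x hx
  have h6 : (⟨x, hx⟩ : Q) ∈ D := by rw [h5]; trivial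
  have h7 : x ∈ centralizer (A : Set L) := h6
  have h8 := (mem_centralizer_iff.mp h7) u (Subgroup.mem_zpowers u)
  exact h8.symm

end Tau

section Main

variable {p : ℕ} [hp : Fact p.Prime]

theorem le_normalizer_center {L : Type*} [Group L] (S : Subgroup L) :
    S ≤ normalizer (centerThompsonOf p S : Set L) := by
  intro n hn
  rw [Cfsg.Agent.Lib.PNilp.mem_normalizer_iff_map']
  have h1 := Cfsg.Agent.Lib.PZJ.centerThompsonOf_map (MulAut.conj n).toMonoidHom S
    (fun x _ h => by simpa using h) p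
  have h2 := (Cfsg.Agent.Lib.PNilp.mem_normalizer_iff_map' (H := S)).mp (Subgroup.le_normalizer hn)
  rw [h2] at h1
  exact h1.symm

theorem center_abelian {L : Type*} [Group L] (S : Subgroup L) :
    IsMulCommutative (centerThompsonOf p S) := by
  refine ⟨⟨fun a b => Subtype.ext ?_⟩⟩
  have h1 := (mem_centralizer_iff.mp b.2.2) a a.2.1
  exact h1


/-- The step when the central subgroup `T` is normal and inside `G`. -/
theorem npc_step {n : ℕ} {L : Type u} [Group L] [Finite L]
    (ih : ∀ m < n, ∀ (L : Type u) [Group L] [Finite L], Nat.card L = m →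
      ∀ G : Subgroup L, SP G p → HasNormalPComplement p L)
    (hn : Nat.card L = n) {G : Subgroup L} (hG : SP G p) {x₀ : L} (hx₀ : x₀ ∉ G)
    {T : Subgroup L} [hTn : T.Normal] (hTne : T ≠ ⊥) (hTp : IsPGroup p T) (hTab : IsMulCommutative T)
    (hTG : T ≤ G) : HasNormalPComplement p L := by
  classical
  haveI hGn : G.Normal := hG.normal
  have hprime : p.Prime := hp.out
  set π := QuotientGroup.mk' T with hπ
  have hπsurj : Function.Surjective π := QuotientGroup.mk'_surjective T
  have hker : ∀ a b : L, π a = π b → a⁻¹ * b ∈ T := fun a b h => QuotientGroup.eq.mp h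
  -- quotient satisfies the hypothesis
  have hSPq : SP (G.map π) p := by
    refine ⟨hGn.map π hπsurj, ?_, ?_⟩
    · intro h
      have h1 : π x₀ ∈ G.map π := by rw [h]; trivial
      obtain ⟨g, hg, hgx⟩ := h1
      have h2 := hker _ _ hgx
      apply hx₀
      have : x₀ = g * (g⁻¹ * x₀) := by group
      rw [this]
      exact G.mul_mem hg (hTG h2)
    · intro x hx
      obtain ⟨x', rfl⟩ := hπsurj x
      have h1 : x' ∉ G := fun h => hx ⟨x', h, rfl⟩
      rw [← map_pow, hG.pow x' h1, map_one]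
  have hTcard : 1 < Nat.card T := by
    have h1 : Nat.card T ≠ 1 := fun h => hTne (Subgroup.eq_bot_of_card_eq T h)
    have h2 := Nat.card_pos (α := T)
    omega
  have hmul := Cfsg.Agent.Lib.H1SZ.card_quotient_mul T
  have hlt : Nat.card (L ⧸ T) < n := by
    rw [← hn, ← hmul]
    exact lt_mul_of_one_lt_right Nat.card_pos hTcard
  have hq := ih _ hlt (L ⧸ T) rfl (G.map π) hSPq
  rw [Cfsg.Agent.Lib.PNilp.hasNormalPComplement_iff] at hq
  obtain ⟨Nb, hNbn, hNbc, hNbp⟩ := hq
  haveI := hNbn
  set K := Nb.comap π with hK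
  haveI hKn : K.Normal := Subgroup.Normal.comap hNbn π
  have hTK : T ≤ K := Cfsg.Agent.Lib.H1Hall.le_comap_mk Nb
  have hKc : Nat.card K = Nat.card Nb * Nat.card T := Cfsg.Agent.Lib.H1Hall.card_comap_mk T Nb
  have hrel : T.relIndex K = Nat.card Nb := by
    have := Subgroup.relIndex_mul_relIndex (⊥ : Subgroup L) T K bot_le hTK
    rw [Subgroup.relIndex_bot_left, Subgroup.relIndex_bot_left, hKc] at this
    rw [mul_comm] at this
    exact Nat.eq_of_mul_eq_mul_right (by omega) this
  obtain ⟨m, hm⟩ := IsPGroup.iff_card.mp hTp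
  have hc2 : (Nat.card T).Coprime (T.relIndex K) := by
    rw [hrel, hm]
    exact Nat.Coprime.pow_left m hNbc.symm
  have hnorm : K ≤ normalizer (T : Set L) := by
    rw [normalizer_eq_top_iff.mpr hTn]; exact le_top
  obtain ⟨H, hHK, hH⟩ := Cfsg.Agent.Lib.H1Cop.rel_exists hTK hnorm hc2
  rw [hrel] at hH
  have hHc : (Nat.card H).Coprime p := by rw [hH]; exact hNbc
  have hcTH : (Nat.card T).Coprime (Nat.card H) := by
    rw [hm]
    exact Nat.Coprime.pow_left m hHc.symm
  have hTsolv : Group.IsSolvable T := by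
    haveI := hTp.isNilpotent
    exact IsNilpotent.to_isSolvable
  have hsup : T ⊔ H = K := by
    apply Subgroup.eq_of_le_of_card_ge (sup_le hTK hHK)
    have h1 : Nat.card (T ⊔ H : Subgroup L) = Nat.card T * Nat.card H :=
      Cfsg.Agent.Lib.H1Cop.card_sup_of_coprime (by rw [normalizer_eq_top_iff.mpr hTn]; exact le_top) hcTH.symm
    rw [h1, hKc, hH, mul_comm]
  -- Frattini
  have hfrat : ∀ g : L, ∃ n' ∈ T, MulAut.conj n' • H = MulAut.conj g • H := by
    intro g
    apply Cfsg.Agent.Lib.FGS3.sz_conj_in_sup T H (MulAut.conj g • H) hcTH (Or.inl hTsolv)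
    · rw [hsup]
      intro x hx
      rw [Cfsg.Agent.Lib.FGSBasic.mem_conj_smul_iff] at hx
      have := hKn.conj_mem _ (hHK hx) g
      have h2 : g * (g⁻¹ * x * g) * g⁻¹ = x := by group
      rwa [h2] at this
    · exact Cfsg.Agent.Lib.H1Conj.card_conj_smul g H
  obtain ⟨n₀, hn₀, hn₀H⟩ := hfrat x₀
  set y := n₀⁻¹ * x₀ with hy
  have hyG : y ∉ G := by
    intro h
    apply hx₀
    have : x₀ = n₀ * y := by rw [hy]; group
    rw [this]
    exact G.mul_mem (hTG hn₀) h
  have hyN : y ∈ normalizer (H : Set L) := by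
    apply Cfsg.Agent.Lib.H1Conj.mem_normalizer_of_conj_smul_eq
    rw [hy, map_mul, map_inv, mul_smul, ← hn₀H, inv_smul_smul]
  have hfix : ∀ j, 0 < j → j < p → ∀ c ∈ H, y ^ j * c * (y ^ j)⁻¹ = c → c = 1 := by
    intro j h0 hj c hc hcc
    have h1 := pow_not_mem hprime hG hyG h0 hj
    have h2 : y ^ j * c = c * y ^ j := by
      have := congrArg (· * y ^ j) hcc
      simpa using this
    refine eq_one_of_comm hprime hG h1 h2 ?_
    exact Nat.Coprime.coprime_dvd_left (Subgroup.orderOf_dvd_natCard H hc) hHc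
  have hN : ∀ r ∈ H, ∀ a : Abelianization T, ∏ j ∈ Finset.range p, ((tau T (r * y * r⁻¹)) ^ j) a = 1 := by
    intro r _ a
    have ht : r * y * r⁻¹ ∉ G := by
      intro h
      apply hyG
      have := hGn.conj_mem _ h r⁻¹
      have h2 : r⁻¹ * (r * y * r⁻¹) * r⁻¹⁻¹ = y := by group
      rwa [h2] at this
    apply norm_of_pow T p hprime.pos _ (hG.pow _ ht)
    intro x hx
    apply hG.pow
    intro h
    apply ht
    have h3 := G.mul_mem h (G.inv_mem (hTG hx))
    simpa using h3
  have hcent : ∀ u ∈ H, u ∈ centralizer (T : Set L) := by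
    intro u hu
    exact mem_centralizer_of_tau T hTab (tau_trivial hprime T hTp H hHc y hyN hfix hN u hu)
  -- H is normal
  have hHn : H.Normal := by
    rw [← normalizer_eq_top_iff, eq_top_iff]
    intro g _
    obtain ⟨n', hn', hg⟩ := hfrat g
    apply Cfsg.Agent.Lib.H1Conj.mem_normalizer_of_conj_smul_eq
    rw [← hg]
    apply Cfsg.Agent.Lib.H1Conj.conj_smul_eq_self_of_mem_normalizer
    exact (Subgroup.centralizer_le_normalizer _) ((Subgroup.mem_centralizer_iff).mpr fun h hh =>
      ((mem_centralizer_iff.mp (hcent h hh)) n' hn').symm)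
  rw [Cfsg.Agent.Lib.PNilp.hasNormalPComplement_iff]
  refine ⟨H, hHn, hHc, ?_⟩
  obtain ⟨a, ha⟩ := IsPGroup.iff_card.mp hNbp
  apply IsPGroup.of_card (n := a + m)
  have h1 : Nat.card H * H.index = Nat.card H * p ^ (a + m) := by
    have h2 := Nb.card_mul_index
    rw [Subgroup.index_eq_card, ha] at h2
    rw [H.card_mul_index, hH, ← hmul, hm, pow_add, ← mul_assoc, h2]
  exact Nat.eq_of_mul_eq_mul_left Nat.card_pos h1

/-- Elements outside `G` of order `p`: existence of a normal `p`-complement. -/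
theorem npc (hp2 : p ≠ 2) : ∀ (n : ℕ) (L : Type u) [Group L] [Finite L], Nat.card L = n →
    ∀ G : Subgroup L, SP G p → HasNormalPComplement p L := by
  intro n
  induction n using Nat.strong_induction_on with
  | _ n ih =>
  intro L _ _ hn G hG
  classical
  haveI hGn : G.Normal := hG.normal
  have hprime : p.Prime := hp.out
  obtain ⟨x₀, hx₀⟩ : ∃ x, x ∉ G := by
    by_contra hcon
    push Not at hcon
    exact hG.ne_top (eq_top_iff.mpr fun x _ => hcon x)
  obtain ⟨S⟩ : Nonempty (Sylow p L) := inferInstance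
  obtain ⟨g₀, hg₀⟩ := Cfsg.Agent.Lib.PNilp.exists_conj_mem_sylow S x₀ ⟨1, by simpa using hG.pow x₀ hx₀⟩
  set y₁ := g₀ * x₀ * g₀⁻¹ with hy₁
  have hy₁G : y₁ ∉ G := by
    intro h
    apply hx₀
    have := hGn.conj_mem _ h g₀⁻¹
    have h2 : g₀⁻¹ * y₁ * g₀⁻¹⁻¹ = x₀ := by rw [hy₁]; group
    rwa [h2] at this
  have hSne : (S : Subgroup L) ≠ ⊥ := by
    intro h
    have h' : y₁ ∈ (S : Subgroup L) := hg₀
    rw [h, Subgroup.mem_bot] at h'
    apply hy₁G
    rw [h']
    exact G.one_mem
  set T : Subgroup L := centerThompsonOf p (S : Subgroup L) with hT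
  have hTne : T ≠ ⊥ := Cfsg.Agent.Lib.PZJ.centerThompsonOf_ne_bot S.2 hSne
  have hTS : T ≤ S := Cfsg.Agent.Lib.PZJ.centerThompsonOf_le _
  have hTp : IsPGroup p T := S.2.to_le hTS
  have hTab : IsMulCommutative T := center_abelian _
  have hSN : (S : Subgroup L) ≤ normalizer (T : Set L) := le_normalizer_center _
  by_cases hM : normalizer (T : Set L) = ⊤
  · haveI hTn : T.Normal := normalizer_eq_top_iff.mp hM
    by_cases hTG : T ≤ G
    · exact npc_step ih hn hG hx₀ hTne hTp hTab hTG
    · -- `L` is a `p`-group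
      have hcoprime : ∀ b : L, (orderOf b).Coprime p → b = 1 := by
        intro b hb
        by_cases hbG : b ∈ G
        · have hA : zpowers b ≤ normalizer (T : Set L) := by rw [hM]; exact le_top
          have hcop : (Nat.card (zpowers b)).Coprime (Nat.card T) := by
            rw [Nat.card_zpowers]
            obtain ⟨k, hk⟩ := IsPGroup.iff_card.mp hTp
            rw [hk]
            exact Nat.Coprime.pow_right k hb
          have hsolv : Group.IsSolvable T := by
            haveI := hTp.isNilpotent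
            exact IsNilpotent.to_isSolvable
          have h1 := Cfsg.Agent.Lib.H1Cop.commutator_sup_centralizer hA hcop (Or.inr hsolv)
          have h2 : ⁅T, zpowers b⁆ ≤ G := by
            rw [Subgroup.commutator_le]
            intro z _ a ha
            have haG : a ∈ G := (zpowers_le.mpr hbG) ha
            rw [commutatorElement_def]
            have h3 := hGn.conj_mem a haG z
            exact G.mul_mem h3 (G.inv_mem haG)
          have h3 : ¬ (T ⊓ centralizer (zpowers b : Set L)) ≤ G := by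
            intro h
            apply hTG
            rw [← h1]
            exact sup_le h2 h
          obtain ⟨z, hz, hzG⟩ := SetLike.not_le_iff_exists.mp h3
          have hzb : z * b = b * z :=
            ((mem_centralizer_iff.mp hz.2) b (mem_zpowers b)).symm
          exact eq_one_of_comm hprime hG hzG hzb hb
        · have h1 := orderOf_dvd_of_pow_eq_one (hG.pow b hbG)
          have h2 := Nat.dvd_gcd (dvd_refl _) h1
          rw [hb] at h2
          exact orderOf_eq_one_iff.mp (Nat.dvd_one.mp h2)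
      have hL : IsPGroup p L := by
        rw [IsPGroup.iff_orderOf]
        intro g
        obtain ⟨a, b, ha, hb, hab, ⟨k, hk⟩, hb'⟩ := Cfsg.Agent.Lib.FGSBasic.exists_p_decomp p g
        have hb1 := hcoprime b hb'
        rw [hb1, mul_one] at hab
        exact ⟨k, by rw [← hab]; exact hk⟩
      rw [Cfsg.Agent.Lib.PNilp.hasNormalPComplement_iff]
      refine ⟨⊥, inferInstance, by simp, hL.of_surjective (QuotientGroup.mk' _) (QuotientGroup.mk'_surjective _)⟩
  · -- inductive step using Glauberman–Thompson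
    set M := normalizer (T : Set L) with hMdef
    have hcardM : Nat.card M < n := by
      rw [← hn]
      by_contra hge
      exact hM (Subgroup.eq_top_of_card_eq _ (le_antisymm (Subgroup.card_le_card_group _) (not_lt.mp hge)))
    have hSPM : SP (G.subgroupOf M) p := by
      refine ⟨inferInstance, ?_, ?_⟩
      · intro h
        have h1 : (⟨y₁, hSN hg₀⟩ : M) ∈ G.subgroupOf M := by rw [h]; trivial
        exact hy₁G h1
      · intro x hx
        apply Subtype.ext
        have := hG.pow x.1 hx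
        simpa using this
    exact Cfsg.Agent.Lib.PZJ.glauberman_thompson_E hp2 S (ih _ hcardM M rfl _ hSPM)

/-- Central action in the abelianization: the key consequence of the norm relations. -/
theorem tau_u_trivial {L : Type*} [Group L] [Finite L] {G : Subgroup L} (hG : SP G p) {q : ℕ} [hq : Fact q.Prime]
    (Q : Subgroup L) [Q.Normal] (hQG : Q ≤ G) (hQp : IsPGroup q Q) (hqp : q ≠ p) (u y : L)
    (hcomm : u * y * u⁻¹ * y⁻¹ ∈ centralizer (Q : Set L)) (hup : u ^ p ∈ centralizer (Q : Set L))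
    (hyi : ∀ i : ℕ, y * u ^ i ∉ G) : tau Q u = 1 := by
  have hprime : p.Prime := hp.out
  ext a
  refine pure_norm hprime (tau Q y) (tau Q u) (tau_comm Q hcomm) ?_ ?_ ?_ a
  · rw [← map_pow]
    exact tau_eq_one_of_mem Q hup
  · intro i b
    rw [← map_pow, ← map_mul]
    refine norm_of_pow Q p hprime.pos _ (hG.pow _ (hyi i)) (fun x hx => hG.pow _ ?_) b
    intro h
    apply hyi i
    have h3 := G.mul_mem h (G.inv_mem (hQG hx))
    simpa using h3
  · intro b hb
    obtain ⟨n, hn⟩ := IsPGroup.iff_card.mp hQp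
    have h2 : Nat.card (Abelianization Q) ∣ q ^ n := by
      rw [← hn]
      exact Subgroup.card_dvd_of_surjective _ (QuotientGroup.mk'_surjective _)
    have h3 : orderOf b ∣ q ^ n := (orderOf_dvd_natCard b).trans h2
    have h4 : orderOf b ∣ p := orderOf_dvd_of_pow_eq_one hb
    have hcop : (q ^ n).Coprime p :=
      Nat.Coprime.pow_left n ((Nat.coprime_primes hq.out hprime).mpr hqp)
    have h5 := Nat.dvd_gcd h3 h4
    rw [hcop] at h5
    exact orderOf_eq_one_iff.mp (Nat.dvd_one.mp h5)

/-- Central element modulo a normal subgroup in a `p`-group. -/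
theorem exists_central_mod {S : Type*} [Group S] [Finite S] (hS : IsPGroup p S) (N D : Subgroup S)
    [N.Normal] [D.Normal] (hDN : ¬ D ≤ N) :
    ∃ u ∈ D, u ∉ N ∧ (∀ s : S, u * s * u⁻¹ * s⁻¹ ∈ N) ∧ u ^ p ∈ N := by
  classical
  set π := QuotientGroup.mk' N with hπ
  have hsurj : Function.Surjective π := QuotientGroup.mk'_surjective N
  have hone : ∀ a : S, π a = 1 ↔ a ∈ N := fun a => QuotientGroup.eq_one_iff a
  haveI hQp : IsPGroup p (S ⧸ N) := hS.of_surjective π hsurj
  haveI : Group.IsNilpotent (S ⧸ N) := hQp.isNilpotent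
  have hDb : D.map π ≠ ⊥ := by
    intro h
    apply hDN
    intro x hx
    have h1 : π x ∈ D.map π := ⟨x, hx, rfl⟩
    rw [h, Subgroup.mem_bot] at h1
    exact (hone x).mp h1
  haveI : (D.map π).Normal := Subgroup.Normal.map inferInstance π hsurj
  have h1 := Cfsg.Agent.Lib.H1Frat.normal_inf_center_ne_bot (D.map π) hDb
  obtain ⟨x, hx, hx1⟩ := Subgroup.bot_or_exists_ne_one _ |>.resolve_left h1
  obtain ⟨k, hk⟩ := hQp x
  -- order `p` element
  have hord : ∃ m, x ^ p ^ m ≠ 1 ∧ (x ^ p ^ m) ^ p = 1 := by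
    classical
    have hex : ∃ k, x ^ p ^ k = 1 := ⟨k, hk⟩
    let m := Nat.find hex - 1
    have hm0 : Nat.find hex ≠ 0 := by
      intro h0
      have := Nat.find_spec hex
      rw [h0] at this
      simp at this
      exact hx1 this
    refine ⟨m, ?_, ?_⟩
    · exact Nat.find_min hex (by omega)
    · have := Nat.find_spec hex
      rw [← pow_mul, ← pow_succ]
      have h2 : m + 1 = Nat.find hex := by omega
      rw [h2]
      exact this
  obtain ⟨m, hm1, hm2⟩ := hord
  have hmem : x ^ p ^ m ∈ D.map π ⊓ Subgroup.center (S ⧸ N) := Subgroup.pow_mem _ hx _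
  obtain ⟨⟨u, hu, huπ⟩, hcen⟩ := hmem
  refine ⟨u, hu, ?_, ?_, ?_⟩
  · intro h
    apply hm1
    rw [← huπ]
    exact (hone u).mpr h
  · intro s
    rw [← hone, map_mul, map_mul, map_mul, map_inv, map_inv, huπ]
    have h2 : x ^ p ^ m * π s = π s * x ^ p ^ m := (Subgroup.mem_center_iff.mp hcen (π s)).symm
    rw [h2]
    group
  · rw [← hone, map_pow, huπ]
    exact hm2

/-- The Hughes–Thompson–Kegel theorem, odd case. -/
theorem main_odd (hp2 : p ≠ 2) {L : Type u} [Group L] [Finite L] {G : Subgroup L} (hG : SP G p) :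
    Group.IsNilpotent G ∧ (¬ IsPGroup p L → G.index = p) := by
  classical
  haveI hGn : G.Normal := hG.normal
  have hprime : p.Prime := hp.out
  have hnpc := npc hp2 _ L rfl G hG
  rw [Cfsg.Agent.Lib.PNilp.hasNormalPComplement_iff] at hnpc
  obtain ⟨K, hKn, hKc, hKq⟩ := hnpc
  haveI := hKn
  have hKG : K ≤ G := by
    intro k hk
    by_contra hkG
    have h1 := orderOf_dvd_of_pow_eq_one (hG.pow k hkG)
    have h2 : (orderOf k).Coprime p :=
      Nat.Coprime.coprime_dvd_left (Subgroup.orderOf_dvd_natCard K hk) hKc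
    have h3 := Nat.dvd_gcd (dvd_refl _) h1
    rw [h2] at h3
    have h4 : k = 1 := orderOf_eq_one_iff.mp (Nat.dvd_one.mp h3)
    exact hkG (h4 ▸ G.one_mem)
  obtain ⟨x₀, hx₀⟩ : ∃ x, x ∉ G := by
    by_contra hcon
    push Not at hcon
    exact hG.ne_top (eq_top_iff.mpr fun x _ => hcon x)
  obtain ⟨S⟩ : Nonempty (Sylow p L) := inferInstance
  obtain ⟨g₀, hg₀⟩ := Cfsg.Agent.Lib.PNilp.exists_conj_mem_sylow S x₀ ⟨1, by simpa using hG.pow x₀ hx₀⟩
  set y₁ := g₀ * x₀ * g₀⁻¹ with hy₁
  have hy₁G : y₁ ∉ G := by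
    intro h
    apply hx₀
    have := hGn.conj_mem _ h g₀⁻¹
    have h2 : g₀⁻¹ * y₁ * g₀⁻¹⁻¹ = x₀ := by rw [hy₁]; group
    rwa [h2] at this
  have hy₁S : y₁ ∈ (S : Subgroup L) := hg₀
  -- K is nilpotent
  have hKnil : Group.IsNilpotent K := by
    by_cases hK1 : K = ⊥
    · subst hK1
      infer_instance
    · obtain ⟨k₀, hk₀, hk₀1⟩ := K.bot_or_exists_ne_one.resolve_left hK1
      have hfpf : ∀ k ∈ K, y₁ * k * y₁⁻¹ = k → k = 1 := by
        intro k hk hc
        have h2 : y₁ * k = k * y₁ := by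
          have := congrArg (· * y₁) hc
          simpa using this
        exact eq_one_of_comm hprime hG hy₁G h2
          (Nat.Coprime.coprime_dvd_left (Subgroup.orderOf_dvd_natCard K hk) hKc)
      let φ : MulAut K := MulAut.conjNormal y₁
      have hφfix : MonoidHom.FixedPointFree (φ : K →* K) := by
        intro k hk
        apply Subtype.ext
        have h1 : ((φ k : K) : L) = k := congrArg Subtype.val hk
        rw [MulAut.conjNormal_apply] at h1
        exact hfpf k k.2 h1
      have hφp : φ ^ p = 1 := by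
        show (MulAut.conjNormal y₁ : MulAut K) ^ p = 1
        rw [← map_pow, hG.pow y₁ hy₁G, map_one]
      have hφ1 : φ ≠ 1 := by
        intro h
        have h1 : φ ⟨k₀, hk₀⟩ = ⟨k₀, hk₀⟩ := by rw [h]; rfl
        have h2 := hφfix _ h1
        exact hk₀1 (congrArg Subtype.val h2)
      exact Cfsg.Agent.S0033.result φ hφfix p hprime (orderOf_eq_prime hφp hφ1)
  -- normal subgroups Q of K
  have hQ : ∀ (q : ℕ) [Fact q.Prime] (P : Sylow q K),
      ((P : Subgroup K).map K.subtype).Normal := by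
    intro q _ P
    haveI : (P : Subgroup K).Characteristic := Sylow.characteristic_of_normal P inferInstance
    exact Cfsg.Agent.Lib.H1Core.normal_map_of_characteristic K _
  have hqne : ∀ (q : ℕ), q.Prime → q ∣ Nat.card K → q ≠ p := by
    rintro q _ hqK rfl
    have := Nat.dvd_gcd hqK (dvd_refl q)
    rw [hKc] at this
    exact ‹q.Prime›.one_lt.ne' (Nat.dvd_one.mp this)
  have hcenQ : ∀ (q : ℕ) [hq : Fact q.Prime] (P : Sylow q K), q ∣ Nat.card K →
      (S : Subgroup L) ⊓ G ≤ centralizer (((P : Subgroup K).map K.subtype : Subgroup L) : Set L) := by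
    intro q hq P hqK
    haveI := hQ q P
    set Q : Subgroup L := (P : Subgroup K).map K.subtype with hQdef
    have hQK : Q ≤ K := Subgroup.map_subtype_le _
    have hQp : IsPGroup q Q := P.2.map K.subtype
    have hqp := hqne q hq.out hqK
    by_contra hcon
    haveI hSp : IsPGroup p (S : Subgroup L) := S.2
    haveI : (centralizer (Q : Set L)).Normal := inferInstance
    have hcon2 : ¬ G.subgroupOf (S : Subgroup L) ≤ (centralizer (Q : Set L)).subgroupOf (S : Subgroup L) := by
      intro h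
      apply hcon
      rintro x ⟨hx1, hx2⟩
      exact h (show (⟨x, hx1⟩ : (S : Subgroup L)) ∈ G.subgroupOf (S : Subgroup L) from hx2)
    obtain ⟨w, hwD, hwN, hwc, hwp⟩ := exists_central_mod hSp
      ((centralizer (Q : Set L)).subgroupOf (S : Subgroup L)) (G.subgroupOf (S : Subgroup L)) hcon2
    have huG : (w : L) ∈ G := hwD
    have hτ := tau_u_trivial hG Q (hQK.trans hKG) hQp hqp (w : L) y₁
      (hwc ⟨y₁, hy₁S⟩) hwp (by
        intro i h
        apply hy₁G
        have h3 := G.mul_mem h (G.inv_mem (G.pow_mem huG i))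
        simpa using h3)
    have hwo : (orderOf (w : L)).Coprime q := by
      obtain ⟨k, hk⟩ := IsPGroup.iff_orderOf.mp hSp w
      rw [Subgroup.orderOf_coe, hk]
      exact Nat.Coprime.pow_left k ((Nat.coprime_primes hprime hq.out).mpr hqp.symm)
    exact hwN (mem_centralizer_of_tau_q Q hQp hτ hwo)
  -- S ⊓ G centralizes K
  have hcenK : ∀ u ∈ (S : Subgroup L) ⊓ G, ∀ k ∈ K, k * u = u * k := by
    intro u hu k hk
    have h1 := Cfsg.Agent.Lib.FGSBasic.mem_closure_primePow_parts k
    have h2 : closure {y | y ∈ zpowers k ∧ ∃ q e : ℕ, q.Prime ∧ orderOf y = q ^ e} ≤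
        centralizer ({u} : Set L) := by
      rw [closure_le]
      rintro y ⟨hy, q, e, hq, he⟩
      haveI : Fact q.Prime := ⟨hq⟩
      have hyK : y ∈ K := (zpowers_le.mpr hk) hy
      rcases Nat.eq_zero_or_pos e with rfl | he0
      · rw [pow_zero] at he
        rw [orderOf_eq_one_iff.mp he]
        exact Subgroup.one_mem _
      have hqK : q ∣ Nat.card K := by
        have h3 : q ∣ orderOf y := by rw [he]; exact dvd_pow_self q he0.ne'
        exact h3.trans (Subgroup.orderOf_dvd_natCard K hyK)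
      obtain ⟨P⟩ : Nonempty (Sylow q K) := inferInstance
      have hyP : (⟨y, hyK⟩ : K) ∈ (P : Subgroup K) := by
        apply Cfsg.Agent.Lib.FGSBasic.mem_sylow_of_normal P inferInstance
        exact ⟨e, by rw [Subgroup.orderOf_mk]; exact he⟩
      have hyQ : y ∈ (P : Subgroup K).map K.subtype := ⟨_, hyP, rfl⟩
      have h4 := (mem_centralizer_iff.mp (hcenQ q P hqK hu)) y hyQ
      rw [SetLike.mem_coe, Subgroup.mem_centralizer_singleton_iff]
      exact h4
    have h3 := h2 h1
    exact Subgroup.mem_centralizer_singleton_iff.mp h3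
  have hsup : (S : Subgroup L) ⊔ K = ⊤ := Cfsg.Agent.Lib.PNilp.sup_eq_top_of_isPGroup_quotient S K hKq
  constructor
  · -- nilpotency of G
    set P₀ : Subgroup L := (S : Subgroup L) ⊓ G with hP₀
    have hP₀p : IsPGroup p P₀ := S.2.to_le inf_le_left
    haveI : Group.IsNilpotent P₀ := hP₀p.isNilpotent
    let ψ : K × P₀ →* G := MonoidHom.mk' (fun q => ⟨(q.1 : L) * q.2, G.mul_mem (hKG q.1.2) q.2.2.2⟩) (by
      intro a b
      apply Subtype.ext
      show ((a.1 : L) * b.1) * ((a.2 : L) * b.2) = ((a.1 : L) * a.2) * ((b.1 : L) * b.2)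
      have h1 := hcenK a.2 a.2.2 b.1 b.1.2
      calc ((a.1 : L) * b.1) * ((a.2 : L) * b.2) = a.1 * ((b.1 : L) * a.2) * b.2 := by group
        _ = a.1 * ((a.2 : L) * b.1) * b.2 := by rw [h1]
        _ = ((a.1 : L) * a.2) * ((b.1 : L) * b.2) := by group)
    have hψ : Function.Surjective ψ := by
      rintro ⟨g, hg⟩
      have h1 : g ∈ K ⊔ (S : Subgroup L) := by rw [sup_comm, hsup]; trivial
      obtain ⟨k, hk, s, hs, rfl⟩ := Subgroup.mem_sup_of_normal_left.mp h1
      have hsG : s ∈ G := by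
        have h2 := G.mul_mem (G.inv_mem (hKG hk)) hg
        simpa using h2
      exact ⟨(⟨k, hk⟩, ⟨s, hs, hsG⟩), rfl⟩
    exact Group.nilpotent_of_surjective ψ hψ
  · -- the index
    intro hnotp
    have hKne : K ≠ ⊥ := by
      intro h
      apply hnotp
      intro g
      obtain ⟨k, hk⟩ := hKq (g : L ⧸ K)
      refine ⟨k, ?_⟩
      rw [← QuotientGroup.mk_pow, QuotientGroup.eq_one_iff, h, Subgroup.mem_bot] at hk
      exact hk
    have hcardK : Nat.card K ≠ 1 := fun h => hKne (Subgroup.eq_bot_of_card_eq K h)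
    set q := (Nat.card K).minFac with hqdef
    have hq : q.Prime := Nat.minFac_prime hcardK
    haveI : Fact q.Prime := ⟨hq⟩
    have hqK : q ∣ Nat.card K := Nat.minFac_dvd _
    have hqp := hqne q hq hqK
    obtain ⟨P⟩ : Nonempty (Sylow q K) := inferInstance
    obtain ⟨k₀, hk₀⟩ := exists_prime_orderOf_dvd_card' q hqK
    have hk₀P : k₀ ∈ (P : Subgroup K) := by
      apply Cfsg.Agent.Lib.FGSBasic.mem_sylow_of_normal P inferInstance
      exact ⟨1, by rw [pow_one]; exact hk₀⟩
    haveI := hQ q P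
    set Q : Subgroup L := (P : Subgroup K).map K.subtype with hQdef
    have hQK : Q ≤ K := Subgroup.map_subtype_le _
    have hQp : IsPGroup q Q := P.2.map K.subtype
    set π := QuotientGroup.mk' G with hπ
    have hπone : ∀ a : L, π a = 1 ↔ a ∈ G := fun a => QuotientGroup.eq_one_iff a
    have hπsurj : Function.Surjective π := QuotientGroup.mk'_surjective G
    have hLp : IsPGroup p (L ⧸ G) := by
      intro xb
      obtain ⟨x, rfl⟩ := hπsurj xb
      refine ⟨1, ?_⟩
      by_cases hx : x ∈ G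
      · rw [(hπone x).mpr hx, one_pow]
      · rw [pow_one, ← map_pow, hG.pow x hx, map_one]
    haveI : Nontrivial (L ⧸ G) := ⟨⟨π x₀, 1, fun h => hx₀ ((hπone x₀).mp h)⟩⟩
    haveI := hLp.center_nontrivial
    obtain ⟨ub, hub⟩ := exists_ne (1 : Subgroup.center (L ⧸ G))
    have hub1 : (ub : L ⧸ G) ≠ 1 := fun h => hub (Subtype.ext h)
    have hubp : (ub : L ⧸ G) ^ p = 1 := by
      obtain ⟨x, hx⟩ := hπsurj (ub : L ⧸ G)
      have hxG : x ∉ G := fun h => hub1 (by rw [← hx]; exact (hπone x).mpr h)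
      rw [← hx, ← map_pow, hG.pow x hxG, map_one]
    have hlift : ∀ xb : L ⧸ G, ∃ s ∈ (S : Subgroup L), π s = xb := by
      intro xb
      obtain ⟨x, rfl⟩ := hπsurj xb
      have h1 : x ∈ (S : Subgroup L) ⊔ K := by rw [hsup]; trivial
      obtain ⟨s, hs, k, hk, rfl⟩ := Subgroup.mem_sup_of_normal_right.mp h1
      refine ⟨s, hs, ?_⟩
      rw [map_mul, (hπone k).mpr (hKG hk), mul_one]
    have htop : zpowers (ub : L ⧸ G) = ⊤ := by
      rw [eq_top_iff]
      intro yb _
      by_contra hyb
      obtain ⟨u, huS, huπ⟩ := hlift ub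
      obtain ⟨y, hyS, hyπ⟩ := hlift yb
      have hcen : (S : Subgroup L) ⊓ G ≤ centralizer (Q : Set L) := hcenQ q P hqK
      have huG : u ∉ G := fun h => hub1 (by rw [← huπ]; exact (hπone u).mpr h)
      have h1 : u * y * u⁻¹ * y⁻¹ ∈ centralizer (Q : Set L) := by
        apply hcen
        refine ⟨(S : Subgroup L).mul_mem ((S : Subgroup L).mul_mem ((S : Subgroup L).mul_mem huS hyS)
          ((S : Subgroup L).inv_mem huS)) ((S : Subgroup L).inv_mem hyS), ?_⟩
        show u * y * u⁻¹ * y⁻¹ ∈ G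
        rw [← hπone]
        simp only [map_mul, map_inv, huπ, hyπ]
        have h2 : (ub : L ⧸ G) * yb = yb * ub := (Subgroup.mem_center_iff.mp ub.2 yb).symm
        rw [h2]
        group
      have h2 : u ^ p ∈ centralizer (Q : Set L) := by
        apply hcen
        refine ⟨(S : Subgroup L).pow_mem huS p, ?_⟩
        show u ^ p ∈ G
        rw [← hπone, map_pow, huπ, hubp]
      have h3 : ∀ i : ℕ, y * u ^ i ∉ G := by
        intro i h
        apply hyb
        have h4 := (hπone _).mpr h
        rw [map_mul, map_pow, huπ, hyπ] at h4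
        have h5 : yb = ((ub : L ⧸ G) ^ i)⁻¹ := eq_inv_of_mul_eq_one_left h4
        rw [h5]
        exact Subgroup.inv_mem _ (Subgroup.pow_mem _ (mem_zpowers _) _)
      have hτ := tau_u_trivial hG Q (hQK.trans hKG) hQp hqp u y h1 h2 h3
      have huo : (orderOf u).Coprime q := by
        obtain ⟨k, hk⟩ := IsPGroup.iff_orderOf.mp S.2 ⟨u, huS⟩
        rw [Subgroup.orderOf_mk] at hk
        rw [hk]
        exact Nat.Coprime.pow_left k ((Nat.coprime_primes hprime hq).mpr hqp.symm)
      have h6 := mem_centralizer_of_tau_q Q hQp hτ huo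
      have hzQ : (k₀ : L) ∈ Q := ⟨k₀, hk₀P, rfl⟩
      have h7 := (mem_centralizer_iff.mp h6) _ hzQ
      have h8 := eq_one_of_comm hprime hG huG h7.symm
        (Nat.Coprime.coprime_dvd_left (Subgroup.orderOf_dvd_natCard K k₀.2) hKc)
      have h9 : k₀ = 1 := Subtype.ext h8
      rw [h9, orderOf_one] at hk₀
      exact hq.one_lt.ne hk₀
    have hord := orderOf_eq_prime hubp hub1
    have h1 : Nat.card (L ⧸ G) = orderOf (ub : L ⧸ G) := by
      rw [← Nat.card_zpowers, htop, Subgroup.card_top]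
    rw [Subgroup.index, h1, hord]

end Main


section Two

variable {L : Type*} [Group L] {G : Subgroup L}

theorem invert_two (hG : SP G 2) {y g : L} (hy : y ∉ G) (hg : g ∈ G) : y * g * y⁻¹ = g⁻¹ := by
  have h1 : y * g ∉ G := fun h => hy (by simpa using G.mul_mem h (G.inv_mem hg))
  have h2 := hG.pow _ h1
  have h3 := hG.pow _ hy
  have hyinv : y⁻¹ = y := by
    rw [pow_two] at h3
    exact inv_eq_of_mul_eq_one_left h3
  rw [hyinv]
  rw [pow_two] at h2
  have : y * g * y * g = 1 := by rw [← h2]; group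
  exact eq_inv_of_mul_eq_one_left this

theorem nilpotent_two (hG : SP G 2) : Group.IsNilpotent G := by
  obtain ⟨y, hy⟩ : ∃ y, y ∉ G := by
    by_contra h
    push Not at h
    exact hG.ne_top (eq_top_iff.mpr fun x _ => h x)
  have hcomm : ∀ a b : G, a * b = b * a := by
    intro a b
    apply Subtype.ext
    push_cast
    have h1 := invert_two hG hy a.2
    have h2 := invert_two hG hy b.2
    have h3 := invert_two hG hy (G.mul_mem a.2 b.2)
    have h4 : y * ((a : L) * b) * y⁻¹ = (y * a * y⁻¹) * (y * b * y⁻¹) := by group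
    rw [h4, h1, h2] at h3
    have h5 : ((a : L) * b)⁻¹ = (b : L)⁻¹ * (a : L)⁻¹ := mul_inv_rev _ _
    rw [h5] at h3
    have h6 : (a : L)⁻¹ * (b : L)⁻¹ = ((b : L) * a)⁻¹ := by group
    have h7 : (b : L)⁻¹ * (a : L)⁻¹ = ((a : L) * b)⁻¹ := by group
    rw [h6, h7] at h3
    exact (inv_injective h3).symm
  letI : CommGroup G := { (inferInstance : Group G) with mul_comm := hcomm }
  infer_instance

theorem index_two [Finite L] (hG : SP G 2) (hL : ¬ IsPGroup 2 L) : G.index = 2 := by
  classical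
  haveI := hG.normal
  by_contra hne
  have hsq : ∀ x : L, x ∉ G → x * x = 1 := fun x hx => by
    have := hG.pow x hx
    rwa [pow_two] at this
  -- the quotient has at least 3 elements
  have hcard : 2 < Nat.card (L ⧸ G) := by
    have h1 : Nat.card (L ⧸ G) ≠ 1 := by
      intro h
      have : G.index = 1 := h
      exact hG.ne_top (Subgroup.index_eq_one.mp this)
    have h0 : Nat.card (L ⧸ G) ≠ 0 := Nat.card_pos.ne'
    have h2 : Nat.card (L ⧸ G) ≠ 2 := hne
    omega
  haveI : Fintype (L ⧸ G) := Fintype.ofFinite _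
  rw [Nat.card_eq_fintype_card, ← Finset.card_univ] at hcard
  have hcard' : ({1} : Finset (L ⧸ G)).card < (Finset.univ : Finset (L ⧸ G)).card := by
    simp only [Finset.card_singleton]; omega
  obtain ⟨a, -, ha⟩ := Finset.exists_mem_notMem_of_card_lt_card hcard'
  have hcard2 : ({1, a} : Finset (L ⧸ G)).card < (Finset.univ : Finset (L ⧸ G)).card := by
    refine lt_of_le_of_lt (Finset.card_le_two) hcard
  obtain ⟨b, -, hb⟩ := Finset.exists_mem_notMem_of_card_lt_card hcard2
  simp only [Finset.mem_singleton, Finset.mem_insert, not_or] at ha hb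
  obtain ⟨y, rfl⟩ := QuotientGroup.mk'_surjective G a
  obtain ⟨y', rfl⟩ := QuotientGroup.mk'_surjective G b
  have hone : ∀ a : L, QuotientGroup.mk' G a = 1 ↔ a ∈ G := fun a => QuotientGroup.eq_one_iff a
  have hy : y ∉ G := fun h => ha ((hone y).mpr h)
  have hy' : y' ∉ G := fun h => hb.1 ((hone y').mpr h)
  have hyy : y * y' ∉ G := by
    intro h
    have h1 := (hone _).mpr h
    rw [map_mul] at h1
    apply hb.2
    have h2 : QuotientGroup.mk' G y * QuotientGroup.mk' G y = 1 := by
      rw [← map_mul, hsq y hy, map_one]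
    have h3 : QuotientGroup.mk' G y * QuotientGroup.mk' G y = QuotientGroup.mk' G y * QuotientGroup.mk' G y' := by
      rw [h2, h1]
    exact (mul_left_cancel h3).symm
  have hg : ∀ g ∈ G, g * g = 1 := by
    intro g hg
    have h1 := invert_two hG hyy hg
    have h2 := invert_two hG hy' hg
    have h3 := invert_two hG hy (G.inv_mem hg)
    have h4 : y * y' * g * (y * y')⁻¹ = y * (y' * g * y'⁻¹) * y⁻¹ := by group
    rw [h4, h2, h3, inv_inv] at h1
    -- `g = g⁻¹`
    calc g * g = g⁻¹ * g := by rw [← h1]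
      _ = 1 := inv_mul_cancel g
  apply hL
  intro x
  refine ⟨1, ?_⟩
  rw [pow_one, pow_two]
  by_cases hx : x ∈ G
  · exact hg x hx
  · exact hsq x hx

end Two

/-- The Hughes–Thompson–Kegel theorem. -/
theorem main {p : ℕ} [hp : Fact p.Prime] {L : Type u} [Group L] [Finite L] {G : Subgroup L} (hG : SP G p) :
    Group.IsNilpotent G ∧ (¬ IsPGroup p L → G.index = p) := by
  by_cases hp2 : p = 2
  · subst hp2
    exact ⟨nilpotent_two hG, index_two hG⟩
  · exact main_odd hp2 hG

end Cfsg.Agent.Lib.Kegel
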