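import Mathlib

set_option autoImplicit false

/-! Algebra for splitting automorphisms: norm calculations in the abelianization of a normal subgroup. -/

namespace Cfsg.Agent.Lib.KegelA

open Subgroup

section Pure

variable {A : Type*} [CommGroup A]

theorem prod_range_mul {p : ℕ} (hp : p.Prime) (g : ℕ → A) (hg : ∀ n, g (n % p) = g n) (j : ℕ)
    (hj : j.Coprime p) : ∏ i ∈ Finset.range p, g (i * j) = ∏ i ∈ Finset.range p, g i := by
  classical
  have hinj : Set.InjOn (fun i => (i * j) % p) (Finset.range p : Set ℕ) := by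
    intro a ha b hb hab
    have ha' : a < p := Finset.mem_range.mp ha
    have hb' : b < p := Finset.mem_range.mp hb
    have h1 : a * j ≡ b * j [MOD p] := hab
    have h2 : a ≡ b [MOD p] := Nat.ModEq.cancel_right_of_coprime (by rw [Nat.gcd_comm]; exact hj) h1
    exact Nat.ModEq.eq_of_lt_of_lt h2 ha' hb'
  have himg : (Finset.range p).image (fun i => (i * j) % p) = Finset.range p := by
    apply Finset.eq_of_subset_of_card_le
    · intro x hx
      obtain ⟨i, _, rfl⟩ := Finset.mem_image.mp hx
      exact Finset.mem_range.mpr (Nat.mod_lt _ hp.pos)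
    · rw [Finset.card_image_of_injOn hinj]
  calc ∏ i ∈ Finset.range p, g (i * j) = ∏ i ∈ Finset.range p, g ((i * j) % p) := by
        apply Finset.prod_congr rfl
        intro i _
        rw [hg]
    _ = ∏ x ∈ (Finset.range p).image (fun i => (i * j) % p), g x := (Finset.prod_image hinj).symm
    _ = ∏ i ∈ Finset.range p, g i := by rw [himg]

/-- The key identity: commuting `y`, `u` of exponent dividing `p`, all of the elements `y u^i`
having vanishing norm: `u` is trivial if `A` has no `p`-torsion. -/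
theorem pure_norm {p : ℕ} (hp : p.Prime) (y u : MulAut A) (hc : y * u = u * y) (hu : u ^ p = 1)
    (hN : ∀ (i : ℕ) (a : A), ∏ j ∈ Finset.range p, ((y * u ^ i) ^ j) a = 1)
    (hcop : ∀ a : A, a ^ p = 1 → a = 1) (a : A) : u a = a := by
  classical
  have hcomm : Commute y u := hc
  set T : A := ∏ i ∈ Finset.range p, (u ^ i) a with hT
  obtain ⟨k, hk⟩ : ∃ k, p = k + 1 := ⟨p - 1, by have := hp.pos; omega⟩
  have hpow : ∀ i j : ℕ, (y * u ^ i) ^ j = y ^ j * u ^ (i * j) := by
    intro i j
    have h1 : Commute y (u ^ i) := hcomm.pow_right i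
    rw [h1.mul_pow, ← pow_mul]
  -- periodicity
  have hper : ∀ n : ℕ, u ^ (n % p) = u ^ n := by
    intro n
    conv_rhs => rw [← Nat.mod_add_div n p, pow_add, pow_mul, hu, one_pow, mul_one]
  have hTj : ∀ j : ℕ, 0 < j → j < p → ∏ i ∈ Finset.range p, (u ^ (i * j)) a = T := by
    intro j hj0 hjp
    apply prod_range_mul hp (fun n => (u ^ n) a) (fun n => by simp only [hper]) j
    exact ((Nat.Prime.coprime_iff_not_dvd hp).mpr (Nat.not_dvd_of_pos_of_lt hj0 hjp)).symm
  -- main double product
  have hmain : ∏ j ∈ Finset.range p, (y ^ j) (∏ i ∈ Finset.range p, (u ^ (i * j)) a) = 1 := by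
    have h1 : ∏ i ∈ Finset.range p, ∏ j ∈ Finset.range p, ((y * u ^ i) ^ j) a = 1 :=
      Finset.prod_eq_one (fun i _ => hN i a)
    rw [Finset.prod_comm] at h1
    rw [← h1]
    apply Finset.prod_congr rfl
    intro j _
    rw [map_prod]
    apply Finset.prod_congr rfl
    intro i _
    rw [hpow]
    rfl
  have hsplit : ∀ f : ℕ → A, ∏ j ∈ Finset.range p, f j = (∏ j ∈ Finset.range k, f (j + 1)) * f 0 := by
    intro f
    rw [hk, Finset.prod_range_succ']
  rw [hsplit] at hmain
  have h0 : ∏ i ∈ Finset.range p, (u ^ (i * 0)) a = a ^ p := by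
    simp
  rw [pow_zero] at hmain
  have hmain' : (∏ j ∈ Finset.range k, (y ^ (j + 1)) T) * a ^ p = 1 := by
    have h3 : (∏ j ∈ Finset.range k, (y ^ (j + 1)) (∏ i ∈ Finset.range p, (u ^ (i * (j + 1))) a))
        = ∏ j ∈ Finset.range k, (y ^ (j + 1)) T := by
      apply Finset.prod_congr rfl
      intro j hj
      rw [hTj (j + 1) (Nat.succ_pos j) (by have := Finset.mem_range.mp hj; omega)]
    rw [h3, h0] at hmain
    exact hmain
  -- norm of y at T
  have hyT : (∏ j ∈ Finset.range k, (y ^ (j + 1)) T) * T = 1 := by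
    have h1 := hN 0 T
    simp only [pow_zero, mul_one] at h1
    rw [hsplit] at h1
    simpa using h1
  have hTa : T = a ^ p := by
    have h1 : (∏ j ∈ Finset.range k, (y ^ (j + 1)) T) * T = (∏ j ∈ Finset.range k, (y ^ (j + 1)) T) * a ^ p := by
      rw [hyT, hmain']
    exact mul_left_cancel h1
  -- u T = T
  have huT : u T = T := by
    rw [hT, map_prod]
    have h1 : ∀ i, u ((u ^ i) a) = (u ^ (i + 1)) a := by
      intro i
      rw [pow_succ']
      rfl
    simp only [h1]
    have h2 := Finset.prod_range_succ (fun i => (u ^ i) a) p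
    have h3 := Finset.prod_range_succ' (fun i => (u ^ i) a) p
    rw [h2] at h3
    rw [hu] at h3
    simp only [pow_zero] at h3
    exact (mul_right_cancel h3).symm
  have h4 : (u a * a⁻¹) ^ p = 1 := by
    rw [mul_pow, inv_pow, ← map_pow, ← hTa, huT, hTa]
    simp
  have h5 := hcop _ h4
  exact mul_inv_eq_one.mp h5

end Pure

section Tau

variable {L : Type*} [Group L] (Q : Subgroup L) [hQ : Q.Normal]

/-- The action on the abelianization of a normal subgroup. -/
noncomputable def tau : L →* MulAut (Abelianization Q) :=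
  MonoidHom.mk' (fun t => (MulAut.conjNormal t : MulAut Q).abelianizationCongr) (by
    intro s t
    ext a
    obtain ⟨z, rfl⟩ := QuotientGroup.mk_surjective a
    show _ = _
    simp only [MulAut.mul_apply, map_mul]
    rfl)

@[simp] theorem tau_of (t : L) (x : Q) :
    tau Q t (Abelianization.of x) = Abelianization.of (MulAut.conjNormal t x) := rfl

theorem of_eq_iff (x y : Q) : Abelianization.of x = Abelianization.of y ↔ x⁻¹ * y ∈ commutator Q := by
  show (QuotientGroup.mk x : Q ⧸ commutator Q) = QuotientGroup.mk y ↔ _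
  exact QuotientGroup.eq

theorem tau_eq_one_of_mem {t : L} (ht : t ∈ centralizer (Q : Set L)) : tau Q t = 1 := by
  ext a
  obtain ⟨z, rfl⟩ := QuotientGroup.mk_surjective a
  show tau Q t (Abelianization.of z) = Abelianization.of z
  rw [tau_of]
  have : MulAut.conjNormal t z = z := by
    apply Subtype.ext
    rw [MulAut.conjNormal_apply]
    have h1 := (mem_centralizer_iff.mp ht) z z.2
    rw [← h1]
    group
  rw [this]

theorem tau_comm {u y : L} (h : u * y * u⁻¹ * y⁻¹ ∈ centralizer (Q : Set L)) :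
    tau Q y * tau Q u = tau Q u * tau Q y := by
  have h1 : u * y = (u * y * u⁻¹ * y⁻¹) * (y * u) := by group
  rw [← map_mul, ← map_mul, h1, map_mul _ (u * y * u⁻¹ * y⁻¹), tau_eq_one_of_mem Q h, one_mul]

/-- The norm relation: if all elements `t x` (`x ∈ Q`) have order dividing `p`. -/
theorem norm_of_pow (p : ℕ) (hp : 0 < p) (t : L) (ht : t ^ p = 1) (h : ∀ x ∈ Q, (t * x) ^ p = 1)
    (a : Abelianization Q) : ∏ j ∈ Finset.range p, ((tau Q t) ^ j) a = 1 := by
  classical
  obtain ⟨x, rfl⟩ := QuotientGroup.mk_surjective a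
  change ∏ j ∈ Finset.range p, ((tau Q t) ^ j) (Abelianization.of x) = 1
  have key : ∀ n : ℕ, ∃ w : Q, (w : L) = (t * x) ^ n * (t ^ n)⁻¹ ∧
      Abelianization.of w = ∏ j ∈ Finset.range n, ((tau Q t) ^ (j + 1)) (Abelianization.of x) := by
    intro n
    induction n with
    | zero => exact ⟨1, by simp, by simp⟩
    | succ n ih =>
      obtain ⟨w, hw, hwa⟩ := ih
      refine ⟨w * MulAut.conjNormal (t ^ (n + 1)) x, ?_, ?_⟩
      · rw [Subgroup.coe_mul, MulAut.conjNormal_apply, hw]
        simp only [pow_succ]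
        group
      · rw [map_mul, hwa, Finset.prod_range_succ, ← map_pow (tau Q) t (n + 1), tau_of]
  obtain ⟨w, hw, hwa⟩ := key p
  rw [h x x.2, ht] at hw
  have hw1 : w = 1 := by
    apply Subtype.ext
    rw [hw]
    simp
  rw [hw1, map_one] at hwa
  have h2 : (tau Q t) (∏ j ∈ Finset.range p, ((tau Q t) ^ j) (Abelianization.of x)) = 1 := by
    rw [map_prod, hwa]
    apply Finset.prod_congr rfl
    intro j _
    rw [pow_succ']
    rfl
  exact (map_eq_one_iff _ (MulEquiv.injective (tau Q t))).mp h2

end Tau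

end Cfsg.Agent.Lib.KegelA
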