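import Mathlib
import Cfsg.Agent.Lib.LFstarAct2
import Cfsg.Agent.Lib.LSpe5

set_option autoImplicit false
set_option linter.unusedSectionVars false
set_option linter.unusedVariables false
set_option linter.style.haveILetI false

/-! A component not normalized by an abelian normal subgroup of a Sylow `2`-subgroup. -/

namespace Cfsg.Agent.Lib.LCompAb

open Subgroup Cfsg Cfsg.Agent.Lib.Comp
open scoped commutatorElement

variable {G : Type*} [Group G] [Finite G] {p : ℕ} [Fact p.Prime]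

theorem core_comm (K : Subgroup G) (hK : IsComponent K) (T Y : Subgroup G) (hYT : Y ≤ T)
    (hYn : T ≤ normalizer (Y : Set G)) (hYab : ∀ a ∈ Y, ∀ b ∈ Y, a * b = b * a) (hnot : ¬ Y ≤ normalizer (K : Set G))
    {r s : G} (hrT : r ∈ T) (hrK : r ∈ K) (hsT : s ∈ T) (hsK : s ∈ K) :
    ∃ z ∈ center ↥K, (z : G) = r * s * r⁻¹ * s⁻¹ := by
  obtain ⟨y, hy, hyN⟩ := SetLike.not_le_iff_exists.1 hnot
  have hne : K ≠ K.map (MulAut.conj y).toMonoidHom := fun e =>
    hyN (Cfsg.Agent.Lib.LWeak.mem_normalizer_of_map_eq e.symm)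
  have hK' : IsComponent (K.map (MulAut.conj y).toMonoidHom) := isComponent_map_equiv hK (MulAut.conj y)
  have hcom := comp_comm_comp hK hK' hne
  have hcc : ∀ k ∈ K, ∀ u ∈ K, k * (y * u * y⁻¹) = (y * u * y⁻¹) * k := by
    intro k hk u hu
    exact (comm_iff.1 hcom) k hk _ ⟨u, hu, by simp [MulAut.conj_apply]⟩
  -- the commutators lie in `Y`
  have hm : ∀ t ∈ T, t * y * t⁻¹ * y⁻¹ ∈ Y := fun t ht =>
    mul_mem ((mem_normalizer_iff.1 (hYn ht) y).1 hy) (inv_mem hy)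
  set r' := y * r⁻¹ * y⁻¹ with hr'
  set s' := y * s⁻¹ * y⁻¹ with hs'
  have ha : r * y * r⁻¹ * y⁻¹ = r * r' := by rw [hr']; group
  have hb : s * y * s⁻¹ * y⁻¹ = s * s' := by rw [hs']; group
  have h1 := hYab _ (hm r hrT) _ (hm s hsT)
  rw [ha, hb] at h1
  have c1 : s * r' = r' * s := hcc s hsK _ (inv_mem hrK)
  have c2 : r * s' = s' * r := hcc r hrK _ (inv_mem hsK)
  have h2 : (r * s) * (r' * s') = (s * r) * (s' * r') := by
    calc (r * s) * (r' * s') = r * (s * r') * s' := by group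
      _ = r * (r' * s) * s' := by rw [c1]
      _ = r * r' * (s * s') := by group
      _ = s * s' * (r * r') := h1
      _ = s * (s' * r) * r' := by group
      _ = s * (r * s') * r' := by rw [c2]
      _ = (s * r) * (s' * r') := by group
  set w := r * s * r⁻¹ * s⁻¹ with hw
  have hwK : w ∈ K := mul_mem (mul_mem (mul_mem hrK hsK) (inv_mem hrK)) (inv_mem hsK)
  -- `(s r)⁻¹ (r s) = (r' s') (s' r')⁻¹`-type identity
  have h3 : (s * r)⁻¹ * (r * s) = (s' * r') * (r' * s')⁻¹ := by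
    rw [inv_mul_eq_iff_eq_mul]
    calc r * s = (r * s) * (r' * s') * (r' * s')⁻¹ := by group
      _ = (s * r) * (s' * r') * (r' * s')⁻¹ := by rw [h2]
      _ = _ := by group
  have hv : (s * r)⁻¹ * (r * s) ∈ K := mul_mem (inv_mem (mul_mem hsK hrK)) (mul_mem hrK hsK)
  have hv' : ∀ k ∈ K, k * ((s * r)⁻¹ * (r * s)) = ((s * r)⁻¹ * (r * s)) * k := by
    intro k hk
    rw [h3]
    have e3 : (s' * r') * (r' * s')⁻¹ = y * (s⁻¹ * r⁻¹ * (s * r)) * y⁻¹ := by
      rw [hs', hr']; group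
    rw [e3]
    exact hcc k hk _ (mul_mem (mul_mem (inv_mem hsK) (inv_mem hrK)) (mul_mem hsK hrK))
  -- conjugate by `r s`-type element
  have e4 : w = (s * r) * ((s * r)⁻¹ * (r * s)) * (s * r)⁻¹ := by rw [hw]; group
  have hzc : ∀ k ∈ K, k * w = w * k := by
    intro k hk
    have h5 := hv' ((s * r)⁻¹ * k * (s * r)) (mul_mem (mul_mem (inv_mem (mul_mem hsK hrK)) hk) (mul_mem hsK hrK))
    have h6 : k * w = (s * r) * (((s * r)⁻¹ * k * (s * r)) * ((s * r)⁻¹ * (r * s))) * (s * r)⁻¹ := by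
      rw [e4]; group
    have h7 : w * k = (s * r) * (((s * r)⁻¹ * (r * s)) * ((s * r)⁻¹ * k * (s * r))) * (s * r)⁻¹ := by
      rw [e4]; group
    rw [h6, h7, h5]
  refine ⟨⟨w, hwK⟩, ?_, rfl⟩
  rw [Subgroup.mem_center_iff]
  rintro ⟨k, hk⟩
  exact Subtype.ext (hzc k hk)

/-- S2925 -/
theorem s2925 (K : Subgroup G) (hK : IsComponent K) (T : Sylow 2 G) (Y : Subgroup G) (hYT : Y ≤ (T : Subgroup G))
    (hYn : (Y.subgroupOf (T : Subgroup G)).Normal) (hYab : IsMulCommutative ↥Y) (hnot : ¬ Y ≤ normalizer (K : Set G))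
    (P : Sylow 2 (↥K ⧸ center ↥K)) : IsMulCommutative ↥(P : Subgroup (↥K ⧸ center ↥K)) := by
  haveI : Fact (Nat.Prime 2) := ⟨Nat.prime_two⟩
  have hYc : ∀ a ∈ Y, ∀ b ∈ Y, a * b = b * a := fun a ha b hb =>
    Cfsg.Agent.Lib.PGrp.comm_of_isMulComm hYab ha hb
  have hTY : (T : Subgroup G) ≤ normalizer (Y : Set G) := (normal_subgroupOf_iff_le_normalizer hYT).1 hYn
  obtain ⟨S₀, hS₀⟩ := Cfsg.Agent.Lib.LSpe.sylow_inf_subnormal T K hK.1
  -- the image of `S₀`
  set π := QuotientGroup.mk' (center ↥K) with hπ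
  have hπs : Function.Surjective π := QuotientGroup.mk'_surjective _
  have hcore : ∀ a ∈ (S₀ : Subgroup ↥K), ∀ b ∈ (S₀ : Subgroup ↥K), π a * π b = π b * π a := by
    intro a ha b hb
    rw [hS₀] at ha hb
    obtain ⟨z, hz, hzw⟩ := core_comm K hK (T : Subgroup G) Y hYT hTY hYc hnot (mem_subgroupOf.1 ha) a.2 (mem_subgroupOf.1 hb) b.2
    have h1 : z = a * b * a⁻¹ * b⁻¹ := Subtype.ext hzw
    have h2 : π (a * b * a⁻¹ * b⁻¹) = 1 := by
      rw [← h1]
      exact (QuotientGroup.eq_one_iff z).2 hz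
    rw [map_mul, map_mul, map_mul, map_inv, map_inv, mul_inv_eq_one, mul_inv_eq_iff_eq_mul] at h2
    exact h2
  -- every Sylow of the quotient is conjugate to the image
  obtain ⟨S₁, hS₁⟩ : ∃ S₁ : Sylow 2 ↥K, (S₁ : Subgroup ↥K).map π = (P : Subgroup (↥K ⧸ center ↥K)) := by
    obtain ⟨S₁, hS₁⟩ := Sylow.mapSurjective_surjective hπs 2 P
    exact ⟨S₁, by rw [← hS₁]; rfl⟩
  obtain ⟨h, rfl⟩ := MulAction.exists_smul_eq (↥K) S₀ S₁
  refine Cfsg.Agent.Lib.PGrp.isMulComm_of_comm ?_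
  rw [← hS₁]
  rintro _ ⟨a, ha, rfl⟩ _ ⟨b, hb, rfl⟩
  have ha' : h⁻¹ * a * h ∈ (S₀ : Subgroup ↥K) := by
    have := Cfsg.Agent.Lib.H1Core.mem_sylow_smul.1 ha
    simpa using this
  have hb' : h⁻¹ * b * h ∈ (S₀ : Subgroup ↥K) := by
    have := Cfsg.Agent.Lib.H1Core.mem_sylow_smul.1 hb
    simpa using this
  have h1 := hcore _ ha' _ hb'
  simp only [map_mul, map_inv] at h1
  have h2 : π a * π b = π h * (π h⁻¹ * π a * π h * (π h⁻¹ * π b * π h)) * (π h)⁻¹ := by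
    simp only [map_inv]; group
  have h3 : π b * π a = π h * (π h⁻¹ * π b * π h * (π h⁻¹ * π a * π h)) * (π h)⁻¹ := by
    simp only [map_inv]; group
  rw [h2, h3]
  simp only [map_inv]
  rw [h1]

end Cfsg.Agent.Lib.LCompAb
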