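import Mathlib
import Cfsg.Prelude.Def_Transfer
import Cfsg.Prelude.Def_LocalEven
import Cfsg.Agent.Lib.H1Cop
import Cfsg.Agent.Lib.PGrp3

set_option autoImplicit false
set_option linter.unusedSectionVars false
set_option linter.unusedVariables false
set_option linter.style.haveILetI false

namespace Cfsg.Agent.Lib.LExtraFus

open Subgroup Cfsg

variable {G : Type*} [Group G]

theorem pow_mul_aux {x y c : G} (hc : y * x = c * x * y) (hcx : Commute c x) (hcy : Commute c y) (n : ℕ) :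
    y ^ n * x = c ^ n * x * y ^ n := by
  induction n with
  | zero => simp
  | succ n ih =>
    calc y ^ (n + 1) * x = y * (y ^ n * x) := by rw [pow_succ']; group
      _ = y * (c ^ n * x * y ^ n) := by rw [ih]
      _ = (y * c ^ n) * x * y ^ n := by group
      _ = c ^ n * y * x * y ^ n := by rw [(hcy.pow_left n).eq]
      _ = c ^ n * (y * x) * y ^ n := by group
      _ = c ^ n * (c * x * y) * y ^ n := by rw [hc]
      _ = c ^ (n + 1) * x * y ^ (n + 1) := by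
        rw [pow_succ, pow_succ']; group

theorem mul_pow_class2 {x y c : G} (hc : y * x = c * x * y) (hcx : Commute c x) (hcy : Commute c y) (n : ℕ) :
    (x * y) ^ n = x ^ n * y ^ n * c ^ (n.choose 2) := by
  induction n with
  | zero => simp
  | succ n ih =>
    have h1 : ∀ m : ℕ, Commute (c ^ m) x := fun m => hcx.pow_left m
    have h2 : ∀ m : ℕ, Commute (c ^ m) y := fun m => hcy.pow_left m
    have h3 : (n + 1).choose 2 = n + n.choose 2 := by
      have := Nat.choose_succ_succ n 1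
      simpa using this
    calc (x * y) ^ (n + 1) = (x * y) ^ n * (x * y) := pow_succ _ _
      _ = x ^ n * y ^ n * c ^ (n.choose 2) * (x * y) := by rw [ih]
      _ = x ^ n * y ^ n * (c ^ (n.choose 2) * x) * y := by group
      _ = x ^ n * y ^ n * (x * c ^ (n.choose 2)) * y := by rw [(h1 _).eq]
      _ = x ^ n * (y ^ n * x) * (c ^ (n.choose 2) * y) := by group
      _ = x ^ n * (c ^ n * x * y ^ n) * (y * c ^ (n.choose 2)) := by
          rw [pow_mul_aux hc hcx hcy, (h2 _).eq]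
      _ = x ^ n * (c ^ n * x) * (y ^ n * y) * c ^ (n.choose 2) := by group
      _ = x ^ n * (x * c ^ n) * y ^ (n + 1) * c ^ (n.choose 2) := by
          rw [(h1 _).eq, ← pow_succ]
      _ = x ^ (n + 1) * (c ^ n * y ^ (n + 1)) * c ^ (n.choose 2) := by
          rw [pow_succ x n]; group
      _ = x ^ (n + 1) * (y ^ (n + 1) * c ^ n) * c ^ (n.choose 2) := by
          rw [((h2 n).pow_right (n + 1)).eq]
      _ = x ^ (n + 1) * y ^ (n + 1) * c ^ ((n + 1).choose 2) := by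
          rw [h3, pow_add c n]; group

variable [Finite G] {p : ℕ} [Fact p.Prime]

/-- Sylow conjugation inside an overgroup. -/
theorem exists_conj_le (P : Sylow p G) (C : Subgroup G) (hPC : (P : Subgroup G) ≤ C) (U : Subgroup G)
    (hU : IsPGroup p U) (hUC : U ≤ C) : ∃ c ∈ C, ∀ u ∈ U, c * u * c⁻¹ ∈ (P : Subgroup G) := by
  classical
  have h1 : IsPGroup p (U.subgroupOf C) := hU.comap_subtype
  obtain ⟨Q, hQ⟩ := h1.exists_le_sylow
  obtain ⟨c, hc⟩ := MulAction.exists_smul_eq (↥C) Q (P.subtype hPC)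
  refine ⟨c.1, c.2, fun u hu => ?_⟩
  have h2 : (⟨u, hUC hu⟩ : C) ∈ (Q : Subgroup C) := hQ (by simpa [Subgroup.mem_subgroupOf] using hu)
  have h3 : c * (⟨u, hUC hu⟩ : C) * c⁻¹ ∈ ((c • Q : Sylow p C) : Subgroup C) := by
    rw [Sylow.coe_subgroup_smul, Subgroup.mem_smul_pointwise_iff_exists]
    exact ⟨_, h2, rfl⟩
  rw [hc, Sylow.coe_subtype, Subgroup.mem_subgroupOf] at h3
  exact h3

theorem mem_normalizer_of_conj {K : Subgroup G} {g : G} (h : ∀ k ∈ K, g * k * g⁻¹ ∈ K) :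
    g ∈ normalizer (K : Set G) := by
  have h1 : K.map (MulAut.conj g).toMonoidHom ≤ K := by
    rintro _ ⟨k, hk, rfl⟩
    exact h k hk
  have h2 : K.map (MulAut.conj g).toMonoidHom = K := by
    apply Subgroup.eq_of_le_of_card_ge h1
    rw [Subgroup.card_map_of_injective (MulEquiv.injective _)]
  rw [Subgroup.mem_normalizer_iff]
  intro k
  constructor
  · exact h k
  · intro hk
    rw [← h2] at hk
    obtain ⟨k', hk', he⟩ := hk
    have : k' = k := by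
      have h3 : g * k' * g⁻¹ = g * k * g⁻¹ := he
      have h4 : g * k' = g * k := mul_right_cancel h3
      exact mul_left_cancel h4
    rwa [← this]

theorem ex_surj' {P : Type*} [Group P] [Finite P] (hP : IsExtraspecial p P) {x : P}
    (hx : x ∉ Subgroup.center P) {z : P} (hz : z ∈ Subgroup.center P) :
    ∃ t : P, t * x * t⁻¹ = x * z := by
  classical
  have hcom : ∀ a b : P, a * b * a⁻¹ * b⁻¹ ∈ Subgroup.center P := by
    intro a b
    rw [← hP.1.2.2]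
    exact Subgroup.commutator_mem_commutator (Subgroup.mem_top _) (Subgroup.mem_top _)
  have hcen : ∀ c ∈ Subgroup.center P, ∀ y : P, c * y = y * c := fun c hc y => (Subgroup.mem_center_iff.mp hc y).symm
  let φ : P →* Subgroup.center P :=
    { toFun := fun t => ⟨t * x * t⁻¹ * x⁻¹, hcom _ _⟩
      map_one' := by
        apply Subtype.ext
        simp
      map_mul' := by
        intro s t
        apply Subtype.ext
        simp only [Subgroup.coe_mul]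
        have hc0 := hcom t x
        set c := t * x * t⁻¹ * x⁻¹ with hc
        have h3 : s * t * x * (s * t)⁻¹ * x⁻¹ = s * c * x * s⁻¹ * x⁻¹ := by
          rw [hc]
          group
        rw [h3, ← hcen c hc0 s]
        have h5 : c * s * x * s⁻¹ * x⁻¹ = c * (s * x * s⁻¹ * x⁻¹) := by
          group
        exact h5.trans (hcen c hc0 _) }
  haveI : Fact (Nat.card (Subgroup.center P)).Prime := ⟨by rw [hP.2]; exact Fact.out⟩
  have hrange : φ.range = ⊤ := by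
    rcases Subgroup.eq_bot_or_eq_top_of_prime_card φ.range with h | h
    · exfalso
      apply hx
      rw [Subgroup.mem_center_iff]
      intro t
      have h1 : φ t = 1 := by
        have : φ t ∈ φ.range := ⟨t, rfl⟩
        rw [h] at this
        exact (Subgroup.mem_bot).mp this
      have h2 : t * x * t⁻¹ * x⁻¹ = 1 := congrArg Subtype.val h1
      have h3 : t * x = x * t := by
        have : t * x * t⁻¹ = x := mul_inv_eq_one.mp h2
        exact (mul_inv_eq_iff_eq_mul.mp this)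
      exact h3
    · exact h
  have hzr : (⟨z, hz⟩ : Subgroup.center P) ∈ φ.range := by
    rw [hrange]
    exact Subgroup.mem_top _
  obtain ⟨t, ht⟩ := hzr
  refine ⟨t, ?_⟩
  have h2 : t * x * t⁻¹ * x⁻¹ = z := congrArg Subtype.val ht
  rw [← hcen z hz x, ← h2]
  group

theorem key (hp : p ≠ 2) (P : Sylow p G) (Z : Subgroup G) (hZP : Z ≤ (P : Subgroup G)) (hZc : Nat.card Z = p)
    (hcen : ∀ z ∈ Z, ∀ x ∈ (P : Subgroup G), x * z = z * x)
    (hcomm : ∀ x ∈ (P : Subgroup G), ∀ y ∈ (P : Subgroup G), x * y * x⁻¹ * y⁻¹ ∈ Z)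
    (hpow : ∀ x ∈ (P : Subgroup G), x ^ p ∈ Z)
    (hsurj : ∀ y ∈ (P : Subgroup G), y ∉ Z → ∀ z ∈ Z, ∃ a ∈ (P : Subgroup G), a * y * a⁻¹ = y * z)
    (hcard : Nat.card (P : Subgroup G) = p ^ 3) (a₀ : G) (ha₀ : a₀ ∈ (P : Subgroup G)) (ha₀1 : a₀ ^ p ≠ 1) :
    ∀ z ∈ Z, ∀ g : G, g * z * g⁻¹ ∈ (P : Subgroup G) → g * z * g⁻¹ ∈ Z := by
  classical
  have hpp : p.Prime := Fact.out
  have hp3 : 3 ≤ p := by
    have := hpp.two_le
    omega
  have hZp : ∀ z ∈ Z, z ^ p = 1 := by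
    intro z hz
    have h := pow_card_eq_one' (x := (⟨z, hz⟩ : Z))
    rw [hZc] at h
    simpa using congrArg Subtype.val h
  have hmulp : ∀ x ∈ (P : Subgroup G), ∀ y ∈ (P : Subgroup G), (x * y) ^ p = x ^ p * y ^ p := by
    intro x hx y hy
    have hc := hcomm y hy x hx
    have h1 : y * x = (y * x * y⁻¹ * x⁻¹) * x * y := by group
    rw [mul_pow_class2 h1 (hcen _ hc x hx).symm (hcen _ hc y hy).symm p]
    obtain ⟨q, hq⟩ : p ∣ p.choose 2 := hpp.dvd_choose_self (by norm_num) (by omega)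
    rw [hq, pow_mul, hZp _ hc, one_pow, mul_one]
  have hPp : IsPGroup p (P : Subgroup G) := P.isPGroup'
  obtain ⟨U, hU⟩ : ∃ U : Subgroup G, ∀ x, x ∈ U ↔ x ∈ (P : Subgroup G) ∧ x ^ p = 1 := by
    refine ⟨{ carrier := {x | x ∈ (P : Subgroup G) ∧ x ^ p = 1}
              one_mem' := ⟨one_mem _, one_pow _⟩
              mul_mem' := ?_
              inv_mem' := ?_ }, fun x => Iff.rfl⟩
    · rintro a b ⟨ha, ha'⟩ ⟨hb, hb'⟩
      exact ⟨mul_mem ha hb, by rw [hmulp a ha b hb, ha', hb', one_mul]⟩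
    · rintro a ⟨ha, ha'⟩
      exact ⟨inv_mem ha, by rw [inv_pow, ha', inv_one]⟩
  have hUP : U ≤ (P : Subgroup G) := fun x hx => ((hU x).1 hx).1
  have hZU : Z ≤ U := fun x hx => (hU x).2 ⟨hZP hx, hZp x hx⟩
  have hUp : ∀ u ∈ U, u ^ p = 1 := fun u hu => ((hU u).1 hu).2
  have hUPp : IsPGroup p U := hPp.to_le hUP
  have hcardU : Nat.card U = p ^ 2 := by
    let φ : (P : Subgroup G) →* Z :=
      { toFun := fun x => ⟨x.1 ^ p, hpow _ x.2⟩
        map_one' := by apply Subtype.ext; simp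
        map_mul' := by
          intro a b
          apply Subtype.ext
          exact hmulp _ a.2 _ b.2 }
    have h1 : U = φ.ker.map (P : Subgroup G).subtype := by
      ext x
      rw [hU, Subgroup.mem_map]
      constructor
      · rintro ⟨hx, hxp⟩
        refine ⟨⟨x, hx⟩, ?_, rfl⟩
        rw [MonoidHom.mem_ker]
        exact Subtype.ext hxp
      · rintro ⟨w, hw, rfl⟩
        exact ⟨w.2, congrArg Subtype.val (MonoidHom.mem_ker.1 hw)⟩
    haveI : Fact (Nat.card Z).Prime := ⟨by rw [hZc]; exact hpp⟩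
    have h2 : Nat.card φ.range = p := by
      rcases Subgroup.eq_bot_or_eq_top_of_prime_card φ.range with h | h
      · exfalso
        have h3 : φ ⟨a₀, ha₀⟩ ∈ φ.range := ⟨_, rfl⟩
        rw [h, Subgroup.mem_bot] at h3
        exact ha₀1 (congrArg Subtype.val h3)
      · rw [h, Subgroup.card_top, hZc]
    have h3 := Subgroup.card_mul_index φ.ker
    rw [Subgroup.index_ker, h2, hcard] at h3
    have h4 : Nat.card φ.ker = p ^ 2 := by
      have : Nat.card φ.ker * p = p ^ 2 * p := by rw [h3]; ring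
      exact Nat.eq_of_mul_eq_mul_right hpp.pos this
    rw [h1, Subgroup.card_map_of_injective (Subgroup.subtype_injective _), h4]
  have hNZ : ∀ x ∈ (P : Subgroup G), x ∈ normalizer (Z : Set G) := by
    intro x hx
    apply mem_normalizer_of_conj
    intro k hk
    rw [hcen k hk x hx]
    simpa using hk
  have hdec : ∀ y ∈ U, y ∉ Z → ∀ u ∈ U, ∃ i : ℕ, ∃ z' ∈ Z, u = z' * y ^ i := by
    intro y hy hyZ u hu
    have hle : Z ⊔ zpowers y ≤ U := sup_le hZU ((zpowers_le).2 hy)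
    have hlt : Z < Z ⊔ zpowers y := by
      refine lt_of_le_of_ne le_sup_left ?_
      intro h
      apply hyZ
      rw [h]
      exact Subgroup.mem_sup_right (mem_zpowers y)
    have hd : Nat.card ↥(Z ⊔ zpowers y) ∣ p ^ 2 := by
      rw [← hcardU]; exact Subgroup.card_dvd_of_le hle
    obtain ⟨i, hi, hi'⟩ := (Nat.dvd_prime_pow hpp).1 hd
    have hclt : p < Nat.card ↥(Z ⊔ zpowers y) := by
      rw [← hZc]
      refine lt_of_le_of_ne (Subgroup.card_le_of_le hlt.le) ?_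
      intro h
      exact (ne_of_lt hlt) (Subgroup.eq_of_le_of_card_ge hlt.le h.ge)
    have hi2 : i = 2 := by
      by_contra hne
      have hi1 : i ≤ 1 := by omega
      rw [hi'] at hclt
      have : p ^ i ≤ p ^ 1 := Nat.pow_le_pow_right hpp.pos hi1
      rw [pow_one] at this
      omega
    have he : Z ⊔ zpowers y = U := by
      apply Subgroup.eq_of_le_of_card_ge hle
      rw [hcardU, hi', hi2]
    rw [← he, Cfsg.Agent.Lib.H1Cop.mem_sup_iff (by
      rw [zpowers_le]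
      exact hNZ y (hUP hy))] at hu
    obtain ⟨k, hk, a, ha, rfl⟩ := hu
    rw [← mem_powers_iff_mem_zpowers] at ha
    obtain ⟨i, rfl⟩ := ha
    exact ⟨i, k, hk, rfl⟩
  have hUab : ∀ u ∈ U, ∀ v ∈ U, u * v = v * u := by
    intro u hu v hv
    by_cases huZ : u ∈ Z
    · exact (hcen u huZ v (hUP hv)).symm
    · obtain ⟨i, z', hz', rfl⟩ := hdec u hu huZ v hv
      have h1 : u * z' = z' * u := hcen z' hz' u (hUP hu)
      calc u * (z' * u ^ i) = (u * z') * u ^ i := by group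
        _ = z' * (u * u ^ i) := by rw [h1]; group
        _ = z' * (u ^ i * u) := by rw [(Commute.refl u).pow_right i |>.eq]
        _ = z' * u ^ i * u := by group
  have hPN : (P : Subgroup G) ≤ normalizer (U : Set G) := by
    intro x hx
    apply mem_normalizer_of_conj
    intro k hk
    rw [hU]
    refine ⟨mul_mem (mul_mem hx (hUP hk)) (inv_mem hx), ?_⟩
    rw [conj_pow, hUp k hk]
    group
  intro z hz g hgP
  by_contra hyZ
  obtain ⟨y, hy⟩ : ∃ y, y = g * z * g⁻¹ := ⟨_, rfl⟩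
  rw [← hy] at hgP hyZ
  have hz1 : z ≠ 1 := by
    rintro rfl
    apply hyZ
    rw [hy]
    simp [one_mem]
  have hyU : y ∈ U := by
    rw [hU]
    refine ⟨hgP, ?_⟩
    rw [hy, conj_pow, hZp z hz]
    group
  -- adjust `g`
  obtain ⟨g, hgN, hgz⟩ : ∃ g, g ∈ normalizer (U : Set G) ∧ g * z * g⁻¹ = y := by
    have hU₀ : IsPGroup p (U.map (MulAut.conj g⁻¹).toMonoidHom) := hUPp.map _
    have hPC : (P : Subgroup G) ≤ centralizer ({z} : Set G) := by
      intro x hx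
      rw [Subgroup.mem_centralizer_singleton_iff]
      exact (hcen z hz x hx)
    have hU₀C : U.map (MulAut.conj g⁻¹).toMonoidHom ≤ centralizer ({z} : Set G) := by
      rintro _ ⟨u, hu, rfl⟩
      rw [Subgroup.mem_centralizer_singleton_iff]
      have h1 : u * y = y * u := hUab u hu y hyU
      rw [hy] at h1
      show g⁻¹ * u * g⁻¹⁻¹ * z = z * (g⁻¹ * u * g⁻¹⁻¹)
      have h2 : g⁻¹ * u * g * z = g⁻¹ * (u * (g * z * g⁻¹)) * g := by group
      have h3 : z * (g⁻¹ * u * g) = g⁻¹ * ((g * z * g⁻¹) * u) * g := by group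
      rw [inv_inv, h2, h3, h1]
    obtain ⟨c, hcC, hc⟩ := exists_conj_le P _ hPC _ hU₀ hU₀C
    have hcz : c * z = z * c := by
      exact (Subgroup.mem_centralizer_singleton_iff.1 hcC)
    refine ⟨g * c⁻¹, ?_, ?_⟩
    · have h1 : (g * c⁻¹)⁻¹ ∈ normalizer (U : Set G) := by
        apply mem_normalizer_of_conj
        intro u hu
        rw [hU]
        have h2 : (g * c⁻¹)⁻¹ * u * (g * c⁻¹)⁻¹⁻¹ = c * (g⁻¹ * u * g⁻¹⁻¹) * c⁻¹ := by group
        rw [h2]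
        refine ⟨hc _ ⟨u, hu, rfl⟩, ?_⟩
        rw [← h2, conj_pow, hUp u hu]
        group
      simpa using inv_mem h1
    · have h2 : c⁻¹ * z * c = z := by
        rw [mul_assoc, ← hcz]; group
      calc g * c⁻¹ * z * (g * c⁻¹)⁻¹ = g * (c⁻¹ * z * c) * g⁻¹ := by group
        _ = y := by rw [h2, hy]
  have hNU : ∀ h ∈ normalizer (U : Set G), ∀ u ∈ U, h * u * h⁻¹ ∈ U :=
    fun h hh u hu => (Subgroup.mem_normalizer_iff.1 hh u).1 hu
  obtain ⟨a, haP, hay⟩ := hsurj y hgP hyZ z hz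
  have haz : a * z * a⁻¹ = z := by
    rw [hcen z hz a haP]; group
  have hzy : y * z = z * y := hcen z hz y hgP
  have hzU : z ∈ U := hZU hz
  obtain ⟨a', ha'⟩ : ∃ a', a' = g * a * g⁻¹ := ⟨_, rfl⟩
  obtain ⟨y₂, hy₂⟩ : ∃ y₂, y₂ = g * y * g⁻¹ := ⟨_, rfl⟩
  have hy₂U : y₂ ∈ U := by rw [hy₂]; exact hNU g hgN y hyU
  have ha'N : a' ∈ normalizer (U : Set G) := by
    rw [ha']
    exact mul_mem (mul_mem hgN (hPN haP)) (inv_mem hgN)
  have ha'y : a' * y * a'⁻¹ = y := by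
    calc a' * y * a'⁻¹ = g * a * (g⁻¹ * y * g) * a⁻¹ * g⁻¹ := by rw [ha']; group
      _ = g * (a * z * a⁻¹) * g⁻¹ := by
        rw [← hgz]; group
      _ = y := by rw [haz, hgz]
  have ha'y₂ : a' * y₂ * a'⁻¹ = y₂ * y := by
    calc a' * y₂ * a'⁻¹ = g * (a * y * a⁻¹) * g⁻¹ := by rw [ha', hy₂]; group
      _ = (g * y * g⁻¹) * (g * z * g⁻¹) := by rw [hay]; group
      _ = y₂ * y := by rw [← hy₂, hgz]
  have hpowy : ∀ n : ℕ, a' * y ^ n * a'⁻¹ = y ^ n := by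
    intro n
    rw [← conj_pow, ha'y]
  have hpowN : ∀ n : ℕ, a' ^ n * y₂ * (a' ^ n)⁻¹ = y₂ * y ^ n := by
    intro n
    induction n with
    | zero => simp
    | succ n ih =>
      calc a' ^ (n + 1) * y₂ * (a' ^ (n + 1))⁻¹ = a' * (a' ^ n * y₂ * (a' ^ n)⁻¹) * a'⁻¹ := by
            rw [pow_succ']; group
        _ = (a' * y₂ * a'⁻¹) * (a' * y ^ n * a'⁻¹) := by rw [ih]; group
        _ = y₂ * y ^ (n + 1) := by
            rw [ha'y₂, hpowy, pow_succ']; group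
  have hpowNy : ∀ n : ℕ, a' ^ n * y * (a' ^ n)⁻¹ = y := by
    intro n
    induction n with
    | zero => simp
    | succ n ih =>
      calc a' ^ (n + 1) * y * (a' ^ (n + 1))⁻¹ = a' * (a' ^ n * y * (a' ^ n)⁻¹) * a'⁻¹ := by
            rw [pow_succ']; group
        _ = y := by rw [ih, ha'y]
  obtain ⟨i, z', hz', hy₂e⟩ := hdec y hyU hyZ y₂ hy₂U
  obtain ⟨j, hj⟩ := Cfsg.Agent.Lib.PGrp.exists_pow_of_card_prime hZc hz hz1 hz'
  subst hj
  have hyp : y ^ p = 1 := hUp y hyU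
  have hjp : j.Coprime p := by
    rw [Nat.coprime_comm, hpp.coprime_iff_not_dvd]
    rintro ⟨q, rfl⟩
    have h1 : z ^ (p * q) = 1 := by rw [pow_mul, hZp z hz, one_pow]
    rw [h1, one_mul] at hy₂e
    -- `g y g⁻¹ = y^i = g z^i g⁻¹`
    have h2 : g * y * g⁻¹ = g * z ^ i * g⁻¹ := by
      rw [← hy₂, hy₂e, ← hgz, conj_pow]
    have h3 : y = z ^ i := by
      have h4 : g * y = g * z ^ i := mul_right_cancel h2
      exact mul_left_cancel h4
    exact hyZ (h3 ▸ pow_mem hz i)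
  obtain ⟨j', hj'⟩ := Nat.exists_mul_mod_eq_one_of_coprime hjp hpp.one_lt
  have hzjj : (z ^ j) ^ j' = z := by
    rw [← pow_mul, pow_eq_pow_mod _ (hZp z hz), hj'.2, pow_one]
  have hyjj : (y ^ j) ^ j' = y := by
    rw [← pow_mul, pow_eq_pow_mod _ hyp, hj'.2, pow_one]
  have hyinv : (y ^ ((p - 1) * j)) ^ j' = y⁻¹ := by
    have h1 : (y ^ ((p - 1) * j)) ^ j' = ((y ^ j) ^ j') ^ (p - 1) := by
      rw [← pow_mul, ← pow_mul, ← pow_mul]
      congr 1
      ring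
    rw [h1, hyjj]
    apply eq_inv_of_mul_eq_one_left
    rw [← pow_succ]
    have : p - 1 + 1 = p := by omega
    rw [this, hyp]
  obtain ⟨b, hb⟩ : ∃ b, b = a' ^ ((p - 1) * j) := ⟨_, rfl⟩
  have hbN : b ∈ normalizer (U : Set G) := by rw [hb]; exact pow_mem ha'N _
  have hby : b * y * b⁻¹ = y := by rw [hb]; exact hpowNy _
  have hbyi : ∀ n : ℕ, b * y ^ n * b⁻¹ = y ^ n := by
    intro n; rw [← conj_pow, hby]
  have hbz : b * z * b⁻¹ = z * y⁻¹ := by
    have h1 : b * y₂ * b⁻¹ = y₂ * y ^ ((p - 1) * j) := by rw [hb]; exact hpowN _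
    have h2 : b * z ^ j * b⁻¹ = z ^ j * y ^ ((p - 1) * j) := by
      have h3 : z ^ j = y₂ * (y ^ i)⁻¹ := by rw [hy₂e]; group
      have hcy : ∀ m n : ℕ, y ^ m * y ^ n = y ^ n * y ^ m := fun m n => ((Commute.refl y).pow_pow m n).eq
      calc b * z ^ j * b⁻¹ = (b * y₂ * b⁻¹) * (b * y ^ i * b⁻¹)⁻¹ := by rw [h3]; group
        _ = z ^ j * y ^ i * y ^ ((p - 1) * j) * (y ^ i)⁻¹ := by
            rw [h1, hbyi, hy₂e]
        _ = z ^ j * (y ^ i * y ^ ((p - 1) * j)) * (y ^ i)⁻¹ := by group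
        _ = z ^ j * y ^ ((p - 1) * j) := by rw [hcy]; group
    have hcomm2 : Commute (z ^ j) (y ^ ((p - 1) * j)) := by
      apply Commute.pow_pow
      exact hzy.symm
    calc b * z * b⁻¹ = b * (z ^ j) ^ j' * b⁻¹ := by rw [hzjj]
      _ = (b * z ^ j * b⁻¹) ^ j' := by rw [conj_pow]
      _ = (z ^ j * y ^ ((p - 1) * j)) ^ j' := by rw [h2]
      _ = (z ^ j) ^ j' * (y ^ ((p - 1) * j)) ^ j' := hcomm2.mul_pow j'
      _ = z * y⁻¹ := by rw [hzjj, hyinv]
  -- `w`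
  obtain ⟨w, hw⟩ : ∃ w, w = a * b * a := ⟨_, rfl⟩
  have hwN : w ∈ normalizer (U : Set G) := by
    rw [hw]; exact mul_mem (mul_mem (hPN haP) hbN) (hPN haP)
  have hwz : w * z * w⁻¹ = y⁻¹ := by
    calc w * z * w⁻¹ = a * (b * (a * z * a⁻¹) * b⁻¹) * a⁻¹ := by rw [hw]; group
      _ = a * (z * y⁻¹) * a⁻¹ := by rw [haz, hbz]
      _ = (a * z * a⁻¹) * (a * y * a⁻¹)⁻¹ := by group
      _ = y⁻¹ := by rw [haz, hay]; group
  have hwy : w * y * w⁻¹ = z := by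
    calc w * y * w⁻¹ = a * (b * (a * y * a⁻¹) * b⁻¹) * a⁻¹ := by rw [hw]; group
      _ = a * (b * (y * z) * b⁻¹) * a⁻¹ := by rw [hay]
      _ = a * ((b * y * b⁻¹) * (b * z * b⁻¹)) * a⁻¹ := by group
      _ = a * (y * (z * y⁻¹)) * a⁻¹ := by rw [hby, hbz]
      _ = a * ((y * z) * y⁻¹) * a⁻¹ := by group
      _ = a * (z * y * y⁻¹) * a⁻¹ := by rw [hzy]
      _ = a * z * a⁻¹ := by group
      _ = z := haz
  obtain ⟨t, ht⟩ : ∃ t, t = w * w := ⟨_, rfl⟩
  have htN : t ∈ normalizer (U : Set G) := by rw [ht]; exact mul_mem hwN hwN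
  have htz : t * z * t⁻¹ = z⁻¹ := by
    calc t * z * t⁻¹ = w * (w * z * w⁻¹) * w⁻¹ := by rw [ht]; group
      _ = (w * y * w⁻¹)⁻¹ := by rw [hwz]; group
      _ = z⁻¹ := by rw [hwy]
  have hty : t * y * t⁻¹ = y⁻¹ := by
    calc t * y * t⁻¹ = w * (w * y * w⁻¹) * w⁻¹ := by rw [ht]; group
      _ = y⁻¹ := by rw [hwy, hwz]
  have htU : ∀ u ∈ U, t * u * t⁻¹ = u⁻¹ := by
    intro u hu
    obtain ⟨n, z'', hz'', rfl⟩ := hdec y hyU hyZ u hu
    obtain ⟨k, rfl⟩ := Cfsg.Agent.Lib.PGrp.exists_pow_of_card_prime hZc hz hz1 hz''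
    have h1 : t * (z ^ k * y ^ n) * t⁻¹ = (t * z * t⁻¹) ^ k * (t * y * t⁻¹) ^ n := by
      rw [conj_pow, conj_pow]; group
    rw [h1, htz, hty, inv_pow, inv_pow, _root_.mul_inv_rev]
    exact hUab _ (inv_mem (pow_mem hzU k)) _ (inv_mem (pow_mem hyU n))
  have htU' : ∀ v ∈ U, t⁻¹ * v * t = v⁻¹ := by
    intro v hv
    have h1 := htU v⁻¹ (inv_mem hv)
    have h2 : t * v⁻¹ * t⁻¹ = v := by rw [h1, inv_inv]
    calc t⁻¹ * v * t = t⁻¹ * (t * v⁻¹ * t⁻¹) * t := by rw [h2]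
      _ = v⁻¹ := by group
  -- Frattini
  have hPnC : (P : Subgroup G) ≤ normalizer (centralizer (U : Set G) : Set G) := by
    intro x hx
    apply mem_normalizer_of_conj
    intro c hc
    rw [Subgroup.mem_centralizer_iff]
    intro u hu
    have h1 := (Subgroup.mem_centralizer_iff.1 hc) (x⁻¹ * u * x) (by
      have := hNU x⁻¹ (inv_mem (hPN hx)) u hu
      simpa using this)
    calc u * (x * c * x⁻¹) = x * ((x⁻¹ * u * x) * c) * x⁻¹ := by group
      _ = x * (c * (x⁻¹ * u * x)) * x⁻¹ := by rw [h1]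
      _ = x * c * x⁻¹ * u := by group
  have hT₀ : IsPGroup p ((P : Subgroup G).map (MulAut.conj t).toMonoidHom) := hPp.map _
  have hT₀D : (P : Subgroup G).map (MulAut.conj t).toMonoidHom ≤ centralizer (U : Set G) ⊔ (P : Subgroup G) := by
    rintro _ ⟨x, hx, rfl⟩
    show t * x * t⁻¹ ∈ _
    have h1 : t * x * t⁻¹ = (t * x * t⁻¹ * x⁻¹) * x := by group
    rw [h1]
    apply Subgroup.mul_mem_sup _ hx
    rw [Subgroup.mem_centralizer_iff]
    intro u hu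
    have hv : x⁻¹ * u * x ∈ U := by
      have := hNU x⁻¹ (inv_mem (hPN hx)) u hu
      simpa using this
    have h2 : t⁻¹ * (x⁻¹ * u * x) * t = (x⁻¹ * u * x)⁻¹ := htU' _ hv
    have h3 : (t * x * t⁻¹ * x⁻¹) * u * (t * x * t⁻¹ * x⁻¹)⁻¹ = u := by
      calc (t * x * t⁻¹ * x⁻¹) * u * (t * x * t⁻¹ * x⁻¹)⁻¹
          = t * x * (t⁻¹ * (x⁻¹ * u * x) * t) * x⁻¹ * t⁻¹ := by group
        _ = t * u⁻¹ * t⁻¹ := by rw [h2]; group
        _ = u := by rw [htU _ (inv_mem hu), inv_inv]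
    calc u * (t * x * t⁻¹ * x⁻¹) = ((t * x * t⁻¹ * x⁻¹) * u * (t * x * t⁻¹ * x⁻¹)⁻¹) * (t * x * t⁻¹ * x⁻¹) := by rw [h3]
      _ = (t * x * t⁻¹ * x⁻¹) * u := by group
  obtain ⟨d, hdD, hd⟩ := exists_conj_le P _ le_sup_right _ hT₀ hT₀D
  rw [Cfsg.Agent.Lib.H1Cop.mem_sup_iff hPnC] at hdD
  obtain ⟨c, hcC, x, hxP, rfl⟩ := hdD
  obtain ⟨t₁, ht₁⟩ : ∃ t₁, t₁ = c * x * t := ⟨_, rfl⟩
  have ht₁P : ∀ v ∈ (P : Subgroup G), t₁ * v * t₁⁻¹ ∈ (P : Subgroup G) := by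
    intro v hv
    have h1 := hd _ ⟨v, hv, rfl⟩
    have h2 : t₁ * v * t₁⁻¹ = c * x * (t * v * t⁻¹) * (c * x)⁻¹ := by rw [ht₁]; group
    rw [h2]
    exact h1
  have ht₁U : ∀ u ∈ U, t₁ * u * t₁⁻¹ = x * u⁻¹ * x⁻¹ := by
    intro u hu
    have h1 : x * u⁻¹ * x⁻¹ ∈ U := hNU x (hPN hxP) _ (inv_mem hu)
    have h2 := (Subgroup.mem_centralizer_iff.1 hcC) _ h1
    calc t₁ * u * t₁⁻¹ = c * (x * (t * u * t⁻¹) * x⁻¹) * c⁻¹ := by rw [ht₁]; group
      _ = c * (x * u⁻¹ * x⁻¹) * c⁻¹ := by rw [htU u hu]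
      _ = (x * u⁻¹ * x⁻¹) * c * c⁻¹ := by rw [h2]
      _ = x * u⁻¹ * x⁻¹ := by group
  have ht₁Z : ∀ z' ∈ Z, t₁ * z' * t₁⁻¹ = z'⁻¹ := by
    intro z' hz'
    rw [ht₁U z' (hZU hz')]
    have := hcen z'⁻¹ (inv_mem hz') x hxP
    rw [this]; group
  -- the element `a₀`
  have ha₀U : a₀ ∉ U := fun h => ha₀1 (hUp a₀ h)
  have hgen : ∀ H : Subgroup G, U ≤ H → H ≤ (P : Subgroup G) → a₀ ∈ H → H = (P : Subgroup G) := by
    intro H hUH hHP ha
    have hlt : U < H := by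
      refine lt_of_le_of_ne hUH ?_
      rintro rfl
      exact ha₀U ha
    apply Subgroup.eq_of_le_of_card_ge hHP
    have hd : Nat.card H ∣ p ^ 3 := by rw [← hcard]; exact Subgroup.card_dvd_of_le hHP
    obtain ⟨i, hi, hi'⟩ := (Nat.dvd_prime_pow hpp).1 hd
    have hclt : p ^ 2 < Nat.card H := by
      rw [← hcardU]
      refine lt_of_le_of_ne (Subgroup.card_le_of_le hlt.le) ?_
      intro h
      exact (ne_of_lt hlt) (Subgroup.eq_of_le_of_card_ge hlt.le h.ge)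
    have hi3 : i = 3 := by
      by_contra hne
      have hi1 : i ≤ 2 := by omega
      rw [hi'] at hclt
      have : p ^ i ≤ p ^ 2 := Nat.pow_le_pow_right hpp.pos hi1
      omega
    rw [hcard, hi', hi3]
  obtain ⟨c₀, hc₀⟩ : ∃ c₀, c₀ = a₀ * y * a₀⁻¹ * y⁻¹ := ⟨_, rfl⟩
  have hc₀Z : c₀ ∈ Z := by rw [hc₀]; exact hcomm _ ha₀ _ hgP
  have hc₀1 : c₀ ≠ 1 := by
    intro h
    have hcy : a₀ ∈ centralizer ({y} : Set G) := by
      rw [Subgroup.mem_centralizer_singleton_iff]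
      rw [hc₀] at h
      have h2 : a₀ * y * a₀⁻¹ = y := mul_inv_eq_one.1 h
      exact mul_inv_eq_iff_eq_mul.1 h2
    have h1 := hgen (centralizer ({y} : Set G) ⊓ (P : Subgroup G)) (le_inf (by
      intro u hu
      rw [Subgroup.mem_centralizer_singleton_iff]
      exact hUab _ hyU _ hu |>.symm) hUP) inf_le_right ⟨hcy, ha₀⟩
    have h2 : a ∈ centralizer ({y} : Set G) ⊓ (P : Subgroup G) := by rw [h1]; exact haP
    have h3 := Subgroup.mem_centralizer_singleton_iff.1 h2.1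
    have h4 : a * y * a⁻¹ = y := by rw [h3]; group
    rw [h4] at hay
    exact hz1 (mul_eq_left.1 hay.symm)
  have hz₀Z := hpow a₀ ha₀
  obtain ⟨k, hk⟩ := Cfsg.Agent.Lib.PGrp.exists_pow_of_card_prime hZc hc₀Z hc₀1 hz₀Z
  -- the subgroup `W`
  have hW : ∀ x' ∈ (P : Subgroup G), x' ^ p = (x' * y * x'⁻¹ * y⁻¹) ^ k := by
    have hmulc : ∀ s ∈ (P : Subgroup G), ∀ r ∈ (P : Subgroup G),
        (s * r) * y * (s * r)⁻¹ * y⁻¹ = (r * y * r⁻¹ * y⁻¹) * (s * y * s⁻¹ * y⁻¹) := by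
      intro s hs r hr
      have hc := hcomm r hr y hgP
      calc (s * r) * y * (s * r)⁻¹ * y⁻¹ = s * ((r * y * r⁻¹ * y⁻¹) * y) * s⁻¹ * y⁻¹ := by group
        _ = s * (r * y * r⁻¹ * y⁻¹) * y * s⁻¹ * y⁻¹ := by group
        _ = (r * y * r⁻¹ * y⁻¹) * s * y * s⁻¹ * y⁻¹ := by rw [hcen _ hc s hs]
        _ = _ := by group
    obtain ⟨W, hWd⟩ : ∃ W : Subgroup G, ∀ x', x' ∈ W ↔ x' ∈ (P : Subgroup G) ∧ x' ^ p = (x' * y * x'⁻¹ * y⁻¹) ^ k := by
      refine ⟨{ carrier := {x' | x' ∈ (P : Subgroup G) ∧ x' ^ p = (x' * y * x'⁻¹ * y⁻¹) ^ k}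
                one_mem' := ⟨one_mem _, by simp⟩
                mul_mem' := ?_
                inv_mem' := ?_ }, fun x' => Iff.rfl⟩
      · rintro s r ⟨hs, hs'⟩ ⟨hr, hr'⟩
        refine ⟨mul_mem hs hr, ?_⟩
        rw [hmulc s hs r hr, hmulp s hs r hr, hs', hr']
        have hc := hcomm r hr y hgP
        have hc2 := hcomm s hs y hgP
        have hcc : Commute (r * y * r⁻¹ * y⁻¹) (s * y * s⁻¹ * y⁻¹) := (hcen _ hc _ (hZP hc2)).symm
        rw [hcc.mul_pow, hcc.pow_pow k k |>.eq]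
      · rintro s ⟨hs, hs'⟩
        refine ⟨inv_mem hs, ?_⟩
        have h0 := hmulc s hs s⁻¹ (inv_mem hs)
        have hc2 := hcomm s⁻¹ (inv_mem hs) y hgP
        have hc3 := hcomm s hs y hgP
        have h1 : (s⁻¹ * y * s⁻¹⁻¹ * y⁻¹) = (s * y * s⁻¹ * y⁻¹)⁻¹ := by
          have h2 : (s⁻¹ * y * s⁻¹⁻¹ * y⁻¹) * (s * y * s⁻¹ * y⁻¹) = 1 := by
            rw [← h0]; simp
          exact eq_inv_of_mul_eq_one_left h2
        rw [h1, inv_pow, inv_pow, hs']
    have hWP : W = (P : Subgroup G) := by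
      apply hgen W
      · intro u hu
        rw [hWd]
        refine ⟨hUP hu, ?_⟩
        rw [hUp u hu]
        have h1 : u * y = y * u := hUab u hu y hyU
        rw [h1]
        simp
      · exact fun v hv => ((hWd v).1 hv).1
      · rw [hWd]
        refine ⟨ha₀, ?_⟩
        rw [← hc₀]
        exact hk
    intro x' hx'
    rw [← hWP] at hx'
    exact ((hWd x').1 hx').2
  -- the contradiction
  obtain ⟨z₀, hz₀⟩ : ∃ z₀, z₀ = a₀ ^ p := ⟨_, rfl⟩
  have hx'P := ht₁P a₀ ha₀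
  have h1 := hW _ hx'P
  have h2 : (t₁ * a₀ * t₁⁻¹) ^ p = z₀⁻¹ := by
    rw [conj_pow, ← hz₀, ht₁Z z₀ (by rw [hz₀]; exact hz₀Z)]
  obtain ⟨u, hu⟩ : ∃ u, u = x⁻¹ * y⁻¹ * x := ⟨_, rfl⟩
  have huU : u ∈ U := by
    have := hNU x⁻¹ (inv_mem (hPN hxP)) _ (inv_mem hyU)
    rw [hu]
    simpa using this
  have hyt : t₁ * u * t₁⁻¹ = y := by
    rw [ht₁U u huU, hu]; group
  have h3 : (t₁ * a₀ * t₁⁻¹) * y * (t₁ * a₀ * t₁⁻¹)⁻¹ * y⁻¹ = t₁ * (a₀ * u * a₀⁻¹ * u⁻¹) * t₁⁻¹ := by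
    nth_rewrite 1 [← hyt]
    nth_rewrite 1 [← hyt]
    group
  have h4 : a₀ * u * a₀⁻¹ * u⁻¹ = c₀⁻¹ := by
    obtain ⟨f, hf⟩ : ∃ f, f = y * u := ⟨_, rfl⟩
    have hfZ : f ∈ Z := by
      have h5 : f = y * x⁻¹ * y⁻¹ * x⁻¹⁻¹ := by rw [hf, hu]; group
      rw [h5]
      exact hcomm _ hgP _ (inv_mem hxP)
    have hu2 : u = y⁻¹ * f := by rw [hf]; group
    have h6 := hcen f hfZ a₀ ha₀
    have h7 : a₀ * y⁻¹ * a₀⁻¹ * y = c₀⁻¹ := by
      have h8 : a₀ * y⁻¹ * a₀⁻¹ = y⁻¹ * c₀⁻¹ := by rw [hc₀]; group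
      rw [h8]
      have h9 := hcen c₀⁻¹ (inv_mem hc₀Z) y hgP
      rw [mul_assoc, ← h9]
      group
    calc a₀ * u * a₀⁻¹ * u⁻¹ = a₀ * y⁻¹ * (f * a₀⁻¹) * f⁻¹ * y := by rw [hu2]; group
      _ = a₀ * y⁻¹ * (a₀⁻¹ * f) * f⁻¹ * y := by
          rw [show f * a₀⁻¹ = a₀⁻¹ * f from (hcen f hfZ a₀⁻¹ (inv_mem ha₀)).symm]
      _ = a₀ * y⁻¹ * a₀⁻¹ * y := by group
      _ = c₀⁻¹ := h7
  rw [h3, h4, ht₁Z _ (inv_mem hc₀Z), inv_inv, h2, ← hk, ← hz₀] at h1
  have h5 : z₀ ^ 2 = 1 := by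
    rw [sq]
    nth_rewrite 1 [← h1]
    simp
  have h6 : z₀ ^ p = 1 := hZp z₀ (by rw [hz₀]; exact hz₀Z)
  have h7 : orderOf z₀ ∣ 1 := by
    have : orderOf z₀ ∣ Nat.gcd 2 p := Nat.dvd_gcd (orderOf_dvd_of_pow_eq_one h5) (orderOf_dvd_of_pow_eq_one h6)
    have h8 : Nat.gcd 2 p = 1 := by
      rw [Nat.coprime_primes Nat.prime_two hpp |>.2 (Ne.symm hp)]
    rwa [h8] at this
  have h9 : z₀ = 1 := orderOf_eq_one_iff.1 (Nat.dvd_one.1 h7)
  exact ha₀1 (by rw [← hz₀]; exact h9)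

theorem s3053 (hp : p ≠ 2) (P : Sylow p G) (hE : IsExtraspecial p ↥P)
    (hcard : Nat.card P = p ^ 3) (hexp : Monoid.exponent ↥P = p ^ 2) :
    IsStronglyClosed ((Subgroup.center ↥P).map (P : Subgroup G).subtype) (P : Subgroup G) := by
  classical
  have hpp : p.Prime := Fact.out
  refine ⟨Subgroup.map_subtype_le _, ?_⟩
  have hcomm' : ∀ a b : ↥P, a * b * a⁻¹ * b⁻¹ ∈ center ↥P := by
    intro a b
    rw [← hE.1.2.2]
    exact Subgroup.commutator_mem_commutator (Subgroup.mem_top _) (Subgroup.mem_top _)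
  obtain ⟨a₀, ha₀⟩ : ∃ a₀ : ↥P, a₀ ^ p ≠ 1 := by
    by_contra hcon
    push Not at hcon
    have h1 := Monoid.exponent_dvd_of_forall_pow_eq_one hcon
    rw [hexp] at h1
    have h2 : p ^ 2 ≤ p ^ 1 := by
      rw [pow_one]
      exact Nat.le_of_dvd hpp.pos h1
    have := (Nat.pow_le_pow_iff_right hpp.one_lt).1 h2
    omega
  apply key hp P _ (Subgroup.map_subtype_le _)
  · rw [Subgroup.card_map_of_injective (Subgroup.subtype_injective _)]
    exact hE.2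
  · rintro _ ⟨z, hz, rfl⟩ x hx
    have := Subgroup.mem_center_iff.1 hz ⟨x, hx⟩
    exact congrArg Subtype.val this
  · intro x hx y hy
    exact ⟨_, hcomm' ⟨x, hx⟩ ⟨y, hy⟩, rfl⟩
  · intro x hx
    refine ⟨(⟨x, hx⟩ : ↥P) ^ p, ?_, rfl⟩
    rw [← hE.1.2.1]
    exact Cfsg.Agent.Lib.PGrp.pow_mem_frattini hE.1.1 _
  · rintro y hy hyZ _ ⟨z, hz, rfl⟩
    have h1 : (⟨y, hy⟩ : ↥P) ∉ center ↥P := fun h => hyZ ⟨_, h, rfl⟩
    obtain ⟨t, ht⟩ := ex_surj' hE h1 hz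
    exact ⟨t.1, t.2, congrArg Subtype.val ht⟩
  · exact hcard
  · exact a₀.2
  · exact fun h => ha₀ (Subtype.ext h)

end Cfsg.Agent.Lib.LExtraFus
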