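import Mathlib
import Cfsg.Prelude.Def_Transfer
import Cfsg.Agent.Lib.PGrp2

set_option autoImplicit false
set_option linter.unusedVariables false

/-! Automorphisms of extraspecial groups centralizing a subgroup of index 2: S1756. -/

namespace Cfsg.Agent.Lib.LdCl6

open Subgroup Cfsg
open scoped commutatorElement

variable {P : Type*} [Group P] [Finite P]

theorem comm_mem_center (hP : IsExtraspecial 2 P) (x y : P) : x * y * x⁻¹ * y⁻¹ ∈ center P := by
  rw [← hP.1.2.2, commutator_def]
  exact Subgroup.commutator_mem_commutator (mem_top x) (mem_top y)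

theorem central_comm {z : P} (hz : z ∈ center P) (y : P) : y * z = z * y :=
  (Subgroup.mem_center_iff.mp hz) y

theorem center_unique (hP : IsExtraspecial 2 P) {a b : P} (ha : a ∈ center P) (hb : b ∈ center P)
    (ha1 : a ≠ 1) (hb1 : b ≠ 1) : a = b := by
  have h := (Nat.card_eq_two_iff' (1 : ↥(center P))).mp hP.2
  obtain ⟨y, _, huniq⟩ := h
  have h1 : (⟨a, ha⟩ : ↥(center P)) = y := huniq _ (fun h => ha1 (congrArg Subtype.val h))
  have h2 : (⟨b, hb⟩ : ↥(center P)) = y := huniq _ (fun h => hb1 (congrArg Subtype.val h))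
  have h3 : (⟨a, ha⟩ : ↥(center P)) = ⟨b, hb⟩ := h1.trans h2.symm
  exact congrArg Subtype.val h3

/-- index of the centralizer of an element is at most `2`. -/
theorem index_centralizer_le (hP : IsExtraspecial 2 P) (x : P) :
    (centralizer ({x} : Set P)).index ≤ 2 := by
  classical
  have hc : Nat.card (center P) = 2 := hP.2
  let f : P →* center P :=
    { toFun := fun y => ⟨x * y * x⁻¹ * y⁻¹, comm_mem_center hP x y⟩
      map_one' := by
        apply Subtype.ext; simp
      map_mul' := by
        intro a b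
        apply Subtype.ext
        show x * (a * b) * x⁻¹ * (a * b)⁻¹ = (x * a * x⁻¹ * a⁻¹) * (x * b * x⁻¹ * b⁻¹)
        have h1 := central_comm (comm_mem_center hP x b) a
        calc x * (a * b) * x⁻¹ * (a * b)⁻¹ = (x * a * x⁻¹ * a⁻¹) * (a * (x * b * x⁻¹ * b⁻¹) * a⁻¹) := by group
          _ = (x * a * x⁻¹ * a⁻¹) * ((x * b * x⁻¹ * b⁻¹) * a * a⁻¹) := by rw [h1]
          _ = (x * a * x⁻¹ * a⁻¹) * (x * b * x⁻¹ * b⁻¹) := by group }
  have hker : f.ker = centralizer ({x} : Set P) := by
    ext y
    rw [MonoidHom.mem_ker, Subgroup.mem_centralizer_singleton_iff]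
    constructor
    · intro h
      have h1 : x * y * x⁻¹ * y⁻¹ = 1 := congrArg Subtype.val h
      calc y * x = (x * y * x⁻¹ * y⁻¹)⁻¹ * (x * y) := by group
        _ = x * y := by rw [h1]; simp
    · intro h
      apply Subtype.ext
      show x * y * x⁻¹ * y⁻¹ = 1
      rw [← h]; group
  rw [← hker, Subgroup.index_ker]
  calc Nat.card f.range ≤ Nat.card (center P) := Subgroup.card_le_card_group _
    _ = 2 := hc

theorem card_mul_index_le (hP : IsExtraspecial 2 P) (n : ℕ) : ∀ L : Subgroup P, Nat.card L = n → center P ≤ L →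
    Nat.card (center P) * (centralizer (L : Set P)).index ≤ Nat.card L := by
  induction n using Nat.strong_induction_on with
  | _ n ih =>
    intro L hn hZL
    by_cases hLZ : L = center P
    · have h1 : centralizer (L : Set P) = ⊤ := by
        rw [hLZ, Subgroup.centralizer_eq_top_iff_subset]
      rw [h1, Subgroup.index_top, mul_one, hLZ]
    have hlt : center P < L := lt_of_le_of_ne hZL (Ne.symm hLZ)
    obtain ⟨L₀, hmax⟩ := (Set.toFinite {X : Subgroup P | center P ≤ X ∧ X < L}).exists_maximal ⟨center P, le_rfl, hlt⟩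
    obtain ⟨hZ0, h0L⟩ := hmax.1
    obtain ⟨x, hxL, hx0⟩ := SetLike.exists_of_lt h0L
    have hsup : L₀ ⊔ zpowers x = L := by
      by_contra hne
      have h2 : L₀ ⊔ zpowers x ≤ L := sup_le h0L.le ((zpowers_le).mpr hxL)
      have h3 : L₀ ⊔ zpowers x < L := lt_of_le_of_ne h2 hne
      have h4 : L₀ ≤ L₀ ⊔ zpowers x := le_sup_left
      have h5 := hmax.2 ⟨hZ0.trans h4, h3⟩ h4
      exact hx0 (h5 (Subgroup.mem_sup_right (mem_zpowers x)))
    have hle : centralizer (L₀ : Set P) ⊓ centralizer ({x} : Set P) ≤ centralizer (L : Set P) := by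
      rintro y ⟨hy1, hy2⟩
      rw [Subgroup.mem_centralizer_iff]
      intro l hl
      have hl' : l ∈ L₀ ⊔ zpowers x := by rw [hsup]; exact hl
      have h6 : L₀ ⊔ zpowers x ≤ centralizer ({y} : Set P) := by
        apply sup_le
        · intro m hm
          rw [Subgroup.mem_centralizer_singleton_iff]
          exact (Subgroup.mem_centralizer_iff.mp hy1) m hm
        · rw [zpowers_le, Subgroup.mem_centralizer_singleton_iff]
          exact (Subgroup.mem_centralizer_singleton_iff.mp hy2).symm
      have h7 := (Subgroup.mem_centralizer_singleton_iff.mp (h6 hl'))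
      exact h7
    have hdvd : (centralizer (L : Set P)).index ∣ (centralizer (L₀ : Set P) ⊓ centralizer ({x} : Set P)).index :=
      Subgroup.index_dvd_of_le hle
    have hi1 : (centralizer (L : Set P)).index ≤ (centralizer (L₀ : Set P)).index * 2 := by
      calc (centralizer (L : Set P)).index ≤ (centralizer (L₀ : Set P) ⊓ centralizer ({x} : Set P)).index :=
            Nat.le_of_dvd (Nat.pos_of_ne_zero (Subgroup.index_ne_zero_of_finite)) hdvd
        _ ≤ (centralizer (L₀ : Set P)).index * (centralizer ({x} : Set P)).index := Subgroup.index_inf_le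
        _ ≤ (centralizer (L₀ : Set P)).index * 2 := Nat.mul_le_mul_left _ (index_centralizer_le hP x)
    have hcardlt : Nat.card L₀ < n := by
      rw [← hn]
      exact lt_of_le_of_ne (Subgroup.card_le_of_le h0L.le) (fun h => (ne_of_lt h0L) (Subgroup.eq_of_le_of_card_ge h0L.le h.ge))
    have hih := ih _ hcardlt L₀ rfl hZ0
    have hd2 : Nat.card L₀ ∣ Nat.card L := Subgroup.card_dvd_of_le h0L.le
    obtain ⟨k, hk⟩ := hd2
    have hk2 : 2 ≤ k := by
      by_contra hk3
      have : k = 0 ∨ k = 1 := by omega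
      rcases this with rfl | rfl
      · have : 0 < Nat.card L := Nat.card_pos
        omega
      · rw [mul_one] at hk
        omega
    have hpos : 0 < Nat.card L₀ := Nat.card_pos
    calc Nat.card (center P) * (centralizer (L : Set P)).index
        ≤ Nat.card (center P) * ((centralizer (L₀ : Set P)).index * 2) := Nat.mul_le_mul_left _ hi1
      _ = (Nat.card (center P) * (centralizer (L₀ : Set P)).index) * 2 := by ring
      _ ≤ Nat.card L₀ * 2 := Nat.mul_le_mul_right _ hih
      _ ≤ Nat.card L₀ * k := Nat.mul_le_mul_left _ hk2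
      _ = Nat.card L := hk.symm

theorem inner_of_index (hP : IsExtraspecial 2 P) (τ : P ≃* P) (hτ : ∀ x, τ (τ x) = x) (F : Subgroup P)
    (hF : ∀ x, x ∈ F ↔ τ x = x) (hi : F.index ≤ 2) : ∃ v : P, ∀ x, τ x = v * x * v⁻¹ := by
  have hi0 : F.index ≠ 0 := Subgroup.index_ne_zero_of_finite
  have hcases : F.index = 1 ∨ F.index = 2 := by omega
  rcases hcases with h1 | h2
  · rw [Subgroup.index_eq_one] at h1
    refine ⟨1, fun x => ?_⟩
    simpa using (hF x).mp (h1 ▸ mem_top x)
  -- index 2
  have hmem := fun a b => Subgroup.mul_mem_iff_of_index_two (H := F) h2 (a := a) (b := b)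
  have hZF : center P ≤ F := by
    rw [← hP.1.2.2, commutator_def, Subgroup.commutator_le]
    intro a _ b _
    rw [commutatorElement_def, hmem, hmem, hmem, F.inv_mem_iff, F.inv_mem_iff]
    tauto
  have hcen : ∀ q, q ∉ F → q⁻¹ * τ q ∈ center P ∧ q⁻¹ * τ q ≠ 1 := by
    intro q hq
    have hτq : τ q ∉ F := by
      intro h
      have h3 := (hF _).mp h
      rw [hτ] at h3
      exact hq ((hF q).mpr h3.symm)
    obtain ⟨c, hcdef⟩ : ∃ c, c = q⁻¹ * τ q := ⟨_, rfl⟩
    rw [← hcdef]
    have hτq' : τ q = q * c := by rw [hcdef]; group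
    have hcF : c ∈ F := by
      rw [hcdef, hmem, F.inv_mem_iff]
      exact iff_of_false hq hτq
    have hτc : τ c = c := (hF c).mp hcF
    have hc2 : c * c = 1 := by
      have h3 := hτ q
      rw [hτq', map_mul, hτq', hτc] at h3
      have h4 : q * (c * c) = q * 1 := by rw [mul_one, ← mul_assoc]; exact h3
      exact mul_left_cancel h4
    have hcinv : c⁻¹ = c := inv_eq_of_mul_eq_one_left hc2
    have hcm : ∀ m ∈ F, m * c = c * m := by
      intro m hm
      obtain ⟨ζ, hζ⟩ : ∃ ζ, ζ = m⁻¹ * q⁻¹ * m * q := ⟨_, rfl⟩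
      have hζc : ζ ∈ center P := by
        have := comm_mem_center hP m⁻¹ q⁻¹
        simpa [hζ] using this
      have hτζ : τ ζ = ζ := (hF ζ).mp (hZF hζc)
      have hτm : τ m = m := (hF m).mp hm
      have h3 : τ ζ = m⁻¹ * (q * c)⁻¹ * m * (q * c) := by
        rw [hζ]
        simp only [map_mul, map_inv, hτm, hτq']
      rw [hτζ] at h3
      have h4 : q⁻¹ * m * q = m * ζ := by rw [hζ]; group
      have h5 : m⁻¹ * (q * c)⁻¹ * m * (q * c) = m⁻¹ * c⁻¹ * (q⁻¹ * m * q) * c := by group
      rw [h5, h4] at h3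
      have h6 := central_comm hζc c
      have h7 : m⁻¹ * c⁻¹ * (m * ζ) * c = m⁻¹ * c⁻¹ * m * c * ζ := by
        calc m⁻¹ * c⁻¹ * (m * ζ) * c = m⁻¹ * c⁻¹ * m * (ζ * c) := by group
          _ = m⁻¹ * c⁻¹ * m * (c * ζ) := by rw [← h6]
          _ = m⁻¹ * c⁻¹ * m * c * ζ := by group
      rw [h7] at h3
      have h8 : m⁻¹ * c⁻¹ * m * c = 1 := by
        have h9 : 1 * ζ = m⁻¹ * c⁻¹ * m * c * ζ := by rw [one_mul]; exact h3
        exact (mul_right_cancel h9).symm
      calc m * c = c * m * (m⁻¹ * c⁻¹ * m * c) := by group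
        _ = c * m := by rw [h8, mul_one]
    have hcq : q * c = c * q := by
      have h3 : τ (q * q) = q * q := (hF _).mp (Subgroup.mul_self_mem_of_index_two h2 q)
      rw [map_mul, hτq'] at h3
      have h4 : c * q * c = q := by
        have h5 : q * (c * q * c) = q * q := by rw [← h3]; group
        exact mul_left_cancel h5
      calc q * c = (c * q * c) * c := by rw [h4]
        _ = c * q * (c * c) := by group
        _ = c * q := by rw [hc2, mul_one]
    constructor
    · rw [Subgroup.mem_center_iff]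
      intro y
      by_cases hy : y ∈ F
      · exact hcm y hy
      · have h3 : q⁻¹ * y ∈ F := by
          rw [hmem, F.inv_mem_iff]
          exact iff_of_false hq hy
        have h4 := hcm _ h3
        calc y * c = q * (q⁻¹ * y * c) := by group
          _ = q * (c * (q⁻¹ * y)) := by rw [h4]
          _ = (q * c) * (q⁻¹ * y) := by group
          _ = (c * q) * (q⁻¹ * y) := by rw [hcq]
          _ = c * y := by group
    · intro h
      apply hq
      rw [hF, hτq', h, mul_one]
  -- existence of `v`
  have h4 := card_mul_index_le hP _ F rfl hZF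
  rw [hP.2] at h4
  have hcardF : F.index * Nat.card F = Nat.card P := F.index_mul_card
  have hcardC := (centralizer (F : Set P)).index_mul_card
  have hposI : 0 < (centralizer (F : Set P)).index := Nat.pos_of_ne_zero Subgroup.index_ne_zero_of_finite
  have hC4 : 4 ≤ Nat.card (centralizer (F : Set P)) := by
    rw [h2] at hcardF
    have h5 : (centralizer (F : Set P)).index * Nat.card (centralizer (F : Set P)) = (centralizer (F : Set P)).index * 4 + (Nat.card P - (centralizer (F : Set P)).index * 4) := by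
      rw [hcardC]; omega
    by_contra h6
    push_neg at h6
    have h7 : (centralizer (F : Set P)).index * Nat.card (centralizer (F : Set P)) < (centralizer (F : Set P)).index * 4 :=
      Nat.mul_lt_mul_of_pos_left h6 hposI
    omega
  obtain ⟨v, hvC, hvZ⟩ : ∃ v ∈ centralizer (F : Set P), v ∉ center P := by
    by_contra h5
    push_neg at h5
    have h6 : Nat.card (centralizer (F : Set P)) ≤ Nat.card (center P) := Subgroup.card_le_of_le h5
    rw [hP.2] at h6
    omega
  refine ⟨v, fun x => ?_⟩
  by_cases hx : x ∈ F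
  · rw [(hF x).mp hx]
    have h5 : x * v = v * x := (Subgroup.mem_centralizer_iff.mp hvC) x hx
    rw [← h5]; group
  · obtain ⟨h5, h6⟩ := hcen x hx
    have h7 : x⁻¹ * (v * x * v⁻¹) ∈ center P := by
      have := comm_mem_center hP x⁻¹ v
      simpa [mul_assoc] using this
    have h8 : x⁻¹ * (v * x * v⁻¹) ≠ 1 := by
      intro h9
      apply hvZ
      have hvx : v * x = x * v := by
        have h10 : v * x * v⁻¹ = x := by
          have := mul_eq_one_iff_eq_inv.mp h9
          exact (inv_injective this).symm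
        calc v * x = (v * x * v⁻¹) * v := by group
          _ = x * v := by rw [h10]
      rw [Subgroup.mem_center_iff]
      intro y
      by_cases hy : y ∈ F
      · exact (Subgroup.mem_centralizer_iff.mp hvC) y hy
      · have h3 : x⁻¹ * y ∈ F := by
          rw [hmem, F.inv_mem_iff]
          exact iff_of_false hx hy
        have h4 := (Subgroup.mem_centralizer_iff.mp hvC) _ h3
        calc y * v = x * (x⁻¹ * y * v) := by group
          _ = x * (v * (x⁻¹ * y)) := by rw [h4]
          _ = (x * v) * (x⁻¹ * y) := by group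
          _ = (v * x) * (x⁻¹ * y) := by rw [hvx]
          _ = v * y := by group
    have h9 := center_unique hP h5 h7 h6 h8
    exact mul_left_cancel h9

variable {G : Type*} [Group G] [Finite G]

/-- S1756. -/
theorem s1756 (Q : Subgroup G)
    (hQ : IsExtraspecial 2 ↥Q) (t : G) (ht : orderOf t = 2) (htN : t ∈ Subgroup.normalizer (Q : Set G))
    (hi : (Subgroup.centralizer ({t} : Set G) ⊓ Q).relIndex Q ≤ 2) :
    t ∈ Q ⊔ Subgroup.centralizer (Q : Set G) := by
  have htt : t * t = 1 := by rw [← pow_two, ← ht, pow_orderOf_eq_one]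
  have htinv : t⁻¹ = t := inv_eq_of_mul_eq_one_left htt
  have hcq : ∀ q : ↥Q, t * (q : G) * t⁻¹ ∈ Q := fun q => (Subgroup.mem_normalizer_iff.mp htN q).1 q.2
  let τ : ↥Q ≃* ↥Q :=
    { toFun := fun q => ⟨t * q * t⁻¹, hcq q⟩
      invFun := fun q => ⟨t * q * t⁻¹, hcq q⟩
      left_inv := fun q => Subtype.ext (by
        show t * (t * (q : G) * t⁻¹) * t⁻¹ = q
        rw [htinv]
        calc t * (t * (q : G) * t) * t = (t * t) * q * (t * t) := by group
          _ = q := by rw [htt]; group)
      right_inv := fun q => Subtype.ext (by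
        show t * (t * (q : G) * t⁻¹) * t⁻¹ = q
        rw [htinv]
        calc t * (t * (q : G) * t) * t = (t * t) * q * (t * t) := by group
          _ = q := by rw [htt]; group)
      map_mul' := fun a b => Subtype.ext (by
        show t * ((a : G) * (b : G)) * t⁻¹ = (t * (a : G) * t⁻¹) * (t * (b : G) * t⁻¹)
        group) }
  have hτv : ∀ q : ↥Q, ((τ q : ↥Q) : G) = t * q * t⁻¹ := fun q => rfl
  have hττ : ∀ x, τ (τ x) = x := fun q => Subtype.ext (by
    show t * (t * (q : G) * t⁻¹) * t⁻¹ = q
    rw [htinv]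
    calc t * (t * (q : G) * t) * t = (t * t) * q * (t * t) := by group
      _ = q := by rw [htt]; group)
  have hF : ∀ x : ↥Q, x ∈ (Subgroup.centralizer ({t} : Set G) ⊓ Q).subgroupOf Q ↔ τ x = x := by
    intro x
    rw [Subgroup.mem_subgroupOf]
    constructor
    · rintro ⟨h1, _⟩
      apply Subtype.ext
      show t * (x : G) * t⁻¹ = x
      have := (Subgroup.mem_centralizer_singleton_iff.mp h1)
      rw [← this]; group
    · intro h
      refine ⟨?_, x.2⟩
      show (x : G) ∈ Subgroup.centralizer ({t} : Set G)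
      rw [Subgroup.mem_centralizer_singleton_iff]
      have h1 : t * (x : G) * t⁻¹ = x := congrArg Subtype.val h
      calc (x : G) * t = (t * (x : G) * t⁻¹) * t := by rw [h1]
        _ = t * x := by group
  obtain ⟨v, hv⟩ := inner_of_index hQ τ hττ _ hF hi
  have hcen : (v : G)⁻¹ * t ∈ Subgroup.centralizer (Q : Set G) := by
    rw [Subgroup.mem_centralizer_iff]
    intro q hq
    have h1 : ((τ ⟨q, hq⟩ : ↥Q) : G) = (v : G) * q * (v : G)⁻¹ := congrArg Subtype.val (hv ⟨q, hq⟩)
    rw [hτv] at h1
    have h2 : t * q * t⁻¹ = (v : G) * q * (v : G)⁻¹ := h1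
    calc q * ((v : G)⁻¹ * t) = (v : G)⁻¹ * ((v : G) * q * (v : G)⁻¹) * t := by group
      _ = (v : G)⁻¹ * (t * q * t⁻¹) * t := by rw [h2]
      _ = (v : G)⁻¹ * t * q := by group
  have h3 : t = (v : G) * ((v : G)⁻¹ * t) := by group
  rw [h3]
  exact Subgroup.mul_mem_sup v.2 hcen

end Cfsg.Agent.Lib.LdCl6
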