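import Mathlib
import Cfsg.Prelude.Def_Transfer
import Cfsg.Prelude.Def_Local
import Cfsg.Agent.Lib.LdCl6
import Cfsg.Agent.Lib.PNilp

set_option autoImplicit false
set_option linter.unusedSectionVars false
set_option linter.unusedVariables false
set_option linter.style.haveILetI false

namespace Cfsg.Agent.Lib.LExtraPlus

open Subgroup Cfsg

variable {E : Type*} [Group E] [Finite E]

theorem sq_mem (hE : IsExtraspecial 2 E) (x : E) : x ^ 2 ∈ center E := by
  rw [← hE.1.2.1]
  exact Cfsg.Agent.Lib.PGrp.pow_mem_frattini hE.1.1 x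

theorem center_sq (hE : IsExtraspecial 2 E) {z : E} (hz : z ∈ center E) : z ^ 2 = 1 := by
  have h := pow_card_eq_one' (x := (⟨z, hz⟩ : center E))
  rw [hE.2] at h
  simpa using congrArg Subtype.val h

theorem half (hE : IsExtraspecial 2 E) (H : Subgroup E) (y : E)
    (h : ¬ H ≤ centralizer ({y} : Set E)) :
    2 * Nat.card ↥(H ⊓ centralizer ({y} : Set E)) = Nat.card H := by
  have h1 := Cfsg.Agent.Lib.PNilp.card_mul_relIndex' (H ⊓ centralizer ({y} : Set E)) H inf_le_left
  rw [Subgroup.inf_relIndex_left] at h1
  have h2 : (centralizer ({y} : Set E)).relIndex H ≤ (centralizer ({y} : Set E)).index := by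
    have := Subgroup.relIndex_le_of_le_right (H := centralizer ({y} : Set E)) (le_top : H ≤ ⊤)
      (by rw [Subgroup.relIndex_top_right]; exact Subgroup.index_ne_zero_of_finite)
    rwa [Subgroup.relIndex_top_right] at this
  have h3 := Cfsg.Agent.Lib.LdCl6.index_centralizer_le hE y
  have h4 : (centralizer ({y} : Set E)).relIndex H ≠ 1 := by
    intro h5
    exact h (Subgroup.relIndex_eq_one.1 h5)
  have h5 : (centralizer ({y} : Set E)).relIndex H ≠ 0 := by
    intro h6
    rw [h6, mul_zero] at h1
    exact Nat.card_pos.ne h1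
  have h6 : (centralizer ({y} : Set E)).relIndex H = 2 := by omega
  rw [h6] at h1
  rw [← h1, mul_comm]

/-- Double counting. -/
theorem card_centralizer_mul (hE : IsExtraspecial 2 E) (B : Subgroup E) (hZB : center E ≤ B) :
    Nat.card (centralizer (B : Set E)) * Nat.card B = 2 * Nat.card E := by
  classical
  haveI := Fintype.ofFinite E
  have hcf : ∀ H : Subgroup E, (Finset.univ.filter (fun x : E => x ∈ H)).card = Nat.card H := by
    intro H
    rw [Nat.card_eq_fintype_card, Fintype.card_subtype]
  obtain ⟨Bf, hBf⟩ : ∃ Bf : Finset E, Bf = Finset.univ.filter (fun x : E => x ∈ B) := ⟨_, rfl⟩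
  have hBc : Bf.card = Nat.card B := by rw [hBf, hcf]
  have hdc := Finset.sum_card_bipartiteAbove_eq_sum_card_bipartiteBelow
    (s := (Finset.univ : Finset E)) (t := Bf) (fun x b : E => x * b = b * x)
  -- the `x` count
  have hx : ∀ x : E, 2 * (Finset.bipartiteAbove (fun x b : E => x * b = b * x) Bf x).card =
      Nat.card B + (if x ∈ centralizer (B : Set E) then Nat.card B else 0) := by
    intro x
    have h1 : (Finset.bipartiteAbove (fun x b : E => x * b = b * x) Bf x).card =
        Nat.card ↥(B ⊓ centralizer ({x} : Set E)) := by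
      rw [← hcf]
      congr 1
      ext b
      simp only [Finset.bipartiteAbove, Finset.mem_filter, hBf, Finset.mem_univ, true_and,
        Subgroup.mem_inf, Subgroup.mem_centralizer_singleton_iff]
      constructor
      · rintro ⟨h2, h3⟩; exact ⟨h2, h3.symm⟩
      · rintro ⟨h2, h3⟩; exact ⟨h2, h3.symm⟩
    rw [h1]
    by_cases hxC : x ∈ centralizer (B : Set E)
    · rw [if_pos hxC]
      have h2 : B ≤ centralizer ({x} : Set E) := by
        intro b hb
        rw [Subgroup.mem_centralizer_singleton_iff]
        exact (Subgroup.mem_centralizer_iff.1 hxC b hb)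
      rw [inf_eq_left.2 h2]; ring
    · rw [if_neg hxC, add_zero]
      apply half hE
      intro h2
      apply hxC
      rw [Subgroup.mem_centralizer_iff]
      intro b hb
      exact Subgroup.mem_centralizer_singleton_iff.1 (h2 hb)
  have hb : ∀ b : E, 2 * (Finset.bipartiteBelow (fun x b : E => x * b = b * x) Finset.univ b).card =
      Nat.card E + (if b ∈ center E then Nat.card E else 0) := by
    intro b
    have h1 : (Finset.bipartiteBelow (fun x b : E => x * b = b * x) Finset.univ b).card =
        Nat.card ↥((⊤ : Subgroup E) ⊓ centralizer ({b} : Set E)) := by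
      rw [← hcf]
      congr 1
      ext x
      simp only [Finset.bipartiteBelow, Finset.mem_filter, Finset.mem_univ, true_and,
        Subgroup.mem_inf, Subgroup.mem_top, Subgroup.mem_centralizer_singleton_iff]
    rw [h1]
    by_cases hbZ : b ∈ center E
    · rw [if_pos hbZ]
      have h2 : (⊤ : Subgroup E) ⊓ centralizer ({b} : Set E) = ⊤ := by
        rw [top_inf_eq, eq_top_iff]
        intro x _
        rw [Subgroup.mem_centralizer_singleton_iff]
        exact (Subgroup.mem_center_iff.1 hbZ x)
      rw [h2, Subgroup.card_top]; ring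
    · rw [if_neg hbZ, add_zero]
      have h2 := half hE ⊤ b (by
        intro h3
        apply hbZ
        rw [Subgroup.mem_center_iff]
        intro x
        exact (Subgroup.mem_centralizer_singleton_iff.1 (h3 (mem_top x))))
      rw [h2, Subgroup.card_top]
  have hsum1 : 2 * ∑ x : E, (Finset.bipartiteAbove (fun x b : E => x * b = b * x) Bf x).card =
      Nat.card E * Nat.card B + Nat.card (centralizer (B : Set E)) * Nat.card B := by
    rw [Finset.mul_sum]
    simp_rw [hx]
    rw [Finset.sum_add_distrib, Finset.sum_const, smul_eq_mul, ← Finset.sum_filter, Finset.sum_const,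
      smul_eq_mul, hcf, Finset.card_univ, ← Nat.card_eq_fintype_card]
  have hsum2 : 2 * ∑ b ∈ Bf, (Finset.bipartiteBelow (fun x b : E => x * b = b * x) Finset.univ b).card =
      Nat.card B * Nat.card E + 2 * Nat.card E := by
    rw [Finset.mul_sum]
    simp_rw [hb]
    rw [Finset.sum_add_distrib, Finset.sum_const, smul_eq_mul, ← Finset.sum_filter, Finset.sum_const,
      smul_eq_mul, hBc]
    congr 2
    have : Bf.filter (fun b => b ∈ center E) = Finset.univ.filter (fun x : E => x ∈ center E) := by
      ext b
      simp only [hBf, Finset.mem_filter, Finset.mem_univ, true_and]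
      exact ⟨fun h => h.2, fun h => ⟨hZB h, h⟩⟩
    rw [this]
    have h7 := hcf (center E)
    rw [hE.2] at h7
    convert h7
  rw [hdc] at hsum1
  have : Nat.card E * Nat.card B + Nat.card (centralizer (B : Set E)) * Nat.card B =
      Nat.card B * Nat.card E + 2 * Nat.card E := hsum1.symm.trans hsum2
  nlinarith [mul_comm (Nat.card E) (Nat.card B)]

theorem comm_of_ab {A : Subgroup E} (hA : IsElementaryAbelian 2 A) {a b : E} (ha : a ∈ A) (hb : b ∈ A) :
    a * b = b * a := by
  have h := hA.1.is_comm.comm (⟨a, ha⟩ : A) ⟨b, hb⟩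
  simpa using congrArg Subtype.val h

/-- A plus-type subgroup contains the centre and is self-centralizing. -/
theorem center_le (hE : IsExtraspecial 2 E) (m : ℕ) (hcard : Nat.card E = 2 ^ (2 * m + 1))
    (A : Subgroup E) (hA : IsElementaryAbelian 2 A) (hAc : Nat.card A = 2 ^ (m + 1)) :
    center E ≤ A := by
  by_contra hcon
  have hlt : A < A ⊔ center E := by
    refine lt_of_le_of_ne le_sup_left ?_
    intro h
    exact hcon (by rw [h]; exact le_sup_right)
  have hab : ∀ a ∈ A ⊔ center E, ∀ b ∈ A ⊔ center E, a * b = b * a := by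
    intro a ha b hb
    have h1 : A ⊔ center E ≤ centralizer ((A ⊔ center E : Subgroup E) : Set E) := by
      rw [sup_le_iff]
      constructor
      · intro x hx
        rw [Subgroup.mem_centralizer_iff]
        intro y hy
        have h2 : A ⊔ center E ≤ centralizer ({x} : Set E) := by
          rw [sup_le_iff]
          constructor
          · intro w hw
            rw [Subgroup.mem_centralizer_singleton_iff]
            exact comm_of_ab hA hw hx
          · intro w hw
            rw [Subgroup.mem_centralizer_singleton_iff]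
            exact (Subgroup.mem_center_iff.1 hw x).symm
        exact Subgroup.mem_centralizer_singleton_iff.1 (h2 hy)
      · intro x hx
        rw [Subgroup.mem_centralizer_iff]
        intro y hy
        exact (Subgroup.mem_center_iff.1 hx y)
    exact (Subgroup.mem_centralizer_iff.1 (h1 hb) a ha)
  have h1 := card_centralizer_mul hE (A ⊔ center E) le_sup_right
  have h2 : Nat.card ↥(A ⊔ center E) ≤ Nat.card (centralizer ((A ⊔ center E : Subgroup E) : Set E)) := by
    apply Subgroup.card_le_of_le
    intro x hx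
    rw [Subgroup.mem_centralizer_iff]
    intro y hy
    exact hab y hy x hx
  obtain ⟨k, hk⟩ := Subgroup.card_dvd_of_le hlt.le
  have hk2 : 2 ≤ k := by
    by_contra h3
    have h4 : k = 0 ∨ k = 1 := by omega
    rcases h4 with rfl | rfl
    · have := Nat.card_pos (α := ↥(A ⊔ center E))
      omega
    · rw [mul_one] at hk
      exact (ne_of_lt hlt) (Subgroup.eq_of_le_of_card_ge hlt.le hk.le)
  have h5 : 2 ^ (m + 2) ≤ Nat.card ↥(A ⊔ center E) := by
    rw [hk, hAc, pow_succ 2 (m + 1)]
    exact Nat.mul_le_mul_left _ hk2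
  have h6 : 2 ^ (m + 2) * 2 ^ (m + 2) ≤ 2 * Nat.card E := by
    rw [← h1]
    exact Nat.mul_le_mul (h5.trans h2) h5
  rw [hcard, ← pow_add, ← pow_succ'] at h6
  have := Nat.pow_le_pow_iff_right (a := 2) (by norm_num) |>.1 h6
  omega

theorem centralizer_eq (hE : IsExtraspecial 2 E) (m : ℕ) (hcard : Nat.card E = 2 ^ (2 * m + 1))
    (A : Subgroup E) (hA : IsElementaryAbelian 2 A) (hAc : Nat.card A = 2 ^ (m + 1)) :
    centralizer (A : Set E) = A := by
  symm
  apply Subgroup.eq_of_le_of_card_ge
  · intro x hx
    rw [Subgroup.mem_centralizer_iff]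
    intro y hy
    exact comm_of_ab hA hy hx
  · have h1 := card_centralizer_mul hE A (center_le hE m hcard A hA hAc)
    rw [hcard, hAc] at h1
    have h2 : Nat.card (centralizer (A : Set E)) * 2 ^ (m + 1) = 2 ^ (m + 1) * 2 ^ (m + 1) := by
      rw [h1]; ring
    have h3 := Nat.eq_of_mul_eq_mul_right (by positivity) h2
    rw [h3, hAc]

theorem card_sq_ne (hE : IsExtraspecial 2 E) (m : ℕ) (hcard : Nat.card E = 2 ^ (2 * m + 1))
    (A : Subgroup E) (hA : IsElementaryAbelian 2 A) (hAc : Nat.card A = 2 ^ (m + 1)) [Fintype E]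
    [DecidableEq E] :
    2 * (Finset.univ.filter (fun x : E => x ^ 2 ≠ 1)).card + 2 ^ (m + 1) = 2 ^ (2 * m + 1) := by
  classical
  have hcf : ∀ H : Subgroup E, (Finset.univ.filter (fun x : E => x ∈ H)).card = Nat.card H := by
    intro H
    rw [Nat.card_eq_fintype_card, Fintype.card_subtype]
  have hcen := centralizer_eq hE m hcard A hA hAc
  have hZA := center_le hE m hcard A hA hAc
  obtain ⟨Af, hAf⟩ : ∃ Af : Finset E, Af = Finset.univ.filter (fun x : E => x ∈ A) := ⟨_, rfl⟩
  have hAfc : Af.card = 2 ^ (m + 1) := by rw [hAf, hcf, hAc]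
  have hdc := Finset.sum_card_bipartiteAbove_eq_sum_card_bipartiteBelow
    (s := (Finset.univ : Finset E)) (t := Af) (fun x a : E => (x * a) ^ 2 ≠ 1)
  -- sum over `a`
  have ha : ∀ a ∈ Af, (Finset.bipartiteBelow (fun x a : E => (x * a) ^ 2 ≠ 1) Finset.univ a).card =
      (Finset.univ.filter (fun x : E => x ^ 2 ≠ 1)).card := by
    intro a _
    apply Finset.card_bij (fun x _ => x * a)
    · intro x hx
      simpa [Finset.bipartiteBelow] using hx
    · intro x _ y _ h
      exact mul_right_cancel h
    · intro y hy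
      refine ⟨y * a⁻¹, ?_, by group⟩
      simpa [Finset.bipartiteBelow] using hy
  have hx : ∀ x : E, 2 * (Finset.bipartiteAbove (fun x a : E => (x * a) ^ 2 ≠ 1) Af x).card +
      (if x ∈ A then 2 ^ (m + 1) else 0) = 2 ^ (m + 1) := by
    intro x
    by_cases hxA : x ∈ A
    · rw [if_pos hxA]
      have : (Finset.bipartiteAbove (fun x a : E => (x * a) ^ 2 ≠ 1) Af x) = ∅ := by
        rw [Finset.eq_empty_iff_forall_notMem]
        intro a
        simp only [Finset.bipartiteAbove, Finset.mem_filter, hAf, Finset.mem_univ, true_and, not_and,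
          not_not]
        intro haA
        exact hA.2 _ (A.mul_mem hxA haA)
      rw [this]; simp
    · rw [if_neg hxA, add_zero]
      have hnC : ¬ A ≤ centralizer ({x} : Set E) := by
        intro h
        apply hxA
        rw [← hcen, Subgroup.mem_centralizer_iff]
        intro a ha
        exact Subgroup.mem_centralizer_singleton_iff.1 (h ha)
      have hhalf := half hE A x hnC
      rw [hAc] at hhalf
      -- `(x a)^2 = [a,x] x^2`
      have hsq : ∀ a ∈ A, (x * a) ^ 2 = (a * x * a⁻¹ * x⁻¹) * x ^ 2 := by
        intro a haA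
        have h1 : a * a = 1 := by rw [← sq]; exact hA.2 a haA
        have h2 : a⁻¹ = a := inv_eq_of_mul_eq_one_left h1
        have h3 := Subgroup.mem_center_iff.1 (Cfsg.Agent.Lib.LdCl6.comm_mem_center hE a x) x
        rw [sq, sq, h2]
        calc x * a * (x * a) = x * (a * x * a) := by group
          _ = x * ((a * x * a * x⁻¹) * x) := by group
          _ = (x * (a * x * a * x⁻¹)) * x := by group
          _ = _ := by
            have h4 : x * (a * x * a⁻¹ * x⁻¹) = (a * x * a⁻¹ * x⁻¹) * x := h3
            rw [h2] at h4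
            rw [h4]; group
      have hcomm1 : ∀ a, a * x * a⁻¹ * x⁻¹ = 1 ↔ a ∈ centralizer ({x} : Set E) := by
        intro a
        rw [Subgroup.mem_centralizer_singleton_iff]
        constructor
        · intro h
          have h2 : a * x * a⁻¹ = x := mul_inv_eq_one.1 h
          exact (mul_inv_eq_iff_eq_mul.1 h2)
        · intro h
          rw [h]; group
      by_cases hxs : x ^ 2 = 1
      · -- then `(xa)^2 ≠ 1` iff `a ∉ C(x)`
        have h1 : (Finset.bipartiteAbove (fun x a : E => (x * a) ^ 2 ≠ 1) Af x).card +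
            Nat.card ↥(A ⊓ centralizer ({x} : Set E)) = 2 ^ (m + 1) := by
          rw [← hcf (A ⊓ centralizer ({x} : Set E)), ← hAfc, ← Finset.card_union_of_disjoint]
          · congr 1
            ext a
            simp only [Finset.bipartiteAbove, Finset.mem_union, Finset.mem_filter, hAf, Finset.mem_univ,
              true_and, Subgroup.mem_inf]
            constructor
            · rintro (h | h)
              · exact h.1
              · exact h.1
            · intro h
              by_cases h2 : a ∈ centralizer ({x} : Set E)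
              · exact Or.inr ⟨h, h2⟩
              · refine Or.inl ⟨h, ?_⟩
                rw [hsq a h, hxs, mul_one]
                exact fun h3 => h2 ((hcomm1 a).1 h3)
          · rw [Finset.disjoint_left]
            intro a h1 h2
            simp only [Finset.bipartiteAbove, Finset.mem_filter, hAf, Finset.mem_univ, true_and,
              Subgroup.mem_inf] at h1 h2
            apply h1.2
            rw [hsq a h1.1, hxs, mul_one]
            exact (hcomm1 a).2 h2.2
        omega
      · -- `x^2 = z` and `(xa)^2 ≠ 1` iff `a ∈ C(x)`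
        have h1 : (Finset.bipartiteAbove (fun x a : E => (x * a) ^ 2 ≠ 1) Af x) =
            Finset.univ.filter (fun a : E => a ∈ A ⊓ centralizer ({x} : Set E)) := by
          ext a
          simp only [Finset.bipartiteAbove, Finset.mem_filter, hAf, Finset.mem_univ, true_and,
            Subgroup.mem_inf]
          constructor
          · rintro ⟨h2, h3⟩
            refine ⟨h2, ?_⟩
            by_contra h4
            apply h3
            rw [hsq a h2]
            have h5 : a * x * a⁻¹ * x⁻¹ ≠ 1 := fun h => h4 ((hcomm1 a).1 h)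
            have h6 := Cfsg.Agent.Lib.LdCl6.center_unique hE (Cfsg.Agent.Lib.LdCl6.comm_mem_center hE a x) (sq_mem hE x) h5 hxs
            rw [h6, ← pow_add]
            have h7 := center_sq hE (sq_mem hE x)
            rw [← pow_mul] at h7
            simpa using h7
          · rintro ⟨h2, h3⟩
            refine ⟨h2, ?_⟩
            rw [hsq a h2, (hcomm1 a).2 h3, one_mul]
            exact hxs
        rw [h1, hcf]
        exact hhalf
  have hsum1 : 2 * ∑ x : E, (Finset.bipartiteAbove (fun x a : E => (x * a) ^ 2 ≠ 1) Af x).card +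
      2 ^ (m + 1) * 2 ^ (m + 1) = 2 ^ (2 * m + 1) * 2 ^ (m + 1) := by
    have h1 : ∑ x : E, (2 * (Finset.bipartiteAbove (fun x a : E => (x * a) ^ 2 ≠ 1) Af x).card +
      (if x ∈ A then 2 ^ (m + 1) else 0)) = ∑ x : E, 2 ^ (m + 1) := Finset.sum_congr rfl (fun x _ => hx x)
    rw [Finset.sum_add_distrib, ← Finset.mul_sum, ← Finset.sum_filter, Finset.sum_const, Finset.sum_const,
      smul_eq_mul, smul_eq_mul, hcf, hAc, Finset.card_univ, ← Nat.card_eq_fintype_card, hcard] at h1
    exact h1
  rw [hdc, Finset.sum_congr rfl ha, Finset.sum_const, smul_eq_mul, hAfc] at hsum1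
  have h2 : 2 ^ (m + 1) * (2 * (Finset.univ.filter (fun x : E => x ^ 2 ≠ 1)).card + 2 ^ (m + 1)) =
      2 ^ (m + 1) * 2 ^ (2 * m + 1) := by
    rw [mul_comm (2 ^ (m + 1)) (2 ^ (2 * m + 1)), ← hsum1]; ring
  exact Nat.eq_of_mul_eq_mul_left (by positivity) h2

theorem order_four_iff (hE : IsExtraspecial 2 E) (x : E) : orderOf x = 4 ↔ x ^ 2 ≠ 1 := by
  constructor
  · intro h h2
    have := orderOf_dvd_of_pow_eq_one h2
    rw [h] at this
    omega
  · intro h
    have h1 : x ^ 2 ^ (1 + 1) = 1 := by
      have := center_sq hE (sq_mem hE x)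
      rw [← pow_mul] at this
      simpa using this
    have h2 : ¬ x ^ 2 ^ 1 = 1 := by simpa using h
    haveI : Fact (Nat.Prime 2) := ⟨Nat.prime_two⟩
    have := orderOf_eq_prime_pow (x := x) (p := 2) (n := 1) h2 h1
    simpa using this

theorem card_order_four (m : ℕ) (hE : IsExtraspecial 2 E) (hcard : Nat.card E = 2 ^ (2 * m + 1))
    (A : Subgroup E) (hA : IsElementaryAbelian 2 A) (hAc : Nat.card A = 2 ^ (m + 1)) :
    Nat.card {x : E // orderOf x = 4} = 2 ^ (2 * m) - 2 ^ m := by
  classical
  haveI := Fintype.ofFinite E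
  have h1 := card_sq_ne hE m hcard A hA hAc
  have h2 : Nat.card {x : E // orderOf x = 4} = (Finset.univ.filter (fun x : E => x ^ 2 ≠ 1)).card := by
    rw [Nat.card_eq_fintype_card, Fintype.card_subtype]
    congr 1
    ext x
    simp only [Finset.mem_filter, Finset.mem_univ, true_and]
    exact order_four_iff hE x
  rw [h2]
  have h3 : (2 : ℕ) ^ (2 * m + 1) = 2 * 2 ^ (2 * m) := by ring
  have h4 : (2 : ℕ) ^ (m + 1) = 2 * 2 ^ m := by ring
  omega

theorem arith (m : ℕ) (h5 : (2 : ZMod 5) ^ (2 * m) - 2 ^ m = 0) : 4 ∣ m := by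
  have hm : m = 4 * (m / 4) + m % 4 := by omega
  have hr : m % 4 < 4 := Nat.mod_lt _ (by norm_num)
  have h16 : (2 : ZMod 5) ^ 4 = 1 := by decide
  have h2m : (2 : ZMod 5) ^ m = 2 ^ (m % 4) := by
    conv_lhs => rw [hm, pow_add, pow_mul, h16, one_pow, one_mul]
  have h3 : (2 : ZMod 5) ^ (2 * m) = (2 ^ (m % 4)) ^ 2 := by
    rw [mul_comm, pow_mul, h2m]
  rw [h3, h2m] at h5
  have hr4 : m % 4 = 0 := by
    generalize m % 4 = r at h5 hr
    interval_cases r
    · rfl
    · exfalso; revert h5; decide
    · exfalso; revert h5; decide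
    · exfalso; revert h5; decide
  omega

theorem four_dvd (m : ℕ) (hE : IsExtraspecial 2 E) (hcard : Nat.card E = 2 ^ (2 * m + 1))
    (A : Subgroup E) (hA : IsElementaryAbelian 2 A) (hAc : Nat.card A = 2 ^ (m + 1))
    (ω : E ≃* E) (hω : orderOf ω = 5) (hfix : ∀ x : E, ω x = x ↔ x ∈ Subgroup.center E) : 4 ∣ m := by
  classical
  haveI := Fintype.ofFinite E
  have hc := card_order_four m hE hcard A hA hAc
  haveI : Fact (Nat.Prime 5) := ⟨by norm_num⟩
  -- the restriction
  let f : Function.End {x : E // orderOf x = 4} := fun x => ⟨ω x.1, by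
    have := MulEquiv.orderOf_eq ω x.1
    rw [this]; exact x.2⟩
  have hpow : ∀ n : ℕ, ∀ x : {x : E // orderOf x = 4}, ((f ^ n) x).1 = (ω ^ n) x.1 := by
    intro n
    induction n with
    | zero => intro x; rfl
    | succ k ih =>
      intro x
      rw [pow_succ', pow_succ']
      show ω ((f ^ k) x).1 = _
      rw [ih x]
      rfl
  have hf5 : f ^ 5 ^ 1 = 1 := by
    funext x
    apply Subtype.ext
    rw [pow_one, hpow 5 x]
    have : ω ^ 5 = 1 := by rw [← hω]; exact pow_orderOf_eq_one ω
    rw [this]
    rfl
  have hmod := Equiv.Perm.card_fixedPoints_modEq hf5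
  have hempty : Fintype.card (Function.fixedPoints f) = 0 := by
    rw [Fintype.card_eq_zero_iff]
    constructor
    rintro ⟨x, hx⟩
    have h1 : ω x.1 = x.1 := congrArg Subtype.val hx
    have h2 := center_sq hE ((hfix x.1).1 h1)
    exact (order_four_iff hE x.1).1 x.2 h2
  rw [hempty, ← Nat.card_eq_fintype_card, hc] at hmod
  have h5 : ((2 ^ (2 * m) - 2 ^ m : ℕ) : ZMod 5) = 0 := by
    have := (ZMod.natCast_eq_natCast_iff _ _ 5).2 hmod
    simpa using this
  have hle : 2 ^ m ≤ 2 ^ (2 * m) := Nat.pow_le_pow_right (by norm_num) (by omega)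
  rw [Nat.cast_sub hle] at h5
  push_cast at h5
  exact arith m h5

end Cfsg.Agent.Lib.LExtraPlus
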