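import Mathlib
import Cfsg.Agent.Lib.LFstarAct
import Cfsg.Agent.Lib.H1Frat
import Cfsg.Agent.Lib.H1Fit

set_option autoImplicit false
set_option linter.unusedSectionVars false
set_option linter.unusedVariables false
set_option linter.style.haveILetI false

/-! Gorenstein-Herstein: a solvable group with a fixed-point-free automorphism of order four
has nilpotent derived group. -/

namespace Cfsg.Agent.Lib.LFour

open Subgroup Cfsg
open scoped commutatorElement

universe u

theorem avg_abstract {A K : Type*} [CommGroup A] [Group K] [Fintype K] (c : K → A →* A)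
    (hc : ∀ u w x, c (u * w) x = c u (c w x)) (a s₁ s₂ s₃ : A) (φ ψ : K → K)
    (hφ : Function.Bijective φ) (hψ : Function.Bijective ψ)
    (h : ∀ u, a * c u s₁ * c (φ u) s₂ * c (ψ u) s₃ = 1) (w : K) :
    c w (a ^ Fintype.card K) = a ^ Fintype.card K := by
  classical
  have hinv : ∀ x w, c w (∏ u, c u x) = ∏ u, c u x := by
    intro x w
    rw [map_prod]
    simp_rw [← hc]
    exact Equiv.prod_comp (Equiv.mulLeft w) (fun u => c u x)
  have key : a ^ Fintype.card K * (∏ u, c u s₁) * (∏ u, c u s₂) * (∏ u, c u s₃) = 1 := by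
    have h1 : ∏ u : K, (a * c u s₁ * c (φ u) s₂ * c (ψ u) s₃) = 1 := by simp [h]
    simp_rw [Finset.prod_mul_distrib] at h1
    rw [Finset.prod_const, Finset.card_univ, hφ.prod_comp (fun u => c u s₂),
      hψ.prod_comp (fun u => c u s₃)] at h1
    exact h1
  have e : a ^ Fintype.card K = ((∏ u, c u s₁) * (∏ u, c u s₂) * (∏ u, c u s₃))⁻¹ := by
    rw [eq_inv_iff_mul_eq_one, ← key]
    simp only [mul_assoc]
  rw [e, map_inv, map_mul, map_mul, hinv, hinv, hinv]

section
variable {G : Type u} [Group G] [Finite G]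

structure Fpf4 (σ : G ≃* G) : Prop where
  h4 : ∀ g, σ (σ (σ (σ g))) = g
  hf : ∀ g, σ g = g → g = 1

variable {σ : G ≃* G} (hF : Fpf4 σ)
include hF

theorem inj_aux {N : Subgroup G} (hN : ∀ x ∈ N, σ x ∈ N) :
    ∀ x ∈ N, ∃ g ∈ N, x = g⁻¹ * σ g := by
  have hinj : Function.Injective (fun g : N => (⟨(g : G)⁻¹ * σ g, N.mul_mem (N.inv_mem g.2) (hN _ g.2)⟩ : N)) := by
    rintro ⟨g, hg⟩ ⟨h, hh⟩ e
    have e' : g⁻¹ * σ g = h⁻¹ * σ h := congrArg Subtype.val e
    have h1 : σ (h * g⁻¹) = h * g⁻¹ := by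
      rw [map_mul, map_inv]
      have : σ g = g * (h⁻¹ * σ h) := by rw [← e']; group
      rw [this]; group
    have h2 := hF.hf _ h1
    apply Subtype.ext
    have : h = g := by
      have := mul_inv_eq_one.1 h2
      exact this
    exact this.symm
  have hsurj := Finite.surjective_of_injective hinj
  intro x hx
  obtain ⟨⟨g, hg⟩, e⟩ := hsurj ⟨x, hx⟩
  exact ⟨g, hg, (congrArg Subtype.val e).symm⟩

theorem exists_eq (x : G) : ∃ g, x = g⁻¹ * σ g := by
  obtain ⟨g, -, h⟩ := inj_aux hF (N := ⊤) (fun _ _ => mem_top _) x (mem_top _)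
  exact ⟨g, h⟩

theorem norm_eq (x : G) : x * σ x * σ (σ x) * σ (σ (σ x)) = 1 := by
  obtain ⟨g, rfl⟩ := exists_eq hF x
  simp only [map_mul, map_inv, hF.h4]
  group

theorem odd_card : ¬ 2 ∣ Nat.card G := by
  classical
  haveI : Fintype G := Fintype.ofFinite G
  haveI : Fact (Nat.Prime 2) := ⟨Nat.prime_two⟩
  let f : Function.End G := fun x => σ x
  have hf : f ^ 2 ^ 2 = 1 := by
    funext x
    show (f ^ 4) x = x
    have : f ^ 4 = f * f * f * f := by
      rw [pow_succ, pow_succ, pow_succ, pow_one]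
    rw [this]
    exact hF.h4 x
  have h1 := Equiv.Perm.card_fixedPoints_modEq hf
  have h2 : f.fixedPoints = {1} := by
    ext x
    constructor
    · intro hx
      exact hF.hf x hx
    · rintro rfl
      show σ 1 = 1
      exact map_one σ
  have h3 : Fintype.card f.fixedPoints = 1 := by
    simp only [h2]
    simp
  rw [h3] at h1
  intro hd
  rw [Nat.card_eq_fintype_card] at hd
  have h5 := (Nat.modEq_iff_dvd' (Fintype.card_pos)).1 h1.symm
  have h6 : 2 ∣ 1 := by
    have := (Nat.dvd_sub hd h5)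
    have e : Fintype.card G - (Fintype.card G - 1) = 1 := by
      have := Fintype.card_pos (α := G)
      omega
    rwa [e] at this
  omega

theorem eq_one_of_sq {x : G} (h : x * x = 1) : x = 1 := by
  have h1 : orderOf x ∣ 2 := orderOf_dvd_of_pow_eq_one (by rw [pow_two]; exact h)
  have h2 : orderOf x ∣ Nat.card G := orderOf_dvd_natCard x
  rcases (Nat.dvd_prime Nat.prime_two).1 h1 with h3 | h3
  · exact orderOf_eq_one_iff.1 h3
  · exact absurd (h3 ▸ h2) (odd_card hF)

theorem sigma_inv {x y : G} (h : σ x = y) : x = σ (σ (σ y)) := by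
  rw [← h, hF.h4]

theorem conj_trivial {V : Subgroup G} (hVn : V.Normal) (hVσ : ∀ v ∈ V, σ v ∈ V)
    (hab : ∀ a ∈ V, ∀ b ∈ V, a * b = b * a) {p : ℕ} [hp : Fact p.Prime] (hVp : ∀ v ∈ V, v ^ p = 1)
    {y : G} (hy : σ (σ y) = y⁻¹) (hc : (orderOf y).Coprime p) {v : G} (hv : v ∈ V) :
    y * v * y⁻¹ = v := by
  classical
  have hcomm : y * σ y = σ y * y := by
    have h1 := norm_eq hF y
    rw [hy, map_inv] at h1
    have h2 : y * σ y * y⁻¹ = σ y := by
      have := mul_inv_eq_one.1 h1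
      exact this
    exact mul_inv_eq_iff_eq_mul.1 h2
  set K : Subgroup G := closure ({y, σ y} : Set G) with hK
  have hyK : y ∈ K := subset_closure (by simp)
  have hsyK : σ y ∈ K := subset_closure (by simp)
  have hKcomm : ∀ a ∈ K, ∀ b ∈ K, a * b = b * a := by
    have h1 : K ≤ centralizer ({y, σ y} : Set G) := by
      rw [hK, closure_le]
      intro a ha
      rw [SetLike.mem_coe, mem_centralizer_iff]
      intro b hb
      simp only [Set.mem_insert_iff, Set.mem_singleton_iff] at ha hb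
      rcases ha with rfl | rfl <;> rcases hb with rfl | rfl
      · rfl
      · exact hcomm.symm
      · exact hcomm
      · rfl
    intro a ha b hb
    have h2 : K ≤ centralizer ({a} : Set G) := by
      rw [hK, closure_le]
      intro c hc
      rw [SetLike.mem_coe, mem_centralizer_iff]
      intro d hd
      rw [Set.mem_singleton_iff] at hd
      subst hd
      exact ((mem_centralizer_iff.1 (h1 ha)) c hc).symm
    exact (mem_centralizer_iff.1 (h2 hb)) a rfl
  have hKinv : ∀ a ∈ K, σ (σ a) = a⁻¹ := by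
    intro a ha
    induction ha using closure_induction with
    | mem x hx =>
      simp only [Set.mem_insert_iff, Set.mem_singleton_iff] at hx
      rcases hx with rfl | rfl
      · exact hy
      · rw [hy, map_inv]
    | one => simp
    | mul a b ha hb iha ihb =>
      rw [map_mul, map_mul, iha, ihb, mul_inv_rev, hKcomm _ (K.inv_mem ha) _ (K.inv_mem hb)]
    | inv a ha ih => rw [map_inv, map_inv, ih]
  have hKσ : ∀ a ∈ K, σ a ∈ K := by
    intro a ha
    induction ha using closure_induction with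
    | mem x hx =>
      simp only [Set.mem_insert_iff, Set.mem_singleton_iff] at hx
      rcases hx with rfl | rfl
      · exact hsyK
      · rw [hy]; exact K.inv_mem hyK
    | one => simp
    | mul a b ha hb iha ihb => rw [map_mul]; exact K.mul_mem iha ihb
    | inv a ha ih => rw [map_inv]; exact K.inv_mem ih
  have hKexp : ∀ a ∈ K, a ^ orderOf y = 1 := by
    intro a ha
    induction ha using closure_induction with
    | mem x hx =>
      simp only [Set.mem_insert_iff, Set.mem_singleton_iff] at hx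
      rcases hx with rfl | rfl
      · exact pow_orderOf_eq_one _
      · rw [← map_pow, pow_orderOf_eq_one, map_one]
    | one => simp
    | mul a b ha hb iha ihb =>
      have : Commute a b := hKcomm a ha b hb
      rw [this.mul_pow, iha, ihb, one_mul]
    | inv a ha ih => rw [inv_pow, ih, inv_one]
  haveI : Fintype K := Fintype.ofFinite _
  have hcopK : (Fintype.card K).Coprime p := by
    rw [Nat.coprime_comm, Nat.Prime.coprime_iff_not_dvd hp.out]
    intro hd
    obtain ⟨x, hx⟩ := exists_prime_orderOf_dvd_card p hd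
    have h1 : x ^ orderOf y = 1 := by
      apply Subtype.ext
      simpa using hKexp x x.2
    have h2 := orderOf_dvd_of_pow_eq_one h1
    rw [hx] at h2
    exact (Nat.Prime.coprime_iff_not_dvd hp.out).1 hc.symm h2
  letI : CommGroup V := { (inferInstance : Group V) with
    mul_comm := fun a b => Subtype.ext (hab a a.2 b b.2) }
  let c : K → V →* V := fun u =>
    { toFun := fun w => ⟨(u : G) * w * (u : G)⁻¹, hVn.conj_mem _ w.2 _⟩
      map_one' := by apply Subtype.ext; simp
      map_mul' := by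
        intro a b; apply Subtype.ext
        show (u : G) * ((a : G) * b) * (u : G)⁻¹ = (u : G) * a * (u : G)⁻¹ * ((u : G) * b * (u : G)⁻¹)
        group }
  have hcc : ∀ u w x, c (u * w) x = c u (c w x) := by
    intro u w x
    apply Subtype.ext
    show ((u : G) * w) * x * ((u : G) * w)⁻¹ = (u : G) * ((w : G) * x * (w : G)⁻¹) * (u : G)⁻¹
    group
  -- the two bijections
  let φ : K → K := fun u => ⟨(u : G) * σ u, K.mul_mem u.2 (hKσ _ u.2)⟩
  let ψ : K → K := fun u => ⟨σ u, hKσ _ u.2⟩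
  have hφ : Function.Bijective φ := by
    apply Finite.injective_iff_bijective.1
    rintro ⟨a, ha⟩ ⟨b, hb⟩ e
    have e' : a * σ a = b * σ b := congrArg Subtype.val e
    apply Subtype.ext
    show a = b
    set w := a * b⁻¹ with hw
    have hwK : w ∈ K := K.mul_mem ha (K.inv_mem hb)
    have h1 : w * σ w = 1 := by
      rw [hw, map_mul, map_inv]
      have h2 : a * b⁻¹ * (σ a * (σ b)⁻¹) = (a * σ a) * (b⁻¹ * (σ b)⁻¹) := by
        have := hKcomm _ (K.inv_mem hb) _ (hKσ _ ha)
        calc a * b⁻¹ * (σ a * (σ b)⁻¹) = a * (b⁻¹ * σ a) * (σ b)⁻¹ := by group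
          _ = a * (σ a * b⁻¹) * (σ b)⁻¹ := by rw [this]
          _ = _ := by group
      rw [h2, e']
      have := hKcomm _ (hb) _ (hKσ _ hb)
      have h3 : b⁻¹ * (σ b)⁻¹ = (σ b * b)⁻¹ := by group
      rw [h3, ← this]
      group
    have h2 : σ w = w⁻¹ := by
      exact eq_inv_of_mul_eq_one_right h1
    have h3 : σ (σ w) = w := by
      rw [h2, map_inv, h2, inv_inv]
    have h4 : w = w⁻¹ := by rw [← hKinv w hwK, h3]
    have h5 : w * w = 1 := by
      nth_rewrite 2 [h4]
      exact mul_inv_cancel w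
    have h6 := eq_one_of_sq hF h5
    exact mul_inv_eq_one.1 h6
  have hψ : Function.Bijective ψ := by
    apply Finite.injective_iff_bijective.1
    rintro ⟨a, ha⟩ ⟨b, hb⟩ e
    apply Subtype.ext
    exact σ.injective (congrArg Subtype.val e)
  let s : V → V := fun w => ⟨σ w, hVσ _ w.2⟩
  have hid : ∀ (x : V) (u : K), x * c u (s x) * c (φ u) (s (s x)) * c (ψ u) (s (s (s x))) = 1 := by
    rintro ⟨x, hx⟩ ⟨a, ha⟩
    apply Subtype.ext
    show x * (a * σ x * a⁻¹) * ((a * σ a) * σ (σ x) * (a * σ a)⁻¹) * (σ a * σ (σ (σ x)) * (σ a)⁻¹) = 1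
    have h0 := norm_eq hF (x * a)
    simp only [map_mul] at h0
    have h1 : σ (σ a) = a⁻¹ := hKinv a ha
    rw [h1, map_inv] at h0
    set b := σ a with hb
    have hab' : a * b = b * a := hKcomm a ha b (hKσ a ha)
    have hc' : Commute a⁻¹ b := (show Commute a b from hab').inv_left
    have e : b⁻¹ * a⁻¹ * b = a⁻¹ := by
      rw [mul_assoc, hc'.eq]; group
    set s' := σ x
    set t := σ s'
    set r := σ t
    calc x * (a * s' * a⁻¹) * ((a * b) * t * (a * b)⁻¹) * (b * r * b⁻¹)
        = x * a * s' * b * t * (b⁻¹ * a⁻¹ * b) * r * b⁻¹ := by group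
      _ = x * a * s' * b * t * a⁻¹ * r * b⁻¹ := by rw [e]
      _ = x * a * (s' * b) * (t * a⁻¹) * (r * b⁻¹) := by group
      _ = 1 := h0
  set x₀ : V := ⟨v, hv⟩ with hx₀
  have hA := avg_abstract c hcc x₀ (s x₀) (s (s x₀)) (s (s (s x₀))) φ ψ hφ hψ (hid x₀) ⟨y, hyK⟩
  rw [map_pow] at hA
  obtain ⟨m, -, hm⟩ := Nat.exists_mul_mod_eq_one_of_coprime hcopK hp.out.one_lt
  have hpow : ∀ a : V, a ^ p = 1 → a ^ (Fintype.card K * m) = a := by
    intro a ha
    rw [pow_eq_pow_mod _ ha, hm, pow_one]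
  have h1 : c ⟨y, hyK⟩ x₀ = x₀ := by
    have h2 : (c ⟨y, hyK⟩ x₀) ^ p = 1 := Subtype.ext (hVp _ (c ⟨y, hyK⟩ x₀).2)
    have h3 : x₀ ^ p = 1 := Subtype.ext (hVp _ hv)
    rw [← hpow _ h2, pow_mul, hA, ← pow_mul, hpow _ h3]
  exact congrArg Subtype.val h1

theorem lift_inverted {C : Subgroup G} (hCn : C.Normal) {z : G} (hz : σ (σ z) * z ∈ C) :
    ∃ y, σ (σ y) = y⁻¹ ∧ y * z⁻¹ ∈ C := by
  set c := z * σ (σ z) with hc
  have hcC : c ∈ C := by
    have := hCn.conj_mem _ hz z
    have e : z * (σ (σ z) * z) * z⁻¹ = c := by rw [hc]; group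
    rwa [e] at this
  have hk : ¬ 2 ∣ orderOf c := fun h => odd_card hF (h.trans (orderOf_dvd_natCard c))
  obtain ⟨r, hr⟩ : ∃ r, orderOf c = 2 * r + 1 := ⟨orderOf c / 2, by omega⟩
  have hcr : c ^ (2 * r + 1) = 1 := by rw [← hr]; exact pow_orderOf_eq_one c
  have hsc : σ (σ c) = z⁻¹ * c * z := by
    rw [hc, map_mul, map_mul, hF.h4]; group
  have hscr : σ (σ (c ^ r)) = z⁻¹ * c ^ r * z := by
    rw [map_pow, map_pow, hsc]
    have := conj_pow (a := z⁻¹) (b := c) (i := r)
    rw [inv_inv] at this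
    exact this
  refine ⟨c ^ r * z, ?_, ?_⟩
  · apply eq_inv_of_mul_eq_one_left
    rw [map_mul, map_mul, hscr]
    have e : σ (σ z) = z⁻¹ * c := by rw [hc]; group
    rw [e]
    have e2 : z⁻¹ * c ^ r * z * (z⁻¹ * c) * (c ^ r * z) = z⁻¹ * (c ^ r * c * c ^ r) * z := by group
    rw [e2]
    have e3 : c ^ r * c * c ^ r = c ^ (2 * r + 1) := by
      rw [← pow_succ, ← pow_add]; congr 1; omega
    rw [e3, hcr]; group
  · have e : c ^ r * z * z⁻¹ = c ^ r := by group
    rw [e]
    exact C.pow_mem hcC r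

end

/-- The automorphism induced on a quotient. -/
noncomputable def qAut {G : Type u} [Group G] (σ : G ≃* G) (N : Subgroup G) [N.Normal] (h : ∀ x, σ x ∈ N ↔ x ∈ N) :
    (G ⧸ N) ≃* (G ⧸ N) :=
  QuotientGroup.congr N N σ (by
    ext x
    constructor
    · rintro ⟨y, hy, rfl⟩
      exact (h y).2 hy
    · intro hx
      refine ⟨σ.symm x, ?_, by simp⟩
      rw [SetLike.mem_coe, ← h]
      simpa using hx)

theorem qAut_mk {G : Type u} [Group G] (σ : G ≃* G) (N : Subgroup G) [N.Normal] (h : ∀ x, σ x ∈ N ↔ x ∈ N) (x : G) :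
    qAut σ N h (x : G ⧸ N) = ((σ x : G) : G ⧸ N) := rfl

theorem fpf_qAut {G : Type u} [Group G] [Finite G] {σ : G ≃* G} (hF : Fpf4 σ) (N : Subgroup G) [N.Normal]
    (h : ∀ x, σ x ∈ N ↔ x ∈ N) : Fpf4 (qAut σ N h) := by
  constructor
  · intro g
    induction g using QuotientGroup.induction_on with
    | H x =>
      simp only [qAut_mk, hF.h4]
  · intro g hg
    induction g using QuotientGroup.induction_on with
    | H x =>
      rw [qAut_mk] at hg
      have h1 : x⁻¹ * σ x ∈ N := by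
        have := (QuotientGroup.eq (s := N)).1 hg.symm
        exact this
      obtain ⟨n, hn, e⟩ := inj_aux hF (N := N) (fun y hy => (h y).2 hy) _ h1
      have h2 : σ (x * n⁻¹) = x * n⁻¹ := by
        rw [map_mul, map_inv]
        have : σ x = x * (n⁻¹ * σ n) := by rw [← e]; group
        rw [this]; group
      have h3 := hF.hf _ h2
      have h4 : x = n := mul_inv_eq_one.1 h3
      rw [QuotientGroup.eq_one_iff, h4]
      exact hn

/-- The abelian conclusion. -/
theorem abelian_of {X : Type u} [Group X] [Finite X] [Group.IsSolvable X] {σ : X ≃* X} (hF : Fpf4 σ)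
    {p : ℕ} [hp : Fact p.Prime] (hO : pCore p X = ⊥) (hel : ∀ x, σ (σ x) = x⁻¹ → ∃ a : ℕ, x ^ p ^ a = 1)
    (a b : X) : a * b = b * a := by
  set F := fittingSubgroup X with hFdef
  have hFp : ∀ y ∈ F, σ (σ y) = y⁻¹ → y = 1 := by
    intro y hyF hy
    obtain ⟨a, ha⟩ := hel y hy
    have h1 : orderOf y ∣ p ^ a := orderOf_dvd_of_pow_eq_one ha
    have h2 : (orderOf y).Coprime p :=
      Cfsg.Agent.Lib.LFstarAct.orderOf_coprime_of_mem (Cfsg.Agent.Lib.H1Core.pPrimeCore_coprime p)
        (Cfsg.Agent.Lib.LFstarAct.fitting_le_pPrimeCore hO hyF)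
    exact orderOf_eq_one_iff.1 (Nat.Coprime.eq_one_of_dvd (h2.pow_right a) h1)
  have hFσ : ∀ g ∈ F, σ g ∈ F := by
    intro g hg
    have := (Cfsg.Agent.Lib.Comp.fitting_characteristic (G := X)).fixed σ
    rw [← hFdef] at this
    rw [← this] at hg
    exact hg
  have hinvt : ∀ x : X, σ (σ (x⁻¹ * σ (σ x))) = (x⁻¹ * σ (σ x))⁻¹ := by
    intro x
    rw [map_mul, map_mul, map_inv, map_inv, hF.h4]
    group
  have ht : ∀ g ∈ F, σ (σ g) = g := by
    intro g hg
    have h1 := hFp _ (F.mul_mem (F.inv_mem hg) (hFσ _ (hFσ _ hg))) (hinvt g)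
    have h2 : g⁻¹ * σ (σ g) = 1 := h1
    exact (inv_mul_eq_one.1 h2).symm
  have ht2 : ∀ x : X, σ (σ x) = x := by
    intro x
    have hc : x⁻¹ * σ (σ x) ∈ centralizer (F : Set X) := by
      rw [mem_centralizer_iff]
      intro g hg
      have hg' : g ∈ F := hg
      have h1 : x * g * x⁻¹ ∈ F := (Cfsg.Agent.Lib.H1Core.fittingSubgroup_normal X).conj_mem g hg' x
      have h2 := ht _ h1
      rw [map_mul, map_mul, map_mul, map_mul, map_inv, map_inv, ht g hg'] at h2
      have h3 : σ (σ x) * g = x * g * x⁻¹ * σ (σ x) := by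
        rw [← h2]; group
      calc g * (x⁻¹ * σ (σ x)) = x⁻¹ * (x * g * x⁻¹ * σ (σ x)) := by group
        _ = x⁻¹ * (σ (σ x) * g) := by rw [h3]
        _ = _ := by group
    have hle := Cfsg.Agent.Lib.H1Fit.centralizer_fitting_le (G := X)
    have h1 := hFp _ (hle hc) (hinvt x)
    exact (inv_mul_eq_one.1 h1).symm
  have hinv : ∀ x : X, σ x = x⁻¹ := by
    intro x
    obtain ⟨g, rfl⟩ := exists_eq hF x
    rw [map_mul, map_inv, ht2]
    group
  have h1 : σ (a * b) = (a * b)⁻¹ := hinv _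
  rw [map_mul, hinv, hinv] at h1
  have h2 : (a⁻¹ * b⁻¹)⁻¹ = ((a * b)⁻¹)⁻¹ := by rw [h1]
  simp only [mul_inv_rev, inv_inv] at h2
  exact h2.symm

/-- Fixed points in a normal elementary abelian subgroup. -/
theorem core_trivial {G : Type u} [Group G] [Finite G] {σ : G ≃* G} (hF : Fpf4 σ) {N : Subgroup G} [hNn : N.Normal]
    (hN1 : N ≠ ⊥) (hNσ : ∀ x, σ x ∈ N ↔ x ∈ N)
    (hmin : ∀ M : Subgroup G, M ≤ N → M ≠ ⊥ → M.Normal → (∀ x ∈ M, σ x ∈ M) → M = N)
    (hab : ∀ a ∈ N, ∀ b ∈ N, a * b = b * a) {p : ℕ} [hp : Fact p.Prime] (hNp : ∀ v ∈ N, v ^ p = 1)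
    (hCσ : ∀ x, σ x ∈ centralizer (N : Set G) ↔ x ∈ centralizer (N : Set G)) :
    pCore p (G ⧸ centralizer (N : Set G)) = ⊥ := by
  classical
  set C := centralizer (N : Set G) with hC
  haveI hCn : C.Normal := inferInstance
  set σ' := qAut σ C hCσ with hσ'
  set O : Subgroup G := (pCore p (G ⧸ C)).comap (QuotientGroup.mk' C) with hO
  haveI hOn : O.Normal := (Cfsg.Agent.Lib.H1Core.pCore_normal p (G ⧸ C)).comap _
  have hCO : C ≤ O := by
    intro x hx
    have : QuotientGroup.mk' C x = 1 := (QuotientGroup.eq_one_iff x).2 hx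
    rw [hO, mem_comap, this]
    exact one_mem _
  have hNC : N ≤ C := fun a ha => mem_centralizer_iff.2 (fun b hb => hab b hb a ha)
  have hOσ : ∀ x ∈ O, σ x ∈ O := by
    intro x hx
    have h1 := (Cfsg.Agent.Lib.Comp2.pCore_char (G := G ⧸ C) p).fixed σ'
    have h2 : ((x : G ⧸ C)) ∈ pCore p (G ⧸ C) := hx
    rw [← h1] at h2
    exact h2
  have hOσ' : ∀ x, σ x ∈ O → x ∈ O := by
    intro x hx
    have := hOσ _ (hOσ _ (hOσ _ hx))
    rwa [hF.h4] at this
  -- a Sylow subgroup of `O`
  obtain ⟨P⟩ : Nonempty (Sylow p O) := inferInstance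
  set C₁ : Subgroup O := C.subgroupOf O with hC₁
  haveI hC₁n : C₁.Normal := inferInstance
  have hq : IsPGroup p (O ⧸ C₁) := by
    intro g
    induction g using QuotientGroup.induction_on with
    | H x =>
      have h1 : IsPGroup p (pCore p (G ⧸ C)) := Cfsg.Agent.Lib.H1Core.pCore_isPGroup p
      obtain ⟨k, hk⟩ := h1 ⟨((x : G) : G ⧸ C), x.2⟩
      refine ⟨k, ?_⟩
      rw [← QuotientGroup.mk_pow, QuotientGroup.eq_one_iff]
      have h2 : (((x : G) : G ⧸ C)) ^ p ^ k = 1 := congrArg Subtype.val hk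
      rw [← QuotientGroup.mk_pow, QuotientGroup.eq_one_iff] at h2
      rw [hC₁, mem_subgroupOf]
      simpa using h2
  have hsup := Cfsg.Agent.Lib.PNilp.sup_eq_top_of_isPGroup_quotient P C₁ hq
  set N₁ : Subgroup O := N.subgroupOf O with hN₁
  haveI hN₁n : N₁.Normal := inferInstance
  have hN₁p : IsPGroup p N₁ := by
    intro x
    refine ⟨1, ?_⟩
    apply Subtype.ext
    apply Subtype.ext
    have := hNp (x : O) (mem_subgroupOf.1 x.2)
    simpa using this
  have hN₁P : N₁ ≤ (P : Subgroup O) := hN₁p.le_sylow_of_normal P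
  set N₂ : Subgroup (P : Subgroup O) := N₁.subgroupOf P with hN₂
  haveI hN₂n : N₂.Normal := inferInstance
  haveI hPnil : Group.IsNilpotent (P : Subgroup O) := P.2.isNilpotent
  obtain ⟨v, hv, hv1⟩ := (Subgroup.bot_or_exists_ne_one N).resolve_left hN1
  have hvO : v ∈ O := hCO (hNC hv)
  have hvP : (⟨v, hvO⟩ : O) ∈ (P : Subgroup O) := hN₁P (mem_subgroupOf.2 hv)
  have hN₂1 : N₂ ≠ ⊥ := by
    intro h
    have h1 : (⟨⟨v, hvO⟩, hvP⟩ : (P : Subgroup O)) ∈ N₂ := by
      rw [hN₂, mem_subgroupOf]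
      exact mem_subgroupOf.2 hv
    rw [h, mem_bot] at h1
    apply hv1
    have := congrArg (fun z : (P : Subgroup O) => ((z : O) : G)) h1
    simpa using this
  have hZ := Cfsg.Agent.Lib.H1Frat.normal_inf_center_ne_bot N₂ hN₂1
  obtain ⟨⟨⟨w, hwO⟩, hwP⟩, hw, hw1⟩ := (Subgroup.bot_or_exists_ne_one _).resolve_left hZ
  have hwN : w ∈ N := by
    have := (mem_inf.1 hw).1
    rw [hN₂, mem_subgroupOf, hN₁, mem_subgroupOf] at this
    exact this
  have hwZ := (mem_inf.1 hw).2
  have hw1' : w ≠ 1 := by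
    rintro rfl
    exact hw1 rfl
  have hwO' : ∀ o ∈ O, w * o = o * w := by
    have hle : (P : Subgroup O) ⊔ C₁ ≤ centralizer ({(⟨w, hwO⟩ : O)} : Set O) := by
      apply sup_le
      · intro q hq
        rw [mem_centralizer_iff]
        intro d hd
        rw [Set.mem_singleton_iff] at hd
        subst hd
        have := (mem_center_iff.1 hwZ) ⟨q, hq⟩
        exact (congrArg (fun z : (P : Subgroup O) => (z : O)) this).symm
      · intro q hq
        rw [mem_centralizer_iff]
        intro d hd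
        rw [Set.mem_singleton_iff] at hd
        subst hd
        apply Subtype.ext
        have : (q : G) ∈ C := mem_subgroupOf.1 hq
        exact ((mem_centralizer_iff.1 this) w hwN)
    rw [hsup] at hle
    intro o ho
    have h1 := hle (mem_top (⟨o, ho⟩ : O))
    have h2 := (mem_centralizer_iff.1 h1) ⟨w, hwO⟩ rfl
    exact congrArg Subtype.val h2
  -- the fixed points
  set W : Subgroup G := N ⊓ centralizer (O : Set G) with hW
  have hW1 : W ≠ ⊥ := by
    intro h
    have h1 : w ∈ W := mem_inf.2 ⟨hwN, mem_centralizer_iff.2 (fun o ho => (hwO' o ho).symm)⟩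
    rw [h, mem_bot] at h1
    exact hw1' h1
  have hWn : W.Normal := inferInstance
  have hWσ : ∀ x ∈ W, σ x ∈ W := by
    intro x hx
    refine mem_inf.2 ⟨(hNσ x).2 (mem_inf.1 hx).1, mem_centralizer_iff.2 ?_⟩
    intro o ho
    have ho' : σ (σ (σ o)) ∈ O := hOσ _ (hOσ _ (hOσ _ ho))
    have h1 := (mem_centralizer_iff.1 (mem_inf.1 hx).2) _ ho'
    have h2 := congrArg σ h1
    rw [map_mul, map_mul, hF.h4] at h2
    exact h2
  have hWN := hmin W inf_le_left hW1 hWn hWσ
  have hOC : O ≤ C := by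
    intro o ho
    rw [hC, mem_centralizer_iff]
    intro n hn
    have : n ∈ W := by rw [hWN]; exact hn
    exact ((mem_centralizer_iff.1 (mem_inf.1 this).2) o ho).symm
  rw [eq_bot_iff]
  intro z hz
  induction z using QuotientGroup.induction_on with
  | H x =>
    have : x ∈ O := hz
    rw [mem_bot, QuotientGroup.eq_one_iff]
    exact hOC this

/-- Gorenstein-Herstein. -/
theorem main : ∀ (n : ℕ) (G : Type u) [Group G] [Finite G] [Group.IsSolvable G] (σ : G ≃* G),
    Nat.card G = n → Fpf4 σ → Group.IsNilpotent (commutator G) := by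
  intro n
  induction n using Nat.strong_induction_on with
  | _ n ih =>
  intro G _ _ _ σ hn hF
  classical
  by_cases hG : Nontrivial G
  swap
  · rw [not_nontrivial_iff_subsingleton] at hG
    infer_instance
  -- a minimal invariant normal subgroup
  let S : Set (Subgroup G) := {N | N ≠ ⊥ ∧ N.Normal ∧ ∀ x ∈ N, σ x ∈ N}
  have hSne : S.Nonempty := ⟨⊤, top_ne_bot, inferInstance, fun _ _ => mem_top _⟩
  obtain ⟨N, ⟨hN1, hNn, hNσ₀⟩, hNmin⟩ := Set.exists_min_image S (fun N => Nat.card N) (Set.toFinite S) hSne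
  haveI := hNn
  have hNσ : ∀ x, σ x ∈ N ↔ x ∈ N := by
    intro x
    refine ⟨fun hx => ?_, hNσ₀ x⟩
    have := hNσ₀ _ (hNσ₀ _ (hNσ₀ _ hx))
    rwa [hF.h4] at this
  have hmin : ∀ M : Subgroup G, M ≤ N → M ≠ ⊥ → M.Normal → (∀ x ∈ M, σ x ∈ M) → M = N := by
    intro M hMN hM1 hMn hMσ
    exact Subgroup.eq_of_le_of_card_ge hMN (hNmin M ⟨hM1, hMn, hMσ⟩)
  -- abelian
  have hcomm : ⁅N, N⁆ = ⊥ := by
    by_contra hne
    have hM : ⁅N, N⁆ = N := by
      apply hmin _ (Subgroup.commutator_le_left N N) hne inferInstance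
      intro x hx
      have hmapN : N.map σ.toMonoidHom ≤ N := by
        rintro _ ⟨y, hy, rfl⟩
        exact hNσ₀ y hy
      have h : (⁅N, N⁆).map σ.toMonoidHom ≤ ⁅N, N⁆ := by
        rw [Subgroup.map_commutator]
        exact commutator_mono hmapN hmapN
      exact h (mem_map_of_mem _ hx)
    obtain ⟨k, hk⟩ := (inferInstance : Group.IsSolvable G).solvable
    have hle : ∀ m, N ≤ derivedSeries G m := by
      intro m
      induction m with
      | zero => exact le_top
      | succ m ihm =>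
        rw [derivedSeries_succ, ← hM]
        exact commutator_mono ihm ihm
    apply hN1
    rw [eq_bot_iff, ← hk]
    exact hle k
  have hab : ∀ a ∈ N, ∀ b ∈ N, a * b = b * a := by
    intro a ha b hb
    have h1 := commutator_mem_commutator ha hb
    rw [hcomm, mem_bot, commutatorElement_eq_one_iff_mul_comm] at h1
    exact h1
  have hcardN : Nat.card N ≠ 1 := fun h => hN1 (Subgroup.card_eq_one.1 h)
  obtain ⟨p, hp, hpd⟩ := Nat.exists_prime_and_dvd hcardN
  haveI : Fact p.Prime := ⟨hp⟩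
  let Ω : Subgroup G :=
    { carrier := {v | v ∈ N ∧ v ^ p = 1}
      mul_mem' := by
        rintro a b ⟨ha, ha'⟩ ⟨hb, hb'⟩
        refine ⟨N.mul_mem ha hb, ?_⟩
        have : Commute a b := hab a ha b hb
        rw [this.mul_pow, ha', hb', one_mul]
      one_mem' := ⟨one_mem _, one_pow _⟩
      inv_mem' := by
        rintro a ⟨ha, ha'⟩
        exact ⟨N.inv_mem ha, by rw [inv_pow, ha', inv_one]⟩ }
  have hΩ1 : Ω ≠ ⊥ := by
    obtain ⟨x, hx⟩ := exists_prime_orderOf_dvd_card' p hpd
    intro h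
    have h1 : (x : G) ∈ Ω := by
      refine ⟨x.2, ?_⟩
      have := pow_orderOf_eq_one x
      rw [hx] at this
      simpa using congrArg Subtype.val this
    rw [h, mem_bot] at h1
    have h2 : x = 1 := Subtype.ext h1
    rw [h2, orderOf_one] at hx
    exact hp.one_lt.ne hx
  have hΩn : Ω.Normal := by
    constructor
    rintro a ⟨ha, ha'⟩ g
    refine ⟨hNn.conj_mem a ha g, ?_⟩
    rw [conj_pow, ha']
    group
  have hΩσ : ∀ x ∈ Ω, σ x ∈ Ω := by
    rintro a ⟨ha, ha'⟩
    exact ⟨hNσ₀ a ha, by rw [← map_pow, ha', map_one]⟩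
  have hΩN := hmin Ω (fun v hv => hv.1) hΩ1 hΩn hΩσ
  have hNp : ∀ v ∈ N, v ^ p = 1 := by
    intro v hv
    rw [← hΩN] at hv
    exact hv.2
  set C := centralizer (N : Set G) with hC
  haveI hCn : C.Normal := inferInstance
  have hCσ : ∀ x, σ x ∈ C ↔ x ∈ C := by
    intro x
    constructor
    · intro hx
      rw [hC, mem_centralizer_iff]
      intro n hn
      have h1 := (mem_centralizer_iff.1 hx) (σ n) (hNσ₀ n hn)
      apply σ.injective
      rw [map_mul, map_mul]
      exact h1
    · intro hx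
      rw [hC, mem_centralizer_iff]
      intro n hn
      have hn' : σ (σ (σ n)) ∈ N := hNσ₀ _ (hNσ₀ _ (hNσ₀ _ hn))
      have h1 := (mem_centralizer_iff.1 hx) _ hn'
      have h2 := congrArg σ h1
      rw [map_mul, map_mul, hF.h4] at h2
      exact h2
  have hO := core_trivial hF hN1 hNσ hmin hab hNp hCσ
  have hFX := fpf_qAut hF C hCσ
  have hel : ∀ x, qAut σ C hCσ (qAut σ C hCσ x) = x⁻¹ → ∃ a : ℕ, x ^ p ^ a = 1 := by
    intro x hx
    induction x using QuotientGroup.induction_on with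
    | H z =>
      rw [qAut_mk, qAut_mk] at hx
      have hz : σ (σ z) * z ∈ C := by
        rw [← QuotientGroup.eq_one_iff, QuotientGroup.mk_mul, hx]
        simp
      obtain ⟨y, hy, hyz⟩ := lift_inverted hF hCn hz
      obtain ⟨a, m', hm', e⟩ := Nat.exists_eq_pow_mul_and_not_dvd (orderOf_pos y).ne' p hp.ne_one
      have hord : orderOf (y ^ p ^ a) = m' := by
        rw [orderOf_pow_of_dvd (pow_ne_zero _ hp.ne_zero) ⟨m', e⟩, e]
        exact Nat.mul_div_cancel_left _ (pow_pos hp.pos a)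
      have hcop : (orderOf (y ^ p ^ a)).Coprime p := by
        rw [hord, Nat.coprime_comm, Nat.Prime.coprime_iff_not_dvd hp]
        exact hm'
      have hw : σ (σ (y ^ p ^ a)) = (y ^ p ^ a)⁻¹ := by
        rw [map_pow, map_pow, hy, inv_pow]
      have hwC : y ^ p ^ a ∈ C := by
        rw [hC, mem_centralizer_iff]
        intro v hv
        have := conj_trivial hF hNn hNσ₀ hab hNp hw hcop hv
        exact (mul_inv_eq_iff_eq_mul.1 this).symm
      refine ⟨a, ?_⟩
      have e1 : ((z : G) : G ⧸ C) = (y : G ⧸ C) := by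
        rw [QuotientGroup.eq]
        have := hCn.conj_mem _ hyz z⁻¹
        have e2 : z⁻¹ * (y * z⁻¹) * z⁻¹⁻¹ = z⁻¹ * y := by group
        rwa [e2] at this
      rw [e1, ← QuotientGroup.mk_pow, QuotientGroup.eq_one_iff]
      exact hwC
  have habX := abelian_of hFX hO hel
  have hGC : commutator G ≤ C := by
    rw [_root_.commutator_def, Subgroup.commutator_le]
    intro a _ b _
    rw [← QuotientGroup.eq_one_iff]
    have : ((⁅a, b⁆ : G) : G ⧸ C) = ⁅(a : G ⧸ C), (b : G ⧸ C)⁆ := rfl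
    rw [this, commutatorElement_eq_one_iff_mul_comm]
    exact habX _ _
  have hlt : Nat.card (G ⧸ N) < n := by
    have h1 := Subgroup.card_eq_card_quotient_mul_card_subgroup N
    have h2 : 1 < Nat.card N := by
      have : 0 < Nat.card N := Nat.card_pos
      omega
    have h3 : 0 < Nat.card (G ⧸ N) := Nat.card_pos
    rw [← hn, h1]
    nlinarith
  haveI hnil := ih _ hlt (G ⧸ N) (qAut σ N hNσ) rfl (fpf_qAut hF N hNσ)
  let f : commutator G →* commutator (G ⧸ N) :=
    ((QuotientGroup.mk' N).comp (commutator G).subtype).codRestrict _ (by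
      rintro ⟨x, hx⟩
      show QuotientGroup.mk' N x ∈ commutator (G ⧸ N)
      have h1 : (commutator G).map (QuotientGroup.mk' N) ≤ commutator (G ⧸ N) := by
        rw [_root_.commutator_def, _root_.commutator_def, Subgroup.map_commutator]
        exact commutator_mono le_top le_top
      exact h1 (mem_map_of_mem _ hx))
  refine Subgroup.isNilpotent_of_ker_le_center f ?_
  rintro ⟨x, hx⟩ hxk
  have h1 : QuotientGroup.mk' N x = 1 := congrArg Subtype.val (MonoidHom.mem_ker.1 hxk)
  have hxN : x ∈ N := (QuotientGroup.eq_one_iff x).1 h1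
  rw [mem_center_iff]
  rintro ⟨y, hy⟩
  apply Subtype.ext
  exact ((mem_centralizer_iff.1 (hGC hy)) x hxN).symm

end Cfsg.Agent.Lib.LFour
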