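import Mathlib
import Cfsg.Agent.Lib.LFstarAct2
import Cfsg.Agent.Lib.H1Frat
import Cfsg.Agent.Lib.CopAb

set_option autoImplicit false
set_option linter.unusedSectionVars false
set_option linter.unusedVariables false
set_option linter.style.haveILetI false

/-! `p`-subgroups acting on `F*`, part 3: the structure of `[F*(H), Q]`. -/

namespace Cfsg.Agent.Lib.LFstarAct3

open Subgroup Cfsg Cfsg.Agent.Lib.LWeak Cfsg.Agent.Lib.LRes Cfsg.Agent.Lib.LPRed Cfsg.Agent.Lib.LPIrr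
  Cfsg.Agent.Lib.H1Core Cfsg.Agent.Lib.PNilp Cfsg.Agent.Lib.LLarge Cfsg.Agent.Lib.LCharUp Cfsg.Agent.Lib.LFrakM
  Cfsg.Agent.Lib.LFrakM4 Cfsg.Agent.Lib.LWCF Cfsg.Agent.Lib.LWCF2 Cfsg.Agent.Lib.Comp Cfsg.Agent.Lib.LFstarAct
  Cfsg.Agent.Lib.LFstarAct2 Cfsg.Agent.Lib.H1Cop
open scoped commutatorElement

variable {G : Type*} [Group G] [Finite G] {p : ℕ} [Fact p.Prime]

theorem three_q3 {X : Type*} [Group X] (A B C O : Subgroup X) [hO : O.Normal] (h1 : ⁅⁅A, B⁆, C⁆ ≤ O) (h2 : ⁅⁅B, C⁆, A⁆ ≤ O) :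
    ⁅⁅C, A⁆, B⁆ ≤ O := by
  set π := QuotientGroup.mk' O with hπ
  have hker : ∀ S : Subgroup X, S.map π = ⊥ ↔ S ≤ O := by
    intro S
    rw [Subgroup.map_eq_bot_iff, QuotientGroup.ker_mk']
  have h3 : ⁅⁅A.map π, B.map π⁆, C.map π⁆ = ⊥ := by
    rw [← map_commutator, ← map_commutator, hker]; exact h1
  have h4 : ⁅⁅B.map π, C.map π⁆, A.map π⁆ = ⊥ := by
    rw [← map_commutator, ← map_commutator, hker]; exact h2
  have h5 := commutator_commutator_eq_bot_of_rotate h3 h4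
  rw [← map_commutator, ← map_commutator, hker] at h5
  exact h5

theorem three_mod3 {T A B C O : Subgroup G} (hA : A ≤ T) (hB : B ≤ T) (hC : C ≤ T) (hO : O ≤ T) (hTO : T ≤ normalizer (O : Set G))
    (h1 : ⁅⁅A, B⁆, C⁆ ≤ O) (h2 : ⁅⁅B, C⁆, A⁆ ≤ O) : ⁅⁅C, A⁆, B⁆ ≤ O := by
  haveI : (O.subgroupOf T).Normal := (normal_subgroupOf_iff_le_normalizer hO).2 hTO
  have e : ∀ B : Subgroup G, B ≤ T → (B.subgroupOf T).map T.subtype = B := fun B hB => map_subgroupOf_eq_of_le hB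
  have k1 : ⁅⁅A.subgroupOf T, B.subgroupOf T⁆, C.subgroupOf T⁆ ≤ O.subgroupOf T := by
    intro x hx
    have h2 : (x : G) ∈ (⁅⁅A.subgroupOf T, B.subgroupOf T⁆, C.subgroupOf T⁆).map T.subtype := ⟨x, hx, rfl⟩
    rw [map_commutator, map_commutator, e A hA, e B hB, e C hC] at h2
    exact mem_subgroupOf.2 (h1 h2)
  have k2 : ⁅⁅B.subgroupOf T, C.subgroupOf T⁆, A.subgroupOf T⁆ ≤ O.subgroupOf T := by
    intro x hx
    have h3 : (x : G) ∈ (⁅⁅B.subgroupOf T, C.subgroupOf T⁆, A.subgroupOf T⁆).map T.subtype := ⟨x, hx, rfl⟩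
    rw [map_commutator, map_commutator, e A hA, e B hB, e C hC] at h3
    exact mem_subgroupOf.2 (h2 h3)
  have h3 := three_q3 (A.subgroupOf T) (B.subgroupOf T) (C.subgroupOf T) (O.subgroupOf T) k1 k2
  have h4 : (⁅⁅C.subgroupOf T, A.subgroupOf T⁆, B.subgroupOf T⁆).map T.subtype ≤ (O.subgroupOf T).map T.subtype :=
    map_mono h3
  rw [map_commutator, map_commutator, e A hA, e B hB, e C hC, e O hO] at h4
  exact h4

theorem mem_of_fixed_mod {A K N : Subgroup G} (hAK : A ≤ normalizer (K : Set G)) (hAN : A ≤ normalizer (N : Set G))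
    (hKN : K ≤ normalizer (N : Set G)) (hc : ∀ a ∈ K, ∀ b ∈ K, a * b * a⁻¹ * b⁻¹ ∈ N)
    (hcop : (Nat.card A).Coprime (Nat.card K)) {w : G} (hw : w ∈ ⁅K, A⁆) (hfix : ∀ a ∈ A, a * w * a⁻¹ * w⁻¹ ∈ N) : w ∈ N := by
  set T := normalizer (N : Set G) with hT
  have hNT : N ≤ T := le_normalizer
  haveI hNn : (N.subgroupOf T).Normal := (normal_subgroupOf_iff_le_normalizer hNT).2 le_rfl
  set π := QuotientGroup.mk' (N.subgroupOf T) with hπ
  set K₁ := K.subgroupOf T with hK₁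
  set A₁ := A.subgroupOf T with hA₁
  have e1 : K₁.map T.subtype = K := map_subgroupOf_eq_of_le hKN
  have e2 : A₁.map T.subtype = A := map_subgroupOf_eq_of_le hAN
  have hwT : w ∈ (⁅K₁, A₁⁆).map T.subtype := by
    rw [map_commutator, e1, e2]; exact hw
  obtain ⟨w₂, hw₂, rfl⟩ := hwT
  have hker : ∀ x : ↥T, π x = 1 ↔ (x : G) ∈ N := by
    intro x
    have : π x = 1 ↔ x ∈ N.subgroupOf T := QuotientGroup.eq_one_iff x
    rw [this, mem_subgroupOf]
  have h1 : π w₂ = 1 := by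
    refine Cfsg.Agent.Lib.CopAb.commutator_inf_fixed (A := A₁.map π) (K := K₁.map π) ?_ ?_ ?_ ?_ ?_
    · rintro _ ⟨a, ha, rfl⟩
      refine Cfsg.Agent.Lib.PGlaub.mem_normalizer_of_conj_mem (fun x hx => ?_)
      obtain ⟨k, hk, rfl⟩ := hx
      refine ⟨a * k * a⁻¹, ?_, by simp⟩
      exact mem_subgroupOf.2 ((mem_normalizer_iff.1 (hAK (mem_subgroupOf.1 ha)) _).1 (mem_subgroupOf.1 hk))
    · rintro _ ⟨a, ha, rfl⟩ _ ⟨b, hb, rfl⟩
      have h2 : π (a * b * a⁻¹ * b⁻¹) = 1 := (hker _).2 (hc _ (mem_subgroupOf.1 ha) _ (mem_subgroupOf.1 hb))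
      rw [map_mul, map_mul, map_mul, map_inv, map_inv, mul_inv_eq_one, mul_inv_eq_iff_eq_mul] at h2
      exact h2
    · have h1 : Nat.card (K₁.map π) ∣ Nat.card K := by
        have h2 : Nat.card K₁ = Nat.card K := by
          rw [← e1]; exact (Subgroup.card_map_of_injective T.subtype_injective).symm
        rw [← h2]; exact Subgroup.card_map_dvd K₁ π
      have h3 : Nat.card (A₁.map π) ∣ Nat.card A := by
        have h2 : Nat.card A₁ = Nat.card A := by
          rw [← e2]; exact (Subgroup.card_map_of_injective T.subtype_injective).symm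
        rw [← h2]; exact Subgroup.card_map_dvd A₁ π
      exact Nat.Coprime.coprime_dvd_left h3 (Nat.Coprime.coprime_dvd_right h1 hcop)
    · rw [← map_commutator]
      exact ⟨w₂, hw₂, rfl⟩
    · rintro _ ⟨a, ha, rfl⟩
      have h2 : π (a * w₂ * a⁻¹ * w₂⁻¹) = 1 := (hker _).2 (hfix _ (mem_subgroupOf.1 ha))
      rw [map_mul, map_mul, map_mul, map_inv, map_inv, mul_inv_eq_one] at h2
      exact h2
  exact (hker _).1 h1

theorem central_comm_frattini {P : Type*} [Group P] {z : P} (h1 : z ∈ commutator P) (h2 : z ∈ center P) : z ∈ frattini P := by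
  rw [Cfsg.Agent.Lib.H1Frat.mem_frattini]
  intro M hM
  by_contra hzM
  have hz1 : M ⊔ zpowers z = ⊤ := by
    refine hM.2 _ (lt_of_le_of_ne le_sup_left ?_)
    intro e
    apply hzM
    rw [e]
    exact mem_sup_right (mem_zpowers z)
  have hzn : ∀ c ∈ zpowers z, c ∈ center P := zpowers_le.2 h2
  haveI hn : (zpowers z).Normal := by
    refine ⟨fun c hc g => ?_⟩
    have h3 := (Subgroup.mem_center_iff.1 (hzn c hc)) g
    rw [h3, mul_inv_cancel_right]
    exact hc
  have hc : commutator P ≤ M := by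
    rw [commutator_def, commutator_le]
    intro x _ y _
    have hx : x ∈ M ⊔ zpowers z := by rw [hz1]; exact mem_top x
    have hy : y ∈ M ⊔ zpowers z := by rw [hz1]; exact mem_top y
    obtain ⟨m₁, hm₁, c₁, hc₁, rfl⟩ := mem_sup_of_normal_right.1 hx
    obtain ⟨m₂, hm₂, c₂, hc₂, rfl⟩ := mem_sup_of_normal_right.1 hy
    have h3 := Subgroup.mem_center_iff.1 (hzn c₁ hc₁)
    have h4 := Subgroup.mem_center_iff.1 (hzn c₂ hc₂)
    have e : ⁅m₁ * c₁, m₂ * c₂⁆ = ⁅m₁, m₂⁆ := by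
      rw [commutatorElement_def, commutatorElement_def]
      have e1 : m₁ * c₁ * (m₂ * c₂) * (m₁ * c₁)⁻¹ * (m₂ * c₂)⁻¹ = m₁ * (c₁ * m₂) * c₂ * c₁⁻¹ * m₁⁻¹ * c₂⁻¹ * m₂⁻¹ := by group
      rw [e1, ← h3 m₂]
      have e2 : m₁ * (m₂ * c₁) * c₂ * c₁⁻¹ * m₁⁻¹ * c₂⁻¹ * m₂⁻¹ = m₁ * m₂ * (c₁ * c₂ * c₁⁻¹) * m₁⁻¹ * c₂⁻¹ * m₂⁻¹ := by group
      rw [e2, ← h3 c₂]
      have e3 : m₁ * m₂ * (c₂ * c₁ * c₁⁻¹) * m₁⁻¹ * c₂⁻¹ * m₂⁻¹ = m₁ * m₂ * (c₂ * m₁⁻¹) * c₂⁻¹ * m₂⁻¹ := by group
      rw [e3, ← h4 m₁⁻¹]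
      group
    rw [e]
    exact mul_mem (mul_mem (mul_mem hm₁ hm₂) (inv_mem hm₁)) (inv_mem hm₂)
  exact hzM (hc h1)

section main
variable {X : Subgroup G}

/-- the moved components -/
def mvd (X Y : Subgroup G) : Subgroup G := sSup {K | K ∈ comps X ∧ ⁅K, Y⁆ ≠ ⊥}

theorem moved_eq (X Y : Subgroup G) : moved X Y = mvd X Y ⊔ ⁅fit X, Y⁆ := rfl

theorem mvd_normalized_Y {Y : Subgroup G} [hLn : X.Normal] : Y ≤ normalizer ((mvd X Y : Subgroup G) : Set G) := by
  intro y hy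
  exact mem_normalizer_sSup fun K hK => ⟨comps_conj y hK.1, moved_comm_conj hy hK.2⟩

theorem mvd_normalized_X {Y : Subgroup G} [hLn : X.Normal] (hF : generalizedFittingSubgroup ↥X = ⊤) :
    X ≤ normalizer ((mvd X Y : Subgroup G) : Set G) := by
  intro l hl
  refine Cfsg.Agent.Lib.PGlaub.mem_normalizer_of_conj_mem (fun x hx => ?_)
  have h1 : sSup {K | K ∈ comps X ∧ ⁅K, Y⁆ ≠ ⊥} ≤ (sSup {K | K ∈ comps X ∧ ⁅K, Y⁆ ≠ ⊥}).comap (MulAut.conj l).toMonoidHom := by
    refine sSup_le fun K hK => ?_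
    intro k hk
    have h2 : l * k * l⁻¹ ∈ K := (mem_normalizer_iff.1 (comp_normalized hF hK.1 hl) k).1 hk
    exact (le_sSup hK) (by simpa [MulAut.conj_apply] using h2)
  have h4 := h1 hx
  have h5 : l * x * l⁻¹ ∈ sSup {K | K ∈ comps X ∧ ⁅K, Y⁆ ≠ ⊥} := by simpa [MulAut.conj_apply] using h4
  exact h5

theorem mvd_le_comm {Y : Subgroup G} [hLn : X.Normal] (hF : generalizedFittingSubgroup ↥X = ⊤) (hO : pCore p ↥X = ⊥)
    (hY : IsPGroup p ↥Y) : mvd X Y ≤ ⁅⁅X, Y⁆, ⁅X, Y⁆⁆ := by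
  refine sSup_le fun K hK => ?_
  obtain ⟨h1, h2, h3⟩ := act_main (p := p) (L := X) (Y := Y) hF hO hY
  have h4 : K ≤ ⁅X, Y⁆ := by
    rw [h1]
    exact le_trans (le_sSup hK) le_sup_left
  rw [← qs_commutator_self hK.1.1.2]
  exact commutator_mono h4 h4

end main

/-- S2817 -/
theorem s2817 (hO : pCore p G = ⊥) (Q : Subgroup G) (hQ : IsPGroup p ↥Q) (F : Subgroup G)
    (hF : F ≤ generalizedFittingSubgroup G ∧ generalizedFittingSubgroup G ≤ normalizer (F : Set G) ∧ Q ≤ centralizer (F : Set G) ∧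
      ∀ N : Subgroup G, N ≤ generalizedFittingSubgroup G → generalizedFittingSubgroup G ≤ normalizer (N : Set G) →
        Q ≤ centralizer (N : Set G) → N ≤ F) :
    F = generalizedFittingSubgroup G ⊓ centralizer ((⁅generalizedFittingSubgroup G, Q⁆ ⊔ Q : Subgroup G) : Set G) ∧
    ⁅⁅generalizedFittingSubgroup G, Q⁆, Q⁆ = ⁅generalizedFittingSubgroup G, Q⁆ ∧
    ⁅generalizedFittingSubgroup G, Q⁆ ⊓ F ≤ (frattini ↥⁅generalizedFittingSubgroup G, Q⁆).map (⁅generalizedFittingSubgroup G, Q⁆).subtype ∧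
    (∀ B : Subgroup G, B ≤ normalizer (Q : Set G) → ⁅⁅generalizedFittingSubgroup G, Q⁆, B⁆ ≤ F → ⁅⁅generalizedFittingSubgroup G, Q⁆, B⁆ = ⊥) ∧
    (Nat.card ↥(centralizer ((F ⊔ ⁅generalizedFittingSubgroup G, Q⁆ : Subgroup G) : Set G))).Coprime p := by
  set X := generalizedFittingSubgroup G with hX
  haveI hXn : X.Normal := Fstar_normal
  have hFX : generalizedFittingSubgroup ↥X = ⊤ := Fstar_self_top
  have hOX : pCore p ↥X = ⊥ := pCore_subnormal_bot (Subgroup.Normal.isSubnormal hXn) hO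
  obtain ⟨hF1, hF2, hF3, hF4⟩ := hF
  obtain ⟨m1, m2, m3⟩ := act_main (p := p) (L := X) (Y := Q) hFX hOX hQ
  set L := ⁅X, Q⁆ with hL
  set A₂ := ⁅fit X, Q⁆ with hA₂
  set E₁ := mvd X Q with hE₁
  have hLE : L = E₁ ⊔ A₂ := m1
  have hQX : Q ≤ normalizer (X : Set G) := normal_le_normalizer _ _
  have hQF₀ : Q ≤ normalizer (fit X : Set G) := normal_le_normalizer _ _
  have hLX : L ≤ X := commutator_le_left hQX
  have hQL : Q ≤ normalizer (L : Set G) := commutator_normalized_right X Q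
  have hXL : X ≤ normalizer (L : Set G) := commutator_normalized_left X Q
  have hQA₂ : Q ≤ normalizer (A₂ : Set G) := commutator_normalized_right _ Q
  have hF₀A₂ : fit X ≤ normalizer (A₂ : Set G) := commutator_normalized_left _ Q
  have hA₂F₀ : A₂ ≤ fit X := commutator_le_left hQF₀
  have hA₂L : A₂ ≤ L := by rw [hLE]; exact le_sup_right
  have hE₁L : E₁ ≤ L := by rw [hLE]; exact le_sup_left
  have hcopF₀ : (Nat.card Q).Coprime (Nat.card (fit X)) := by
    obtain ⟨n, hn⟩ := IsPGroup.iff_card.1 hQ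
    rw [hn]
    exact Nat.Coprime.pow_left n (fit_coprime hOX).symm
  have hsQ : Group.IsSolvable Q := by
    haveI : Group.IsNilpotent Q := hQ.isNilpotent
    infer_instance
  have hA₂Q : ⁅A₂, Q⁆ = A₂ := commutator_commutator_eq hQF₀ hcopF₀ (Or.inl hsQ)
  -- `F` centralizes `L`
  have hFL : ⁅L, F⁆ = ⊥ := by
    refine commutator_commutator_eq_bot_of_rotate ?_ ?_
    · have h1 : ⁅Q, F⁆ = ⊥ := commutator_eq_bot_iff_le_centralizer.2 hF3
      rw [h1]; exact commutator_bot_left _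
    · have h1 : ⁅F, Q⁆ = ⊥ := by rw [commutator_comm]; exact commutator_eq_bot_iff_le_centralizer.2 hF3
      have h2 : ⁅F, X⁆ ≤ F := commutator_le_left hF2
      exact le_bot_iff.1 (le_trans (commutator_mono h2 le_rfl) (le_of_eq h1))
  have hLCF : L ≤ centralizer (F : Set G) := commutator_eq_bot_iff_le_centralizer.1 hFL
  have hFCL : F ≤ centralizer (L : Set G) := Subgroup.le_centralizer_iff.1 hLCF
  have hFCQ : F ≤ centralizer (Q : Set G) := Subgroup.le_centralizer_iff.1 hF3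
  refine ⟨?_, m2, ?_, ?_, ?_⟩
  · -- (a)
    have hcsup := Cfsg.Agent.Lib.LCD.centralizer_sup' L Q
    apply le_antisymm
    · refine le_inf hF1 ?_
      rw [hcsup]
      exact le_inf hFCL hFCQ
    · refine hF4 _ inf_le_left ?_ ?_
      · conv_lhs => rw [← m3]
        refine sup_le ?_ ?_
        · intro l hl
          refine Cfsg.Agent.Lib.PGlaub.mem_normalizer_of_conj_mem (fun x hx => ?_)
          have h1 : x ∈ centralizer (L : Set G) := by
            have h2 := hx.2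
            rw [hcsup] at h2
            exact h2.1
          have h2 : l * x = x * l := mem_centralizer_iff.1 h1 l hl
          rw [h2, mul_inv_cancel_right]
          exact hx
        · rintro c ⟨hc1, hc2⟩
          exact mem_normalizer_inf (normal_le_normalizer X ⊤ (mem_top c))
            (mem_normalizer_centralizer (mem_normalizer_sup (hXL hc1) (centralizer_le_normalizer _ hc2)))
      · rw [Subgroup.le_centralizer_iff]
        refine le_trans inf_le_right ?_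
        rw [hcsup]
        exact inf_le_right
  · -- (c)
    rintro z ⟨hzL, hzF⟩
    have hE₁L' : E₁ ≤ ⁅L, L⁆ := mvd_le_comm hFX hOX hQ
    have hXL' : X ≤ normalizer ((⁅L, L⁆ : Subgroup G) : Set G) := fun x hx => mem_normalizer_commutator (hXL hx) (hXL hx)
    have hzL' : z ∈ ⁅L, L⁆ := by
      have hz2 : z ∈ E₁ ⊔ A₂ := hLE ▸ hzL
      have hA₂E₁ : A₂ ≤ normalizer (E₁ : Set G) := le_trans (le_trans hA₂F₀ (fit_le X)) (mvd_normalized_X hFX)
      obtain ⟨e, he, a, ha, rfl⟩ := (mem_sup_iff hA₂E₁).1 hz2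
      refine mul_mem (hE₁L' he) ?_
      refine mem_of_fixed_mod (A := Q) (K := A₂) (N := ⁅L, L⁆) hQA₂ ?_ ?_ ?_ ?_ ?_ ?_
      · exact fun q hq => mem_normalizer_commutator (hQL hq) (hQL hq)
      · exact le_trans (le_trans hA₂L hLX) hXL'
      · intro a ha b hb
        have := commutator_mem_commutator (hA₂L ha) (hA₂L hb)
        rwa [commutatorElement_def] at this
      · exact Nat.Coprime.coprime_dvd_right (Subgroup.card_dvd_of_le hA₂F₀) hcopF₀
      · rw [hA₂Q]; exact ha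
      · intro q hq
        have h0 : q * (e * a) * q⁻¹ = e * a := by
          have h1 : q * (e * a) = (e * a) * q := mem_centralizer_iff.1 (hFCQ hzF) q hq
          rw [h1, mul_inv_cancel_right]
        have e1 : q * a * q⁻¹ * a⁻¹ = (q * e⁻¹ * q⁻¹) * e := by
          calc q * a * q⁻¹ * a⁻¹ = (q * e⁻¹ * q⁻¹) * (q * (e * a) * q⁻¹) * a⁻¹ := by group
            _ = (q * e⁻¹ * q⁻¹) * (e * a) * a⁻¹ := by rw [h0]
            _ = (q * e⁻¹ * q⁻¹) * e := by group
        rw [e1]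
        exact hE₁L' (mul_mem ((mem_normalizer_iff.1 (mvd_normalized_Y hq) _).1 (inv_mem he)) he)
    refine ⟨⟨z, hzL⟩, central_comm_frattini ?_ ?_, rfl⟩
    · rw [← Subgroup.map_subtype_commutator] at hzL'
      obtain ⟨w, hw, hwz⟩ := hzL'
      have : w = ⟨z, hzL⟩ := Subtype.ext hwz
      rwa [← this]
    · rw [Subgroup.mem_center_iff]
      rintro ⟨g, hg⟩
      exact Subtype.ext (mem_centralizer_iff.1 (hFCL hzF) g hg)
  · -- (d)
    intro B hBQ hLB
    have hE₁L' : E₁ ≤ ⁅L, L⁆ := mvd_le_comm hFX hOX hQ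
    have hFL2 : ⁅F, L⁆ = ⊥ := by rw [commutator_comm]; exact hFL
    have hFQ2 : ⁅F, Q⁆ = ⊥ := commutator_eq_bot_iff_le_centralizer.2 hFCQ
    have h1 : ⁅⁅L, B⁆, L⁆ = ⊥ := le_bot_iff.1 (le_trans (commutator_mono hLB le_rfl) (le_of_eq hFL2))
    have h2 : ⁅⁅B, L⁆, L⁆ = ⊥ := by rw [commutator_comm B L]; exact h1
    have h3 : ⁅⁅L, L⁆, B⁆ = ⊥ := commutator_commutator_eq_bot_of_rotate h1 h2
    have hEB : ⁅E₁, B⁆ = ⊥ := le_bot_iff.1 (le_trans (commutator_mono hE₁L' le_rfl) (le_of_eq h3))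
    set V := ⁅A₂, B⁆ with hV
    have hVF : V ≤ F := le_trans (commutator_mono hA₂L le_rfl) hLB
    have hVQ : ⁅V, Q⁆ = ⊥ := le_bot_iff.1 (le_trans (commutator_mono hVF le_rfl) (le_of_eq hFQ2))
    have hTV : A₂ ⊔ B ⊔ Q ≤ normalizer (V : Set G) := by
      refine sup_le (sup_le (commutator_normalized_left A₂ B) (commutator_normalized_right A₂ B)) ?_
      exact le_trans (Subgroup.le_centralizer_iff.1 (commutator_eq_bot_iff_le_centralizer.1 hVQ)) (centralizer_le_normalizer _)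
    have hVT : V ≤ A₂ ⊔ B ⊔ Q := by
      rw [commutator_le]
      intro a ha b hb
      have ha' : a ∈ A₂ ⊔ B ⊔ Q := mem_sup_left (mem_sup_left ha)
      have hb' : b ∈ A₂ ⊔ B ⊔ Q := mem_sup_left (mem_sup_right hb)
      rw [commutatorElement_def]
      exact mul_mem (mul_mem (mul_mem ha' hb') (inv_mem ha')) (inv_mem hb')
    have hQA : ⁅Q, A₂⁆ = A₂ := by rw [commutator_comm]; exact hA₂Q
    have h4 : ⁅⁅B, Q⁆, A₂⁆ ≤ V := by
      refine three_mod3 (T := A₂ ⊔ B ⊔ Q) (A := Q) (B := A₂) (C := B) le_sup_right (le_trans le_sup_left le_sup_left)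
        (le_trans le_sup_right le_sup_left) hVT hTV ?_ ?_
      · rw [hQA]
      · rw [hVQ]; exact bot_le
    have hQ₀ : ⁅B, Q⁆ ≤ Q := by
      rw [commutator_comm]
      exact commutator_le_left hBQ
    have hcopQ₀ : (Nat.card ↥(⁅B, Q⁆ : Subgroup G)).Coprime (Nat.card ↥A₂) :=
      Nat.Coprime.coprime_dvd_left (Subgroup.card_dvd_of_le hQ₀) (Nat.Coprime.coprime_dvd_right (Subgroup.card_dvd_of_le hA₂F₀) hcopF₀)
    have hsQ₀ : Group.IsSolvable ↥(⁅B, Q⁆ : Subgroup G) := by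
      haveI : Group.IsNilpotent ↥(⁅B, Q⁆ : Subgroup G) := (hQ.to_le hQ₀).isNilpotent
      infer_instance
    have h5 := commutator_commutator_eq (le_trans hQ₀ hQA₂) hcopQ₀ (Or.inl hsQ₀)
    have h6 : ⁅A₂, ⁅B, Q⁆⁆ ≤ F := by
      rw [commutator_comm]
      exact le_trans h4 hVF
    have h7 : ⁅⁅A₂, ⁅B, Q⁆⁆, ⁅B, Q⁆⁆ = ⊥ :=
      le_bot_iff.1 (le_trans (commutator_mono h6 hQ₀) (le_of_eq hFQ2))
    rw [h7] at h5
    have h8 : ⁅⁅Q, B⁆, A₂⁆ = ⊥ := by
      rw [commutator_comm Q B, commutator_comm]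
      exact h5.symm
    have h9 : ⁅⁅B, A₂⁆, Q⁆ = ⊥ := by
      rw [commutator_comm B A₂]
      exact hVQ
    have h10 := commutator_commutator_eq_bot_of_rotate h8 h9
    rw [hA₂Q] at h10
    rw [commutator_eq_bot_iff_le_centralizer] at hEB h10 ⊢
    rw [hLE]
    exact sup_le hEB h10
  · -- (e)
    by_contra hnc
    have hd : p ∣ Nat.card ↥(centralizer ((F ⊔ L : Subgroup G) : Set G)) := by
      by_contra h
      exact hnc (Nat.Coprime.symm ((Nat.Prime.coprime_iff_not_dvd Fact.out).2 h))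
    obtain ⟨⟨y, hy⟩, hyo⟩ := exists_prime_orderOf_dvd_card' p hd
    have hyo' : orderOf y = p := by rw [← Subgroup.orderOf_mk y hy]; exact hyo
    have hyp : y ^ p ^ 1 = 1 := by rw [pow_one, ← hyo']; exact pow_orderOf_eq_one y
    set Y := zpowers y with hY
    have hYp : IsPGroup p ↥Y := isPGroup_zpowers' ⟨1, hyp⟩
    have hYC : Y ≤ centralizer ((F ⊔ L : Subgroup G) : Set G) := zpowers_le.2 hy
    rw [Cfsg.Agent.Lib.LCD.centralizer_sup'] at hYC
    have hFCY : F ≤ centralizer (Y : Set G) := Subgroup.le_centralizer_iff.1 (le_trans hYC inf_le_left)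
    have hLCY : L ≤ centralizer (Y : Set G) := Subgroup.le_centralizer_iff.1 (le_trans hYC inf_le_right)
    have hYF₀ : Y ≤ normalizer (fit X : Set G) := normal_le_normalizer _ _
    have hcopY : (Nat.card Y).Coprime (Nat.card (fit X)) := by
      obtain ⟨n, hn⟩ := IsPGroup.iff_card.1 hYp
      rw [hn]
      exact Nat.Coprime.pow_left n (fit_coprime hOX).symm
    have hsY : Group.IsSolvable Y := by
      haveI : Group.IsNilpotent Y := hYp.isNilpotent
      infer_instance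
    have hA₂CY : A₂ ≤ centralizer (Y : Set G) := le_trans hA₂L hLCY
    have hYA₂ : ⁅Y, A₂⁆ = ⊥ := commutator_eq_bot_iff_le_centralizer.2 (Subgroup.le_centralizer_iff.1 hA₂CY)
    have hA₂Y : ⁅A₂, Y⁆ = ⊥ := commutator_eq_bot_iff_le_centralizer.2 hA₂CY
    have h1 : ⁅⁅fit X, Y⁆, A₂⁆ = ⊥ := by
      refine commutator_commutator_eq_bot_of_rotate ?_ ?_
      · rw [hYA₂]; exact commutator_bot_left _
      · exact le_bot_iff.1 (le_trans (commutator_mono (commutator_le_left hF₀A₂) le_rfl) (le_of_eq hA₂Y))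
    have hRF₀ : ⁅fit X, Y⁆ ≤ fit X := commutator_le_left hYF₀
    set C₂ := fit X ⊓ centralizer (A₂ : Set G) with hC₂
    have hRC₂ : ⁅fit X, Y⁆ ≤ C₂ := le_inf hRF₀ (commutator_eq_bot_iff_le_centralizer.1 h1)
    have hQC₂ : Q ≤ normalizer (C₂ : Set G) := fun q hq =>
      mem_normalizer_inf (hQF₀ hq) (mem_normalizer_centralizer (hQA₂ hq))
    have hcopC₂ : (Nat.card Q).Coprime (Nat.card C₂) :=
      Nat.Coprime.coprime_dvd_right (Subgroup.card_dvd_of_le inf_le_left) hcopF₀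
    have hsplit := commutator_sup_centralizer hQC₂ hcopC₂ (Or.inl hsQ)
    have hN₀F : C₂ ⊓ centralizer (Q : Set G) ≤ F := by
      refine hF4 _ (le_trans (le_trans inf_le_left inf_le_left) (fit_le X)) ?_ ?_
      · conv_lhs => rw [← comps_sup_fit hFX]
        refine sup_le (sSup_le fun K hK => ?_) ?_
        · have h2 := comp_comm_normal_solvable hK.1 (fit_normal (L := X)) (fit_solvable X)
          have h3 : K ≤ centralizer (fit X : Set G) := commutator_eq_bot_iff_le_centralizer.1 h2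
          have h4 : K ≤ centralizer ((C₂ ⊓ centralizer (Q : Set G) : Subgroup G) : Set G) :=
            le_trans h3 (centralizer_le (le_trans inf_le_left inf_le_left))
          exact le_trans h4 (centralizer_le_normalizer _)
        · conv_lhs => rw [← commutator_sup_centralizer hQF₀ hcopF₀ (Or.inl hsQ)]
          refine sup_le ?_ ?_
          · have h4 : A₂ ≤ centralizer ((C₂ ⊓ centralizer (Q : Set G) : Subgroup G) : Set G) :=
              Subgroup.le_centralizer_iff.1 (le_trans (le_trans inf_le_left inf_le_right) le_rfl)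
            exact le_trans h4 (centralizer_le_normalizer _)
          · rintro c ⟨hc1, hc2⟩
            exact mem_normalizer_inf (mem_normalizer_inf (normal_le_normalizer (fit X) ⊤ (mem_top c))
              (mem_normalizer_centralizer (hF₀A₂ hc1))) (mem_normalizer_centralizer (centralizer_le_normalizer _ hc2))
      · rw [Subgroup.le_centralizer_iff]
        exact inf_le_right
    have hC₂CY : C₂ ≤ centralizer (Y : Set G) := by
      conv_lhs => rw [← hsplit]
      refine sup_le ?_ (le_trans hN₀F hFCY)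
      exact le_trans (commutator_mono inf_le_left le_rfl) hA₂CY
    have hR : ⁅fit X, Y⁆ = ⊥ := by
      have h2 := commutator_commutator_eq hYF₀ hcopY (Or.inl hsY)
      rw [← h2]
      exact commutator_eq_bot_iff_le_centralizer.2 (le_trans hRC₂ hC₂CY)
    have hXCY : X ≤ centralizer (Y : Set G) := by
      conv_lhs => rw [← comps_sup_fit hFX]
      refine sup_le (sSup_le fun K hK => ?_) (commutator_eq_bot_iff_le_centralizer.1 hR)
      by_cases hm : ⁅K, Q⁆ = ⊥
      · refine le_trans ?_ hFCY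
        refine hF4 K hK.2 (comp_normalized hFX hK) ?_
        exact Subgroup.le_centralizer_iff.1 (commutator_eq_bot_iff_le_centralizer.1 hm)
      · refine le_trans ?_ hLCY
        rw [hLE]
        refine le_trans ?_ le_sup_left
        exact le_sSup (show K ∈ {K | K ∈ comps X ∧ ⁅K, Q⁆ ≠ ⊥} from ⟨hK, hm⟩)
    have hyX : y ∈ centralizer (X : Set G) := Subgroup.le_centralizer_iff.1 hXCY (mem_zpowers y)
    have h9 : centralizer (X : Set G) ≤ fittingSubgroup G := by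
      refine le_fittingSubgroup Subgroup.normal_centralizer ?_
      refine nilp_of_comm ?_
      rintro ⟨a, ha⟩ ⟨b, hb⟩
      have hbL : b ∈ X := centralizer_Fstar_le hb
      exact Subtype.ext ((mem_centralizer_iff.1 ha) b hbL).symm
    have h10 : y ∈ pPrimeCore p G := fitting_le_pPrimeCore hO (h9 hyX)
    have h11 : (orderOf y).Coprime p := orderOf_coprime_of_mem (pPrimeCore_coprime p) h10
    rw [hyo'] at h11
    exact (Nat.Prime.one_lt Fact.out).ne' (by simpa using h11)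

end Cfsg.Agent.Lib.LFstarAct3
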