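import Mathlib
import Cfsg.Agent.Lib.LZJF1

set_option autoImplicit false
set_option linter.unusedSectionVars false
set_option linter.unusedVariables false
set_option linter.style.haveILetI false

/-!
# Control of strong fusion in `Qd(p)`-free groups: the case `O_p(G) ≠ 1`
-/

namespace Cfsg.Agent.Lib.LZJF

open Subgroup Cfsg Cfsg.Agent.Lib.PQuad Cfsg.Agent.Lib.PNilp Cfsg.Agent.Lib.H1Core Cfsg.Agent.Lib.PZJ
open Cfsg.Agent.Lib.PQA Cfsg.Agent.Lib.LZJD
open scoped commutatorElement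

universe u

variable {p : ℕ} [Fact p.Prime] {Q : ∀ (G : Type u) [Group G], Subgroup G → Subgroup G}
variable {G : Type u} [Group G] [Finite G]

theorem Rz_comp {W U : Subgroup G} {i k : G} (hk : ∀ u ∈ U, k * u * k⁻¹ ∈ U) (h1 : Rz W U i) (h2 : Rz W U k) :
    Rz W U (i * k) := by
  obtain ⟨zi, hzi, hi⟩ := h1
  obtain ⟨zk, hzk, hk'⟩ := h2
  refine ⟨zi * zk, mul_mem hzi hzk, fun u hu => ?_⟩
  have e1 : (i * k) * u * (i * k)⁻¹ = i * (k * u * k⁻¹) * i⁻¹ := by group
  rw [e1, hi _ (hk u hu), hk' u hu]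
  group

/-- Cover: a normal subgroup of `X` acting through `p`-elements modulo `C₀` is covered by `C₀` and a Sylow part. -/
theorem cover_of_pelts {X : Type*} [Group X] [Finite X] (T : Sylow p X) (C₀ K : Subgroup X) [hC₀ : C₀.Normal]
    [hK : K.Normal] (hle : C₀ ≤ K) (hpe : ∀ h ∈ K, ∃ k : ℕ, h ^ p ^ k ∈ C₀) (h : X) (hh : h ∈ K) :
    ∃ c ∈ C₀, ∃ t ∈ (T : Subgroup X) ⊓ K, h = c * t := by
  classical
  let π := QuotientGroup.mk' C₀
  have hsurj : Function.Surjective π := QuotientGroup.mk'_surjective C₀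
  have hKn : (K.map π).Normal := Subgroup.Normal.map hK π hsurj
  have hpg : IsPGroup p (K.map π) := by
    rintro ⟨_, x, hx, rfl⟩
    obtain ⟨k, hk⟩ := hpe x hx
    refine ⟨k, Subtype.ext ?_⟩
    show π x ^ p ^ k = 1
    rw [← map_pow]
    exact (QuotientGroup.eq_one_iff _).2 hk
  let Th : Sylow p (X ⧸ C₀) := T.mapSurjective hsurj
  have h1 : K.map π ≤ (Th : Subgroup (X ⧸ C₀)) := hpg.le_sylow_of_normal Th
  obtain ⟨t, ht, he⟩ := h1 ⟨h, hh, rfl⟩
  have hc : h * t⁻¹ ∈ C₀ := by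
    rw [← QuotientGroup.eq_one_iff, QuotientGroup.mk_mul, QuotientGroup.mk_inv]
    have e : (QuotientGroup.mk t : X ⧸ C₀) = QuotientGroup.mk h := he
    rw [e, mul_inv_cancel]
  have htK : t ∈ K := by
    have e : t = (h * t⁻¹)⁻¹ * h := by group
    rw [e]
    exact mul_mem (inv_mem (hle hc)) hh
  exact ⟨_, hc, t, mem_inf.2 ⟨ht, htK⟩, by group⟩

theorem main_step {P : Sylow p G} {W : Subgroup G} (m : ℕ)
    (IH1 : ∀ B : Subgroup G, B ≤ (P : Subgroup G) → m < Nat.card B → ∀ g : G,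
      (∀ b ∈ B, g * b * g⁻¹ ∈ (P : Subgroup G)) → Rz W B g)
    (R2 : ∀ M : Subgroup G, (P : Subgroup G) ≤ M → M ≠ ⊤ → ∀ B : Subgroup G, B ≤ (P : Subgroup G) → ∀ g ∈ M,
      (∀ b ∈ B, g * b * g⁻¹ ∈ (P : Subgroup G)) → Rz W B g)
    (hS₀ : ¬ (P : Subgroup G) ⊓ centralizer (pCore p G : Set G) ≤ pCore p G)
    (hMY : ∃ M : Subgroup G, (P : Subgroup G) ≤ M ∧ M ≠ ⊤ ∧ ∀ U : Subgroup G, pCore p G ≤ U → U ≤ (P : Subgroup G) →
      ∀ n ∈ normalizer (U : Set G), ∃ z ∈ M, ∀ u ∈ U, (z * u * z⁻¹)⁻¹ * (n * u * n⁻¹) ∈ pCore p G)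
    (U : Subgroup G) (hUP : U ≤ (P : Subgroup G)) (hm : Nat.card U = m)
    (T₁ : Sylow p ↥(normalizer (U : Set G)))
    (hT₁ : (T₁ : Subgroup ↥(normalizer (U : Set G))) = (P : Subgroup G).subgroupOf (normalizer (U : Set G)))
    (n : G) (hn : n ∈ normalizer (U : Set G)) : Rz W U n := by
  classical
  set Y := pCore p G with hY
  haveI hYn : Y.Normal := pCore_normal p G
  have hYP : Y ≤ (P : Subgroup G) := pCore_le_sylow p P
  set C := centralizer (Y : Set G) with hC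
  haveI hCn : C.Normal := Cfsg.Agent.Lib.PGrp.centralizer_normal_of_normal Y
  -- extension principle
  have hext : ∀ V₁ : Subgroup G, U < V₁ → V₁ ≤ (P : Subgroup G) → ∀ k : G, (∀ v ∈ V₁, k * v * k⁻¹ ∈ V₁) →
      Rz W U k := by
    intro V₁ hlt hV₁P k hk
    have hc : m < Nat.card V₁ := by
      rw [← hm]
      exact card_lt_of_lt' hlt
    obtain ⟨z, hz, hze⟩ := IH1 V₁ hV₁P hc k (fun v hv => hV₁P (hk v hv))
    exact ⟨z, hz, fun b hb => hze b (hlt.le hb)⟩
  have hnU : ∀ u ∈ U, n * u * n⁻¹ ∈ U := fun u hu => (mem_normalizer_iff.1 hn u).1 hu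
  have hsupnorm : ∀ (V : Subgroup G) (k : G), (∀ u ∈ U, k * u * k⁻¹ ∈ U) → (∀ v ∈ V, k * v * k⁻¹ ∈ V) →
      ∀ v ∈ U ⊔ V, k * v * k⁻¹ ∈ U ⊔ V := by
    intro V k h1 h2
    have h3 : U ⊔ V ≤ (U ⊔ V).comap (MulAut.conj k).toMonoidHom := by
      refine sup_le (fun u hu => ?_) (fun v hv => ?_)
      · exact mem_sup_left (h1 u hu)
      · exact mem_sup_right (h2 v hv)
    intro v hv
    exact h3 hv
  by_cases hYU : Y ≤ U
  swap
  · have hlt : U < U ⊔ Y := by
      refine lt_of_le_of_ne le_sup_left (fun e => hYU ?_)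
      rw [e]
      exact le_sup_right
    exact hext _ hlt (sup_le hUP hYP) n (hsupnorm Y n hnU (fun v hv => hYn.conj_mem v hv n))
  by_cases hL : C ⊔ (P : Subgroup G) = ⊤
  · -- `G / C_G(Y)` is a `p`-group
    have hpelt : ∀ h : G, ∃ a : ℕ, h ^ p ^ a ∈ C := by
      intro h
      have hh : h ∈ C ⊔ (P : Subgroup G) := by rw [hL]; trivial
      obtain ⟨c, hc, t, ht, rfl⟩ := Subgroup.mem_sup_of_normal_left.1 hh
      obtain ⟨a, ha⟩ := P.2 ⟨t, ht⟩
      have ha' : t ^ p ^ a = 1 := by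
        have := congrArg Subtype.val ha
        simpa using this
      refine ⟨a, ?_⟩
      rw [← QuotientGroup.eq_one_iff, QuotientGroup.mk_pow, QuotientGroup.mk_mul]
      have e : (QuotientGroup.mk c : G ⧸ C) = 1 := (QuotientGroup.eq_one_iff c).2 hc
      rw [e, one_mul, ← QuotientGroup.mk_pow, ha', QuotientGroup.mk_one]
    obtain ⟨M, hPM, hMne, hMp⟩ := hMY
    obtain ⟨z, hzM, hz⟩ := hMp U hYU hUP n hn
    have hzU : ∀ u ∈ U, z * u * z⁻¹ ∈ U := by
      intro u hu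
      have h1 := hz u hu
      have e : z * u * z⁻¹ = (n * u * n⁻¹) * ((z * u * z⁻¹)⁻¹ * (n * u * n⁻¹))⁻¹ := by group
      rw [e]
      exact mul_mem (hnU u hu) (hYU (inv_mem h1))
    have hzN : z ∈ normalizer (U : Set G) := Cfsg.Agent.Lib.PGlaub.mem_normalizer_of_conj_mem hzU
    -- the group `K`
    let K : Subgroup ↥(normalizer (U : Set G)) :=
      { carrier := {h | ∀ u ∈ U, h.1 * u * h.1⁻¹ * u⁻¹ ∈ Y}
        mul_mem' := by
          intro a b ha hb u hu
          have h1 := hb u hu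
          have hv : b.1 * u * b.1⁻¹ ∈ U := (mem_normalizer_iff.1 b.2 u).1 hu
          have h2 := ha _ hv
          have h3 : a.1 * (b.1 * u * b.1⁻¹ * u⁻¹) * a.1⁻¹ ∈ Y := hYn.conj_mem _ h1 a.1
          have e : (a * b).1 * u * (a * b).1⁻¹ * u⁻¹ =
              (a.1 * (b.1 * u * b.1⁻¹) * a.1⁻¹ * (b.1 * u * b.1⁻¹)⁻¹) * (b.1 * u * b.1⁻¹ * u⁻¹) := by
            simp only [Subgroup.coe_mul]
            group
          rw [e]
          exact mul_mem h2 h1
        one_mem' := by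
          intro u hu
          simp
        inv_mem' := by
          intro a ha u hu
          have hv : a.1⁻¹ * u * a.1⁻¹⁻¹ ∈ U := (mem_normalizer_iff.1 (inv_mem a.2) u).1 hu
          have h1 := ha _ hv
          have e : (a⁻¹).1 * u * (a⁻¹).1⁻¹ * u⁻¹ = (a.1 * (a.1⁻¹ * u * a.1⁻¹⁻¹) * a.1⁻¹ * (a.1⁻¹ * u * a.1⁻¹⁻¹)⁻¹)⁻¹ := by
            simp only [Subgroup.coe_inv]
            group
          rw [e]
          exact inv_mem h1 }
    have hKn : K.Normal := by
      refine ⟨fun h hh x u hu => ?_⟩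
      have hv : x.1⁻¹ * u * x.1⁻¹⁻¹ ∈ U := (mem_normalizer_iff.1 (inv_mem x.2) u).1 hu
      have h1 := hh _ hv
      have h2 := hYn.conj_mem _ h1 x.1
      have e : (x * h * x⁻¹).1 * u * (x * h * x⁻¹).1⁻¹ * u⁻¹ =
          x.1 * (h.1 * (x.1⁻¹ * u * x.1⁻¹⁻¹) * h.1⁻¹ * (x.1⁻¹ * u * x.1⁻¹⁻¹)⁻¹) * x.1⁻¹ := by
        simp only [Subgroup.coe_mul, Subgroup.coe_inv]
        group
      rw [e]
      exact h2
    let C₀ : Subgroup ↥(normalizer (U : Set G)) := (centralizer (U : Set G)).subgroupOf (normalizer (U : Set G))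
    have hC₀n : C₀.Normal := by
      refine ⟨fun h hh x => ?_⟩
      show (x * h * x⁻¹).1 ∈ centralizer (U : Set G)
      rw [mem_centralizer_iff]
      intro u hu
      have hv : x.1⁻¹ * u * x.1 ∈ U := by
        have := (mem_normalizer_iff.1 (inv_mem x.2) u).1 hu
        simpa using this
      have h1 := (mem_centralizer_iff.1 (show h.1 ∈ centralizer (U : Set G) from hh)) _ hv
      have e1 : u * (x * h * x⁻¹).1 = x.1 * ((x.1⁻¹ * u * x.1) * h.1) * x.1⁻¹ := by
        simp only [Subgroup.coe_mul, Subgroup.coe_inv]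
        group
      have e2 : (x * h * x⁻¹).1 * u = x.1 * (h.1 * (x.1⁻¹ * u * x.1)) * x.1⁻¹ := by
        simp only [Subgroup.coe_mul, Subgroup.coe_inv]
        group
      rw [e1, e2, h1]
    have hC₀K : C₀ ≤ K := by
      intro h hh u hu
      have h1 := (mem_centralizer_iff.1 (show h.1 ∈ centralizer (U : Set G) from hh)) u hu
      have e : h.1 * u * h.1⁻¹ * u⁻¹ = 1 := by
        rw [← h1]
        group
      rw [e]
      exact one_mem _
    have hpe : ∀ h ∈ K, ∃ k : ℕ, h ^ p ^ k ∈ C₀ := by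
      intro h hh
      obtain ⟨a, ha⟩ := hpelt h.1
      obtain ⟨e, he⟩ := IsPGroup.iff_card.1 (pCore_isPGroup (G := G) p)
      refine ⟨a + e, ?_⟩
      set h' : ↥(normalizer (U : Set G)) := h ^ p ^ a with hh'
      have hh'K : h' ∈ K := pow_mem hh _
      have hh'C : h'.1 ∈ C := by
        rw [hh']
        simpa using ha
      have hcomm : ∀ y ∈ Y, h'.1 * y = y * h'.1 := fun y hy =>
        ((mem_centralizer_iff.1 hh'C) y hy).symm
      have hpow : ∀ (j : ℕ) (u : G), u ∈ U →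
          (h'.1 ^ j) * u * (h'.1 ^ j)⁻¹ = (h'.1 * u * h'.1⁻¹ * u⁻¹) ^ j * u := by
        intro j u hu
        induction j with
        | zero => simp
        | succ j ih =>
          have hyY : h'.1 * u * h'.1⁻¹ * u⁻¹ ∈ Y := hh'K u hu
          set y := h'.1 * u * h'.1⁻¹ * u⁻¹ with hy
          have e1 : h'.1 ^ (j + 1) * u * (h'.1 ^ (j + 1))⁻¹ = h'.1 * (h'.1 ^ j * u * (h'.1 ^ j)⁻¹) * h'.1⁻¹ := by
            rw [pow_succ']
            group
          rw [e1, ih]
          have e2 : h'.1 * (y ^ j * u) * h'.1⁻¹ = (h'.1 * y ^ j * h'.1⁻¹) * (h'.1 * u * h'.1⁻¹) := by group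
          have e3 : h'.1 * y ^ j * h'.1⁻¹ = y ^ j := by
            have : h'.1 * y ^ j = y ^ j * h'.1 := (Commute.pow_right (hcomm y hyY) j)
            rw [this]
            group
          have e4 : h'.1 * u * h'.1⁻¹ = y * u := by rw [hy]; group
          rw [e2, e3, e4, pow_succ, mul_assoc (y ^ j) y u]
      show (h ^ p ^ (a + e)).1 ∈ centralizer (U : Set G)
      have e0 : h ^ p ^ (a + e) = h' ^ p ^ e := by
        rw [hh', pow_add, pow_mul]
      rw [e0, mem_centralizer_iff]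
      intro u hu
      have h5 := hpow (p ^ e) u hu
      have hyY : h'.1 * u * h'.1⁻¹ * u⁻¹ ∈ Y := hh'K u hu
      have h6 : (h'.1 * u * h'.1⁻¹ * u⁻¹) ^ p ^ e = 1 := by
        have h7 := pow_card_eq_one' (x := (⟨_, hyY⟩ : Y))
        rw [he] at h7
        have := congrArg Subtype.val h7
        simpa using this
      rw [h6, one_mul] at h5
      have h8 : (h' ^ p ^ e).1 = h'.1 ^ p ^ e := by simp
      rw [h8]
      exact (eq_mul_inv_iff_mul_eq.1 h5.symm)
    have hcover := fun (h : ↥(normalizer (U : Set G))) (hh : h ∈ K) =>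
      @cover_of_pelts p _ ↥(normalizer (U : Set G)) _ _ T₁ C₀ K hC₀n hKn hC₀K hpe h hh
    -- the Frattini argument
    have hfrat := @Cfsg.Agent.Lib.LPIrr.normalizer_sylow_inf_sup ↥(normalizer (U : Set G)) _ _ p _ T₁ K hKn
    have hn' : (⟨n, hn⟩ : ↥(normalizer (U : Set G))) ∈ K ⊔ normalizer (((T₁ : Subgroup ↥(normalizer (U : Set G))) ⊓ K : Subgroup ↥(normalizer (U : Set G))) : Set ↥(normalizer (U : Set G))) := by
      rw [hfrat]
      trivial
    haveI := hKn
    obtain ⟨i, hi, k, hk, hik⟩ := Subgroup.mem_sup_of_normal_left.1 hn'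
    obtain ⟨c, hc, t, ht, hct⟩ := hcover i hi
    -- `k' = t * k`
    set k' : ↥(normalizer (U : Set G)) := t * k with hk'
    have hk'N : k' ∈ normalizer (((T₁ : Subgroup ↥(normalizer (U : Set G))) ⊓ K : Subgroup ↥(normalizer (U : Set G))) : Set ↥(normalizer (U : Set G))) :=
      mul_mem (le_normalizer ht) hk
    have hnck : (⟨n, hn⟩ : ↥(normalizer (U : Set G))) = c * k' := by
      rw [hk', ← hik, hct]
      group
    have hncv : n = c.1 * k'.1 := congrArg Subtype.val hnck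
    set Sg : Subgroup G := ((T₁ : Subgroup ↥(normalizer (U : Set G))) ⊓ K).map (normalizer (U : Set G)).subtype with hSg
    have hSgP : Sg ≤ (P : Subgroup G) := by
      rintro _ ⟨s, hs, rfl⟩
      have h1 := (mem_inf.1 hs).1
      rw [hT₁] at h1
      exact h1
    by_cases hSgU : Sg ≤ U
    · -- `K` acts through inner automorphisms
      have hh : (⟨z, hzN⟩ : ↥(normalizer (U : Set G)))⁻¹ * ⟨n, hn⟩ ∈ K := by
        intro u hu
        have hv : z * u * z⁻¹ ∈ U := hzU u hu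
        have h1 := hz u hu
        have h2 := hYn.conj_mem _ h1 z⁻¹
        have h3 := hYn.conj_mem _ h1 (u * z⁻¹)
        have e : ((⟨z, hzN⟩ : ↥(normalizer (U : Set G)))⁻¹ * ⟨n, hn⟩).1 * u * ((⟨z, hzN⟩ : ↥(normalizer (U : Set G)))⁻¹ * ⟨n, hn⟩).1⁻¹ * u⁻¹ =
            (u * z⁻¹) * ((z * u * z⁻¹)⁻¹ * (n * u * n⁻¹)) * (u * z⁻¹)⁻¹ := by
          simp only [Subgroup.coe_mul, Subgroup.coe_inv]
          group
        rw [e]
        exact h3
      obtain ⟨c₂, hc₂, t₂, ht₂, he₂⟩ := hcover _ hh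
      have ht₂U : t₂.1 ∈ U := hSgU ⟨t₂, ht₂, rfl⟩
      have hzt : z * t₂.1 ∈ M := mul_mem hzM (hPM (hUP ht₂U))
      have hztU : ∀ u ∈ U, (z * t₂.1) * u * (z * t₂.1)⁻¹ ∈ U := by
        intro u hu
        have e : (z * t₂.1) * u * (z * t₂.1)⁻¹ = z * (t₂.1 * u * t₂.1⁻¹) * z⁻¹ := by group
        rw [e]
        exact hzU _ (mul_mem (mul_mem ht₂U hu) (inv_mem ht₂U))
      obtain ⟨w, hw, hwe⟩ := R2 M hPM hMne U hUP (z * t₂.1) hzt (fun u hu => hUP (hztU u hu))
      refine ⟨w, hw, fun u hu => ?_⟩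
      rw [← hwe u hu]
      have h1 : n = z * (c₂.1 * t₂.1) := by
        have := congrArg Subtype.val he₂
        simp only [Subgroup.coe_mul, Subgroup.coe_inv] at this
        calc n = z * (z⁻¹ * n) := by group
          _ = z * (c₂.1 * t₂.1) := by rw [this]
      have hc₂C : c₂.1 ∈ centralizer (U : Set G) := hc₂
      have hv : t₂.1 * u * t₂.1⁻¹ ∈ U := mul_mem (mul_mem ht₂U hu) (inv_mem ht₂U)
      have h2 := (mem_centralizer_iff.1 hc₂C) _ hv
      rw [h1]
      have e : z * (c₂.1 * t₂.1) * u * (z * (c₂.1 * t₂.1))⁻¹ = z * (c₂.1 * (t₂.1 * u * t₂.1⁻¹) * c₂.1⁻¹) * z⁻¹ := by group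
      rw [e, ← h2]
      group
    · -- extend
      have hlt : U < U ⊔ Sg := by
        refine lt_of_le_of_ne le_sup_left (fun e => hSgU ?_)
        rw [e]
        exact le_sup_right
      have hkU : ∀ u ∈ U, k'.1 * u * k'.1⁻¹ ∈ U := fun u hu => (mem_normalizer_iff.1 k'.2 u).1 hu
      have hkSg : ∀ v ∈ Sg, k'.1 * v * k'.1⁻¹ ∈ Sg := by
        rintro _ ⟨s, hs, rfl⟩
        exact ⟨k' * s * k'⁻¹, (mem_normalizer_iff.1 hk'N s).1 hs, rfl⟩
      obtain ⟨w, hw, hwe⟩ := hext _ hlt (sup_le hUP hSgP) k'.1 (hsupnorm Sg k'.1 hkU hkSg)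
      refine ⟨w, hw, fun u hu => ?_⟩
      rw [← hwe u hu, hncv]
      have hcC : c.1 ∈ centralizer (U : Set G) := hc
      have h2 := (mem_centralizer_iff.1 hcC) _ (hkU u hu)
      have e : c.1 * k'.1 * u * (c.1 * k'.1)⁻¹ = c.1 * (k'.1 * u * k'.1⁻¹) * c.1⁻¹ := by group
      rw [e, ← h2]
      group
  · -- `C ⊔ P` proper
    haveI hCX : (C.subgroupOf (normalizer (U : Set G))).Normal := inferInstance
    have hfrat := @Cfsg.Agent.Lib.LPIrr.normalizer_sylow_inf_sup ↥(normalizer (U : Set G)) _ _ p _ T₁ (C.subgroupOf (normalizer (U : Set G))) hCX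
    have hn' : (⟨n, hn⟩ : ↥(normalizer (U : Set G))) ∈ C.subgroupOf (normalizer (U : Set G)) ⊔
        normalizer (((T₁ : Subgroup ↥(normalizer (U : Set G))) ⊓ C.subgroupOf (normalizer (U : Set G)) : Subgroup ↥(normalizer (U : Set G))) : Set ↥(normalizer (U : Set G))) := by
      rw [hfrat]
      trivial
    obtain ⟨i, hi, k, hk, hik⟩ := Subgroup.mem_sup_of_normal_left.1 hn'
    have hncv : n = i.1 * k.1 := (congrArg Subtype.val hik).symm
    set SU : Subgroup G := ((T₁ : Subgroup ↥(normalizer (U : Set G))) ⊓ C.subgroupOf (normalizer (U : Set G))).map (normalizer (U : Set G)).subtype with hSU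
    have hSUP : SU ≤ (P : Subgroup G) := by
      rintro _ ⟨s, hs, rfl⟩
      have h1 := (mem_inf.1 hs).1
      rw [hT₁] at h1
      exact h1
    by_cases hSUU : SU ≤ U
    · -- then `P ∩ C ≤ U`
      have hPC : (P : Subgroup G) ⊓ C ≤ U := by
        by_contra hcon
        have hPCn : U ≤ normalizer (((P : Subgroup G) ⊓ C : Subgroup G) : Set G) := by
          intro u hu
          refine Cfsg.Agent.Lib.PGlaub.mem_normalizer_of_conj_mem (fun s hs => ?_)
          exact mem_inf.2 ⟨mul_mem (mul_mem (hUP hu) hs.1) (inv_mem (hUP hu)), hCn.conj_mem _ hs.2 u⟩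
        have hlt : U < ((P : Subgroup G) ⊓ C) ⊔ U := by
          refine lt_of_le_of_ne le_sup_right (fun e => hcon ?_)
          rw [e]
          exact le_sup_left
        have hVp : IsPGroup p ↥(((P : Subgroup G) ⊓ C) ⊔ U) :=
          P.2.to_le (sup_le inf_le_left hUP)
        obtain ⟨x, hxV, hxU, hxN⟩ := exists_normalizing_elt hVp hlt
        obtain ⟨s, hs, u, hu, rfl⟩ := (Cfsg.Agent.Lib.H1Cop.mem_sup_iff hPCn).1 hxV
        have hsX : s ∈ normalizer (U : Set G) := by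
          have e : s = (s * u) * u⁻¹ := by group
          rw [e]
          exact mul_mem hxN (inv_mem (le_normalizer hu))
        have hsSU : s ∈ SU := by
          refine ⟨⟨s, hsX⟩, mem_inf.2 ⟨?_, hs.2⟩, rfl⟩
          rw [hT₁]
          exact hs.1
        apply hxU
        exact mul_mem (hSUU hsSU) hu
      have hnN : n ∈ normalizer (((P : Subgroup G) ⊓ C : Subgroup G) : Set G) := by
        refine Cfsg.Agent.Lib.PGlaub.mem_normalizer_of_conj_mem (fun s hs => ?_)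
        exact mem_inf.2 ⟨hUP (hnU s (hPC hs)), hCn.conj_mem _ hs.2 n⟩
      have hPM : (P : Subgroup G) ≤ normalizer (((P : Subgroup G) ⊓ C : Subgroup G) : Set G) := by
        intro t ht
        refine Cfsg.Agent.Lib.PGlaub.mem_normalizer_of_conj_mem (fun s hs => ?_)
        exact mem_inf.2 ⟨mul_mem (mul_mem ht hs.1) (inv_mem ht), hCn.conj_mem _ hs.2 t⟩
      have hMne : normalizer (((P : Subgroup G) ⊓ C : Subgroup G) : Set G) ≠ ⊤ := by
        intro htop
        apply hS₀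
        exact le_pCore (normalizer_eq_top_iff.1 htop) (P.2.to_le inf_le_left)
      exact R2 _ hPM hMne U hUP n hnN (fun u hu => hUP (hnU u hu))
    · -- extend by `SU`
      have hlt : U < U ⊔ SU := by
        refine lt_of_le_of_ne le_sup_left (fun e => hSUU ?_)
        rw [e]
        exact le_sup_right
      have hkU : ∀ u ∈ U, k.1 * u * k.1⁻¹ ∈ U := fun u hu => (mem_normalizer_iff.1 k.2 u).1 hu
      have hkS : ∀ v ∈ SU, k.1 * v * k.1⁻¹ ∈ SU := by
        rintro _ ⟨s, hs, rfl⟩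
        exact ⟨k * s * k⁻¹, (mem_normalizer_iff.1 hk s).1 hs, rfl⟩
      have h1 := hext _ hlt (sup_le hUP hSUP) k.1 (hsupnorm SU k.1 hkU hkS)
      have hiU : ∀ u ∈ U, i.1 * u * i.1⁻¹ ∈ U := fun u hu => (mem_normalizer_iff.1 i.2 u).1 hu
      have h2 := R2 (C ⊔ (P : Subgroup G)) le_sup_right hL U hUP i.1 (mem_sup_left hi)
        (fun u hu => hUP (hiU u hu))
      rw [hncv]
      exact Rz_comp hkU h2 h1

end Cfsg.Agent.Lib.LZJF
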