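import Mathlib
import Cfsg.Agent.Lib.LK14

set_option autoImplicit false
set_option linter.unusedSectionVars false
set_option linter.unusedVariables false
set_option linter.style.haveILetI false

/-! Functorial normal `p`-complement criteria in sections: main theorems. -/

namespace Cfsg.Agent.Lib.LK

open Subgroup Cfsg Cfsg.Agent.Lib.PQuad Cfsg.Agent.Lib.PNilp Cfsg.Agent.Lib.H1Core Cfsg.Agent.Lib.PQA
open Cfsg.Agent.Lib.PZJ Cfsg.Agent.Lib.LZJD
open scoped commutatorElement

universe u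

section Main

variable {p : ℕ} [Fact p.Prime]

theorem sylow_back {A X : Type u} [Group A] [Group X] [Finite A] [Finite X] (e : A ≃* X) (P : Sylow p X) :
    ((P.mapSurjective (f := e.symm.toMonoidHom) e.symm.surjective : Sylow p A) : Subgroup A).map e.toMonoidHom =
      (P : Subgroup X) := by
  show ((P : Subgroup X).map e.symm.toMonoidHom).map e.toMonoidHom = _
  rw [Subgroup.map_map]
  have : e.toMonoidHom.comp e.symm.toMonoidHom = MonoidHom.id X := by
    ext x
    simp
  rw [this, Subgroup.map_id]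

/-- Thompson's criterion in functor form. -/
theorem s2005_core {G : Type u} [Group G] [Finite G] (W : ∀ (Q : Type u) [Group Q], Subgroup Q)
    (hW : IsCharPFunctor.{u} p W) (S : Sylow p G)
    (hN : HasNormalPComplement p ↥(normalizer ((inducedFunctor (G := G) W (S : Subgroup G) : Subgroup G) : Set G)))
    (hloc : ∀ (K R : Subgroup G) [hR : (R.subgroupOf K).Normal],
      centralizer ((pCore p (↥K ⧸ R.subgroupOf K) : Subgroup (↥K ⧸ R.subgroupOf K)) : Set (↥K ⧸ R.subgroupOf K)) ≤ pCore p (↥K ⧸ R.subgroupOf K) →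
      HasNormalPComplement p ((↥K ⧸ R.subgroupOf K) ⧸ pCore p (↥K ⧸ R.subgroupOf K)) →
      ∀ T : Sylow p (↥K ⧸ R.subgroupOf K), IsCoatom (T : Subgroup (↥K ⧸ R.subgroupOf K)) →
        (inducedFunctor (G := (↥K ⧸ R.subgroupOf K)) W ((T : Subgroup (↥K ⧸ R.subgroupOf K)))).Normal) :
    HasNormalPComplement p G := by
  classical
  refine npc_C (daxioms_Qf hW) (secOf_closed G) ?_ G (secOf_self G) S (by rw [Qf_pos S.2]; exact hN)
  rintro X _ _ ⟨K, R, hR, ⟨e⟩⟩ P hO hi hbar hnot hyp
  haveI := hR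
  rw [Qf_pos P.2] at hyp
  obtain ⟨hc, -⟩ := step_v_struct P hi hO hbar
  set T' : Sylow p (↥K ⧸ R.subgroupOf K) := P.mapSurjective (f := e.symm.toMonoidHom) e.symm.surjective with hT'
  have hTe := sylow_back e P
  have hcA := centralizer_transfer e hc
  have hnA := npc_transfer e hbar
  have hcoat : IsCoatom (T' : Subgroup (↥K ⧸ R.subgroupOf K)) := by
    have hPne : (P : Subgroup X) ≠ ⊤ := by
      intro hP
      apply hnot
      apply npc_of_isPGroup
      intro x
      obtain ⟨k, hk⟩ := P.2 ⟨x, by rw [hP]; exact mem_top x⟩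
      exact ⟨k, congrArg Subtype.val hk⟩
    refine ⟨?_, fun b hb => ?_⟩
    · intro ht
      apply hPne
      rw [← hTe]
      show ((T' : Subgroup (↥K ⧸ R.subgroupOf K))).map e.toMonoidHom = ⊤
      rw [ht, ← MonoidHom.range_eq_map, MonoidHom.range_eq_top]
      exact e.surjective
    · by_contra hbt
      have hPb : (P : Subgroup X) ≤ b.map e.toMonoidHom := by
        rw [← hTe]
        exact map_mono hb.le
      have hne : b.map e.toMonoidHom ≠ ⊤ := by
        intro h
        apply hbt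
        rw [eq_top_iff]
        intro a _
        have : e a ∈ b.map e.toMonoidHom := by rw [h]; exact mem_top _
        obtain ⟨c, hc', he⟩ := this
        have hca : c = a := e.injective he
        exact hca ▸ hc'
      have h1 := eq_of_overgroup hi hc _ hPb hne
      rw [← hTe] at h1
      have h2 : b = (T' : Subgroup (↥K ⧸ R.subgroupOf K)) :=
        Subgroup.map_injective e.injective h1
      exact absurd h2 hb.ne'
  have hn := hloc K R hcA hnA T' hcoat
  have h3 := hat_equiv hW e (T := (T' : Subgroup (↥K ⧸ R.subgroupOf K))) T'.2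
  rw [hTe] at h3
  have hn2 : (inducedFunctor (G := X) W (P : Subgroup X)).Normal := by
    rw [h3]
    exact Subgroup.Normal.map hn _ e.surjective
  exact hnot (npc_of_normalizer_top hn2 hyp)

/-- explicit matrices -/
def mk2 {F : Type*} [Field F] (a b c d : F) (h : a * d - b * c = 1) : Matrix.SpecialLinearGroup (Fin 2) F :=
  ⟨!![a, b; c, d], by simpa [Matrix.det_fin_two] using h⟩

@[simp] theorem mk2_00 {F : Type*} [Field F] (a b c d : F) (h : a * d - b * c = 1) : mk2 a b c d h 0 0 = a := rfl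
@[simp] theorem mk2_01 {F : Type*} [Field F] (a b c d : F) (h : a * d - b * c = 1) : mk2 a b c d h 0 1 = b := rfl
@[simp] theorem mk2_10 {F : Type*} [Field F] (a b c d : F) (h : a * d - b * c = 1) : mk2 a b c d h 1 0 = c := rfl
@[simp] theorem mk2_11 {F : Type*} [Field F] (a b c d : F) (h : a * d - b * c = 1) : mk2 a b c d h 1 1 = d := rfl

open Cfsg.Agent.Lib.LDick in
/-- `SL₂(p)` is not involved in a group of the minimal-counterexample structure. -/
theorem not_involves_sl2_of_struct {G : Type u} [Group G] [Finite G] (hp : p ≠ 2) (K₀ : Subgroup G)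
    (hab : ∀ x ∈ K₀, ∀ y ∈ K₀, ⁅x, y⁆ ∈ pCore p G) (hGK : ∀ g : G, ∃ n : ℕ, g ^ (p ^ n) ∈ K₀) :
    ¬ Involves (SL2 (ZMod p)) G := by
  rintro ⟨A, B, hB, ⟨e⟩⟩
  haveI := hB
  let ψ : ↥A →* SL2 (ZMod p) := e.toMonoidHom.comp (QuotientGroup.mk' (B.subgroupOf A))
  have hψ : Function.Surjective ψ := e.surjective.comp (QuotientGroup.mk'_surjective _)
  have hp4 : ∀ n : ℕ, Nat.Coprime (p ^ n) 4 := by
    intro n
    refine Nat.Coprime.pow_left n ?_
    have h2 : Nat.Coprime p 2 := by
      rw [Nat.coprime_primes (Fact.out : p.Prime) Nat.prime_two]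
      exact hp
    exact Nat.Coprime.pow_right 2 h2
  have hlift : ∀ w : SL2 (ZMod p), w ^ 4 = 1 → ∃ a : ↥A, (a : G) ∈ K₀ ∧ ψ a = w := by
    intro w hw
    obtain ⟨a, rfl⟩ := hψ w
    obtain ⟨n, hn⟩ := hGK (a : G)
    have hd : orderOf (ψ a) ∣ 4 := orderOf_dvd_of_pow_eq_one hw
    have hco : Nat.Coprime (p ^ n) (orderOf (ψ a)) := Nat.Coprime.coprime_dvd_right hd (hp4 n)
    obtain ⟨m, hm⟩ := exists_pow_eq_self_of_coprime hco
    refine ⟨(a ^ (p ^ n)) ^ m, ?_, ?_⟩
    · have : (((a ^ (p ^ n)) ^ m : ↥A) : G) = ((a : G) ^ (p ^ n)) ^ m := by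
        simp
      rw [this]
      exact pow_mem hn m
    · rw [map_pow, map_pow]
      exact hm
  let w : SL2 (ZMod p) := mk2 0 (-1) 1 0 (by ring)
  let w' : SL2 (ZMod p) := mk2 2 (-5) 1 (-2) (by ring)
  let c₀ : SL2 (ZMod p) := mk2 5 (-12) (-12) 29 (by ring)
  let z : SL2 (ZMod p) := mk2 (-1) 0 0 (-1) (by ring)
  have hzz : z * z = 1 := by
    apply sl_ext <;> simp [mul_00, mul_01, mul_10, mul_11, z]
  have hww : w * w = z := by
    apply sl_ext <;> simp [mul_00, mul_01, mul_10, mul_11, w, z]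
  have hww' : w' * w' = z := by
    apply sl_ext <;> simp [mul_00, mul_01, mul_10, mul_11, w', z] <;> ring
  have hw4 : w ^ 4 = 1 := by
    have : w ^ 4 = (w * w) * (w * w) := by
      simp only [pow_succ, pow_zero, one_mul, mul_assoc]
    rw [this, hww, hzz]
  have hw'4 : w' ^ 4 = 1 := by
    have : w' ^ 4 = (w' * w') * (w' * w') := by
      simp only [pow_succ, pow_zero, one_mul, mul_assoc]
    rw [this, hww', hzz]
  have hcw : w * w' = c₀ * (w' * w) := by
    apply sl_ext <;> simp [mul_00, mul_01, mul_10, mul_11, w, w', c₀] <;> ring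
  have hcomm : ⁅w, w'⁆ = c₀ := by
    rw [commutatorElement_def, hcw]
    group
  obtain ⟨a, haK, ha⟩ := hlift w hw4
  obtain ⟨b, hbK, hb⟩ := hlift w' hw'4
  have h1 : ⁅(a : G), (b : G)⁆ ∈ pCore p G := hab _ haK _ hbK
  obtain ⟨k, hk⟩ := (pCore_isPGroup (G := G) p) ⟨_, h1⟩
  have hk' : ⁅(a : G), (b : G)⁆ ^ (p ^ k) = 1 := congrArg Subtype.val hk
  have hk2 : ⁅a, b⁆ ^ (p ^ k) = 1 := by
    apply Subtype.ext
    exact hk'
  have hk3 : c₀ ^ (p ^ k) = 1 := by
    have := congrArg ψ hk2
    rw [map_pow, map_commutatorElement, ha, hb, hcomm, map_one] at this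
    exact this
  have htr := tr_of_pelt p c₀ k hk3
  have h32 : ((32 : ℕ) : ZMod p) = 0 := by
    have : tr c₀ = 34 := by
      simp only [tr, c₀]
      show (5 : ZMod p) + 29 = 34
      norm_num
    rw [this] at htr
    push_cast
    linear_combination htr
  rw [ZMod.natCast_eq_zero_iff] at h32
  have hp2 : p ∣ 2 ^ 5 := by
    simpa using h32
  exact hp ((Nat.prime_dvd_prime_iff_eq (Fact.out : p.Prime) Nat.prime_two).1
    ((Fact.out : p.Prime).dvd_of_dvd_pow hp2))

/-- Glauberman's criterion (control of strong fusion in stable sections implies a normal complement). -/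
theorem s1990_core {G : Type u} [Group G] [Finite G] (hp : p ≠ 2) (W : ∀ (Q : Type u) [Group Q], Subgroup Q)
    (hW : IsCharPFunctor.{u} p W) (S : Sylow p G)
    (hN : HasNormalPComplement p ↥(normalizer ((inducedFunctor (G := G) W (S : Subgroup G) : Subgroup G) : Set G)))
    (hctl : ∀ (K R : Subgroup G) [hR : (R.subgroupOf K).Normal], (∀ (K' R' : Subgroup (↥K ⧸ R.subgroupOf K)) [hR' : (R'.subgroupOf K').Normal], IsNormalizerPStable p (↥K' ⧸ R'.subgroupOf K')) → ∀ T : Sylow p (↥K ⧸ R.subgroupOf K), ControlsStrongFusion p (inducedFunctor (G := (↥K ⧸ R.subgroupOf K)) W (T : Subgroup (↥K ⧸ R.subgroupOf K)))) :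
    HasNormalPComplement p G := by
  classical
  refine npc_C (daxioms_Qf hW) (secOf_closed G) ?_ G (secOf_self G) S (by rw [Qf_pos S.2]; exact hN)
  rintro X _ _ ⟨K, R, hR, ⟨e⟩⟩ P hO hi hbar hnot hyp
  haveI := hR
  rw [Qf_pos P.2] at hyp
  obtain ⟨hc, K₀, hK₀n, hDK, hab, hKp, hGK⟩ := step_v_struct P hi hO hbar
  have hinv : ¬ Involves ↥(qd p) X := fun h =>
    not_involves_sl2_of_struct hp K₀ hab hGK (Cfsg.Agent.Lib.LQd.involves_sl2_of_qd h)
  have hst : ∀ (K' R' : Subgroup (↥K ⧸ R.subgroupOf K)) [hR' : (R'.subgroupOf K').Normal],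
      IsNormalizerPStable p (↥K' ⧸ R'.subgroupOf K') := by
    intro K' R' hR'
    refine Cfsg.Agent.Lib.LQd.npstable_of_not_involves hp fun h => hinv ?_
    have h1 := Cfsg.Agent.Lib.LQd.involves_of_surj K' (QuotientGroup.mk' _) (QuotientGroup.mk'_surjective _) h
    exact Cfsg.Agent.Lib.LQd.involves_of_surj (⊤ : Subgroup X)
      (e.symm.toMonoidHom.comp (⊤ : Subgroup X).subtype)
      (fun y => ⟨⟨e y, mem_top _⟩, by simp⟩) h1
  set T' : Sylow p (↥K ⧸ R.subgroupOf K) := P.mapSurjective (f := e.symm.toMonoidHom) e.symm.surjective with hT'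
  have hTe := sylow_back e P
  have h3 := hat_equiv hW e (T := (T' : Subgroup (↥K ⧸ R.subgroupOf K))) T'.2
  rw [hTe] at h3
  have hct := controls_transport e (hctl K R hst T')
  rw [← h3] at hct
  by_cases hn2 : (inducedFunctor (G := X) W (P : Subgroup X)).Normal
  · exact hnot (npc_of_normalizer_top hn2 hyp)
  have hNP : (P : Subgroup X) ≤ normalizer ((inducedFunctor (G := X) W (P : Subgroup X) : Subgroup X) : Set X) := by
    have := (daxioms_Qf (p := p) hW).normalizer_le (P : Subgroup X)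
    rw [Qf_pos P.2] at this
    exact Subgroup.le_normalizer.trans this
  have hNne : normalizer ((inducedFunctor (G := X) W (P : Subgroup X) : Subgroup X) : Set X) ≠ ⊤ :=
    fun h => hn2 (normalizer_eq_top_iff.1 h)
  have hNe := eq_of_overgroup hi hc _ hNP hNne
  obtain ⟨T₁, hUT, hT₁⟩ := hct
  -- a nontrivial `p'`-element
  have hex : ∃ y : X, y ≠ 1 ∧ (orderOf y).Coprime p := by
    by_contra hcon
    push Not at hcon
    apply hnot
    apply npc_of_isPGroup
    intro g
    obtain ⟨a, ha⟩ := exists_coprime_pow (p := p) g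
    by_contra hg
    push Not at hg
    exact hcon _ (hg a) ha
  obtain ⟨y, hy1, hyc⟩ := hex
  haveI hDn : (pCore p X).Normal := pCore_normal p X
  have hOT : (pCore p X : Set X) ⊆ (T₁ : Subgroup X) := pCore_le_sylow p T₁
  obtain ⟨x, hx, hxe⟩ := (hT₁ _ hOT).2 y (by
    rintro _ ⟨a, ha, rfl⟩
    exact hOT (hDn.conj_mem a ha y))
  have hxP : x ∈ (P : Subgroup X) := by
    rw [← hNe]
    exact hx
  have hC : x⁻¹ * y ∈ centralizer (pCore p X : Set X) := by
    rw [mem_centralizer_iff]
    intro a ha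
    have h1 := hxe a ha
    have h2 : y * a = x * a * x⁻¹ * y := by
      rw [← h1]
      group
    calc a * (x⁻¹ * y) = x⁻¹ * (x * a * x⁻¹ * y) := by group
      _ = x⁻¹ * (y * a) := by rw [h2]
      _ = x⁻¹ * y * a := by group
  have hyP : y ∈ (P : Subgroup X) := by
    have h1 := pCore_le_sylow p P (hc hC)
    have e2 : y = x * (x⁻¹ * y) := by group
    rw [e2]
    exact mul_mem hxP h1
  obtain ⟨k, hk⟩ := P.2 ⟨y, hyP⟩
  have hk' : y ^ (p ^ k) = 1 := congrArg Subtype.val hk
  exact hy1 (eq_one_of_pow_of_coprime hyc (pow_orderOf_eq_one y) hk')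

end Main

end Cfsg.Agent.Lib.LK
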