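import Mathlib
import Cfsg.Agent.Lib.LK15

set_option autoImplicit false
set_option linter.unusedSectionVars false
set_option linter.unusedVariables false
set_option linter.style.haveILetI false

/-! From `Qd(p)` in a section to `SL₂(p)` in a `p`-local subgroup. -/

namespace Cfsg.Agent.Lib.LK

open Subgroup Cfsg Cfsg.Agent.Lib.PQuad Cfsg.Agent.Lib.PNilp Cfsg.Agent.Lib.H1Core Cfsg.Agent.Lib.PQA
open Cfsg.Agent.Lib.PZJ Cfsg.Agent.Lib.LZJD
open scoped commutatorElement

section L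

variable {p : ℕ} [Fact p.Prime]

open Cfsg.Agent.Lib.LDick Cfsg.Agent.Lib.LQd in
/-- If `Qd(p)` is involved in `G`, then `SL₂(p)` is involved in a `p`-local subgroup. -/
theorem exists_local_sl2 {G : Type*} [Group G] [Finite G] (h : Involves ↥(qd p) G) :
    ∃ P : Subgroup G, IsPGroup p ↥P ∧ P ≠ ⊥ ∧
      Involves (SL2 (ZMod p)) ↥(normalizer ((P : Subgroup G) : Set G)) := by
  classical
  obtain ⟨A, B, hB, ⟨e⟩⟩ := h
  haveI := hB
  obtain ⟨lin, d, hlin⟩ := exists_lin e
  have hsurj : Function.Surjective lin := by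
    intro t
    refine ⟨e.symm ⟨aff t 0, aff_mem_qd t 0⟩, ?_⟩
    have h2 := hlin (e.symm ⟨aff t 0, aff_mem_qd t 0⟩)
    rw [MulEquiv.apply_symm_apply] at h2
    exact (aff_inj h2).1.symm
  let ψ : ↥A →* SL2 (ZMod p) := lin.comp (QuotientGroup.mk' (B.subgroupOf A))
  have hψ : Function.Surjective ψ := hsurj.comp (QuotientGroup.mk'_surjective _)
  set K₁ : Subgroup ↥A := ψ.ker with hK₁
  haveI hK₁n : K₁.Normal := inferInstance
  obtain ⟨P₁⟩ : Nonempty (Sylow p ↥K₁) := inferInstance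
  set PA : Subgroup ↥A := (P₁ : Subgroup ↥K₁).map K₁.subtype with hPA
  have hfrat : normalizer (PA : Set ↥A) ⊔ K₁ = ⊤ := P₁.normalizer_sup_eq_top
  set PG : Subgroup G := PA.map A.subtype with hPG
  have hPAp : IsPGroup p PA := P₁.2.map _
  have hPGp : IsPGroup p PG := hPAp.map _
  -- nontriviality
  have hne : PG ≠ ⊥ := by
    intro hb
    have h1 : (P₁ : Subgroup ↥K₁) = ⊥ := by
      rw [hPG, Subgroup.map_eq_bot_iff_of_injective _ A.subtype_injective, hPA,
        Subgroup.map_eq_bot_iff_of_injective _ K₁.subtype_injective] at hb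
      exact hb
    have h2 := P₁.not_dvd_index
    rw [h1, Subgroup.index_bot] at h2
    -- an element of order divisible by `p` in `K₁`
    obtain ⟨x, hx⟩ : ∃ x : ↥A ⧸ B.subgroupOf A, (e x).1 = aff 1 ![1, 0] :=
      ⟨e.symm ⟨aff 1 ![1, 0], aff_mem_qd _ _⟩, by simp⟩
    obtain ⟨a, rfl⟩ := QuotientGroup.mk'_surjective (B.subgroupOf A) x
    have hx1 : QuotientGroup.mk' (B.subgroupOf A) a ≠ 1 := by
      intro h3
      rw [h3, map_one] at hx
      have h4 : aff (1 : SL2 (ZMod p)) 0 = aff 1 ![1, 0] := by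
        rw [aff_one]
        exact hx
      have h5 := congrFun (aff_inj h4).2 0
      simp at h5
    have hlina : ψ a = 1 := by
      have h2' := hlin (QuotientGroup.mk' (B.subgroupOf A) a)
      rw [hx] at h2'
      exact (aff_inj h2').1.symm
    have hxp : (QuotientGroup.mk' (B.subgroupOf A) a) ^ p = 1 := by
      apply e.injective
      apply Subtype.ext
      rw [map_pow, Subgroup.coe_pow, hx, aff_one_pow, map_one]
      have : p • (![1, 0] : Fin 2 → ZMod p) = 0 := by
        funext i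
        simp
      rw [this, aff_one]
      rfl
    have hord : orderOf (QuotientGroup.mk' (B.subgroupOf A) a) = p :=
      orderOf_eq_prime hxp hx1
    have h6 : p ∣ orderOf a := by
      rw [← hord]
      exact orderOf_map_dvd _ _
    have h7 : orderOf a = orderOf (⟨a, hlina⟩ : ↥K₁) := (Subgroup.orderOf_mk a hlina).symm
    rw [h7] at h6
    exact h2 (h6.trans (orderOf_dvd_natCard _))
  refine ⟨PG, hPGp, hne, ?_⟩
  -- the subgroup of the normalizer
  set N₁ : Subgroup ↥A := normalizer (PA : Set ↥A) with hN₁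
  set K' : Subgroup G := N₁.map A.subtype with hK'
  have hK'N : K' ≤ normalizer ((PG : Subgroup G) : Set G) := by
    rintro _ ⟨n, hn, rfl⟩
    refine Cfsg.Agent.Lib.PGlaub.mem_normalizer_of_conj_mem ?_
    rintro _ ⟨x, hx, rfl⟩
    exact ⟨n * x * n⁻¹, (mem_normalizer_iff.1 hn x).1 hx, rfl⟩
  let e₁ : ↥N₁ ≃* ↥K' := N₁.equivMapOfInjective A.subtype A.subtype_injective
  let π₀ : ↥K' →* SL2 (ZMod p) := (ψ.comp N₁.subtype).comp e₁.symm.toMonoidHom
  have hπ₀ : Function.Surjective π₀ := by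
    intro t
    obtain ⟨a, ha⟩ := hψ t
    have : a ∈ N₁ ⊔ K₁ := by rw [hfrat]; exact mem_top a
    have hmem : a ∈ ((N₁ ⊔ K₁ : Subgroup ↥A) : Set ↥A) := this
    rw [Subgroup.mul_normal] at hmem
    obtain ⟨n, hn, k, hk, rfl⟩ := hmem
    have hk1 : ψ k = 1 := hk
    refine ⟨e₁ ⟨n, hn⟩, ?_⟩
    simp only [π₀, MonoidHom.comp_apply]
    have : e₁.symm.toMonoidHom (e₁ ⟨n, hn⟩) = ⟨n, hn⟩ := by simp
    rw [this]
    show ψ n = t
    rw [← ha, map_mul, hk1, mul_one]
  let X₁ : Subgroup ↥(normalizer ((PG : Subgroup G) : Set G)) :=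
    K'.subgroupOf (normalizer ((PG : Subgroup G) : Set G))
  let π : ↥X₁ →* SL2 (ZMod p) := π₀.comp (subgroupOfEquivOfLe hK'N).toMonoidHom
  have hπ : Function.Surjective π := hπ₀.comp (subgroupOfEquivOfLe hK'N).surjective
  refine Cfsg.Agent.Lib.LQd.involves_of_surj X₁ π hπ ?_
  refine ⟨⊤, ⊥, ?_, ⟨?_⟩⟩
  · exact inferInstance
  · have e0 : (⊥ : Subgroup (SL2 (ZMod p))).subgroupOf ⊤ = ⊥ := Subgroup.bot_subgroupOf _
    exact (QuotientGroup.quotientMulEquivOfEq e0).trans
      ((QuotientGroup.quotientBot).trans Subgroup.topEquiv)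

end L

end Cfsg.Agent.Lib.LK
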