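import Mathlib
import Cfsg.Agent.Lib.LK16
import Cfsg.Agent.Lib.LCT6

set_option autoImplicit false
set_option linter.unusedSectionVars false
set_option linter.unusedVariables false
set_option linter.style.haveILetI false

/-! Control of transfer by an empty family. -/

namespace Cfsg.Agent.Lib.LK

open Subgroup Cfsg Cfsg.Agent.Lib.LCT
open scoped commutatorElement

universe u

section E

variable {p : ℕ} [Fact p.Prime]

/-- the identity functor -/
def W₁ : Fn.{u} := fun _ _ => ⊤

theorem W₁_char : IsCharPFunctor.{u} p W₁ := by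
  refine ⟨fun Q _ _ _ hn h => ?_, fun Q R _ _ _ _ φ => ?_⟩
  · have : (⊤ : Subgroup Q) = ⊥ := h
    exact top_ne_bot this
  · show (⊤ : Subgroup Q).map φ.toMonoidHom = ⊤
    rw [← MonoidHom.range_eq_map, MonoidHom.range_eq_top]
    exact φ.surjective

theorem hat_W₁ {X : Type u} [Group X] (P : Subgroup X) : hat W₁ P = P := by
  show (⊤ : Subgroup ↥P).map P.subtype = P
  rw [← MonoidHom.range_eq_map, range_subtype]

variable {G : Type u} [Group G] [Finite G]

theorem ctl_empty
    (hloc : ∀ (K R : Subgroup G) [hR : (R.subgroupOf K).Normal],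
      centralizer ((pCore p (↥K ⧸ R.subgroupOf K) : Subgroup (↥K ⧸ R.subgroupOf K)) : Set (↥K ⧸ R.subgroupOf K)) ≤ pCore p (↥K ⧸ R.subgroupOf K) →
      Ctl p ∅ (↥K ⧸ R.subgroupOf K)) :
    ∀ (K R : Subgroup G) [hR : (R.subgroupOf K).Normal], Ctl p ∅ (↥K ⧸ R.subgroupOf K) := by
  have hemp : ∀ W ∈ (∅ : Set Fn.{u}), IsCharPFunctor.{u} p W := fun W hW => absurd hW (Set.notMem_empty W)
  have hone : ∀ W ∈ ({W₁} : Set Fn.{u}), IsCharPFunctor.{u} p W := by
    intro W hW
    rw [Set.mem_singleton_iff.1 hW]
    exact W₁_char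
  have stepA : ∀ (K R : Subgroup G) [hR : (R.subgroupOf K).Normal], Ctl p {W₁} (↥K ⧸ R.subgroupOf K) := by
    refine ctl_all hone ⟨W₁, rfl⟩ ?_
    intro K R hR S hcore
    apply hcore.hG
    intro P hP hi
    have := hloc K R hcore.centralizer_le P hP hi
    simp only [Set.mem_empty_iff_false, iSup_false, iSup_bot, le_bot_iff] at this
    rw [this]
    exact bot_le
  have main : ∀ (n : ℕ) (K R : Subgroup G) [hR : (R.subgroupOf K).Normal],
      Nat.card (↥K ⧸ R.subgroupOf K) = n → Ctl p ∅ (↥K ⧸ R.subgroupOf K) := by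
    intro n
    induction n using Nat.strong_induction_on with
    | _ n ih =>
      intro K R hR hn
      set X := ↥K ⧸ R.subgroupOf K with hX
      have hsub : ∀ H : Subgroup X, H ≠ ⊤ → Ctl p ∅ ↥H := by
        intro H hH
        obtain ⟨K₁, R₁, hR₁, ⟨e⟩⟩ := exists_section_sub K (QuotientGroup.mk' (R.subgroupOf K))
          (QuotientGroup.mk'_surjective _) H
        have hlt : Nat.card (↥K₁ ⧸ R₁.subgroupOf K₁) < n := by
          rw [Nat.card_congr e.toEquiv, ← hn]
          have := Cfsg.Agent.Lib.PNilp.card_lt_of_lt' (lt_top_iff_ne_top.2 hH)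
          rwa [Subgroup.card_top] at this
        exact ctl_of_equiv hemp e (ih _ hlt K₁ R₁ rfl)
      have hquo : ∀ (N : Subgroup X) [N.Normal], N ≠ ⊥ → Ctl p ∅ (X ⧸ N) := by
        intro N hN hNne
        obtain ⟨R₂, hR₂, ⟨e⟩⟩ := exists_section_of_surj K
          ((QuotientGroup.mk' N).comp (QuotientGroup.mk' (R.subgroupOf K)))
          ((QuotientGroup.mk'_surjective N).comp (QuotientGroup.mk'_surjective _))
        have hlt : Nat.card (↥K ⧸ R₂.subgroupOf K) < n := by
          rw [Nat.card_congr e.toEquiv, ← hn, Subgroup.card_eq_card_quotient_mul_card_subgroup N]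
          have h1 : 1 < Nat.card N := by
            haveI : Nontrivial ↥N := (Subgroup.nontrivial_iff_ne_bot N).2 hNne
            exact Finite.one_lt_card
          have h2 : 0 < Nat.card ((↥K ⧸ R.subgroupOf K) ⧸ N) := Nat.card_pos
          nlinarith
        exact ctl_of_equiv hemp e (ih _ hlt K R₂ rfl)
      obtain ⟨S⟩ : Nonempty (Sylow p X) := inferInstance
      refine ctl_of_sylow hemp S ?_
      simp only [Set.mem_empty_iff_false, iSup_false, iSup_bot, le_bot_iff]
      have hA := stepA K R (S : Subgroup X) S.2 S.not_dvd_index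
      simp only [Set.mem_singleton_iff, iSup_iSup_eq_left] at hA
      have hNh : Nh W₁ (S : Subgroup X) = normalizer ((S : Subgroup X) : Set X) := by
        show normalizer ((hat W₁ (S : Subgroup X) : Subgroup X) : Set X) = _
        rw [hat_W₁]
      rw [hNh] at hA
      have hsubz : ∀ H : Subgroup X, H ≠ ⊤ → (S : Subgroup X) ≤ H → (S : Subgroup X) ⊓ ⁅H, H⁆ = ⊥ := by
        intro H hH hSH
        have h1 := ctl_sub hemp H (hsub H hH) (S : Subgroup X) hSH S.2
          (fun hd => S.not_dvd_index (hd.trans (relIndex_dvd_index_of_le hSH)))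
        simp only [Set.mem_empty_iff_false, iSup_false, iSup_bot, le_bot_iff] at h1
        exact h1
      by_cases hNt : normalizer ((S : Subgroup X) : Set X) = ⊤
      swap
      · exact le_bot_iff.1 (hA.trans (le_of_eq (hsubz _ hNt le_normalizer)))
      haveI hSn : (S : Subgroup X).Normal := normalizer_eq_top_iff.1 hNt
      have hcore : pCore p X = (S : Subgroup X) :=
        le_antisymm (Cfsg.Agent.Lib.H1Core.pCore_le_sylow p S)
          (Cfsg.Agent.Lib.H1Core.le_pCore hSn S.2)
      by_cases hC : centralizer ((S : Subgroup X) : Set X) ≤ (S : Subgroup X)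
      · have h1 := hloc K R (by rw [hcore]; exact hC) (S : Subgroup X) S.2 S.not_dvd_index
        simp only [Set.mem_empty_iff_false, iSup_false, iSup_bot, le_bot_iff] at h1
        exact h1
      -- `S` abelian
      have hSne : (S : Subgroup X) ≠ ⊤ := by
        intro ht
        apply hC
        rw [ht]
        exact le_top
      have hab : ⁅(S : Subgroup X), (S : Subgroup X)⁆ = ⊥ := by
        have h1 := hsubz _ hSne le_rfl
        exact le_bot_iff.1 ((le_inf (comm_self_le _) le_rfl).trans (le_of_eq h1))
      have hSC : (S : Subgroup X) ≤ centralizer ((S : Subgroup X) : Set X) :=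
        (commutator_eq_bot_iff_le_centralizer).1 hab
      set C : Subgroup X := centralizer ((S : Subgroup X) : Set X) with hCdef
      haveI hCn : C.Normal := by rw [hCdef]; infer_instance
      obtain ⟨Q, hQC, hQc, hCQ, hQA, hQS⟩ :=
        Cfsg.Agent.Lib.PGrp.exists_complement_of_central_sylow C (S : Subgroup X) hSC S.2
          (fun hd => S.not_dvd_index (hd.trans (relIndex_dvd_index_of_le hSC)))
          (fun a ha c hc => mem_centralizer_iff.1 hc a ha)
      have hcen : ∀ a ∈ (S : Subgroup X), ∀ c ∈ C, a * c = c * a := fun a ha c hc =>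
        mem_centralizer_iff.1 hc a ha
      have hdec : ∀ x ∈ C, ∃ h ∈ Q, ∃ a ∈ (S : Subgroup X), x = h * a := by
        let E : Subgroup X :=
          { carrier := {y | ∃ h ∈ Q, ∃ a ∈ (S : Subgroup X), y = h * a}
            one_mem' := ⟨1, one_mem _, 1, one_mem _, by simp⟩
            mul_mem' := by
              rintro _ _ ⟨h, hh, a, ha, rfl⟩ ⟨h', hh', a', ha', rfl⟩
              refine ⟨h * h', mul_mem hh hh', a * a', mul_mem ha ha', ?_⟩
              have := hcen a ha h' (hQC hh')
              calc h * a * (h' * a') = h * (a * h') * a' := by group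
                _ = h * (h' * a) * a' := by rw [this]
                _ = h * h' * (a * a') := by group
            inv_mem' := by
              rintro _ ⟨h, hh, a, ha, rfl⟩
              refine ⟨h⁻¹, inv_mem hh, a⁻¹, inv_mem ha, ?_⟩
              have := hcen a ha h⁻¹ (inv_mem (hQC hh))
              calc (h * a)⁻¹ = a⁻¹ * h⁻¹ := by group
                _ = h⁻¹ * a⁻¹ := by
                  have h2 : Commute a h⁻¹ := this
                  exact h2.inv_left.eq }
        have hle : Q ⊔ (S : Subgroup X) ≤ E := sup_le (fun h hh => ⟨h, hh, 1, one_mem _, by simp⟩)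
          (fun a ha => ⟨1, one_mem _, a, ha, by simp⟩)
        intro x hx
        rw [← hQS] at hx
        exact hle hx
      have hclaim : ∀ x ∈ C, (orderOf x).Coprime p → x ∈ Q := by
        intro x hx hxc
        obtain ⟨k, hk, a, ha, rfl⟩ := hdec x hx
        have hcomm : Commute k a := (hcen a ha k (hQC hk)).symm
        have h1 : (k * a) ^ orderOf (k * a) = 1 := pow_orderOf_eq_one _
        rw [hcomm.mul_pow] at h1
        have h2 : a ^ orderOf (k * a) ∈ Q ⊓ (S : Subgroup X) := by
          refine mem_inf.2 ⟨?_, pow_mem ha _⟩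
          have : a ^ orderOf (k * a) = (k ^ orderOf (k * a))⁻¹ := eq_inv_of_mul_eq_one_right h1
          rw [this]
          exact inv_mem (pow_mem hk _)
        rw [hQA, mem_bot] at h2
        obtain ⟨j, hj⟩ := S.2 ⟨a, ha⟩
        have hj' : a ^ (p ^ j) = 1 := congrArg Subtype.val hj
        have ha1 : a = 1 := Cfsg.Agent.Lib.PZJ.eq_one_of_pow_of_coprime hxc h2 hj'
        rw [ha1, mul_one]
        exact hk
      have hQord : ∀ x ∈ Q, (orderOf x).Coprime p := by
        intro x hx
        have h1 : orderOf x ∣ Nat.card Q := Subgroup.orderOf_dvd_natCard Q hx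
        exact Nat.Coprime.coprime_dvd_left h1 hQc
      have hQn : Q.Normal := by
        refine ⟨fun x hx g => ?_⟩
        refine hclaim _ (hCn.conj_mem _ (hQC hx) g) ?_
        have e : orderOf (g * x * g⁻¹) = orderOf x := by
          have := orderOf_injective (MulAut.conj g).toMonoidHom (MulAut.conj g).injective x
          simpa using this
        rw [e]
        exact hQord x hx
      haveI := hQn
      have hQne : Q ≠ ⊥ := by
        rintro rfl
        rw [bot_sup_eq] at hQS
        exact hC hQS.ge
      have hq := hquo Q hQne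
      set π := QuotientGroup.mk' Q with hπ
      have hπs : Function.Surjective π := QuotientGroup.mk'_surjective Q
      have h3 := hq ((S : Subgroup X).map π) (S.2.map π) (by
        have h4 := (S.mapSurjective hπs).not_dvd_index
        exact h4)
      simp only [Set.mem_empty_iff_false, iSup_false, iSup_bot, le_bot_iff] at h3
      rw [eq_bot_iff]
      intro z hz
      have hz1 := (mem_inf.1 hz).1
      have hz2 := (mem_inf.1 hz).2
      have hz3 : π z ∈ (S : Subgroup X).map π ⊓ _root_.commutator (X ⧸ Q) := by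
        refine mem_inf.2 ⟨mem_map_of_mem π hz1, ?_⟩
        have h5 : ((_root_.commutator X).map π) ≤ _root_.commutator (X ⧸ Q) := by
          show (⁅(⊤ : Subgroup X), (⊤ : Subgroup X)⁆).map π ≤ ⁅(⊤ : Subgroup (X ⧸ Q)), (⊤ : Subgroup (X ⧸ Q))⁆
          rw [map_commutator]
          exact commutator_mono le_top le_top
        exact h5 (mem_map_of_mem π hz2)
      rw [h3, mem_bot] at hz3
      have hzQ : z ∈ Q := (QuotientGroup.eq_one_iff z).1 hz3
      have : z ∈ Q ⊓ (S : Subgroup X) := mem_inf.2 ⟨hzQ, hz1⟩
      rwa [hQA] at this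
  intro K R hR
  exact main _ K R rfl

end E

end Cfsg.Agent.Lib.LK
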