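import Mathlib
import Cfsg.Agent.Lib.LK14
import Cfsg.Agent.Lib.LZJF3

set_option autoImplicit false
set_option linter.unusedSectionVars false
set_option linter.unusedVariables false
set_option linter.style.haveILetI false

/-! Control of strong fusion in a class of sections, from normality in constrained sections. -/

namespace Cfsg.Agent.Lib.LK

open Subgroup Cfsg Cfsg.Agent.Lib.PQuad Cfsg.Agent.Lib.PNilp Cfsg.Agent.Lib.H1Core Cfsg.Agent.Lib.PZJ
open Cfsg.Agent.Lib.PQA Cfsg.Agent.Lib.LZJD Cfsg.Agent.Lib.LZJF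
open scoped commutatorElement

universe u

section CtrlC

variable {p : ℕ} [Fact p.Prime] {Q : ∀ (G : Type u) [Group G], Subgroup G → Subgroup G}
variable {𝒞 : ∀ (X : Type u) [Group X], Prop}

/-- control for the whole Sylow subgroup -/
def CtrlP (p : ℕ) [Fact p.Prime] (Q : ∀ (G : Type u) [Group G], Subgroup G → Subgroup G)
    (X : Type u) [Group X] : Prop :=
  ∀ (P : Sylow p X) (D : Subgroup X), D = (P : Subgroup X) → IsStronglyClosed D (P : Subgroup X) →
    ∀ B : Subgroup X, B ≤ (P : Subgroup X) → ∀ g : X, (∀ b ∈ B, g * b * g⁻¹ ∈ (P : Subgroup X)) →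
      Rz (normalizer ((Q X D : Subgroup X) : Set X)) B g

/-- induction hypothesis relative to a class of groups -/
def HypIHC (p : ℕ) [Fact p.Prime] (Q : ∀ (G : Type u) [Group G], Subgroup G → Subgroup G)
    (𝒞 : ∀ (X : Type u) [Group X], Prop) (G : Type u) [Group G] : Prop :=
  SecClosed 𝒞 ∧ 𝒞 G ∧ ∀ (X : Type u) [Group X] [Finite X], 𝒞 X → Nat.card X < Nat.card G → CtrlP p Q X

variable {G : Type u} [Group G] [Finite G]

theorem ctrlC_overgroup (hL : DAxioms p Q) (IH : HypIHC p Q 𝒞 G) (P : Sylow p G)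
    (D : Subgroup G) (hDP : D = (P : Subgroup G)) (hD : IsStronglyClosed D (P : Subgroup G)) (M : Subgroup G) (hPM : (P : Subgroup G) ≤ M)
    (hM : M ≠ ⊤) (B : Subgroup G) (hB : B ≤ (P : Subgroup G)) (g : G) (hgM : g ∈ M)
    (hg : ∀ b ∈ B, g * b * g⁻¹ ∈ (P : Subgroup G)) :
    Rz (normalizer ((Q G D : Subgroup G) : Set G)) B g := by
  classical
  have hcard : Nat.card ↥M < Nat.card G := by
    have := card_lt_of_lt' (lt_top_iff_ne_top.2 hM)
    rwa [Subgroup.card_top] at this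
  let E : Subgroup ↥M := D.comap M.subtype
  have hE : IsStronglyClosed E ((P.subtype hPM : Sylow p ↥M) : Subgroup ↥M) := by
    refine ⟨?_, ?_⟩
    · intro x hx
      rw [P.coe_subtype hPM]
      exact hD.1 hx
    · intro x hx k hk
      rw [P.coe_subtype hPM] at hk
      exact hD.2 _ hx _ hk
  obtain ⟨z, hz, hze⟩ := IH.2.2 ↥M (IH.1.1 _ IH.2.1 M) hcard (P.subtype hPM) E (by
      rw [P.coe_subtype hPM]
      show D.comap M.subtype = _
      rw [hDP]
      rfl) hE (B.comap M.subtype) (by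
      intro b hb
      rw [P.coe_subtype hPM]
      exact hB hb) ⟨g, hgM⟩ (by
      intro b hb
      rw [P.coe_subtype hPM]
      exact hg _ hb)
  have hmap : E.map M.subtype = D := by
    rw [Subgroup.map_comap_eq, range_subtype]
    exact inf_eq_right.2 (hD.1.trans hPM)
  have hQ₂ : Q G D = (Q ↥M E).map M.subtype := by
    have := hL.Q_map ↥M G M.subtype E (fun x _ hx => Subtype.ext hx)
    rwa [hmap] at this
  refine ⟨z.1, ?_, ?_⟩
  · refine Cfsg.Agent.Lib.PGlaub.mem_normalizer_of_conj_mem ?_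
    rw [hQ₂]
    rintro _ ⟨k, hk, rfl⟩
    exact ⟨_, (mem_normalizer_iff.1 hz k).1 hk, rfl⟩
  · intro b hb
    have hbM : b ∈ M := hPM (hB hb)
    exact congrArg Subtype.val (hze ⟨b, hbM⟩ hb)


theorem part2IC (hL : DAxioms p Q)
    (IH : HypIHC p Q 𝒞 G) (hY : pCore p G = ⊥) (P : Sylow p G) (D : Subgroup G) (hDP : D = (P : Subgroup G)) (hD : IsStronglyClosed D (P : Subgroup G))
    (hDne : D ≠ ⊥) (m : ℕ)
    (hC : ∀ B : Subgroup G, B ≤ (P : Subgroup G) → m ≤ Nat.card B → ∀ g : G,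
      (∀ b ∈ B, g * b * g⁻¹ ∈ (P : Subgroup G)) → Rz (normalizer ((Q G D : Subgroup G) : Set G)) B g)
    (IH2 : ∀ R : Subgroup G, R ≤ (P : Subgroup G) → R ≠ ⊥ →
      m < Nat.card ↥((P : Subgroup G) ⊓ normalizer (R : Set G)) → ∀ g ∈ normalizer (R : Set G),
      ∀ B : Subgroup G, B ≤ (P : Subgroup G) ⊓ normalizer (R : Set G) →
      (∀ b ∈ B, g * b * g⁻¹ ∈ (P : Subgroup G)) → Rz (normalizer ((Q G D : Subgroup G) : Set G)) B g) :
    ∀ R : Subgroup G, R ≤ (P : Subgroup G) → R ≠ ⊥ →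
      m ≤ Nat.card ↥((P : Subgroup G) ⊓ normalizer (R : Set G)) → ∀ g ∈ normalizer (R : Set G),
      ∀ B : Subgroup G, B ≤ (P : Subgroup G) ⊓ normalizer (R : Set G) →
      (∀ b ∈ B, g * b * g⁻¹ ∈ (P : Subgroup G)) → Rz (normalizer ((Q G D : Subgroup G) : Set G)) B g := by
  classical
  intro R hRP hRne hm g hgN B hBT hg
  by_cases hm' : m < Nat.card ↥((P : Subgroup G) ⊓ normalizer (R : Set G))
  · exact IH2 R hRP hRne hm' g hgN B hBT hg
  have hcT : Nat.card ↥((P : Subgroup G) ⊓ normalizer (R : Set G)) = m := by omega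
  have hPND := sylow_le_normalizer_D (P : Subgroup G) D hD
  set H := normalizer (R : Set G) with hH
  set T := (P : Subgroup G) ⊓ H with hT
  let T' : Subgroup ↥H := (P : Subgroup G).comap H.subtype
  have hT'map : T'.map H.subtype = T := by
    rw [Subgroup.map_comap_eq, range_subtype, inf_comm]
  have hT'p : IsPGroup p T' := IsPGroup.comap_subtype P.2
  have hgT : ∀ b ∈ B, g * b * g⁻¹ ∈ T := by
    intro b hb
    refine mem_inf.2 ⟨hg b hb, ?_⟩
    exact mul_mem (mul_mem hgN (mem_inf.1 (hBT hb)).2) (inv_mem hgN)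
  by_cases hsyl : ∃ S₀ : Sylow p ↥H, (S₀ : Subgroup ↥H) = T'
  · -- `T` is a Sylow subgroup of `H`
    obtain ⟨S₀, hS₀⟩ := hsyl
    let E : Subgroup ↥H := D.comap H.subtype
    have hEsc : IsStronglyClosed E (S₀ : Subgroup ↥H) := by
      refine ⟨?_, ?_⟩
      · intro x hx
        rw [hS₀]
        exact hD.1 hx
      · intro x hx k hk
        rw [hS₀] at hk
        exact hD.2 _ hx _ hk
    let B' : Subgroup ↥H := B.comap H.subtype
    have hB'S : B' ≤ (S₀ : Subgroup ↥H) := by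
      intro b hb
      rw [hS₀]
      exact (mem_inf.1 (hBT hb)).1
    have hyb : ∀ b ∈ B', (⟨g, hgN⟩ : ↥H) * b * (⟨g, hgN⟩ : ↥H)⁻¹ ∈ (S₀ : Subgroup ↥H) := by
      intro b hb
      rw [hS₀]
      exact hg _ hb
    have hHne : H ≠ ⊤ := by
      intro htop
      apply hRne
      have hRn : R.Normal := normalizer_eq_top_iff.1 htop
      have h1 : R ≤ pCore p G := le_pCore hRn (P.2.to_le hRP)
      rw [hY] at h1
      exact le_bot_iff.1 h1
    have hcardH : Nat.card ↥H < Nat.card G := by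
      have := card_lt_of_lt' (lt_top_iff_ne_top.2 hHne)
      rwa [Subgroup.card_top] at this
    obtain ⟨n₂, hn₂N, hn₂e⟩ := IH.2.2 ↥H (IH.1.1 _ IH.2.1 H) hcardH S₀ E (by
        rw [hS₀]
        show D.comap H.subtype = (P : Subgroup G).comap H.subtype
        rw [hDP]) hEsc B' hB'S ⟨g, hgN⟩ hyb
    set Dg : Subgroup G := E.map H.subtype with hDg
    have hDgeq : Dg = D ⊓ H := by
      rw [hDg, Subgroup.map_comap_eq, range_subtype, inf_comm]
    have hQ₂ : Q G Dg = (Q ↥H E).map H.subtype :=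
      hL.Q_map ↥H G H.subtype E (fun x _ hx => Subtype.ext hx)
    have hn₂G : (n₂ : G) ∈ normalizer ((Q G Dg : Subgroup G) : Set G) := by
      refine Cfsg.Agent.Lib.PGlaub.mem_normalizer_of_conj_mem ?_
      rw [hQ₂]
      rintro _ ⟨k, hk, rfl⟩
      exact ⟨_, (mem_normalizer_iff.1 hn₂N k).1 hk, rfl⟩
    have hBH : ∀ b ∈ B, b ∈ H := fun b hb => (mem_inf.1 (hBT hb)).2
    have hact : ∀ b ∈ B, g * b * g⁻¹ = (n₂ : G) * b * (n₂ : G)⁻¹ := by
      intro b hb
      have h1 := hn₂e ⟨b, hBH b hb⟩ hb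
      exact congrArg Subtype.val h1
    have hactP : ∀ b ∈ B, (n₂ : G) * b * (n₂ : G)⁻¹ ∈ (P : Subgroup G) := by
      intro b hb
      rw [← hact b hb]
      exact hg b hb
    by_cases hTP : T = (P : Subgroup G)
    · have hPH : (P : Subgroup G) ≤ H := by rw [← hTP]; exact inf_le_right
      have hDgD : Dg = D := by
        rw [hDgeq]
        exact inf_eq_left.2 (hD.1.trans hPH)
      rw [hDgD] at hn₂G
      exact ⟨n₂, hn₂G, hact⟩
    · have hlt : T < (P : Subgroup G) := lt_of_le_of_ne inf_le_left hTP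
      obtain ⟨x, hxP, hxT, hxN⟩ := exists_normalizing_elt P.2 hlt
      have hN2 := hL.normalizer_le Dg
      have hnorm : ∀ u ∈ (P : Subgroup G), u ∈ normalizer (T : Set G) → u ∈ normalizer (Dg : Set G) := by
        intro u hu huN
        refine Cfsg.Agent.Lib.PGlaub.mem_normalizer_of_conj_mem (fun d hd => ?_)
        rw [hDgeq] at hd ⊢
        obtain ⟨hd1, hd2⟩ := mem_inf.1 hd
        refine mem_inf.2 ⟨(mem_normalizer_iff.1 (hPND hu) d).1 hd1, ?_⟩
        have h5 : d ∈ T := mem_inf.2 ⟨hD.1 hd1, hd2⟩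
        exact (mem_inf.1 ((mem_normalizer_iff.1 huN d).1 h5)).2
      have hlt2 : T < (P : Subgroup G) ⊓ normalizer ((Q G Dg : Subgroup G) : Set G) := by
        refine (SetLike.lt_iff_le_and_exists).2 ⟨le_inf inf_le_left ?_, x,
          mem_inf.2 ⟨hxP, hN2 (hnorm x hxP hxN)⟩, hxT⟩
        intro t ht
        exact hN2 (hnorm t (mem_inf.1 ht).1 (le_normalizer ht))
      have hDgP : Dg ≤ (P : Subgroup G) := by
        rw [hDgeq]; exact inf_le_left.trans hD.1
      have hDgne : Dg ≠ ⊥ := by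
        rw [hDgeq]
        exact inf_normalizer_ne_bot P.2 hD.1 hRP hPND hDne
      have hQ₂P : Q G Dg ≤ (P : Subgroup G) := (hL.Q_le G Dg).trans hDgP
      have hQ₂ne : Q G Dg ≠ ⊥ := hL.Q_ne G Dg (P.2.to_le hDgP) hDgne
      have hm₂ : m < Nat.card ↥((P : Subgroup G) ⊓ normalizer ((Q G Dg : Subgroup G) : Set G)) := by
        rw [← hcT]
        exact card_lt_of_lt' hlt2
      have hBT₂ : B ≤ (P : Subgroup G) ⊓ normalizer ((Q G Dg : Subgroup G) : Set G) := hBT.trans hlt2.le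
      obtain ⟨z, hz, hze⟩ := IH2 _ hQ₂P hQ₂ne hm₂ n₂ hn₂G B hBT₂ hactP
      refine ⟨z, hz, fun b hb => ?_⟩
      rw [hact b hb, hze b hb]
  · -- `T` is not a Sylow subgroup of `H`
    obtain ⟨R₁, hR₁⟩ := hT'p.exists_le_sylow
    have hlt : T' < (R₁ : Subgroup ↥H) := by
      refine lt_of_le_of_ne hR₁ ?_
      intro h
      exact hsyl ⟨R₁, h.symm⟩
    set S₁ : Subgroup G := (R₁ : Subgroup ↥H).map H.subtype with hS₁
    have hS₁p : IsPGroup p S₁ := R₁.2.map _
    have hTS₁ : T < S₁ := by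
      rw [← hT'map]
      exact lt_of_le_of_ne (Subgroup.map_mono hlt.le) (fun e => hlt.ne (Subgroup.map_injective H.subtype_injective e))
    obtain ⟨S₂, hS₂⟩ := hS₁p.exists_le_sylow
    obtain ⟨y₀, hy₀⟩ := MulAction.exists_smul_eq G S₂ P
    have hy₀P : ∀ s ∈ S₁, y₀ * s * y₀⁻¹ ∈ (P : Subgroup G) := by
      intro s hs
      rw [← hy₀, Cfsg.Agent.Lib.H1Core.mem_sylow_smul]
      have e : y₀⁻¹ * (y₀ * s * y₀⁻¹) * y₀ = s := by group
      rw [e]
      exact hS₂ hs
    obtain ⟨z₀, hz₀, hz₀e⟩ := hC T inf_le_left hcT.ge y₀ (fun t ht => hy₀P t (hTS₁.le ht))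
    have hRT : R ≤ T := le_inf hRP le_normalizer
    set R' := R.map (MulAut.conj y₀).toMonoidHom with hR'
    have hR'P : R' ≤ (P : Subgroup G) := by
      rintro _ ⟨r, hr, rfl⟩
      exact hy₀P r (hTS₁.le (hRT hr))
    have hR'ne : R' ≠ ⊥ := by
      intro h0
      apply hRne
      rw [hR', Subgroup.map_eq_bot_iff_of_injective _ (MulAut.conj y₀).injective] at h0
      exact h0
    have hS₁H : S₁ ≤ H := by rw [hS₁]; exact map_subtype_le _
    have hnormR' : ∀ v ∈ H, y₀ * v * y₀⁻¹ ∈ normalizer (R' : Set G) := by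
      intro v hv
      refine Cfsg.Agent.Lib.PGlaub.mem_normalizer_of_conj_mem (fun k hk => ?_)
      obtain ⟨q, hq, rfl⟩ := hk
      refine ⟨v * q * v⁻¹, (mem_normalizer_iff.1 hv q).1 hq, ?_⟩
      simp only [MulEquiv.coe_toMonoidHom, MulAut.conj_apply]
      group
    have hS₁le : S₁.map (MulAut.conj y₀).toMonoidHom ≤ (P : Subgroup G) ⊓ normalizer (R' : Set G) := by
      rintro _ ⟨s, hs, rfl⟩
      exact mem_inf.2 ⟨hy₀P s hs, hnormR' s (hS₁H hs)⟩
    have hm₂ : m < Nat.card ↥((P : Subgroup G) ⊓ normalizer (R' : Set G)) := by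
      rw [← hcT]
      refine lt_of_lt_of_le (card_lt_of_lt' hTS₁) ?_
      have h9 : Nat.card ↥(S₁.map (MulAut.conj y₀).toMonoidHom) = Nat.card S₁ :=
        Subgroup.card_map_of_injective (MulAut.conj y₀).injective
      rw [← h9]
      exact Subgroup.card_le_of_le hS₁le
    have hB'le : B.map (MulAut.conj y₀).toMonoidHom ≤ (P : Subgroup G) ⊓ normalizer (R' : Set G) := by
      rintro _ ⟨b, hb, rfl⟩
      exact hS₁le ⟨b, hTS₁.le (hBT hb), rfl⟩
    obtain ⟨z', hz', hz'e⟩ := IH2 R' hR'P hR'ne hm₂ (y₀ * g * y₀⁻¹) (hnormR' g hgN)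
      (B.map (MulAut.conj y₀).toMonoidHom) hB'le (by
        rintro _ ⟨b, hb, rfl⟩
        have e : y₀ * g * y₀⁻¹ * (MulAut.conj y₀).toMonoidHom b * (y₀ * g * y₀⁻¹)⁻¹ =
            y₀ * (g * b * g⁻¹) * y₀⁻¹ := by
          simp only [MulEquiv.coe_toMonoidHom, MulAut.conj_apply]
          group
        rw [e]
        exact hy₀P _ (hTS₁.le (hgT b hb)))
    refine ⟨z₀⁻¹ * z' * z₀, mul_mem (mul_mem (inv_mem hz₀) hz') hz₀, fun b hb => ?_⟩
    have h1 := hz₀e _ (hgT b hb)
    have h2 := hz₀e _ (hBT hb)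
    have h3 := hz'e ((MulAut.conj y₀).toMonoidHom b) ⟨b, hb, rfl⟩
    simp only [MulEquiv.coe_toMonoidHom, MulAut.conj_apply] at h3
    rw [h2] at h3
    have h4 : y₀ * (g * b * g⁻¹) * y₀⁻¹ = z' * (z₀ * b * z₀⁻¹) * z'⁻¹ := by
      rw [← h3, ← h2]
      group
    rw [h1] at h4
    have h5 : g * b * g⁻¹ = z₀⁻¹ * (z₀ * (g * b * g⁻¹) * z₀⁻¹) * z₀ := by group
    rw [h5, h4]
    group


theorem controlC_caseI (hL : DAxioms p Q) (IH : HypIHC p Q 𝒞 G)
    (hY : pCore p G = ⊥) (P : Sylow p G) (D : Subgroup G) (hDP : D = (P : Subgroup G)) (hD : IsStronglyClosed D (P : Subgroup G))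
    (hDne : D ≠ ⊥) (B : Subgroup G) (hB : B ≤ (P : Subgroup G)) (g : G)
    (hg : ∀ b ∈ B, g * b * g⁻¹ ∈ (P : Subgroup G)) :
    Rz (normalizer ((Q G D : Subgroup G) : Set G)) B g := by
  classical
  have key : ∀ (k m : ℕ), m + k = Nat.card (P : Subgroup G) + 1 →
      (∀ B : Subgroup G, B ≤ (P : Subgroup G) → m ≤ Nat.card B → ∀ g : G,
        (∀ b ∈ B, g * b * g⁻¹ ∈ (P : Subgroup G)) → Rz (normalizer ((Q G D : Subgroup G) : Set G)) B g) ∧
      (∀ R : Subgroup G, R ≤ (P : Subgroup G) → R ≠ ⊥ →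
        m ≤ Nat.card ↥((P : Subgroup G) ⊓ normalizer (R : Set G)) → ∀ g ∈ normalizer (R : Set G),
        ∀ B : Subgroup G, B ≤ (P : Subgroup G) ⊓ normalizer (R : Set G) →
        (∀ b ∈ B, g * b * g⁻¹ ∈ (P : Subgroup G)) → Rz (normalizer ((Q G D : Subgroup G) : Set G)) B g) := by
    intro k
    induction k with
    | zero =>
      intro m hm
      constructor
      · intro B hB hmB
        have := Subgroup.card_le_of_le hB
        omega
      · intro R _ _ hmR
        have : Nat.card ↥((P : Subgroup G) ⊓ normalizer (R : Set G)) ≤ Nat.card (P : Subgroup G) :=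
          Subgroup.card_le_of_le inf_le_left
        omega
    | succ k ih =>
      intro m hm
      obtain ⟨h1, h2⟩ := ih (m + 1) (by omega)
      have h3 := part1 hL P D hD m (fun B hB hmB => h1 B hB hmB) (fun R hR hne hmR => h2 R hR hne hmR)
      exact ⟨h3, part2IC hL IH hY P D hDP hD hDne m h3 (fun R hR hne hmR => h2 R hR hne hmR)⟩
  exact (key (Nat.card (P : Subgroup G) + 1) 0 (by omega)).1 B hB (Nat.zero_le _) g hg

/-- The reduction to `O_{p'}(G) = 1`. -/
theorem ctrlC_of_quot (hL : DAxioms p Q) (IH : HypIHC p Q 𝒞 G)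
    (hO : pPrimeCore p G ≠ ⊥) (P : Sylow p G) (D : Subgroup G) (hDP : D = (P : Subgroup G)) (hD : IsStronglyClosed D (P : Subgroup G))
    (B : Subgroup G) (hB : B ≤ (P : Subgroup G)) (g : G) (hg : ∀ b ∈ B, g * b * g⁻¹ ∈ (P : Subgroup G)) :
    Rz (normalizer ((Q G D : Subgroup G) : Set G)) B g := by
  classical
  haveI hOn : (pPrimeCore p G).Normal := pPrimeCore_normal p G
  have hsurj := QuotientGroup.mk'_surjective (pPrimeCore p G)
  set π := QuotientGroup.mk' (pPrimeCore p G) with hπ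
  have hcard : Nat.card (G ⧸ pPrimeCore p G) < Nat.card G := by
    have h1 := Subgroup.card_eq_card_quotient_mul_card_subgroup (pPrimeCore p G)
    have h2 : 1 < Nat.card (pPrimeCore p G) := by
      rw [Nat.one_lt_iff_ne_zero_and_ne_one]
      exact ⟨Nat.card_pos.ne', fun h => hO ((Subgroup.eq_bot_iff_card _).2 h)⟩
    have h3 : 0 < Nat.card (G ⧸ pPrimeCore p G) := Nat.card_pos
    rw [h1]
    nlinarith
  have hDp : IsPGroup p D := P.2.to_le hD.1
  have hDb := stronglyClosed_quot P D hD (pPrimeCore p G)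
  obtain ⟨zh, hzh, hzhe⟩ := IH.2.2 _ (IH.1.2 _ IH.2.1 _) hcard (P.mapSurjective hsurj) (D.map π) (by
      rw [hDP]
      rfl) hDb (B.map π)
    (Subgroup.map_mono hB) (π g) (by
      rintro _ ⟨b, hb, rfl⟩
      rw [← map_inv, ← map_mul, ← map_mul]
      exact ⟨_, hg b hb, rfl⟩)
  obtain ⟨z, rfl⟩ := hsurj zh
  have hinj : ∀ x ∈ D, π x = 1 → x = 1 := by
    intro x hx h1
    have hxO : x ∈ pPrimeCore p G := by
      rwa [hπ, QuotientGroup.mk'_apply, QuotientGroup.eq_one_iff] at h1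
    exact Cfsg.Agent.Lib.PJ.eq_one_of_mem_pPrimeCore hDp hx hxO
  have hmap := hL.Q_map G (G ⧸ pPrimeCore p G) π D hinj
  have hZp : IsPGroup p (Q G D) := hDp.to_le (hL.Q_le G D)
  have hy : ∀ x ∈ Q G D, z * x * z⁻¹ ∈ pPrimeCore p G ⊔ Q G D := by
    intro x hx
    have h1 : π x ∈ Q (G ⧸ pPrimeCore p G) (D.map π) := by
      rw [hmap]; exact ⟨x, hx, rfl⟩
    have h2 := (mem_normalizer_iff.1 hzh _).1 h1
    rw [hmap] at h2
    obtain ⟨w, hw, hwe⟩ := h2
    have h3 : π (z * x * z⁻¹) = π w := by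
      rw [hwe]; simp
    have h4 : (z * x * z⁻¹)⁻¹ * w ∈ pPrimeCore p G := by
      rw [hπ, QuotientGroup.mk'_apply, QuotientGroup.mk'_apply] at h3
      exact QuotientGroup.eq.1 h3
    have h5 : z * x * z⁻¹ = w * ((z * x * z⁻¹)⁻¹ * w)⁻¹ := by group
    rw [h5, sup_comm]
    exact mul_mem_sup hw (inv_mem h4)
  obtain ⟨o, ho, n₀, hn₀, hzo⟩ := Cfsg.Agent.Lib.PJ.exists_mul_normalizer (pPrimeCore p G) (pPrimeCore_coprime p) _ hZp z hy
  have hPQ : (P : Subgroup G) ≤ normalizer ((Q G D : Subgroup G) : Set G) :=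
    (sylow_le_normalizer_D _ D hD).trans (hL.normalizer_le D)
  refine refine_factor' P (Q G D) hPQ B hB g n₀ hn₀ hg ?_
  intro b hb
  have h1 := hzhe (π b) ⟨b, hb, rfl⟩
  rw [← map_inv, ← map_inv, ← map_mul, ← map_mul, ← map_mul, ← map_mul] at h1
  have h2 : π o = 1 := (QuotientGroup.eq_one_iff o).2 ho
  have h3 : π (z * b * z⁻¹) = π (n₀ * b * n₀⁻¹) := by
    rw [hzo]
    simp [h2]
  rw [h3] at h1
  have h4 : (n₀ * b * n₀⁻¹)⁻¹ * (g * b * g⁻¹) ∈ pPrimeCore p G := by
    rw [hπ, QuotientGroup.mk'_apply, QuotientGroup.mk'_apply] at h1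
    exact QuotientGroup.eq.1 h1.symm
  exact h4

/-- The subgroup `M_Y` coming from the quotient by `O_p(G)`. -/
theorem existsC_MY (hL : DAxioms p Q) (IH : HypIHC p Q 𝒞 G) (P : Sylow p G)
    (hY : pCore p G ≠ ⊥) (hS₀ : ¬ (P : Subgroup G) ⊓ centralizer (pCore p G : Set G) ≤ pCore p G) :
    ∃ M : Subgroup G, (P : Subgroup G) ≤ M ∧ M ≠ ⊤ ∧ ∀ U : Subgroup G, pCore p G ≤ U → U ≤ (P : Subgroup G) →
      ∀ n ∈ normalizer (U : Set G), ∃ z ∈ M, ∀ u ∈ U, (z * u * z⁻¹)⁻¹ * (n * u * n⁻¹) ∈ pCore p G := by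
  classical
  haveI hYn : (pCore p G).Normal := pCore_normal p G
  have hsurj := QuotientGroup.mk'_surjective (pCore p G)
  set π := QuotientGroup.mk' (pCore p G) with hπ
  have hcard : Nat.card (G ⧸ pCore p G) < Nat.card G := by
    have h1 := Subgroup.card_eq_card_quotient_mul_card_subgroup (pCore p G)
    have h2 : 1 < Nat.card (pCore p G) := by
      rw [Nat.one_lt_iff_ne_zero_and_ne_one]
      exact ⟨Nat.card_pos.ne', fun h => hY ((Subgroup.eq_bot_iff_card _).2 h)⟩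
    have h3 : 0 < Nat.card (G ⧸ pCore p G) := Nat.card_pos
    rw [h1]
    nlinarith
  let Pb : Sylow p (G ⧸ pCore p G) := P.mapSurjective hsurj
  have hPb : ((Pb : Subgroup (G ⧸ pCore p G)) : Subgroup _) = (P : Subgroup G).map π := rfl
  have hDb : IsStronglyClosed (Pb : Subgroup (G ⧸ pCore p G)) (Pb : Subgroup (G ⧸ pCore p G)) :=
    ⟨le_rfl, fun x _ g hg => hg⟩
  refine ⟨(normalizer ((Q _ (Pb : Subgroup (G ⧸ pCore p G)) : Subgroup _) : Set (G ⧸ pCore p G))).comap π, ?_, ?_, ?_⟩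
  · intro t ht
    rw [Subgroup.mem_comap]
    apply hL.normalizer_le
    apply le_normalizer
    rw [hPb]
    exact ⟨t, ht, rfl⟩
  · intro htop
    have h1 : normalizer ((Q _ (Pb : Subgroup (G ⧸ pCore p G)) : Subgroup _) : Set (G ⧸ pCore p G)) = ⊤ := by
      rw [eq_top_iff]
      intro y _
      obtain ⟨x, rfl⟩ := hsurj y
      have : x ∈ (normalizer ((Q _ (Pb : Subgroup (G ⧸ pCore p G)) : Subgroup _) : Set (G ⧸ pCore p G))).comap π := by
        rw [htop]; trivial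
      exact this
    have h2 := normalizer_eq_top_iff.1 h1
    have h3 : IsPGroup p ↥(Q _ (Pb : Subgroup (G ⧸ pCore p G))) := Pb.2.to_le (hL.Q_le _ _)
    have h4 := le_pCore h2 h3
    rw [Cfsg.Agent.Lib.PZJ.pCore_quot_self, le_bot_iff] at h4
    refine hL.Q_ne _ _ Pb.2 ?_ h4
    intro h5
    apply hS₀
    have h6 : (P : Subgroup G) ≤ pCore p G := by
      intro t ht
      have h7 : π t ∈ (Pb : Subgroup (G ⧸ pCore p G)) := by
        rw [hPb]; exact ⟨t, ht, rfl⟩
      rw [h5, mem_bot] at h7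
      exact (QuotientGroup.eq_one_iff t).1 h7
    exact inf_le_left.trans h6
  · intro U hYU hUP n hn
    have hnU : ∀ u ∈ U, n * u * n⁻¹ ∈ U := fun u hu => (mem_normalizer_iff.1 hn u).1 hu
    obtain ⟨zh, hzh, hzhe⟩ := IH.2.2 _ (IH.1.2 _ IH.2.1 _) hcard Pb _ rfl hDb (U.map π) (by
        rw [hPb]
        exact Subgroup.map_mono hUP) (π n) (by
        rintro _ ⟨u, hu, rfl⟩
        rw [← map_inv, ← map_mul, ← map_mul, hPb]
        exact ⟨_, hUP (hnU u hu), rfl⟩)
    obtain ⟨z, rfl⟩ := hsurj zh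
    refine ⟨z, hzh, fun u hu => ?_⟩
    have h1 := hzhe (π u) ⟨u, hu, rfl⟩
    rw [← map_inv, ← map_inv, ← map_mul, ← map_mul, ← map_mul, ← map_mul] at h1
    rw [hπ, QuotientGroup.mk'_apply, QuotientGroup.mk'_apply] at h1
    exact QuotientGroup.eq.1 h1.symm

theorem controlC_caseII (hL : DAxioms p Q) (IH : HypIHC p Q 𝒞 G)
    (hY : pCore p G ≠ ⊥) (P : Sylow p G) (D : Subgroup G) (hDP : D = (P : Subgroup G)) (hD : IsStronglyClosed D (P : Subgroup G))
    (hS₀ : ¬ (P : Subgroup G) ⊓ centralizer (pCore p G : Set G) ≤ pCore p G)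
    (B : Subgroup G) (hB : B ≤ (P : Subgroup G)) (g : G) (hg : ∀ b ∈ B, g * b * g⁻¹ ∈ (P : Subgroup G)) :
    Rz (normalizer ((Q G D : Subgroup G) : Set G)) B g := by
  classical
  have hMY := existsC_MY hL IH P hY hS₀
  have R2 : ∀ M : Subgroup G, (P : Subgroup G) ≤ M → M ≠ ⊤ → ∀ B : Subgroup G, B ≤ (P : Subgroup G) → ∀ g ∈ M,
      (∀ b ∈ B, g * b * g⁻¹ ∈ (P : Subgroup G)) → Rz (normalizer ((Q G D : Subgroup G) : Set G)) B g :=
    fun M hPM hM B hB g hgM hg => ctrlC_overgroup hL IH P D hDP hD M hPM hM B hB g hgM hg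
  have key : ∀ (k m : ℕ), m + k = Nat.card (P : Subgroup G) + 1 →
      ∀ B : Subgroup G, B ≤ (P : Subgroup G) → m ≤ Nat.card B → ∀ g : G,
        (∀ b ∈ B, g * b * g⁻¹ ∈ (P : Subgroup G)) → Rz (normalizer ((Q G D : Subgroup G) : Set G)) B g := by
    intro k
    induction k with
    | zero =>
      intro m hm B hB hmB
      have := Subgroup.card_le_of_le hB
      omega
    | succ k ih =>
      intro m hm
      have h1 := ih (m + 1) (by omega)
      refine part1F hL P D hD m (fun B hB hmB => h1 B hB hmB) ?_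
      intro U hUP hUm T₁ hT₁ n hn
      exact main_step m (fun B hB hmB => h1 B hB hmB) R2 hS₀ hMY U hUP hUm T₁ hT₁ n hn
  exact key (Nat.card (P : Subgroup G) + 1) 0 (by omega) B hB (Nat.zero_le _) g hg


/-- The main theorem, relative to a class of groups. -/
theorem controlC (hL : DAxioms p Q) (hSC : SecClosed 𝒞)
    (F : ∀ (G : Type u) [Group G] [Finite G], 𝒞 G → ∀ (P : Sylow p G),
      centralizer (pCore p G : Set G) ≤ pCore p G → (Q G (P : Subgroup G)).Normal) :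
    ∀ (n : ℕ) (G : Type u) [Group G] [Finite G], Nat.card G = n → 𝒞 G → CtrlP p Q G := by
  intro n
  induction n using Nat.strong_induction_on with
  | _ n ih =>
    intro G _ _ hG hfree
    have IH : HypIHC p Q 𝒞 G := ⟨hSC, hfree, fun X _ _ hfX hX => ih _ (hG ▸ hX) X rfl hfX⟩
    intro P D hDP hD B hB g hg
    by_cases hO : pPrimeCore p G = ⊥
    swap
    · exact ctrlC_of_quot hL IH hO P D hDP hD B hB g hg
    by_cases hDne : D = ⊥
    · subst hDne
      have h1 : Q G ⊥ = ⊥ := le_bot_iff.1 (hL.Q_le G ⊥)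
      refine ⟨g, ?_, fun _ _ => rfl⟩
      rw [h1, normalizer_eq_top_iff.2 inferInstance]
      exact mem_top _
    by_cases hY : pCore p G = ⊥
    · exact controlC_caseI hL IH hY P D hDP hD hDne B hB g hg
    by_cases hc : centralizer (pCore p G : Set G) ≤ pCore p G
    · have hn := F G hfree P hc
      rw [← hDP] at hn
      refine ⟨g, ?_, fun _ _ => rfl⟩
      rw [normalizer_eq_top_iff.2 hn]
      exact mem_top _
    · have hS₀ : ¬ (P : Subgroup G) ⊓ centralizer (pCore p G : Set G) ≤ pCore p G :=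
        fun h => hc (constrained_of_inf hO P h)
      exact controlC_caseII hL IH hY P D hDP hD hS₀ B hB g hg

theorem controls_of_ctrlP {G : Type u} [Group G] [Finite G] (hL : DAxioms p Q) (hmain : CtrlP p Q G)
    (T : Sylow p G) : ControlsStrongFusion p (Q G (T : Subgroup G)) := by
  refine ⟨T, hL.Q_le G _, fun A hA => ⟨hA, fun g hg => ?_⟩⟩
  have hcl : Subgroup.closure A ≤ (T : Subgroup G) := (Subgroup.closure_le _).2 hA
  have hgcl : ∀ b ∈ Subgroup.closure A, g * b * g⁻¹ ∈ (T : Subgroup G) := by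
    have : Subgroup.closure A ≤ (T : Subgroup G).comap (MulAut.conj g).toMonoidHom := by
      rw [Subgroup.closure_le]
      intro a ha
      exact hg ⟨a, ha, rfl⟩
    intro b hb
    simpa using this hb
  obtain ⟨z, hz, hze⟩ := hmain T (T : Subgroup G) rfl ⟨le_rfl, fun x hx g hg => hg⟩ (Subgroup.closure A) hcl g hgcl
  exact ⟨z, hz, fun a ha => hze a (Subgroup.subset_closure ha)⟩

/-- the section form -/
theorem section_control {G₀ : Type u} [Group G₀] [Finite G₀] {W : ∀ (Q : Type u) [Group Q], Subgroup Q}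
    (hW : IsCharPFunctor.{u} p W)
    (hloc : ∀ (K R : Subgroup G₀) [hR : (R.subgroupOf K).Normal],
      Subgroup.centralizer ((pCore p (↥K ⧸ R.subgroupOf K) : Subgroup (↥K ⧸ R.subgroupOf K)) : Set (↥K ⧸ R.subgroupOf K)) ≤
        pCore p (↥K ⧸ R.subgroupOf K) →
      ∀ T : Sylow p (↥K ⧸ R.subgroupOf K),
        (inducedFunctor (G := (↥K ⧸ R.subgroupOf K)) W ((T : Subgroup (↥K ⧸ R.subgroupOf K)))).Normal)
    (K R : Subgroup G₀) [hR : (R.subgroupOf K).Normal] (T : Sylow p (↥K ⧸ R.subgroupOf K)) :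
    ControlsStrongFusion p
      (inducedFunctor (G := (↥K ⧸ R.subgroupOf K)) W ((T : Subgroup (↥K ⧸ R.subgroupOf K)))) := by
  have hL := daxioms_Qf (p := p) hW
  have hF : ∀ (X : Type u) [Group X] [Finite X], SecOf G₀ X → ∀ (P : Sylow p X),
      centralizer (pCore p X : Set X) ≤ pCore p X → (Qf p W X (P : Subgroup X)).Normal := by
    rintro X _ _ ⟨K', R', hR', ⟨e⟩⟩ P hc
    haveI := hR'
    have hA := centralizer_transfer e hc
    let T' : Sylow p (↥K' ⧸ R'.subgroupOf K') := P.mapSurjective (f := e.symm.toMonoidHom) e.symm.surjective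
    have hT'P : (T' : Subgroup _).map e.toMonoidHom = (P : Subgroup X) := by
      ext x
      constructor
      · rintro ⟨_, ⟨y, hy, rfl⟩, rfl⟩
        have e0 : e.toMonoidHom (e.symm.toMonoidHom y) = y := by simp
        rw [e0]
        exact hy
      · intro hx
        exact ⟨e.symm x, ⟨x, hx, rfl⟩, by simp⟩
    have h1 := hloc K' R' hA T'
    have h2 := hat_equiv hW e (T := (T' : Subgroup _)) T'.2
    rw [hT'P] at h2
    rw [Qf_pos P.2, h2]
    exact Subgroup.Normal.map h1 _ e.surjective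
  have hmain := controlC hL (secOf_closed G₀) hF _ (↥K ⧸ R.subgroupOf K) rfl
    ⟨K, R, hR, ⟨MulEquiv.refl _⟩⟩
  have h3 := controls_of_ctrlP hL hmain T
  rwa [Qf_pos T.2] at h3

end CtrlC

end Cfsg.Agent.Lib.LK
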