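import Mathlib
import Cfsg.Agent.Lib.LZJF3
import Cfsg.Agent.Lib.LQd5
import Cfsg.Agent.Lib.LQuad6

/-! Local freeness of `Qd(p)`: `Z(J(S))` still controls strong fusion. -/

set_option autoImplicit false
set_option linter.unusedSectionVars false
set_option linter.unusedVariables false
set_option linter.style.haveILetI false

namespace Cfsg.Agent.Lib.LLocFree

open Subgroup Cfsg Cfsg.Agent.Lib.PZJ Cfsg.Agent.Lib.LZJD Cfsg.Agent.Lib.LZJF Cfsg.Agent.Lib.LStrongAb

open scoped commutatorElement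

universe u

variable {p : ℕ} [Fact p.Prime] {G : Type u} [Group G] [Finite G]

theorem hLA : DAxioms.{u} p (fun G _ T => centerThompsonAOf T) :=
  ⟨fun G _ T => inf_le_left.trans (thompsonAOf_le T),
    fun G H _ _ f T h => centerThompsonAOf_map f T h,
    fun G _ _ T hT hne => centerThompsonAOf_ne_bot hT hne⟩

/-- Control in a normalizer. -/
theorem control_in_normalizer (hp : p ≠ 2) (S : Sylow p G) (Q : Subgroup G)
    (hfree : ¬ Involves ↥(qd p) ↥(normalizer (Q : Set G)))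
    (T₁ : Sylow p ↥(normalizer (Q : Set G)))
    (hT₁ : (T₁ : Subgroup ↥(normalizer (Q : Set G))) = (S : Subgroup G).subgroupOf (normalizer (Q : Set G)))
    (B : Subgroup G) (hB : B ≤ (S : Subgroup G) ⊓ normalizer (Q : Set G)) (n : G) (hn : n ∈ normalizer (Q : Set G))
    (hnb : ∀ b ∈ B, n * b * n⁻¹ ∈ (S : Subgroup G)) :
    ∃ m ∈ normalizer (Q : Set G), m ∈ normalizer ((centerThompsonAOf ((S : Subgroup G) ⊓ normalizer (Q : Set G)) : Subgroup G) : Set G) ∧
      ∀ b ∈ B, m * b * m⁻¹ = n * b * n⁻¹ := by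
  classical
  have hmain := control_free hp hLA (by
    intro G _ _ P D hD hc hst
    exact centerThompsonA_normal_D hp hc hst P D hD) _ ↥(normalizer (Q : Set G)) rfl hfree T₁
    (T₁ : Subgroup ↥(normalizer (Q : Set G))) ⟨le_rfl, fun x hx g hg => hg⟩ (B.comap (normalizer (Q : Set G)).subtype) (by
      intro b hb
      rw [hT₁]
      exact (mem_inf.1 (hB hb)).1) ⟨n, hn⟩ (by
      intro b hb
      rw [hT₁]
      exact hnb _ hb)
  obtain ⟨z, hz, hze⟩ := hmain
  have hmap : (T₁ : Subgroup ↥(normalizer (Q : Set G))).map (normalizer (Q : Set G)).subtype = (S : Subgroup G) ⊓ (normalizer (Q : Set G)) := by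
    rw [hT₁, subgroupOf_map_subtype]
  have hZ : centerThompsonAOf ((S : Subgroup G) ⊓ (normalizer (Q : Set G))) = (centerThompsonAOf (T₁ : Subgroup ↥(normalizer (Q : Set G)))).map (normalizer (Q : Set G)).subtype := by
    rw [← hmap]
    exact centerThompsonAOf_map (normalizer (Q : Set G)).subtype _ (fun x _ hx => Subtype.ext hx)
  refine ⟨z.1, z.2, ?_, ?_⟩
  · refine Cfsg.Agent.Lib.PGlaub.mem_normalizer_of_conj_mem ?_
    rw [hZ]
    rintro _ ⟨k, hk, rfl⟩
    exact ⟨_, (mem_normalizer_iff.1 hz k).1 hk, rfl⟩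
  · intro b hb
    have hbN : b ∈ (normalizer (Q : Set G)) := (mem_inf.1 (hB hb)).2
    have h1 := hze ⟨b, hbN⟩ hb
    exact (congrArg Subtype.val h1).symm

/-- Tame conjugates inside `W`. -/
theorem tame_conj (S : Sylow p G) (m : ℕ)
    (IH1 : ∀ B : Subgroup G, B ≤ (S : Subgroup G) → m < Nat.card B → ∀ g : G,
      (∀ b ∈ B, g * b * g⁻¹ ∈ (S : Subgroup G)) →
      Rz (normalizer ((centerThompsonAOf (S : Subgroup G) : Subgroup G) : Set G)) B g)
    (Q' : Subgroup G) (hQ' : Q' ≤ (S : Subgroup G)) (hm : m < Nat.card ↥((S : Subgroup G) ⊓ normalizer (Q' : Set G))) :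
    ∃ w₀ ∈ normalizer ((centerThompsonAOf (S : Subgroup G) : Subgroup G) : Set G), ∃ Q₁ : Subgroup G,
      Q₁ = cj Q' w₀ ∧ Q₁ ≤ (S : Subgroup G) ∧
      (∃ T₁ : Sylow p ↥(normalizer (Q₁ : Set G)), (T₁ : Subgroup ↥(normalizer (Q₁ : Set G))) =
        (S : Subgroup G).subgroupOf (normalizer (Q₁ : Set G))) ∧
      ∀ t ∈ (S : Subgroup G) ⊓ normalizer (Q' : Set G), w₀ * t * w₀⁻¹ ∈ (S : Subgroup G) ⊓ normalizer (Q₁ : Set G) := by
  classical
  obtain ⟨h, hhS', T₁', hT₁'⟩ := exists_fully S Q' hQ'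
  obtain ⟨Q₁, hQ₁, hhS, T₁, hT₁⟩ : ∃ Q₁ : Subgroup G, Q₁ = cj Q' h ∧ Q₁ ≤ (S : Subgroup G) ∧
      ∃ T₁ : Sylow p ↥(normalizer (Q₁ : Set G)), (T₁ : Subgroup ↥(normalizer (Q₁ : Set G))) =
        (S : Subgroup G).subgroupOf (normalizer (Q₁ : Set G)) := ⟨_, rfl, hhS', T₁', hT₁'⟩
  set T₂ := (S : Subgroup G) ⊓ normalizer (Q' : Set G) with hT₂
  have hT₂N : T₂.map (MulAut.conj h).toMonoidHom ≤ normalizer ((Q₁ : Subgroup G) : Set G) := by
    rintro _ ⟨t, ht, rfl⟩
    refine Cfsg.Agent.Lib.PGlaub.mem_normalizer_of_conj_mem (fun c hc => ?_)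
    rw [hQ₁] at hc ⊢
    obtain ⟨b, hb, rfl⟩ := hc
    refine ⟨t * b * t⁻¹, (mem_normalizer_iff.1 (mem_inf.1 ht).2 b).1 hb, ?_⟩
    simp only [MulEquiv.coe_toMonoidHom, MulAut.conj_apply]
    group
  have hXp : IsPGroup p ((T₂.map (MulAut.conj h).toMonoidHom).comap (normalizer ((Q₁ : Subgroup G) : Set G)).subtype) :=
    IsPGroup.comap_subtype ((S.2.to_le inf_le_left).map _)
  obtain ⟨k, -, hk⟩ := exists_conj_le_sylow T₁ ⊤ _ hXp le_top
  set y' := (k : G)⁻¹ * h with hy'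
  have hy'P : ∀ t ∈ T₂, y' * t * y'⁻¹ ∈ (S : Subgroup G) := by
    intro t ht
    have h1 : (MulAut.conj h).toMonoidHom t ∈ T₂.map (MulAut.conj h).toMonoidHom := ⟨t, ht, rfl⟩
    have h2 := hk ⟨_, hT₂N h1⟩ h1
    rw [hT₁] at h2
    have h3 : (k : G)⁻¹ * ((MulAut.conj h).toMonoidHom t) * k ∈ (S : Subgroup G) := Subgroup.mem_subgroupOf.1 h2
    have e : y' * t * y'⁻¹ = (k : G)⁻¹ * ((MulAut.conj h).toMonoidHom t) * k := by
      simp only [MulEquiv.coe_toMonoidHom, MulAut.conj_apply, hy']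
      group
    rw [e]
    exact h3
  obtain ⟨z, hz, hzt⟩ := IH1 T₂ inf_le_left hm y' hy'P
  have hQ'T₂ : Q' ≤ T₂ := le_inf hQ' le_normalizer
  have hcQ : cj Q' z = Q₁ := by
    apply Subgroup.eq_of_le_of_card_ge
    · rintro _ ⟨b, hb, rfl⟩
      have e : (MulAut.conj z).toMonoidHom b = (k : G)⁻¹ * ((MulAut.conj h).toMonoidHom b) * k := by
        simp only [MulEquiv.coe_toMonoidHom, MulAut.conj_apply]
        rw [← hzt b (hQ'T₂ hb), hy']
        group
      rw [e]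
      have h1 : (MulAut.conj h).toMonoidHom b ∈ Q₁ := by
        rw [hQ₁]
        exact ⟨b, hb, rfl⟩
      have h2 := (mem_normalizer_iff.1 (inv_mem k.2) _).1 h1
      simpa using h2
    · rw [hQ₁, cj, cj, Subgroup.card_map_of_injective (MulAut.conj h).injective,
        Subgroup.card_map_of_injective (MulAut.conj z).injective]
  refine ⟨z, hz, Q₁, hcQ.symm, hhS, ⟨T₁, hT₁⟩, ?_⟩
  intro t ht
  refine mem_inf.2 ⟨?_, ?_⟩
  · rw [← hzt t ht]
    exact hy'P t ht
  · refine Cfsg.Agent.Lib.PGlaub.mem_normalizer_of_conj_mem (fun c hc => ?_)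
    rw [← hcQ] at hc ⊢
    obtain ⟨b, hb, rfl⟩ := hc
    refine ⟨t * b * t⁻¹, (mem_normalizer_iff.1 (mem_inf.1 ht).2 b).1 hb, ?_⟩
    simp only [MulEquiv.coe_toMonoidHom, MulAut.conj_apply]
    group

theorem free_conj (Q : Subgroup G) (w : G) (hf : ¬ Involves ↥(qd p) ↥(normalizer (Q : Set G))) :
    ¬ Involves ↥(qd p) ↥(normalizer ((cj Q w : Subgroup G) : Set G)) := by
  classical
  intro h
  apply hf
  let π : (⊤ : Subgroup ↥(normalizer (Q : Set G))) →* ↥(normalizer ((cj Q w : Subgroup G) : Set G)) :=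
    { toFun := fun x => ⟨w * x.1.1 * w⁻¹, by
        refine Cfsg.Agent.Lib.PGlaub.mem_normalizer_of_conj_mem (fun c hc => ?_)
        obtain ⟨b, hb, rfl⟩ := hc
        refine ⟨x.1.1 * b * x.1.1⁻¹, (mem_normalizer_iff.1 x.1.2 b).1 hb, ?_⟩
        simp only [MulEquiv.coe_toMonoidHom, MulAut.conj_apply]
        group⟩
      map_one' := by
        apply Subtype.ext
        simp
      map_mul' := fun x y => by
        apply Subtype.ext
        show w * (x.1.1 * y.1.1) * w⁻¹ = (w * x.1.1 * w⁻¹) * (w * y.1.1 * w⁻¹)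
        group }
  refine Cfsg.Agent.Lib.LQd.involves_of_surj ⊤ π ?_ h
  rintro ⟨y, hy⟩
  have hy' : w⁻¹ * y * w ∈ normalizer (Q : Set G) := by
    refine Cfsg.Agent.Lib.PGlaub.mem_normalizer_of_conj_mem (fun c hc => ?_)
    have h1 : w * c * w⁻¹ ∈ cj Q w := ⟨c, hc, by simp⟩
    obtain ⟨b, hb, he⟩ := (mem_normalizer_iff.1 hy _).1 h1
    refine cast (by rfl) ?_
    have he' : w * b * w⁻¹ = y * (w * c * w⁻¹) * y⁻¹ := by simpa using he
    have e : w⁻¹ * y * w * c * (w⁻¹ * y * w)⁻¹ = b := by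
      have h2 : w⁻¹ * (y * (w * c * w⁻¹) * y⁻¹) * w = b := by
        rw [← he']
        group
      rw [← h2]
      group
    rw [e]
    exact hb
  refine ⟨⟨⟨w⁻¹ * y * w, hy'⟩, mem_top _⟩, ?_⟩
  apply Subtype.ext
  show w * (w⁻¹ * y * w) * w⁻¹ = y
  group

/-- The descending induction on normalizers. -/
theorem sub_main (hp : p ≠ 2) (S : Sylow p G) (m : ℕ)
    (IH1 : ∀ B : Subgroup G, B ≤ (S : Subgroup G) → m < Nat.card B → ∀ g : G,
      (∀ b ∈ B, g * b * g⁻¹ ∈ (S : Subgroup G)) →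
      Rz (normalizer ((centerThompsonAOf (S : Subgroup G) : Subgroup G) : Set G)) B g)
    (hfree' : ∀ Q : Subgroup G, Q ≤ (S : Subgroup G) → (S : Subgroup G) ⊓ centralizer ((S : Subgroup G) : Set G) ≤ Q →
      ¬ Involves ↥(qd p) ↥(normalizer (Q : Set G))) :
    ∀ (k : ℕ) (Q : Subgroup G), Q ≤ (S : Subgroup G) → ¬ Involves ↥(qd p) ↥(normalizer (Q : Set G)) →
      (∃ T₁ : Sylow p ↥(normalizer (Q : Set G)), (T₁ : Subgroup ↥(normalizer (Q : Set G))) =
        (S : Subgroup G).subgroupOf (normalizer (Q : Set G))) →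
      k + Nat.card ↥((S : Subgroup G) ⊓ normalizer (Q : Set G)) = Nat.card (S : Subgroup G) →
      m < Nat.card ↥((S : Subgroup G) ⊓ normalizer (Q : Set G)) →
      ∀ B : Subgroup G, B ≤ (S : Subgroup G) ⊓ normalizer (Q : Set G) → ∀ n ∈ normalizer (Q : Set G),
        (∀ b ∈ B, n * b * n⁻¹ ∈ (S : Subgroup G) ⊓ normalizer (Q : Set G)) →
        Rz (normalizer ((centerThompsonAOf (S : Subgroup G) : Subgroup G) : Set G)) B n := by
  classical
  intro k
  induction k using Nat.strong_induction_on with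
  | _ k ih =>
    intro Q hQS hfQ ⟨T₁, hT₁⟩ hk hmT B hB n hn hnb
    set T := (S : Subgroup G) ⊓ normalizer (Q : Set G) with hT
    obtain ⟨m₁, hm₁, hm₁Q', hm₁e⟩ := control_in_normalizer hp S Q hfQ T₁ hT₁ B hB n hn
      (fun b hb => (mem_inf.1 (hnb b hb)).1)
    by_cases hTS : T = (S : Subgroup G)
    · have hTS' : (S : Subgroup G) ⊓ normalizer (Q : Set G) = (S : Subgroup G) := hTS
      rw [hTS'] at hm₁Q'
      exact ⟨m₁, hm₁Q', fun b hb => (hm₁e b hb).symm⟩
    have hTlt : T < (S : Subgroup G) := lt_of_le_of_ne inf_le_left hTS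
    obtain ⟨x, hxS, hxT, hxN⟩ := exists_normalizing_elt S.2 hTlt
    set Q' := centerThompsonAOf T with hQ'
    have hQ'T : Q' ≤ T := inf_le_left.trans (thompsonAOf_le T)
    have hQ'S : Q' ≤ (S : Subgroup G) := hQ'T.trans inf_le_left
    have hN2 := hLA.normalizer_le (p := p) T
    set D := (S : Subgroup G) ⊓ normalizer (Q' : Set G) with hD
    have hTD : T ≤ D := le_inf inf_le_left (le_normalizer.trans hN2)
    have hTltD : T < D := (SetLike.lt_iff_le_and_exists).2 ⟨hTD, x, mem_inf.2 ⟨hxS, hN2 hxN⟩, hxT⟩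
    have hcTD : Nat.card T < Nat.card D := Cfsg.Agent.Lib.PNilp.card_lt_of_lt' hTltD
    -- `Z(S) ≤ Q'`
    have hZQ' : (S : Subgroup G) ⊓ centralizer ((S : Subgroup G) : Set G) ≤ Q' := by
      intro z hz
      obtain ⟨hz1, hz2⟩ := mem_inf.1 hz
      have hcz : ∀ t ∈ (S : Subgroup G), t * z = z * t := fun t ht => (mem_centralizer_iff.1 hz2) t ht
      have hzT : z ∈ T := by
        refine mem_inf.2 ⟨hz1, ?_⟩
        refine Cfsg.Agent.Lib.PGlaub.mem_normalizer_of_conj_mem (fun q hq => ?_)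
        have := hcz q (hQS hq)
        rw [← this]
        simpa using hq
      rw [hQ', centerThompsonAOf, thompsonAOf_eq]
      refine mem_inf.2 ⟨?_, ?_⟩
      · obtain ⟨A, hA⟩ : (FamA T).Nonempty := by
          classical
          let s : Set (Subgroup G) := {U | U ≤ T ∧ IsMulCommutative U}
          have hs : s.Nonempty := ⟨⊥, bot_le, inferInstance⟩
          obtain ⟨A, ⟨h1, h2⟩, h3⟩ := Set.exists_max_image s (fun U => Nat.card U) (Set.toFinite s) hs
          exact ⟨A, h1, h2, fun U hU hUa => h3 U ⟨hU, hUa⟩⟩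
        have hzA : z ∈ A := famA_mem T A hA z hzT (by
          rw [mem_centralizer_iff]
          intro a ha
          exact hcz a ((mem_inf.1 (hA.1 ha)).1))
        exact (le_sSup hA : A ≤ sSup (FamA T)) hzA
      · rw [mem_centralizer_iff]
        intro j hj
        have hjT : j ∈ T := by
          have h5 : sSup (FamA T) ≤ T := sSup_le (fun A hA => hA.1)
          exact h5 hj
        exact hcz j (mem_inf.1 hjT).1
    have hfQ' := hfree' Q' hQ'S hZQ'
    obtain ⟨w₀, hw₀, Q₁, hQ₁, hQ₁S, hT₁', htr⟩ := tame_conj S m IH1 Q' hQ'S (hmT.trans hcTD)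
    have hfQ₁ : ¬ Involves ↥(qd p) ↥(normalizer (Q₁ : Set G)) := by
      rw [hQ₁]
      exact free_conj Q' w₀ hfQ'
    have hcD₁ : Nat.card D ≤ Nat.card ↥((S : Subgroup G) ⊓ normalizer (Q₁ : Set G)) := by
      have h1 : cj D w₀ ≤ (S : Subgroup G) ⊓ normalizer (Q₁ : Set G) := by
        rintro _ ⟨t, ht, rfl⟩
        exact htr t ht
      have h2 := Subgroup.card_le_of_le h1
      rwa [cj, Subgroup.card_map_of_injective (MulAut.conj w₀).injective] at h2
    have hc₁le : Nat.card ↥((S : Subgroup G) ⊓ normalizer (Q₁ : Set G)) ≤ Nat.card (S : Subgroup G) :=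
      Subgroup.card_le_of_le inf_le_left
    have hn₁ : w₀ * m₁ * w₀⁻¹ ∈ normalizer (Q₁ : Set G) := by
      refine Cfsg.Agent.Lib.PGlaub.mem_normalizer_of_conj_mem (fun c hc => ?_)
      rw [hQ₁] at hc ⊢
      obtain ⟨q, hq, rfl⟩ := hc
      refine ⟨m₁ * q * m₁⁻¹, (mem_normalizer_iff.1 hm₁Q' q).1 hq, ?_⟩
      simp only [MulEquiv.coe_toMonoidHom, MulAut.conj_apply]
      group
    have hres := ih (Nat.card (S : Subgroup G) - Nat.card ↥((S : Subgroup G) ⊓ normalizer (Q₁ : Set G)))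
      (by omega) Q₁ hQ₁S hfQ₁ hT₁' (by omega) (by omega) (cj B w₀)
      (by
        rintro _ ⟨b, hb, rfl⟩
        exact htr b (hTD (hB hb))) _ hn₁
      (by
        rintro _ ⟨b, hb, rfl⟩
        have h1 := htr _ (hTD (hnb b hb))
        have e : w₀ * m₁ * w₀⁻¹ * (MulAut.conj w₀).toMonoidHom b * (w₀ * m₁ * w₀⁻¹)⁻¹ =
            w₀ * (n * b * n⁻¹) * w₀⁻¹ := by
          rw [← hm₁e b hb]
          simp only [MulEquiv.coe_toMonoidHom, MulAut.conj_apply]
          group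
        rw [e]
        exact h1)
    obtain ⟨z₁, hz₁, hz₁e⟩ := hres
    refine ⟨w₀⁻¹ * z₁ * w₀, mul_mem (mul_mem (inv_mem hw₀) hz₁) hw₀, fun b hb => ?_⟩
    have h1 := hz₁e _ (⟨b, hb, rfl⟩ : (MulAut.conj w₀).toMonoidHom b ∈ cj B w₀)
    simp only [MulEquiv.coe_toMonoidHom, MulAut.conj_apply] at h1
    rw [← hm₁e b hb]
    have e1 : m₁ * b * m₁⁻¹ = w₀⁻¹ * (w₀ * m₁ * w₀⁻¹ * (w₀ * b * w₀⁻¹) * (w₀ * m₁ * w₀⁻¹)⁻¹) * w₀ := by group
    rw [e1, h1]
    group

/-- The fully normalized step. -/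
theorem full_step (hp : p ≠ 2) (S : Sylow p G) (m : ℕ)
    (IH1 : ∀ B : Subgroup G, B ≤ (S : Subgroup G) → m < Nat.card B → ∀ g : G,
      (∀ b ∈ B, g * b * g⁻¹ ∈ (S : Subgroup G)) →
      Rz (normalizer ((centerThompsonAOf (S : Subgroup G) : Subgroup G) : Set G)) B g)
    (hfree' : ∀ Q : Subgroup G, Q ≤ (S : Subgroup G) → (S : Subgroup G) ⊓ centralizer ((S : Subgroup G) : Set G) ≤ Q →
      ¬ Involves ↥(qd p) ↥(normalizer (Q : Set G)))
    (R : Subgroup G) (hRS : R ≤ (S : Subgroup G)) (hRm : Nat.card R = m)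
    (T₁ : Sylow p ↥(normalizer (R : Set G)))
    (hT₁ : (T₁ : Subgroup ↥(normalizer (R : Set G))) = (S : Subgroup G).subgroupOf (normalizer (R : Set G)))
    (g : G) (hg : g ∈ normalizer (R : Set G)) :
    Rz (normalizer ((centerThompsonAOf (S : Subgroup G) : Subgroup G) : Set G)) R g := by
  classical
  by_cases hRtop : R = (S : Subgroup G)
  · subst hRtop
    exact ⟨g, hLA.normalizer_le (p := p) _ hg, fun _ _ => rfl⟩
  have hRlt : R < (S : Subgroup G) := lt_of_le_of_ne hRS hRtop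
  obtain ⟨x, hxS, hxR, hxN⟩ := exists_normalizing_elt S.2 hRlt
  set T := (S : Subgroup G) ⊓ normalizer (R : Set G) with hT
  have hRT : R ≤ T := le_inf hRS le_normalizer
  have hRltT : R < T := (SetLike.lt_iff_le_and_exists).2 ⟨hRT, x, mem_inf.2 ⟨hxS, hxN⟩, hxR⟩
  have hmT : m < Nat.card T := by
    rw [← hRm]
    exact Cfsg.Agent.Lib.PNilp.card_lt_of_lt' hRltT
  by_cases hC : (S : Subgroup G) ⊓ centralizer (R : Set G) ≤ R
  · have hZ : (S : Subgroup G) ⊓ centralizer ((S : Subgroup G) : Set G) ≤ R := by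
      intro z hz
      apply hC
      refine mem_inf.2 ⟨(mem_inf.1 hz).1, ?_⟩
      exact centralizer_le (show (R : Set G) ⊆ (S : Subgroup G) from hRS) (mem_inf.1 hz).2
    have hTle : Nat.card T ≤ Nat.card (S : Subgroup G) := Subgroup.card_le_of_le inf_le_left
    refine sub_main hp S m IH1 hfree' (Nat.card (S : Subgroup G) - Nat.card T) R hRS (hfree' R hRS hZ) ⟨T₁, hT₁⟩
      (Nat.sub_add_cancel hTle) hmT R hRT g hg ?_
    intro b hb
    exact hRT ((mem_normalizer_iff.1 hg b).1 hb)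
  · -- Frattini
    let C₀ : Subgroup ↥(normalizer (R : Set G)) := (centralizer (R : Set G)).comap (normalizer (R : Set G)).subtype
    haveI hC₀n : C₀.Normal := by
      refine ⟨fun c hc y => ?_⟩
      show (y : G) * (c : G) * (y : G)⁻¹ ∈ centralizer (R : Set G)
      rw [mem_centralizer_iff]
      intro r hr
      have hy : (y : G)⁻¹ * r * y ∈ R := by
        have := (mem_normalizer_iff.1 (inv_mem y.2) r).1 hr
        simpa using this
      have hcc : (c : G) ∈ centralizer (R : Set G) := hc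
      have h1 := (mem_centralizer_iff.1 hcc) _ hy
      calc r * ((y : G) * (c : G) * (y : G)⁻¹) = (y : G) * (((y : G)⁻¹ * r * y) * (c : G)) * (y : G)⁻¹ := by group
        _ = (y : G) * ((c : G) * ((y : G)⁻¹ * r * y)) * (y : G)⁻¹ := by rw [h1]
        _ = _ := by group
    have h1 := Sylow.normalizer_sup_eq_top (Cfsg.Agent.Lib.PNilp.sylowOfNormal T₁ C₀)
    have h2 : (⟨g, hg⟩ : ↥(normalizer (R : Set G))) ∈ normalizer (((Cfsg.Agent.Lib.PNilp.sylowOfNormal T₁ C₀ : Sylow p C₀) : Subgroup C₀).map C₀.subtype : Subgroup ↥(normalizer (R : Set G))) ⊔ C₀ := by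
      rw [h1]; exact mem_top _
    obtain ⟨n', hn', c, hc, hgnc⟩ := Subgroup.mem_sup_of_normal_right.1 h2
    have hP0 : ((Cfsg.Agent.Lib.PNilp.sylowOfNormal T₁ C₀ : Sylow p C₀) : Subgroup C₀).map C₀.subtype = (T₁ : Subgroup ↥(normalizer (R : Set G))) ⊓ C₀ := by
      rw [Cfsg.Agent.Lib.PNilp.coe_sylowOfNormal, Subgroup.map_comap_eq, range_subtype, inf_comm]
    rw [hP0] at hn'
    set Y := (S : Subgroup G) ⊓ centralizer (R : Set G) with hY
    have hYN : Y ≤ (normalizer (R : Set G)) := inf_le_right.trans (centralizer_le_normalizer _)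
    set n : G := n'.1 with hn
    have hnY : ∀ y ∈ Y, n * y * n⁻¹ ∈ Y := by
      intro y hy
      have h3 : (⟨y, hYN hy⟩ : ↥(normalizer (R : Set G))) ∈ (T₁ : Subgroup ↥(normalizer (R : Set G))) ⊓ C₀ := by
        refine mem_inf.2 ⟨?_, (mem_inf.1 hy).2⟩
        rw [hT₁]
        exact (mem_inf.1 hy).1
      have h4 := (mem_normalizer_iff.1 hn' _).1 h3
      obtain ⟨h5, h6⟩ := mem_inf.1 h4
      rw [hT₁] at h5
      exact mem_inf.2 ⟨h5, h6⟩
    have hnR : ∀ r ∈ R, n * r * n⁻¹ ∈ R := fun r hr => (mem_normalizer_iff.1 n'.2 r).1 hr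
    set R₁ := R ⊔ Y with hR₁
    have hR₁S : R₁ ≤ (S : Subgroup G) := sup_le hRS inf_le_left
    have hnR₁ : ∀ b ∈ R₁, n * b * n⁻¹ ∈ R₁ := by
      have h3 : R₁ ≤ R₁.comap (MulAut.conj n).toMonoidHom := by
        refine sup_le ?_ ?_
        · intro r hr
          exact (le_sup_left : R ≤ R₁) (hnR r hr)
        · intro y hy
          exact (le_sup_right : Y ≤ R₁) (hnY y hy)
      intro b hb
      exact h3 hb
    have hRltR₁ : R < R₁ := by
      refine lt_of_le_of_ne le_sup_left ?_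
      intro h
      apply hC
      rw [h]
      exact le_sup_right
    have hcR₁ : m < Nat.card R₁ := by
      rw [← hRm]
      exact Cfsg.Agent.Lib.PNilp.card_lt_of_lt' hRltR₁
    obtain ⟨z, hz, hze⟩ := IH1 R₁ hR₁S hcR₁ n (fun b hb => hR₁S (hnR₁ b hb))
    refine ⟨z, hz, fun b hb => ?_⟩
    rw [← hze b (le_sup_left (a := R) hb)]
    have hg' : g = n * (c : G) := by
      have := congrArg Subtype.val hgnc
      exact this.symm
    rw [hg']
    have h3 : (c : G) * b * (c : G)⁻¹ = b := by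
      have hcc : (c : G) ∈ centralizer (R : Set G) := hc
      have := (mem_centralizer_iff.1 hcc) b hb
      rw [← this]
      group
    calc n * (c : G) * b * (n * (c : G))⁻¹ = n * ((c : G) * b * (c : G)⁻¹) * n⁻¹ := by group
      _ = _ := by rw [h3]

/-- The main control theorem. -/
theorem main_local (hp : p ≠ 2) (S : Sylow p G)
    (hfree' : ∀ Q : Subgroup G, Q ≤ (S : Subgroup G) → (S : Subgroup G) ⊓ centralizer ((S : Subgroup G) : Set G) ≤ Q →
      ¬ Involves ↥(qd p) ↥(normalizer (Q : Set G)))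
    (B : Subgroup G) (hB : B ≤ (S : Subgroup G)) (g : G) (hg : ∀ b ∈ B, g * b * g⁻¹ ∈ (S : Subgroup G)) :
    Rz (normalizer ((centerThompsonAOf (S : Subgroup G) : Subgroup G) : Set G)) B g := by
  classical
  have hD : IsStronglyClosed (S : Subgroup G) (S : Subgroup G) := ⟨le_rfl, fun x hx g hg => hg⟩
  have key : ∀ (k m : ℕ), m + k = Nat.card (S : Subgroup G) + 1 →
      ∀ B : Subgroup G, B ≤ (S : Subgroup G) → m ≤ Nat.card B → ∀ g : G,
        (∀ b ∈ B, g * b * g⁻¹ ∈ (S : Subgroup G)) →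
        Rz (normalizer ((centerThompsonAOf (S : Subgroup G) : Subgroup G) : Set G)) B g := by
    intro k
    induction k with
    | zero =>
      intro m hm B hB hmB
      have := Subgroup.card_le_of_le hB
      omega
    | succ k ih =>
      intro m hm
      have h1 := ih (m + 1) (by omega)
      refine part1F hLA S (S : Subgroup G) hD m (fun B hB hmB => h1 B hB hmB) ?_
      intro U hUP hUm T₁ hT₁ n hn
      exact full_step hp S m (fun B hB hmB => h1 B hB hmB) hfree' U hUP hUm T₁ hT₁ n hn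
  exact key (Nat.card (S : Subgroup G) + 1) 0 (by omega) B hB (Nat.zero_le _) g hg

theorem s3071 (hp : p ≠ 2) (S : Sylow p G)
    (hfree : ∀ P : Subgroup G, (S : Subgroup G) ⊓ centralizer ((S : Subgroup G) : Set G) ≤ P → P ≤ S →
      ¬ ∃ (H K : Subgroup G) (hK : (K.subgroupOf H).Normal), H ≤ normalizer (P : Set G) ∧
        Nonempty ((H ⧸ K.subgroupOf H) ≃* Matrix.SpecialLinearGroup (Fin 2) (ZMod p))) :
    ∀ x ∈ S, ∀ y ∈ S, (∃ g : G, g * x * g⁻¹ = y) ↔
      ∃ n ∈ normalizer (centerThompsonAOf (S : Subgroup G) : Set G), n * x * n⁻¹ = y := by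
  classical
  have hfree' : ∀ Q : Subgroup G, Q ≤ (S : Subgroup G) → (S : Subgroup G) ⊓ centralizer ((S : Subgroup G) : Set G) ≤ Q →
      ¬ Involves ↥(qd p) ↥(normalizer (Q : Set G)) := by
    intro Q hQ hZ hi
    obtain ⟨K₀, R₀, hR₀, ⟨e⟩⟩ := Cfsg.Agent.Lib.LQd.involves_sl2_of_qd hi
    haveI := hR₀
    obtain ⟨K, L, hL, hK, he⟩ := Cfsg.Agent.Lib.LQuad.section_of_hom_map K₀ (normalizer (Q : Set G)).subtype
      (normalizer (Q : Set G)).subtype_injective
      (e.toMonoidHom.comp (QuotientGroup.mk' (R₀.subgroupOf K₀))) ⊤ (by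
        intro t _
        obtain ⟨y, rfl⟩ := e.surjective t
        obtain ⟨k, rfl⟩ := QuotientGroup.mk'_surjective _ y
        exact ⟨k, rfl⟩) (Subgroup.topEquiv)
    exact hfree Q hZ hQ ⟨K, L, hL, hK.trans (map_subtype_le _), he⟩
  intro x hx y hy
  constructor
  · rintro ⟨g, rfl⟩
    have hzx : zpowers x ≤ (S : Subgroup G) := zpowers_le.2 hx
    obtain ⟨n, hn, hne⟩ := main_local hp S hfree' (zpowers x) hzx g (by
      intro b hb
      obtain ⟨i, rfl⟩ := mem_zpowers_iff.1 hb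
      have e : g * x ^ i * g⁻¹ = (g * x * g⁻¹) ^ i := (conj_zpow).symm
      rw [e]
      exact zpow_mem hy i)
    exact ⟨n, hn, (hne x (mem_zpowers x)).symm⟩
  · rintro ⟨n, -, rfl⟩
    exact ⟨n, rfl⟩

end Cfsg.Agent.Lib.LLocFree
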