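import Mathlib
import Cfsg.Agent.Lib.LFstarAct2
import Cfsg.Agent.Lib.LLarge
import Cfsg.Agent.Lib.LCD

set_option autoImplicit false
set_option linter.unusedSectionVars false
set_option linter.unusedVariables false
set_option linter.style.haveILetI false

/-! Rank two elementary abelian groups acting on `p'`-groups. -/

namespace Cfsg.Agent.Lib.LRank2

open Subgroup Cfsg Cfsg.Agent.Lib.H1Cop
open scoped commutatorElement

theorem norm_eq_one {W : Type*} [CommGroup W] {p : ℕ} (c : MulAut W) (hc : c ^ p = 1) (h0 : ∀ v, c v = v → v = 1) (v : W) :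
    ∏ k ∈ Finset.range p, (c ^ k) v = 1 := by
  apply h0
  rw [map_prod]
  have h1 := Finset.prod_range_succ (fun k => (c ^ k) v) p
  have h2 := Finset.prod_range_succ' (fun k => (c ^ k) v) p
  have h3 : (c ^ p) v = (c ^ 0) v := by rw [hc]; simp
  have h4 : ∀ k, c ((c ^ k) v) = (c ^ (k + 1)) v := by
    intro k
    rw [pow_succ']
    rfl
  simp only [h4]
  rw [h1, h3] at h2
  exact (mul_right_cancel h2).symm

theorem rank2_abstract {W : Type*} [CommGroup W] {p : ℕ} [Fact p.Prime] (α β : MulAut W) (hcomm : α * β = β * α)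
    (hα : α ^ p = 1) (hβ : β ^ p = 1) (hcop : ∀ v : W, v ^ p = 1 → v = 1) (h1 : ∀ v, β v = v → v = 1)
    (h2 : ∀ j : ℕ, ∀ v, (α * β ^ j) v = v → v = 1) (v : W) : v = 1 := by
  have hp : p.Prime := Fact.out
  have hc : Commute α β := hcomm
  have hcj : ∀ j : ℕ, Commute α (β ^ j) := fun j => hc.pow_right j
  have hβj : ∀ j : ℕ, (β ^ j) ^ p = 1 := by
    intro j
    rw [pow_right_comm, hβ, one_pow]
  have hcp : ∀ j : ℕ, (α * β ^ j) ^ p = 1 := by
    intro j
    rw [(hcj j).mul_pow, hα, hβj, one_mul]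
  have hN : ∀ j : ℕ, ∏ k ∈ Finset.range p, ((α * β ^ j) ^ k) v = 1 := fun j => norm_eq_one _ (hcp j) (h2 j) v
  have hrange : Finset.range p = Finset.Ico 0 p := by simp
  have hN2 : ∀ j : ℕ, ∏ k ∈ Finset.Ico 1 p, ((α * β ^ j) ^ k) v = v⁻¹ := by
    intro j
    have h3 := hN j
    rw [hrange, Finset.prod_eq_prod_Ico_succ_bot hp.pos] at h3
    simp only [pow_zero] at h3
    exact eq_inv_of_mul_eq_one_right h3
  have hT1 : ∏ j ∈ Finset.range p, ∏ k ∈ Finset.Ico 1 p, ((α * β ^ j) ^ k) v = (v⁻¹) ^ p := by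
    rw [Finset.prod_congr rfl (fun j _ => hN2 j), Finset.prod_const, Finset.card_range]
  have hT2 : ∏ j ∈ Finset.range p, ∏ k ∈ Finset.Ico 1 p, ((α * β ^ j) ^ k) v = 1 := by
    rw [Finset.prod_comm]
    refine Finset.prod_eq_one fun k hk => ?_
    obtain ⟨hk1, hk2⟩ := Finset.mem_Ico.1 hk
    have e : ∀ j : ℕ, ((α * β ^ j) ^ k) v = (α ^ k) (((β ^ k) ^ j) v) := by
      intro j
      rw [(hcj j).mul_pow, pow_right_comm]
      rfl
    simp only [e]
    rw [← map_prod]
    have hfpf : ∀ u, (β ^ k) u = u → u = 1 := by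
      intro u hu
      apply h1
      have hcop2 : Nat.Coprime k p := Nat.Coprime.symm ((Nat.Prime.coprime_iff_not_dvd hp).2
        (Nat.not_dvd_of_pos_of_lt hk1 hk2))
      obtain ⟨m, -, hm⟩ := Nat.exists_mul_mod_eq_one_of_coprime hcop2 hp.one_lt
      have e1 : k * m = p * (k * m / p) + 1 := by
        have := Nat.div_add_mod (k * m) p
        rw [hm] at this
        exact this.symm
      have e2 : (β ^ k) ^ m = β := by
        rw [← pow_mul, e1, pow_succ, pow_mul, hβ, one_pow, one_mul]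
      have e3 : ∀ n : ℕ, ((β ^ k) ^ n) u = u := by
        intro n
        induction n with
        | zero => simp
        | succ n ih =>
          rw [pow_succ]
          show ((β ^ k) ^ n) ((β ^ k) u) = u
          rw [hu, ih]
      have := e3 m
      rwa [e2] at this
    rw [norm_eq_one (β ^ k) (hβj k) hfpf v, map_one]
  rw [hT1] at hT2
  have h3 := hcop _ hT2
  exact inv_eq_one.1 h3

variable {G : Type*} [Group G] [Finite G] {p : ℕ} [Fact p.Prime]

theorem rank2_fixed {V : Subgroup G} {a b : G} (hVab : ∀ x ∈ V, ∀ y ∈ V, x * y = y * x) (hcop : (Nat.card V).Coprime p)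
    (hab : a * b = b * a) (ha : a ^ p = 1) (hb : b ^ p = 1) (hVa : a ∈ normalizer (V : Set G)) (hVb : b ∈ normalizer (V : Set G))
    (hV : V ≠ ⊥) : (V ⊓ centralizer ({b} : Set G) ≠ ⊥) ∨ ∃ j : ℕ, V ⊓ centralizer ({a * b ^ j} : Set G) ≠ ⊥ := by
  by_contra hcon
  push Not at hcon
  obtain ⟨h1, h2⟩ := hcon
  letI iV : CommGroup ↥V := { (inferInstance : Group ↥V) with mul_comm := fun x y => Subtype.ext (hVab x x.2 y y.2) }
  let ψ := V.normalizerMonoidHom
  have hψ : ∀ (c : ↥(normalizer (V : Set G))) (v : ↥V), ((ψ c v : ↥V) : G) = (c : G) * v * (c : G)⁻¹ := fun c v => rfl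
  let α := ψ ⟨a, hVa⟩
  let β := ψ ⟨b, hVb⟩
  have hfix : ∀ (c : ↥(normalizer (V : Set G))), V ⊓ centralizer ({(c : G)} : Set G) = ⊥ → ∀ v : ↥V, ψ c v = v → v = 1 := by
    intro c hc v hv
    have h3 : (c : G) * v * (c : G)⁻¹ = v := by
      rw [← hψ c v, hv]
    have h4 : (v : G) ∈ V ⊓ centralizer ({(c : G)} : Set G) := by
      refine mem_inf.2 ⟨v.2, ?_⟩
      rw [mem_centralizer_singleton_iff]
      rw [mul_inv_eq_iff_eq_mul] at h3
      exact h3.symm
    rw [hc, mem_bot] at h4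
    exact Subtype.ext h4
  obtain ⟨x, hx⟩ := Subgroup.ne_bot_iff_exists_ne_one.1 hV
  apply hx
  refine rank2_abstract (p := p) α β ?_ ?_ ?_ ?_ ?_ ?_ x
  · show ψ _ * ψ _ = ψ _ * ψ _
    rw [← map_mul, ← map_mul]
    congr 1
    exact Subtype.ext hab
  · show (ψ _) ^ p = 1
    rw [← map_pow]
    have : (⟨a, hVa⟩ : ↥(normalizer (V : Set G))) ^ p = 1 := Subtype.ext (by simpa using ha)
    rw [this, map_one]
  · show (ψ _) ^ p = 1
    rw [← map_pow]
    have : (⟨b, hVb⟩ : ↥(normalizer (V : Set G))) ^ p = 1 := Subtype.ext (by simpa using hb)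
    rw [this, map_one]
  · intro v hv
    have h3 : ((v ^ p : ↥V) : G) = 1 := by rw [hv]; rfl
    have h4 : (v : G) ^ p = 1 := by simpa using h3
    have h5 : (v : G) ^ Nat.card V = 1 := by
      have h6 : ((v ^ Nat.card V : ↥V) : G) = 1 := by rw [pow_card_eq_one']; rfl
      rwa [SubgroupClass.coe_pow] at h6
    exact Subtype.ext (Cfsg.Agent.Lib.Comp2.eq_one_of_pow_of_coprime (k := 1) (by simpa using h4) h5 hcop)
  · exact hfix _ h1
  · intro j
    have e : α * β ^ j = ψ (⟨a * b ^ j, mul_mem hVa (pow_mem hVb j)⟩) := by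
      show ψ _ * (ψ _) ^ j = _
      rw [← map_pow, ← map_mul]
      congr 1
    rw [e]
    exact hfix _ (h2 j)

/-- a `p`-group normalizing a nontrivial `p'`-group normalizes a nontrivial abelian subgroup -/
theorem exists_abelian_invariant {U R : Subgroup G} (hUp : IsPGroup p ↥U) (hR : (Nat.card R).Coprime p)
    (hUR : U ≤ normalizer (R : Set G)) (hR1 : R ≠ ⊥) :
    ∃ V : Subgroup G, V ≤ R ∧ V ≠ ⊥ ∧ (∀ x ∈ V, ∀ y ∈ V, x * y = y * x) ∧ U ≤ normalizer (V : Set G) := by
  classical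
  have hne : Nat.card R ≠ 1 := fun h => hR1 (Subgroup.card_eq_one.1 h)
  obtain ⟨q, hq, hqd⟩ := Nat.exists_prime_and_dvd hne
  haveI : Fact q.Prime := ⟨hq⟩
  have hcop : (Nat.card U).Coprime (Nat.card R) := by
    obtain ⟨n, hn⟩ := IsPGroup.iff_card.1 hUp
    rw [hn]
    exact Nat.Coprime.pow_left n hR.symm
  have hs : Group.IsSolvable U := by
    haveI : Group.IsNilpotent U := hUp.isNilpotent
    infer_instance
  obtain ⟨P, ⟨hPR, hPp, hPi⟩, hUP⟩ := exists_invariant_sylow hUR hcop (Or.inl hs) q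
  have hP1 : P ≠ ⊥ := by
    intro h
    apply hPi
    rw [h]
    have : (⊥ : Subgroup G).relIndex R = Nat.card R := by
      rw [Subgroup.relIndex, Subgroup.bot_subgroupOf, Subgroup.index_bot]
    rw [this]
    exact hqd
  refine ⟨P ⊓ centralizer (P : Set G), le_trans inf_le_left hPR, ?_, ?_, ?_⟩
  · haveI : Nontrivial ↥P := (Subgroup.nontrivial_iff_ne_bot P).2 hP1
    haveI := hPp.center_nontrivial
    obtain ⟨z, hz⟩ := exists_ne (1 : center ↥P)
    intro h
    apply hz
    have hzm : ((z : ↥P) : G) ∈ P ⊓ centralizer (P : Set G) := by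
      refine mem_inf.2 ⟨(z : ↥P).2, ?_⟩
      rw [mem_centralizer_iff]
      intro y hy
      exact congrArg Subtype.val ((Subgroup.mem_center_iff.1 z.2) ⟨y, hy⟩)
    rw [h, mem_bot] at hzm
    exact Subtype.ext (Subtype.ext hzm)
  · rintro x ⟨hx1, hx2⟩ y ⟨hy1, hy2⟩
    exact mem_centralizer_iff.1 hx2 y hy1 |>.symm
  · intro u hu
    exact Cfsg.Agent.Lib.LPRed.mem_normalizer_inf (hUP hu) (Cfsg.Agent.Lib.LPRed.mem_normalizer_centralizer (hUP hu))

/-- An elementary abelian `p`-group acting on a nontrivial `p'`-group has a maximal subgroup with nontrivial fixed points. -/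
theorem exists_coatom_fixed {U R : Subgroup G} (hU : IsElementaryAbelian p U) (hUp : IsPGroup p ↥U) (hU1 : U ≠ ⊥)
    (hR : (Nat.card R).Coprime p) (hUR : U ≤ normalizer (R : Set G)) (hR1 : R ≠ ⊥) :
    ∃ U₀ : Subgroup G, U₀ ≤ U ∧ IsCoatom (U₀.subgroupOf U) ∧ R ⊓ centralizer (U₀ : Set G) ≠ ⊥ := by
  classical
  have hUc : ∀ a ∈ U, ∀ b ∈ U, a * b = b * a := fun a ha b hb => Cfsg.Agent.Lib.PGrp.comm_of_isMulComm hU.1 ha hb
  set F : Set (Subgroup G) := {D | D ≤ U ∧ R ⊓ centralizer (D : Set G) ≠ ⊥} with hF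
  have hbot : (⊥ : Subgroup G) ∈ F := by
    refine ⟨bot_le, ?_⟩
    have : centralizer (((⊥ : Subgroup G) : Set G)) = ⊤ := by
      rw [eq_top_iff]
      intro x _
      rw [mem_centralizer_iff]
      intro h hh
      rw [mem_bot.1 hh]
      simp
    rw [this, inf_top_eq]
    exact hR1
  obtain ⟨D, -, hD⟩ := (Set.toFinite F).exists_le_maximal hbot
  obtain ⟨⟨hDU, hDR⟩, hDm⟩ := hD
  by_cases hDtop : D = U
  · -- a coatom exists
    haveI : Nontrivial ↥U := (Subgroup.nontrivial_iff_ne_bot U).2 hU1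
    obtain ⟨M, hM, -⟩ : ∃ M : Subgroup ↥U, IsCoatom M ∧ (⊥ : Subgroup ↥U) ≤ M := by
      rcases eq_top_or_exists_le_coatom (⊥ : Subgroup ↥U) with h | ⟨M, hM, hle⟩
      · exact absurd h bot_ne_top
      · exact ⟨M, hM, hle⟩
    have hMU : M.map U.subtype ≤ U := by
      rintro _ ⟨x, _, rfl⟩
      exact x.2
    refine ⟨M.map U.subtype, hMU, ?_, ?_⟩
    · have : (M.map U.subtype).subgroupOf U = M := map_subgroupOf_eq' M
      rwa [this]
    · intro h
      apply hDR
      rw [eq_bot_iff]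
      refine le_trans (inf_le_inf_left _ (centralizer_le ?_)) (le_of_eq h)
      rw [hDtop]
      exact hMU
  · by_cases hco : IsCoatom (D.subgroupOf U)
    · exact ⟨D, hDU, hco, hDR⟩
    · exfalso
      have hDne : D.subgroupOf U ≠ ⊤ := by
        intro h
        exact hDtop (le_antisymm hDU (subgroupOf_eq_top.1 h))
      obtain ⟨D₁', hlt, hne⟩ : ∃ D₁' : Subgroup ↥U, D.subgroupOf U < D₁' ∧ D₁' ≠ ⊤ := by
        by_contra h
        push Not at h
        exact hco ⟨hDne, h⟩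
      -- choose `b ∈ D₁ \ D`, `a ∈ U \ D₁`
      obtain ⟨b', hb'1, hb'2⟩ := SetLike.exists_of_lt hlt
      obtain ⟨a', ha'⟩ : ∃ a', a' ∉ D₁' := by
        by_contra h
        push Not at h
        exact hne (eq_top_iff.2 fun x _ => h x)
      set a : G := (a' : G) with ha
      set b : G := (b' : G) with hb
      have hbD : b ∉ D := fun h => hb'2 (mem_subgroupOf.2 h)
      have haU : a ∈ U := a'.2
      have hbU : b ∈ U := b'.2
      set R₁ := R ⊓ centralizer (D : Set G) with hR₁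
      have hUcD : U ≤ centralizer (D : Set G) := by
        intro u hu
        rw [mem_centralizer_iff]
        intro d hd
        exact hUc d (hDU hd) u hu
      have hUR₁ : U ≤ normalizer (R₁ : Set G) := fun u hu =>
        Cfsg.Agent.Lib.LPRed.mem_normalizer_inf (hUR hu) (le_normalizer (hUcD hu))
      have hR₁c : (Nat.card R₁).Coprime p := Nat.Coprime.coprime_dvd_left (Subgroup.card_dvd_of_le inf_le_left) hR
      obtain ⟨V, hVR, hV1, hVab, hUV⟩ := exists_abelian_invariant hUp hR₁c hUR₁ hDR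
      have hVc : (Nat.card V).Coprime p := Nat.Coprime.coprime_dvd_left (Subgroup.card_dvd_of_le hVR) hR₁c
      have hkey : ∀ c ∈ U, c ∉ D → V ⊓ centralizer ({c} : Set G) = ⊥ := by
        intro c hcU hcD
        by_contra hne2
        have hD' : D ⊔ zpowers c ∈ F := by
          refine ⟨sup_le hDU (zpowers_le.2 hcU), ?_⟩
          intro h
          apply hne2
          rw [eq_bot_iff, ← h]
          intro x hx
          refine mem_inf.2 ⟨(hVR hx.1).1, ?_⟩
          rw [Cfsg.Agent.Lib.LCD.centralizer_sup']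
          refine mem_inf.2 ⟨(hVR hx.1).2, ?_⟩
          rw [mem_centralizer_iff]
          intro y hy
          obtain ⟨n, rfl⟩ := mem_zpowers_iff.1 hy
          have h1 : x * c = c * x := mem_centralizer_singleton_iff.1 hx.2
          have h2 : Commute c x := h1.symm
          exact (h2.zpow_left n).eq
        have := hDm hD' le_sup_left
        exact hcD (this (mem_sup_right (mem_zpowers c)))
      rcases rank2_fixed hVab hVc (hUc a haU b hbU) (hU.2 a haU) (hU.2 b hbU) (hUV haU) (hUV hbU) hV1 with h | ⟨j, h⟩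
      · exact h (hkey b hbU hbD)
      · refine h (hkey _ (mul_mem haU (pow_mem hbU j)) ?_)
        intro h3
        apply ha'
        have h4 : (a' * b' ^ j) ∈ D.subgroupOf U := by
          rw [mem_subgroupOf]
          simpa using h3
        have h5 := hlt.le h4
        have h6 : b' ^ j ∈ D₁' := pow_mem hb'1 j
        have := mul_mem h5 (inv_mem h6)
        simpa using this

/-- S3003 -/
theorem s3003 (Q : Subgroup G) (hQp : IsPGroup p ↥Q) (hlarge : IsLarge Q) (G₁ : Subgroup G) (hQG : Q ≤ G₁) (R : Subgroup G)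
    (hR : (Nat.card ↥R).Coprime p) (hGR : G₁ ≤ normalizer (R : Set G)) (U : Subgroup G) (hUG : U ≤ G₁) (hUp : IsPGroup p ↥U) :
    ((∃ x ∈ U, x ≠ 1 ∧ ∃ g ∈ G₁, g * x * g⁻¹ ∈ Q ⊓ centralizer (Q : Set G)) → R ⊓ centralizer (U : Set G) = ⊥) ∧
    (IsElementaryAbelian p U → p ^ 2 ≤ Nat.card ↥U → (∀ U₀ : Subgroup G, U₀ ≤ U → IsCoatom (U₀.subgroupOf U) →
      ∃ x ∈ U₀, x ≠ 1 ∧ ∃ g ∈ G₁, g * x * g⁻¹ ∈ Q ⊓ centralizer (Q : Set G)) → R = ⊥) := by
  have key : ∀ U' : Subgroup G, U' ≤ U → (∃ x ∈ U', x ≠ 1 ∧ ∃ g ∈ G₁, g * x * g⁻¹ ∈ Q ⊓ centralizer (Q : Set G)) →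
      R ⊓ centralizer (U' : Set G) = ⊥ := by
    rintro U' hU' ⟨x, hx, hx1, g, hg, hz⟩
    set z := g * x * g⁻¹ with hzd
    have hz1 : z ≠ 1 := by
      intro h
      apply hx1
      have : x = g⁻¹ * z * g := by rw [hzd]; group
      rw [this, h]; group
    set R₁ := R ⊓ centralizer ({z} : Set G) with hR₁
    have hQR₁ : Q ≤ normalizer (R₁ : Set G) := by
      intro q hq
      refine Cfsg.Agent.Lib.LPRed.mem_normalizer_inf (hGR (hQG hq)) (le_normalizer ?_)
      rw [mem_centralizer_singleton_iff]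
      exact (mem_centralizer_iff.1 hz.2) q hq
    have hzp : zpowers z ≤ centralizer (Q : Set G) := zpowers_le.2 hz.2
    have hzb : zpowers z ≠ ⊥ := fun h => hz1 (zpowers_eq_bot.1 h)
    have hNz := hlarge.2 _ hzp hzb
    have hR₁Q : R₁ ≤ normalizer (Q : Set G) := by
      refine le_trans (le_trans inf_le_right ?_) hNz
      intro c hc
      refine Cfsg.Agent.Lib.PGlaub.mem_normalizer_of_conj_mem (fun y hy => ?_)
      obtain ⟨n, rfl⟩ := mem_zpowers_iff.1 hy
      have h1 : c * z = z * c := (mem_centralizer_singleton_iff.1 hc)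
      have h2 : Commute c z := h1
      rw [(h2.zpow_right n).eq, mul_inv_cancel_right]
      exact zpow_mem_zpowers z n |> fun h => h
    have hcc : ⁅R₁, Q⁆ ≤ R₁ ⊓ Q := le_inf (Cfsg.Agent.Lib.H1Cop.commutator_le_left hQR₁) (by
      rw [commutator_comm]
      exact Cfsg.Agent.Lib.H1Cop.commutator_le_left hR₁Q)
    have hinf : ∀ y ∈ R ⊓ Q, y = 1 := by
      intro y hy
      obtain ⟨k, hk⟩ := hQp ⟨y, hy.2⟩
      have hk' : y ^ p ^ k = 1 := by simpa using congrArg Subtype.val hk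
      have h5 : y ^ Nat.card R = 1 := by
        have h6 : (((⟨y, hy.1⟩ : ↥R) ^ Nat.card R : ↥R) : G) = 1 := by rw [pow_card_eq_one']; rfl
        rwa [SubgroupClass.coe_pow] at h6
      exact Cfsg.Agent.Lib.Comp2.eq_one_of_pow_of_coprime hk' h5 hR
    have hR₁C : R₁ ≤ centralizer (Q : Set G) := by
      rw [← commutator_eq_bot_iff_le_centralizer, eq_bot_iff]
      intro y hy
      exact mem_bot.2 (hinf y (mem_inf.2 ⟨(hcc hy).1.1, (hcc hy).2⟩))
    rw [eq_bot_iff]
    rintro r ⟨hr1, hr2⟩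
    have hr' : g * r * g⁻¹ ∈ R₁ := by
      refine mem_inf.2 ⟨(mem_normalizer_iff.1 (hGR hg) r).1 hr1, ?_⟩
      rw [mem_centralizer_singleton_iff]
      have h1 : x * r = r * x := (mem_centralizer_iff.1 hr2) x hx
      rw [hzd]
      calc g * r * g⁻¹ * (g * x * g⁻¹) = g * (r * x) * g⁻¹ := by group
        _ = g * (x * r) * g⁻¹ := by rw [h1]
        _ = g * x * g⁻¹ * (g * r * g⁻¹) := by group
    have h2 : g * r * g⁻¹ ∈ Q := hlarge.1 (hR₁C hr')
    have h3 := hinf _ (mem_inf.2 ⟨(hr').1, h2⟩)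
    rw [mem_bot]
    have : r = g⁻¹ * (g * r * g⁻¹) * g := by group
    rw [this, h3]
    group
  refine ⟨key U le_rfl, fun hE hcard hall => ?_⟩
  by_contra hR1
  have hU1 : U ≠ ⊥ := by
    intro h
    rw [h] at hcard
    have h2 : p ^ 2 ≤ 1 := by simpa using hcard
    have hp : 1 < p := Nat.Prime.one_lt Fact.out
    nlinarith
  obtain ⟨U₀, hU₀, hco, hne⟩ := exists_coatom_fixed hE hUp hU1 hR (le_trans hUG hGR) hR1
  exact hne (key U₀ hU₀ (hall U₀ hU₀ hco))

end Cfsg.Agent.Lib.LRank2
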