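import Mathlib
import Cfsg.Prelude.Def_Transfer
import Cfsg.Agent.Lib.PNilp

set_option autoImplicit false
set_option linter.unusedSectionVars false
set_option linter.unusedVariables false
set_option linter.style.haveILetI false

namespace Cfsg.Agent.Lib.PThomp

open Cfsg Subgroup MulAction

/-- **Thompson's transfer lemma.** -/
theorem thompson_transfer {G : Type*} [Group G] [Finite G] (P : Sylow 2 G) (Q : Subgroup G)
    (hQi : Q.relIndex (P : Subgroup G) = 2) (u : G) (hu : orderOf u = 2)
    (huP : u ∈ (P : Subgroup G)) (huQ : u ∉ Q) :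
    (∃ M : Subgroup G, M.Normal ∧ M.index = 2 ∧ u ∉ M) ∨ ∃ g : G, g * u * g⁻¹ ∈ Q := by
  classical
  by_cases h2 : ∃ g : G, g * u * g⁻¹ ∈ Q
  · exact Or.inr h2
  left
  push Not at h2
  let Q' : Subgroup (P : Subgroup G) := Q.subgroupOf (P : Subgroup G)
  have hQ'i : Q'.index = 2 := hQi
  haveI hQn : Q'.Normal := Subgroup.normal_of_index_eq_two hQ'i
  haveI hcyc : IsCyclic ((P : Subgroup G) ⧸ Q') :=
    isCyclic_of_prime_card (p := 2) (by rw [← Subgroup.index_eq_card]; exact hQ'i)
  letI iA : CommGroup ((P : Subgroup G) ⧸ Q') := IsCyclic.commGroup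
  let ϕ : (P : Subgroup G) →* ((P : Subgroup G) ⧸ Q') := QuotientGroup.mk' Q'
  haveI hfi : (P : Subgroup G).FiniteIndex := ⟨Subgroup.index_ne_zero_of_finite⟩
  let w := ϕ ⟨u, huP⟩
  have hu2 : u ^ 2 = 1 := by rw [← hu]; exact pow_orderOf_eq_one u
  have huQ' : (⟨u, huP⟩ : (P : Subgroup G)) ∉ Q' := huQ
  have hw : w ≠ 1 := fun h => huQ' ((QuotientGroup.eq_one_iff _).1 h)
  have hw2 : w ^ 2 = 1 := by
    change ϕ ⟨u, huP⟩ ^ 2 = 1
    rw [← map_pow]
    have : (⟨u, huP⟩ : (P : Subgroup G)) ^ 2 = 1 := Subtype.ext (by simpa using hu2)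
    rw [this, map_one]
  -- each factor of the transfer
  have key : ∀ q : G ⧸ (P : Subgroup G),
      ϕ ⟨q.out⁻¹ * u ^ Function.minimalPeriod (u • ·) q * q.out,
        QuotientGroup.out_conj_pow_minimalPeriod_mem (P : Subgroup G) u q⟩ =
      w ^ Function.minimalPeriod (u • ·) q := by
    intro q
    have hper : Function.IsPeriodicPt (u • · : G ⧸ (P : Subgroup G) → G ⧸ (P : Subgroup G)) 2 q := by
      change (u • ·)^[2] q = q
      simp only [Function.iterate_succ, Function.iterate_zero, Function.comp, id]
      rw [← mul_smul, ← pow_two, hu2, one_smul]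
    have hdvd := hper.minimalPeriod_dvd
    obtain h1 | h2' := (Nat.dvd_prime Nat.prime_two).1 hdvd
    · -- fixed coset
      have hmem := QuotientGroup.out_conj_pow_minimalPeriod_mem (P : Subgroup G) u q
      simp only [h1, pow_one] at hmem ⊢
      -- `t := q⁻¹ u q ∉ Q`
      have ht : q.out⁻¹ * u * q.out ∉ Q := by
        have := h2 q.out⁻¹
        simpa using this
      have ht' : (⟨q.out⁻¹ * u * q.out, hmem⟩ : (P : Subgroup G)) ∉ Q' := ht
      refine QuotientGroup.eq.2 ?_
      rw [Subgroup.mul_mem_iff_of_index_two hQ'i]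
      constructor
      · intro h
        exact absurd (by simpa using inv_mem h) ht'
      · intro h
        exact absurd h huQ'
    · simp only [h2', hu2, hw2]
      simp only [mul_one, inv_mul_cancel]
      exact map_one ϕ
  have hV : ϕ.transfer u = w := by
    letI : Fintype (Quotient (orbitRel (zpowers u) (G ⧸ (P : Subgroup G)))) := Fintype.ofFinite _
    rw [MonoidHom.transfer_eq_prod_quotient_orbitRel_zpowers_quot]
    rw [Finset.prod_congr rfl (fun q _ => key q.out), Finset.prod_pow_eq_pow_sum,
      ← Subgroup.index_eq_sum_minimalPeriod]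
    have hodd : ¬ 2 ∣ (P : Subgroup G).index := P.not_dvd_index
    obtain ⟨k, hk⟩ : ∃ k, (P : Subgroup G).index = 2 * k + 1 := by
      obtain ⟨k, h | h⟩ := Nat.even_or_odd' (P : Subgroup G).index
      · exact absurd ⟨k, h⟩ hodd
      · exact ⟨k, h⟩
    rw [hk, pow_succ, pow_mul, hw2, one_pow, one_mul]
  refine ⟨ϕ.transfer.ker, inferInstance, ?_, ?_⟩
  · rw [Subgroup.index_ker]
    have : ϕ.transfer.range = ⊤ := by
      rw [eq_top_iff]
      intro a _
      by_cases ha : a = 1
      · rw [ha]; exact one_mem _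
      · have hawi : a = w := by
          have hcard : Nat.card ((P : Subgroup G) ⧸ Q') = 2 := by
            rw [← Subgroup.index_eq_card]; exact hQ'i
          haveI : Finite ((P : Subgroup G) ⧸ Q') := inferInstance
          induction a using QuotientGroup.induction_on with
          | _ a =>
            refine QuotientGroup.eq.2 ?_
            rw [Subgroup.mul_mem_iff_of_index_two hQ'i]
            have ha' : a ∉ Q' := fun h => ha ((QuotientGroup.eq_one_iff _).2 h)
            constructor
            · intro h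
              exact absurd (by simpa using inv_mem h) ha'
            · intro h
              exact absurd h huQ'
        rw [hawi]
        exact ⟨u, hV⟩
    rw [this, Subgroup.card_top, ← Subgroup.index_eq_card]
    exact hQ'i
  · intro hmem
    exact hw (hV ▸ hmem)

end Cfsg.Agent.Lib.PThomp
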