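import Mathlib
import Cfsg.Agent.Lib.PThomp
import Cfsg.Agent.Lib.PGrp2
import Cfsg.Agent.Lib.H1Frat
import Cfsg.Prelude.Def_PLocal

set_option autoImplicit false
set_option linter.unusedSectionVars false
set_option linter.unusedVariables false
set_option linter.style.haveILetI false

/-! Transfer of central involutions of a Sylow `2`-subgroup. -/

namespace Cfsg.Agent.Lib.LTrich

open Subgroup Cfsg MulAction

variable {G : Type*} [Group G] [Finite G]

/-- transfer of an involution as a product over cosets -/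
theorem transfer_involution {A : Type*} [CommGroup A] (H : Subgroup G) [H.FiniteIndex] (ϕ : H →* A) (x : G) (hx : x ^ 2 = 1)
    [Fintype (G ⧸ H)] (F : G ⧸ H → A)
    (hF : ∀ (c : G) (h : c⁻¹ * x * c ∈ H), F (c : G ⧸ H) = ϕ ⟨c⁻¹ * x * c, h⟩)
    (hF2 : ∀ c : G, c⁻¹ * x * c ∉ H → F (c : G ⧸ H) = 1) :
    ϕ.transfer x = ∏ y : G ⧸ H, F y := by
  classical
  letI : Fintype (Quotient (orbitRel (zpowers x) (G ⧸ H))) := Fintype.ofFinite _
  rw [MonoidHom.transfer_eq_prod_quotient_orbitRel_zpowers_quot]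
  have e1 := (Subgroup.quotientEquivSigmaZMod H x).symm.prod_comp F
  rw [← e1, Fintype.prod_sigma]
  refine Fintype.prod_congr _ _ (fun q => ?_)
  have hmk : ∀ c : G, x • (c : G ⧸ H) = (c : G ⧸ H) ↔ c⁻¹ * x * c ∈ H := by
    intro c
    rw [MulAction.Quotient.smul_mk]
    change ((x * c : G) : G ⧸ H) = (c : G ⧸ H) ↔ _
    rw [QuotientGroup.eq]
    constructor
    · intro h
      have := inv_mem h
      simpa [mul_assoc] using this
    · intro h
      have := inv_mem h
      simpa [mul_assoc] using this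
  have hfix : ∀ y : G ⧸ H, x • y = y ↔ y.out⁻¹ * x * y.out ∈ H := by
    intro y
    have := hmk y.out
    rwa [QuotientGroup.out_eq'] at this
  rw [Fintype.prod_eq_single (0 : ZMod (Function.minimalPeriod (x • ·) q.out)) ?_]
  · simp only [Subgroup.quotientEquivSigmaZMod_symm_apply, ZMod.cast_zero, zpow_zero, one_smul]
    by_cases h : x • q.out = q.out
    · have hp : Function.minimalPeriod (x • ·) q.out = 1 := Function.minimalPeriod_eq_one_iff_isFixedPt.2 h
      have hm := (hfix _).1 h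
      conv_rhs => rw [← QuotientGroup.out_eq' q.out, hF _ hm]
      refine congrArg ϕ (Subtype.ext ?_)
      simp only [hp, pow_one]
    · have hm : q.out.out⁻¹ * x * q.out.out ∉ H := fun h' => h ((hfix _).2 h')
      have hper : Function.IsPeriodicPt (x • ·) 2 q.out := by
        show (x • ·)^[2] q.out = q.out
        simp only [Function.iterate_succ, Function.iterate_zero, Function.comp, id, smul_smul]
        rw [← pow_two, hx, one_smul]
      have hdvd := hper.minimalPeriod_dvd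
      have hne : Function.minimalPeriod (x • ·) q.out ≠ 1 := fun h' =>
        h (Function.minimalPeriod_eq_one_iff_isFixedPt.1 h')
      have hp2 : Function.minimalPeriod (x • ·) q.out = 2 := by
        have := (Nat.dvd_prime Nat.prime_two).1 hdvd
        rcases this with h' | h'
        · exact absurd h' hne
        · exact h'
      conv_rhs => rw [← QuotientGroup.out_eq' q.out, hF2 _ hm]
      have : (⟨q.out.out⁻¹ * x ^ Function.minimalPeriod (x • ·) q.out * q.out.out,
          QuotientGroup.out_conj_pow_minimalPeriod_mem H x q.out⟩ : H) = 1 := by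
        apply Subtype.ext
        simp only [hp2, hx]
        simp
      rw [this, map_one]
  · intro k hk
    simp only [Subgroup.quotientEquivSigmaZMod_symm_apply]
    set y := x ^ (ZMod.cast k : ℤ) • q.out with hy
    have hyn : ¬ (x • y = y) := by
      intro h
      have h1 : x ^ (ZMod.cast k : ℤ) • (x • q.out) = x ^ (ZMod.cast k : ℤ) • q.out := by
        rw [smul_smul, ← zpow_add_one, add_comm, zpow_add, zpow_one, mul_smul]
        exact h
      have h2 : x • q.out = q.out := smul_left_cancel _ h1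
      have hp : Function.minimalPeriod (x • ·) q.out = 1 := Function.minimalPeriod_eq_one_iff_isFixedPt.2 h2
      haveI : Subsingleton (ZMod (Function.minimalPeriod (x • ·) q.out)) := ZMod.subsingleton_iff.2 hp
      exact hk (Subsingleton.elim _ _)
    have hm : y.out⁻¹ * x * y.out ∉ H := fun h' => hyn ((hfix _).2 h')
    have := hF2 _ hm
    rwa [QuotientGroup.out_eq'] at this

theorem prod_two {X Q : Type*} [Fintype X] [CommGroup Q] [Finite Q] (hQ : Nat.card Q = 2) (F : X → Q) {w : Q} (hw : w ≠ 1)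
    (hodd : Odd (Nat.card {y // F y ≠ 1})) : ∏ y, F y = w := by
  classical
  have hall : ∀ u : Q, u ≠ 1 → u = w := by
    intro u hu
    obtain ⟨a, b, hab, hun⟩ := Nat.card_eq_two_iff.1 hQ
    have hm : ∀ v : Q, v = a ∨ v = b := by
      intro v
      have : v ∈ ({a, b} : Set Q) := by rw [hun]; trivial
      simpa using this
    rcases hm (1 : Q) with h1 | h1 <;> rcases hm u with h2 | h2 <;> rcases hm w with h3 | h3 <;> simp_all
  have hw2 : w ^ 2 = 1 := by
    have := pow_card_eq_one' (x := w)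
    rwa [hQ] at this
  rw [← Finset.prod_filter_ne_one]
  have h1 : ∀ y ∈ Finset.univ.filter (fun y => F y ≠ 1), F y = w := fun y hy => hall _ (Finset.mem_filter.1 hy).2
  rw [Finset.prod_congr rfl h1, Finset.prod_const]
  have h2 : (Finset.univ.filter (fun y => F y ≠ 1)).card = Nat.card {y // F y ≠ 1} := by
    rw [Nat.card_eq_fintype_card, Fintype.card_subtype]
  rw [h2]
  obtain ⟨m, hm⟩ := hodd
  rw [hm, pow_succ, pow_mul, hw2, one_pow, one_mul]

/-- S2872 -/
theorem s2872 (S : Sylow 2 G) : pResidual 2 G ≠ ⊤ ∨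
    omegaOne 2 ((S : Subgroup G) ⊓ centralizer ((S : Subgroup G) : Set G)) ≤ (frattini ↥(S : Subgroup G)).map (S : Subgroup G).subtype ∨
    ∃ g ∈ normalizer ((S : Subgroup G) : Set G), ∃ z ∈ omegaOne 2 ((S : Subgroup G) ⊓ centralizer ((S : Subgroup G) : Set G)), g * z * g⁻¹ ≠ z := by
  classical
  haveI : Fact (Nat.Prime 2) := ⟨Nat.prime_two⟩
  by_contra hcon
  push Not at hcon
  obtain ⟨h1, h2, h3⟩ := hcon
  obtain ⟨x, hx, hxF⟩ : ∃ x ∈ {x : G | x ∈ (S : Subgroup G) ⊓ centralizer ((S : Subgroup G) : Set G) ∧ x ^ 2 = 1},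
      x ∉ (frattini ↥(S : Subgroup G)).map (S : Subgroup G).subtype := by
    by_contra h
    push Not at h
    exact h2 ((closure_le _).2 h)
  obtain ⟨⟨hxS, hxC⟩, hx2⟩ := hx
  have hxΩ : x ∈ omegaOne 2 ((S : Subgroup G) ⊓ centralizer ((S : Subgroup G) : Set G)) := subset_closure ⟨⟨hxS, hxC⟩, hx2⟩
  have hxF' : (⟨x, hxS⟩ : ↥(S : Subgroup G)) ∉ frattini ↥(S : Subgroup G) := fun h => hxF ⟨_, h, rfl⟩
  rw [Cfsg.Agent.Lib.H1Frat.mem_frattini] at hxF'
  push Not at hxF'
  obtain ⟨M, hM, hxM⟩ := hxF'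
  obtain ⟨hMn, hMi, -⟩ := Cfsg.Agent.Lib.PGrp.coatom_index_of_isPGroup S.2 hM
  haveI := hMn
  have hQc : Nat.card (↥(S : Subgroup G) ⧸ M) = 2 := by rw [← Subgroup.index_eq_card]; exact hMi
  haveI hcyc : IsCyclic (↥(S : Subgroup G) ⧸ M) := isCyclic_of_prime_card (p := 2) hQc
  letI iA : CommGroup (↥(S : Subgroup G) ⧸ M) := IsCyclic.commGroup
  let ϕ : ↥(S : Subgroup G) →* (↥(S : Subgroup G) ⧸ M) := QuotientGroup.mk' M
  haveI hfi : (S : Subgroup G).FiniteIndex := ⟨Subgroup.index_ne_zero_of_finite⟩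
  letI : Fintype (G ⧸ (S : Subgroup G)) := Fintype.ofFinite _
  let w := ϕ ⟨x, hxS⟩
  have hw : w ≠ 1 := fun h => hxM ((QuotientGroup.eq_one_iff _).1 h)
  -- the function on cosets
  let F : G ⧸ (S : Subgroup G) → (↥(S : Subgroup G) ⧸ M) := fun y =>
    if h : y.out⁻¹ * x * y.out ∈ (S : Subgroup G) then ϕ ⟨_, h⟩ else 1
  have hFmk : ∀ (c : G) (h : c⁻¹ * x * c ∈ (S : Subgroup G)), F (c : G ⧸ (S : Subgroup G)) = ϕ ⟨c⁻¹ * x * c, h⟩ := by
    intro c h
    obtain ⟨s, hs⟩ := QuotientGroup.mk_out_eq_mul (S : Subgroup G) c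
    have e : ((c : G ⧸ (S : Subgroup G)).out)⁻¹ * x * (c : G ⧸ (S : Subgroup G)).out = (s : G)⁻¹ * (c⁻¹ * x * c) * s := by
      rw [hs]; group
    have hm : ((c : G ⧸ (S : Subgroup G)).out)⁻¹ * x * (c : G ⧸ (S : Subgroup G)).out ∈ (S : Subgroup G) := by
      rw [e]
      exact mul_mem (mul_mem (inv_mem s.2) h) s.2
    show (if h : _ then ϕ ⟨_, h⟩ else 1) = _
    rw [dif_pos hm]
    have e2 : (⟨_, hm⟩ : ↥(S : Subgroup G)) = s⁻¹ * ⟨c⁻¹ * x * c, h⟩ * s := Subtype.ext e
    rw [e2, map_mul, map_mul, map_inv, mul_comm, ← mul_assoc, mul_inv_cancel, one_mul]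
  have hFmk2 : ∀ c : G, c⁻¹ * x * c ∉ (S : Subgroup G) → F (c : G ⧸ (S : Subgroup G)) = 1 := by
    intro c h
    obtain ⟨s, hs⟩ := QuotientGroup.mk_out_eq_mul (S : Subgroup G) c
    have e : ((c : G ⧸ (S : Subgroup G)).out)⁻¹ * x * (c : G ⧸ (S : Subgroup G)).out = (s : G)⁻¹ * (c⁻¹ * x * c) * s := by
      rw [hs]; group
    have hm : ((c : G ⧸ (S : Subgroup G)).out)⁻¹ * x * (c : G ⧸ (S : Subgroup G)).out ∉ (S : Subgroup G) := by
      rw [e]
      intro h'
      apply h
      have := mul_mem (mul_mem s.2 h') (inv_mem s.2)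
      simpa [mul_assoc] using this
    show (if h : _ then ϕ ⟨_, h⟩ else 1) = _
    rw [dif_neg hm]
  have hV := transfer_involution (S : Subgroup G) ϕ x hx2 F hFmk hFmk2
  -- invariance
  have hinv : ∀ (s : ↥(S : Subgroup G)) (y : G ⧸ (S : Subgroup G)), F (s • y) = F y := by
    intro s y
    obtain ⟨c, rfl⟩ := QuotientGroup.mk_surjective y
    have e0 : s • (c : G ⧸ (S : Subgroup G)) = (((s : G) * c : G) : G ⧸ (S : Subgroup G)) := rfl
    have e : ((s : G) * c)⁻¹ * x * ((s : G) * c) = c⁻¹ * x * c := by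
      have : x * (s : G) = s * x := mem_centralizer_iff.1 hxC s s.2 |>.symm
      rw [mul_inv_rev]
      calc c⁻¹ * (s : G)⁻¹ * x * ((s : G) * c) = c⁻¹ * (s : G)⁻¹ * (x * s) * c := by group
        _ = c⁻¹ * (s : G)⁻¹ * (s * x) * c := by rw [this]
        _ = c⁻¹ * x * c := by group
    rw [e0]
    by_cases h : c⁻¹ * x * c ∈ (S : Subgroup G)
    · have h' : ((s : G) * c)⁻¹ * x * ((s : G) * c) ∈ (S : Subgroup G) := by rw [e]; exact h
      rw [hFmk _ h', hFmk _ h]
      exact congrArg ϕ (Subtype.ext e)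
    · have h' : ((s : G) * c)⁻¹ * x * ((s : G) * c) ∉ (S : Subgroup G) := by rw [e]; exact h
      rw [hFmk2 _ h', hFmk2 _ h]
  -- the fixed points
  have hfixF : ∀ y ∈ fixedPoints ↥(S : Subgroup G) (G ⧸ (S : Subgroup G)), F y = w := by
    intro y hy
    obtain ⟨c, rfl⟩ := QuotientGroup.mk_surjective y
    have hc : c ∈ normalizer ((S : Subgroup G) : Set G) := Sylow.mem_fixedPoints_mul_left_cosets_iff_mem_normalizer.1 hy
    have h4 := h3 c⁻¹ (inv_mem hc) x hxΩ
    have e : c⁻¹ * x * c = x := by simpa using h4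
    have h' : c⁻¹ * x * c ∈ (S : Subgroup G) := by rw [e]; exact hxS
    rw [hFmk _ h']
    exact congrArg ϕ (Subtype.ext e)
  -- counting
  have hodd : Odd (Nat.card {y // F y ≠ 1}) := by
    let E : SubMulAction ↥(S : Subgroup G) (G ⧸ (S : Subgroup G)) :=
      { carrier := {y | F y ≠ 1}
        smul_mem' := by
          intro s y hy
          show F (s • y) ≠ 1
          rw [hinv]
          exact hy }
    have h5 := IsPGroup.card_modEq_card_fixedPoints (G := ↥(S : Subgroup G)) S.2 (↥E)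
    have h6 := IsPGroup.card_modEq_card_fixedPoints (G := ↥(S : Subgroup G)) S.2 (G ⧸ (S : Subgroup G))
    have h7 : Nat.card (fixedPoints ↥(S : Subgroup G) ↥E) = Nat.card (fixedPoints ↥(S : Subgroup G) (G ⧸ (S : Subgroup G))) := by
      refine Nat.card_congr ⟨fun y => ⟨y.1.1, fun s => ?_⟩, fun y => ⟨⟨y.1, ?_⟩, fun s => ?_⟩, ?_, ?_⟩
      · exact congrArg Subtype.val (y.2 s)
      · show F y.1 ≠ 1
        rw [hfixF _ y.2]
        exact hw
      · exact Subtype.ext (y.2 s)
      · intro y; rfl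
      · intro y; rfl
    have h8 : Nat.card (↥E) = Nat.card {y // F y ≠ 1} := rfl
    rw [← h8]
    have h9 : ¬ 2 ∣ Nat.card (G ⧸ (S : Subgroup G)) := by
      rw [← Subgroup.index_eq_card]
      exact Sylow.not_dvd_index S
    rw [← Nat.not_even_iff_odd, even_iff_two_dvd]
    intro h10
    apply h9
    have h11 : Nat.card (G ⧸ (S : Subgroup G)) ≡ Nat.card ↥E [MOD 2] := by
      refine h6.trans ?_
      rw [← h7]
      exact h5.symm
    exact (Nat.modEq_zero_iff_dvd.1 (h11.trans (Nat.modEq_zero_iff_dvd.2 h10)))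
  have hVx : ϕ.transfer x = w := by
    rw [hV]
    exact prod_two hQc F hw hodd
  -- conclusion
  set K := (ϕ.transfer).ker with hK
  have hKp : IsPGroup 2 (G ⧸ K) := by
    intro q
    obtain ⟨g, rfl⟩ := QuotientGroup.mk_surjective q
    refine ⟨1, ?_⟩
    rw [pow_one, ← QuotientGroup.mk_pow, QuotientGroup.eq_one_iff]
    show ϕ.transfer (g ^ 2) = 1
    rw [map_pow]
    have := pow_card_eq_one' (x := ϕ.transfer g)
    rwa [hQc] at this
  have hres := Cfsg.Agent.Lib.PNilp.pResidual_le_of_isPGroup_quotient K hKp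
  rw [h1] at hres
  have : ϕ.transfer x = 1 := hres (mem_top x)
  rw [hVx] at this
  exact hw this

end Cfsg.Agent.Lib.LTrich
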