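import Mathlib
import Cfsg.Prelude.Def_IsolatedElements
import Cfsg.Agent.Lib.LIso2
import Cfsg.Agent.Lib.PGrp8
import Cfsg.Agent.Lib.PJ4
import Cfsg.Agent.Lib.H1Cop
import Cfsg.Agent.Lib.PZJ7

set_option autoImplicit false
set_option linter.unusedSectionVars false
set_option linter.unusedVariables false
set_option linter.style.haveILetI false

namespace Cfsg.Agent.Lib.LZStar

open Subgroup Cfsg Cfsg.Agent.Lib.H1Core

variable {G : Type*} [Group G] [Finite G] {p : ℕ} [Fact p.Prime]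

theorem cyclic_sylow_of_rank (hp : p ≠ 2) (hrk : PRankLE p 1 G) (P : Sylow p G) : IsCyclic ↥(P : Subgroup G) := by
  by_contra hnc
  have hpp : p.Prime := Fact.out
  obtain ⟨A, -, hAe, hAc⟩ := Cfsg.Agent.Lib.PGrp.exists_elem_sq_of_noncyclic hp P.isPGroup' hnc
  have h1 := hrk (A.map (P : Subgroup G).subtype) (by
    exact Cfsg.Agent.Lib.PZJ.isMulComm_map hAe.1 _) (by
    rintro _ ⟨a, ha, rfl⟩
    have := hAe.2 a ha
    simpa using congrArg Subtype.val this)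
  rw [Subgroup.card_map_of_injective (Subgroup.subtype_injective _), hAc, pow_one] at h1
  have h2 : p * 1 < p * p := Nat.mul_lt_mul_of_pos_left hpp.one_lt hpp.pos
  rw [sq] at h1
  omega

theorem s2971 (hp : p ≠ 2) (hrk : PRankLE p 1 G) (x : G) (hx : orderOf x = p) (hiso : IsIsolated x) :
    InZStar p x := by
  classical
  have hpp : p.Prime := Fact.out
  have hx1 : x ≠ 1 := by
    rintro rfl
    rw [orderOf_one] at hx
    exact hpp.one_lt.ne hx
  obtain ⟨P, N, hN, hc⟩ := Cfsg.Agent.Lib.LIso.isolated_cyclic_npc x ⟨1, by rw [pow_one]; exact hx⟩ hiso hx1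
    (fun P => cyclic_sylow_of_rank hp hrk P)
  haveI := hN
  have hNle : N ≤ pPrimeCore p G := by
    apply le_pPrimeCore hN
    rw [← hc.index_eq_card]
    rw [Nat.coprime_comm, hpp.coprime_iff_not_dvd]
    exact P.not_dvd_index
  haveI := cyclic_sylow_of_rank hp hrk P
  intro g
  apply hNle
  rw [← QuotientGroup.eq_one_iff]
  have hsup : N ⊔ (P : Subgroup G) = ⊤ := hc.sup_eq_top
  have hdec : ∀ y : G, ∃ r ∈ (P : Subgroup G), ((y : G ⧸ N)) = ((r : G) : G ⧸ N) := by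
    intro y
    have hy : y ∈ N ⊔ (P : Subgroup G) := by rw [hsup]; exact mem_top y
    obtain ⟨n, hn, r, hr, rfl⟩ := Subgroup.mem_sup_of_normal_left.1 hy
    refine ⟨r, hr, ?_⟩
    rw [QuotientGroup.mk_mul, (QuotientGroup.eq_one_iff n).2 hn, one_mul]
  obtain ⟨r₁, hr₁, h₁⟩ := hdec g
  obtain ⟨r₂, hr₂, h₂⟩ := hdec x
  have hcomm : r₁ * r₂ = r₂ * r₁ := by
    have := (IsCyclic.commutative (α := ↥(P : Subgroup G))).is_comm.comm ⟨r₁, hr₁⟩ ⟨r₂, hr₂⟩
    exact congrArg Subtype.val this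
  simp only [QuotientGroup.mk_mul, QuotientGroup.mk_inv, h₁, h₂]
  rw [← QuotientGroup.mk_mul, hcomm, QuotientGroup.mk_mul]
  group

theorem core_bot (x : G) (hnz : ¬ InZStar p x)
    (hquot : ∀ (N : Subgroup G) [N.Normal], N ≠ ⊥ → InZStar p (QuotientGroup.mk x : G ⧸ N)) :
    pPrimeCore p G = ⊥ := by
  by_contra hne
  haveI : (pPrimeCore p G).Normal := pPrimeCore_normal p G
  have h := hquot (pPrimeCore p G) hne
  apply hnz
  intro g
  have h1 := h (g : G ⧸ pPrimeCore p G)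
  rw [Cfsg.Agent.Lib.PJ.pPrimeCore_quot, Subgroup.mem_bot] at h1
  rw [← QuotientGroup.eq_one_iff]
  simpa using h1

theorem part2 (x : G) (hx : orderOf x = p) (hiso : IsIsolated x) (q : ℕ) [Fact q.Prime] (S₁ S₂ : Sylow q G)
    (h₁ : x ∈ normalizer ((S₁ : Subgroup G) : Set G)) (h₂ : x ∈ normalizer ((S₂ : Subgroup G) : Set G)) :
    ∃ c ∈ centralizer ({x} : Set G), (S₁ : Subgroup G).map (MulAut.conj c).toMonoidHom = (S₂ : Subgroup G) := by
  classical
  obtain ⟨g, hg⟩ := MulAction.exists_smul_eq G S₁ S₂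
  have hgc : ((g • S₁ : Sylow q G) : Subgroup G) = (S₁ : Subgroup G).map (MulAut.conj g).toMonoidHom := by
    rw [Sylow.coe_subgroup_smul]; rfl
  have hS₂ : (S₂ : Subgroup G) = (S₁ : Subgroup G).map (MulAut.conj g).toMonoidHom := by
    rw [← hg, hgc]
  obtain ⟨N, hN⟩ : ∃ N : Subgroup G, N = normalizer ((S₁ : Subgroup G) : Set G) := ⟨_, rfl⟩
  have hxN : x ∈ N := by rw [hN]; exact h₁
  have hyN : g⁻¹ * x * g ∈ N := by
    rw [hN, Subgroup.mem_normalizer_iff]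
    intro s
    have h3 := (Subgroup.mem_normalizer_iff.1 h₂) (g * s * g⁻¹)
    have h4 : g * s * g⁻¹ ∈ (S₂ : Subgroup G) ↔ s ∈ (S₁ : Subgroup G) := by
      rw [hS₂]
      constructor
      · rintro ⟨w, hw, he⟩
        have he' : g * w * g⁻¹ = g * s * g⁻¹ := he
        have : w = s := by
          have h5 : g * w = g * s := mul_right_cancel he'
          exact mul_left_cancel h5
        rwa [← this]
      · intro hs
        exact ⟨s, hs, rfl⟩
    have h5 : x * (g * s * g⁻¹) * x⁻¹ ∈ (S₂ : Subgroup G) ↔ (g⁻¹ * x * g) * s * (g⁻¹ * x * g)⁻¹ ∈ (S₁ : Subgroup G) := by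
      have h6 : x * (g * s * g⁻¹) * x⁻¹ = g * ((g⁻¹ * x * g) * s * (g⁻¹ * x * g)⁻¹) * g⁻¹ := by group
      rw [h6]
      rw [hS₂]
      constructor
      · rintro ⟨w, hw, he⟩
        have he' : g * w * g⁻¹ = g * ((g⁻¹ * x * g) * s * (g⁻¹ * x * g)⁻¹) * g⁻¹ := he
        have : w = (g⁻¹ * x * g) * s * (g⁻¹ * x * g)⁻¹ := by
          have h7 := mul_right_cancel he'
          exact mul_left_cancel h7
        rwa [← this]
      · intro hs
        exact ⟨_, hs, rfl⟩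
    rw [← h5, ← h3, h4]
  have hxp : ∃ k : ℕ, orderOf x = p ^ k := ⟨1, by rw [pow_one]; exact hx⟩
  have hyp : ∃ k : ℕ, orderOf (g⁻¹ * x * g) = p ^ k := by
    refine ⟨1, ?_⟩
    have := MulEquiv.orderOf_eq (MulAut.conj g⁻¹) x
    simp only [MulAut.conj_apply, inv_inv] at this
    rw [this, pow_one, hx]
  obtain ⟨T, hT⟩ := Cfsg.Agent.Lib.LIso.exists_sylow_mem N hxN hxp
  obtain ⟨T', hT'⟩ := Cfsg.Agent.Lib.LIso.exists_sylow_mem N hyN hyp
  obtain ⟨n, hn⟩ := MulAction.exists_smul_eq (↥N) T' T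
  have hmem : n * (⟨g⁻¹ * x * g, hyN⟩ : ↥N) * n⁻¹ ∈ (T : Subgroup ↥N) := by
    rw [← hn, Cfsg.Agent.Lib.H1Core.mem_sylow_smul]
    simpa [mul_assoc] using hT'
  -- extend to a Sylow subgroup of `G`
  have hTp : IsPGroup p ((T : Subgroup ↥N).map N.subtype) := T.isPGroup'.map _
  obtain ⟨R, hR⟩ := hTp.exists_le_sylow
  have hxR : x ∈ (R : Subgroup G) := hR ⟨⟨x, hxN⟩, hT, rfl⟩
  have hyR : (n : G) * (g⁻¹ * x * g) * (n : G)⁻¹ ∈ (R : Subgroup G) := hR ⟨_, hmem, rfl⟩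
  have hiso2 := Cfsg.Agent.Lib.LIso.isolated_pelt_conj_eq R hxR hiso ((n : G) * g⁻¹) (by
    have : ((n : G) * g⁻¹) * x * ((n : G) * g⁻¹)⁻¹ = (n : G) * (g⁻¹ * x * g) * (n : G)⁻¹ := by group
    rw [this]; exact hyR)
  refine ⟨g * (n : G)⁻¹, ?_, ?_⟩
  · rw [Subgroup.mem_centralizer_singleton_iff]
    have h1 : x * ((n : G) * g⁻¹) = ((n : G) * g⁻¹) * x := by
      calc x * ((n : G) * g⁻¹) = (((n : G) * g⁻¹) * x * ((n : G) * g⁻¹)⁻¹) * ((n : G) * g⁻¹) := by rw [hiso2]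
        _ = ((n : G) * g⁻¹) * x := by group
    calc g * (n : G)⁻¹ * x = g * (n : G)⁻¹ * (x * ((n : G) * g⁻¹)) * (g * (n : G)⁻¹) := by group
      _ = g * (n : G)⁻¹ * (((n : G) * g⁻¹) * x) * (g * (n : G)⁻¹) := by rw [h1]
      _ = x * (g * (n : G)⁻¹) := by group
  · rw [hS₂]
    ext y
    have hnn : (n : G)⁻¹ ∈ normalizer ((S₁ : Subgroup G) : Set G) := by
      rw [← hN]; exact inv_mem n.2
    constructor
    · rintro ⟨w, hw, rfl⟩
      refine ⟨(n : G)⁻¹ * w * (n : G)⁻¹⁻¹, (Subgroup.mem_normalizer_iff.1 hnn w).1 hw, ?_⟩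
      show g * ((n : G)⁻¹ * w * (n : G)⁻¹⁻¹) * g⁻¹ = g * (n : G)⁻¹ * w * (g * (n : G)⁻¹)⁻¹
      group
    · rintro ⟨w, hw, rfl⟩
      refine ⟨(n : G) * w * (n : G)⁻¹, ?_, ?_⟩
      · have := (Subgroup.mem_normalizer_iff.1 (inv_mem hnn) w).1 hw
        simp only [inv_inv] at this
        exact this
      · show g * (n : G)⁻¹ * ((n : G) * w * (n : G)⁻¹) * (g * (n : G)⁻¹)⁻¹ = g * w * g⁻¹
        group

theorem part1_self (x : G) (hx : orderOf x = p) (Q : Subgroup G) (hQ : IsPGroup p Q)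
    (hxQ : x ∈ normalizer (Q : Set G))
    (hmax : ∀ R : Subgroup G, IsPGroup p R → x ∈ normalizer (R : Set G) → Q ≤ R → R = Q) :
    ∃ S : Sylow p G, (S : Subgroup G) = Q := by
  classical
  have hxp : IsPGroup p (zpowers x) := by
    rw [IsPGroup.iff_card, Nat.card_zpowers, hx]
    exact ⟨1, by rw [pow_one]⟩
  have h1 : IsPGroup p ↥(zpowers x ⊔ Q) := IsPGroup.to_sup_of_normal_right' hxp hQ (by
    rw [zpowers_le]; exact hxQ)
  have h2 := hmax _ h1 (Subgroup.le_normalizer (Subgroup.mem_sup_left (mem_zpowers x))) le_sup_right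
  have hxQ' : x ∈ Q := by
    rw [← h2]; exact Subgroup.mem_sup_left (mem_zpowers x)
  obtain ⟨S, hS⟩ := hQ.exists_le_sylow
  refine ⟨S, hmax _ S.isPGroup' (Subgroup.le_normalizer (hS hxQ')) hS⟩

theorem part1_other (x : G) (hx : orderOf x = p) (hnz : ¬ InZStar p x)
    (hmin : ∀ (H : Subgroup G) (hxH : x ∈ H), H ≠ ⊤ → InZStar p (⟨x, hxH⟩ : ↥H))
    (hquot : ∀ (N : Subgroup G) [N.Normal], N ≠ ⊥ → InZStar p (QuotientGroup.mk x : G ⧸ N))
    (q : ℕ) [Fact q.Prime] (hqp : q ≠ p) (Q : Subgroup G) (hQ : IsPGroup q Q)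
    (hxQ : x ∈ normalizer (Q : Set G))
    (hmax : ∀ R : Subgroup G, IsPGroup q R → x ∈ normalizer (R : Set G) → Q ≤ R → R = Q) :
    Q = ⊥ ∨ ∃ S : Sylow q G, (S : Subgroup G) = Q := by
  classical
  have hpp : p.Prime := Fact.out
  have hqq : q.Prime := Fact.out
  by_cases hQ1 : Q = ⊥
  · exact Or.inl hQ1
  right
  have hcb := core_bot x hnz hquot
  have hcq : ∀ R : Subgroup G, IsPGroup q R → (Nat.card R).Coprime p := by
    intro R hR
    obtain ⟨k, hk⟩ := IsPGroup.iff_card.1 hR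
    rw [hk]
    exact Nat.Coprime.pow_left _ ((Nat.coprime_primes hqq hpp).2 hqp)
  obtain ⟨N, hN⟩ : ∃ N : Subgroup G, N = normalizer (Q : Set G) := ⟨_, rfl⟩
  have hxN : x ∈ N := by rw [hN]; exact hxQ
  have hNtop : N ≠ ⊤ := by
    intro h
    apply hQ1
    have hnorm : Q.Normal := by
      rw [hN] at h
      exact Subgroup.normalizer_eq_top_iff.1 h
    have := le_pPrimeCore hnorm (hcq Q hQ)
    rw [hcb] at this
    exact le_bot_iff.1 this
  have hZ := hmin N hxN hNtop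
  have hQN : Q ≤ N := by rw [hN]; exact Subgroup.le_normalizer
  -- a Sylow `q`-subgroup of `G` containing `Q`
  obtain ⟨S, hS⟩ := hQ.exists_le_sylow
  refine ⟨S, ?_⟩
  by_contra hne
  have hlt : Q < (S : Subgroup G) := lt_of_le_of_ne hS (Ne.symm hne)
  obtain ⟨y, hyS, hyQ, hyN'⟩ := Cfsg.Agent.Lib.PZJ.exists_normalizing_elt S.isPGroup' hlt
  have hyN : y ∈ N := by rw [hN]; exact hyN'
  -- a Sylow subgroup of `N` containing `N_S(Q)`
  have hU : IsPGroup q (((S : Subgroup G) ⊓ N).subgroupOf N) :=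
    ((S.isPGroup'.to_le inf_le_left)).comap_subtype
  obtain ⟨T, hT⟩ := hU.exists_le_sylow
  obtain ⟨T', hT'⟩ : ∃ T' : Subgroup G, T' = (T : Subgroup ↥N).map N.subtype := ⟨_, rfl⟩
  have hT'N : T' ≤ N := by rw [hT']; exact Subgroup.map_subtype_le _
  have hT'p : IsPGroup q T' := by rw [hT']; exact T.isPGroup'.map _
  have hQT' : Q ≤ T' := by
    intro z hz
    have hz' : (⟨z, hQN hz⟩ : ↥N) ∈ (T : Subgroup ↥N) := by
      apply hT
      rw [Subgroup.mem_subgroupOf]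
      exact ⟨hS hz, hQN hz⟩
    rw [hT']
    exact ⟨_, hz', rfl⟩
  have hyT' : y ∈ T' := by
    have hy' : (⟨y, hyN⟩ : ↥N) ∈ (T : Subgroup ↥N) := by
      apply hT
      rw [Subgroup.mem_subgroupOf]
      exact ⟨hyS, hyN⟩
    rw [hT']
    exact ⟨_, hy', rfl⟩
  -- `A = O_{p'}(N)`
  obtain ⟨A, hA⟩ : ∃ A : Subgroup G, A = (pPrimeCore p ↥N).map N.subtype := ⟨_, rfl⟩
  have hAN : A ≤ N := by rw [hA]; exact Subgroup.map_subtype_le _
  have hAc : (Nat.card A).Coprime p := by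
    rw [hA, Subgroup.card_map_of_injective (Subgroup.subtype_injective _)]
    exact pPrimeCore_coprime p
  have hAn : ∀ n ∈ N, ∀ a ∈ A, n * a * n⁻¹ ∈ A := by
    intro n hn a ha
    rw [hA] at ha ⊢
    obtain ⟨w, hw, rfl⟩ := ha
    have := (pPrimeCore_normal p ↥N).conj_mem w hw ⟨n, hn⟩
    exact ⟨_, this, rfl⟩
  have hcomm : ∀ n ∈ N, n * x * n⁻¹ * x⁻¹ ∈ A := by
    intro n hn
    have := hZ ⟨n, hn⟩
    rw [hA]
    exact ⟨_, this, rfl⟩
  obtain ⟨K, hK⟩ : ∃ K : Subgroup G, K = A ⊔ T' := ⟨_, rfl⟩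
  have hKN : K ≤ N := by rw [hK]; exact sup_le hAN hT'N
  have hxK : ∀ k ∈ K, x * k * x⁻¹ ∈ K := by
    have h1 : K ≤ K.comap (MulAut.conj x).toMonoidHom := by
      rw [hK]
      apply sup_le
      · intro a ha
        exact Subgroup.mem_sup_left (hAn x hxN a ha)
      · intro t ht
        show x * t * x⁻¹ ∈ A ⊔ T'
        have h2 : x * t * x⁻¹ = (t * x * t⁻¹ * x⁻¹)⁻¹ * t := by group
        rw [h2]
        exact mul_mem (Subgroup.mem_sup_left (inv_mem (hcomm t (hT'N ht)))) (Subgroup.mem_sup_right ht)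
    exact fun k hk => h1 hk
  have hAK : zpowers x ≤ normalizer (K : Set G) := by
    rw [zpowers_le]
    exact Cfsg.Agent.Lib.PGlaub.mem_normalizer_of_conj_mem hxK
  have hcop : (Nat.card (zpowers x)).Coprime (Nat.card K) := by
    rw [Nat.card_zpowers, hx]
    have h1 : T' ≤ normalizer (A : Set G) := by
      intro t ht
      apply Cfsg.Agent.Lib.PGlaub.mem_normalizer_of_conj_mem
      exact fun a ha => hAn t (hT'N ht) a ha
    have h2 := Cfsg.Agent.Lib.H1Cop.card_sup_mul_inf_of_normalizes h1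
    rw [sup_comm, ← hK] at h2
    have h3 : Nat.card K ∣ Nat.card T' * Nat.card A := ⟨_, h2.symm⟩
    have h4 : (Nat.card T' * Nat.card A).Coprime p := Nat.Coprime.mul_left (hcq T' hT'p) hAc
    exact (Nat.Coprime.coprime_dvd_left h3 h4).symm
  have hQK : Q ≤ K := by rw [hK]; exact hQT'.trans le_sup_right
  obtain ⟨R, hR, hQR, hRn⟩ := Cfsg.Agent.Lib.H1Cop.exists_invariant_sylow_containing hAK hcop
    (Or.inl inferInstance) q hQK hQ (by rw [zpowers_le]; exact hxQ)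
  have hRQ : R = Q := hmax R hR.2.1 (hRn (mem_zpowers x)) hQR
  subst hRQ
  have hrel := hR.2.2
  apply hrel
  have hTK : T' ≤ K := by rw [hK]; exact le_sup_right
  have h1 := Subgroup.relIndex_mul_relIndex R T' K hQT' hTK
  rw [← h1]
  apply Dvd.dvd.mul_right
  have h2 := Cfsg.Agent.Lib.PNilp.card_mul_relIndex' R T' hQT'
  obtain ⟨k, hk⟩ := IsPGroup.iff_card.1 hT'p
  have h3 : R.relIndex T' ∣ q ^ k := by
    rw [← hk, ← h2]; exact dvd_mul_left _ _
  obtain ⟨i, _, hi⟩ := (Nat.dvd_prime_pow hqq).1 h3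
  rw [hi]
  have hi0 : i ≠ 0 := by
    rintro rfl
    rw [pow_zero, Subgroup.relIndex_eq_one] at hi
    exact hyQ (hi hyT')
  exact dvd_pow_self q hi0

theorem s2975 (x : G) (hx : orderOf x = p) (hiso : IsIsolated x) (hnz : ¬ InZStar p x)
    (hmin : ∀ (H : Subgroup G) (hxH : x ∈ H), H ≠ ⊤ → InZStar p (⟨x, hxH⟩ : ↥H))
    (hquot : ∀ (N : Subgroup G) [N.Normal], N ≠ ⊥ → InZStar p (QuotientGroup.mk x : G ⧸ N))
    (q : ℕ) [Fact q.Prime] :
    (∀ Q : Subgroup G, IsPGroup q ↥Q → x ∈ normalizer (Q : Set G) →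
      (∀ R : Subgroup G, IsPGroup q ↥R → x ∈ normalizer (R : Set G) → Q ≤ R → R = Q) →
        Q = ⊥ ∨ ∃ S : Sylow q G, (S : Subgroup G) = Q) ∧
    (∀ S₁ S₂ : Sylow q G, x ∈ normalizer ((S₁ : Subgroup G) : Set G) → x ∈ normalizer ((S₂ : Subgroup G) : Set G) →
      ∃ c ∈ centralizer ({x} : Set G), (S₁ : Subgroup G).map (MulAut.conj c).toMonoidHom = (S₂ : Subgroup G)) := by
  refine ⟨fun Q hQ hxQ hmax => ?_, fun S₁ S₂ h₁ h₂ => part2 x hx hiso q S₁ S₂ h₁ h₂⟩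
  by_cases hqp : q = p
  · subst hqp
    exact Or.inr (part1_self x hx Q hQ hxQ hmax)
  · exact part1_other x hx hnz hmin hquot q hqp Q hQ hxQ hmax

end Cfsg.Agent.Lib.LZStar
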