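import Mathlib
import Cfsg.Agent.Lib.LZStar
import Cfsg.Agent.Lib.PGrp9
import Cfsg.Agent.Lib.Comp
import Cfsg.Agent.Lib.Comp2
import Cfsg.Agent.Lib.PGlaub

set_option autoImplicit false
set_option linter.unusedSectionVars false
set_option linter.unusedVariables false
set_option linter.style.haveILetI false

namespace Cfsg.Agent.Lib.LZStar

open Subgroup Cfsg Cfsg.Agent.Lib.H1Core

variable {G : Type*} [Group G] [Finite G] {p : ℕ} [Fact p.Prime]

/-- A `p'`-subgroup of a normal subgroup normalized by it is trivial when `O_{p'}(G) = 1`. -/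
theorem trivial_of_core (hcb : pPrimeCore p G = ⊥) (N : Subgroup G) (hN : N.Normal) (Y : Subgroup G) (hYN : Y ≤ N)
    (hYn : ∀ n ∈ N, ∀ y ∈ Y, n * y * n⁻¹ ∈ Y) (hYc : (Nat.card Y).Coprime p) : Y = ⊥ := by
  classical
  haveI : (Y.subgroupOf N).Normal := by
    constructor
    intro y hy n
    rw [Subgroup.mem_subgroupOf] at hy ⊢
    exact hYn n.1 n.2 y.1 hy
  have h1 : Y.subgroupOf N ≤ pPrimeCore p ↥N := by
    apply le_pPrimeCore inferInstance
    rwa [show Nat.card (Y.subgroupOf N) = Nat.card Y from Nat.card_congr (subgroupOfEquivOfLe hYN).toEquiv]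
  haveI hW : ((pPrimeCore p ↥N).map N.subtype).Normal :=
    Cfsg.Agent.Lib.Comp.normal_map_of_char hN (pPrimeCore p ↥N) (Cfsg.Agent.Lib.Comp2.pPrimeCore_char p)
  have h2 : (pPrimeCore p ↥N).map N.subtype ≤ pPrimeCore p G := by
    apply le_pPrimeCore hW
    rw [Subgroup.card_map_of_injective (Subgroup.subtype_injective _)]
    exact pPrimeCore_coprime p
  rw [hcb] at h2
  rw [eq_bot_iff]
  intro y hy
  have h3 : (⟨y, hYN hy⟩ : ↥N) ∈ Y.subgroupOf N := by
    rw [Subgroup.mem_subgroupOf]; exact hy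
  exact h2 ⟨_, h1 h3, rfl⟩

theorem s2972 (x : G) (hx : orderOf x = p) (hiso : IsIsolated x) (hnz : ¬ InZStar p x)
    (hmin : ∀ (H : Subgroup G) (hxH : x ∈ H), H ≠ ⊤ → InZStar p (⟨x, hxH⟩ : ↥H))
    (hquot : ∀ (N : Subgroup G) [N.Normal], N ≠ ⊥ → InZStar p (QuotientGroup.mk x : G ⧸ N)) :
    IsSimpleGroup ↥(commutator G) ∧ ¬ IsMulCommutative ↥(commutator G) ∧ commutator G ⊔ zpowers x = ⊤ := by
  classical
  have hpp : p.Prime := Fact.out
  have hcb := core_bot x hnz hquot
  have hx1 : x ≠ 1 := by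
    rintro rfl
    rw [orderOf_one] at hx
    exact hpp.one_lt.ne hx
  have hnc : ¬ ∀ g : G, g * x * g⁻¹ = x := fun h => hnz (fun g => by
    rw [h g, mul_inv_cancel]; exact one_mem _)
  have hxp : IsPGroup p (zpowers x) := by
    rw [IsPGroup.iff_card, Nat.card_zpowers, hx]
    exact ⟨1, by rw [pow_one]⟩
  have hY := trivial_of_core hcb
  -- the normal closure of `x`
  have hL : normalClosure ({x} : Set G) = ⊤ := by
    by_contra hne
    have hxL : x ∈ normalClosure ({x} : Set G) := Subgroup.subset_normalClosure rfl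
    have hZ := hmin _ hxL hne
    apply hnc
    intro g
    apply hiso
    -- `pPrimeCore` of the closure is trivial
    have hgx : g * x * g⁻¹ ∈ normalClosure ({x} : Set G) :=
      Subgroup.Normal.conj_mem inferInstance x hxL g
    have hw := hZ ⟨_, hgx⟩
    have hW : (pPrimeCore p ↥(normalClosure ({x} : Set G))).map (normalClosure ({x} : Set G)).subtype = ⊥ := by
      apply hY _ inferInstance _ (Subgroup.map_subtype_le _)
      · rintro n hn _ ⟨w, hw, rfl⟩
        exact ⟨_, (pPrimeCore_normal p _).conj_mem w hw ⟨n, hn⟩, rfl⟩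
      · rw [Subgroup.card_map_of_injective (Subgroup.subtype_injective _)]
        exact pPrimeCore_coprime p
    have h1 : (g * x * g⁻¹) * x * (g * x * g⁻¹)⁻¹ * x⁻¹ = 1 := by
      have : (g * x * g⁻¹) * x * (g * x * g⁻¹)⁻¹ * x⁻¹ ∈
          (pPrimeCore p ↥(normalClosure ({x} : Set G))).map (normalClosure ({x} : Set G)).subtype :=
        ⟨_, hw, rfl⟩
      rw [hW] at this
      exact this
    have h2 : (g * x * g⁻¹) * x * (g * x * g⁻¹)⁻¹ = x := mul_inv_eq_one.1 h1
    exact (mul_inv_eq_iff_eq_mul.1 h2).symm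
  -- a minimal normal subgroup
  obtain ⟨N, hNm⟩ := (Set.toFinite {N : Subgroup G | N.Normal ∧ N ≠ ⊥}).exists_minimal
    ⟨⊤, inferInstance, fun h => hx1 (by
      have : x ∈ (⊤ : Subgroup G) := mem_top x
      rw [h] at this
      exact this)⟩
  obtain ⟨hNn, hN1⟩ := hNm.1
  haveI := hNn
  have hNmin : ∀ Y : Subgroup G, Y.Normal → Y ≠ ⊥ → Y ≤ N → N ≤ Y := fun Y h1 h2 h3 => hNm.2 ⟨h1, h2⟩ h3
  have hcoprime_of_pgroup : ∀ (r : ℕ), r.Prime → r ≠ p → ∀ R : Subgroup G, IsPGroup r R → (Nat.card R).Coprime p := by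
    intro r hr hrp R hR
    haveI : Fact r.Prime := ⟨hr⟩
    obtain ⟨k, hk⟩ := IsPGroup.iff_card.1 hR
    rw [hk]
    exact Nat.Coprime.pow_left _ ((Nat.coprime_primes hr hpp).2 hrp)
  -- abelian minimal normal subgroups are `p`-groups
  have hNab : IsMulCommutative N → IsPGroup p N := by
    intro hab
    have hcommN : ∀ a ∈ N, ∀ b ∈ N, a * b = b * a := by
      intro a ha b hb
      have h := hab.is_comm.comm (⟨a, ha⟩ : N) ⟨b, hb⟩
      simpa using congrArg Subtype.val h
    obtain ⟨n, hn⟩ := Subgroup.ne_bot_iff_exists_ne_one.1 hN1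
    have hn1 : orderOf n.1 ≠ 1 := by
      intro h
      exact hn (Subtype.ext (orderOf_eq_one_iff.1 h))
    have hr : (orderOf n.1).minFac.Prime := Nat.minFac_prime hn1
    obtain ⟨r, hrd⟩ : ∃ r, r = (orderOf n.1).minFac := ⟨_, rfl⟩
    rw [← hrd] at hr
    haveI : Fact r.Prime := ⟨hr⟩
    have hy : orderOf (n.1 ^ (orderOf n.1 / r)) = r :=
      orderOf_pow_orderOf_div (orderOf_pos _).ne' (by rw [hrd]; exact Nat.minFac_dvd _)
    obtain ⟨y, hyd⟩ : ∃ y, y = n.1 ^ (orderOf n.1 / r) := ⟨_, rfl⟩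
    rw [← hyd] at hy
    have hyN : y ∈ N := by rw [hyd]; exact pow_mem n.2 _
    have hyr : y ^ r = 1 := by rw [← hy]; exact pow_orderOf_eq_one y
    have hy1 : y ≠ 1 := by
      rintro rfl
      rw [orderOf_one] at hy
      exact hr.one_lt.ne hy
    obtain ⟨Ω, hΩ⟩ : ∃ Ω : Subgroup G, ∀ z, z ∈ Ω ↔ z ∈ N ∧ z ^ r = 1 := by
      refine ⟨{ carrier := {z | z ∈ N ∧ z ^ r = 1}
                one_mem' := ⟨one_mem _, one_pow _⟩
                mul_mem' := ?_
                inv_mem' := ?_ }, fun z => Iff.rfl⟩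
      · rintro a b ⟨ha, ha'⟩ ⟨hb, hb'⟩
        refine ⟨mul_mem ha hb, ?_⟩
        have : Commute a b := hcommN a ha b hb
        rw [this.mul_pow, ha', hb', one_mul]
      · rintro a ⟨ha, ha'⟩
        exact ⟨inv_mem ha, by rw [inv_pow, ha', inv_one]⟩
    have hΩn : Ω.Normal := by
      constructor
      intro z hz g
      rw [hΩ] at hz ⊢
      refine ⟨hNn.conj_mem z hz.1 g, ?_⟩
      rw [conj_pow, hz.2]
      group
    have hΩ1 : Ω ≠ ⊥ := by
      intro h
      have : y ∈ Ω := (hΩ y).2 ⟨hyN, hyr⟩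
      rw [h] at this
      exact hy1 this
    have hNΩ := hNmin Ω hΩn hΩ1 (fun z hz => ((hΩ z).1 hz).1)
    have hNr : IsPGroup r N := by
      rintro ⟨z, hz⟩
      refine ⟨1, Subtype.ext ?_⟩
      have := ((hΩ z).1 (hNΩ hz)).2
      simpa using this
    by_cases hrp : r = p
    · rw [hrp] at hNr; exact hNr
    · exfalso
      exact hN1 (hY N hNn N le_rfl (fun n hn y hy => hNn.conj_mem y hy n)
        (hcoprime_of_pgroup r hr hrp N hNr))
  -- `N ⟨x⟩ = G`
  have hNtop : N ⊔ zpowers x = ⊤ := by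
    by_contra hne
    have hxH : x ∈ N ⊔ zpowers x := Subgroup.mem_sup_right (mem_zpowers x)
    have hZ := hmin _ hxH hne
    have hNH : N ≤ N ⊔ zpowers x := le_sup_left
    have hcom : ∀ n ∈ N, n * x = x * n := by
      intro n hn
      have hw := hZ ⟨n, hNH hn⟩
      have hYb : N ⊓ (pPrimeCore p ↥(N ⊔ zpowers x)).map (N ⊔ zpowers x).subtype = ⊥ := by
        apply hY N hNn _ inf_le_left
        · rintro n' hn' y ⟨hy1, w, hw', hwe⟩
          refine ⟨hNn.conj_mem y hy1 n', ?_⟩
          refine ⟨⟨n', hNH hn'⟩ * w * ⟨n', hNH hn'⟩⁻¹, (pPrimeCore_normal p _).conj_mem w hw' _, ?_⟩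
          rw [← hwe]
          rfl
        · have h1 : N ⊓ (pPrimeCore p ↥(N ⊔ zpowers x)).map (N ⊔ zpowers x).subtype ≤
              (pPrimeCore p ↥(N ⊔ zpowers x)).map (N ⊔ zpowers x).subtype := inf_le_right
          have h2 := Subgroup.card_dvd_of_le h1
          rw [Subgroup.card_map_of_injective (Subgroup.subtype_injective _)] at h2
          exact Nat.Coprime.coprime_dvd_left h2 (pPrimeCore_coprime p)
      have h3 : n * x * n⁻¹ * x⁻¹ ∈ N ⊓ (pPrimeCore p ↥(N ⊔ zpowers x)).map (N ⊔ zpowers x).subtype := by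
        refine ⟨?_, ⟨_, hw, rfl⟩⟩
        have h4 : n * x * n⁻¹ * x⁻¹ = n * (x * n⁻¹ * x⁻¹) := by group
        rw [h4]
        exact mul_mem hn (hNn.conj_mem _ (inv_mem hn) x)
      rw [hYb] at h3
      have h4 : n * x * n⁻¹ = x := mul_inv_eq_one.1 h3
      exact mul_inv_eq_iff_eq_mul.1 h4
    -- `N` is central
    have hcenN : ∀ n ∈ N, ∀ g : G, n * g = g * n := by
      intro n hn g
      have hCn : (centralizer (N : Set G)).Normal := Cfsg.Agent.Lib.PGrp.centralizer_normal_of_normal N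
      have h1 : normalClosure ({x} : Set G) ≤ centralizer (N : Set G) := by
        apply Subgroup.normalClosure_le_normal
        rintro y rfl
        rw [SetLike.mem_coe, Subgroup.mem_centralizer_iff]
        intro m hm
        exact hcom m hm
      rw [hL] at h1
      have h2 := h1 (mem_top g)
      rw [Subgroup.mem_centralizer_iff] at h2
      exact h2 n hn
    have hNp : IsPGroup p N := hNab (Cfsg.Agent.Lib.PZJ.isMulComm_of_forall (fun a ha b hb => hcenN a ha b))
    obtain ⟨M, hM⟩ : ∃ M : Subgroup G, M = (pPrimeCore p (G ⧸ N)).comap (QuotientGroup.mk' N) := ⟨_, rfl⟩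
    have hMn : M.Normal := by
      rw [hM]
      haveI : (pPrimeCore p (G ⧸ N)).Normal := pPrimeCore_normal p _
      exact Subgroup.Normal.comap inferInstance _
    have hNM : N ≤ M := by
      intro n hn
      rw [hM, Subgroup.mem_comap]
      have : QuotientGroup.mk' N n = 1 := (QuotientGroup.eq_one_iff n).2 hn
      rw [this]
      exact one_mem _
    have hrel : N.relIndex M = Nat.card (pPrimeCore p (G ⧸ N)) := by
      have h1 : (⊥ : Subgroup (G ⧸ N)).comap (QuotientGroup.mk' N) = N := by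
        ext z
        rw [Subgroup.mem_comap, Subgroup.mem_bot]
        exact (QuotientGroup.eq_one_iff z)
      have h2 : M.map (QuotientGroup.mk' N) = pPrimeCore p (G ⧸ N) := by
        rw [hM]
        exact Subgroup.map_comap_eq_self_of_surjective (QuotientGroup.mk'_surjective N) _
      have h3 := Subgroup.relIndex_comap (f := QuotientGroup.mk' N) ⊥ M
      rw [h1, h2, Subgroup.relIndex_bot_left] at h3
      exact h3
    have hAi : ¬ p ∣ N.relIndex M := by
      rw [hrel]
      have := pPrimeCore_coprime (G := G ⧸ N) p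
      rw [Nat.coprime_comm, hpp.coprime_iff_not_dvd] at this
      exact this
    obtain ⟨K, hKM, hKc, hKn, hKi, hKs⟩ := Cfsg.Agent.Lib.PGrp.exists_complement_of_central_sylow M N hNM hNp hAi
      (fun a ha c _ => hcenN a ha c)
    have hK1 : K = ⊥ := hY M hMn K hKM (fun n hn y hy => (Subgroup.mem_normalizer_iff.1 (hKn hn) y).1 hy) hKc
    have hMN : M = N := by rw [← hKs, hK1, bot_sup_eq]
    apply hnc
    intro g
    apply hiso
    have h1 := hquot N hN1 (g : G ⧸ N)
    have h2 : g * x * g⁻¹ * x⁻¹ ∈ N := by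
      rw [← hMN, hM, Subgroup.mem_comap]
      simpa using h1
    have h3 := hcenN _ h2 x
    show x * (g * x * g⁻¹) = (g * x * g⁻¹) * x
    obtain ⟨c, hc⟩ : ∃ c, c = g * x * g⁻¹ * x⁻¹ := ⟨_, rfl⟩
    rw [← hc] at h3
    have h5 : g * x * g⁻¹ = c * x := by rw [hc]; group
    rw [h5, h3, mul_assoc, h3]
  -- `N` is not abelian
  have hNnab : ¬ IsMulCommutative N := by
    intro hab
    have hNp := hNab hab
    have h1 : IsPGroup p ↥(N ⊔ zpowers x) := IsPGroup.to_sup_of_normal_left' hNp hxp (by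
      intro z _
      exact Subgroup.mem_normalizer_iff.2 (fun y => by
        constructor
        · exact fun hy => hNn.conj_mem y hy z
        · intro hy
          have := hNn.conj_mem _ hy z⁻¹
          simpa [mul_assoc] using this))
    rw [hNtop] at h1
    apply hnc
    intro g
    exact Cfsg.Agent.Lib.LIso.central_of_isolated ⊤ h1 (mem_top x) hiso g (mem_top g)
  -- a minimal `N`-invariant subgroup
  obtain ⟨S, hSm⟩ := (Set.toFinite {Y : Subgroup G | Y ≤ N ∧ (∀ n ∈ N, ∀ y ∈ Y, n * y * n⁻¹ ∈ Y) ∧ Y ≠ ⊥}).exists_minimal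
    ⟨N, le_rfl, fun n hn y hy => hNn.conj_mem y hy n, hN1⟩
  obtain ⟨hSN, hSn, hS1⟩ := hSm.1
  have hSmin : ∀ Y : Subgroup G, Y ≤ N → (∀ n ∈ N, ∀ y ∈ Y, n * y * n⁻¹ ∈ Y) → Y ≠ ⊥ → Y ≤ S → S ≤ Y :=
    fun Y h1 h2 h3 h4 => hSm.2 ⟨h1, h2, h3⟩ h4
  by_cases hxS : x ∈ normalizer (S : Set G)
  · have hSnorm : S.Normal := by
      rw [← Subgroup.normalizer_eq_top_iff, eq_top_iff, ← hNtop]
      apply sup_le
      · intro n hn
        exact Cfsg.Agent.Lib.PGlaub.mem_normalizer_of_conj_mem (hSn n hn)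
      · rw [zpowers_le]; exact hxS
    have hNS := hNmin S hSnorm hS1 hSN
    have hSeq : S = N := le_antisymm hSN hNS
    have hsimple : IsSimpleGroup ↥N := by
      haveI : Nontrivial ↥N := (Subgroup.nontrivial_iff_ne_bot _).2 hN1
      refine ⟨fun J hJ => ?_⟩
      by_cases hJ1 : J = ⊥
      · exact Or.inl hJ1
      right
      have h := hSmin (J.map N.subtype) (Subgroup.map_subtype_le _) (by
        rintro n hn _ ⟨w, hw, rfl⟩
        exact ⟨_, hJ.conj_mem w hw ⟨n, hn⟩, rfl⟩) (by
        intro h0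
        apply hJ1
        exact (Subgroup.map_eq_bot_iff_of_injective _ (Subgroup.subtype_injective _)).1 h0) (by
        rw [hSeq]; exact Subgroup.map_subtype_le _)
      rw [eq_top_iff]
      rintro ⟨z, hz⟩ _
      rw [← hSeq] at hz
      obtain ⟨w, hw, hwe⟩ := h hz
      have : w = ⟨z, hSN hz⟩ := Subtype.ext hwe
      rw [this] at hw
      exact hw
    have hcle : commutator G ≤ N := by
      have hdec : ∀ g : G, ∃ i : ℤ, (g : G ⧸ N) = (x : G ⧸ N) ^ i := by
        intro g
        have hg : g ∈ N ⊔ zpowers x := by rw [hNtop]; exact mem_top g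
        obtain ⟨n, hn, r, hr, rfl⟩ := Subgroup.mem_sup_of_normal_left.1 hg
        obtain ⟨i, rfl⟩ := Subgroup.mem_zpowers_iff.1 hr
        refine ⟨i, ?_⟩
        rw [QuotientGroup.mk_mul, (QuotientGroup.eq_one_iff n).2 hn, one_mul, QuotientGroup.mk_zpow]
      rw [_root_.commutator_def, Subgroup.commutator_le]
      intro a _ b _
      rw [commutatorElement_def, ← QuotientGroup.eq_one_iff]
      obtain ⟨i, hi⟩ := hdec a
      obtain ⟨j, hj⟩ := hdec b
      simp only [QuotientGroup.mk_mul, QuotientGroup.mk_inv, hi, hj]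
      have hc : Commute ((x : G ⧸ N) ^ i) ((x : G ⧸ N) ^ j) := (Commute.refl _).zpow_zpow i j
      rw [hc.eq]
      group
    have hNle : N ≤ commutator G := by
      have hnorm : (commutator G ⊓ N).Normal := by
        haveI : (commutator G).Normal := inferInstance
        exact Subgroup.normal_inf_normal _ _
      have hne : commutator G ⊓ N ≠ ⊥ := by
        intro h0
        apply hNnab
        apply Cfsg.Agent.Lib.PZJ.isMulComm_of_forall
        intro a ha b hb
        have h1 : a * b * a⁻¹ * b⁻¹ ∈ commutator G ⊓ N := by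
          refine ⟨?_, ?_⟩
          · rw [_root_.commutator_def, ← commutatorElement_def]
            exact Subgroup.commutator_mem_commutator (mem_top a) (mem_top b)
          · have h2 : a * b * a⁻¹ * b⁻¹ = a * (b * a⁻¹ * b⁻¹) := by group
            rw [h2]
            exact mul_mem ha (hNn.conj_mem _ (inv_mem ha) b)
        rw [h0] at h1
        have h2 : a * b * a⁻¹ = b := mul_inv_eq_one.1 h1
        exact mul_inv_eq_iff_eq_mul.1 h2
      exact (hNmin _ hnorm hne inf_le_right).trans inf_le_left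
    have hc : commutator G = N := le_antisymm hcle hNle
    refine ⟨by rw [hc]; exact hsimple, by rw [hc]; exact hNnab, by rw [hc]; exact hNtop⟩
  · exfalso
    have hpS : p ∣ Nat.card S := by
      by_contra h
      exact hS1 (hY N hNn S hSN hSn ((Nat.Prime.coprime_iff_not_dvd hpp).2 h).symm)
    obtain ⟨t', ht'⟩ := exists_prime_orderOf_dvd_card' p hpS
    obtain ⟨t, htS⟩ := t'
    have hto : orderOf t = p := by
      rw [← ht', Subgroup.orderOf_mk]
    have ht1 : t ≠ 1 := by
      rintro rfl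
      rw [orderOf_one] at hto
      exact hpp.one_lt.ne hto
    -- conjugates
    have hYP : ∀ g : G, S.map (MulAut.conj g).toMonoidHom ≤ N ∧
        (∀ n ∈ N, ∀ y ∈ S.map (MulAut.conj g).toMonoidHom, n * y * n⁻¹ ∈ S.map (MulAut.conj g).toMonoidHom) ∧
        S.map (MulAut.conj g).toMonoidHom ≠ ⊥ := by
      intro g
      refine ⟨?_, ?_, ?_⟩
      · rintro _ ⟨s, hs, rfl⟩
        exact hNn.conj_mem s (hSN hs) g
      · rintro n hn _ ⟨s, hs, rfl⟩
        have h1 := hSn (g⁻¹ * n * g) (by
          have := hNn.conj_mem n hn g⁻¹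
          simpa using this) s hs
        refine ⟨_, h1, ?_⟩
        show g * (g⁻¹ * n * g * s * (g⁻¹ * n * g)⁻¹) * g⁻¹ = n * (g * s * g⁻¹) * n⁻¹
        group
      · intro h0
        apply hS1
        exact (Subgroup.map_eq_bot_iff_of_injective _ (MulEquiv.injective _)).1 h0
    have hYmin : ∀ g : G, ∀ Y : Subgroup G, Y ≤ N → (∀ n ∈ N, ∀ y ∈ Y, n * y * n⁻¹ ∈ Y) → Y ≠ ⊥ →
        Y ≤ S.map (MulAut.conj g).toMonoidHom → S.map (MulAut.conj g).toMonoidHom ≤ Y := by
      intro g Y h1 h2 h3 h4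
      have h5 := hSmin (Y.map (MulAut.conj g⁻¹).toMonoidHom) (by
        rintro _ ⟨y, hy, rfl⟩
        exact hNn.conj_mem y (h1 hy) g⁻¹) (by
        rintro n hn _ ⟨y, hy, rfl⟩
        have h6 := h2 (g * n * g⁻¹) (hNn.conj_mem n hn g) y hy
        refine ⟨_, h6, ?_⟩
        show g⁻¹ * (g * n * g⁻¹ * y * (g * n * g⁻¹)⁻¹) * g⁻¹⁻¹ = n * (g⁻¹ * y * g⁻¹⁻¹) * n⁻¹
        group) (by
        intro h0
        apply h3
        exact (Subgroup.map_eq_bot_iff_of_injective _ (MulEquiv.injective _)).1 h0) (by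
        rintro _ ⟨y, hy, rfl⟩
        obtain ⟨s, hs, hse⟩ := h4 hy
        have hse' : g * s * g⁻¹ = y := hse
        show g⁻¹ * y * g⁻¹⁻¹ ∈ S
        rw [← hse']
        have : g⁻¹ * (g * s * g⁻¹) * g⁻¹⁻¹ = s := by group
        rw [this]
        exact hs)
      rintro _ ⟨s, hs, rfl⟩
      obtain ⟨y, hy, hye⟩ := h5 hs
      have hye' : g⁻¹ * y * g⁻¹⁻¹ = s := hye
      show g * s * g⁻¹ ∈ Y
      rw [← hye']
      have : g * (g⁻¹ * y * g⁻¹⁻¹) * g⁻¹ = y := by group
      rw [this]
      exact hy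
    have hinter : ∀ g h : G, S.map (MulAut.conj g).toMonoidHom ≠ S.map (MulAut.conj h).toMonoidHom →
        S.map (MulAut.conj g).toMonoidHom ⊓ S.map (MulAut.conj h).toMonoidHom = ⊥ := by
      intro g h hne
      by_contra h0
      obtain ⟨hg1, hg2, hg3⟩ := hYP g
      obtain ⟨hh1, hh2, hh3⟩ := hYP h
      have h1 := hYmin g _ (inf_le_left.trans hg1)
        (fun n hn y hy => ⟨hg2 n hn y hy.1, hh2 n hn y hy.2⟩) h0 inf_le_left
      have h2 := hYmin h _ (inf_le_left.trans hg1)
        (fun n hn y hy => ⟨hg2 n hn y hy.1, hh2 n hn y hy.2⟩) h0 inf_le_right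
      exact hne (le_antisymm (h1.trans inf_le_right) (h2.trans inf_le_left))
    have hdist : ∀ g h : G, S.map (MulAut.conj g).toMonoidHom ≠ S.map (MulAut.conj h).toMonoidHom →
        ∀ a ∈ S.map (MulAut.conj g).toMonoidHom, ∀ b ∈ S.map (MulAut.conj h).toMonoidHom, a * b = b * a := by
      intro g h hne a ha b hb
      obtain ⟨hg1, hg2, hg3⟩ := hYP g
      obtain ⟨hh1, hh2, hh3⟩ := hYP h
      have h1 : a * b * a⁻¹ * b⁻¹ ∈ S.map (MulAut.conj g).toMonoidHom ⊓ S.map (MulAut.conj h).toMonoidHom := by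
        have h3 : a * b * a⁻¹ * b⁻¹ ∈ S.map (MulAut.conj g).toMonoidHom := by
          have h2 : a * b * a⁻¹ * b⁻¹ = a * (b * a⁻¹ * b⁻¹) := by group
          rw [h2]
          exact mul_mem ha (hg2 b (hh1 hb) _ (inv_mem ha))
        have h4 : a * b * a⁻¹ * b⁻¹ ∈ S.map (MulAut.conj h).toMonoidHom :=
          mul_mem (hh2 a (hg1 ha) b hb) (inv_mem hb)
        exact ⟨h3, h4⟩
      rw [hinter g h hne] at h1
      have h2 : a * b * a⁻¹ = b := mul_inv_eq_one.1 h1
      exact mul_inv_eq_iff_eq_mul.1 h2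
    have hinj : ∀ g h : G, S.map (MulAut.conj g).toMonoidHom = S.map (MulAut.conj h).toMonoidHom →
        h⁻¹ * g ∈ normalizer (S : Set G) := by
      intro g h he
      apply Cfsg.Agent.Lib.PGlaub.mem_normalizer_of_conj_mem
      intro s hs
      have h1 : g * s * g⁻¹ ∈ S.map (MulAut.conj h).toMonoidHom := by
        rw [← he]; exact ⟨s, hs, rfl⟩
      obtain ⟨s', hs', hse⟩ := h1
      have hse' : h * s' * h⁻¹ = g * s * g⁻¹ := hse
      have h2 : h⁻¹ * g * s * (h⁻¹ * g)⁻¹ = h⁻¹ * (g * s * g⁻¹) * h := by group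
      rw [h2, ← hse']
      have h3 : h⁻¹ * (h * s' * h⁻¹) * h = s' := by group
      rw [h3]
      exact hs'
    -- the conjugates of `t` under `⟨x⟩`
    have hTcomm : ∀ i j : ℕ, (x ^ i * t * (x ^ i)⁻¹) * (x ^ j * t * (x ^ j)⁻¹) =
        (x ^ j * t * (x ^ j)⁻¹) * (x ^ i * t * (x ^ i)⁻¹) := by
      intro i j
      by_cases hij : x ^ i = x ^ j
      · rw [hij]
      · apply hdist (x ^ i) (x ^ j)
        · intro he
          have h1 := hinj _ _ he
          -- `x` normalizes `S` unless the exponent is trivial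
          obtain ⟨g, hg⟩ : ∃ g, g = (x ^ j)⁻¹ * x ^ i := ⟨_, rfl⟩
          rw [← hg] at h1
          have hg1 : g ≠ 1 := by
            intro h0
            rw [hg, inv_mul_eq_one] at h0
            exact hij h0.symm
          have hgx : g ∈ zpowers x := by
            rw [hg]
            exact mul_mem (inv_mem (pow_mem (mem_zpowers x) j)) (pow_mem (mem_zpowers x) i)
          have hgp : g ^ p = 1 := by
            obtain ⟨m, rfl⟩ := Subgroup.mem_zpowers_iff.1 hgx
            rw [← zpow_natCast, ← _root_.zpow_mul, mul_comm, _root_.zpow_mul, zpow_natCast, ← hx, pow_orderOf_eq_one,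
              _root_.one_zpow]
          have hgo : orderOf g = p := orderOf_eq_prime hgp hg1
          have hz : zpowers g = zpowers x := by
            apply Subgroup.eq_of_le_of_card_ge ((zpowers_le).2 hgx)
            rw [Nat.card_zpowers, Nat.card_zpowers, hgo, hx]
          have hxz : x ∈ zpowers g := by rw [hz]; exact mem_zpowers x
          exact hxS ((zpowers_le.2 h1) hxz)
        · exact ⟨t, htS, rfl⟩
        · exact ⟨t, htS, rfl⟩
    obtain ⟨E, hE⟩ : ∃ E : Subgroup G, E = closure (Set.range (fun j : ℕ => x ^ j * t * (x ^ j)⁻¹)) := ⟨_, rfl⟩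
    have hTE : ∀ j : ℕ, x ^ j * t * (x ^ j)⁻¹ ∈ E := by
      intro j
      rw [hE]
      exact Subgroup.subset_closure ⟨j, rfl⟩
    have hEc1 : ∀ j : ℕ, ∀ b ∈ E, (x ^ j * t * (x ^ j)⁻¹) * b = b * (x ^ j * t * (x ^ j)⁻¹) := by
      intro j b hb
      rw [hE] at hb
      induction hb using Subgroup.closure_induction with
      | mem y hy =>
        obtain ⟨i, rfl⟩ := hy
        exact hTcomm j i
      | one => simp
      | mul a b _ _ ha hb =>
        exact Commute.mul_right ha hb
      | inv a _ ha =>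
        have h1 : Commute (x ^ j * t * (x ^ j)⁻¹) a := ha
        exact h1.inv_right
    have hEc : ∀ a ∈ E, ∀ b ∈ E, a * b = b * a := by
      intro a ha b hb
      rw [hE] at ha
      induction ha using Subgroup.closure_induction with
      | mem y hy =>
        obtain ⟨i, rfl⟩ := hy
        exact hEc1 i b hb
      | one => simp
      | mul a c _ _ ha hc =>
        exact Commute.mul_left ha hc
      | inv a _ ha =>
        have h1 : Commute a b := ha
        exact h1.inv_left
    have hEe : ∀ a ∈ E, a ^ p = 1 := by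
      intro a ha
      have hmem := ha
      rw [hE] at ha
      induction ha using Subgroup.closure_induction with
      | mem y hy =>
        obtain ⟨i, rfl⟩ := hy
        rw [conj_pow, ← hto, pow_orderOf_eq_one]
        group
      | one => simp
      | mul a c ha' hc' ha hc =>
        have ha'' : a ∈ E := by rw [hE]; exact ha'
        have hc'' : c ∈ E := by rw [hE]; exact hc'
        have h1 : Commute a c := hEc a ha'' c hc''
        rw [h1.mul_pow, ha ha'', hc hc'', one_mul]
      | inv a ha' ha =>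
        have ha'' : a ∈ E := by rw [hE]; exact ha'
        rw [inv_pow, ha ha'', inv_one]
    have hEp : IsPGroup p E := by
      rintro ⟨z, hz⟩
      refine ⟨1, Subtype.ext ?_⟩
      have := hEe z hz
      simpa using this
    have hxE : ∀ e ∈ E, x * e * x⁻¹ ∈ E := by
      have h1 : E ≤ E.comap (MulAut.conj x).toMonoidHom := by
        conv_lhs => rw [hE]
        rw [Subgroup.closure_le]
        rintro _ ⟨j, rfl⟩
        show x * (x ^ j * t * (x ^ j)⁻¹) * x⁻¹ ∈ E
        have h2 : x * (x ^ j * t * (x ^ j)⁻¹) * x⁻¹ = x ^ (j + 1) * t * (x ^ (j + 1))⁻¹ := by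
          rw [pow_succ']; group
        rw [h2]
        exact hTE _
      exact fun e he => h1 he
    have hR : IsPGroup p ↥(zpowers x ⊔ E) := IsPGroup.to_sup_of_normal_right' hxp hEp (by
      rw [zpowers_le]
      exact Cfsg.Agent.Lib.PGlaub.mem_normalizer_of_conj_mem hxE)
    have htE : t ∈ E := by
      have := hTE 0
      simpa using this
    have hcen := Cfsg.Agent.Lib.LIso.central_of_isolated _ hR (Subgroup.mem_sup_left (mem_zpowers x)) hiso t
      (Subgroup.mem_sup_right htE)
    have hxt : x * t * x⁻¹ = t := by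
      have h1 : t * x = x * t := mul_inv_eq_iff_eq_mul.1 hcen
      rw [← h1]; group
    have hne : S.map (MulAut.conj (1 : G)).toMonoidHom ≠ S.map (MulAut.conj x).toMonoidHom := by
      intro he
      have h1 := hinj _ _ he
      apply hxS
      have := inv_mem h1
      simpa using this
    have h1 := hinter 1 x hne
    have h2 : t ∈ S.map (MulAut.conj (1 : G)).toMonoidHom ⊓ S.map (MulAut.conj x).toMonoidHom := by
      refine ⟨⟨t, htS, by simp⟩, ⟨t, htS, hxt⟩⟩
    rw [h1] at h2
    exact ht1 h2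

end Cfsg.Agent.Lib.LZStar
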