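import Mathlib
import Cfsg.Agent.Lib.PGrp2

/-!
# Groups of order `p^4`: commutator subgroup, centre and class
-/

set_option autoImplicit false

namespace Cfsg.Agent.Lib.LdP4

open Subgroup
open scoped commutatorElement

variable {P : Type*} [Group P] [Finite P] {p : ℕ} [hpp : Fact p.Prime]

theorem card_sub (hP : Nat.card P = p ^ 4) (H : Subgroup P) : ∃ k ≤ 4, Nat.card H = p ^ k := by
  have h := Subgroup.card_subgroup_dvd_card H
  rw [hP] at h
  exact (Nat.dvd_prime_pow hpp.out).1 h

theorem card_index (hP : Nat.card P = p ^ 4) (H : Subgroup P) : Nat.card H * H.index = p ^ 4 := by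
  rw [← hP]; exact Subgroup.card_mul_index H

theorem idx_of (hP : Nat.card P = p ^ 4) (H : Subgroup P) {k : ℕ} (hk : k ≤ 4) (h : Nat.card H = p ^ k) :
    H.index = p ^ (4 - k) := by
  have h1 := card_index hP H
  rw [h] at h1
  have h2 : p ^ 4 = p ^ k * p ^ (4 - k) := by rw [← pow_add]; congr 1; omega
  rw [h2] at h1
  exact Nat.eq_of_mul_eq_mul_left (pow_pos hpp.out.pos k) h1

theorem p_pos : 0 < p := hpp.out.pos
theorem p_two : 2 ≤ p := hpp.out.two_le

theorem eq_of_le_card {A B : Subgroup P} (h : A ≤ B) (hc : Nat.card B ≤ Nat.card A) : A = B :=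
  Subgroup.eq_of_le_of_card_ge h hc

/-- a proper overgroup of a subgroup of order `p^k` has order at least `p^(k+1)`. -/
theorem card_lt (hP : Nat.card P = p ^ 4) {A B : Subgroup P} (h : A ≤ B) (hne : A ≠ B) {k : ℕ}
    (hA : Nat.card A = p ^ k) : p ^ (k + 1) ≤ Nat.card B := by
  obtain ⟨m, hm, hB⟩ := card_sub hP B
  rw [hB]
  apply Nat.pow_le_pow_right p_pos
  by_contra hlt
  have h1 : m ≤ k := by omega
  apply hne
  apply eq_of_le_card h
  rw [hA, hB]
  exact Nat.pow_le_pow_right p_pos h1

theorem commutator_eq_bot_of_center_top (h : center P = ⊤) : commutator P = ⊥ := by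
  rw [eq_bot_iff, _root_.commutator_def, commutator_le]
  intro g _ h' _
  have : g ∈ center P := by rw [h]; trivial
  have hc : g * h' = h' * g := (mem_center_iff.1 this h').symm
  rw [mem_bot, commutatorElement_eq_one_iff_mul_comm]
  exact hc

theorem center_top_of_idx (hi : (center P).index = 1 ∨ (center P).index = p) : center P = ⊤ := by
  rcases hi with h | h
  · exact Subgroup.index_eq_one.1 h
  · haveI : Fact (Nat.card (P ⧸ center P)).Prime := by
      have : Nat.card (P ⧸ center P) = p := h
      rw [this]; exact hpp
    haveI : IsCyclic (P ⧸ center P) := isCyclic_of_prime_card rfl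
    have := isMulCommutative_of_isCyclic_quotient_center_self P
    rw [eq_top_iff]
    intro x _
    rw [mem_center_iff]
    intro y
    exact this.is_comm.comm y x

/-- The index of a centralizer is at most the order of the commutator subgroup. -/
theorem idx_le (a : P) : (centralizer ({a} : Set P)).index ≤ Nat.card (commutator P) := by
  classical
  let φ : P ⧸ centralizer ({a} : Set P) → commutator P :=
    fun q => ⟨⁅Quotient.out q, a⁆, commutator_mem_commutator (mem_top _) (mem_top _)⟩
  have hφ : Function.Injective φ := by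
    intro q q' h
    have h1 : ⁅Quotient.out q, a⁆ = ⁅Quotient.out q', a⁆ := congrArg Subtype.val h
    rw [← QuotientGroup.out_eq' q, ← QuotientGroup.out_eq' q']
    rw [QuotientGroup.eq, mem_centralizer_singleton_iff]
    simp only [commutatorElement_def] at h1
    have h2 : Quotient.out q * a * (Quotient.out q)⁻¹ = Quotient.out q' * a * (Quotient.out q')⁻¹ :=
      mul_right_cancel h1
    have h4 : a * ((Quotient.out q)⁻¹ * Quotient.out q') = ((Quotient.out q)⁻¹ * Quotient.out q') * a := by
      calc a * ((Quotient.out q)⁻¹ * Quotient.out q') = (Quotient.out q)⁻¹ * (Quotient.out q * a * (Quotient.out q)⁻¹) * Quotient.out q' := by group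
        _ = (Quotient.out q)⁻¹ * (Quotient.out q' * a * (Quotient.out q')⁻¹) * Quotient.out q' := by rw [h2]
        _ = _ := by group
    exact h4.symm
  exact Nat.card_le_card_of_injective φ hφ

theorem mem_C (a b : P) : b ∈ centralizer ({a} : Set P) ↔ a * b = b * a := by
  rw [mem_centralizer_iff]
  constructor
  · intro h; exact h a rfl
  · intro h z hz
    rw [Set.mem_singleton_iff] at hz
    subst hz
    exact h

theorem C_eq_top_iff (a : P) : centralizer ({a} : Set P) = ⊤ ↔ a ∈ center P := by
  constructor
  · intro h
    rw [mem_center_iff]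
    intro g
    have : g ∈ centralizer ({a} : Set P) := by rw [h]; trivial
    exact ((mem_C a g).1 this).symm
  · intro h
    rw [eq_top_iff]
    intro g _
    exact (mem_C a g).2 (mem_center_iff.1 h g).symm

theorem card_C (hP : Nat.card P = p ^ 4) (hc : Nat.card (commutator P) = p) {a : P} (ha : a ∉ center P) :
    Nat.card (centralizer ({a} : Set P)) = p ^ 3 := by
  obtain ⟨k, hk, h⟩ := card_sub hP (centralizer ({a} : Set P))
  have hi := idx_of hP _ hk h
  have hle := idx_le a
  rw [hc, hi] at hle
  have hk3 : 3 ≤ k := by
    by_contra hlt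
    have h1 : p ^ 2 ≤ p ^ (4 - k) := Nat.pow_le_pow_right p_pos (by omega)
    have h2 : p < p ^ 2 := by nlinarith [p_two (p := p)]
    omega
  have hk4 : k ≠ 4 := by
    rintro rfl
    simp only [Nat.sub_self, pow_zero] at hi
    exact ha ((C_eq_top_iff a).1 (Subgroup.index_eq_one.1 hi))
  have : k = 3 := by omega
  rw [h, this]

/-- First half of the theorem for order `p^4`. -/
theorem main1 (hP : Nat.card P = p ^ 4) (hc : Nat.card (commutator P) = p) : (center P).index = p ^ 2 := by
  classical
  -- a non-central element
  have hne : center P ≠ ⊤ := by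
    intro h
    rw [commutator_eq_bot_of_center_top h] at hc
    have : Nat.card (⊥ : Subgroup P) = 1 := Subgroup.card_bot
    rw [this] at hc
    have := p_two (p := p)
    omega
  obtain ⟨x, hx⟩ : ∃ x, x ∉ center P := by
    by_contra hall
    push Not at hall
    exact hne (eq_top_iff.2 fun g _ => hall g)
  obtain ⟨y, hy⟩ : ∃ y, y ∉ centralizer ({x} : Set P) := by
    by_contra hall
    push Not at hall
    exact hx ((C_eq_top_iff x).1 (eq_top_iff.2 fun g _ => hall g))
  have hxy : x * y ≠ y * x := fun h => hy ((mem_C x y).2 h)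
  have hCx := card_C hP hc hx
  have hyn : y ∉ center P := fun h => hxy (mem_center_iff.1 h x)
  have hCy := card_C hP hc hyn
  set H : Subgroup P := centralizer ({x} : Set P) ⊓ centralizer ({y} : Set P) with hH
  have hxH : x ∉ H := fun h => hxy ((mem_C y x).1 h.2).symm
  have hxCx : x ∈ centralizer ({x} : Set P) := (mem_C x x).2 rfl
  obtain ⟨k, hk, hHc⟩ := card_sub hP H
  have hHle : H ≤ centralizer ({x} : Set P) := inf_le_left
  have hkk : k = 2 := by
    have h1 : H.index ≤ p * p := by
      calc H.index ≤ (centralizer ({x} : Set P)).index * (centralizer ({y} : Set P)).index :=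
            Subgroup.index_inf_le
        _ ≤ p * p := by
            apply Nat.mul_le_mul
            · rw [← hc]; exact idx_le x
            · rw [← hc]; exact idx_le y
    rw [idx_of hP H hk hHc] at h1
    have h2 : 2 ≤ k := by
      by_contra hlt
      have h3 : p ^ 3 ≤ p ^ (4 - k) := Nat.pow_le_pow_right p_pos (by omega)
      have h4 : p * p < p ^ 3 := by nlinarith [p_two (p := p), p_pos (p := p)]
      omega
    have h3 : k < 3 := by
      by_contra hge
      apply hxH
      have : H = centralizer ({x} : Set P) := by
        apply eq_of_le_card hHle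
        rw [hHc, hCx]
        exact Nat.pow_le_pow_right p_pos (by omega)
      rw [this]; exact hxCx
    omega
  subst hkk
  have hcomm : IsMulCommutative H := IsPGroup.isMulCommutative_of_card_eq_prime_sq hHc
  -- H is central
  have hHZ : H ≤ center P := by
    intro w hw
    by_contra hwZ
    have hCw := card_C hP hc hwZ
    -- U = H ⊔ ⟨x⟩
    set U : Subgroup P := H ⊔ zpowers x with hU
    have hHU : H ≤ U := le_sup_left
    have hxU : x ∈ U := (le_sup_right : zpowers x ≤ U) (mem_zpowers x)
    have hUne : H ≠ U := fun h => hxH (h ▸ hxU)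
    have hUc := card_lt hP hHU hUne hHc
    have hU1 : U ≤ centralizer ({x} : Set P) := by
      apply sup_le hHle
      rw [zpowers_le]
      exact hxCx
    have hU2 : U ≤ centralizer ({w} : Set P) := by
      apply sup_le
      · intro h hh
        rw [mem_C]
        have := hcomm.is_comm.comm (⟨w, hw⟩ : H) ⟨h, hh⟩
        exact congrArg Subtype.val this
      · rw [zpowers_le, mem_C]
        exact ((mem_C x w).1 hw.1).symm
    have hU3 : U = centralizer ({x} : Set P) := by
      apply eq_of_le_card hU1
      rw [hCx]; exact hUc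
    have hU4 : U = centralizer ({w} : Set P) := by
      apply eq_of_le_card hU2
      rw [hCw]; exact hUc
    apply hy
    rw [← hU3, hU4, mem_C]
    exact ((mem_C y w).1 hw.2).symm
  -- conclusion
  obtain ⟨m, hm, hZc⟩ := card_sub hP (center P)
  have hm2 : 2 ≤ m := by
    have h1 : Nat.card H ≤ Nat.card (center P) := Subgroup.card_le_of_le hHZ
    rw [hHc, hZc] at h1
    exact (Nat.pow_le_pow_iff_right (p_two (p := p))).1 h1
  have hidx := idx_of hP (center P) hm hZc
  have h3 : m ≠ 4 := by
    rintro rfl
    exact hne (center_top_of_idx (p := p) (Or.inl (by simpa using hidx)))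
  have h4 : m ≠ 3 := by
    rintro rfl
    exact hne (center_top_of_idx (p := p) (Or.inr (by simpa using hidx)))
  have : m = 2 := by omega
  rw [hidx, this]

/-- Second half. -/
theorem main2 (hP : Nat.card P = p ^ 4) (hi : (center P).index = p ^ 2) : Nat.card (commutator P) = p := by
  classical
  have hp2 := p_two (p := p)
  have hne : center P ≠ ⊤ := by
    intro h
    rw [h, Subgroup.index_top] at hi
    have : 1 < p ^ 2 := Nat.one_lt_pow (by norm_num) (by omega)
    omega
  obtain ⟨x, hx⟩ : ∃ x, x ∉ center P := by
    by_contra hall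
    push Not at hall
    exact hne (eq_top_iff.2 fun g _ => hall g)
  obtain ⟨y, hy⟩ : ∃ y, y ∉ centralizer ({x} : Set P) := by
    by_contra hall
    push Not at hall
    exact hx ((C_eq_top_iff x).1 (eq_top_iff.2 fun g _ => hall g))
  have hxy : x * y ≠ y * x := fun h => hy ((mem_C x y).2 h)
  -- card center
  have hZc : Nat.card (center P) = p ^ 2 := by
    have h1 := card_index hP (center P)
    rw [hi] at h1
    have h2 : p ^ 4 = p ^ 2 * p ^ 2 := by ring
    rw [h2] at h1
    exact Nat.eq_of_mul_eq_mul_right (pow_pos p_pos 2) h1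
  have hQc : Nat.card (P ⧸ center P) = p ^ 2 := hi
  have hQcomm : IsMulCommutative (P ⧸ center P) := IsPGroup.isMulCommutative_of_card_eq_prime_sq hQc
  have hcomm_center : ∀ g h : P, ⁅g, h⁆ ∈ center P := by
    intro g h
    rw [← QuotientGroup.eq_one_iff]
    have h1 := hQcomm.is_comm.comm (g : P ⧸ center P) (h : P ⧸ center P)
    have : ((⁅g, h⁆ : P) : P ⧸ center P) = ⁅(g : P ⧸ center P), (h : P ⧸ center P)⁆ := rfl
    rw [this, commutatorElement_eq_one_iff_mul_comm]
    exact h1
  set c : P := ⁅x, y⁆ with hc
  have hcZ : c ∈ center P := hcomm_center x y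
  have hc1 : c ≠ 1 := by
    intro h
    apply hxy
    exact commutatorElement_eq_one_iff_mul_comm.1 h
  -- x^p is central
  have hxp : x ^ p ∈ center P := by
    rw [← QuotientGroup.eq_one_iff]
    have hd : orderOf (x : P ⧸ center P) ∣ p ^ 2 := by
      rw [← hQc]; exact orderOf_dvd_natCard _
    obtain ⟨k, hk, hok⟩ := (Nat.dvd_prime_pow hpp.out).1 hd
    have hk2 : k ≠ 2 := by
      rintro rfl
      -- quotient is cyclic
      have hcyc : IsCyclic (P ⧸ center P) := by
        apply isCyclic_of_orderOf_eq_card (x : P ⧸ center P)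
        rw [hok, hQc]
      have := isMulCommutative_of_isCyclic_quotient_center_self P
      exact hxy (this.is_comm.comm x y)
    have hk1 : k ≤ 1 := by omega
    rw [QuotientGroup.mk_pow, ← orderOf_dvd_iff_pow_eq_one, hok]
    simpa using pow_dvd_pow p hk1
  -- c^p = 1
  have hcp : c ^ p = 1 := by
    have h1 : y * x * y⁻¹ = c⁻¹ * x := by
      rw [hc, commutatorElement_def]; group
    have h2 : y * x ^ p * y⁻¹ = (y * x * y⁻¹) ^ p := by
      rw [conj_pow]
    have h3 : y * x ^ p * y⁻¹ = x ^ p := by
      have := mem_center_iff.1 hxp y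
      rw [this]; group
    have hcx : Commute c⁻¹ x := by
      have h4 : c⁻¹ ∈ center P := Subgroup.inv_mem _ hcZ
      exact (mem_center_iff.1 h4 x).symm
    rw [h3, h1, hcx.mul_pow] at h2
    have h5 : (c⁻¹) ^ p = 1 := by
      have : (c⁻¹) ^ p * x ^ p = 1 * x ^ p := by rw [one_mul]; exact h2.symm
      exact mul_right_cancel this
    rwa [inv_pow, inv_eq_one] at h5
  have hoc : orderOf c = p := orderOf_eq_prime hcp hc1
  -- B
  set B : Subgroup P := zpowers c with hB
  haveI hBn : B.Normal := by
    have hle : B ≤ center P := (zpowers_le).2 hcZ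
    constructor
    intro n hn g
    have h1 := mem_center_iff.1 (hle hn) g
    rw [h1]
    have : n * g * g⁻¹ = n := by group
    rwa [this]
  have hBc : Nat.card B = p := by rw [hB, Nat.card_zpowers, hoc]
  -- generation
  set U : Subgroup P := zpowers x ⊔ center P with hU
  have hU1 : U ≤ centralizer ({x} : Set P) := by
    apply sup_le
    · rw [zpowers_le]; exact (mem_C x x).2 rfl
    · intro z hz
      exact (mem_C x z).2 (mem_center_iff.1 hz x)
  have hyU : y ∉ U := fun h => hy (hU1 h)
  have hUc : p ^ 3 ≤ Nat.card U := by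
    apply card_lt hP (le_sup_right : center P ≤ U) _ hZc
    intro h
    apply hx
    rw [h]
    exact (le_sup_left : zpowers x ≤ U) (mem_zpowers x)
  have hS : zpowers y ⊔ U = ⊤ := by
    have h1 : p ^ (3 + 1) ≤ Nat.card (zpowers y ⊔ U : Subgroup P) := by
      obtain ⟨k, hk, hkc⟩ := card_sub hP U
      rw [hkc] at hUc
      have hk3 : 3 ≤ k := (Nat.pow_le_pow_iff_right hp2).1 hUc
      have hk4 : k ≠ 4 := by
        rintro rfl
        apply hyU
        have : U = ⊤ := by
          apply Subgroup.eq_top_of_card_eq
          rw [hkc, hP]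
        rw [this]; trivial
      have hk5 : k = 3 := by omega
      subst hk5
      apply card_lt hP (le_sup_right : U ≤ zpowers y ⊔ U) _ hkc
      intro h
      apply hyU
      rw [h]
      exact (le_sup_left : zpowers y ≤ zpowers y ⊔ U) (mem_zpowers y)
    apply Subgroup.eq_top_of_card_eq
    apply le_antisymm (Subgroup.card_le_card_group _)
    rw [hP]; exact h1
  let π := QuotientGroup.mk' B
  have hπxy : π x * π y = π y * π x := by
    have h1 : π ⁅x, y⁆ = 1 := (QuotientGroup.eq_one_iff _).2 (mem_zpowers c)
    rw [map_commutatorElement, commutatorElement_eq_one_iff_mul_comm] at h1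
    exact h1
  have hall : ∀ g : P, π g * π x = π x * π g → π g * π y = π y * π g →
      (∀ z ∈ center P, π g * π z = π z * π g) → ∀ u, π g * π u = π u * π g := by
    intro g h1 h2 h3 u
    have hle : zpowers y ⊔ U ≤ (centralizer ({π g} : Set (P ⧸ B))).comap π := by
      refine sup_le ?_ (sup_le ?_ ?_)
      · rw [zpowers_le, mem_comap, mem_C]; exact h2
      · rw [zpowers_le, mem_comap, mem_C]; exact h1
      · intro z hz
        rw [mem_comap, mem_C]
        exact h3 z hz
    rw [hS] at hle
    have := hle (mem_top u)
    rw [mem_comap, mem_C] at this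
    exact this
  have hZcomm : ∀ z ∈ center P, ∀ u, π z * π u = π u * π z := by
    intro z hz u
    rw [← map_mul, ← map_mul, mem_center_iff.1 hz u]
  have hxall := hall x rfl hπxy (fun z hz => (hZcomm z hz x).symm)
  have hyall := hall y hπxy.symm rfl (fun z hz => (hZcomm z hz y).symm)
  have hcommQ : ∀ g u : P, π g * π u = π u * π g := by
    intro g
    exact hall g (hxall g).symm (hyall g).symm (fun z hz => (hZcomm z hz g).symm)
  have hle : commutator P ≤ B := by
    rw [_root_.commutator_def, commutator_le]
    intro g _ u _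
    rw [← QuotientGroup.eq_one_iff]
    show π ⁅g, u⁆ = 1
    rw [map_commutatorElement, commutatorElement_eq_one_iff_mul_comm]
    exact hcommQ g u
  have hcmem : c ∈ commutator P := commutator_mem_commutator (mem_top _) (mem_top _)
  have hBle : B ≤ commutator P := (zpowers_le).2 hcmem
  rw [le_antisymm hle hBle]
  exact hBc

theorem strict (hp : IsPGroup p P) (N : Subgroup P) (hN : N ≠ ⊥) : ⁅N, (⊤ : Subgroup P)⁆ ≠ N := by
  intro h
  haveI : Group.IsNilpotent P := hp.isNilpotent
  apply hN
  have hall : ∀ n, N ≤ Subgroup.lowerCentralSeries (⊤ : Subgroup P) n := by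
    intro n
    induction n with
    | zero => exact le_top
    | succ n ih =>
      rw [Subgroup.lowerCentralSeries_succ]
      calc N = ⁅N, (⊤ : Subgroup P)⁆ := h.symm
        _ ≤ _ := commutator_mono ih le_rfl
  have := hall (Group.nilpotencyClass P)
  rwa [Subgroup.lowerCentralSeries_nilpotencyClass, le_bot_iff] at this

theorem comm_le (N : Subgroup P) [N.Normal] : ⁅N, (⊤ : Subgroup P)⁆ ≤ N := by
  rw [commutator_le]
  intro g hg h _
  rw [commutatorElement_def]
  have e : g * h * g⁻¹ * h⁻¹ = g * (h * g⁻¹ * h⁻¹) := by group
  rw [e]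
  exact N.mul_mem hg (‹N.Normal›.conj_mem _ (N.inv_mem hg) h)

/-- `p^2` index of the commutator subgroup implies class `3` -/
theorem main3 (hP : Nat.card P = p ^ 4) (hi : (commutator P).index = p ^ 2) : Group.nilpotencyClass P = 3 := by
  classical
  have hp2 := p_two (p := p)
  have hpg : IsPGroup p P := IsPGroup.of_card hP
  haveI : Group.IsNilpotent P := hpg.isNilpotent
  have hcP : Nat.card (commutator P) = p ^ 2 := by
    have h1 := card_index hP (commutator P)
    rw [hi] at h1
    have h2 : p ^ 4 = p ^ 2 * p ^ 2 := by ring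
    rw [h2] at h1
    exact Nat.eq_of_mul_eq_mul_right (pow_pos p_pos 2) h1
  have hγ1 : Subgroup.lowerCentralSeries (⊤ : Subgroup P) 1 = commutator P := top_lowerCentralSeries_one
  haveI hnγ : ∀ n, (Subgroup.lowerCentralSeries (⊤ : Subgroup P) n).Normal := by
    intro n
    induction n with
    | zero => exact inferInstanceAs (⊤ : Subgroup P).Normal
    | succ n ih =>
      rw [Subgroup.lowerCentralSeries_succ]
      exact Subgroup.commutator_normal _ _
  -- class ≤ 3
  have h3 : Group.nilpotencyClass P ≤ 3 := by
    rw [← Subgroup.lowerCentralSeries_eq_bot_iff_nilpotencyClass_le]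
    set γ2 := Subgroup.lowerCentralSeries (⊤ : Subgroup P) 2 with hγ2
    have h23 : Subgroup.lowerCentralSeries (⊤ : Subgroup P) 3 = ⁅γ2, (⊤ : Subgroup P)⁆ := rfl
    have h12 : γ2 = ⁅Subgroup.lowerCentralSeries (⊤ : Subgroup P) 1, (⊤ : Subgroup P)⁆ := rfl
    rw [h23]
    by_cases hb : γ2 = ⊥
    · rw [hb]; exact commutator_bot_left _
    · have hcard2 : Nat.card γ2 ≤ p := by
        have hle : γ2 ≤ commutator P := by
          rw [h12, hγ1]
          haveI : (commutator P).Normal := inferInstance
          exact comm_le _
        have hne : γ2 ≠ commutator P := by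
          rw [h12, hγ1]
          apply strict hpg
          intro h
          rw [h, Subgroup.card_bot] at hcP
          have : 1 < p ^ 2 := Nat.one_lt_pow (by norm_num) (by omega)
          omega
        obtain ⟨k, hk, hkc⟩ := card_sub hP γ2
        have hk2 : k < 2 := by
          by_contra hge
          apply hne
          apply eq_of_le_card hle
          rw [hcP, hkc]
          exact Nat.pow_le_pow_right p_pos (by omega)
        rw [hkc]
        calc p ^ k ≤ p ^ 1 := Nat.pow_le_pow_right p_pos (by omega)
          _ = p := pow_one p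
      haveI : γ2.Normal := hnγ 2
      have hle3 : ⁅γ2, (⊤ : Subgroup P)⁆ ≤ γ2 := comm_le _
      have hne3 : ⁅γ2, (⊤ : Subgroup P)⁆ ≠ γ2 := strict hpg _ hb
      obtain ⟨k, hk, hkc⟩ := card_sub hP ⁅γ2, (⊤ : Subgroup P)⁆
      obtain ⟨m, hm, hmc⟩ := card_sub hP γ2
      have hlt : k < m := by
        by_contra hge
        apply hne3
        apply eq_of_le_card hle3
        rw [hkc, hmc]
        exact Nat.pow_le_pow_right p_pos (by omega)
      have hm1 : m ≤ 1 := by
        rw [hmc] at hcard2
        by_contra hgt
        have : p ^ 2 ≤ p ^ m := Nat.pow_le_pow_right p_pos (by omega)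
        have h9 : p < p ^ 2 := by nlinarith
        omega
      have hk0 : k = 0 := by omega
      rw [hk0, pow_zero] at hkc
      exact Subgroup.card_eq_one.1 hkc
  -- class ≥ 3
  have h2 : ¬ Group.nilpotencyClass P ≤ 2 := by
    rw [← Subgroup.lowerCentralSeries_eq_bot_iff_nilpotencyClass_le]
    intro h
    have h12 : Subgroup.lowerCentralSeries (⊤ : Subgroup P) 2 = ⁅commutator P, (⊤ : Subgroup P)⁆ := rfl
    rw [h12] at h
    have hcen : commutator P ≤ center P := by
      intro g hg
      rw [mem_center_iff]
      intro u
      have h1 : ⁅g, u⁆ ∈ ⁅commutator P, (⊤ : Subgroup P)⁆ := commutator_mem_commutator hg (mem_top u)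
      rw [h, mem_bot, commutatorElement_eq_one_iff_mul_comm] at h1
      exact h1.symm
    have hdvd : (center P).index ∣ (commutator P).index := Subgroup.index_dvd_of_le hcen
    rw [hi] at hdvd
    obtain ⟨k, hk, hkc⟩ := (Nat.dvd_prime_pow hpp.out).1 hdvd
    have hne : center P ≠ ⊤ := by
      intro htop
      have := commutator_eq_bot_of_center_top htop
      rw [this, Subgroup.card_bot] at hcP
      have : 1 < p ^ 2 := Nat.one_lt_pow (by norm_num) (by omega)
      omega
    have hk2 : k = 2 := by
      by_contra hk2
      have : k = 0 ∨ k = 1 := by omega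
      apply hne
      apply center_top_of_idx (p := p)
      rcases this with rfl | rfl
      · left; simpa using hkc
      · right; simpa using hkc
    rw [hk2] at hkc
    have := main2 hP hkc
    rw [hcP] at this
    have h9 : p < p ^ 2 := by nlinarith
    omega
  omega

theorem main4 (hP : Nat.card P = p ^ 4) (hcl : Group.nilpotencyClass P = 3) : (commutator P).index = p ^ 2 := by
  classical
  have hp2 := p_two (p := p)
  have hpg : IsPGroup p P := IsPGroup.of_card hP
  haveI : Group.IsNilpotent P := hpg.isNilpotent
  obtain ⟨k, hk, hkc⟩ := card_sub hP (commutator P)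
  have hidx := idx_of hP _ hk hkc
  have hγ1 : Subgroup.lowerCentralSeries (⊤ : Subgroup P) 1 = commutator P := top_lowerCentralSeries_one
  -- k ≠ 0, 1
  have hk0 : k ≠ 0 := by
    rintro rfl
    rw [pow_zero] at hkc
    have h1 : commutator P = ⊥ := Subgroup.card_eq_one.1 hkc
    rw [← hγ1, Subgroup.lowerCentralSeries_eq_bot_iff_nilpotencyClass_le, hcl] at h1
    omega
  have hk1 : k ≠ 1 := by
    rintro rfl
    rw [pow_one] at hkc
    have h12 : Subgroup.lowerCentralSeries (⊤ : Subgroup P) 2 = ⁅commutator P, (⊤ : Subgroup P)⁆ := rfl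
    have hbot : Subgroup.lowerCentralSeries (⊤ : Subgroup P) 2 = ⊥ := by
      rw [h12]
      have hne : commutator P ≠ ⊥ := by
        intro h
        rw [h, Subgroup.card_bot] at hkc
        omega
      have hle : ⁅commutator P, (⊤ : Subgroup P)⁆ ≤ commutator P := comm_le _
      have hn := strict hpg _ hne
      obtain ⟨m, hm, hmc⟩ := card_sub hP ⁅commutator P, (⊤ : Subgroup P)⁆
      have hm0 : m = 0 := by
        by_contra hne0
        apply hn
        apply eq_of_le_card hle
        rw [hkc, hmc]
        calc p = p ^ 1 := (pow_one p).symm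
          _ ≤ p ^ m := Nat.pow_le_pow_right p_pos (by omega)
      rw [hm0, pow_zero] at hmc
      exact Subgroup.card_eq_one.1 hmc
    rw [Subgroup.lowerCentralSeries_eq_bot_iff_nilpotencyClass_le, hcl] at hbot
    omega
  -- k ≠ 3, 4: otherwise the group would be cyclic
  have hkk : k ≤ 2 := by
    by_contra hgt
    have hidxle : (commutator P).index ≤ p := by
      rw [hidx]
      calc p ^ (4 - k) ≤ p ^ 1 := Nat.pow_le_pow_right p_pos (by omega)
        _ = p := pow_one p
    -- pick x outside the commutator subgroup or else trivial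
    have hle : commutator P ≤ frattini P := Cfsg.Agent.Lib.PGrp.commutator_le_frattini hpg
    have hcycl : ∃ x : P, zpowers x = ⊤ := by
      by_cases htop : commutator P = ⊤
      · -- perfect p-group is trivial
        have hbot : commutator P = ⊥ := by
          by_contra hne
          apply strict hpg _ hne
          rw [htop]
          have := htop
          rw [_root_.commutator_def] at this
          exact this
        rw [hbot] at htop
        refine ⟨1, ?_⟩
        rw [← htop, zpowers_one_eq_bot]
      · obtain ⟨x, hx⟩ : ∃ x, x ∉ commutator P := by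
          by_contra hall
          push Not at hall
          exact htop (eq_top_iff.2 fun g _ => hall g)
        refine ⟨x, ?_⟩
        apply frattini_nongenerating (G := P)
        rw [eq_top_iff]
        have hU : zpowers x ⊔ commutator P = ⊤ := by
          by_contra hne
          have hidx2 : (zpowers x ⊔ commutator P).relIndex ⊤ ≠ 1 := by
            rw [Subgroup.relIndex_top_right]
            intro h
            exact hne (Subgroup.index_eq_one.1 h)
          have hd : (zpowers x ⊔ commutator P).index ∣ (commutator P).index :=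
            Subgroup.index_dvd_of_le le_sup_right
          have hx2 : commutator P ≠ zpowers x ⊔ commutator P := by
            intro h
            apply hx
            rw [h]
            exact (le_sup_left : zpowers x ≤ _) (mem_zpowers x)
          obtain ⟨m, hm, hmc⟩ := card_sub hP (commutator P)
          have hkk2 := card_lt hP (le_sup_right : commutator P ≤ zpowers x ⊔ commutator P) hx2 hkc
          obtain ⟨l, hl, hlc⟩ := card_sub hP (zpowers x ⊔ commutator P)
          rw [hlc] at hkk2
          have hkl : k + 1 ≤ l := (Nat.pow_le_pow_iff_right hp2).1 hkk2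
          have hl4 : l = 4 := by omega
          apply hne
          apply Subgroup.eq_top_of_card_eq
          rw [hlc, hP, hl4]
        calc (⊤ : Subgroup P) = zpowers x ⊔ commutator P := hU.symm
          _ ≤ zpowers x ⊔ frattini P := sup_le_sup_left hle _
    obtain ⟨x, hx⟩ := hcycl
    have hcomm : commutator P = ⊥ := by
      rw [eq_bot_iff, _root_.commutator_def, commutator_le]
      intro g _ h _
      have hg : g ∈ zpowers x := by rw [hx]; trivial
      have hh : h ∈ zpowers x := by rw [hx]; trivial
      obtain ⟨a, rfl⟩ := mem_zpowers_iff.1 hg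
      obtain ⟨b, rfl⟩ := mem_zpowers_iff.1 hh
      rw [mem_bot, commutatorElement_eq_one_iff_mul_comm]
      exact (Commute.refl x).zpow_zpow a b
    rw [hcomm, Subgroup.card_bot] at hkc
    have : 1 < p ^ k := Nat.one_lt_pow (by omega) (by omega)
    omega
  have : k = 2 := by omega
  rw [hidx, this]

end Cfsg.Agent.Lib.LdP4
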