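import Mathlib
import Cfsg.Agent.Lib.H1Cop
import Cfsg.Agent.Lib.H1Quat

/-!
# Sections isomorphic to `SL(2,3)` from odd automorphisms of quaternion subgroups
-/

set_option autoImplicit false

namespace Cfsg.Agent.Lib.LdQuat

open Subgroup QuaternionGroup

abbrev Q8 := QuaternionGroup 2
abbrev SL23 := Matrix.SpecialLinearGroup (Fin 2) (ZMod 3)

def uu3 : SL23 := ⟨!![0, -1; 1, 0], by decide +kernel⟩
def ww3 : SL23 := ⟨!![1, 1; 1, -1], by decide +kernel⟩
def tt3 : SL23 := ⟨!![1, 1; 0, 1], by decide +kernel⟩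

def ff3 : Q8 → SL23
  | .a i => uu3 ^ i.val
  | .xa i => ww3 * uu3 ^ i.val

theorem ff3_mul : ∀ x y : Q8, ff3 (x * y) = ff3 x * ff3 y := by decide +kernel

def ffH : Q8 →* SL23 := MonoidHom.mk' ff3 ff3_mul

def hm (x y : Q8) : Q8 → Q8
  | a i => x ^ i.val
  | xa i => y * x ^ i.val

/-- The standard automorphism of order three. -/
def tau : Q8 → Q8 := hm (xa 0) (xa 3)

def tauInv : Q8 → Q8 := hm (xa 3) (a 1)

theorem tau_mul : ∀ x y : Q8, tau (x * y) = tau x * tau y := by decide +kernel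
theorem tau_inv1 : ∀ x : Q8, tauInv (tau x) = x := by decide +kernel
theorem tau_inv2 : ∀ x : Q8, tau (tauInv x) = x := by decide +kernel

def tauM : MulAut Q8 :=
  { toFun := tau
    invFun := tauInv
    left_inv := tau_inv1
    right_inv := tau_inv2
    map_mul' := tau_mul }

theorem tauM_apply (p : Q8) : tauM p = tau p := rfl

theorem tau3 : ∀ x : Q8, tau (tau (tau x)) = x := by decide +kernel

theorem tau_ne : ∃ x : Q8, tau x ≠ x := by decide +kernel

theorem ff_tau : ∀ p : Q8, tt3 * ff3 p * tt3⁻¹ = ff3 (tau p) := by decide +kernel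

theorem tt3_cube : tt3 ^ 3 = 1 := by decide +kernel

theorem ff_surj : ∀ s : SL23, ∃ p : Q8, ∃ m : Fin 3, s = ff3 p * tt3 ^ (m : ℕ) := by decide +kernel

theorem q8_pow4 : ∀ p : Q8, p ^ 4 = 1 := by decide +kernel

theorem D1 : ∀ x y : Q8, (∀ p q, hm x y (p * q) = hm x y p * hm x y q) →
    (∀ p q, hm x y p = hm x y q → p = q) → ∀ p, (hm x y)^[12] p = p := by decide +kernel

theorem D2 : ∀ x y : Q8, (∀ p q, hm x y (p * q) = hm x y p * hm x y q) →
    (∀ p, (hm x y)^[3] p = p) → (∃ p, hm x y p ≠ p) →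
    ∃ x' y' : Q8, (∀ p q, hm x' y' (p * q) = hm x' y' p * hm x' y' q) ∧
      (∀ p q, hm x' y' p = hm x' y' q → p = q) ∧
      ∀ p, hm x' y' (tau p) = hm x y (hm x' y' p) := by decide +kernel

theorem forall_a : ∀ i : ZMod (2 * 2), (a i : Q8) = (a 1) ^ i.val := by decide +kernel
theorem forall_xa : ∀ i : ZMod (2 * 2), (xa i : Q8) = xa 0 * (a 1) ^ i.val := by decide +kernel

theorem hom_eq_hm (f : Q8 →* Q8) (p : Q8) : f p = hm (f (a 1)) (f (xa 0)) p := by
  cases p with
  | a i =>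
    show f (a i) = f (a 1) ^ i.val
    rw [forall_a i, map_pow]
  | xa i =>
    show f (xa i) = f (xa 0) * f (a 1) ^ i.val
    rw [forall_xa i, map_mul, map_pow]

variable {G : Type*} [Group G]

/-- Conjugation by powers, from conjugation by the generator. -/
theorem rel_zpow {X : Type*} [Group X] (j : Q8 →* X) (v : X)
    (hv : ∀ p, v * j p * v⁻¹ = j (tauM p)) (z : ℤ) (p : Q8) :
    j ((tauM ^ z) p) = v ^ z * j p * (v ^ z)⁻¹ := by
  induction z using Int.induction_on generalizing p with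
  | zero => simp
  | succ k ih =>
    rw [zpow_add_one, MulAut.mul_apply, ih, ← hv p, zpow_add_one]
    group
  | pred k ih =>
    rw [zpow_sub_one, MulAut.mul_apply, ih, zpow_sub_one]
    have h1 := hv (tauM⁻¹ p)
    rw [MulAut.apply_inv_self] at h1
    have h2 : j (tauM⁻¹ p) = v⁻¹ * j p * v := by
      rw [← h1]
      group
    rw [h2]
    group

def phi : Multiplicative ℤ →* MulAut Q8 := zpowersHom (MulAut Q8) tauM

theorem phi_apply (z : Multiplicative ℤ) : phi z = tauM ^ (Multiplicative.toAdd z) := rfl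

theorem lift_rel {X : Type*} [Group X] (j : Q8 →* X) (v : X)
    (hv : ∀ p, v * j p * v⁻¹ = j (tauM p)) (z : Multiplicative ℤ) :
    j.comp (phi z).toMonoidHom = (MulAut.conj (zpowersHom X v z)).toMonoidHom.comp j := by
  ext p
  exact rel_zpow j v hv (Multiplicative.toAdd z) p

/-- `L` is the semidirect product. -/
abbrev LL := SemidirectProduct Q8 (Multiplicative ℤ) phi

def liftHom {X : Type*} [Group X] (j : Q8 →* X) (v : X)
    (hv : ∀ p, v * j p * v⁻¹ = j (tauM p)) : LL →* X :=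
  SemidirectProduct.lift j (zpowersHom X v) (lift_rel j v hv)

theorem liftHom_apply {X : Type*} [Group X] (j : Q8 →* X) (v : X)
    (hv : ∀ p, v * j p * v⁻¹ = j (tauM p)) (l : LL) :
    liftHom j v hv l = j l.left * v ^ (Multiplicative.toAdd l.right) := rfl

theorem tauM_order : orderOf tauM = 3 := by
  haveI : Fact (Nat.Prime 3) := ⟨by norm_num⟩
  apply orderOf_eq_prime
  · ext x
    exact tau3 x
  · intro h
    obtain ⟨x, hx⟩ := tau_ne
    apply hx
    exact congrArg (fun f : MulAut Q8 => f x) h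

theorem hom_of [Finite G] (i : Q8 →* G) (hi : Function.Injective i) (g : G)
    (hg : ∀ p, g * i p * g⁻¹ = i (tauM p)) (hodd : Nat.Coprime (orderOf g) 2) :
    ∃ (H : Subgroup G) (Φ : H →* SL23), Function.Surjective Φ ∧ (∀ p, i p ∈ H) ∧ g ∈ H ∧
      H ≤ i.range ⊔ zpowers g := by
  classical
  have hff : ∀ p, tt3 * ffH p * tt3⁻¹ = ffH (tauM p) := ff_tau
  let A : LL →* G := liftHom i g hg
  let B : LL →* SL23 := liftHom ffH tt3 hff
  have h3r : 3 ∣ orderOf g := by
    rw [← tauM_order]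
    apply orderOf_dvd_of_pow_eq_one
    ext p
    apply hi
    have h := rel_zpow i g hg (orderOf g : ℤ) p
    rw [zpow_natCast, zpow_natCast, pow_orderOf_eq_one] at h
    simpa using h
  have hker : A.ker ≤ B.ker := by
    intro l hl
    rw [MonoidHom.mem_ker] at hl ⊢
    have hl' : i l.left * g ^ (Multiplicative.toAdd l.right) = 1 := hl
    set z := Multiplicative.toAdd l.right with hz
    have hs : g ^ z = i (l.left⁻¹) := by
      rw [map_inv]
      exact eq_inv_of_mul_eq_one_right hl'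
    have hs4 : (g ^ z) ^ 4 = 1 := by
      rw [hs, ← map_pow, q8_pow4, map_one]
    have hsr : (g ^ z) ^ orderOf g = 1 := by
      rw [← zpow_natCast, ← zpow_mul, mul_comm, zpow_mul, zpow_natCast, pow_orderOf_eq_one, one_zpow]
    have hcop : Nat.Coprime 4 (orderOf g) :=
      Nat.Coprime.symm (Nat.Coprime.pow_right 2 hodd)
    have hs1 : g ^ z = 1 := by
      have h1 := orderOf_dvd_of_pow_eq_one hs4
      have h2 := orderOf_dvd_of_pow_eq_one hsr
      have h3 := Nat.dvd_gcd h1 h2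
      rw [hcop.gcd_eq_one] at h3
      exact orderOf_eq_one_iff.1 (Nat.dvd_one.1 h3)
    have hp : l.left = 1 := by
      apply hi
      rw [map_one]
      rw [hs1, mul_one] at hl'
      exact hl'
    have h3z : (3 : ℤ) ∣ z := by
      have h1 : ((orderOf g : ℕ) : ℤ) ∣ z := orderOf_dvd_iff_zpow_eq_one.2 hs1
      exact dvd_trans (by exact_mod_cast h3r) h1
    obtain ⟨w, hw⟩ := h3z
    show ffH l.left * tt3 ^ (Multiplicative.toAdd l.right) = 1
    rw [hp, map_one, one_mul, ← hz, hw, zpow_mul]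
    have : tt3 ^ (3 : ℤ) = 1 := by
      rw [show (3 : ℤ) = ((3 : ℕ) : ℤ) from rfl, zpow_natCast, tt3_cube]
    rw [this, one_zpow]
  let A' : LL →* A.range := A.rangeRestrict
  have hA' : Function.Surjective A' := A.rangeRestrict_surjective
  have hker' : A'.ker ≤ B.ker := by
    rw [MonoidHom.ker_rangeRestrict]
    exact hker
  let Φ : A.range →* SL23 := A'.liftOfSurjective hA' ⟨B, hker'⟩
  have hΦ : ∀ l, Φ (A' l) = B l := fun l => A'.liftOfRightInverse_comp_apply _ _ ⟨B, hker'⟩ l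
  have hΦs : Function.Surjective Φ := by
    intro s
    obtain ⟨p, m, rfl⟩ := ff_surj s
    refine ⟨A' ⟨p, Multiplicative.ofAdd ((m : ℕ) : ℤ)⟩, ?_⟩
    rw [hΦ]
    show ffH p * tt3 ^ (((m : ℕ) : ℤ)) = _
    rw [zpow_natCast]
    rfl
  refine ⟨A.range, Φ, hΦs, fun p => ⟨⟨p, 1⟩, ?_⟩, ⟨⟨1, Multiplicative.ofAdd (1 : ℤ)⟩, ?_⟩, ?_⟩
  · show i p * g ^ (Multiplicative.toAdd (1 : Multiplicative ℤ)) = i p
    simp
  · show i 1 * g ^ (Multiplicative.toAdd (Multiplicative.ofAdd (1 : ℤ))) = g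
    simp
  · rintro _ ⟨l, rfl⟩
    show i l.left * g ^ (Multiplicative.toAdd l.right) ∈ _
    exact mul_mem (Subgroup.mem_sup_left ⟨_, rfl⟩)
      (Subgroup.mem_sup_right (zpow_mem (mem_zpowers g) _))

theorem section_of [Finite G] (i : Q8 →* G) (hi : Function.Injective i) (g : G)
    (hg : ∀ p, g * i p * g⁻¹ = i (tauM p)) (hodd : Nat.Coprime (orderOf g) 2) :
    ∃ (H K : Subgroup G) (_ : (K.subgroupOf H).Normal), Nonempty ((H ⧸ K.subgroupOf H) ≃* SL23) := by
  obtain ⟨H, Φ, hΦs, -, -, -⟩ := hom_of i hi g hg hodd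
  have hk : (Φ.ker.map H.subtype).subgroupOf H = Φ.ker :=
    Subgroup.comap_map_eq_self_of_injective H.subtype_injective _
  have hN : ((Φ.ker.map H.subtype).subgroupOf H).Normal := by
    rw [hk]
    infer_instance
  exact ⟨H, Φ.ker.map H.subtype, hN,
    ⟨(QuotientGroup.quotientMulEquivOfEq hk).trans (QuotientGroup.quotientKerEquivOfSurjective Φ hΦs)⟩⟩

theorem mulAut_pow_apply {X : Type*} [Group X] (f : MulAut X) (k : ℕ) (p : X) :
    (f ^ k) p = (f : X → X)^[k] p := by
  induction k generalizing p with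
  | zero => simp
  | succ k ih =>
    rw [pow_succ, MulAut.mul_apply, ih, Function.iterate_succ_apply]

/-- From a quaternion subgroup and an odd automorphism to a normalized embedding. -/
theorem iota_of_q8 [Finite G] (Q : Subgroup G) (E : Q ≃* Q8) (g : G)
    (hg : g ∈ normalizer (Q : Set G)) (hodd : Nat.Coprime (orderOf g) 2)
    (hgc : g ∉ centralizer (Q : Set G)) :
    ∃ i : Q8 →* G, Function.Injective i ∧ (∀ p, g * i p * g⁻¹ = i (tauM p)) ∧ i.range ≤ Q := by
  classical
  let c : MulAut Q := Q.normalizerMonoidHom ⟨g, hg⟩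
  have hc : ∀ q : Q, ((c q : Q) : G) = g * q * g⁻¹ := fun q => rfl
  let T' : MulAut Q8 := (MulAut.congr E) c
  have hT' : ∀ p, (E.symm (T' p) : Q) = c (E.symm p) := by
    intro p
    simp [T', MulAut.congr]
  have hord : orderOf T' ∣ orderOf g := by
    apply orderOf_dvd_of_pow_eq_one
    have h1 : c ^ orderOf g = 1 := by
      have h2 : (⟨g, hg⟩ : normalizer (Q : Set G)) ^ orderOf g = 1 := by
        apply Subtype.ext
        simp [pow_orderOf_eq_one]
      show (Q.normalizerMonoidHom ⟨g, hg⟩) ^ orderOf g = 1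
      rw [← map_pow, h2, map_one]
    show ((MulAut.congr E) c) ^ orderOf g = 1
    rw [← map_pow, h1, map_one]
  have hform : ∀ p, T' p = hm (T' (a 1)) (T' (xa 0)) p :=
    fun p => hom_eq_hm T'.toMonoidHom p
  have hhom : ∀ p q, hm (T' (a 1)) (T' (xa 0)) (p * q) =
      hm (T' (a 1)) (T' (xa 0)) p * hm (T' (a 1)) (T' (xa 0)) q := by
    intro p q
    rw [← hform, ← hform, ← hform, map_mul]
  have hinj : ∀ p q, hm (T' (a 1)) (T' (xa 0)) p = hm (T' (a 1)) (T' (xa 0)) q → p = q := by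
    intro p q h
    rw [← hform, ← hform] at h
    exact T'.injective h
  have hfun : hm (T' (a 1)) (T' (xa 0)) = (T' : Q8 → Q8) := by
    funext p
    exact (hform p).symm
  have h12 : T' ^ 12 = 1 := by
    ext p
    rw [mulAut_pow_apply, ← hfun]
    exact D1 _ _ hhom hinj p
  have hord3 : orderOf T' ∣ 3 := by
    have h1 : orderOf T' ∣ 4 * 3 := orderOf_dvd_of_pow_eq_one h12
    have h2 : Nat.Coprime (orderOf T') 4 :=
      Nat.Coprime.pow_right 2 (Nat.Coprime.coprime_dvd_left hord hodd)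
    exact h2.dvd_of_dvd_mul_left h1
  have h3 : T' ^ 3 = 1 := orderOf_dvd_iff_pow_eq_one.1 hord3
  have hne : ∃ p, hm (T' (a 1)) (T' (xa 0)) p ≠ p := by
    by_contra hcon
    push Not at hcon
    apply hgc
    rw [mem_centralizer_iff]
    intro x hx
    have h1 := hcon (E ⟨x, hx⟩)
    rw [← hform] at h1
    have h2 := hT' (E ⟨x, hx⟩)
    rw [h1] at h2
    simp only [MulEquiv.symm_apply_apply] at h2
    have h4 := congrArg Subtype.val h2
    rw [hc] at h4
    simp only at h4
    have h5 : x * g = g * x * g⁻¹ * g := by rw [← h4]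
    rw [h5]
    group
  have hit3 : ∀ p, (hm (T' (a 1)) (T' (xa 0)))^[3] p = p := by
    intro p
    rw [hfun, ← mulAut_pow_apply, h3]
    rfl
  obtain ⟨x', y', h1, h2, h4⟩ := D2 _ _ hhom hit3 hne
  let σ : Q8 →* Q8 := MonoidHom.mk' (hm x' y') h1
  have hσ : ∀ p, σ p = hm x' y' p := fun p => rfl
  let i : Q8 →* G := Q.subtype.comp (E.symm.toMonoidHom.comp σ)
  have hi : Function.Injective i := by
    intro p q h
    have h5 : E.symm (σ p) = E.symm (σ q) := Subtype.ext h
    exact h2 p q (E.symm.injective h5)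
  have hrel : ∀ p, g * i p * g⁻¹ = i (tauM p) := by
    intro p
    have h5 := h4 p
    rw [hfun] at h5
    have h6 := hT' (hm x' y' p)
    rw [← h5] at h6
    have h7 := congrArg Subtype.val h6
    rw [hc] at h7
    exact h7.symm
  refine ⟨i, hi, hrel, ?_⟩
  rintro _ ⟨p, rfl⟩
  exact (E.symm (σ p)).2

/-- From a quaternion subgroup and an odd automorphism to a section. -/
theorem section_of_q8 [Finite G] (Q : Subgroup G) (E : Q ≃* Q8) (g : G)
    (hg : g ∈ normalizer (Q : Set G)) (hodd : Nat.Coprime (orderOf g) 2)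
    (hgc : g ∉ centralizer (Q : Set G)) :
    ∃ (H K : Subgroup G) (_ : (K.subgroupOf H).Normal), Nonempty ((H ⧸ K.subgroupOf H) ≃* SL23) := by
  obtain ⟨i, hi, hrel, -⟩ := iota_of_q8 Q E g hg hodd hgc
  exact section_of i hi g hrel hodd

theorem card_SL23 : Nat.card SL23 = 24 := by
  rw [Nat.card_eq_fintype_card]
  decide +kernel

/-- If moreover `Q ⊔ ⟨g⟩` has order 24, it is isomorphic to `SL(2,3)`. -/
theorem iso_of_q8 [Finite G] (Q : Subgroup G) (E : Q ≃* Q8) (g : G)
    (hg : g ∈ normalizer (Q : Set G)) (hodd : Nat.Coprime (orderOf g) 2)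
    (hgc : g ∉ centralizer (Q : Set G)) (h24 : Nat.card (Q ⊔ zpowers g : Subgroup G) = 24) :
    Nonempty ((Q ⊔ zpowers g : Subgroup G) ≃* SL23) := by
  classical
  obtain ⟨i, hi, hrel, hr⟩ := iota_of_q8 Q E g hg hodd hgc
  obtain ⟨H, Φ, hΦs, h1, h2, h3⟩ := hom_of i hi g hrel hodd
  have hle : H ≤ Q ⊔ zpowers g := h3.trans (sup_le_sup_right hr _)
  have hcardrange : Nat.card i.range = 8 := by
    rw [Nat.card_congr (MonoidHom.ofInjective hi).toEquiv.symm, Nat.card_eq_fintype_card, QuaternionGroup.card]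
  have hcardQ : Nat.card Q = 8 := by
    rw [Nat.card_congr E.toEquiv, Nat.card_eq_fintype_card, QuaternionGroup.card]
  have hQr : i.range = Q := Subgroup.eq_of_le_of_card_ge hr (by rw [hcardrange, hcardQ])
  have hge : Q ⊔ zpowers g ≤ H := by
    apply sup_le
    · rw [← hQr]
      rintro _ ⟨p, rfl⟩
      exact h1 p
    · rw [zpowers_le]
      exact h2
  obtain rfl : H = Q ⊔ zpowers g := le_antisymm hle hge
  have hb : Function.Bijective Φ := by
    apply Function.Surjective.bijective_of_nat_card_le hΦs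
    rw [h24, card_SL23]
  exact ⟨MulEquiv.ofBijective Φ hb⟩

end Cfsg.Agent.Lib.LdQuat
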