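import Mathlib

set_option autoImplicit false
set_option linter.unusedSectionVars false
set_option linter.unusedVariables false
set_option linter.style.haveILetI false

/-!
Linear algebra for affine permutations.
-/

namespace Cfsg.Agent.Lib.LeadAffine

section

variable {K V : Type*} [Field K] [AddCommGroup V] [Module K V] [FiniteDimensional K V]

/-- Two linearly independent families indexed by the same type are conjugate under `GL(V)`. -/
theorem exists_linearEquiv_of_linearIndependent {ι : Type*} [Finite ι] {u v : ι → V}
    (hu : LinearIndependent K u) (hv : LinearIndependent K v) :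
    ∃ A : V ≃ₗ[K] V, ∀ i, A (u i) = v i := by
  classical
  let f := hu.linearCombinationEquiv.symm ≪≫ₗ hv.linearCombinationEquiv
  obtain ⟨g, hg⟩ := Submodule.exists_linearEquiv_restrict_eq f
  refine ⟨g, fun i => ?_⟩
  have qu : (hu.linearCombinationEquiv (Finsupp.single i 1) : V) = u i := by simp
  have qv : (hv.linearCombinationEquiv (Finsupp.single i 1) : V) = v i := by simp
  rw [← qu, ← hg, ← qv]
  simp [f]

/-- Two nonzero vectors are `GL`-conjugate. -/
theorem exists_linearEquiv_single {u v : V} (hu : u ≠ 0) (hv : v ≠ 0) :
    ∃ A : V ≃ₗ[K] V, A u = v := by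
  obtain ⟨A, hA⟩ := exists_linearEquiv_of_linearIndependent (ι := Unit) (K := K)
    (u := fun _ => u) (v := fun _ => v)
    (LinearIndependent.of_subsingleton (i := ()) hu) (LinearIndependent.of_subsingleton (i := ()) hv)
  exact ⟨A, hA ()⟩

/-- A bijection preserving "lines" with scalars in a field where two is invertible, is affine. -/
theorem affine_of_combination [Invertible (2 : K)] (σ : Equiv.Perm V)
    (h : ∀ (x y : V) (c : K), σ (x + c • (y - x)) = σ x + c • (σ y - σ x)) :
    ∃ (A : V ≃ₗ[K] V) (b : V), ∀ x, σ x = A x + b := by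
  -- `τ x = σ x - σ 0` is linear
  have hsmul : ∀ (c : K) (y : V), σ (c • y) - σ 0 = c • (σ y - σ 0) := by
    intro c y
    have := h 0 y c
    simp only [zero_add, sub_zero] at this
    rw [this]
    abel
  have hadd : ∀ x y : V, σ (x + y) - σ 0 = (σ x - σ 0) + (σ y - σ 0) := by
    intro x y
    have h1 := h x y (⅟2 : K)
    have e1 : x + (⅟2 : K) • (y - x) = (⅟2 : K) • (x + y) := by
      have h2 : (2 : K) • ((⅟2 : K) • x) = x := by
        rw [smul_smul, mul_invOf_self, one_smul]
      rw [smul_sub, smul_add]
      nth_rw 1 [← h2]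
      rw [two_smul]
      abel
    rw [e1] at h1
    have h3 := hsmul (⅟2 : K) (x + y)
    rw [h1] at h3
    -- multiply by two
    have h4 := congrArg (fun z => (2 : K) • z) h3
    simp only [smul_sub, smul_add, smul_smul, mul_invOf_self, one_smul] at h4
    rw [two_smul, two_smul] at h4
    rw [← h4]
    abel
  let L : V →ₗ[K] V :=
    { toFun := fun x => σ x - σ 0
      map_add' := hadd
      map_smul' := fun c y => by simpa using hsmul c y }
  have hinj : Function.Injective L := by
    intro x y hxy
    have : σ x - σ 0 = σ y - σ 0 := hxy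
    exact σ.injective (sub_left_inj.1 this)
  refine ⟨LinearEquiv.ofInjectiveEndo L hinj, σ 0, fun x => ?_⟩
  show σ x = (σ x - σ 0) + σ 0
  abel

end

end Cfsg.Agent.Lib.LeadAffine
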