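import Mathlib
import Cfsg.Agent.Lib.FGSBasic

set_option autoImplicit false
set_option linter.unusedSectionVars false
set_option linter.unusedVariables false
set_option linter.style.haveILetI false

/-!
The subgroup generated by derangements.
-/

namespace Cfsg.Agent.Lib.LeadDerange

open MulAction

section Count

variable {D Ω : Type*} [Group D] [MulAction D Ω]

/-- In a transitive action: `#{d | d • ω = ω'} * |Ω| = |D|`. -/
lemma card_transporter [Finite D] [Finite Ω] [IsPretransitive D Ω] (ω ω' : Ω) :
    Nat.card {d : D // d • ω = ω'} * Nat.card Ω = Nat.card D := by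
  obtain ⟨d₀, hd₀⟩ := exists_smul_eq D ω ω'
  have h1 : Nat.card {d : D // d • ω = ω'} = Nat.card (stabilizer D ω) := by
    apply Nat.card_congr
    refine ⟨fun d => ⟨d₀⁻¹ * d.1, ?_⟩, fun d => ⟨d₀ * d.1, ?_⟩, ?_, ?_⟩
    · show (d₀⁻¹ * d.1) • ω = ω
      rw [mul_smul, d.2, ← hd₀, inv_smul_smul]
    · have : d.1 • ω = ω := d.2
      rw [mul_smul, this, hd₀]
    · intro d; ext; simp
    · intro d; ext; simp
  rw [h1]
  have h2 := (stabilizer D ω).card_mul_index
  rw [index_stabilizer, orbit_eq_univ, Set.ncard_univ] at h2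
  exact h2

/-- Double counting: `∑_d #{ω | d • ω = f ω} = |D|` for a transitive action on a nonempty set. -/
lemma sum_card_eq_smul [Fintype D] [Fintype Ω] [DecidableEq Ω] [IsPretransitive D Ω] [Nonempty Ω]
    (f : Ω → Ω) :
    ∑ d : D, (Finset.univ.filter (fun ω : Ω => d • ω = f ω)).card = Fintype.card D := by
  classical
  have h1 : ∑ d : D, (Finset.univ.filter (fun ω : Ω => d • ω = f ω)).card =
      ∑ ω : Ω, (Finset.univ.filter (fun d : D => d • ω = f ω)).card := by
    simp only [Finset.card_filter]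
    exact Finset.sum_comm
  rw [h1]
  obtain ⟨ω₀⟩ := ‹Nonempty Ω›
  -- every term equals `|D| / |Ω|`
  have hterm : ∀ ω ω' : Ω, (Finset.univ.filter (fun d : D => d • ω = ω')).card * Fintype.card Ω = Fintype.card D := by
    intro ω ω'
    have := card_transporter (D := D) ω ω'
    rw [Nat.card_eq_fintype_card (α := Ω), Nat.card_eq_fintype_card (α := D),
      Nat.card_eq_fintype_card (α := {d : D // d • ω = ω'}), Fintype.card_subtype] at this
    exact this
  have hpos : 0 < Fintype.card Ω := Fintype.card_pos_iff.2 ⟨ω₀⟩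
  have heq : ∀ ω, (Finset.univ.filter (fun d : D => d • ω = f ω)).card =
      (Finset.univ.filter (fun d : D => d • ω₀ = ω₀)).card := by
    intro ω
    apply Nat.eq_of_mul_eq_mul_right hpos
    rw [hterm, hterm]
  simp only [heq]
  rw [Finset.sum_const, Finset.card_univ, smul_eq_mul, mul_comm, hterm]

end Count

variable (G Ω : Type*) [Group G] [MulAction G Ω]

/-- The subgroup generated by derangements. -/
abbrev derSub : Subgroup G := Subgroup.closure {g : G | ∀ ω : Ω, g • ω ≠ ω}

instance derSub_normal : (derSub G Ω).Normal := by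
  refine ⟨fun x hx g => ?_⟩
  induction hx using Subgroup.closure_induction with
  | mem y hy =>
    apply Subgroup.subset_closure
    intro ω hω
    apply hy (g⁻¹ • ω)
    have e : (g * y * g⁻¹) • ω = g • y • g⁻¹ • ω := by simp [mul_smul]
    rw [e] at hω
    rw [eq_inv_smul_iff]
    exact hω
  | one => simp
  | mul a b _ _ ha hb =>
    have : g * (a * b) * g⁻¹ = (g * a * g⁻¹) * (g * b * g⁻¹) := by group
    rw [this]; exact Subgroup.mul_mem _ ha hb
  | inv a _ ha =>
    have : g * a⁻¹ * g⁻¹ = (g * a * g⁻¹)⁻¹ := by group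
    rw [this]; exact Subgroup.inv_mem _ ha

variable {G Ω} [Finite G] [Finite Ω]

lemma der_trans (htrans : IsPretransitive G Ω) : IsPretransitive (derSub G Ω) Ω := by
  rcases isEmpty_or_nonempty Ω with he | ⟨⟨a⟩⟩
  · exact ⟨fun x => he.elim x⟩
  set D := derSub G Ω with hD
  set T := D ⊔ stabilizer G a with hT
  have hTtop : T = ⊤ := by
    by_contra h
    obtain ⟨x, hx⟩ := Cfsg.Agent.Lib.FGSBasic.exists_not_mem_conj T h
    have hxD : x ∈ D := by
      apply Subgroup.subset_closure
      intro ω hω
      obtain ⟨g, rfl⟩ := exists_smul_eq G a ω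
      apply hx g
      apply Subgroup.mem_sup_right
      show (g⁻¹ * x * g) • a = a
      rw [mul_smul, mul_smul, hω, inv_smul_smul]
    exact hx 1 (by simpa using Subgroup.mem_sup_left hxD)
  refine ⟨fun c e => ?_⟩
  have hbase : ∀ ω : Ω, ∃ d : D, d • a = ω := by
    intro ω
    obtain ⟨g, rfl⟩ := exists_smul_eq G a ω
    have hg : g ∈ T := by rw [hTtop]; exact Subgroup.mem_top g
    rw [hT, Subgroup.mem_sup_of_normal_left] at hg
    obtain ⟨d, hd, h, hh, rfl⟩ := hg
    refine ⟨⟨d, hd⟩, ?_⟩
    show d • a = (d * h) • a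
    rw [mul_smul, show h • a = a from hh]
  obtain ⟨d, rfl⟩ := hbase c
  obtain ⟨d', rfl⟩ := hbase e
  exact ⟨d' * d⁻¹, by simp [mul_smul]⟩

/-- Elements outside `D` have exactly one fixed point (and similarly for all of their coset). -/
lemma fix_eq_one_of_not_mem (htrans : IsPretransitive G Ω) {g : G} (hg : g ∉ derSub G Ω) :
    Nat.card (fixedBy Ω g) = 1 := by
  classical
  haveI := Fintype.ofFinite G
  haveI := Fintype.ofFinite Ω
  haveI : Fintype (derSub G Ω) := Fintype.ofFinite _
  have hne : Nonempty Ω := by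
    by_contra h
    apply hg
    apply Subgroup.subset_closure
    intro ω
    exact (h ⟨ω⟩).elim
  haveI := der_trans htrans
  have hsum := sum_card_eq_smul (D := derSub G Ω) (fun ω : Ω => g⁻¹ • ω)
  -- fixed points of `g * d`.
  have hfix : ∀ d : derSub G Ω, (Finset.univ.filter (fun ω : Ω => d • ω = g⁻¹ • ω)).card =
      Nat.card (fixedBy Ω (g * d.1)) := by
    intro d
    have e : (fixedBy Ω (g * d.1)) = ↑(Finset.univ.filter (fun ω : Ω => d • ω = g⁻¹ • ω)) := by
      ext ω
      simp only [mem_fixedBy, Finset.coe_filter, Finset.mem_univ, true_and, Set.mem_setOf_eq]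
      rw [eq_inv_smul_iff, mul_smul]
      rfl
    rw [e, Nat.card_coe_set_eq, Set.ncard_coe_finset]
  have hge : ∀ d : derSub G Ω, 1 ≤ (Finset.univ.filter (fun ω : Ω => d • ω = g⁻¹ • ω)).card := by
    intro d
    rw [Nat.one_le_iff_ne_zero, Ne, Finset.card_eq_zero]
    intro hemp
    apply hg
    have : g * d.1 ∈ derSub G Ω := by
      apply Subgroup.subset_closure
      intro ω hω
      have : ω ∈ (Finset.univ.filter (fun ω : Ω => d • ω = g⁻¹ • ω)) := by
        simp only [Finset.mem_filter, Finset.mem_univ, true_and]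
        rw [eq_inv_smul_iff]
        rw [mul_smul] at hω
        exact hω
      rw [hemp] at this
      simp at this
    have h2 : g = (g * d.1) * d.1⁻¹ := by group
    rw [h2]
    exact Subgroup.mul_mem _ this (Subgroup.inv_mem _ d.2)
  have hall : ∀ d : derSub G Ω, (Finset.univ.filter (fun ω : Ω => d • ω = g⁻¹ • ω)).card = 1 := by
    by_contra hcon
    push Not at hcon
    obtain ⟨d₀, hd₀⟩ := hcon
    have hlt : ∑ d : derSub G Ω, 1 < ∑ d : derSub G Ω, (Finset.univ.filter (fun ω : Ω => d • ω = g⁻¹ • ω)).card := by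
      apply Finset.sum_lt_sum (fun d _ => hge d)
      exact ⟨d₀, Finset.mem_univ _, lt_of_le_of_ne (hge d₀) (Ne.symm hd₀)⟩
    rw [hsum] at hlt
    simp at hlt
  have := hall 1
  rw [hfix] at this
  simpa using this

/-- (S3547) -/
theorem rank_formula (htrans : IsPretransitive G Ω) :
    Nat.card (orbitRel.Quotient (derSub G Ω) (Ω × Ω)) - 1 =
      (Nat.card (orbitRel.Quotient G (Ω × Ω)) - 1) * (derSub G Ω).index := by
  classical
  haveI := Fintype.ofFinite G
  haveI := Fintype.ofFinite Ω
  haveI : Fintype (derSub G Ω) := Fintype.ofFinite _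
  set D := derSub G Ω with hD
  haveI : Fintype (orbitRel.Quotient G (Ω × Ω)) := Fintype.ofFinite _
  haveI : Fintype (orbitRel.Quotient D (Ω × Ω)) := Fintype.ofFinite _
  have hcardfix : ∀ g : G, Fintype.card (fixedBy (Ω × Ω) g) = Nat.card (fixedBy Ω g) ^ 2 := by
    intro g
    rw [sq, ← Nat.card_prod, ← Nat.card_eq_fintype_card]
    apply Nat.card_congr
    exact
      { toFun := fun x => (⟨x.1.1, congrArg Prod.fst x.2⟩, ⟨x.1.2, congrArg Prod.snd x.2⟩)
        invFun := fun x => ⟨(x.1.1, x.2.1), Prod.ext x.1.2 x.2.2⟩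
        left_inv := fun x => rfl
        right_inv := fun x => rfl }
  have hcardfixD : ∀ d : D, Fintype.card (fixedBy (Ω × Ω) d) = Nat.card (fixedBy Ω d.1) ^ 2 := by
    intro g
    rw [sq, ← Nat.card_prod, ← Nat.card_eq_fintype_card]
    apply Nat.card_congr
    exact
      { toFun := fun x => (⟨x.1.1, congrArg Prod.fst x.2⟩, ⟨x.1.2, congrArg Prod.snd x.2⟩)
        invFun := fun x => ⟨(x.1.1, x.2.1), Prod.ext x.1.2 x.2.2⟩
        left_inv := fun x => rfl
        right_inv := fun x => rfl }
  have hA := sum_card_fixedBy_eq_card_orbits_mul_card_group G (Ω × Ω)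
  have hB := sum_card_fixedBy_eq_card_orbits_mul_card_group D (Ω × Ω)
  simp only [hcardfix] at hA
  simp only [hcardfixD] at hB
  -- split the sum over G
  have hC : ∑ g : G, Nat.card (fixedBy Ω g) ^ 2 =
      ∑ d : D, Nat.card (fixedBy Ω d.1) ^ 2 + (Fintype.card G - Fintype.card D) := by
    have hsplit := Finset.sum_filter_add_sum_filter_not (Finset.univ : Finset G) (fun g => g ∈ D)
      (fun g => Nat.card (fixedBy Ω g) ^ 2)
    have h1 : ∑ g ∈ Finset.univ.filter (fun g => g ∈ D), Nat.card (fixedBy Ω g) ^ 2 =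
        ∑ d : D, Nat.card (fixedBy Ω d.1) ^ 2 := by
      apply Finset.sum_subtype
      simp
    have h2 : ∑ g ∈ Finset.univ.filter (fun g => ¬ g ∈ D), Nat.card (fixedBy Ω g) ^ 2 =
        Fintype.card G - Fintype.card D := by
      rw [Finset.sum_congr rfl (g := fun _ => 1)]
      · simp only [Finset.sum_const, smul_eq_mul, mul_one]
        rw [Finset.filter_not, Finset.card_sdiff_of_subset (Finset.filter_subset _ _), Finset.card_univ]
        congr 1
        rw [← Fintype.card_subtype]
      · intro g hg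
        simp only [Finset.mem_filter, Finset.mem_univ, true_and] at hg
        rw [fix_eq_one_of_not_mem htrans hg]
        simp
    rw [← hsplit, h1, h2]
  rw [Nat.card_eq_fintype_card, Nat.card_eq_fintype_card]
  set rG := Fintype.card (orbitRel.Quotient G (Ω × Ω)) with hrG
  set rD := Fintype.card (orbitRel.Quotient D (Ω × Ω)) with hrD
  set i := D.index with hi
  set dd := Fintype.card D with hdd
  have hidx : i * dd = Fintype.card G := by
    have := D.index_mul_card
    rwa [Nat.card_eq_fintype_card, Nat.card_eq_fintype_card] at this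
  have hdpos : 0 < dd := Fintype.card_pos
  have hipos : 0 < i := Nat.pos_of_ne_zero Subgroup.index_ne_zero_of_finite
  rw [hC, hB, ← hidx] at hA
  have hle : dd ≤ i * dd := Nat.le_mul_of_pos_left _ hipos
  have key : (rG * i + 1) * dd = (rD + i) * dd := by
    have : rD * dd + (i * dd - dd) + dd = rD * dd + i * dd := by omega
    calc (rG * i + 1) * dd = rG * (i * dd) + dd := by ring
      _ = rD * dd + (i * dd - dd) + dd := by rw [hA]
      _ = rD * dd + i * dd := this
      _ = (rD + i) * dd := by ring
  have key2 : rG * i + 1 = rD + i := Nat.eq_of_mul_eq_mul_right hdpos key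
  rcases rG with _ | s
  · simp only [zero_mul, zero_add, Nat.zero_sub] at key2 ⊢
    omega
  · simp only [Nat.add_sub_cancel]
    have : (s + 1) * i = s * i + i := by ring
    omega

end Cfsg.Agent.Lib.LeadDerange
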