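import Mathlib

set_option autoImplicit false
set_option linter.unusedSectionVars false
set_option linter.unusedVariables false
set_option linter.style.haveILetI false

/-!
Index arithmetic for orbits of subgroups.
-/

namespace Cfsg.Agent.Lib.LeadOrbit

open MulAction

section Index

variable {Γ : Type*} [Group Γ]

/-- `[B : A ∩ B]` divides `[G : A]` for `B` normal. -/
lemma relIndex_dvd_index_of_right_normal [Finite Γ] (A B : Subgroup Γ) [B.Normal] :
    A.relIndex B ∣ A.index := by
  have h1 : (A ⊓ B).relIndex B * B.index = (A ⊓ B).index := Subgroup.relIndex_mul_index inf_le_right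
  have h2 : (A ⊓ B).relIndex A * A.index = (A ⊓ B).index := Subgroup.relIndex_mul_index inf_le_left
  rw [Subgroup.inf_relIndex_right] at h1
  have h3 : (A ⊓ B).relIndex A = B.relIndex A := by
    rw [inf_comm, Subgroup.inf_relIndex_right]
  rw [h3] at h2
  obtain ⟨c, hc⟩ := Subgroup.relIndex_dvd_index_of_normal B A
  have hw : 0 < B.relIndex A := Nat.pos_of_dvd_of_pos (Subgroup.relIndex_dvd_card B A) Nat.card_pos
  rw [hc] at h1
  refine ⟨c, ?_⟩
  have : B.relIndex A * (A.relIndex B * c) = B.relIndex A * A.index := by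
    rw [h2, ← h1]; ring
  exact (Nat.eq_of_mul_eq_mul_left hw this).symm

/-- Relative version: for `K ≤ H` with `K` normalised by `H`, `[K : K ∩ S] ∣ [H : H ∩ S]`. -/
lemma relIndex_dvd_of_normalized [Finite Γ] (S K H : Subgroup Γ) (hKH : K ≤ H)
    (hn : H ≤ Subgroup.normalizer (K : Set Γ)) : S.relIndex K ∣ S.relIndex H := by
  have : (K.subgroupOf H).Normal := by
    refine ⟨fun x hx g => ?_⟩
    rw [Subgroup.mem_subgroupOf] at hx ⊢
    have := (Subgroup.mem_normalizer_iff.1 (hn g.2) x.1).1 hx
    simpa using this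
  have h := relIndex_dvd_index_of_right_normal (S.subgroupOf H) (K.subgroupOf H)
  rwa [Subgroup.relIndex_subgroupOf hKH] at h

/-- `[N ⊔ H : H]` divides `|N|` if `H` normalises `N`. -/
lemma relIndex_sup_dvd_card [Finite Γ] (N H : Subgroup Γ)
    (hn : H ≤ Subgroup.normalizer (N : Set Γ)) : H.relIndex (N ⊔ H) ∣ Nat.card N := by
  set X := N ⊔ H with hX
  have hNX : N ≤ X := le_sup_left
  have hHX : H ≤ X := le_sup_right
  have : (N.subgroupOf X).Normal := by
    have hle : X ≤ Subgroup.normalizer (N : Set Γ) := sup_le Subgroup.le_normalizer hn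
    refine ⟨fun x hx g => ?_⟩
    rw [Subgroup.mem_subgroupOf] at hx ⊢
    have := (Subgroup.mem_normalizer_iff.1 (hle g.2) x.1).1 hx
    simpa using this
  -- work inside `X`
  set A := H.subgroupOf X with hA
  set B := N.subgroupOf X with hB
  have hsup : A ⊔ B = ⊤ := by
    rw [hA, hB, ← Subgroup.subgroupOf_sup hHX hNX, sup_comm, ← hX, Subgroup.subgroupOf_self]
  have h1 : B.relIndex A = B.index := by
    rw [← Subgroup.relIndex_sup_right A B, hsup, Subgroup.relIndex_top_right]
  have h2 : (A ⊓ B).relIndex B * B.index = (A ⊓ B).index := Subgroup.relIndex_mul_index inf_le_right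
  have h3 : (A ⊓ B).relIndex A * A.index = (A ⊓ B).index := Subgroup.relIndex_mul_index inf_le_left
  rw [Subgroup.inf_relIndex_right] at h2
  rw [Subgroup.inf_relIndex_left, h1] at h3
  have hw : 0 < B.index := by
    rw [← h1]
    exact Nat.pos_of_dvd_of_pos (Subgroup.relIndex_dvd_card B A) Nat.card_pos
  have h4 : A.relIndex B = A.index := by
    have : B.index * A.relIndex B = B.index * A.index := by
      rw [h3, ← h2]; ring
    exact Nat.eq_of_mul_eq_mul_left hw this
  have h5 : H.relIndex X = A.index := rfl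
  rw [h5, ← h4]
  have h6 : A.relIndex B ∣ Nat.card B := Subgroup.relIndex_dvd_card A B
  have h7 : Nat.card B = Nat.card N := by
    rw [hB]
    exact Nat.card_congr (Subgroup.subgroupOfEquivOfLe hNX).toEquiv
  rwa [h7] at h6

end Index

section Orbit

variable {Γ X : Type*} [Group Γ] [MulAction Γ X]

/-- Orbit of a subgroup as a set with explicit description: its size is a relative index. -/
lemma card_orb (L : Subgroup Γ) (v : X) :
    Nat.card {u : X | ∃ g ∈ L, g • v = u} = (stabilizer Γ v).relIndex L := by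
  have h1 : (stabilizer Γ v).subgroupOf L = stabilizer L v := by
    ext x
    simp [Subgroup.mem_subgroupOf, mem_stabilizer_iff, Subgroup.smul_def]
  have h2 : {u : X | ∃ g ∈ L, g • v = u} = orbit L v := by
    ext u
    constructor
    · rintro ⟨g, hg, rfl⟩
      exact ⟨⟨g, hg⟩, rfl⟩
    · rintro ⟨g, rfl⟩
      exact ⟨g.1, g.2, rfl⟩
  rw [Subgroup.relIndex, h1, index_stabilizer, h2]
  rfl

end Orbit

end Cfsg.Agent.Lib.LeadOrbit
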