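import Mathlib

set_option autoImplicit false
set_option linter.unusedSectionVars false
set_option linter.unusedVariables false
set_option linter.style.haveILetI false

/-!
Small lemmas on permutation actions.
-/

namespace Cfsg.Agent.Lib.LeadPerm

open MulAction

variable {G Ω : Type*} [Group G] [MulAction G Ω]

lemma stabilizer_smul_mem_iff (g x : G) (a : Ω) :
    x ∈ stabilizer G (g • a) ↔ g⁻¹ * x * g ∈ stabilizer G a := by
  simp only [mem_stabilizer_iff, mul_smul]
  rw [inv_smul_eq_iff]

/-- Stabilisers of points in one orbit have the same size. -/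
lemma card_stabilizer_smul (g : G) (a : Ω) :
    Nat.card (stabilizer G (g • a)) = Nat.card (stabilizer G a) := by
  apply Nat.card_congr
  refine ⟨fun x => ⟨g⁻¹ * x.1 * g, (stabilizer_smul_mem_iff g x.1 a).1 x.2⟩,
    fun x => ⟨g * x.1 * g⁻¹, ?_⟩, ?_, ?_⟩
  · rw [stabilizer_smul_mem_iff]
    have : g⁻¹ * (g * x.1 * g⁻¹) * g = x.1 := by group
    rw [this]; exact x.2
  · intro x; ext; simp; group
  · intro x; ext; simp; group

/-- A normal point-stabiliser in a transitive faithful action is trivial. -/
lemma stabilizer_eq_bot_of_le_normal [FaithfulSMul G Ω] [IsPretransitive G Ω] {a : Ω}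
    (hn : (stabilizer G a).Normal) : stabilizer G a = ⊥ := by
  rw [eq_bot_iff]
  intro h hh
  rw [Subgroup.mem_bot]
  apply FaithfulSMul.eq_of_smul_eq_smul (α := Ω)
  intro y
  obtain ⟨g, rfl⟩ := exists_smul_eq G a y
  have h1 : g⁻¹ * h * g ∈ stabilizer G a := by
    have := hn.conj_mem h hh g⁻¹
    simpa using this
  have h2 : (g⁻¹ * h * g) • a = a := h1
  rw [one_smul]
  calc h • g • a = g • (g⁻¹ * h * g) • a := by simp [mul_smul]
    _ = g • a := by rw [h2]

lemma relIndex_mul_card' {K H : Subgroup G} (h : K ≤ H) : K.relIndex H * Nat.card K = Nat.card H := by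
  have := Subgroup.relIndex_mul_relIndex (⊥ : Subgroup G) K H bot_le h
  rw [Subgroup.relIndex_bot_left, Subgroup.relIndex_bot_left] at this
  rw [mul_comm]; exact this

/-- A normal subgroup inside a point stabiliser of a transitive faithful action is trivial. -/
lemma normal_le_stabilizer_eq_bot [FaithfulSMul G Ω] [IsPretransitive G Ω] {a : Ω} {K : Subgroup G}
    (hn : K.Normal) (hle : K ≤ stabilizer G a) : K = ⊥ := by
  rw [eq_bot_iff]
  intro h hh
  rw [Subgroup.mem_bot]
  apply FaithfulSMul.eq_of_smul_eq_smul (α := Ω)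
  intro y
  obtain ⟨g, rfl⟩ := exists_smul_eq G a y
  have h1 : g⁻¹ * h * g ∈ K := by
    have := hn.conj_mem h hh g⁻¹
    simpa using this
  have h2 : (g⁻¹ * h * g) • a = a := hle h1
  rw [one_smul]
  calc h • g • a = g • (g⁻¹ * h * g) • a := by simp [mul_smul]
    _ = g • a := by rw [h2]

/-- If a coatom is trivial, the group has prime order and is cyclic. -/
lemma prime_of_bot_coatom (hc : IsCoatom (⊥ : Subgroup G)) [Finite G] :
    IsCyclic G ∧ (Nat.card G).Prime := by
  classical
  have hbt : ∀ H : Subgroup G, H = ⊥ ∨ H = ⊤ := by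
    intro H
    by_cases h : H = ⊥
    · exact Or.inl h
    · right
      exact hc.2 H (bot_lt_iff_ne_bot.2 h)
  have hne : (⊥ : Subgroup G) ≠ ⊤ := hc.1
  obtain ⟨x, hx⟩ : ∃ x : G, x ≠ 1 := by
    by_contra h
    push Not at h
    apply hne
    rw [eq_top_iff]
    intro y _
    rw [Subgroup.mem_bot]
    exact h y
  have hcard1 : Nat.card G ≠ 1 := by
    intro h
    rw [Nat.card_eq_one_iff_unique] at h
    exact hx (h.1.elim x 1)
  have hq := Nat.minFac_prime hcard1
  have : Fact (Nat.card G).minFac.Prime := ⟨hq⟩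
  obtain ⟨y, hy⟩ := exists_prime_orderOf_dvd_card' (G := G) (Nat.card G).minFac (Nat.minFac_dvd _)
  have hz : Subgroup.zpowers y = ⊤ := by
    rcases hbt (Subgroup.zpowers y) with h | h
    · rw [Subgroup.zpowers_eq_bot] at h
      rw [h, orderOf_one] at hy
      exact absurd hy.symm hq.one_lt.ne'
    · exact h
  have hcyc : IsCyclic G := ⟨⟨y, fun z => by
    have : z ∈ Subgroup.zpowers y := by rw [hz]; exact Subgroup.mem_top z
    exact this⟩⟩
  refine ⟨hcyc, ?_⟩
  have hcard : Nat.card G = orderOf y := by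
    rw [← Nat.card_zpowers, hz, Subgroup.card_top]
  rw [hcard, hy]
  exact hq

/-- `S3683`. -/
theorem fix_two_points {G Ω : Type*} [Group G] [Finite G] [MulAction G Ω] [FaithfulSMul G Ω] [Finite Ω]
    (hprim : MulAction.IsPreprimitive G Ω) (a b : Ω) (hab : a ≠ b) (hfix : ∀ g : G, g • a = a → g • b = b) :
    MulAction.stabilizer G a = ⊥ ∧ IsCyclic G ∧ (Nat.card G).Prime := by
  classical
  have hp : IsPretransitive G Ω := hprim.toIsPretransitive
  have hnt : Nontrivial Ω := ⟨⟨a, b, hab⟩⟩
  have hcoat : IsCoatom (stabilizer G a) := (isCoatom_stabilizer_iff_preprimitive G a).2 hprim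
  obtain ⟨g, hg⟩ := exists_smul_eq G a b
  have hle : stabilizer G a ≤ stabilizer G b := fun x hx => hfix x hx
  have hcardb : Nat.card (stabilizer G b) = Nat.card (stabilizer G a) := by
    rw [← hg]; exact card_stabilizer_smul g a
  have heq : stabilizer G a = stabilizer G b := Subgroup.eq_of_le_of_card_ge hle hcardb.le
  have hgn : g ∈ Subgroup.normalizer ((stabilizer G a : Subgroup G) : Set G) := by
    rw [Subgroup.mem_normalizer_iff]
    intro x
    have h1 : g * x * g⁻¹ ∈ stabilizer G a ↔ x ∈ stabilizer G a := by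
      have e : g * x * g⁻¹ ∈ stabilizer G (g • a) ↔ x ∈ stabilizer G a := by
        rw [stabilizer_smul_mem_iff]
        have : g⁻¹ * (g * x * g⁻¹) * g = x := by group
        rw [this]
      rwa [hg, ← heq] at e
    exact h1.symm
  have hgnot : g ∉ stabilizer G a := fun h => hab (by rw [← hg]; exact (show g • a = a from h).symm)
  have htop : Subgroup.normalizer ((stabilizer G a : Subgroup G) : Set G) = ⊤ := by
    apply hcoat.2
    refine lt_of_le_of_ne Subgroup.le_normalizer ?_
    intro h
    apply hgnot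
    rw [h]
    exact hgn
  have hn : (stabilizer G a).Normal := Subgroup.normalizer_eq_top_iff.1 htop
  have hbot := stabilizer_eq_bot_of_le_normal hn
  rw [hbot] at hcoat
  exact ⟨hbot, prime_of_bot_coatom hcoat⟩

end Cfsg.Agent.Lib.LeadPerm
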