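import Cfsg.Agent.Lib.CharClifford
import Cfsg.Agent.Lib.CharGall
import Cfsg.Agent.Lib.CharAbQ
import Cfsg.Agent.Lib.BlockOku

/-! Linear characters induce to characters of degree `φ(1)[G:I]`. -/

set_option autoImplicit false

namespace Cfsg.Agent.Lib.Lin70

open Cfsg Cfsg.Agent.Lib Cfsg.Agent.Lib.BlockOku
open Cfsg.Agent.Lib.CharBasic Cfsg.Agent.Lib.CharOrth Cfsg.Agent.Lib.CharAlg
open Cfsg.Agent.Lib.CharInd Cfsg.Agent.Lib.CharLin Cfsg.Agent.Lib.CharClifford
open scoped ComplexConjugate commutatorElement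

universe u

variable {G : Type u} [Group G] [Fintype G]

theorem indFun_one_val (H : Subgroup G) (θ : H → ℂ) : indFun H θ 1 = (H.index : ℂ) * θ 1 := by
  classical
  have h0 : ∀ x : G, extendByZero H θ (x⁻¹ * 1 * x) = θ 1 := by
    intro x
    have h1 : x⁻¹ * 1 * x ∈ H := by simp [H.one_mem]
    rw [extendByZero_of_mem _ _ h1]
    congr 1
    exact Subtype.ext (by simp)
  simp only [indFun_apply, h0, Finset.sum_const, Finset.card_univ, nsmul_eq_mul]
  have hne : (Nat.card H : ℂ) ≠ 0 := by exact_mod_cast Nat.card_pos.ne'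
  rw [← Nat.card_eq_fintype_card, ← Subgroup.index_mul_card H]
  push_cast
  field_simp

theorem classInner_self_ne_zero {K : Type u} [Group K] [Fintype K] (θ : K → ℂ) (h : θ 1 ≠ 0) :
    classInner θ θ ≠ 0 := by
  have hne : (Nat.card K : ℂ) ≠ 0 := by exact_mod_cast Nat.card_pos.ne'
  simp only [classInner]
  apply mul_ne_zero (inv_ne_zero hne)
  have h1 : ∑ x : K, θ x * conj (θ x) = ((∑ x : K, Complex.normSq (θ x) : ℝ) : ℂ) := by
    push_cast
    refine Finset.sum_congr rfl fun x _ => ?_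
    rw [Complex.mul_conj]
  rw [h1]
  intro h0
  have h2 : ∑ x : K, Complex.normSq (θ x) = 0 := by exact_mod_cast h0
  have h3 := (Finset.sum_eq_zero_iff_of_nonneg (fun x _ => Complex.normSq_nonneg _)).mp h2 1
    (Finset.mem_univ _)
  exact h (Complex.normSq_eq_zero.mp h3)

/-- At most `[G:I]` irreducible characters have a given linear restriction to `I`. -/
theorem fiber_le (I : Subgroup G) (θ : I → ℂ) (hθ : IsCharacter I θ) (hθ1 : θ 1 = 1)
    (F : Finset (IrrCharacter G)) (hF : ∀ χ ∈ F, ∀ x : I, χ.1 x = θ x) : F.card ≤ I.index := by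
  classical
  haveI : Fintype I := Fintype.ofFinite _
  have hπ : IsCharacter G (indFun I θ) := IsCharacter.ind I hθ
  obtain ⟨m, hm⟩ := IsCharacter.exists_nat_coeff hπ
  have hmχ : ∀ χ ∈ F, 1 ≤ m χ := by
    intro χ hχ
    apply Nat.pos_of_ne_zero
    intro h0
    have h1 := classInner_sum_irr (fun φ => (m φ : ℂ)) χ
    rw [← hm, CharInd.frobenius I _ _ (fun g x => IrrBasic.val_conj χ g x)] at h1
    have h2 : (fun h : I => (χ : G → ℂ) h) = θ := funext (hF χ hχ)
    rw [h2, h0] at h1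
    apply classInner_self_ne_zero θ (by rw [hθ1]; exact one_ne_zero)
    simpa using h1
  have hval : indFun I θ 1 = (I.index : ℂ) := by rw [indFun_one_val, hθ1, mul_one]
  have hsum : ∑ χ : IrrCharacter G, m χ * charDegree χ.1 = I.index := by
    have h1 := congrFun hm 1
    rw [hval] at h1
    simp only [Finset.sum_apply, Pi.smul_apply, smul_eq_mul] at h1
    apply Nat.cast_injective (R := ℂ)
    rw [h1]
    push_cast
    refine Finset.sum_congr rfl fun χ _ => ?_
    rw [val_one_eq_charDegree]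
  calc F.card = ∑ χ ∈ F, 1 := by simp
    _ ≤ ∑ χ ∈ F, m χ * charDegree χ.1 := by
        refine Finset.sum_le_sum fun χ hχ => ?_
        have h1 := hmχ χ hχ
        have h2 : 1 ≤ charDegree χ.1 := Nat.pos_of_ne_zero (charDegree_ne_zero' χ)
        exact Nat.mul_le_mul h1 h2 
    _ ≤ ∑ χ : IrrCharacter G, m χ * charDegree χ.1 :=
        Finset.sum_le_sum_of_subset (Finset.subset_univ _)
    _ = I.index := hsum

theorem le_commutator (N : Subgroup G) (hN : N.Normal)
    (hmin : ∀ M : Subgroup G, M.Normal → M ≤ N → M = ⊥ ∨ M = N) (hna : ¬ IsMulCommutative ↥N) :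
    N ≤ commutator G := by
  haveI := hN
  rcases hmin (N ⊓ commutator G) inferInstance inf_le_left with h | h
  · exfalso
    apply hna
    refine ⟨⟨fun a b => Subtype.ext ?_⟩⟩
    have h1 : ⁅(a : G), (b : G)⁆ ∈ N ⊓ commutator G := by
      refine ⟨N.mul_mem (N.mul_mem (N.mul_mem a.2 b.2) (N.inv_mem a.2)) (N.inv_mem b.2), ?_⟩
      exact Subgroup.commutator_mem_commutator (Subgroup.mem_top _) (Subgroup.mem_top _)
    rw [h, Subgroup.mem_bot, commutatorElement_eq_one_iff_mul_comm] at h1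
    exact h1
  · rw [← h]
    exact inf_le_right

theorem val_eq_one_of_linear (χ : IrrCharacter G) (h1 : χ.1 1 = 1) (n : G) (hn : n ∈ commutator G) :
    χ.1 n = 1 := by
  obtain ⟨lam, hlam⟩ := exists_hom_of_linear (IsIrrCharacter.isCharacter χ.2) h1
  have h2 : commutator G ≤ lam.ker := by
    rw [commutator_def, Subgroup.commutator_le]
    intro a _ b _
    rw [MonoidHom.mem_ker, map_commutatorElement, commutatorElement_eq_one_iff_mul_comm]
    exact mul_comm _ _
  have h3 := h2 hn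
  rw [MonoidHom.mem_ker] at h3
  rw [hlam]
  simp [h3]

section main

variable (N : Subgroup G) (hN : N.Normal) (φ : IrrCharacter N) (I : Subgroup G)
  (hI : ∀ g : G, g ∈ I ↔ ∀ n n' : ↥N, (n' : G) = g * (n : G) * g⁻¹ → (φ : ↥N → ℂ) n' = (φ : ↥N → ℂ) n)
  (hNI : N ≤ I) (ψ : IrrCharacter I)
  (hψ : ∀ n : ↥N, (ψ : ↥I → ℂ) (Subgroup.inclusion hNI n) = (φ : ↥N → ℂ) n)

include hN hψ

theorem exists_ne_zero [Fintype N] [Fintype I] (x : I) : ∃ n : N, ψ.1 (Subgroup.inclusion hNI n * x) ≠ 0 := by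
  classical
  haveI hN' := hN
  -- work with `N` inside `I`
  let N' : Subgroup I := N.subgroupOf I
  haveI : N'.Normal := Subgroup.Normal.subgroupOf hN I
  letI : Fintype N' := Fintype.ofFinite _
  let e : N' →* N := (Subgroup.subgroupOfEquivOfLe hNI).toMonoidHom
  have he : Function.Surjective e := (Subgroup.subgroupOfEquivOfLe hNI).surjective
  have hirr : IsIrrCharacter N' (fun n : N' => ψ.1 n) := by
    have h1 := IsIrrCharacter.comp_surjective φ.2 e he
    convert h1 using 1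
    funext n
    rw [Function.comp_apply, ← hψ]
    rfl
  obtain ⟨-, -, h3⟩ := CharGall.s0868 (G := I) N' ψ.1 ψ.2 hirr ψ.1 ψ.2 _ rfl
  have h4 := congrFun (h3 rfl) x
  by_contra hcon
  push Not at hcon
  have h5 : ∑ n : N', ψ.1 ((n : I) * x) * conj (ψ.1 ((n : I) * x)) = 0 := by
    apply Finset.sum_eq_zero
    intro n _
    have h6 : (n : I) = Subgroup.inclusion hNI (e n) := rfl
    rw [h6, hcon, zero_mul]
  simp only [h5, mul_zero] at h4
  exact zero_ne_one h4

theorem val_eq_of_twist_eq [Fintype N] [Fintype I] (χ χ' : IrrCharacter G)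
    (h1 : ∀ n : N, χ.1 n = 1) (h1' : ∀ n : N, χ'.1 n = 1)
    (hm : χ.1 1 = 1) (hm' : χ'.1 1 = 1)
    (h : ∀ x : I, ψ.1 x * χ.1 x = ψ.1 x * χ'.1 x) (x : I) : χ.1 x = χ'.1 x := by
  obtain ⟨n, hn⟩ := exists_ne_zero N hN φ I hNI ψ hψ x
  have h2 := h (Subgroup.inclusion hNI n * x)
  have h3 := mul_left_cancel₀ hn h2
  have h4 : ((Subgroup.inclusion hNI n * x : I) : G) = (n : G) * x := rfl
  rw [h4, linear_mul (IsIrrCharacter.isCharacter χ.2) hm,
    linear_mul (IsIrrCharacter.isCharacter χ'.2) hm', h1, h1', one_mul, one_mul] at h3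
  exact h3

end main

theorem s4870 (N : Subgroup G) (hN : N.Normal)
    (hmin : ∀ M : Subgroup G, M.Normal → M ≤ N → M = ⊥ ∨ M = N) (hna : ¬ IsMulCommutative ↥N)
    (φ : IrrCharacter ↥N) (I : Subgroup G)
    (hI : ∀ g : G, g ∈ I ↔ ∀ n n' : ↥N, (n' : G) = g * (n : G) * g⁻¹ →
      (φ : ↥N → ℂ) n' = (φ : ↥N → ℂ) n) (hNI : N ≤ I)
    (hext : ∃ ψ : IrrCharacter ↥I, ∀ n : ↥N, (ψ : ↥I → ℂ) (Subgroup.inclusion hNI n) = (φ : ↥N → ℂ) n) :
    Nat.card {χ : IrrCharacter G // charDegree (χ : G → ℂ) = 1} ≤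
      I.index * Nat.card {χ : IrrCharacter G // charDegree (χ : G → ℂ) =
        charDegree (φ : ↥N → ℂ) * I.index} := by
  classical
  obtain ⟨ψ, hψ⟩ := hext
  haveI := hN
  haveI : Fintype N := Fintype.ofFinite _
  haveI : Fintype I := Fintype.ofFinite _
  have hcomm := le_commutator N hN hmin hna
  have hone : ∀ χ : IrrCharacter G, charDegree χ.1 = 1 → χ.1 1 = 1 := by
    intro χ h
    rw [val_one_eq_charDegree, h, Nat.cast_one]
  have htriv : ∀ χ : IrrCharacter G, charDegree χ.1 = 1 → ∀ n : N, χ.1 n = 1 := fun χ h n =>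
    val_eq_one_of_linear χ (hone χ h) n (hcomm n.2)
  -- the twists
  let t : IrrCharacter G → I → ℂ := fun χ x => ψ.1 x * χ.1 x
  have htirr : ∀ χ : IrrCharacter G, charDegree χ.1 = 1 → IsIrrCharacter I (t χ) := by
    intro χ h
    obtain ⟨lam, hlam⟩ := exists_hom_of_linear (IsIrrCharacter.isCharacter χ.2) (hone χ h)
    have h1 := CharAbQ.twist_isIrr ψ.2 (lam.comp I.subtype)
    convert h1 using 1
    funext x
    show ψ.1 x * χ.1 x = _
    rw [hlam]
    rfl
  have hres : ∀ χ : IrrCharacter G, charDegree χ.1 = 1 → resTo N I hNI (t χ) = φ.1 := by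
    intro χ h
    funext n
    show ψ.1 (Subgroup.inclusion hNI n) * χ.1 n = φ.1 n
    rw [hψ, htriv χ h n, mul_one]
  have hT : ∀ g : G, g ∈ I ↔ ∀ h : N, φ.1 ⟨g * h * g⁻¹, hN.conj_mem h h.2 g⟩ = φ.1 h := by
    intro g
    rw [hI]
    constructor
    · intro h n
      exact h n _ rfl
    · intro h n n' hn
      have h1 : n' = ⟨g * n * g⁻¹, hN.conj_mem n n.2 g⟩ := Subtype.ext hn
      rw [h1]
      exact h n
  have hc : ∀ χ : IrrCharacter G, charDegree χ.1 = 1 → classInner (resTo N I hNI (t χ)) φ.1 ≠ 0 := by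
    intro χ h
    rw [hres χ h, classInner_irr_self φ.2]
    exact one_ne_zero
  let Φ : {χ : IrrCharacter G // charDegree (χ : G → ℂ) = 1} → IrrCharacter G := fun χ =>
    ⟨indFun I (t χ.1), (clifford_main N I hNI φ.2 hT (htirr χ.1 χ.2) (hc χ.1 χ.2)).1⟩
  have hdeg : ∀ χ, charDegree (Φ χ).1 = charDegree φ.1 * I.index := by
    intro χ
    have h1 : (Φ χ).1 1 = (charDegree (Φ χ).1 : ℂ) := val_one_eq_charDegree _
    have h2 : (Φ χ).1 1 = (I.index : ℂ) * t χ.1 1 := indFun_one_val I _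
    have h3 : t χ.1 1 = (charDegree φ.1 : ℂ) := by
      have h4 := hψ 1
      rw [map_one] at h4
      show ψ.1 1 * χ.1.1 ((1 : I) : G) = _
      rw [h4, show ((1 : I) : G) = 1 from rfl, hone χ.1 χ.2, mul_one, val_one_eq_charDegree]
    rw [h3] at h2
    rw [h1] at h2
    have h5 : (charDegree (Φ χ).1 : ℂ) = ((charDegree φ.1 * I.index : ℕ) : ℂ) := by
      rw [h2]
      push_cast
      ring
    exact_mod_cast h5
  let Φ' : {χ : IrrCharacter G // charDegree (χ : G → ℂ) = 1} →
      {χ : IrrCharacter G // charDegree (χ : G → ℂ) = charDegree (φ : ↥N → ℂ) * I.index} :=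
    fun χ => ⟨Φ χ, hdeg χ⟩
  have hfib : ∀ a b, Φ' a = Φ' b → ∀ x : I, a.1.1 x = b.1.1 x := by
    intro a b hab x
    have h1 : indFun I (t a.1) = indFun I (t b.1) := by
      have := congrArg (fun c => (c.1.1 : G → ℂ)) hab
      exact this
    have h2 := clifford_inj N I hNI φ.2 hT (htirr a.1 a.2) (htirr b.1 b.2) (hc a.1 a.2) (hc b.1 b.2) h1
    exact val_eq_of_twist_eq N hN φ I hNI ψ hψ a.1 b.1 (htriv a.1 a.2) (htriv b.1 b.2)
      (hone a.1 a.2) (hone b.1 b.2) (fun y => congrFun h2 y) x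
  rw [Nat.card_eq_fintype_card, Nat.card_eq_fintype_card]
  have hcard := Finset.card_le_mul_card_image (s := (Finset.univ : Finset {χ : IrrCharacter G // charDegree (χ : G → ℂ) = 1}))
    (f := Φ') I.index (by
    intro δ hδ
    obtain ⟨a, -, rfl⟩ := Finset.mem_image.mp hδ
    -- the fibre
    let F : Finset (IrrCharacter G) := ((Finset.univ.filter fun x => Φ' x = Φ' a).image Subtype.val)
    have hF : F.card ≤ I.index := by
      apply fiber_le I (fun x : I => a.1.1 x) (IsCharacter.res (IsIrrCharacter.isCharacter a.1.2) I)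
        (hone a.1 a.2)
      intro χ hχ x
      obtain ⟨b, hb, rfl⟩ := Finset.mem_image.mp hχ
      exact hfib b a (Finset.mem_filter.mp hb).2 x
    rwa [Finset.card_image_of_injective _ Subtype.val_injective] at hF)
  rw [Finset.card_univ] at hcard
  refine hcard.trans (Nat.mul_le_mul_left _ ?_)
  exact Finset.card_le_univ _


end Cfsg.Agent.Lib.Lin70
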