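import Cfsg.Agent.S3869
import Cfsg.Agent.Lib.H1Cop
import Cfsg.Agent.Lib.H1SZ

set_option autoImplicit false

/-! Minimal non-`p`-closed groups: the common final step. -/

namespace Cfsg.Agent.Lib.MinNonClosed

open Subgroup
open Cfsg

variable {G : Type*} [Group G] [Finite G] {p : ℕ} [hpf : Fact p.Prime]

/-- A subgroup of `N` containing a Sylow subgroup of `N` for each prime is `N`. -/
theorem eq_of_sylows (D N : Subgroup G) (hDN : D ≤ N)
    (h : ∀ r : ℕ, r.Prime → r ∣ Nat.card N → ∃ R : Subgroup G, R ≤ D ∧ ¬ r ∣ R.relIndex N) : D = N := by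
  classical
  apply Subgroup.eq_of_le_of_card_ge hDN
  apply Nat.le_of_dvd Nat.card_pos
  rw [Nat.dvd_iff_prime_pow_dvd_dvd]
  intro r k hr hrk
  by_cases hk : k = 0
  · subst hk; simp
  have hrN : r ∣ Nat.card N := (dvd_pow_self r hk).trans hrk
  obtain ⟨R, hRD, hR⟩ := h r hr hrN
  have hRN : R ≤ N := hRD.trans hDN
  have h1 : Nat.card R * R.relIndex N = Nat.card N := by
    have h2 : Nat.card (R.subgroupOf N) = Nat.card R :=
      Nat.card_congr (Subgroup.subgroupOfEquivOfLe hRN).toEquiv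
    rw [← h2]
    exact (R.subgroupOf N).card_mul_index
  rw [← h1] at hrk
  have hcop : (r ^ k).Coprime (R.relIndex N) :=
    Nat.Coprime.pow_left k ((Nat.Prime.coprime_iff_not_dvd hr).mpr hR)
  have h3 : r ^ k ∣ Nat.card R := hcop.dvd_of_dvd_mul_right hrk
  exact h3.trans (Subgroup.card_dvd_of_le hRD)

/-- If `P` of order `p` acts on the `p'`-group `N` and centralizes its proper invariant
subgroups, but not `N`, then `N` is a `q`-group. -/
theorem q_group_of (P N : Subgroup G) [hNn : N.Normal] (hP : Nat.card P = p)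
    (hcop : (Nat.card N).Coprime p)
    (hinv : ∀ R : Subgroup G, R ≤ N → R ≠ N → P ≤ normalizer (R : Set G) → P ≤ centralizer (R : Set G))
    (hnc : ¬ P ≤ centralizer (N : Set G)) : ∃ q : ℕ, q.Prime ∧ q ≠ p ∧ IsPGroup q N := by
  classical
  have hpp : p.Prime := hpf.out
  by_contra hnot
  push Not at hnot
  apply hnc
  have hPN : P ≤ normalizer (N : Set G) := by
    rw [Subgroup.normalizer_eq_top_iff.mpr hNn]; exact le_top
  have hcop' : (Nat.card P).Coprime (Nat.card N) := by rw [hP]; exact hcop.symm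
  have hsolv : Group.IsSolvable P ∨ Group.IsSolvable N := by
    left
    haveI : Fact (Nat.card P).Prime := ⟨by rw [hP]; exact hpp⟩
    haveI : IsCyclic P := isCyclic_of_prime_card rfl
    exact isSolvable_of_comm (IsCyclic.commGroup (α := P)).mul_comm
  set D := N ⊓ centralizer (P : Set G) with hD
  have hDeq : D = N := by
    apply eq_of_sylows D N inf_le_left
    intro r hr hrN
    haveI : Fact r.Prime := ⟨hr⟩
    obtain ⟨R, hRs, hRn⟩ := Lib.H1Cop.exists_invariant_sylow hPN hcop' hsolv r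
    obtain ⟨hRN, hRp, hRi⟩ := hRs
    refine ⟨R, ?_, hRi⟩
    have hRne : R ≠ N := by
      rintro rfl
      apply hnot r hr
      · rintro rfl
        apply Nat.Prime.not_coprime_iff_dvd.mpr ⟨r, hr, hrN, dvd_rfl⟩ hcop
      · exact hRp
    have hc := hinv R hRN hRne hRn
    apply le_inf hRN
    intro x hx
    rw [mem_centralizer_iff]
    intro y hy
    exact (mem_centralizer_iff.mp (hc hy) x hx).symm
  intro x hx
  rw [mem_centralizer_iff]
  intro y hy
  have hy' : y ∈ D := by rw [hDeq]; exact hy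
  exact (mem_centralizer_iff.mp hy'.2 x hx).symm

/-- The final assembly. -/
theorem assemble (N : Subgroup G) [hNn : N.Normal] (hidx : N.index = p) (hcop : (Nat.card N).Coprime p)
    (hne : N ≠ ⊥) (hmin : ∀ B : Subgroup G, B.Normal → B ≤ N → B = ⊥ ∨ B = N)
    (hna : ¬ IsMulCommutative G)
    (hinv : ∀ P : Subgroup G, Nat.card P = p → ∀ R : Subgroup G, R ≤ N → R ≠ N →
      P ≤ normalizer (R : Set G) → P ≤ centralizer (R : Set G))
    (hnc : ∀ P : Subgroup G, Nat.card P = p → ¬ P ≤ centralizer (N : Set G)) :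
    ∃ q : ℕ, q.Prime ∧ q ≠ p ∧ Nat.card G = p * q ^ orderOf (q : ZMod p) ∧
      ∃ A : Subgroup G, A.Normal ∧ Nat.card ↥A = q ^ orderOf (q : ZMod p) ∧ IsElementaryAbelian q A ∧
        ∀ B : Subgroup G, B.Normal → B ≤ A → B = ⊥ ∨ B = A := by
  classical
  have hpp : p.Prime := hpf.out
  have hcard : Nat.card N * p = Nat.card G := by rw [← hidx]; exact N.card_mul_index
  have hpG : p ∣ Nat.card G := ⟨Nat.card N, by rw [← hcard, mul_comm]⟩
  obtain ⟨σ, hσ⟩ := exists_prime_orderOf_dvd_card' p hpG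
  have hPc : Nat.card (zpowers σ) = p := by rw [Nat.card_zpowers, hσ]
  obtain ⟨q, hq, hqp, hNq⟩ := q_group_of (zpowers σ) N hPc hcop (hinv _ hPc) (hnc _ hPc)
  haveI : Fact q.Prime := ⟨hq⟩
  -- solvable
  have hsolvN : Group.IsSolvable N := by
    haveI := hNq.isNilpotent
    infer_instance
  haveI hsolvG : Group.IsSolvable G := by
    haveI : Group.IsSolvable (G ⧸ N) := by
      have hfac : Fact (Nat.card (G ⧸ N)).Prime := ⟨by
        show N.index.Prime
        rw [hidx]; exact hpp⟩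
      haveI := hfac
      haveI : IsCyclic (G ⧸ N) := isCyclic_of_prime_card rfl
      exact isSolvable_of_comm (IsCyclic.commGroup (α := G ⧸ N)).mul_comm
    refine solvable_of_ker_le_range N.subtype (QuotientGroup.mk' N) ?_
    rw [QuotientGroup.ker_mk', Subgroup.range_subtype]
  obtain ⟨hNc, r, hr, hNr⟩ := Lib.H1SZ.minimal_normal_elementary N hne hmin
  have hrq : r = q := by
    haveI : Fact r.Prime := ⟨hr⟩
    obtain ⟨x, hx, hx1⟩ := (Subgroup.ne_bot_iff_exists_ne_one.mp hne |>.imp (fun x h => h)) |>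
      fun ⟨x, hx⟩ => (⟨x.1, x.2, fun h => hx (Subtype.ext h)⟩ : ∃ τ, τ ∈ N ∧ τ ≠ 1)
    obtain ⟨k, hk⟩ := IsPGroup.iff_orderOf.mp hNq ⟨x, hx⟩
    have h1 : orderOf x = q ^ k := by rw [← hk, Subgroup.orderOf_mk]
    have h2 : orderOf x = r := orderOf_eq_prime (hNr x hx) hx1
    rw [h1] at h2
    have hk0 : k ≠ 0 := by
      rintro rfl
      simp at h2
      exact hr.one_lt.ne h2
    exact ((Nat.prime_dvd_prime_iff_eq hq hr).mp (by
      rw [← h2]; exact dvd_pow_self q hk0)).symm
  subst hrq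
  have hEA : IsElementaryAbelian r N := ⟨hNc, hNr⟩
  have hres := Cfsg.Agent.S3869.result hq hqp hna N hEA hidx hmin
  refine ⟨r, hq, hqp, ?_, N, hNn, hres.1, hEA, hmin⟩
  rw [← hcard, hres.1, mul_comm]

end Cfsg.Agent.Lib.MinNonClosed
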