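import Mathlib
import Cfsg.Agent.Lib.FGSBasic
import Cfsg.Agent.Lib.H1Core
import Cfsg.Agent.Lib.LPIrr
import Cfsg.Agent.S3939

set_option autoImplicit false

namespace Cfsg.Agent.Lib.NilCover

open Subgroup

variable {G : Type*} [Group G] [Finite G]

/-- Nilpotent minimal covers. -/
structure IsNilCover (𝓐 : Finset (Subgroup G)) : Prop where
  ne_top : ∀ A ∈ 𝓐, A ≠ ⊤
  cov : ∀ g : G, ∃ A ∈ 𝓐, g ∈ A
  min : ∀ 𝓑 : Finset (Subgroup G), (∀ A ∈ 𝓑, A ≠ ⊤) ∧ (∀ g : G, ∃ A ∈ 𝓑, g ∈ A) → 𝓐.card ≤ 𝓑.card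
  nil : ∀ A ∈ 𝓐, Group.IsNilpotent ↥A

theorem replace {𝓐 : Finset (Subgroup G)} (h : IsNilCover 𝓐) {A B M : Subgroup G} (hA : A ∈ 𝓐) (hB : B ∈ 𝓐)
    (hne : A ≠ B) (hAM : A ≤ M) (hBM : B ≤ M) (hM : M ≠ ⊤) : False := by
  classical
  have hB' : B ∈ 𝓐.erase A := Finset.mem_erase.mpr ⟨hne.symm, hB⟩
  have hc1 : (𝓐.erase A).card = 𝓐.card - 1 := Finset.card_erase_of_mem hA
  have hc2 : ((𝓐.erase A).erase B).card = (𝓐.erase A).card - 1 := Finset.card_erase_of_mem hB'
  have hc3 : 0 < (𝓐.erase A).card := Finset.card_pos.mpr ⟨B, hB'⟩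
  have hc4 := Finset.card_insert_le M ((𝓐.erase A).erase B)
  have hc5 := h.min (insert M ((𝓐.erase A).erase B)) ⟨?_, ?_⟩
  · omega
  · intro C hC
    rcases Finset.mem_insert.mp hC with rfl | hC
    · exact hM
    · exact h.ne_top C (Finset.mem_of_mem_erase (Finset.mem_of_mem_erase hC))
  · intro g
    obtain ⟨C, hC, hg⟩ := h.cov g
    by_cases hCA : C = A
    · exact ⟨M, Finset.mem_insert_self _ _, hAM (hCA ▸ hg)⟩
    by_cases hCB : C = B
    · exact ⟨M, Finset.mem_insert_self _ _, hBM (hCB ▸ hg)⟩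
    exact ⟨C, Finset.mem_insert_of_mem (Finset.mem_erase.mpr ⟨hCB, Finset.mem_erase.mpr ⟨hCA, hC⟩⟩), hg⟩

theorem comm_nil {H : Type*} [Group H] [Finite H] [Group.IsNilpotent H] {p a : ℕ} (hp : p.Prime) (x y : H)
    (hx : orderOf x = p ^ a) (hy : (orderOf y).Coprime p) : x * y = y * x := by
  have h := Lib.FGSBasic.mem_closure_of_coprime y hy
  have hle : closure {y : H | ∃ q b : ℕ, q.Prime ∧ q ≠ p ∧ orderOf y = q ^ b} ≤ centralizer ({x} : Set H) := by
    rw [closure_le]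
    rintro z ⟨q, b, hq, hqp, hz⟩
    rw [SetLike.mem_coe, mem_centralizer_singleton_iff]
    exact (Cfsg.Agent.S3939.comm_of_nilp x z hp hq hqp.symm hx hz).symm
  exact (mem_centralizer_singleton_iff.mp (hle h)).symm

theorem comm_in_member {p : ℕ} [hpf : Fact p.Prime]
    (hab : ∀ S : Sylow p G, ∀ a ∈ (S : Subgroup G), ∀ b ∈ (S : Subgroup G), a * b = b * a)
    (A : Subgroup G) [Group.IsNilpotent ↥A] (u : G) (hu : u ∈ A) (hup : ∃ k, orderOf u = p ^ k)
    (a : G) (ha : a ∈ A) : a * u = u * a := by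
  obtain ⟨a1, a2, h1, h2, h12, ⟨j, hj⟩, hc2⟩ := Lib.FGSBasic.exists_p_decomp p a
  have ha1 : a1 ∈ A := (zpowers_le.mpr ha) h1
  have ha2 : a2 ∈ A := (zpowers_le.mpr ha) h2
  obtain ⟨k, hk⟩ := hup
  obtain ⟨T⟩ : Nonempty (Sylow p ↥A) := inferInstance
  have hTn : (T : Subgroup ↥A).Normal := inferInstance
  have h3 : (⟨a1, ha1⟩ : A) ∈ (T : Subgroup ↥A) :=
    Lib.FGSBasic.mem_sylow_of_normal T hTn ⟨j, by rw [Subgroup.orderOf_mk]; exact hj⟩
  have h4 : (⟨u, hu⟩ : A) ∈ (T : Subgroup ↥A) :=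
    Lib.FGSBasic.mem_sylow_of_normal T hTn ⟨k, by rw [Subgroup.orderOf_mk]; exact hk⟩
  have hTp : IsPGroup p ((T : Subgroup ↥A).map A.subtype) := T.isPGroup'.map _
  obtain ⟨S, hS⟩ := hTp.exists_le_sylow
  have h5 : a1 * u = u * a1 :=
    hab S a1 (hS ⟨_, h3, rfl⟩) u (hS ⟨_, h4, rfl⟩)
  have h6 : u * a2 = a2 * u := by
    have := comm_nil hpf.out (⟨u, hu⟩ : A) (⟨a2, ha2⟩ : A) (a := k)
      (by rw [Subgroup.orderOf_mk]; exact hk) (by rw [Subgroup.orderOf_mk]; exact hc2)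
    exact congrArg Subtype.val this
  rw [← h12]
  calc a1 * a2 * u = a1 * (a2 * u) := by group
    _ = a1 * (u * a2) := by rw [h6]
    _ = (a1 * u) * a2 := by group
    _ = (u * a1) * a2 := by rw [h5]
    _ = _ := by group

theorem centralizer_ne_top (hZ : center G = ⊥) (u : G) (hu : u ≠ 1) : centralizer ({u} : Set G) ≠ ⊤ := by
  intro h
  apply hu
  have h1 : u ∈ center G := by
    rw [mem_center_iff]
    intro g
    have h2 : g ∈ centralizer ({u} : Set G) := by rw [h]; trivial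
    exact mem_centralizer_singleton_iff.mp h2 |>.symm ▸ rfl
  rw [hZ] at h1
  exact h1

theorem unique_member {𝓐 : Finset (Subgroup G)} (h : IsNilCover 𝓐) (hZ : center G = ⊥) {p : ℕ} [hpf : Fact p.Prime]
    (hab : ∀ S : Sylow p G, ∀ a ∈ (S : Subgroup G), ∀ b ∈ (S : Subgroup G), a * b = b * a)
    (u : G) (hu1 : u ≠ 1) (hup : ∃ k, orderOf u = p ^ k) {A B : Subgroup G} (hA : A ∈ 𝓐) (hB : B ∈ 𝓐)
    (huA : u ∈ A) (huB : u ∈ B) : A = B := by
  by_contra hne
  haveI := h.nil A hA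
  haveI := h.nil B hB
  have h1 : A ≤ centralizer ({u} : Set G) := fun a ha =>
    mem_centralizer_singleton_iff.mpr (comm_in_member hab A u huA hup a ha)
  have h2 : B ≤ centralizer ({u} : Set G) := fun a ha =>
    mem_centralizer_singleton_iff.mpr (comm_in_member hab B u huB hup a ha)
  exact replace h hA hB hne h1 h2 (centralizer_ne_top hZ u hu1)

theorem mem_of_pow_coprime' (K : Subgroup G) (s : G) (n : ℕ) (hn : s ^ n ∈ K)
    (hc : (orderOf s).Coprime n) : s ∈ K := by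
  have h := Nat.gcd_eq_gcd_ab (orderOf s) n
  rw [hc.gcd_eq_one] at h
  have h2 : s = (s ^ n) ^ (Nat.gcdB (orderOf s) n) := by
    calc s = s ^ (((1 : ℕ) : ℤ)) := by simp
      _ = s ^ (((orderOf s : ℤ)) * Nat.gcdA (orderOf s) n + (n : ℤ) * Nat.gcdB (orderOf s) n) := by rw [h]
      _ = _ := by
        rw [zpow_add, zpow_mul, zpow_natCast, pow_orderOf_eq_one, one_zpow, one_mul, zpow_mul, zpow_natCast]
  rw [h2]
  exact K.zpow_mem hn _

theorem pel_of_mem {p : ℕ} [hpf : Fact p.Prime] (Q : Sylow p G) {y : G} (hy : y ∈ (Q : Subgroup G)) :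
    ∃ k, orderOf y = p ^ k := by
  obtain ⟨k, hk⟩ := Q.isPGroup' ⟨y, hy⟩
  have h1 : y ^ (p ^ k) = 1 := congrArg Subtype.val hk
  obtain ⟨j, -, hj⟩ := (Nat.dvd_prime_pow hpf.out).mp (orderOf_dvd_of_pow_eq_one h1)
  exact ⟨j, hj⟩

theorem mem_sylow_of_mem_normalizer {p : ℕ} [hpf : Fact p.Prime] (Q : Sylow p G) (y : G)
    (hy : y ∈ normalizer ((Q : Subgroup G) : Set G)) (hyp : ∃ k, orderOf y = p ^ k) : y ∈ (Q : Subgroup G) := by
  obtain ⟨k, hk⟩ := hyp
  have hzy : IsPGroup p (zpowers y) := IsPGroup.iff_card.mpr ⟨k, by rw [Nat.card_zpowers, hk]⟩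
  have h1 : y ∈ zpowers y ⊓ normalizer ((Q : Subgroup G) : Set G) := ⟨mem_zpowers y, hy⟩
  have h2 : zpowers y ⊓ normalizer ((Q : Subgroup G) : Set G) = zpowers y ⊓ (Q : Subgroup G) := hzy.inf_normalizer_sylow Q
  rw [h2] at h1
  exact h1.2

theorem centralizer_le_normalizer' (S : Subgroup G) : centralizer (S : Set G) ≤ normalizer (S : Set G) := by
  intro k hk
  rw [mem_normalizer_iff]
  intro y
  have hk' := mem_centralizer_iff.mp hk
  constructor
  · intro hy
    have h2 := hk' y hy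
    have : k * y * k⁻¹ = y := by rw [← h2]; group
    rw [this]; exact hy
  · intro hy
    have h3 := hk' _ hy
    have h4 : k * y * k⁻¹ = y := by
      apply mul_left_cancel (a := k)
      rw [← h3]; group
    rw [h4] at hy
    exact hy

/-- The core of the argument: the member containing `Q` is the centralizer of `Q`. -/
theorem core {𝓐 : Finset (Subgroup G)} (h : IsNilCover 𝓐) (hZ : center G = ⊥) {p : ℕ} [hpf : Fact p.Prime]
    (hab : ∀ S : Sylow p G, ∀ a ∈ (S : Subgroup G), ∀ b ∈ (S : Subgroup G), a * b = b * a)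
    (Q : Sylow p G) (hne : (Q : Subgroup G) ≠ ⊥)
    (hx : (∃ x ∈ (Q : Subgroup G), ∀ y ∈ (Q : Subgroup G), y ∈ zpowers x) ∨ ∃ x ∈ (Q : Subgroup G), x ^ p ≠ 1) :
    centralizer ((Q : Subgroup G) : Set G) ∈ 𝓐 := by
  classical
  obtain ⟨⟨u0, hu0Q⟩, hu01⟩ := Subgroup.ne_bot_iff_exists_ne_one.mp hne
  have hu01' : u0 ≠ 1 := fun h => hu01 (Subtype.ext h)
  have hex : ∃ A ∈ 𝓐, (Q : Subgroup G) ≤ A := by
    rcases hx with ⟨x, hxQ, hgen⟩ | ⟨x, hxQ, hxp⟩
    · obtain ⟨A, hA, hxA⟩ := h.cov x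
      exact ⟨A, hA, fun y hy => (zpowers_le.mpr hxA) (hgen y hy)⟩
    · obtain ⟨A, hA, hxA⟩ := h.cov x
      have hup : ∃ k, orderOf (x ^ p) = p ^ k := pel_of_mem Q (Q.1.pow_mem hxQ p)
      have huA : x ^ p ∈ A := A.pow_mem hxA p
      have ht : ∀ t ∈ (Q : Subgroup G), t ^ p = 1 → t ∈ A := by
        intro t htQ htp
        obtain ⟨B, hB, hxtB⟩ := h.cov (x * t)
        have hcomm : Commute x t := hab Q x hxQ t htQ
        have h1 : (x * t) ^ p = x ^ p := by rw [hcomm.mul_pow, htp, mul_one]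
        have huB : x ^ p ∈ B := by
          rw [← h1]; exact B.pow_mem hxtB p
        have hAB := unique_member h hZ hab (x ^ p) hxp hup hA hB huA huB
        rw [← hAB] at hxtB
        have : t = x⁻¹ * (x * t) := by group
        rw [this]
        exact A.mul_mem (A.inv_mem hxA) hxtB
      refine ⟨A, hA, fun y hy => ?_⟩
      by_cases hy1 : y = 1
      · rw [hy1]; exact A.one_mem
      obtain ⟨k, hk⟩ := pel_of_mem Q hy
      obtain ⟨k, rfl⟩ : ∃ k', k = k' + 1 := by
        refine ⟨k - 1, ?_⟩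
        have : k ≠ 0 := by
          rintro rfl
          rw [pow_zero, orderOf_eq_one_iff] at hk
          exact hy1 hk
        omega
      have hdvd : p ∣ orderOf y := by rw [hk]; exact dvd_pow_self _ (by omega)
      set t := y ^ (orderOf y / p) with htd
      have hto : orderOf t = p := orderOf_pow_orderOf_div (orderOf_pos y).ne' hdvd
      have ht1 : t ≠ 1 := by
        intro h1
        rw [h1, orderOf_one] at hto
        exact hpf.out.one_lt.ne hto
      have htp : t ^ p = 1 := by rw [← hto, pow_orderOf_eq_one]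
      have htQ : t ∈ (Q : Subgroup G) := Q.1.pow_mem hy _
      have htA := ht t htQ htp
      obtain ⟨B, hB, hyB⟩ := h.cov y
      have htB : t ∈ B := B.pow_mem hyB _
      have hAB := unique_member h hZ hab t ht1 ⟨1, by rw [hto, pow_one]⟩ hA hB htA htB
      rw [hAB]
      exact hyB
  obtain ⟨A, hA, hQA⟩ := hex
  haveI := h.nil A hA
  have heq : A = centralizer ((Q : Subgroup G) : Set G) := by
    apply le_antisymm
    · intro a ha
      rw [mem_centralizer_iff]
      intro y hy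
      exact (comm_in_member hab A y (hQA hy) (pel_of_mem Q hy) a ha).symm
    · intro y hy
      obtain ⟨y1, y2, h1, h2, h12, hy1p, hc2⟩ := Lib.FGSBasic.exists_p_decomp p y
      have hy1C : y1 ∈ centralizer ((Q : Subgroup G) : Set G) := (zpowers_le.mpr hy) h1
      have hy2C : y2 ∈ centralizer ((Q : Subgroup G) : Set G) := (zpowers_le.mpr hy) h2
      have hy1Q : y1 ∈ (Q : Subgroup G) :=
        mem_sylow_of_mem_normalizer Q y1 (centralizer_le_normalizer' _ hy1C) hy1p
      have hcomm : Commute u0 y2 := (mem_centralizer_iff.mp hy2C) u0 hu0Q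
      obtain ⟨B, hB, hzB⟩ := h.cov (u0 * y2)
      have hz : (u0 * y2) ^ (orderOf y2) = u0 ^ (orderOf y2) := by
        rw [hcomm.mul_pow, pow_orderOf_eq_one, mul_one]
      have hupow : u0 ^ orderOf y2 ∈ B := by
        rw [← hz]; exact B.pow_mem hzB _
      obtain ⟨k, hk⟩ := pel_of_mem Q hu0Q
      have hu0B : u0 ∈ B := by
        apply mem_of_pow_coprime' B u0 _ hupow
        rw [hk]
        exact Nat.Coprime.pow_left _ hc2.symm
      have hAB := unique_member h hZ hab u0 hu01' ⟨k, hk⟩ hA hB (hQA hu0Q) hu0B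
      rw [← hAB] at hzB
      have hy2A : y2 ∈ A := by
        have : y2 = u0⁻¹ * (u0 * y2) := by group
        rw [this]
        exact A.mul_mem (A.inv_mem (hQA hu0Q)) hzB
      rw [← h12]
      exact A.mul_mem (hQA hy1Q) hy2A
  rw [← heq]
  exact hA

theorem hab_of {p : ℕ} [hpf : Fact p.Prime] (P : Sylow p G)
    (hab : ∀ a ∈ (P : Subgroup G), ∀ b ∈ (P : Subgroup G), a * b = b * a) :
    ∀ S : Sylow p G, ∀ a ∈ (S : Subgroup G), ∀ b ∈ (S : Subgroup G), a * b = b * a := by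
  intro S a ha b hb
  obtain ⟨g, rfl⟩ := MulAction.exists_smul_eq G P S
  rw [Lib.H1Core.mem_sylow_smul] at ha hb
  have h1 := hab _ ha _ hb
  calc a * b = g * ((g⁻¹ * a * g) * (g⁻¹ * b * g)) * g⁻¹ := by group
    _ = g * ((g⁻¹ * b * g) * (g⁻¹ * a * g)) * g⁻¹ := by rw [h1]
    _ = _ := by group

theorem hx_conj {p : ℕ} [hpf : Fact p.Prime] (P : Sylow p G) (g : G)
    (hx : (∃ x ∈ (P : Subgroup G), ∀ y ∈ (P : Subgroup G), y ∈ zpowers x) ∨ ∃ x ∈ (P : Subgroup G), x ^ p ≠ 1) :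
    (∃ x ∈ ((g • P : Sylow p G) : Subgroup G), ∀ y ∈ ((g • P : Sylow p G) : Subgroup G), y ∈ zpowers x) ∨
      ∃ x ∈ ((g • P : Sylow p G) : Subgroup G), x ^ p ≠ 1 := by
  have hmem : ∀ x ∈ (P : Subgroup G), g * x * g⁻¹ ∈ ((g • P : Sylow p G) : Subgroup G) := by
    intro x hx
    rw [Lib.H1Core.mem_sylow_smul]
    convert hx using 1
    group
  rcases hx with ⟨x, hxQ, hgen⟩ | ⟨x, hxQ, hxp⟩
  · left
    refine ⟨g * x * g⁻¹, hmem x hxQ, fun y hy => ?_⟩
    rw [Lib.H1Core.mem_sylow_smul] at hy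
    obtain ⟨n, hn⟩ := Subgroup.mem_zpowers_iff.mp (hgen _ hy)
    rw [Subgroup.mem_zpowers_iff]
    refine ⟨n, ?_⟩
    rw [conj_zpow, hn]
    group
  · right
    refine ⟨g * x * g⁻¹, hmem x hxQ, fun h1 => hxp ?_⟩
    rw [conj_pow] at h1
    have h2 : x ^ p = g⁻¹ * (g * x ^ p * g⁻¹) * g := by group
    rw [h2, h1]
    group

theorem ne_bot_conj {p : ℕ} [hpf : Fact p.Prime] (P : Sylow p G) (g : G) (hne : (P : Subgroup G) ≠ ⊥) :
    ((g • P : Sylow p G) : Subgroup G) ≠ ⊥ := by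
  intro h1
  apply hne
  rw [eq_bot_iff]
  intro x hx
  have h2 : g * x * g⁻¹ ∈ ((g • P : Sylow p G) : Subgroup G) := by
    rw [Lib.H1Core.mem_sylow_smul]
    convert hx using 1
    group
  rw [h1, mem_bot] at h2
  have h3 : x = g⁻¹ * (g * x * g⁻¹) * g := by group
  rw [mem_bot, h3, h2]
  group

theorem eq_of_centralizer_eq {p : ℕ} [hpf : Fact p.Prime]
    (hab : ∀ S : Sylow p G, ∀ a ∈ (S : Subgroup G), ∀ b ∈ (S : Subgroup G), a * b = b * a)
    (Q Q' : Sylow p G) (h : centralizer ((Q : Subgroup G) : Set G) = centralizer ((Q' : Subgroup G) : Set G)) :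
    Q = Q' := by
  have hle : (Q : Subgroup G) ≤ Q' := by
    intro y hy
    have h1 : y ∈ centralizer ((Q : Subgroup G) : Set G) := by
      rw [mem_centralizer_iff]
      intro z hz
      exact hab Q z hz y hy
    rw [h] at h1
    exact mem_sylow_of_mem_normalizer Q' y (centralizer_le_normalizer' _ h1) (pel_of_mem Q hy)
  apply Sylow.ext
  exact (Q.is_maximal' Q'.isPGroup' hle).symm

theorem main {𝓐 : Finset (Subgroup G)} (h : IsNilCover 𝓐) (hZ : center G = ⊥) {p : ℕ} [hpf : Fact p.Prime]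
    (P : Sylow p G) (hab' : ∀ a ∈ (P : Subgroup G), ∀ b ∈ (P : Subgroup G), a * b = b * a)
    (hx : (∃ x ∈ (P : Subgroup G), ∀ y ∈ (P : Subgroup G), y ∈ zpowers x) ∨ ∃ x ∈ (P : Subgroup G), x ^ p ≠ 1)
    (hnn : ¬ (P : Subgroup G).Normal) :
    centralizer ((P : Subgroup G) : Set G) ∈ 𝓐 ∧ (P : Subgroup G) ≤ centralizer ((P : Subgroup G) : Set G) ∧
      IsCoatom (normalizer ((P : Subgroup G) : Set G)) ∧
      (∀ M : Subgroup G, IsCoatom M → centralizer ((P : Subgroup G) : Set G) ≤ M → M = normalizer ((P : Subgroup G) : Set G)) ∧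
      (∀ g : G, g ∉ normalizer ((P : Subgroup G) : Set G) →
        ¬ p ∣ Nat.card ↥(normalizer ((P : Subgroup G) : Set G) ⊓
          (normalizer ((P : Subgroup G) : Set G)).map (MulAut.conj g).toMonoidHom)) := by
  classical
  have hab := hab_of P hab'
  have hne : (P : Subgroup G) ≠ ⊥ := by
    intro h1
    apply hnn
    rw [h1]
    infer_instance
  have hC : ∀ g : G, centralizer (((g • P : Sylow p G) : Subgroup G) : Set G) ∈ 𝓐 := fun g =>
    core h hZ hab (g • P) (ne_bot_conj P g hne) (hx_conj P g hx)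
  have hC1 : centralizer ((P : Subgroup G) : Set G) ∈ 𝓐 := core h hZ hab P hne hx
  have hPC : (P : Subgroup G) ≤ centralizer ((P : Subgroup G) : Set G) := by
    intro y hy
    rw [mem_centralizer_iff]
    intro z hz
    exact hab' z hz y hy
  have hNtop : normalizer ((P : Subgroup G) : Set G) ≠ ⊤ := fun h1 => hnn (normalizer_eq_top_iff.mp h1)
  have hCN : centralizer ((P : Subgroup G) : Set G) ≤ normalizer ((P : Subgroup G) : Set G) :=
    centralizer_le_normalizer' _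
  have hcoat : ∀ M : Subgroup G, IsCoatom M → centralizer ((P : Subgroup G) : Set G) ≤ M →
      M = normalizer ((P : Subgroup G) : Set G) := by
    intro M hM hCM
    have hle : M ≤ normalizer ((P : Subgroup G) : Set G) := by
      intro g hg
      by_contra hgN
      have hC2 : centralizer (((g • P : Sylow p G) : Subgroup G) : Set G) ≤ M := by
        intro y hy
        have h1 : g⁻¹ * y * g ∈ centralizer ((P : Subgroup G) : Set G) := by
          rw [mem_centralizer_iff]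
          intro z hz
          have hz' : g * z * g⁻¹ ∈ ((g • P : Sylow p G) : Subgroup G) := by
            rw [Lib.H1Core.mem_sylow_smul]
            have h0 : g⁻¹ * (g * z * g⁻¹) * g = z := by group
            rw [h0]
            exact hz
          have h2 := (mem_centralizer_iff.mp hy) _ hz'
          calc z * (g⁻¹ * y * g) = g⁻¹ * ((g * z * g⁻¹) * y) * g := by group
            _ = g⁻¹ * (y * (g * z * g⁻¹)) * g := by rw [h2]
            _ = _ := by group
        have h3 := hCM h1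
        have h4 : y = g * (g⁻¹ * y * g) * g⁻¹ := by group
        rw [h4]
        exact M.mul_mem (M.mul_mem hg h3) (M.inv_mem hg)
      by_cases heq : centralizer ((P : Subgroup G) : Set G) = centralizer (((g • P : Sylow p G) : Subgroup G) : Set G)
      · have h5 := eq_of_centralizer_eq hab P (g • P) heq
        apply hgN
        exact Sylow.smul_eq_iff_mem_normalizer.mp h5.symm
      · exact replace h hC1 (hC g) heq hCM hC2 hM.1
    rcases hle.lt_or_eq with hlt | heq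
    · exact absurd (hM.2 _ hlt) hNtop
    · exact heq
  refine ⟨hC1, hPC, ?_, hcoat, ?_⟩
  · obtain ⟨M, hM, hNM⟩ := Lib.LPIrr.exists_coatom_of_ne_top hNtop
    rw [← hcoat M hM (hCN.trans hNM)]
    exact hM
  · intro g hgN hdvd
    obtain ⟨t, ht⟩ := exists_prime_orderOf_dvd_card' p hdvd
    have hto : orderOf (t : G) = p := by rw [Subgroup.orderOf_coe]; exact ht
    have ht1 : (t : G) ≠ 1 := by
      intro h1
      rw [h1, orderOf_one] at hto
      exact hpf.out.one_lt.ne hto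
    have htP : (t : G) ∈ (P : Subgroup G) :=
      mem_sylow_of_mem_normalizer P t t.2.1 ⟨1, by rw [hto, pow_one]⟩
    obtain ⟨n, hn, hnt⟩ := t.2.2
    have hnt' : g * n * g⁻¹ = (t : G) := hnt
    have hno : orderOf n = p := by
      rw [← hto, ← hnt', ← MulAut.conj_apply, MulEquiv.orderOf_eq]
    have hnP : n ∈ (P : Subgroup G) :=
      mem_sylow_of_mem_normalizer P n hn ⟨1, by rw [hno, pow_one]⟩
    have htP' : (t : G) ∈ ((g • P : Sylow p G) : Subgroup G) := by
      rw [Lib.H1Core.mem_sylow_smul, ← hnt']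
      convert hnP using 1
      group
    have htC2 : (t : G) ∈ centralizer (((g • P : Sylow p G) : Subgroup G) : Set G) := by
      rw [mem_centralizer_iff]
      intro z hz
      exact hab (g • P) z hz t htP'
    have hEq := unique_member h hZ hab t ht1 ⟨1, by rw [hto, pow_one]⟩ hC1 (hC g) (hPC htP) htC2
    have h5 := eq_of_centralizer_eq hab P (g • P) hEq
    apply hgN
    exact Sylow.smul_eq_iff_mem_normalizer.mp h5.symm

theorem data_of_cyclic (P : Subgroup G) (hc : IsCyclic ↥P) :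
    (∀ a ∈ P, ∀ b ∈ P, a * b = b * a) ∧ ∃ x ∈ P, ∀ y ∈ P, y ∈ zpowers x := by
  obtain ⟨g, hg⟩ := hc.exists_generator
  have hgen : ∀ y ∈ P, y ∈ zpowers (g : G) := by
    intro y hy
    obtain ⟨n, hn⟩ := Subgroup.mem_zpowers_iff.mp (hg ⟨y, hy⟩)
    rw [Subgroup.mem_zpowers_iff]
    exact ⟨n, congrArg Subtype.val hn⟩
  refine ⟨?_, g, g.2, hgen⟩
  intro a ha b hb
  obtain ⟨m, rfl⟩ := Subgroup.mem_zpowers_iff.mp (hgen a ha)
  obtain ⟨n, rfl⟩ := Subgroup.mem_zpowers_iff.mp (hgen b hb)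
  exact (Commute.refl (g : G)).zpow_zpow m n

end Cfsg.Agent.Lib.NilCover
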