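import Cfsg.Agent.Lib.OrthMax

set_option autoImplicit false

namespace Cfsg.Agent.Lib.OrthStd

open Matrix Cfsg.Geo

variable {F : Type*} [Field F] {m : ℕ}

theorem two_ne_zero_of_odd [Fintype F] (hodd : Odd (Fintype.card F)) : (2 : F) ≠ 0 := by
  intro h
  have h1 : ringChar F = 2 := CharP.ringChar_of_prime_eq_zero Nat.prime_two (by exact_mod_cast h)
  have h2 := FiniteField.even_card_iff_char_two.mp h1
  rw [Nat.odd_iff] at hodd
  omega

theorem polar_odd (x y : Unit ⊕ (Fin m ⊕ Fin m) → F) :
    QuadraticMap.polar (Cfsg.quadFormOdd m F) x y = 2 * (x (.inl ()) * y (.inl ())) +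
      ∑ i : Fin m, (x (.inr (.inl i)) * y (.inr (.inr i)) + y (.inr (.inl i)) * x (.inr (.inr i))) := by
  simp only [QuadraticMap.polar, Cfsg.quadFormOdd, Pi.add_apply]
  have : ∑ i : Fin m, (x (.inr (.inl i)) + y (.inr (.inl i))) * (x (.inr (.inr i)) + y (.inr (.inr i))) =
      ∑ i : Fin m, x (.inr (.inl i)) * x (.inr (.inr i)) + ∑ i : Fin m, y (.inr (.inl i)) * y (.inr (.inr i)) +
      ∑ i : Fin m, (x (.inr (.inl i)) * y (.inr (.inr i)) + y (.inr (.inl i)) * x (.inr (.inr i))) := by
    rw [← Finset.sum_add_distrib, ← Finset.sum_add_distrib]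
    refine Finset.sum_congr rfl fun i _ => ?_
    ring
  rw [this]
  ring

theorem quadFormOdd_nondeg [Fintype F] (hodd : Odd (Fintype.card F)) :
    IsNondegenerateQuadraticForm (Cfsg.quadFormOdd m F) := by
  have h2 := two_ne_zero_of_odd hodd
  refine ⟨?_, ?_, ?_⟩
  · intro c v
    simp only [Cfsg.quadFormOdd, Pi.smul_apply, smul_eq_mul, mul_add, Finset.mul_sum]
    congr 1
    · ring
    · refine Finset.sum_congr rfl fun i _ => ?_
      ring
  · refine ⟨?_, ?_, ?_, ?_⟩
    · intro x y v
      simp only [polar_odd, Pi.add_apply]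
      have : ∀ i : Fin m, (x (.inr (.inl i)) + y (.inr (.inl i))) * v (.inr (.inr i)) + v (.inr (.inl i)) * (x (.inr (.inr i)) + y (.inr (.inr i))) = (x (.inr (.inl i)) * v (.inr (.inr i)) + v (.inr (.inl i)) * x (.inr (.inr i))) + (y (.inr (.inl i)) * v (.inr (.inr i)) + v (.inr (.inl i)) * y (.inr (.inr i))) := fun i => by ring
      simp only [this, Finset.sum_add_distrib]
      ring
    · intro c x v
      simp only [polar_odd, Pi.smul_apply, smul_eq_mul, mul_add, Finset.mul_sum]
      congr 1
      · ring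
      · refine Finset.sum_congr rfl fun i _ => ?_
        ring
    · intro v x y
      simp only [polar_odd, Pi.add_apply]
      have : ∀ i : Fin m, v (.inr (.inl i)) * (x (.inr (.inr i)) + y (.inr (.inr i))) + (x (.inr (.inl i)) + y (.inr (.inl i))) * v (.inr (.inr i)) = (v (.inr (.inl i)) * x (.inr (.inr i)) + x (.inr (.inl i)) * v (.inr (.inr i))) + (v (.inr (.inl i)) * y (.inr (.inr i)) + y (.inr (.inl i)) * v (.inr (.inr i))) := fun i => by ring
      simp only [this, Finset.sum_add_distrib]
      ring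
    · intro c v x
      simp only [polar_odd, Pi.smul_apply, smul_eq_mul, mul_add, Finset.mul_sum]
      congr 1
      · ring
      · refine Finset.sum_congr rfl fun i _ => ?_
        ring
  · intro v hv
    have hB : ∃ x, QuadraticMap.polar (Cfsg.quadFormOdd m F) v x ≠ 0 := by
      obtain ⟨j, hj⟩ := Function.ne_iff.mp hv
      rcases j with j | j | j
      · refine ⟨Pi.single (.inl ()) 1, ?_⟩
        rw [polar_odd]
        simpa [Pi.single_apply] using ⟨h2, hj⟩
      · refine ⟨Pi.single (.inr (.inr j)) 1, ?_⟩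
        rw [polar_odd]
        simpa [Pi.single_apply] using hj
      · refine ⟨Pi.single (.inr (.inl j)) 1, ?_⟩
        rw [polar_odd]
        simpa [Pi.single_apply] using hj
    refine ⟨?_, hB⟩
    obtain ⟨x, hx⟩ := hB
    exact ⟨x, by rw [QuadraticMap.polar_comm]; exact hx⟩

end Cfsg.Agent.Lib.OrthStd
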