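import Mathlib
import Cfsg.Prelude.Def_KGroupFacts
/-!
A criterion for computing outer automorphism groups from a self-centralising prime-order element with a
Frobenius normaliser, and a second element whose centraliser is listed.
-/
set_option autoImplicit false
set_option linter.unusedSimpArgs false
set_option linter.unusedVariables false
set_option linter.style.haveILetI false
open Cfsg Subgroup

namespace Cfsg.Agent.Lib.OutCrit

universe u v

theorem inn_map_congr {G : Type u} {H : Type v} [Group G] [Group H] (e : G ≃* H) :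
    (Inn G).map (MulAut.congr e).toMonoidHom = Inn H := by
  ext φ
  simp only [Subgroup.mem_map, MonoidHom.mem_range, exists_exists_eq_and]
  constructor
  · rintro ⟨g, rfl⟩
    refine ⟨e g, ?_⟩
    ext x
    simp [MulAut.congr, MulAut.conj_apply]
  · rintro ⟨h, rfl⟩
    refine ⟨e.symm h, ?_⟩
    ext x
    simp [MulAut.congr, MulAut.conj_apply]

/-- Isomorphic groups have outer automorphism groups of the same size. -/
theorem card_out_congr {G : Type u} {H : Type v} [Group G] [Group H] (e : G ≃* H) :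
    Nat.card (Out G) = Nat.card (Out H) := by
  have h1 : Nat.card (Out G) = (Inn G).index := rfl
  have h2 : Nat.card (Out H) = (Inn H).index := rfl
  rw [h1, h2, ← inn_map_congr e]
  exact (Subgroup.index_map_of_bijective (MulAut.congr e).bijective _).symm

variable {G : Type u} [Group G]

/-- evaluating a word -/
def evalW (t : ℕ → G) (w : List ℕ) : G := (w.map t).prod

theorem map_evalW (φ : G →* G) (t : ℕ → G) (w : List ℕ) : φ (evalW t w) = evalW (fun i => φ (t i)) w := by
  unfold evalW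
  rw [map_list_prod, List.map_map]
  rfl

/-- table of three elements -/
def tab (x y z : G) (i : ℕ) : G := if i = 0 then x else if i = 1 then y else z

theorem map_tab (φ : G →* G) (x y z : G) (i : ℕ) : φ (tab x y z i) = tab (φ x) (φ y) (φ z) i := by
  unfold tab
  split_ifs <;> rfl

variable [Finite G]

theorem index_zpowers_eq {a b : G} (h : orderOf a = orderOf b) : (zpowers a).index = (zpowers b).index := by
  have h1 := Subgroup.index_mul_card (zpowers a)
  have h2 := Subgroup.index_mul_card (zpowers b)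
  rw [Nat.card_zpowers] at h1 h2
  rw [h] at h1
  have hpos : 0 < orderOf b := orderOf_pos b
  exact Nat.eq_of_mul_eq_mul_right hpos (h1.trans h2.symm)

/-- Two elements of prime order generating Sylow subgroups are conjugate up to a power. -/
theorem exists_conj_pow {p : ℕ} [Fact p.Prime] {a b : G} (ha : orderOf a = p) (hb : orderOf b = p)
    (hidx : ¬ p ∣ (zpowers a).index) : ∃ (g : G) (k : ℕ), g * b * g⁻¹ = a ^ k := by
  have hpa : IsPGroup p (zpowers a) := by
    apply IsPGroup.of_card (n := 1)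
    rw [Nat.card_zpowers, ha, pow_one]
  have hpb : IsPGroup p (zpowers b) := by
    apply IsPGroup.of_card (n := 1)
    rw [Nat.card_zpowers, hb, pow_one]
  have hidx' : ¬ p ∣ (zpowers b).index := by
    rw [← index_zpowers_eq (ha.trans hb.symm)]
    exact hidx
  let P : Sylow p G := hpa.toSylow hidx
  let Q : Sylow p G := hpb.toSylow hidx'
  obtain ⟨g, hg⟩ := MulAction.exists_smul_eq G Q P
  have hPc : (P : Subgroup G) = zpowers a := hpa.toSylow_coe hidx
  have hQc : (Q : Subgroup G) = zpowers b := hpb.toSylow_coe hidx'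
  have hmem : g * b * g⁻¹ ∈ (P : Subgroup G) := by
    rw [← hg, Sylow.coe_subgroup_smul]
    refine Subgroup.mem_map.2 ⟨b, ?_, rfl⟩
    show b ∈ (Q : Subgroup G)
    rw [hQc]
    exact mem_zpowers b
  rw [hPc] at hmem
  obtain ⟨k, hk⟩ := (mem_powers_iff_mem_zpowers).2 hmem
  exact ⟨g, k, hk.symm⟩

theorem conj_pow_eq {a c : G} {s : ℕ} (hs : c * a * c⁻¹ = a ^ s) (i : ℕ) : c ^ i * a * (c ^ i)⁻¹ = a ^ (s ^ i) := by
  induction i with
  | zero => simp
  | succ i ih =>
    have : c ^ (i + 1) * a * (c ^ (i + 1))⁻¹ = c * (c ^ i * a * (c ^ i)⁻¹) * c⁻¹ := by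
      rw [pow_succ']
      group
    rw [this, ih, ← conj_pow, hs, ← pow_mul, pow_succ']

theorem conj_pow_eq' {a c : G} {s : ℕ} (hs : c * a * c⁻¹ = a ^ s) (t : ℕ) : c * a ^ t * c⁻¹ = a ^ (t * s) := by
  rw [← conj_pow, hs, ← pow_mul, mul_comm]

/-- After an inner adjustment, an automorphism fixes `c` and sends `a` to `a` or its inverse. -/
theorem adjust {p s : ℕ} [Fact p.Prime] (a c : G) (ha : orderOf a = p) (hidx : ¬ p ∣ (zpowers a).index)
    (hs : c * a * c⁻¹ = a ^ s) (hCa : ∀ g : G, g * a = a * g → ∃ m : ℕ, g = a ^ m)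
    (hsolve : ∀ m < p, ∃ t : ℕ, (t + m) % p = (t * s) % p)
    (hcover : ∀ k, 0 < k → k < p → ∃ i : ℕ, (k * s ^ i) % p = 1 ∨ (k * s ^ i) % p = p - 1)
    (φ : MulAut G) :
    ∃ g : G, (MulAut.conj g * φ) c = c ∧ ((MulAut.conj g * φ) a = a ∨ (MulAut.conj g * φ) a = a⁻¹) := by
  have hp : p.Prime := Fact.out
  have hpow : ∀ x y : ℕ, x % p = y % p → a ^ x = a ^ y := by
    intro x y h
    rw [pow_eq_pow_iff_modEq, ha]
    exact h
  have hφa : orderOf (φ a) = p := by
    rw [MulEquiv.orderOf_eq]; exact ha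
  obtain ⟨g1, k, hg1⟩ := exists_conj_pow ha hφa hidx
  set φ1 := MulAut.conj g1 * φ with hφ1
  have h1a : φ1 a = a ^ k := by
    simp only [hφ1, MulAut.mul_apply, MulAut.conj_apply]
    exact hg1
  -- `k` is a unit
  have hk0 : ¬ p ∣ k := by
    intro hd
    have h2 : a ^ k = 1 := by
      rw [← orderOf_dvd_iff_pow_eq_one, ha]; exact hd
    rw [h2] at h1a
    have : a = 1 := by
      have : φ1 a = φ1 1 := by rw [h1a, map_one]
      exact φ1.injective this
    rw [this, orderOf_one] at ha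
    exact hp.one_lt.ne ha
  have hcop : Nat.Coprime k p := ((Nat.Prime.coprime_iff_not_dvd hp).2 hk0).symm
  obtain ⟨k', hk'⟩ : ∃ k' : ℕ, (k * k') % p = 1 := by
    obtain ⟨k', hk'⟩ := Nat.exists_mul_mod_eq_one_of_coprime hcop hp.one_lt
    exact ⟨k', hk'.2⟩
  have hak : (a ^ k) ^ k' = a := by
    rw [← pow_mul]
    have := hpow (k * k') 1 (by rw [hk', Nat.mod_eq_of_lt hp.one_lt])
    rw [this, pow_one]
  set u := φ1 c with hu
  have hu1 : u * a ^ k * u⁻¹ = a ^ (k * s) := by
    have := congrArg φ1 hs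
    simp only [map_mul, map_inv, map_pow, h1a] at this
    rw [this, ← pow_mul]
  have hu2 : u * a * u⁻¹ = c * a * c⁻¹ := by
    conv_lhs => rw [← hak]
    rw [← conj_pow, hu1, hs, ← pow_mul]
    have e : k * s * k' = (k * k') * s := by ring
    rw [e, pow_mul]
    have := hpow (k * k') 1 (by rw [hk', Nat.mod_eq_of_lt hp.one_lt])
    rw [this, pow_one]
  obtain ⟨m, hm⟩ := hCa (c⁻¹ * u) (by
    have h3 : u * a = c * a * c⁻¹ * u := by
      rw [← hu2]; group
    calc c⁻¹ * u * a = c⁻¹ * (u * a) := by group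
      _ = c⁻¹ * (c * a * c⁻¹ * u) := by rw [h3]
      _ = a * (c⁻¹ * u) := by group)
  have hu3 : u = a ^ (m * s) * c := by
    have h4 : u = c * a ^ m := by
      rw [← hm]; group
    rw [h4, ← conj_pow_eq' hs]
    group
  -- conjugate by a power of `a`
  obtain ⟨t, ht⟩ := hsolve ((m * s) % p) (Nat.mod_lt _ hp.pos)
  have hu4 : a ^ t * u * (a ^ t)⁻¹ = c := by
    have h5 : a ^ (t + (m * s)) = a ^ (t * s) := hpow _ _ (by
      rw [Nat.add_mod, ← ht]
      rw [Nat.add_mod t ((m * s) % p), Nat.mod_mod])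
    have h6 : c * (a ^ t)⁻¹ = (a ^ (t * s))⁻¹ * c := by
      rw [← conj_pow_eq' hs]
      group
    rw [hu3]
    calc a ^ t * (a ^ (m * s) * c) * (a ^ t)⁻¹ = a ^ (t + m * s) * (c * (a ^ t)⁻¹) := by
          rw [pow_add]; group
      _ = c := by
          rw [h5, h6]; group
  set φ2 := MulAut.conj (a ^ t) * φ1 with hφ2
  have h2c : φ2 c = c := by
    simp only [hφ2, MulAut.mul_apply, MulAut.conj_apply]
    exact hu4
  have h2a : φ2 a = a ^ k := by
    simp only [hφ2, MulAut.mul_apply, MulAut.conj_apply, h1a]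
    have : a ^ t * a ^ k = a ^ k * a ^ t := by
      rw [← pow_add, ← pow_add, add_comm]
    rw [this]
    group
  -- adjust the exponent
  have hk1 : 0 < k % p := Nat.pos_of_ne_zero (fun h => hk0 (Nat.dvd_of_mod_eq_zero h))
  obtain ⟨i, hi⟩ := hcover (k % p) hk1 (Nat.mod_lt _ hp.pos)
  set φ3 := MulAut.conj (c ^ i) * φ2 with hφ3
  have h3c : φ3 c = c := by
    simp only [hφ3, MulAut.mul_apply, MulAut.conj_apply, h2c]
    have : c ^ i * c = c * c ^ i := (pow_succ c i).symm.trans (pow_succ' c i)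
    rw [this]
    group
  have h3a : φ3 a = a ^ (k * s ^ i) := by
    simp only [hφ3, MulAut.mul_apply, MulAut.conj_apply, h2a]
    rw [← conj_pow, conj_pow_eq hs, ← pow_mul, Nat.mul_comm]
  have hkm : (k * s ^ i) % p = ((k % p) * s ^ i) % p :=
    ((Nat.mod_modEq k p).mul_right _).symm
  refine ⟨c ^ i * a ^ t * g1, ?_, ?_⟩
  · have : MulAut.conj (c ^ i * a ^ t * g1) * φ = φ3 := by
      rw [map_mul, map_mul]
      simp only [hφ3, hφ2, hφ1, mul_assoc]
    rw [this]
    exact h3c
  · have : MulAut.conj (c ^ i * a ^ t * g1) * φ = φ3 := by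
      rw [map_mul, map_mul]
      simp only [hφ3, hφ2, hφ1, mul_assoc]
    rw [this, h3a]
    rcases hi with hi | hi
    · left
      have := hpow (k * s ^ i) 1 (by rw [hkm, hi, Nat.mod_eq_of_lt hp.one_lt])
      rw [this, pow_one]
    · right
      have h7 := hpow (k * s ^ i) (p - 1) (by
        rw [hkm, hi, Nat.mod_eq_of_lt (Nat.sub_lt hp.pos one_pos)])
      rw [h7]
      have h8 : a ^ (p - 1) * a = 1 := by
        rw [← pow_succ, Nat.sub_add_cancel hp.one_le, ← ha, pow_orderOf_eq_one]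
      exact eq_inv_of_mul_eq_one_left h8

/-- The image of a third element under an automorphism fixing `c`. -/
theorem image_d {c d : G} {f : ℕ} (hd : d * c * d⁻¹ = c ^ f) (φ : MulAut G) (hφ : φ c = c) :
    (d⁻¹ * φ d) * c = c * (d⁻¹ * φ d) := by
  have h1 := congrArg φ hd
  simp only [map_mul, map_inv, map_pow, hφ] at h1
  have h2 : φ d * c * (φ d)⁻¹ = d * c * d⁻¹ := by rw [h1, hd]
  calc d⁻¹ * φ d * c = d⁻¹ * (φ d * c * (φ d)⁻¹) * φ d := by group
    _ = d⁻¹ * (d * c * d⁻¹) * φ d := by rw [h2]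
    _ = c * (d⁻¹ * φ d) := by group

/-- Two automorphisms agreeing on generators agree. -/
theorem aut_ext {a c d : G} (hgen : ∀ K : Subgroup G, a ∈ K → c ∈ K → d ∈ K → K = ⊤) {φ ψ : MulAut G}
    (h1 : φ a = ψ a) (h2 : φ c = ψ c) (h3 : φ d = ψ d) : φ = ψ := by
  have hK : MonoidHom.eqLocus (φ.toMonoidHom) (ψ.toMonoidHom) = ⊤ := hgen _ h1 h2 h3
  ext x
  have : x ∈ MonoidHom.eqLocus (φ.toMonoidHom) (ψ.toMonoidHom) := by rw [hK]; trivial
  exact this

/-- The Boolean-indexed image of `a`. -/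
def sgnA (a : G) (ε : Bool) : G := if ε then a else a⁻¹

/-- Data for the criterion. -/
structure Crit (G : Type u) [Group G] where
  a : G
  c : G
  d : G
  u : ℕ → G
  n : ℕ
  p : ℕ
  s : ℕ
  f : ℕ

namespace Crit
variable (D : Crit G)

/-- the hypotheses of the criterion -/
structure Good : Prop where
  hp : D.p.Prime
  ha : orderOf D.a = D.p
  hidx : ¬ D.p ∣ (zpowers D.a).index
  hs : D.c * D.a * D.c⁻¹ = D.a ^ D.s
  hCa : ∀ g : G, g * D.a = D.a * g → ∃ m : ℕ, g = D.a ^ m
  hsolve : ∀ m < D.p, ∃ t : ℕ, (t + m) % D.p = (t * D.s) % D.p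
  hcover : ∀ k, 0 < k → k < D.p → ∃ i : ℕ, (k * D.s ^ i) % D.p = 1 ∨ (k * D.s ^ i) % D.p = D.p - 1
  hd : D.d * D.c * D.d⁻¹ = D.c ^ D.f
  hL : ∀ x : G, x * D.c = D.c * x → ∃ k < D.n, x = D.u k
  hgen : ∀ K : Subgroup G, D.a ∈ K → D.c ∈ K → D.d ∈ K → K = ⊤

variable {D}

/-- every automorphism is, up to inner ones, described by a candidate -/
theorem Good.exists_candidate (h : D.Good) (φ : MulAut G) :
    ∃ (g : G) (ε : Bool) (k : ℕ), k < D.n ∧ (MulAut.conj g * φ) D.a = sgnA D.a ε ∧ (MulAut.conj g * φ) D.c = D.c ∧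
      (MulAut.conj g * φ) D.d = D.d * D.u k := by
  haveI : Fact D.p.Prime := ⟨h.hp⟩
  obtain ⟨g, h1, h2⟩ := adjust D.a D.c h.ha h.hidx h.hs h.hCa h.hsolve h.hcover φ
  have h3 := image_d h.hd (MulAut.conj g * φ) h1
  obtain ⟨k, hk, h4⟩ := h.hL _ h3
  have h5 : (MulAut.conj g * φ) D.d = D.d * D.u k := by
    rw [← h4]; group
  rcases h2 with h2 | h2
  · exact ⟨g, true, k, hk, by rw [h2]; rfl, h1, h5⟩
  · exact ⟨g, false, k, hk, by rw [h2]; rfl, h1, h5⟩

/-- Rejecting a candidate by a word. -/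
theorem Good.no_candidate (D : Crit G) {ψ : MulAut G} {ε : Bool} {k : ℕ} (w : List ℕ)
    (h1 : ψ D.a = sgnA D.a ε) (h2 : ψ D.c = D.c) (h3 : ψ D.d = D.d * D.u k)
    (hw : evalW (tab D.a D.c D.d) w = 1) : evalW (tab (sgnA D.a ε) D.c (D.d * D.u k)) w = 1 := by
  have := map_evalW ψ.toMonoidHom (tab D.a D.c D.d) w
  rw [hw, map_one] at this
  have e : (fun i => ψ.toMonoidHom (tab D.a D.c D.d i)) = tab (sgnA D.a ε) D.c (D.d * D.u k) := by
    funext i
    have e := map_tab ψ.toMonoidHom D.a D.c D.d i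
    simp only [MulEquiv.coe_toMonoidHom] at e
    show ψ (tab D.a D.c D.d i) = _
    rw [e, h1, h2, h3]
  rw [e] at this
  exact this.symm

/-- A candidate is rejected if a word holds for the generators but fails for the images. -/
def Rejected (D : Crit G) (ε : Bool) (k : ℕ) : Prop :=
  ∃ w : List ℕ, evalW (tab D.a D.c D.d) w = 1 ∧ evalW (tab (sgnA D.a ε) D.c (D.d * D.u k)) w ≠ 1

/-- Criterion for trivial outer automorphism group. -/
theorem Good.out_one (h : D.Good) (hrej : ∀ (ε : Bool), ∀ k < D.n, ¬ (ε = true ∧ D.u k = 1) → Rejected D ε k) :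
    Nat.card (Out G) = 1 := by
  have htop : Inn G = ⊤ := by
    rw [eq_top_iff]
    intro φ _
    obtain ⟨g, ε, k, hk, h1, h2, h3⟩ := h.exists_candidate φ
    by_cases hε : ε = true ∧ D.u k = 1
    · have hone : MulAut.conj g * φ = 1 := by
        apply aut_ext h.hgen
        · rw [h1, hε.1]; rfl
        · rw [h2]; rfl
        · rw [h3, hε.2, mul_one]; rfl
      have : φ = MulAut.conj g⁻¹ := by
        rw [map_inv]
        exact eq_inv_of_mul_eq_one_right hone
      rw [this]
      exact ⟨_, rfl⟩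
    · obtain ⟨w, hw1, hw2⟩ := hrej ε k hk hε
      exact absurd (Good.no_candidate D w h1 h2 h3 hw1) hw2
  show (Inn G).index = 1
  rw [htop, Subgroup.index_top]

/-- Criterion for outer automorphism group of order two. -/
theorem Good.out_two (h : D.Good) {ε₀ : Bool} {k₀ : ℕ}
    (hrej : ∀ (ε : Bool), ∀ k < D.n, ¬ (ε = true ∧ D.u k = 1) → ¬ (ε = ε₀ ∧ D.u k = D.u k₀) → Rejected D ε k)
    (ω : MulAut G) (hω : ω ∉ Inn G) : Nat.card (Out G) = 2 := by
  -- two non-inner automorphisms differ by an inner one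
  have key : ∀ x y : MulAut G, x ∉ Inn G → y ∉ Inn G → x * y⁻¹ ∈ Inn G := by
    have one : ∀ x : MulAut G, x ∉ Inn G → ∃ g : G, (MulAut.conj g * x) D.a = sgnA D.a ε₀ ∧ (MulAut.conj g * x) D.c = D.c ∧
        (MulAut.conj g * x) D.d = D.d * D.u k₀ := by
      intro x hx
      obtain ⟨g, ε, k, hk, h1, h2, h3⟩ := h.exists_candidate x
      by_cases hε : ε = true ∧ D.u k = 1
      · exfalso
        apply hx
        have hone : MulAut.conj g * x = 1 := by
          apply aut_ext h.hgen
          · rw [h1, hε.1]; rfl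
          · rw [h2]; rfl
          · rw [h3, hε.2, mul_one]; rfl
        have : x = MulAut.conj g⁻¹ := by
          rw [map_inv]
          exact eq_inv_of_mul_eq_one_right hone
        rw [this]
        exact ⟨_, rfl⟩
      · by_cases hε2 : ε = ε₀ ∧ D.u k = D.u k₀
        · refine ⟨g, ?_, h2, ?_⟩
          · rw [h1, hε2.1]
          · rw [h3, hε2.2]
        · obtain ⟨w, hw1, hw2⟩ := hrej ε k hk hε hε2
          exact absurd (Good.no_candidate D w h1 h2 h3 hw1) hw2
    intro x y hx hy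
    obtain ⟨g1, h1, h2, h3⟩ := one x hx
    obtain ⟨g2, h4, h5, h6⟩ := one y hy
    have he : MulAut.conj g1 * x = MulAut.conj g2 * y := by
      apply aut_ext h.hgen
      · rw [h1, h4]
      · rw [h2, h5]
      · rw [h3, h6]
    have : x * y⁻¹ = MulAut.conj (g1⁻¹ * g2) := by
      rw [map_mul, map_inv]
      have hx' : x = (MulAut.conj g1)⁻¹ * (MulAut.conj g2 * y) := by
        rw [← he]; group
      rw [hx']
      group
    rw [this]
    exact ⟨_, rfl⟩
  show (Inn G).index = 2
  rw [Subgroup.index_eq_two_iff]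
  refine ⟨ω, fun b => ?_⟩
  by_cases hb : b ∈ Inn G
  · refine Or.inr ⟨hb, fun h2 => hω ?_⟩
    have := (Inn G).mul_mem ((Inn G).inv_mem hb) h2
    rwa [inv_mul_cancel_left] at this
  · refine Or.inl ⟨?_, hb⟩
    have hωi : ω⁻¹ ∉ Inn G := fun h2 => hω (by simpa using (Inn G).inv_mem h2)
    have := key b ω⁻¹ hb hωi
    rwa [inv_inv] at this

end Crit

end Cfsg.Agent.Lib.OutCrit
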