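import Mathlib
/-!
Certificates for the order of a finite group given by a stabiliser chain, in the spirit of Schreier-Sims.

A "machine" is a code `C` for the elements of the group with a right multiplication by letters.  All the work is
done on codes; the semantic side only needs that the code is compatible with multiplication and that it separates
the identity from the other elements of the group.
-/
set_option autoImplicit false
set_option linter.unusedSimpArgs false
set_option linter.unusedVariables false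
set_option linter.style.haveILetI false

namespace Cfsg.Agent.Lib.PChain

/-- `a && b`, with a cheap reduction -/
scoped notation:max "band(" a ", " b ")" => (Bool.rec (motive := fun _ => Bool) false b a : Bool)

theorem band_eq (a b : Bool) : band(a, b) = (a && b) := by cases a <;> rfl

/-- binary splitting loop: `P` on `[lo, lo + 2 ^ d)` -/
noncomputable def allB (P : ℕ → Bool) (d : ℕ) : ℕ → Bool :=
  Nat.rec (motive := fun _ => ℕ → Bool) P
    (fun d ih lo => band(ih lo, ih (Nat.add lo (Nat.shiftLeft 1 d)))) d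

theorem allB_zero (P : ℕ → Bool) (lo : ℕ) : allB P 0 lo = P lo := rfl

theorem allB_succ (P : ℕ → Bool) (d lo : ℕ) :
    allB P (d + 1) lo = (allB P d lo && allB P d (lo + 2 ^ d)) := by
  have h : Nat.add lo (Nat.shiftLeft 1 d) = lo + 2 ^ d := by
    show lo + 1 <<< d = _
    rw [Nat.one_shiftLeft]
  show band(allB P d lo, allB P d (Nat.add lo (Nat.shiftLeft 1 d))) = _
  rw [h, band_eq]

theorem allB_spec {P : ℕ → Bool} {d lo : ℕ} (h : allB P d lo = true) :
    ∀ x, lo ≤ x → x < lo + 2 ^ d → P x = true := by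
  induction d generalizing lo with
  | zero =>
    intro x h1 h2
    have : x = lo := by simp at h2; omega
    subst this
    exact h
  | succ d ih =>
    rw [allB_succ, Bool.and_eq_true] at h
    intro x h1 h2
    by_cases hx : x < lo + 2 ^ d
    · exact ih h.1 x h1 hx
    · refine ih h.2 x ?_ ?_
      · show lo + 2 ^ d ≤ x
        omega
      · show x < lo + 2 ^ d + 2 ^ d
        rw [pow_succ] at h2
        omega

/-- loop on a range `[lo, hi)` -/
noncomputable def allR (P : ℕ → Bool) (lo hi : ℕ) : Bool :=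
  allB (fun x => Bool.rec (motive := fun _ => Bool) true (P x) (Nat.blt x hi)) (Nat.add (Nat.log2 (Nat.sub hi lo)) 1) lo

theorem allR_spec {P : ℕ → Bool} {lo hi : ℕ} (h : allR P lo hi = true) :
    ∀ x, lo ≤ x → x < hi → P x = true := by
  intro x h1 h2
  have h3 := allB_spec h x h1 ?_
  · have h4 : Nat.blt x hi = true := by
      simp [Nat.blt_eq, h2]
    simp only [h4] at h3
    exact h3
  · have h5 : hi - lo < 2 ^ (Nat.log2 (hi - lo) + 1) := by
      rw [Nat.log2_eq_log_two]
      exact Nat.lt_pow_succ_log_self (by norm_num) _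
    show x < lo + 2 ^ (Nat.log2 (hi - lo) + 1)
    omega

/-- the statement checked by a loop on a range; it can be split in pieces -/
def RangeOK (P : ℕ → Bool) (lo hi : ℕ) : Prop := ∀ x, lo ≤ x → x < hi → P x = true

theorem RangeOK.of_allR {P : ℕ → Bool} {lo hi : ℕ} (h : allR P lo hi = true) : RangeOK P lo hi := allR_spec h

theorem RangeOK.trans {P : ℕ → Bool} {a b c : ℕ} (h1 : RangeOK P a b) (h2 : RangeOK P b c) : RangeOK P a c := by
  intro x hx hx2
  by_cases h : x < b
  · exact h1 x hx h
  · exact h2 x (by omega) hx2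

theorem RangeOK.nil (P : ℕ → Bool) (a : ℕ) : RangeOK P a a := fun x h1 h2 => by omega

/-- The data of a chain. -/
structure CD (C : Type) where
  /-- right multiplication by a letter, on codes -/
  step : C → ℕ → C
  /-- at level `j`, the node reached by a code -/
  nd : ℕ → C → ℕ
  /-- the parents of the nodes of the trees -/
  par : ℕ → ℕ
  /-- the letters on the edges of the trees -/
  lab : ℕ → ℕ
  /-- the inverse letters -/
  inv : ℕ → ℕ
  /-- codes of the transversal elements -/
  V : ℕ → C
  /-- the code of the identity -/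
  one : C
  /-- the test for the code of the identity -/
  eqOne : C → Bool
  /-- equality of codes -/
  ceq : C → C → Bool
  /-- the offsets of the levels in the nodes -/
  off : ℕ → ℕ
  /-- the offsets of the levels in the letters -/
  lt : ℕ → ℕ
  /-- the number of levels -/
  k : ℕ
  /-- enough fuel: more than all node numbers -/
  F : ℕ

variable {C : Type}

/-- multiply by the inverse of the transversal element of a node -/
noncomputable def unw (d : CD C) (f : ℕ) : ℕ → C → C :=
  Nat.rec (motive := fun _ => ℕ → C → C) (fun _ t => t)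
    (fun _ ih c t => Bool.rec (motive := fun _ => C) (ih (d.par c) (d.step t (d.inv (d.lab c)))) t (Nat.beq (d.par c) c)) f

theorem unw_zero (d : CD C) (c : ℕ) (t : C) : unw d 0 c t = t := rfl

theorem unw_succ (d : CD C) (f c : ℕ) (t : C) :
    unw d (f + 1) c t = cond (Nat.beq (d.par c) c) t (unw d f (d.par c) (d.step t (d.inv (d.lab c)))) := by
  show Bool.rec (motive := fun _ => C) (unw d f (d.par c) (d.step t (d.inv (d.lab c)))) t (Nat.beq (d.par c) c) = _
  cases Nat.beq (d.par c) c <;> rfl

/-- sifting a code through the levels -/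
noncomputable def sift (d : CD C) (r : ℕ) : ℕ → C → Bool :=
  Nat.rec (motive := fun _ => ℕ → C → Bool) (fun _ t => d.eqOne t)
    (fun _ ih j t => band(Nat.ble (d.off j) (d.nd j t), band(Nat.blt (d.nd j t) (d.off (Nat.succ j)),
      ih (Nat.succ j) (unw d d.F (d.nd j t) t)))) r

theorem sift_zero (d : CD C) (j : ℕ) (t : C) : sift d 0 j t = d.eqOne t := rfl

theorem sift_succ (d : CD C) (r j : ℕ) (t : C) :
    sift d (r + 1) j t = (Nat.ble (d.off j) (d.nd j t) && (Nat.blt (d.nd j t) (d.off (j + 1)) &&
      sift d r (j + 1) (unw d d.F (d.nd j t) t))) := by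
  show band(Nat.ble (d.off j) (d.nd j t), band(Nat.blt (d.nd j t) (d.off (j + 1)),
      sift d r (j + 1) (unw d d.F (d.nd j t) t))) = _
  rw [band_eq, band_eq]

/-- the tree conditions at a node -/
def nodeOK (d : CD C) (j c : ℕ) : Bool :=
  and (Nat.beq (d.nd j (d.V c)) c)
    (cond (Nat.beq (d.par c) c)
      (and (Nat.beq c (d.off j)) (d.ceq (d.V c) d.one))
      (and (and (Nat.blt (d.par c) c) (Nat.ble (d.off j) (d.par c)))
        (and (and (Nat.ble (d.lt j) (d.lab c)) (Nat.blt (d.lab c) (d.lt (j + 1))))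
          (d.ceq (d.V c) (d.step (d.V (d.par c)) (d.lab c))))))

/-- the check at a node of a level -/
noncomputable def levelP (d : CD C) (j c : ℕ) : Bool :=
  band(nodeOK d j c, allR (fun x => sift d (Nat.sub d.k j) j (d.step (d.V c) x)) (d.lt j) (d.lt (Nat.succ j)))

/-- the root of a level is a node, and the offsets are monotone -/
noncomputable def shapeOK (d : CD C) : Bool :=
  allR (fun j => and (Nat.blt (d.off j) (d.off (j + 1))) (Nat.ble (d.lt j) (d.lt (j + 1)))) 0 d.k

variable {G : Type*} [Group G]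

/-- the group at a level -/
def K (d : CD C) (gen : ℕ → G) (j : ℕ) : Subgroup G :=
  Subgroup.closure (gen '' Set.Ico (d.lt j) (d.lt (j + 1)))

/-- the assumptions linking the code to the group -/
structure Sem (d : CD C) (gen : ℕ → G) (enc : G → C) : Prop where
  enc_one : enc 1 = d.one
  enc_step : ∀ g x, enc (g * gen x) = d.step (enc g) x
  gen_inv : ∀ x, gen (d.inv x) = (gen x)⁻¹
  ceq_sound : ∀ a b, d.ceq a b = true → a = b
  eqOne_sound : ∀ g ∈ K d gen 0, d.eqOne (enc g) = true → g = 1
  incl : ∀ j, j < d.k → K d gen (j + 1) ≤ K d gen j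
  nd_inv : ∀ j, j < d.k → ∀ h ∈ K d gen (j + 1), ∀ g, d.nd j (enc (h * g)) = d.nd j (enc g)
  top : d.lt d.k = d.lt (d.k + 1)
  F_big : d.off d.k ≤ d.F
  off0 : d.off 0 = 0

/-- the transversal elements, with fuel -/
def rp (d : CD C) (gen : ℕ → G) : ℕ → ℕ → G
  | 0, _ => 1
  | f + 1, c => if d.par c = c then 1 else rp d gen f (d.par c) * gen (d.lab c)

section
variable {d : CD C} {gen : ℕ → G} {enc : G → C}

theorem unw_eq (hS : Sem d gen enc) (f c : ℕ) (g : G) :
    unw d f c (enc g) = enc (g * (rp d gen f c)⁻¹) := by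
  induction f generalizing c g with
  | zero => simp [unw_zero, rp]
  | succ f ih =>
    by_cases h : d.par c = c
    · simp [unw_succ, rp, h]
    · have h1 : Nat.beq (d.par c) c = false := by
        rw [← Bool.not_eq_true, Nat.beq_eq]
        exact h
      simp only [unw_succ, rp, h1, cond_false, if_neg h]
      rw [← hS.enc_step, hS.gen_inv, ih]
      congr 1
      simp [mul_assoc]

/-- the shape of the forest -/
def ForestShape (d : CD C) : Prop := ∀ c, c < d.off d.k → d.par c = c ∨ d.par c < c

theorem rp_fuel (hF : ForestShape d) (c : ℕ) (hc : c < d.off d.k) :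
    ∀ f, c ≤ f → rp d gen f c = rp d gen c c := by
  induction c using Nat.strong_induction_on with
  | _ c ih =>
    intro f hf
    by_cases h : d.par c = c
    · cases f with
      | zero =>
        have : c = 0 := by omega
        subst this
        rfl
      | succ f =>
        cases c with
        | zero => simp [rp, h]
        | succ c => simp [rp, h]
    · have h2 : d.par c < c := (hF c hc).resolve_left h
      obtain ⟨c', rfl⟩ : ∃ c', c = c' + 1 := ⟨c - 1, by omega⟩
      obtain ⟨f', rfl⟩ : ∃ f', f = f' + 1 := ⟨f - 1, by omega⟩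
      simp only [rp, if_neg h]
      rw [ih _ h2 (by omega) f' (by omega), ih _ h2 (by omega) c' (by omega)]

end

/-- a transversal element -/
def rep (d : CD C) (gen : ℕ → G) (c : ℕ) : G := rp d gen d.F c

section
variable {d : CD C} {gen : ℕ → G} {enc : G → C}

/-- the level of a node -/
def InLevel (d : CD C) (j c : ℕ) : Prop := d.off j ≤ c ∧ c < d.off (j + 1)

theorem off_mono (hs : shapeOK d = true) : ∀ i j, i ≤ j → j ≤ d.k → d.off i ≤ d.off j := by
  have h0 := allR_spec hs
  intro i j hij
  induction j, hij using Nat.le_induction with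
  | base => intro _; exact le_rfl
  | succ j hj ih =>
    intro hk
    have h1 := h0 j (Nat.zero_le _) (by omega)
    simp only [Bool.and_eq_true, Nat.blt_eq, Nat.ble_eq] at h1
    exact (ih (by omega)).trans h1.1.le

theorem off_lt (hs : shapeOK d = true) {j : ℕ} (hj : j < d.k) : d.off j < d.off (j + 1) := by
  have h1 := allR_spec hs j (Nat.zero_le _) hj
  simp only [Bool.and_eq_true, Nat.blt_eq, Nat.ble_eq] at h1
  exact h1.1

theorem nodeOK_spec (hS : Sem d gen enc) {j c : ℕ} (h : nodeOK d j c = true) :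
    d.nd j (d.V c) = c ∧ ((d.par c = c ∧ c = d.off j ∧ d.V c = d.one) ∨
      (d.par c < c ∧ d.off j ≤ d.par c ∧ d.lt j ≤ d.lab c ∧ d.lab c < d.lt (j + 1) ∧
        d.V c = d.step (d.V (d.par c)) (d.lab c))) := by
  simp only [nodeOK, Bool.and_eq_true, Nat.beq_eq] at h
  refine ⟨h.1, ?_⟩
  by_cases h2 : d.par c = c
  · have h1 : Nat.beq (d.par c) c = true := by rw [Nat.beq_eq]; exact h2
    have h3 := h.2
    rw [h1, cond_true] at h3
    simp only [Bool.and_eq_true, Nat.beq_eq] at h3
    exact Or.inl ⟨h2, h3.1, hS.ceq_sound _ _ h3.2⟩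
  · have h1 : Nat.beq (d.par c) c = false := by
      rw [← Bool.not_eq_true, Nat.beq_eq]
      exact h2
    have h3 := h.2
    rw [h1, cond_false] at h3
    simp only [Bool.and_eq_true, Nat.blt_eq, Nat.ble_eq] at h3
    exact Or.inr ⟨h3.1.1, h3.1.2, h3.2.1.1, h3.2.1.2, hS.ceq_sound _ _ h3.2.2⟩

/-- the consequences of all the checks -/
structure Checked (d : CD C) : Prop where
  shape : shapeOK d = true
  levels : ∀ j, j < d.k → RangeOK (levelP d j) (d.off j) (d.off (j + 1))

theorem levelOK_spec {j : ℕ} (h : RangeOK (levelP d j) (d.off j) (d.off (j + 1))) {c : ℕ} (hc : InLevel d j c) :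
    nodeOK d j c = true ∧ ∀ x, d.lt j ≤ x → x < d.lt (j + 1) → sift d (d.k - j) j (d.step (d.V c) x) = true := by
  have h1 := h c hc.1 hc.2
  unfold levelP at h1
  rw [band_eq, Bool.and_eq_true] at h1
  exact ⟨h1.1, allR_spec h1.2⟩

theorem level_of_node (hS : Sem d gen enc) {c : ℕ} :
    ∀ m, m ≤ d.k → c < d.off m → ∃ j, j < m ∧ InLevel d j c := by
  intro m
  induction m with
  | zero =>
    intro _ h
    rw [hS.off0] at h
    omega
  | succ m ih =>
    intro hm h
    by_cases h1 : c < d.off m
    · obtain ⟨j, hj, hj2⟩ := ih (by omega) h1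
      exact ⟨j, by omega, hj2⟩
    · exact ⟨m, by omega, by omega, h⟩

theorem forestShape (hS : Sem d gen enc) (hC : Checked d) : ForestShape d := by
  intro c hc
  obtain ⟨j, hj, hj2⟩ := level_of_node hS d.k le_rfl hc
  have h1 := (levelOK_spec (hC.levels j hj) hj2).1
  rcases (nodeOK_spec hS h1).2 with h | h
  · exact Or.inl h.1
  · exact Or.inr h.1

theorem rep_root {c : ℕ} (h : d.par c = c) : rep d gen c = 1 := by
  unfold rep
  cases d.F with
  | zero => rfl
  | succ f => simp [rp, h]

theorem rep_step (hS : Sem d gen enc) (hC : Checked d) {c : ℕ} (hc : c < d.off d.k) (h : d.par c ≠ c) :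
    rep d gen c = rep d gen (d.par c) * gen (d.lab c) := by
  have hF := forestShape hS hC
  have h2 : d.par c < c := (hF c hc).resolve_left h
  have h3 := hS.F_big
  unfold rep
  obtain ⟨f, hf⟩ : ∃ f, d.F = f + 1 := ⟨d.F - 1, by omega⟩
  rw [hf]
  have e : rp d gen (f + 1) c = rp d gen f (d.par c) * gen (d.lab c) := by simp only [rp, if_neg h]
  rw [e, rp_fuel hF _ (by omega) f (by omega), rp_fuel hF _ (by omega) (f + 1) (by omega)]

theorem K_mono (hS : Sem d gen enc) {j : ℕ} (hj : j ≤ d.k) : K d gen j ≤ K d gen 0 := by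
  induction j with
  | zero => exact le_rfl
  | succ j ih => exact (hS.incl j (by omega)).trans (ih (by omega))

theorem off_level_lt (hC : Checked d) {j : ℕ} (hj : j < d.k) : d.off (j + 1) ≤ d.off d.k :=
  off_mono hC.shape _ _ hj le_rfl

theorem rep_mem (hS : Sem d gen enc) (hC : Checked d) {j : ℕ} (hj : j < d.k) :
    ∀ c, InLevel d j c → rep d gen c ∈ K d gen j := by
  intro c
  induction c using Nat.strong_induction_on with
  | _ c ih =>
    intro hc
    have h1 := (levelOK_spec (hC.levels j hj) hc).1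
    rcases (nodeOK_spec hS h1).2 with h | h
    · rw [rep_root h.1]
      exact one_mem _
    · obtain ⟨h2, h3, h4, h5, h6⟩ := h
      have hc2 : c < d.off d.k := lt_of_lt_of_le hc.2 (off_level_lt hC hj)
      rw [rep_step hS hC hc2 (by omega)]
      refine mul_mem (ih _ h2 ⟨h3, by have := hc.2; omega⟩) (Subgroup.subset_closure ⟨_, ⟨h4, h5⟩, rfl⟩)

theorem V_eq (hS : Sem d gen enc) (hC : Checked d) {j : ℕ} (hj : j < d.k) :
    ∀ c, InLevel d j c → d.V c = enc (rep d gen c) := by
  intro c
  induction c using Nat.strong_induction_on with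
  | _ c ih =>
    intro hc
    have h1 := (levelOK_spec (hC.levels j hj) hc).1
    rcases (nodeOK_spec hS h1).2 with h | h
    · rw [rep_root h.1, h.2.2, hS.enc_one]
    · obtain ⟨h2, h3, h4, h5, h6⟩ := h
      have hc2 : c < d.off d.k := lt_of_lt_of_le hc.2 (off_level_lt hC hj)
      rw [rep_step hS hC hc2 (by omega), h6, hS.enc_step, ih _ h2 ⟨h3, by have := hc.2; omega⟩]

theorem sift_split (hS : Sem d gen enc) (hC : Checked d) {r j : ℕ} {g : G} (hj : j < d.k)
    (hsift : sift d (r + 1) j (enc g) = true)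
    (hrec : ∀ g', g' ∈ K d gen 0 → sift d r (j + 1) (enc g') = true → g' ∈ K d gen (j + 1)) (hg : g ∈ K d gen 0) :
    InLevel d j (d.nd j (enc g)) ∧ g * (rep d gen (d.nd j (enc g)))⁻¹ ∈ K d gen (j + 1) := by
  rw [sift_succ, Bool.and_eq_true, Bool.and_eq_true, Nat.ble_eq, Nat.blt_eq] at hsift
  have hL : InLevel d j (d.nd j (enc g)) := ⟨hsift.1, hsift.2.1⟩
  refine ⟨hL, hrec _ ?_ ?_⟩
  · exact mul_mem hg (inv_mem (K_mono hS hj.le (rep_mem hS hC hj _ hL)))
  · have := hsift.2.2
    rw [unw_eq hS] at this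
    exact this

theorem sift_mem (hS : Sem d gen enc) (hC : Checked d) :
    ∀ r j, r + j = d.k → ∀ g, g ∈ K d gen 0 → sift d r j (enc g) = true → g ∈ K d gen j := by
  intro r
  induction r with
  | zero =>
    intro j hj g hg h
    rw [sift_zero] at h
    have := hS.eqOne_sound g hg h
    rw [this]
    exact one_mem _
  | succ r ih =>
    intro j hj g hg h
    have hj2 : j < d.k := by omega
    obtain ⟨h1, h2⟩ := sift_split hS hC hj2 h (ih (j + 1) (by omega)) hg
    have h3 := mul_mem ((hS.incl j hj2) h2) (rep_mem hS hC hj2 _ h1)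
    simpa using h3

theorem edge_split (hS : Sem d gen enc) (hC : Checked d) {j : ℕ} (hj : j < d.k) {c x : ℕ} (hc : InLevel d j c)
    (h1 : d.lt j ≤ x) (h2 : x < d.lt (j + 1)) :
    ∃ c', InLevel d j c' ∧ ∃ h ∈ K d gen (j + 1), rep d gen c * gen x = h * rep d gen c' := by
  have hL := levelOK_spec (hC.levels j hj) hc
  have h3 := hL.2 x h1 h2
  rw [V_eq hS hC hj c hc, ← hS.enc_step] at h3
  obtain ⟨r, hr⟩ : ∃ r, d.k - j = r + 1 := ⟨d.k - j - 1, by omega⟩
  rw [hr] at h3
  have hm : rep d gen c * gen x ∈ K d gen j :=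
    mul_mem (rep_mem hS hC hj c hc) (Subgroup.subset_closure ⟨x, ⟨h1, h2⟩, rfl⟩)
  obtain ⟨h4, h5⟩ := sift_split hS hC hj h3 (sift_mem hS hC r (j + 1) (by omega)) (K_mono hS hj.le hm)
  exact ⟨_, h4, _, h5, by simp⟩

/-- the root of a level is a root of the tree -/
theorem root_par (hS : Sem d gen enc) (hC : Checked d) {j : ℕ} (hj : j < d.k) : d.par (d.off j) = d.off j := by
  have h0 : InLevel d j (d.off j) := ⟨le_rfl, off_lt hC.shape hj⟩
  rcases (nodeOK_spec hS (levelOK_spec (hC.levels j hj) h0).1).2 with h | h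
  · exact h.1
  · omega

/-- the transversal covers the level -/
theorem cover (hS : Sem d gen enc) (hC : Checked d) {j : ℕ} (hj : j < d.k) [Finite (K d gen (j + 1))] :
    ∀ g ∈ K d gen j, ∃ h ∈ K d gen (j + 1), ∃ c, InLevel d j c ∧ g = h * rep d gen c := by
  classical
  let X : Set G := {g | ∃ h ∈ K d gen (j + 1), ∃ c, InLevel d j c ∧ g = h * rep d gen c}
  have hXfin : X.Finite := by
    have h1 : ((fun p : (K d gen (j + 1)) × (Set.Ico (d.off j) (d.off (j + 1))) => (p.1 : G) * rep d gen (p.2 : ℕ)) '' Set.univ).Finite :=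
      Set.Finite.image _ Set.finite_univ
    refine h1.subset ?_
    rintro g ⟨h, hh, c, hc, rfl⟩
    exact ⟨(⟨h, hh⟩, ⟨c, hc⟩), trivial, rfl⟩
  have hstep : ∀ g ∈ X, ∀ x, d.lt j ≤ x → x < d.lt (j + 1) → g * gen x ∈ X := by
    rintro g ⟨h, hh, c, hc, rfl⟩ x h1 h2
    obtain ⟨c', hc', h', hh', he⟩ := edge_split hS hC hj hc h1 h2
    refine ⟨h * h', mul_mem hh hh', c', hc', ?_⟩
    rw [mul_assoc, he, mul_assoc]
  have hinv : ∀ a : G, (∀ y ∈ X, y * a ∈ X) → ∀ y ∈ X, y * a⁻¹ ∈ X := by
    intro a ha y hy
    haveI : Finite X := hXfin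
    let f : X → X := fun z => ⟨z.1 * a, ha _ z.2⟩
    have hf : Function.Injective f := by
      intro u v huv
      have : u.1 * a = v.1 * a := congrArg Subtype.val huv
      exact Subtype.ext (mul_right_cancel this)
    obtain ⟨z, hz⟩ := (Finite.injective_iff_surjective.1 hf) ⟨y, hy⟩
    have hz2 : z.1 * a = y := congrArg Subtype.val hz
    rw [← hz2]
    simp
  let S : Subgroup G :=
    { carrier := {a | ∀ y ∈ X, y * a ∈ X}
      mul_mem' := by
        intro a b ha hb y hy
        rw [← mul_assoc]
        exact hb _ (ha _ hy)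
      one_mem' := by
        intro y hy
        simpa using hy
      inv_mem' := by
        intro a ha
        exact hinv a ha }
  have hle : K d gen j ≤ S := by
    refine (Subgroup.closure_le _).2 ?_
    rintro _ ⟨x, ⟨h1, h2⟩, rfl⟩ y hy
    exact hstep y hy x h1 h2
  intro g hg
  have h1 : (1 : G) ∈ X := ⟨1, one_mem _, d.off j, ⟨le_rfl, off_lt hC.shape hj⟩, by
    rw [rep_root (root_par hS hC hj)]; simp⟩
  have h2 := hle hg 1 h1
  rw [one_mul] at h2
  exact h2

/-- the node of a product -/
theorem nd_rep (hS : Sem d gen enc) (hC : Checked d) {j : ℕ} (hj : j < d.k) {c : ℕ} (hc : InLevel d j c)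
    {h : G} (hh : h ∈ K d gen (j + 1)) : d.nd j (enc (h * rep d gen c)) = c := by
  rw [hS.nd_inv j hj h hh, ← V_eq hS hC hj c hc]
  exact (nodeOK_spec hS (levelOK_spec (hC.levels j hj) hc).1).1

/-- one step of the order computation -/
theorem card_step (hS : Sem d gen enc) (hC : Checked d) {j : ℕ} (hj : j < d.k) [Finite (K d gen (j + 1))] :
    Finite (K d gen j) ∧ Nat.card (K d gen j) = (d.off (j + 1) - d.off j) * Nat.card (K d gen (j + 1)) := by
  classical
  let φ : (Set.Ico (d.off j) (d.off (j + 1))) × (K d gen (j + 1)) → K d gen j := fun p =>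
    ⟨(p.2 : G) * rep d gen (p.1 : ℕ), mul_mem (hS.incl j hj p.2.2) (rep_mem hS hC hj _ p.1.2)⟩
  have hφ : Function.Bijective φ := by
    constructor
    · rintro ⟨⟨c, hc⟩, ⟨h, hh⟩⟩ ⟨⟨c', hc'⟩, ⟨h', hh'⟩⟩ he
      have he2 : h * rep d gen c = h' * rep d gen c' := congrArg Subtype.val he
      have h1 := nd_rep hS hC hj hc hh
      have h2 := nd_rep hS hC hj hc' hh'
      rw [he2, h2] at h1
      subst h1
      have h3 := mul_right_cancel he2
      subst h3
      rfl
    · rintro ⟨g, hg⟩
      obtain ⟨h, hh, c, hc, rfl⟩ := cover hS hC hj g hg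
      exact ⟨(⟨c, hc⟩, ⟨h, hh⟩), rfl⟩
  have hf : Finite (K d gen j) := Finite.of_surjective φ hφ.2
  refine ⟨hf, ?_⟩
  rw [← Nat.card_eq_of_bijective φ hφ, Nat.card_prod]
  congr 1
  rw [Nat.card_coe_set_eq, Set.ncard_eq_toFinset_card']
  simp

/-- the last group of the chain is trivial -/
theorem K_top (hS : Sem d gen enc) : K d gen d.k = ⊥ := by
  unfold K
  rw [hS.top]
  simp

/-- the order computation -/
theorem card_chain (hS : Sem d gen enc) (hC : Checked d) :
    ∀ r j, j + r = d.k → Finite (K d gen j) ∧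
      Nat.card (K d gen j) = ∏ i ∈ Finset.range r, (d.off (j + i + 1) - d.off (j + i)) := by
  intro r
  induction r with
  | zero =>
    intro j hj
    have : j = d.k := by omega
    subst this
    rw [K_top hS]
    exact ⟨inferInstance, by simp⟩
  | succ r ih =>
    intro j hj
    obtain ⟨h1, h2⟩ := ih (j + 1) (by omega)
    obtain ⟨h3, h4⟩ := card_step hS hC (j := j) (by omega)
    refine ⟨h3, ?_⟩
    rw [h4, h2, Finset.prod_range_succ']
    simp only [add_zero, mul_comm]
    congr 1
    apply Finset.prod_congr rfl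
    intro i _
    rw [show j + 1 + i = j + (i + 1) by omega]

/-- the next group of the chain is a stabiliser -/
theorem mem_next (hS : Sem d gen enc) (hC : Checked d) {j : ℕ} (hj : j < d.k) [Finite (K d gen (j + 1))]
    {g : G} (hg : g ∈ K d gen j) (hnd : d.nd j (enc g) = d.off j) : g ∈ K d gen (j + 1) := by
  obtain ⟨h, hh, c, hc, rfl⟩ := cover hS hC hj g hg
  rw [nd_rep hS hC hj hc hh] at hnd
  subst hnd
  rw [rep_root (root_par hS hC hj), mul_one]
  exact hh

/-- the transversal reaches every node -/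
theorem exists_of_node (hS : Sem d gen enc) (hC : Checked d) {j : ℕ} (hj : j < d.k) {c : ℕ} (hc : InLevel d j c) :
    ∃ g ∈ K d gen j, d.nd j (enc g) = c := by
  refine ⟨rep d gen c, rep_mem hS hC hj c hc, ?_⟩
  rw [← V_eq hS hC hj c hc]
  exact (nodeOK_spec hS (levelOK_spec (hC.levels j hj) hc).1).1

end

end Cfsg.Agent.Lib.PChain
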