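import Cfsg.Agent.Lib.PMaxClass3

set_option autoImplicit false
set_option linter.unusedSectionVars false
set_option linter.unusedVariables false
set_option linter.style.haveILetI false

/-! Taussky's criterion. -/

namespace Cfsg.Agent.Lib.PMaxClass

open Subgroup Cfsg Cfsg.Agent.Lib.PGrp
open scoped commutatorElement IsMulCommutative

universe u

/-- A `p`-group with cyclic abelianization is cyclic. -/
theorem isCyclic_of_cyclic_abelianization {X : Type*} [Group X] [Finite X] {p : ℕ} [hp : Fact p.Prime] (hP : IsPGroup p X)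
    (h : IsCyclic (X ⧸ commutator X)) : IsCyclic X := by
  obtain ⟨q, hq⟩ := h.exists_generator
  obtain ⟨g, rfl⟩ := QuotientGroup.mk'_surjective (commutator X) q
  have htop : zpowers g = ⊤ := by
    by_contra hne
    obtain ⟨M, hM, hgM⟩ := (eq_top_or_exists_le_coatom (zpowers g)).resolve_left hne
    obtain ⟨-, -, hcM⟩ := coatom_index_of_isPGroup hP hM
    apply hM.1
    rw [eq_top_iff]
    intro x _
    have h1 := hq (QuotientGroup.mk' (commutator X) x)
    obtain ⟨k, hk⟩ := mem_zpowers_iff.1 h1
    rw [← map_zpow] at hk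
    have h2 := QuotientGroup.eq.1 hk
    have h3 : x = g ^ k * ((g ^ k)⁻¹ * x) := by group
    rw [h3]
    exact mul_mem (hgM (zpow_mem (mem_zpowers g) k)) (hcM h2)
  refine ⟨g, fun x => ?_⟩
  have : x ∈ zpowers g := by
    rw [htop]
    exact mem_top x
  exact this

section

variable {X : Type u} [Group X] [Finite X]

/-- Index and exponent of the abelianization in terms of `Klein`. -/
theorem isKleinFour_iff : IsKleinFour (X ⧸ commutator X) ↔ (commutator X).index = 4 ∧ ∀ g : X, g ^ 2 ∈ commutator X := by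
  constructor
  · intro h
    refine ⟨h.card_four, fun g => ?_⟩
    rw [← QuotientGroup.eq_one_iff, QuotientGroup.mk_pow]
    have := Monoid.pow_exponent_eq_one (g : X ⧸ commutator X)
    rwa [h.exponent_two] at this
  · rintro ⟨h1, h2⟩
    refine ⟨h1, ?_⟩
    have hsq : ∀ q : X ⧸ commutator X, q ^ 2 = 1 := by
      intro q
      obtain ⟨g, rfl⟩ := QuotientGroup.mk'_surjective (commutator X) q
      rw [← map_pow, QuotientGroup.mk'_apply, QuotientGroup.eq_one_iff]
      exact h2 g
    have hd : Monoid.exponent (X ⧸ commutator X) ∣ 2 := Monoid.exponent_dvd_of_forall_pow_eq_one hsq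
    rcases (Nat.dvd_prime Nat.prime_two).1 hd with h3 | h3
    · exfalso
      have h4 : Subsingleton (X ⧸ commutator X) := Monoid.exp_eq_one_iff.1 h3
      have h5 : Nat.card (X ⧸ commutator X) = 1 := Nat.card_unique
      have h6 : (commutator X).index = Nat.card (X ⧸ commutator X) := rfl
      omega
    · exact h3

/-- Forward direction of S0115. -/
theorem klein_of_maxClass (n : ℕ) (hn : 3 ≤ n) (hX : Nat.card X = 2 ^ n) (hc : Group.nilpotencyClass X = n - 1) :
    (commutator X).index = 4 ∧ ∀ g : X, g ^ 2 ∈ commutator X := by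
  haveI hp2 : Fact (Nat.Prime 2) := ⟨Nat.prime_two⟩
  obtain ⟨C, hCc, hCi⟩ := exists_cyclic_index_two n X hn hX hc
  have hnc := not_comm_of_class hn hX hc
  have hP : IsPGroup 2 X := IsPGroup.of_card hX
  have hZ : Nat.card (center X) = 2 := card_center_of_maxClass n hn hX hc
  have hab : ∀ a ∈ C, ∀ b ∈ C, a * b = b * a := by
    haveI := hCc
    have : IsMulCommutative C := IsCyclic.isMulCommutative
    exact fun a ha b hb => comm_of_isMulComm this ha hb
  obtain ⟨t, ht⟩ := exists_not_mem_of_index_two hCi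
  have h1 := commutator_card_of_abelian_index_two hCi hab ht
  rw [inf_centralizer_eq_center hCi hab hnc ht, hZ] at h1
  have h2 := Subgroup.card_mul_index C
  rw [hCi, hX, ← h1] at h2
  have h3 := Subgroup.card_mul_index (commutator X)
  rw [hX] at h3
  have hidx : (commutator X).index = 4 := by
    have hpos : 0 < Nat.card (commutator X) := Nat.card_pos
    apply Nat.eq_of_mul_eq_mul_left hpos
    rw [h3, ← h2]
    ring
  refine ⟨hidx, fun g => ?_⟩
  have hcq : Nat.card (X ⧸ commutator X) = 2 ^ 2 := hidx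
  have hnc2 : ¬ IsCyclic (X ⧸ commutator X) := by
    intro hcyc
    have := isCyclic_of_cyclic_abelianization hP hcyc
    have h4 : IsMulCommutative X := IsCyclic.isMulCommutative
    exact hnc h4.is_comm.comm
  rw [← QuotientGroup.eq_one_iff, QuotientGroup.mk_pow]
  have h5 : orderOf (g : X ⧸ commutator X) ∣ 2 ^ 2 := hcq ▸ orderOf_dvd_natCard _
  obtain ⟨j, hj, hoj⟩ := (Nat.dvd_prime_pow Nat.prime_two).1 h5
  have hj2 : j ≠ 2 := by
    rintro rfl
    apply hnc2
    exact isCyclic_of_orderOf_eq_card _ (by rw [hoj, hcq])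
  have h6 : orderOf (g : X ⧸ commutator X) ∣ 2 := by
    rw [hoj]
    have : j ≤ 1 := by omega
    exact (pow_dvd_pow 2 this).trans (by norm_num)
  exact orderOf_dvd_iff_pow_eq_one.1 h6

/-- The preimage of a cyclic subgroup under a central quotient is abelian. -/
theorem comap_cyclic_abelian (N : Subgroup X) [N.Normal] (hN : N ≤ center X) (Cb : Subgroup (X ⧸ N)) (hCb : IsCyclic Cb) :
    ∀ a ∈ Cb.comap (QuotientGroup.mk' N), ∀ b ∈ Cb.comap (QuotientGroup.mk' N), a * b = b * a := by
  obtain ⟨⟨ub, hub⟩, hgen⟩ := hCb.exists_generator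
  obtain ⟨u, rfl⟩ := QuotientGroup.mk'_surjective N ub
  have hform : ∀ c ∈ Cb.comap (QuotientGroup.mk' N), ∃ i : ℕ, ∃ y ∈ N, c = u ^ i * y := by
    intro c hc'
    have h1 := hgen ⟨QuotientGroup.mk' N c, hc'⟩
    rw [← mem_powers_iff_mem_zpowers] at h1
    obtain ⟨i, hi⟩ := h1
    have h2 : QuotientGroup.mk' N u ^ i = QuotientGroup.mk' N c := congrArg Subtype.val hi
    refine ⟨i, (u ^ i)⁻¹ * c, ?_, by group⟩
    rw [← map_pow] at h2
    exact QuotientGroup.eq.1 h2
  have hZcen : ∀ y ∈ N, ∀ x : X, y * x = x * y := fun y hy x => ((mem_center_iff.1 (hN hy)) x).symm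
  intro a ha b hb
  obtain ⟨i, y, hy, rfl⟩ := hform a ha
  obtain ⟨j, y', hy', rfl⟩ := hform b hb
  have h1 : Commute (u ^ i) (u ^ j) := (Commute.refl u).pow_pow i j
  have h2 : Commute y (u ^ j) := hZcen y hy _
  have h3 : Commute y' (u ^ i) := hZcen y' hy' _
  have h4 : Commute y y' := hZcen y hy _
  exact ((h1.mul_right h3.symm).mul_left (h2.mul_right h4)).eq

end

/-- Backward direction of S0115. -/
theorem maxClass_of_klein : ∀ (n : ℕ) (X : Type u) [Group X] [Finite X], 3 ≤ n → Nat.card X = 2 ^ n →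
    (commutator X).index = 4 → (∀ g : X, g ^ 2 ∈ commutator X) → Group.nilpotencyClass X = n - 1 := by
  intro n
  induction n with
  | zero => intro X _ _ h; omega
  | succ n ih =>
    intro X _ _ hn hX hidx hsq
    haveI hp2 : Fact (Nat.Prime 2) := ⟨Nat.prime_two⟩
    have hP : IsPGroup 2 X := IsPGroup.of_card hX
    haveI : Group.IsNilpotent X := hP.isNilpotent
    haveI : Nontrivial X := by
      rw [← Finite.one_lt_card_iff_nontrivial, hX]
      exact Nat.one_lt_pow (by omega) (by norm_num)
    have hcardX' : Nat.card (commutator X) = 2 ^ (n - 1) := by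
      have h1 := Subgroup.card_mul_index (commutator X)
      rw [hidx, hX] at h1
      have h2 : 2 ^ (n + 1) = 2 ^ (n - 1) * 4 := by
        rw [show (4 : ℕ) = 2 ^ 2 by norm_num, ← pow_add]
        congr 1
        omega
      rw [h2] at h1
      exact Nat.eq_of_mul_eq_mul_right (by norm_num) h1
    have hX'ne : commutator X ≠ ⊥ := by
      intro h
      rw [h, Subgroup.card_bot] at hcardX'
      have : 1 < 2 ^ (n - 1) := Nat.one_lt_pow (by omega) (by norm_num)
      omega
    have hnc : ¬ ∀ a b : X, a * b = b * a := by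
      intro hc
      apply hX'ne
      rw [_root_.commutator_def, eq_bot_iff, commutator_le]
      intro a _ b _
      rw [mem_bot, commutatorElement_eq_one_iff_mul_comm]
      exact hc a b
    rcases Nat.lt_or_ge n 3 with hn3 | hn3
    · have hn' : n = 2 := by omega
      subst hn'
      have h1 : Group.nilpotencyClass X ≤ 1 + 1 := class_le (p := 2) 1 X hX
      have h2 : ¬ Group.nilpotencyClass X ≤ 1 := by
        intro h
        have h3 := Group.IsNilpotent.nilpotencyClass_le_one_iff.1 h
        exact hnc h3.is_comm.comm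
      omega
    have hne := Cfsg.Agent.Lib.H1Frat.normal_inf_center_ne_bot (commutator X) hX'ne
    obtain ⟨z, hz, hz1, hz2⟩ := exists_pow_eq_one_of_ne_bot hP _ hne
    obtain ⟨hzX', hzc⟩ := mem_inf.1 hz
    obtain ⟨N, hNdef⟩ : ∃ N : Subgroup X, N = zpowers z := ⟨_, rfl⟩
    have hNc : N ≤ center X := by rw [hNdef]; exact zpowers_le.2 hzc
    have hNX' : N ≤ commutator X := by rw [hNdef]; exact zpowers_le.2 hzX'
    have hNcard : Nat.card N = 2 := by
      rw [hNdef, Nat.card_zpowers]
      exact orderOf_eq_prime hz2 hz1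
    haveI hNn : N.Normal := by rw [hNdef]; exact zpowers_normal_of_mem_center hzc
    have hcardQ : Nat.card (X ⧸ N) = 2 ^ n := by
      have h1 := Subgroup.card_mul_index N
      rw [hNcard, hX, pow_succ'] at h1
      exact Nat.eq_of_mul_eq_mul_left (by norm_num) h1
    have hcommQ : commutator (X ⧸ N) = (commutator X).map (QuotientGroup.mk' N) := by
      rw [_root_.commutator_def, _root_.commutator_def, Subgroup.map_commutator,
        ← MonoidHom.range_eq_map, MonoidHom.range_eq_top.2 (QuotientGroup.mk'_surjective N)]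
    have hidxQ : (commutator (X ⧸ N)).index = 4 := by
      rw [hcommQ, Subgroup.index_map, QuotientGroup.ker_mk', sup_eq_left.2 hNX',
        MonoidHom.range_eq_top.2 (QuotientGroup.mk'_surjective _), Subgroup.index_top, mul_one, hidx]
    have hsqQ : ∀ q : X ⧸ N, q ^ 2 ∈ commutator (X ⧸ N) := by
      intro q
      obtain ⟨g, rfl⟩ := QuotientGroup.mk'_surjective N q
      rw [hcommQ, ← map_pow]
      exact mem_map_of_mem _ (hsq g)
    have hclassQ := ih (X ⧸ N) hn3 hcardQ hidxQ hsqQ
    obtain ⟨Cb, hCb, hCbi⟩ := exists_cyclic_index_two n (X ⧸ N) hn3 hcardQ hclassQ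
    let C : Subgroup X := Cb.comap (QuotientGroup.mk' N)
    have hCi : C.index = 2 := by
      rw [← hCbi]
      exact Subgroup.index_comap_of_surjective _ (QuotientGroup.mk'_surjective N)
    have hab : ∀ a ∈ C, ∀ b ∈ C, a * b = b * a := comap_cyclic_abelian N hNc Cb hCb
    obtain ⟨t, ht⟩ := exists_not_mem_of_index_two hCi
    have h1 := commutator_card_of_abelian_index_two hCi hab ht
    rw [inf_centralizer_eq_center hCi hab hnc ht, hcardX'] at h1
    have h2 := Subgroup.card_mul_index C
    rw [hCi, hX, ← h1] at h2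
    have hZ : Nat.card (center X) = 2 := by
      have h3 : 2 ^ (n + 1) = 2 ^ (n - 1) * 2 * 2 := by
        rw [mul_assoc, show (2 * 2 : ℕ) = 2 ^ 2 by norm_num, ← pow_add]
        congr 1
        omega
      rw [h3] at h2
      have h4 : 2 ^ (n - 1) * Nat.card (center X) * 2 = 2 ^ (n - 1) * 2 * 2 := h2
      have h5 := Nat.eq_of_mul_eq_mul_right (by norm_num) h4
      exact Nat.eq_of_mul_eq_mul_left (by positivity) h5
    have hNeq : N = center X := Subgroup.eq_of_le_of_card_ge hNc (by rw [hZ, hNcard])
    subst hNeq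
    rw [Group.nilpotencyClass_eq_quotient_center_plus_one, hclassQ]
    omega

/-- S0115. -/
theorem maxClass_iff_klein {X : Type u} [Group X] [Finite X] (n : ℕ) (hn : 3 ≤ n) (hX : Nat.card X = 2 ^ n) :
    Group.nilpotencyClass X = n - 1 ↔ IsKleinFour (X ⧸ commutator X) := by
  rw [isKleinFour_iff]
  exact ⟨fun h => klein_of_maxClass n hn hX h, fun h => maxClass_of_klein n X hn hX h.1 h.2⟩

end Cfsg.Agent.Lib.PMaxClass
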