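import Cfsg.Agent.Lib.PSolv

/-! A Sylow `p`-subgroup normalizes a Sylow `q`-subgroup iff `q ∤ [G : O_{p'}(G)]`. -/

set_option autoImplicit false

namespace Cfsg.Agent.Lib.PNorm

open Subgroup Cfsg Cfsg.Agent.Lib Cfsg.Agent.Lib.PSolv Cfsg.Agent.Lib.H1Core
open scoped Pointwise

universe u

theorem s4602 {G : Type u} [Group G] [Finite G] (p q : ℕ) [hp : Fact p.Prime] [hq : Fact q.Prime]
    (hpq : p ≠ q) (hsolv : IsPSolvable p G) :
    (∃ (P : Sylow p G) (Q : Sylow q G),
      (P : Subgroup G) ≤ normalizer ((Q : Subgroup G) : Set G)) ↔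
      ¬ q ∣ (pPrimeCore p G).index := by
  classical
  set K := pPrimeCore p G with hK
  haveI hKn : K.Normal := pPrimeCore_normal p G
  constructor
  · rintro ⟨P, Q, hPQ⟩ hdvd
    let π : G →* G ⧸ K := QuotientGroup.mk' K
    have hπ : Function.Surjective π := QuotientGroup.mk'_surjective K
    have hs : IsPSolvable p (G ⧸ K) := isPSolvable_of_surjective π hπ hsolv
    have hO : pPrimeCore p (G ⧸ K) = ⊥ := PJ.pPrimeCore_quot
    have hC := centralizer_le_of_isPSolvable hO (isPSolvable_subgroup hs _)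
    set U := pCore p (G ⧸ K) with hU
    haveI hUn : U.Normal := pCore_normal p _
    have hUP : IsPGroup p U := pCore_isPGroup p
    let Pb : Sylow p (G ⧸ K) := P.mapSurjective hπ
    have hUle : U ≤ (P : Subgroup G).map π := pCore_le_sylow p Pb
    have hQq : IsPGroup q ((Q : Subgroup G).map π) := Q.2.map π
    have hinter : ∀ y, y ∈ U → y ∈ (Q : Subgroup G).map π → y = 1 := by
      intro y h1 h2
      obtain ⟨a, ha⟩ := hUP ⟨y, h1⟩
      obtain ⟨b, hb⟩ := hQq ⟨y, h2⟩
      have h3 : y ^ p ^ a = 1 := by simpa using congrArg Subtype.val ha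
      have h4 : y ^ q ^ b = 1 := by simpa using congrArg Subtype.val hb
      have h5 := orderOf_dvd_of_pow_eq_one h3
      have h6 := orderOf_dvd_of_pow_eq_one h4
      have h7 : Nat.Coprime (p ^ a) (q ^ b) :=
        Nat.Coprime.pow _ _ ((Nat.coprime_primes hp.out hq.out).mpr hpq)
      exact orderOf_eq_one_iff.mp (Nat.eq_one_of_dvd_coprimes h7 h5 h6)
    have hQK : (Q : Subgroup G) ≤ K := by
      intro w hw
      have hy : π w ∈ centralizer (U : Set (G ⧸ K)) := by
        rw [mem_centralizer_iff]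
        intro u hu
        have hu' := hUle hu
        obtain ⟨x, hx, rfl⟩ := hu'
        have hn : x * w * x⁻¹ ∈ (Q : Subgroup G) := (mem_normalizer_iff.mp (hPQ hx) w).mp hw
        have h1 : π x * π w * (π x)⁻¹ * (π w)⁻¹ ∈ U := by
          have h2 : π w * (π x)⁻¹ * (π w)⁻¹ ∈ U := hUn.conj_mem _ (U.inv_mem hu) _
          have h3 : π x * π w * (π x)⁻¹ * (π w)⁻¹ = π x * (π w * (π x)⁻¹ * (π w)⁻¹) := by group
          rw [h3]
          exact U.mul_mem hu h2
        have h2 : π x * π w * (π x)⁻¹ * (π w)⁻¹ ∈ (Q : Subgroup G).map π :=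
          ⟨x * w * x⁻¹ * w⁻¹, (Q : Subgroup G).mul_mem hn ((Q : Subgroup G).inv_mem hw), by simp⟩
        have h3 := hinter _ h1 h2
        have h4 : π x * π w = π w * π x := by
          have h5 : π x * π w * (π x)⁻¹ = π w := mul_inv_eq_one.mp h3
          calc π x * π w = π x * π w * (π x)⁻¹ * π x := by group
            _ = π w * π x := by rw [h5]
        exact h4
      have hyU := hC hy
      have h1 := hinter _ hyU ⟨w, hw, rfl⟩
      exact (QuotientGroup.eq_one_iff w).mp h1
    exact Q.not_dvd_index (hdvd.trans (Subgroup.index_dvd_of_le hQK))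
  · intro hnd
    obtain ⟨P⟩ : Nonempty (Sylow p G) := inferInstance
    letI : MulDistribMulAction (P : Subgroup G) K :=
      MulDistribMulAction.compHom K
        ((MulAut.conjNormal : G →* MulAut K).comp (P : Subgroup G).subtype)
    have hact : ∀ (x : (P : Subgroup G)) (y : K), ((x • y : K) : G) = (x : G) * y * (x : G)⁻¹ :=
      fun x y => MulAut.conjNormal_apply (x : G) y
    have hcop : (Nat.card K).Coprime p := pPrimeCore_coprime p
    have hcardS : ¬ p ∣ Nat.card (Sylow q K) := by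
      intro h
      obtain ⟨R₀⟩ : Nonempty (Sylow q K) := inferInstance
      have h1 : Nat.card (Sylow q K) ∣ (R₀ : Subgroup K).index := R₀.card_dvd_index
      have h2 : (R₀ : Subgroup K).index ∣ Nat.card K := Subgroup.index_dvd_card _
      have h3 := h.trans (h1.trans h2)
      exact hp.out.one_lt.ne' (Nat.Coprime.eq_one_of_dvd hcop.symm h3)
    obtain ⟨R, hR⟩ := P.2.nonempty_fixed_point_of_prime_not_dvd_card (Sylow q K) hcardS
    let Q₀ : Subgroup G := (R : Subgroup K).map K.subtype
    have hQ₀q : IsPGroup q Q₀ := R.2.map _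
    have hQ₀i : ¬ q ∣ Q₀.index := by
      rw [Subgroup.index_map_subtype, hq.out.dvd_mul]
      rintro (h | h)
      · exact R.not_dvd_index h
      · exact hnd h
    have hconj : ∀ x ∈ (P : Subgroup G), ∀ z ∈ Q₀, x * z * x⁻¹ ∈ Q₀ := by
      rintro x hx _ ⟨y, hy, rfl⟩
      have h1 : ((⟨x, hx⟩ : (P : Subgroup G)) • y : K) ∈ (R : Subgroup K) := by
        have h2 : (⟨x, hx⟩ : (P : Subgroup G)) • R = R := hR ⟨x, hx⟩
        have h3 : ((⟨x, hx⟩ : (P : Subgroup G)) • y : K) ∈
            ((⟨x, hx⟩ : (P : Subgroup G)) • (R : Subgroup K)) :=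
          Subgroup.smul_mem_pointwise_smul _ _ _ hy
        have h4 : (⟨x, hx⟩ : (P : Subgroup G)) • (R : Subgroup K) = (R : Subgroup K) := by
          have := congrArg (fun S : Sylow q K => (S : Subgroup K)) h2
          exact this
        rwa [h4] at h3
      exact ⟨_, h1, hact ⟨x, hx⟩ y⟩
    refine ⟨P, hQ₀q.toSylow hQ₀i, ?_⟩
    intro x hx
    rw [mem_normalizer_iff]
    intro z
    show z ∈ Q₀ ↔ x * z * x⁻¹ ∈ Q₀
    constructor
    · exact hconj x hx z
    · intro h
      have := hconj x⁻¹ ((P : Subgroup G).inv_mem hx) _ h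
      simpa [mul_assoc] using this

end Cfsg.Agent.Lib.PNorm
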