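import Cfsg.Agent.Lib.PNorm
import Cfsg.Agent.Lib.BlockE6

/-! No `q`-element with class size divisible by `p`: a Sylow `p` normalizes a Sylow `q`. -/

set_option autoImplicit false

namespace Cfsg.Agent.Lib.PNorm

open Subgroup Cfsg Cfsg.Agent.Lib Cfsg.Agent.Lib.PSolv Cfsg.Agent.Lib.H1Core
open scoped Pointwise

universe u

section aux
variable {G : Type u} [Group G] [Finite G]

theorem card_of_le {H K : Subgroup G} (h : H ≤ K) : H.relIndex K * Nat.card H = Nat.card K := by
  have := Subgroup.relIndex_mul_relIndex (⊥ : Subgroup G) H K bot_le h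
  rw [Subgroup.relIndex_bot_left, Subgroup.relIndex_bot_left] at this
  rw [← this, mul_comm]

theorem relIndex_dvd_index' (C N : Subgroup G) [hN : N.Normal] : C.relIndex N ∣ C.index := by
  have h1 : C.relIndex (C ⊔ N) * (C ⊔ N).relIndex ⊤ = C.relIndex ⊤ :=
    Subgroup.relIndex_mul_relIndex _ _ _ le_sup_left le_top
  rw [Subgroup.relIndex_top_right, Subgroup.relIndex_top_right] at h1
  have h2 : C.relIndex (C ⊔ N) = C.relIndex N := by
    have a1 : N.relIndex (C ⊔ N) = N.relIndex C := Subgroup.relIndex_sup_right C N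
    have a2 := card_of_le (H := N) (K := C ⊔ N) le_sup_right
    have a3 : (N ⊓ C).relIndex C * Nat.card ↥(N ⊓ C) = Nat.card C := card_of_le inf_le_right
    rw [Subgroup.inf_relIndex_right] at a3
    have a4 := card_of_le (H := C) (K := C ⊔ N) le_sup_left
    have a5 : (C ⊓ N).relIndex N * Nat.card ↥(C ⊓ N) = Nat.card N := card_of_le inf_le_right
    rw [Subgroup.inf_relIndex_right] at a5
    rw [a1] at a2
    rw [inf_comm] at a3
    have hd : 0 < Nat.card ↥(C ⊓ N) := Nat.card_pos
    have hc : 0 < Nat.card C := Nat.card_pos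
    have hr : 0 < N.relIndex C := by
      apply Nat.pos_of_ne_zero
      intro h0
      rw [h0, zero_mul] at a3
      omega
    -- `r c = ...`
    apply Nat.eq_of_mul_eq_mul_right hc
    apply Nat.eq_of_mul_eq_mul_left hr
    calc N.relIndex C * (C.relIndex (C ⊔ N) * Nat.card C)
        = N.relIndex C * Nat.card ↥(C ⊔ N) := by rw [a4]
      _ = N.relIndex C * (N.relIndex C * Nat.card N) := by rw [a2]
      _ = N.relIndex C * (N.relIndex C * (C.relIndex N * Nat.card ↥(C ⊓ N))) := by rw [a5]
      _ = N.relIndex C * (C.relIndex N * (N.relIndex C * Nat.card ↥(C ⊓ N))) := by ring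
      _ = N.relIndex C * (C.relIndex N * Nat.card C) := by rw [a3]
  rw [← h1, h2]
  exact dvd_mul_right _ _

theorem lift_q_element {X : Type u} [Group X] (π : G →* X) (hπ : Function.Surjective π) {q : ℕ}
    (hq : q.Prime) (z : X) (hz : ∃ k, orderOf z = q ^ k) :
    ∃ y, π y = z ∧ ∃ k, orderOf y = q ^ k := by
  obtain ⟨g, rfl⟩ := hπ z
  obtain ⟨k, hk⟩ := hz
  have hg0 : orderOf g ≠ 0 := (orderOf_pos g).ne'
  obtain ⟨a, b, hb, hab⟩ := Nat.exists_eq_pow_mul_and_not_dvd hg0 q hq.ne_one
  have hcop : b.Coprime (orderOf (π g)) := by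
    rw [hk]
    exact Nat.Coprime.pow_right _ ((Nat.Prime.coprime_iff_not_dvd hq).mpr hb).symm
  obtain ⟨s, hs⟩ := exists_pow_eq_self_of_coprime hcop
  refine ⟨(g ^ b) ^ s, by rw [map_pow, map_pow, hs], ?_⟩
  have h1 : ((g ^ b) ^ s) ^ (q ^ a) = 1 := by
    have h2 : b * s * q ^ a = orderOf g * s := by rw [hab]; ring
    rw [← pow_mul, ← pow_mul, ← mul_assoc, h2, pow_mul, pow_orderOf_eq_one, one_pow]
  obtain ⟨j, -, hj⟩ := (Nat.dvd_prime_pow hq).mp (orderOf_dvd_of_pow_eq_one h1)
  exact ⟨j, hj⟩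

theorem index_centralizer_map_dvd {X : Type u} [Group X] (π : G →* X) (hπ : Function.Surjective π)
    (y : G) : (centralizer ({π y} : Set X)).index ∣ (centralizer ({y} : Set G)).index := by
  have h1 : (centralizer ({y} : Set G)).map π ≤ centralizer ({π y} : Set X) := by
    rintro _ ⟨c, hc, rfl⟩
    have hc' : c ∈ centralizer ({y} : Set G) := hc
    rw [mem_centralizer_singleton_iff] at hc' ⊢
    rw [← map_mul, hc', map_mul]
  exact (Subgroup.index_dvd_of_le h1).trans (Subgroup.index_map_dvd _ hπ)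

theorem mem_of_coprime_index {H : Type u} [Group H] [Finite H] (C : Subgroup H) [C.Normal] (y : H)
    (hc : C.index.Coprime (orderOf y)) : y ∈ C := by
  obtain ⟨m, hm⟩ := exists_pow_eq_self_of_coprime hc
  rw [← hm]
  exact C.pow_mem (Subgroup.pow_index_mem C y) m

variable {p q : ℕ} [hp : Fact p.Prime] [hq : Fact q.Prime]

theorem exists_sylow_of_index (C : Subgroup G) (hC : ¬ p ∣ C.index) :
    ∃ P : Sylow p G, (P : Subgroup G) ≤ C := by
  obtain ⟨R₀⟩ : Nonempty (Sylow p C) := inferInstance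
  have h1 : IsPGroup p ((R₀ : Subgroup C).map C.subtype) := R₀.2.map _
  have h2 : ¬ p ∣ ((R₀ : Subgroup C).map C.subtype).index := by
    rw [Subgroup.index_map_subtype, hp.out.dvd_mul]
    rintro (h | h)
    · exact R₀.not_dvd_index h
    · exact hC h
  refine ⟨h1.toSylow h2, ?_⟩
  rw [IsPGroup.toSylow_coe]
  exact Subgroup.map_subtype_le _

theorem exists_sylow_in_centralizer (N : Subgroup G) [hN : N.Normal] (y : G)
    (hy : ¬ p ∣ (centralizer ({y} : Set G)).index) :
    ∃ T : Sylow p N, ∀ t ∈ (T : Subgroup N), (t : G) * y = y * t := by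
  set C := centralizer ({y} : Set G) with hC
  have h0 : ¬ p ∣ C.relIndex N := fun h => hy (h.trans (relIndex_dvd_index' C N))
  obtain ⟨T, hT⟩ := exists_sylow_of_index (p := p) (G := N) (C.subgroupOf N) h0
  refine ⟨T, fun t ht => ?_⟩
  have h1 : (t : G) ∈ C := Subgroup.mem_subgroupOf.mp (hT ht)
  rw [hC, mem_centralizer_singleton_iff] at h1
  exact h1

/-- The conjugacy step: a `q`-element normalizing a Sylow `p`-subgroup of a normal `q'`-subgroup
and centralizing another one centralizes the first. -/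
theorem centralizes_of_invariant (N : Subgroup G) [hN : N.Normal] (hNq : (Nat.card N).Coprime q)
    (y : G) (hyq : ∃ k, orderOf y = q ^ k) (hy : ¬ p ∣ (centralizer ({y} : Set G)).index)
    (S : Sylow p N) (hS : y ∈ normalizer (((S : Subgroup N).map N.subtype : Subgroup G) : Set G))
    (z : G) (hz : z ∈ (S : Subgroup N).map N.subtype) : z * y = y * z := by
  classical
  obtain ⟨T, hT⟩ := exists_sylow_in_centralizer (p := p) N y hy
  obtain ⟨n, hn⟩ := MulAction.exists_smul_eq N T S
  set St := (S : Subgroup N).map N.subtype with hSt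
  set y' : G := (n : G) * y * (n : G)⁻¹ with hy'
  have hy'c : ∀ w ∈ St, w * y' = y' * w := by
    rintro _ ⟨s, hs, rfl⟩
    have h1 : s ∈ ((n • T : Sylow p N) : Subgroup N) := by rw [hn]; exact hs
    have h2 : n⁻¹ * s * n ∈ (T : Subgroup N) := by
      rw [Sylow.coe_subgroup_smul, Subgroup.mem_pointwise_smul_iff_inv_smul_mem] at h1
      have h3 : (MulAut.conj n)⁻¹ • s = n⁻¹ * s * n := by
        rw [MulAut.smul_def]; simp [MulAut.conj_apply]
      rwa [h3] at h1
    have h3 := hT _ h2
    simp only [Subgroup.coe_mul, Subgroup.coe_inv, Subgroup.coe_subtype] at h3 ⊢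
    have h4 : (s : G) = (n : G) * ((n : G)⁻¹ * s * n) * (n : G)⁻¹ := by group
    calc (s : G) * y' = (n : G) * ((n : G)⁻¹ * s * n * y) * (n : G)⁻¹ := by rw [hy']; group
      _ = (n : G) * (y * ((n : G)⁻¹ * s * n)) * (n : G)⁻¹ := by rw [h3]
      _ = y' * s := by rw [hy']; group
  let A : Subgroup G := normalizer (St : Set G) ⊓ (zpowers y ⊔ N)
  have hyA : y ∈ A := ⟨hS, Subgroup.mem_sup_left (Subgroup.mem_zpowers y)⟩
  have hy'A : y' ∈ A := by
    refine Subgroup.mem_inf.mpr ⟨?_, ?_⟩
    · rw [mem_normalizer_iff]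
      intro w
      show w ∈ St ↔ y' * w * y'⁻¹ ∈ St
      constructor
      · intro hw
        rw [← hy'c w hw]
        simpa using hw
      · intro hw
        have h5 : y' * w * y'⁻¹ = w := by
          have h6 : y' * w * y'⁻¹ * y' = y' * (y' * w * y'⁻¹) := hy'c _ hw
          have h7 : y' * w = y' * (y' * w * y'⁻¹) := by
            simpa [mul_assoc] using h6
          exact (mul_left_cancel h7).symm
        rwa [h5] at hw
    · have h1 : (n : G) ∈ zpowers y ⊔ N := Subgroup.mem_sup_right n.2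
      have h2 : y ∈ zpowers y ⊔ N := Subgroup.mem_sup_left (Subgroup.mem_zpowers y)
      exact (zpowers y ⊔ N).mul_mem ((zpowers y ⊔ N).mul_mem h1 h2) ((zpowers y ⊔ N).inv_mem h1)
  let C : Subgroup A := (centralizer (St : Set G)).subgroupOf A
  haveI hCn : C.Normal := by
    constructor
    intro c hc a
    have hc' : (c : G) ∈ centralizer (St : Set G) := Subgroup.mem_subgroupOf.mp hc
    rw [Subgroup.mem_subgroupOf, mem_centralizer_iff]
    intro w hw
    have ha : (a : G) ∈ normalizer (St : Set G) := a.2.1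
    have hw1 : (a : G)⁻¹ * w * a ∈ St := by
      have := (mem_normalizer_iff.mp ((normalizer (St : Set G)).inv_mem ha) w).mp hw
      simpa using this
    have hw2 := (mem_centralizer_iff.mp hc') _ hw1
    simp only [Subgroup.coe_mul, MulMemClass.coe_mul, InvMemClass.coe_inv]
    calc w * ((a : G) * c * (a : G)⁻¹)
        = (a : G) * (((a : G)⁻¹ * w * a) * c) * (a : G)⁻¹ := by group
      _ = (a : G) * (c * ((a : G)⁻¹ * w * a)) * (a : G)⁻¹ := by rw [hw2]
      _ = (a : G) * c * (a : G)⁻¹ * w := by group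
  have hmem : (⟨y, hyA⟩ : A) ∈ C := by
    apply mem_of_coprime_index
    rw [Subgroup.orderOf_mk]
    obtain ⟨k, hk⟩ := hyq
    rw [hk]
    have hord' : orderOf y' = q ^ k := by
      rw [hy', ← hk]
      have := (MulAut.conj (n : G)).toMonoidHom
      exact orderOf_injective (MulAut.conj (n : G)).toMonoidHom (MulAut.conj (n : G)).injective y
    have hdiv : q ^ k ∣ Nat.card C := by
      have h1 : (⟨y', hy'A⟩ : A) ∈ C := by
        rw [Subgroup.mem_subgroupOf, mem_centralizer_iff]
        intro w hw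
        exact hy'c w hw
      have h2 := Subgroup.orderOf_dvd_natCard C h1
      rwa [Subgroup.orderOf_mk, hord'] at h2
    have hcardA : Nat.card A ∣ q ^ k * Nat.card N := by
      have h1 : Nat.card A ∣ Nat.card (zpowers y ⊔ N : Subgroup G) :=
        Subgroup.card_dvd_of_le inf_le_right
      have h2 := card_sup_dvd_mul (zpowers y) N
      rw [Nat.card_zpowers, hk] at h2
      exact h1.trans h2
    have hidx := Subgroup.index_mul_card C
    obtain ⟨c, hc⟩ := hdiv
    rw [hc] at hidx
    rw [← hidx] at hcardA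
    have h3 : C.index * c ∣ Nat.card N := by
      have h4 : q ^ k * (C.index * c) ∣ q ^ k * Nat.card N := by
        have : C.index * (q ^ k * c) = q ^ k * (C.index * c) := by ring
        rwa [this] at hcardA
      exact (Nat.mul_dvd_mul_iff_left (pow_pos hq.out.pos k)).mp h4
    have h4 : C.index ∣ Nat.card N := (dvd_mul_right _ _).trans h3
    exact Nat.Coprime.pow_right _ (Nat.Coprime.coprime_dvd_left h4 hNq)
  have hc' : y ∈ centralizer (St : Set G) := Subgroup.mem_subgroupOf.mp hmem
  exact (mem_centralizer_iff.mp hc') z hz ▸ rfl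

theorem s4601_q_aux (hpq : p ≠ q) : ∀ (n : ℕ) (G : Type u) [Group G] [Finite G], Nat.card G = n →
    IsPSolvable q G →
    (∀ y : G, (∃ k : ℕ, orderOf y = q ^ k) → ¬ p ∣ (centralizer ({y} : Set G)).index) →
    ∃ (P : Sylow p G) (Q : Sylow q G), (P : Subgroup G) ≤ normalizer ((Q : Subgroup G) : Set G) := by
  intro n
  induction n using Nat.strong_induction_on with
  | _ n ih =>
  intro G _ _ hn hs h
  classical
  by_cases hG : Nontrivial G
  swap
  · rw [not_nontrivial_iff_subsingleton] at hG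
    obtain ⟨P⟩ : Nonempty (Sylow p G) := inferInstance
    obtain ⟨Q⟩ : Nonempty (Sylow q G) := inferInstance
    refine ⟨P, Q, fun x _ => ?_⟩
    rw [Subsingleton.elim x 1]
    exact Subgroup.one_mem _
  obtain ⟨N, hNn, hNb, hNt⟩ := BlockPair.exists_normal_of_isPSolvable hs
  haveI := hNn
  have hcard : Nat.card (G ⧸ N) < n := by
    have h1 := Subgroup.card_eq_card_quotient_mul_card_subgroup N
    have h2 : 1 < Nat.card N := (Subgroup.one_lt_card_iff_ne_bot N).2 hNb
    have h3 : 0 < Nat.card (G ⧸ N) := Nat.card_pos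
    rw [hn] at h1
    rw [h1]
    nlinarith
  let π : G →* G ⧸ N := QuotientGroup.mk' N
  have hπ : Function.Surjective π := QuotientGroup.mk'_surjective N
  have hker : π.ker = N := QuotientGroup.ker_mk' N
  obtain ⟨Pb, Qb, hPQb⟩ := ih _ hcard (G ⧸ N) rfl (isPSolvable_of_surjective π hπ hs) (by
    intro z hz
    obtain ⟨y, rfl, hy⟩ := lift_q_element π hπ hq.out z hz
    exact fun hd => h y hy (hd.trans (index_centralizer_map_dvd π hπ y)))
  let T : Subgroup G := (Pb : Subgroup (G ⧸ N)).comap π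
  let R : Subgroup G := (Qb : Subgroup (G ⧸ N)).comap π
  have hTi : T.index = (Pb : Subgroup (G ⧸ N)).index := Subgroup.index_comap_of_surjective _ hπ
  have hRi : R.index = (Qb : Subgroup (G ⧸ N)).index := Subgroup.index_comap_of_surjective _ hπ
  obtain ⟨P, hPT⟩ := exists_sylow_of_index (p := p) T (by rw [hTi]; exact Pb.not_dvd_index)
  have hTR : ∀ t ∈ T, ∀ r, r ∈ R ↔ t * r * t⁻¹ ∈ R := by
    intro t ht r
    have h1 := mem_normalizer_iff.mp (hPQb ht) (π r)
    show π r ∈ (Qb : Subgroup (G ⧸ N)) ↔ π (t * r * t⁻¹) ∈ (Qb : Subgroup (G ⧸ N))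
    rw [map_mul, map_mul, map_inv]
    exact h1
  have hPR : (P : Subgroup G) ≤ normalizer (R : Set G) := fun x hx =>
    mem_normalizer_iff.mpr (hTR x (hPT hx))
  have hNR : N ≤ R := by
    intro x hx
    have : π x = 1 := by rw [← MonoidHom.mem_ker, hker]; exact hx
    show π x ∈ (Qb : Subgroup (G ⧸ N))
    rw [this]
    exact Subgroup.one_mem _
  rcases hNt with hNq | hNq
  · -- `N` is a `q`-group
    have hRq : IsPGroup q R := IsPGroup.comap_of_ker_isPGroup Qb.2 π (by rw [hker]; exact hNq)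
    have hRnd : ¬ q ∣ R.index := by rw [hRi]; exact Qb.not_dvd_index
    refine ⟨P, hRq.toSylow hRnd, ?_⟩
    rwa [IsPGroup.toSylow_coe]
  · -- `N` is a `q'`-group
    obtain ⟨Q₁⟩ : Nonempty (Sylow q R) := inferInstance
    -- `Q₁` acts on `Syl_p(N)`
    let f : (Q₁ : Subgroup R) →* G := R.subtype.comp (Q₁ : Subgroup R).subtype
    letI act1 : MulDistribMulAction (Q₁ : Subgroup R) N :=
      MulDistribMulAction.compHom N ((MulAut.conjNormal : G →* MulAut N).comp f)
    have hact1 : ∀ (x : (Q₁ : Subgroup R)) (y : N), ((x • y : N) : G) = (x : R) * y * ((x : R) : G)⁻¹ :=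
      fun x y => MulAut.conjNormal_apply (f x) y
    have hcardS : ¬ q ∣ Nat.card (Sylow p N) := by
      intro hd
      obtain ⟨S₀⟩ : Nonempty (Sylow p N) := inferInstance
      have h1 : Nat.card (Sylow p N) ∣ (S₀ : Subgroup N).index := S₀.card_dvd_index
      have h2 : (S₀ : Subgroup N).index ∣ Nat.card N := Subgroup.index_dvd_card _
      have h3 := hd.trans (h1.trans h2)
      exact hq.out.one_lt.ne' (Nat.Coprime.eq_one_of_dvd hNq.symm h3)
    obtain ⟨S, hS⟩ := Q₁.2.nonempty_fixed_point_of_prime_not_dvd_card (Sylow p N) hcardS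
    set St : Subgroup G := (S : Subgroup N).map N.subtype with hSt
    -- each element of `Q₁` normalizes `St`
    have hfix : ∀ x : (Q₁ : Subgroup R), ∀ z ∈ St, ((x : R) : G) * z * ((x : R) : G)⁻¹ ∈ St := by
      rintro x _ ⟨s, hs', rfl⟩
      have h1 : (x • s : N) ∈ (S : Subgroup N) := by
        have h2 : x • S = S := hS x
        have h3 : (x • s : N) ∈ (x • (S : Subgroup N)) := Subgroup.smul_mem_pointwise_smul _ _ _ hs'
        have h4 : x • (S : Subgroup N) = (S : Subgroup N) := by
          have := congrArg (fun S : Sylow p N => (S : Subgroup N)) h2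
          exact this
        rwa [h4] at h3
      exact ⟨_, h1, hact1 x s⟩
    have hcomm : ∀ x : (Q₁ : Subgroup R), ∀ z ∈ St, z * ((x : R) : G) = ((x : R) : G) * z := by
      intro x z hz
      have hxq : ∃ k, orderOf ((x : R) : G) = q ^ k := by
        obtain ⟨k, hk⟩ := Q₁.2 x
        have h1 : ((x : R) : G) ^ q ^ k = 1 := by
          have := congrArg (fun a : (Q₁ : Subgroup R) => ((a : R) : G)) hk
          simpa using this
        obtain ⟨j, -, hj⟩ := (Nat.dvd_prime_pow hq.out).mp (orderOf_dvd_of_pow_eq_one h1)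
        exact ⟨j, hj⟩
      refine centralizes_of_invariant (p := p) N hNq _ hxq (h _ hxq) S ?_ z hz
      rw [mem_normalizer_iff]
      intro w
      show w ∈ St ↔ _ ∈ St
      refine ⟨hfix x w, fun hw => ?_⟩
      have := hfix x⁻¹ _ hw
      simpa [mul_assoc] using this
    -- hence `p ∤ |Syl_q(R)|`
    have hcardQ : ¬ p ∣ Nat.card (Sylow q R) := by
      rw [Q₁.card_eq_index_normalizer]
      have h1 : ∀ s : R, (s : G) ∈ St → ∀ x' ∈ (Q₁ : Subgroup R), s * x' * s⁻¹ = x' := by
        intro s hs' x' hx'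
        apply Subtype.ext
        have := hcomm ⟨x', hx'⟩ _ hs'
        simp only [MulMemClass.coe_mul, InvMemClass.coe_inv]
        rw [this]
        group
      have hle : St.subgroupOf R ≤ normalizer ((Q₁ : Subgroup R) : Set R) := by
        intro s hs'
        have hs'' : (s : G) ∈ St := Subgroup.mem_subgroupOf.mp hs'
        rw [mem_normalizer_iff]
        intro x
        constructor
        · intro hx
          rw [h1 s hs'' x hx]
          exact hx
        · intro hx
          have h2 := h1 s⁻¹ (by simpa using St.inv_mem hs'') _ hx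
          have h3 : s⁻¹ * (s * x * s⁻¹) * s⁻¹⁻¹ = x := by group
          rw [h3] at h2
          rw [h2]
          exact hx
      intro hd
      have hd1 := hd.trans (Subgroup.index_dvd_of_le hle)
      have hSN : St ≤ N := Subgroup.map_subtype_le _
      have h2 : St.relIndex N * N.relIndex R = St.relIndex R :=
        Subgroup.relIndex_mul_relIndex St N R hSN hNR
      have h3 : St.relIndex N = (S : Subgroup N).index := by
        rw [Subgroup.relIndex, hSt, Subgroup.subgroupOf,
          Subgroup.comap_map_eq_self_of_injective N.subtype_injective]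
      have h4 : N.relIndex R = Nat.card (Qb : Subgroup (G ⧸ N)) := by
        have h5 : N.relIndex R = ((⊥ : Subgroup (G ⧸ N)).comap π).relIndex R := by
          rw [MonoidHom.comap_bot, hker]
        rw [h5, Subgroup.relIndex_comap, Subgroup.relIndex_bot_left,
          Subgroup.map_comap_eq_self_of_surjective hπ]
      have hd2 : p ∣ St.relIndex R := hd1
      rw [← h2, h3, h4, hp.out.dvd_mul] at hd2
      rcases hd2 with hd3 | hd3
      · exact S.not_dvd_index hd3
      · obtain ⟨k, hk⟩ := IsPGroup.iff_card.mp Qb.2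
        rw [hk] at hd3
        exact hpq ((Nat.prime_dvd_prime_iff_eq hp.out hq.out).mp (hp.out.dvd_of_dvd_pow hd3))
    -- the action of `P` on `Syl_q(R)`
    letI act2 : MulDistribMulAction (P : Subgroup G) R :=
      MulDistribMulAction.compHom R (Subgroup.inclusion hPR)
    have hact2 : ∀ (x : (P : Subgroup G)) (y : R), ((x • y : R) : G) = (x : G) * y * (x : G)⁻¹ :=
      fun x y => rfl
    obtain ⟨Q₂, hQ₂⟩ := P.2.nonempty_fixed_point_of_prime_not_dvd_card (Sylow q R) hcardQ
    let Q₀ : Subgroup G := (Q₂ : Subgroup R).map R.subtype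
    have hQ₀q : IsPGroup q Q₀ := Q₂.2.map _
    have hQ₀i : ¬ q ∣ Q₀.index := by
      rw [Subgroup.index_map_subtype, hq.out.dvd_mul]
      rintro (h' | h')
      · exact Q₂.not_dvd_index h'
      · rw [hRi] at h'
        exact Qb.not_dvd_index h'
    have hconj : ∀ x ∈ (P : Subgroup G), ∀ z ∈ Q₀, x * z * x⁻¹ ∈ Q₀ := by
      rintro x hx _ ⟨y, hy, rfl⟩
      have h1 : ((⟨x, hx⟩ : (P : Subgroup G)) • y : R) ∈ (Q₂ : Subgroup R) := by
        have h2 : (⟨x, hx⟩ : (P : Subgroup G)) • Q₂ = Q₂ := hQ₂ ⟨x, hx⟩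
        have h3 : ((⟨x, hx⟩ : (P : Subgroup G)) • y : R) ∈
            ((⟨x, hx⟩ : (P : Subgroup G)) • (Q₂ : Subgroup R)) :=
          Subgroup.smul_mem_pointwise_smul _ _ _ hy
        have h4 : (⟨x, hx⟩ : (P : Subgroup G)) • (Q₂ : Subgroup R) = (Q₂ : Subgroup R) := by
          have := congrArg (fun S : Sylow q R => (S : Subgroup R)) h2
          exact this
        rwa [h4] at h3
      exact ⟨_, h1, hact2 ⟨x, hx⟩ y⟩
    refine ⟨P, hQ₀q.toSylow hQ₀i, ?_⟩
    intro x hx
    rw [mem_normalizer_iff]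
    intro z
    show z ∈ Q₀ ↔ x * z * x⁻¹ ∈ Q₀
    constructor
    · exact hconj x hx z
    · intro h'
      have := hconj x⁻¹ ((P : Subgroup G).inv_mem hx) _ h'
      simpa [mul_assoc] using this

theorem s4601_p (hpq : p ≠ q) (hs : IsPSolvable p G)
    (h : ∀ y : G, (∃ k : ℕ, orderOf y = q ^ k) → ¬ p ∣ (centralizer ({y} : Set G)).index) :
    ∃ (P : Sylow p G) (Q : Sylow q G), (P : Subgroup G) ≤ normalizer ((Q : Subgroup G) : Set G) := by
  rw [s4602 p q hpq hs]
  intro hdvd
  set K := pPrimeCore p G with hK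
  haveI hKn : K.Normal := pPrimeCore_normal p G
  let π : G →* G ⧸ K := QuotientGroup.mk' K
  have hπ : Function.Surjective π := QuotientGroup.mk'_surjective K
  have hs' : IsPSolvable p (G ⧸ K) := isPSolvable_of_surjective π hπ hs
  have hO : pPrimeCore p (G ⧸ K) = ⊥ := PJ.pPrimeCore_quot
  have hC := centralizer_le_of_isPSolvable hO (isPSolvable_subgroup hs' _)
  set U := pCore p (G ⧸ K) with hU
  have hUP : IsPGroup p U := pCore_isPGroup p
  have hcard : Nat.card (G ⧸ K) = K.index := rfl
  obtain ⟨z, hz⟩ := exists_prime_orderOf_dvd_card' q (G := G ⧸ K) (by rw [hcard]; exact hdvd)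
  obtain ⟨y, rfl, hy⟩ := lift_q_element π hπ hq.out z ⟨1, by rw [hz, pow_one]⟩
  obtain ⟨P₁, hP₁⟩ := exists_sylow_of_index (p := p) _ (h y hy)
  let Pb : Sylow p (G ⧸ K) := P₁.mapSurjective hπ
  have hUle : U ≤ (P₁ : Subgroup G).map π := pCore_le_sylow p Pb
  have hyC : π y ∈ centralizer (U : Set (G ⧸ K)) := by
    rw [mem_centralizer_iff]
    intro u hu
    obtain ⟨x, hx, rfl⟩ := hUle hu
    have h1 : x ∈ centralizer ({y} : Set G) := hP₁ hx
    rw [mem_centralizer_singleton_iff] at h1
    rw [← map_mul, h1, map_mul]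
  have hyU := hC hyC
  obtain ⟨a, ha⟩ := hUP ⟨_, hyU⟩
  have h1 : (π y) ^ p ^ a = 1 := by simpa using congrArg Subtype.val ha
  have h2 := orderOf_dvd_of_pow_eq_one h1
  rw [hz] at h2
  exact hpq.symm ((Nat.prime_dvd_prime_iff_eq hq.out hp.out).mp (hq.out.dvd_of_dvd_pow h2))

end aux

theorem s4601 {G : Type u} [Group G] [Finite G] (p q : ℕ) [hp : Fact p.Prime] [hq : Fact q.Prime]
    (hsolv : IsPSolvable p G ∨ IsPSolvable q G)
    (h : ∀ y : G, (∃ k : ℕ, orderOf y = q ^ k) → ¬ p ∣ (centralizer ({y} : Set G)).index) :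
    ∃ (P : Sylow p G) (Q : Sylow q G), (P : Subgroup G) ≤ normalizer ((Q : Subgroup G) : Set G) := by
  by_cases hpq : p = q
  · subst hpq
    obtain ⟨P⟩ : Nonempty (Sylow p G) := inferInstance
    exact ⟨P, P, Subgroup.le_normalizer⟩
  rcases hsolv with hs | hs
  · exact s4601_p hpq hs h
  · exact s4601_q_aux hpq _ G rfl hs h

end Cfsg.Agent.Lib.PNorm
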