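import Mathlib
import Cfsg.Agent.S0809

set_option autoImplicit false

/-! Centralizers in `SL₂(q)` and `PSL₂(q)`. -/

namespace Cfsg.Agent.Lib.PSL2Cent

open Matrix Cfsg.Agent.Lib.H1GL2 Cfsg.Agent.Lib.H1SL2 Cfsg.Agent.Lib.H1PSL2 Cfsg.Agent.Lib.H1PSL2P
  Cfsg.Agent.Lib.H1SL2C Cfsg.Agent.Lib.H1Torus

variable {F : Type*} [Field F] [Fintype F]

theorem index_mul_card (x : SL2 F) :
    (Tz x).index * Nat.card (Tz x) = Fintype.card F * (Fintype.card F ^ 2 - 1) := by
  rw [Subgroup.index_mul_card, card_sl2]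

theorem no_root_tr (x : SL2 F) (h : ∀ s : F, s ^ 2 - tr x * s + 1 ≠ 0) : tr x ^ 2 ≠ 4 := by
  intro h4
  rcases (sq_eq_four_iff _).mp h4 with h2 | h2
  · apply h 1
    rw [h2]
    ring
  · apply h (-1)
    rw [h2]
    ring

theorem exists_tau : ∃ τ : SL2 F, orderOf τ = Fintype.card F + 1 ∧ (∀ s : F, s ^ 2 - tr τ * s + 1 ≠ 0) ∧
    (∀ t ∈ Tz τ, ∃ k : ℕ, t = τ ^ k) ∧
    (∀ t : F, (∀ s : F, s ^ 2 - t * s + 1 ≠ 0) → ∃ k : ℕ, tr (τ ^ k) = t) := by
  obtain ⟨τ, h1, h2, h3⟩ := ns_data (F := F)
  obtain ⟨h4, h5⟩ := ns_gen_props τ h1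
  have hq : 1 < Fintype.card F := Fintype.one_lt_card
  refine ⟨τ, h1, ?_, fun t ht => h3 t h5 (mem_Tz.1 ht), h2⟩
  rcases trichotomy τ with h6 | h6 | ⟨u, hu, hc⟩ | h6
  · exfalso
    apply h4
    rw [h6]
    ring
  · exfalso
    apply h4
    rw [h6]
    ring
  · exfalso
    have h7 := conj_dg_pow τ u hc
    have h8 := orderOf_dvd_of_pow_eq_one h7
    rw [h1] at h8
    have := Nat.le_of_dvd (by omega) h8
    omega
  · exact h6

theorem card_Tz_nonsplit {x : SL2 F} (h : ∀ s : F, s ^ 2 - tr x * s + 1 ≠ 0) :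
    Nat.card (Tz x) = Fintype.card F + 1 := by
  obtain ⟨τ, hord, hroot, hgen, htr⟩ := exists_tau (F := F)
  obtain ⟨k, hk⟩ := htr (tr x) h
  have h4 := no_root_tr x h
  have hc : IsConj x (τ ^ k) := conj_of_trace x (τ ^ k) hk.symm h4
  rw [Cfsg.Agent.S0809.card_Tz_conj hc]
  have h5 : tr (τ ^ k) ^ 2 ≠ 4 := by
    rw [hk]
    exact h4
  have h6 : Tz (τ ^ k) = Tz τ := by
    apply le_antisymm
    · intro g hg
      obtain ⟨a, b, hab, -⟩ := exists_form h5 hg
      rw [mem_Tz]
      apply Subtype.ext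
      have h7 : ((τ ^ k : SL2 F) : M2 F) * (τ : M2 F) = (τ : M2 F) * ((τ ^ k : SL2 F) : M2 F) := by
        have : τ ^ k * τ = τ * τ ^ k := by rw [← pow_succ, ← pow_succ']
        exact congrArg Subtype.val this
      show (g : M2 F) * (τ : M2 F) = (τ : M2 F) * (g : M2 F)
      rw [hab, add_mul, mul_add, smul_mul_assoc, smul_mul_assoc, mul_smul_comm, mul_smul_comm, h7, one_mul, mul_one]
    · intro g hg
      rw [mem_Tz]
      obtain ⟨j, rfl⟩ := hgen g hg
      rw [← pow_add, ← pow_add, add_comm]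
  rw [h6, card_Tz hgen, hord]

theorem card_Tz_dg {u : Fˣ} (hu : (u : F) ^ 2 ≠ 1) : Nat.card (Tz (dg u)) = Fintype.card F - 1 := by
  classical
  have h6 : Tz (dg u) = (dg (F := F)).range := by
    ext g
    rw [mem_Tz_diag (dg01 u) (dg10 u) (by simpa using hu), MonoidHom.mem_range]
    constructor
    · rintro ⟨h1, h2⟩
      have hd := sl_det g
      rw [h1, zero_mul, sub_zero] at hd
      have h0 : (g : M2 F) 0 0 ≠ 0 := by
        intro h
        rw [h, zero_mul] at hd
        exact zero_ne_one hd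
      refine ⟨Units.mk0 _ h0, ?_⟩
      apply sl_ext
      · rfl
      · simpa using h1.symm
      · simpa using h2.symm
      · simp only [dg11, Units.val_inv_eq_inv_val, Units.val_mk0]
        exact (eq_inv_of_mul_eq_one_right hd).symm
    · rintro ⟨v, rfl⟩
      exact ⟨dg01 v, dg10 v⟩
  rw [h6, ← Nat.card_congr (MonoidHom.ofInjective dg_injective).toEquiv, Nat.card_eq_fintype_card, Fintype.card_units]

theorem mem_comap_cent (x y : SL2 F) :
    y ∈ (Subgroup.centralizer ({pi x} : Set (PSL2 F))).comap pi ↔ y * x = x * y ∨ y * x = mone * (x * y) := by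
  rw [Subgroup.mem_comap, Subgroup.mem_centralizer_singleton_iff, ← map_mul, ← map_mul]
  constructor
  · intro h
    have h1 : pi (y * x * (x * y)⁻¹) = 1 := by
      rw [map_mul, map_inv, h, mul_inv_cancel]
    rcases (pi_eq_one_iff _).1 h1 with h2 | h2
    · left
      exact mul_inv_eq_one.1 h2
    · right
      exact mul_inv_eq_iff_eq_mul.1 h2
  · rintro (h | h)
    · rw [h]
    · rw [h, map_mul, pi_mone, one_mul]

theorem index_cent (x : SL2 F) : (Subgroup.centralizer ({pi x} : Set (PSL2 F))).index =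
    ((Subgroup.centralizer ({pi x} : Set (PSL2 F))).comap pi).index :=
  (Subgroup.index_comap_of_surjective _ pi_surj).symm

/-- When `y x y⁻¹ = - x` is impossible the two centralizers have the same index. -/
theorem index_cent_of (x : SL2 F) (H : ∀ y : SL2 F, y * x = mone * (x * y) → y * x = x * y) :
    (Subgroup.centralizer ({pi x} : Set (PSL2 F))).index = (Tz x).index := by
  rw [index_cent]
  congr 1
  ext y
  rw [mem_comap_cent, mem_Tz]
  constructor
  · rintro (h | h)
    · exact h
    · exact H y h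
  · exact Or.inl

theorem tr_neg_of_mul (x y : SL2 F) (h : y * x = mone * (x * y)) : tr x = - tr x := by
  have h1 : y * x * y⁻¹ = mone * x := by
    rw [h, ← mul_assoc, mul_assoc, mul_inv_cancel, mul_one]
  have h2 := tr_of_isConj (isConj_iff.2 ⟨y, h1⟩)
  rwa [tr_mone_mul] at h2

theorem index_cent_char2 (h2 : (2 : F) = 0) (x : SL2 F) :
    (Subgroup.centralizer ({pi x} : Set (PSL2 F))).index = (Tz x).index :=
  index_cent_of x (fun y h => by rwa [mone_eq_one_of_two h2, one_mul] at h)

theorem index_cent_odd (h2 : (2 : F) ≠ 0) (x : SL2 F) (hx : tr x ≠ 0) :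
    (Subgroup.centralizer ({pi x} : Set (PSL2 F))).index = (Tz x).index := by
  refine index_cent_of x (fun y h => ?_)
  exfalso
  have h3 := tr_neg_of_mul x y h
  apply hx
  have : 2 * tr x = 0 := by linear_combination h3
  exact (mul_eq_zero.1 this).resolve_left h2

theorem cayley_tr_zero {x : SL2 F} (hx : tr x = 0) : x * x = mone := by
  have h := cayley x
  rw [hx, zero_smul, zero_sub] at h
  apply Subtype.ext
  show (x : M2 F) * (x : M2 F) = (mone : SL2 F)
  rw [h]
  ext i j
  fin_cases i <;> fin_cases j <;> simp [mone]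

theorem index_cent_zero (h2 : (2 : F) ≠ 0) (x : SL2 F) (hx : tr x = 0) :
    (Subgroup.centralizer ({pi x} : Set (PSL2 F))).index * 2 = (Tz x).index := by
  have h4 : tr x ^ 2 ≠ 4 := by
    rw [hx]
    intro h
    have h5 : (2 : F) * 2 = 0 := by linear_combination -h
    exact h2 ((mul_eq_zero.1 h5).elim id id)
  have hinv : x⁻¹ = mone * x := by
    have h5 := cayley_tr_zero hx
    apply inv_eq_of_mul_eq_one_right
    calc x * (mone * x) = (x * mone) * x := by rw [mul_assoc]
      _ = (mone * x) * x := by rw [mone_comm]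
      _ = mone * (x * x) := by rw [mul_assoc]
      _ = 1 := by rw [h5, mone_mul_mone]
  have hK : (Subgroup.centralizer ({pi x} : Set (PSL2 F))).comap pi =
      Subgroup.normalizer ((Tz x : Subgroup (SL2 F)) : Set (SL2 F)) := by
    ext y
    rw [mem_comap_cent, mem_normalizer_iff h4, hinv]
    constructor
    · rintro (h | h)
      · left
        rw [h, mul_assoc, mul_inv_cancel, mul_one]
      · right
        rw [h, ← mul_assoc, mul_assoc, mul_inv_cancel, mul_one]
    · rintro (h | h)
      · left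
        exact mul_inv_eq_iff_eq_mul.1 h
      · right
        rw [mul_inv_eq_iff_eq_mul.1 h, mul_assoc]
  have h5 := index_mul_card x
  have h6 := Subgroup.index_mul_card (Subgroup.normalizer ((Tz x : Subgroup (SL2 F)) : Set (SL2 F)))
  rw [card_normalizer h4, card_sl2, ← hK, ← index_cent] at h6
  have h7 : 0 < Nat.card (Tz x) := Nat.card_pos
  apply Nat.eq_of_mul_eq_mul_right h7
  rw [h5, ← h6]
  ring

/-- `q² - 1 = (q - 1) (q + 1)` in `ℕ`. -/
theorem sq_sub_one_eq : Fintype.card F ^ 2 - 1 = (Fintype.card F - 1) * (Fintype.card F + 1) := by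
  have hq : 1 < Fintype.card F := Fintype.one_lt_card
  obtain ⟨k, hk⟩ : ∃ k, Fintype.card F = k + 1 := ⟨Fintype.card F - 1, by omega⟩
  rw [hk]
  simp only [Nat.add_sub_cancel]
  have : (k + 1) ^ 2 = k * (k + 1 + 1) + 1 := by ring
  omega

/-- The index of a centralizer of a nonsplit element. -/
theorem index_Tz_nonsplit {x : SL2 F} (h : ∀ s : F, s ^ 2 - tr x * s + 1 ≠ 0) :
    (Tz x).index = Fintype.card F * (Fintype.card F - 1) := by
  have h1 := index_mul_card x
  rw [card_Tz_nonsplit h, sq_sub_one_eq] at h1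
  apply Nat.eq_of_mul_eq_mul_right (show 0 < Fintype.card F + 1 by omega)
  rw [h1]
  ring

/-- The index of a centralizer of a split element. -/
theorem index_Tz_dg {u : Fˣ} (hu : (u : F) ^ 2 ≠ 1) :
    (Tz (dg u)).index = Fintype.card F * (Fintype.card F + 1) := by
  have hq : 1 < Fintype.card F := Fintype.one_lt_card
  have h1 := index_mul_card (dg u)
  rw [card_Tz_dg hu, sq_sub_one_eq] at h1
  apply Nat.eq_of_mul_eq_mul_right (show 0 < Fintype.card F - 1 by omega)
  rw [h1]
  ring

theorem index_Tz_of_conj {x y : SL2 F} (h : IsConj x y) : (Tz x).index = (Tz y).index := by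
  have h1 := index_mul_card x
  have h2 := index_mul_card y
  rw [Cfsg.Agent.S0809.card_Tz_conj h] at h1
  exact Nat.eq_of_mul_eq_mul_right Nat.card_pos (h1.trans h2.symm)

/-- The index of a centralizer of a transvection. -/
theorem index_Tz_tv {b : F} (hb : b ≠ 0) :
    (Tz (tv b)).index * (Nat.card {x : F // x * x = 1} * Fintype.card F) =
      Fintype.card F * (Fintype.card F ^ 2 - 1) := index_centralizer_tv hb

/-- The centralizer of `1`. -/
theorem index_Tz_one : (Tz (1 : SL2 F)).index = 1 := by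
  rw [Subgroup.index_eq_one, Subgroup.centralizer_eq_top_iff_subset]
  simp

/-- Any group element with `(u : F)^2 ≠ 1`. -/
theorem exists_unit_sq_ne (hq : 4 ≤ Fintype.card F) : ∃ u : Fˣ, (u : F) ^ 2 ≠ 1 := by
  classical
  by_contra hcon
  push Not at hcon
  have h1 : ∀ u : Fˣ, u ∈ ({1, -1} : Finset Fˣ) := by
    intro u
    have h2 := hcon u
    have h3 : ((u : F) - 1) * ((u : F) + 1) = 0 := by linear_combination h2
    simp only [Finset.mem_insert, Finset.mem_singleton]
    rcases mul_eq_zero.1 h3 with h4 | h4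
    · left
      exact Units.ext (sub_eq_zero.1 h4)
    · right
      apply Units.ext
      simpa using eq_neg_of_add_eq_zero_left h4
  have h2 : Fintype.card Fˣ ≤ 2 := by
    calc Fintype.card Fˣ = (Finset.univ : Finset Fˣ).card := rfl
      _ ≤ ({1, -1} : Finset Fˣ).card := Finset.card_le_card (fun u _ => h1 u)
      _ ≤ 2 := Finset.card_le_two
  rw [Fintype.card_units] at h2
  omega

end Cfsg.Agent.Lib.PSL2Cent
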