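import Mathlib
import Cfsg.Prelude.Def_Transfer
import Cfsg.Agent.Lib.PNilp
import Cfsg.Agent.Lib.PGrp2

set_option autoImplicit false
set_option linter.unusedSectionVars false
set_option linter.unusedVariables false
set_option linter.style.haveILetI false

namespace Cfsg.Agent.Lib.PTate

open Cfsg Subgroup
open scoped commutatorElement

universe u

/-- Pullback subgroup. -/
def pullB {G E Q : Type*} [Group G] [Group E] [Group Q] (f : G →* Q) (g : E →* Q) : Subgroup (G × E) :=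
  MonoidHom.eqLocus (f.comp (MonoidHom.fst G E)) (g.comp (MonoidHom.snd G E))

theorem mem_pullB {G E Q : Type*} [Group G] [Group E] [Group Q] (f : G →* Q) (g : E →* Q) (x : G × E) :
    x ∈ pullB f g ↔ f x.1 = g x.2 := by
  exact Iff.rfl

/-- Central elements have the transfer given by a power. -/
theorem transfer_central {G A : Type*} [Group G] [CommGroup A] {H : Subgroup G} [H.FiniteIndex] (ϕ : H →* A)
    (g : G) (hg : g ∈ center G) (hgH : g ^ H.index ∈ H) :
    ϕ.transfer g = ϕ ⟨g ^ H.index, hgH⟩ := by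
  refine (MonoidHom.transfer_eq_pow ϕ g ?_).trans ?_
  · intro k g₀ _
    have hk : g ^ k ∈ center G := pow_mem hg k
    have := (mem_center_iff.1 hk) g₀⁻¹
    rw [this, mul_assoc, inv_mul_cancel, mul_one]
  · rfl

theorem tate_step {G : Type u} [Group G] [Finite G] {p : ℕ} [hp : Fact p.Prime] (P : Subgroup G)
    (hidx : Nat.Coprime P.index p) {E : Type u} [Group E] [Finite E] (A₀ : Subgroup E)
    (hA₀ : A₀ ≤ center E) (hA₀p : ∀ a ∈ A₀, a ^ p = 1) [A₀.Normal]
    (φ : P →* E) (ψ₀ : G →* E ⧸ A₀) (hψ₀ : ∀ x : P, ψ₀ x = (φ x : E ⧸ A₀)) :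
    ∃ ψ : G →* E, ∀ g : G, ((ψ g : E) : E ⧸ A₀) = ψ₀ g := by
  classical
  letI iA : CommGroup A₀ := { (inferInstance : Group A₀) with
    mul_comm := fun a b => Subtype.ext ((mem_center_iff.1 (hA₀ a.2)) (b : E)).symm }
  let Ĝ : Subgroup (G × E) := pullB ψ₀ (QuotientGroup.mk' A₀)
  have memĜ : ∀ x : G × E, x ∈ Ĝ ↔ ψ₀ x.1 = (x.2 : E ⧸ A₀) := fun x => mem_pullB _ _ x
  let π : Ĝ →* G := (MonoidHom.fst G E).comp Ĝ.subtype
  have hπ : Function.Surjective π := by
    intro g
    obtain ⟨e, he⟩ := QuotientGroup.mk_surjective (ψ₀ g)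
    refine ⟨⟨(g, e), (memĜ _).2 he.symm⟩, rfl⟩
  let S : Subgroup Ĝ := P.comap π
  have hSidx : S.index = P.index := Subgroup.index_comap_of_surjective _ hπ
  haveI : S.FiniteIndex := ⟨by rw [hSidx]; exact Subgroup.index_ne_zero_of_finite⟩
  have hrmem : ∀ s : S, φ ⟨π s, s.2⟩ * ((s : Ĝ) : G × E).2⁻¹ ∈ A₀ := by
    intro s
    have h1 : ((φ ⟨π s, s.2⟩ : E) : E ⧸ A₀) = (((s : Ĝ) : G × E).2 : E ⧸ A₀) := by
      rw [← hψ₀ ⟨π s, s.2⟩]
      exact (memĜ _).1 (s : Ĝ).2
    have h2 := QuotientGroup.eq.1 h1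
    have h3 := inv_mem h2
    rw [mul_inv_rev, inv_inv] at h3
    exact (‹A₀.Normal›.mem_comm_iff).1 h3
  -- `r : S → A₀`, `(x,e) ↦ φ(x) e⁻¹`
  let r : S →* A₀ := MonoidHom.mk' (fun s => ⟨φ ⟨π s, s.2⟩ * ((s : Ĝ) : G × E).2⁻¹, hrmem s⟩) (by
    intro a b
    apply Subtype.ext
    have hb := hA₀ (hrmem b)
    have e1 : (⟨π (a * b : S), (a * b : S).2⟩ : P) = ⟨π a, a.2⟩ * ⟨π b, b.2⟩ := by
      apply Subtype.ext
      simp [π]
    change φ ⟨π (a * b : S), (a * b : S).2⟩ * (((a * b : S) : Ĝ) : G × E).2⁻¹ =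
      (φ ⟨π a, a.2⟩ * ((a : Ĝ) : G × E).2⁻¹) * (φ ⟨π b, b.2⟩ * ((b : Ĝ) : G × E).2⁻¹)
    rw [e1, map_mul]
    have e2 : (((a * b : S) : Ĝ) : G × E).2 = ((a : Ĝ) : G × E).2 * ((b : Ĝ) : G × E).2 := rfl
    rw [e2, mul_inv_rev]
    have hc := (mem_center_iff.1 hb) ((a : Ĝ) : G × E).2⁻¹
    calc φ ⟨π a, a.2⟩ * φ ⟨π b, b.2⟩ * (((b : Ĝ) : G × E).2⁻¹ * ((a : Ĝ) : G × E).2⁻¹)
        = φ ⟨π a, a.2⟩ * ((φ ⟨π b, b.2⟩ * ((b : Ĝ) : G × E).2⁻¹) * ((a : Ĝ) : G × E).2⁻¹) := by group
      _ = φ ⟨π a, a.2⟩ * (((a : Ĝ) : G × E).2⁻¹ * (φ ⟨π b, b.2⟩ * ((b : Ĝ) : G × E).2⁻¹)) := by rw [hc]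
      _ = _ := by group)
  let τ : Ĝ →* A₀ := MonoidHom.transfer r
  -- the inverse of the index mod `p`
  obtain ⟨m', hm'⟩ : ∃ m' : ℕ, P.index * m' % p = 1 % p := by
    obtain ⟨m, -, hm⟩ := Nat.exists_mul_mod_eq_one_of_coprime (n := P.index) (k := p) hidx (Fact.out : p.Prime).one_lt
    exact ⟨m, by rw [hm, Nat.mod_eq_of_lt (Fact.out : p.Prime).one_lt]⟩
  -- central elements
  have hcentral : ∀ a : A₀, (⟨((1 : G), (a : E)), (memĜ _).2 (by
      rw [map_one]; exact ((QuotientGroup.eq_one_iff (a : E)).2 a.2).symm)⟩ : Ĝ) ∈ center Ĝ := by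
    intro a
    refine mem_center_iff.2 fun g => ?_
    apply Subtype.ext
    apply Prod.ext
    · change (g : G × E).1 * 1 = 1 * (g : G × E).1
      rw [mul_one, one_mul]
    · change (g : G × E).2 * (a : E) = (a : E) * (g : G × E).2
      exact (mem_center_iff.1 (hA₀ a.2)) _
  have hτ : ∀ a : A₀, τ ⟨((1 : G), (a : E)), (memĜ _).2 (by
      rw [map_one]; exact ((QuotientGroup.eq_one_iff (a : E)).2 a.2).symm)⟩ = (a ^ P.index)⁻¹ := by
    intro a
    set â : Ĝ := ⟨((1 : G), (a : E)), (memĜ _).2 (by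
      rw [map_one]; exact ((QuotientGroup.eq_one_iff (a : E)).2 a.2).symm)⟩ with hâ
    have hâpow : π (â ^ S.index) = 1 := by
      rw [map_pow]
      change ((1 : G)) ^ S.index = 1
      simp
    have hmem : â ^ S.index ∈ S := by
      change π (â ^ S.index) ∈ P
      rw [hâpow]; exact one_mem _
    have h1 : τ â = r ⟨â ^ S.index, hmem⟩ := transfer_central r â (hcentral a) hmem
    rw [h1]
    apply Subtype.ext
    change φ ⟨π (â ^ S.index), hmem⟩ * (((â ^ S.index : Ĝ)) : G × E).2⁻¹ = _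
    have h2 : (⟨π (â ^ S.index), hmem⟩ : P) = 1 := Subtype.ext hâpow
    have h3 : (((â ^ S.index : Ĝ)) : G × E).2 = (a : E) ^ S.index := by
      simp [hâ]
    rw [h2, h3, map_one, one_mul, hSidx]
    simp
  let τ' : Ĝ →* A₀ := τ ^ m'
  have hτ' : ∀ a : A₀, τ' ⟨((1 : G), (a : E)), (memĜ _).2 (by
      rw [map_one]; exact ((QuotientGroup.eq_one_iff (a : E)).2 a.2).symm)⟩ = a⁻¹ := by
    intro a
    change (τ _) ^ m' = _
    rw [hτ a, inv_pow, ← pow_mul]
    congr 1
    have hap : a ^ p = 1 := Subtype.ext (by simpa using hA₀p a a.2)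
    rw [← Nat.mod_add_div (P.index * m') p, hm', pow_add, pow_mul, hap, one_pow, mul_one,
      Nat.mod_eq_of_lt (Fact.out : p.Prime).one_lt, pow_one]
  -- the lift
  let μ : Ĝ →* E := MonoidHom.mk' (fun x => (x : G × E).2 * (τ' x : E)) (by
    intro a b
    have hb := hA₀ (τ' b).2
    have hc := (mem_center_iff.1 (hA₀ (τ' a).2)) ((b : G × E).2)
    rw [map_mul]
    change (a : G × E).2 * (b : G × E).2 * (((τ' a : E)) * (τ' b : E)) = (a : G × E).2 * (τ' a : E) * ((b : G × E).2 * (τ' b : E))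
    rw [mul_assoc, mul_assoc, ← mul_assoc (b : G × E).2, hc]
    group)
  have hμ : π.ker ≤ μ.ker := by
    intro x hx
    rw [MonoidHom.mem_ker] at hx ⊢
    have hx1 : (x : G × E).1 = 1 := hx
    have hx2 : (x : G × E).2 ∈ A₀ := by
      have := (memĜ _).1 x.2
      rw [hx1, map_one] at this
      exact (QuotientGroup.eq_one_iff _).1 this.symm
    have hxeq : x = ⟨((1 : G), ((⟨(x : G × E).2, hx2⟩ : A₀) : E)), (memĜ _).2 (by
      rw [map_one]; exact ((QuotientGroup.eq_one_iff _).2 hx2).symm)⟩ := by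
      apply Subtype.ext
      apply Prod.ext
      · exact hx1
      · rfl
    have h := hτ' ⟨(x : G × E).2, hx2⟩
    rw [← hxeq] at h
    change (x : G × E).2 * (τ' x : E) = 1
    rw [h]
    simp
  let ψ : G →* E := π.liftOfSurjective hπ ⟨μ, hμ⟩
  have hψ : ∀ x : Ĝ, ψ (π x) = μ x := fun x => MonoidHom.liftOfRightInverse_comp_apply _ _ _ _ x
  refine ⟨ψ, fun g => ?_⟩
  obtain ⟨x, rfl⟩ := hπ g
  rw [hψ]
  change (((x : G × E).2 * (τ' x : E) : E) : E ⧸ A₀) = ψ₀ (x : G × E).1
  rw [(memĜ _).1 x.2, QuotientGroup.mk_mul, (QuotientGroup.eq_one_iff _).2 (τ' x).2, mul_one]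

/-- Tate's extension step: extending along `P` with elementary abelian target implies the same for all `p`-groups. -/
theorem tate_core {G : Type u} [Group G] [Finite G] {p : ℕ} [hp : Fact p.Prime] (P : Subgroup G)
    (hidx : Nat.Coprime P.index p)
    (HExt : ∀ (A₀ : Type u) [CommGroup A₀] [Finite A₀], (∀ a : A₀, a ^ p = 1) →
      ∀ d : P →* A₀, ∃ F : G →* A₀, ∀ x : P, F x = d x) :
    ∀ (n : ℕ) (E : Type u) [Group E] [Finite E], IsPGroup p E → Nat.card E = n →
      ∀ φ : P →* E, ∃ ψ : G →* E, ∀ x : P, ψ x = φ x := by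
  classical
  intro n
  induction n using Nat.strong_induction_on with
  | _ n ih =>
    intro E _ _ hE hn φ
    by_cases htriv : Nontrivial E
    · haveI := hE.center_nontrivial
      obtain ⟨z, hz⟩ : ∃ z : center E, orderOf z = p := by
        have hdvd : p ∣ Nat.card (center E) := by
          obtain ⟨k, hk⟩ := IsPGroup.iff_card.1 (hE.to_subgroup (center E))
          rw [hk]
          refine dvd_pow_self p ?_
          rintro rfl
          have : Nat.card (center E) = 1 := by rw [hk, pow_zero]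
          exact (Finite.one_lt_card (α := center E)).ne' this
        haveI : Finite (center E) := inferInstance
        exact exists_prime_orderOf_dvd_card' p hdvd
      let A₀ : Subgroup E := zpowers (z : E)
      have hA₀ : A₀ ≤ center E := by
        rw [zpowers_le]
        exact z.2
      haveI hA₀n : A₀.Normal := ⟨fun a ha g => by
        rw [(mem_center_iff.1 (hA₀ ha)) g, mul_assoc, mul_inv_cancel, mul_one]
        exact ha⟩
      have hzord : orderOf (z : E) = p := by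
        rw [← Subgroup.orderOf_coe] at hz
        exact hz
      have hA₀p : ∀ a ∈ A₀, a ^ p = 1 := by
        rintro a ⟨k, rfl⟩
        have h1 : (z : E) ^ p = 1 := by rw [← hzord]; exact pow_orderOf_eq_one _
        change ((z : E) ^ k) ^ p = 1
        rw [← zpow_natCast, ← zpow_mul, mul_comm, zpow_mul, zpow_natCast, h1, one_zpow]
      have hcardA : Nat.card A₀ = p := by
        rw [Nat.card_zpowers, hzord]
      have hlt : Nat.card (E ⧸ A₀) < n := by
        have h1 : Nat.card A₀ * Nat.card (E ⧸ A₀) = n := by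
          rw [← hn, ← Subgroup.index_eq_card]; exact A₀.card_mul_index
        rw [hcardA] at h1
        have hpos : 0 < Nat.card (E ⧸ A₀) := Nat.card_pos
        have h2 := (Fact.out : p.Prime).two_le
        nlinarith
      have hEq : IsPGroup p (E ⧸ A₀) := hE.to_quotient A₀
      obtain ⟨ψ₀, hψ₀⟩ := ih _ hlt (E ⧸ A₀) hEq rfl ((QuotientGroup.mk' A₀).comp φ)
      obtain ⟨ψ, hψ⟩ := tate_step P hidx A₀ hA₀ hA₀p φ ψ₀ (fun x => hψ₀ x)
      -- correct by an element of `A₀`
      letI iA : CommGroup A₀ := { (inferInstance : Group A₀) with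
        mul_comm := fun a b => Subtype.ext ((mem_center_iff.1 (hA₀ a.2)) (b : E)).symm }
      have hdmem : ∀ x : P, φ x * (ψ x)⁻¹ ∈ A₀ := by
        intro x
        have h1 : ((ψ x : E) : E ⧸ A₀) = (φ x : E ⧸ A₀) := (hψ x).trans (hψ₀ x)
        have h2 := QuotientGroup.eq.1 h1
        exact hA₀n.mem_comm ((by simpa using h2) : (ψ x)⁻¹ * φ x ∈ A₀)
      let d : P →* A₀ := MonoidHom.mk' (fun x => ⟨φ x * (ψ x)⁻¹, hdmem x⟩) (by
        intro a b
        apply Subtype.ext
        change φ (a * b) * (ψ ((a * b : P) : G))⁻¹ = φ a * (ψ a)⁻¹ * (φ b * (ψ b)⁻¹)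
        have hc := (mem_center_iff.1 (hA₀ (hdmem b))) (ψ a)⁻¹
        have e : ψ ((a * b : P) : G) = ψ a * ψ b := by rw [Subgroup.coe_mul, map_mul]
        rw [e, map_mul, mul_inv_rev]
        calc φ a * φ b * ((ψ b)⁻¹ * (ψ a)⁻¹) = φ a * ((φ b * (ψ b)⁻¹) * (ψ a)⁻¹) := by group
          _ = φ a * ((ψ a)⁻¹ * (φ b * (ψ b)⁻¹)) := by rw [hc]
          _ = _ := by group)
      obtain ⟨F, hF⟩ := HExt A₀ (fun a => Subtype.ext (by simpa using hA₀p a a.2)) d
      refine ⟨MonoidHom.mk' (fun g => (F g : E) * ψ g) (fun a b => ?_), fun x => ?_⟩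
      · have hc := (mem_center_iff.1 (hA₀ (F b).2)) (ψ a)
        rw [map_mul, map_mul]
        change (F a : E) * (F b : E) * (ψ a * ψ b) = (F a : E) * ψ a * ((F b : E) * ψ b)
        rw [mul_assoc, mul_assoc, ← mul_assoc (F b : E), ← hc]
        group
      · change (F x : E) * ψ x = φ x
        rw [hF x]
        change φ x * (ψ x)⁻¹ * ψ x = φ x
        group
    · haveI : Subsingleton E := not_nontrivial_iff_subsingleton.1 htriv
      exact ⟨1, fun x => Subsingleton.elim _ _⟩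

/-- Retraction form of the extension step. -/
theorem tate_retraction {G : Type u} [Group G] [Finite G] {p : ℕ} [hp : Fact p.Prime] (P : Subgroup G)
    (hP : IsPGroup p P) (hidx : Nat.Coprime P.index p)
    (HExt : ∀ (A₀ : Type u) [CommGroup A₀] [Finite A₀], (∀ a : A₀, a ^ p = 1) →
      ∀ d : P →* A₀, ∃ F : G →* A₀, ∀ x : P, F x = d x) :
    ∃ ρ : G →* P, ∀ x : P, ρ x = x := by
  obtain ⟨ψ, hψ⟩ := tate_core P hidx HExt _ P hP rfl (MonoidHom.id P)
  exact ⟨ψ, fun x => (hψ x).trans rfl⟩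

/-- The core of a retraction has order prime to `p`. -/
theorem coprime_ker_retraction {G : Type u} [Group G] [Finite G] {p : ℕ} [hp : Fact p.Prime] (P : Subgroup G)
    (hidx : Nat.Coprime P.index p) (ρ : G →* P) (hρ : ∀ x : P, ρ x = x) :
    Nat.Coprime (Nat.card ρ.ker) p := by
  have hsurj : Function.Surjective ρ := fun x => ⟨x, hρ x⟩
  have h1 : ρ.ker.index = Nat.card P := by
    rw [Subgroup.index_ker, MonoidHom.range_eq_top.2 hsurj, Subgroup.card_top]
  have h2 : Nat.card ρ.ker * Nat.card P = Nat.card G := by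
    rw [← h1]; exact ρ.ker.card_mul_index
  have h3 : Nat.card P * P.index = Nat.card G := P.card_mul_index
  have h4 : Nat.card ρ.ker = P.index := by
    have hpos : 0 < Nat.card P := Nat.card_pos
    nlinarith [h2, h3, mul_comm (Nat.card ρ.ker) (Nat.card P)]
  rw [h4]; exact hidx

/-- **Tate's theorem**: if `N ⊴ G` and `N ∩ P ≤ Φ(P)` then `N` has a normal `p`-complement. -/
theorem tate {G : Type u} [Group G] [Finite G] {p : ℕ} [hp : Fact p.Prime] (P : Sylow p G) (N : Subgroup G) [hN : N.Normal]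
    (h : N ⊓ (P : Subgroup G) ≤ (frattini P).map (P : Subgroup G).subtype) :
    HasNormalPComplement p N := by
  classical
  set X : Subgroup G := (P : Subgroup G) ⊔ N with hX
  have hPX : (P : Subgroup G) ≤ X := le_sup_left
  have hNX : N ≤ X := le_sup_right
  let P' : Subgroup X := (P : Subgroup G).subgroupOf X
  let e : P' ≃* (P : Subgroup G) := Subgroup.subgroupOfEquivOfLe hPX
  have hP' : IsPGroup p P' := P.2.of_equiv e.symm
  have hidx : Nat.Coprime P'.index p := by
    have h1 : P'.index = (P : Subgroup G).relIndex X := rfl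
    have h2 : (P : Subgroup G).relIndex X ∣ (P : Subgroup G).index := Subgroup.relIndex_dvd_index_of_le hPX
    rw [h1]
    exact Nat.Coprime.coprime_dvd_left h2 ((Nat.Prime.coprime_iff_not_dvd Fact.out).2 P.not_dvd_index).symm
  have HExt : ∀ (A₀ : Type _) [CommGroup A₀] [Finite A₀], (∀ a : A₀, a ^ p = 1) →
      ∀ d : P' →* A₀, ∃ F : X →* A₀, ∀ x : P', F x = d x := by
    intro A₀ _ _ hA₀ d
    -- the map on `P`
    let d₁ : (P : Subgroup G) →* A₀ := d.comp e.symm.toMonoidHom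
    have hfr : frattini (P : Subgroup G) ≤ d₁.ker := by
      refine Cfsg.Agent.Lib.PGrp.frattini_le_of P.2 _ ?_ ?_
      · exact Abelianization.commutator_subset_ker d₁
      · intro x
        rw [MonoidHom.mem_ker, map_pow, hA₀]
    have hker : N.subgroupOf (P : Subgroup G) ≤ d₁.ker := by
      intro x hx
      have h1 : (x : G) ∈ N ⊓ (P : Subgroup G) := mem_inf.2 ⟨hx, x.2⟩
      obtain ⟨y, hy, hyx⟩ := h h1
      have : y = x := Subtype.ext hyx
      rw [← this]
      exact hfr hy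
    let d₂ : (P : Subgroup G) ⧸ N.subgroupOf (P : Subgroup G) →* A₀ := QuotientGroup.lift _ d₁ hker
    let E := QuotientGroup.quotientInfEquivProdNormalQuotient (P : Subgroup G) N
    let F : X →* A₀ := (d₂.comp E.symm.toMonoidHom).comp (QuotientGroup.mk' (N.subgroupOf X))
    refine ⟨F, fun x => ?_⟩
    have hx : E (((e x : (P : Subgroup G)) : (P : Subgroup G) ⧸ N.subgroupOf (P : Subgroup G))) = ((x : X) : X ⧸ N.subgroupOf X) := by
      rfl
    change d₂ (E.symm (((x : X) : X ⧸ N.subgroupOf X))) = d x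
    rw [← hx, MulEquiv.symm_apply_apply]
    change d (e.symm (e x)) = d x
    rw [MulEquiv.symm_apply_apply]
  obtain ⟨ρ, hρ⟩ := tate_retraction P' hP' hidx HExt
  have hcop := coprime_ker_retraction P' hidx ρ hρ
  let f : N →* P' := ρ.comp (Subgroup.inclusion hNX)
  rw [Cfsg.Agent.Lib.PNilp.hasNormalPComplement_iff]
  refine ⟨f.ker, inferInstance, ?_, ?_⟩
  · -- `ker f` embeds in `ker ρ`
    have hle : f.ker.map (Subgroup.inclusion hNX) ≤ ρ.ker := by
      rintro _ ⟨y, hy, rfl⟩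
      exact hy
    have h1 : Nat.card (f.ker.map (Subgroup.inclusion hNX)) = Nat.card f.ker :=
      Subgroup.card_map_of_injective (Subgroup.inclusion_injective hNX)
    rw [← h1]
    exact Nat.Coprime.coprime_dvd_left (Subgroup.card_dvd_of_le hle) hcop
  · exact hP'.of_injective (QuotientGroup.kerLift f) (QuotientGroup.kerLift_injective f)

end Cfsg.Agent.Lib.PTate
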