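import Mathlib
import Cfsg.Prelude.Def_Transfer
import Cfsg.Agent.Lib.PTate
import Cfsg.Agent.Lib.FGSBasic
import Cfsg.Agent.Lib.H1Frat

set_option autoImplicit false
set_option linter.unusedSectionVars false
set_option linter.unusedVariables false
set_option linter.style.haveILetI false

namespace Cfsg.Agent.Lib.PTate

open Cfsg Subgroup
open scoped commutatorElement

universe u

/-- Central elements and perfect groups: transfer kills. -/
theorem mem_coatom_of_central_of_perfect {H : Type*} [Group H] [Finite H] {p : ℕ} [Fact p.Prime] (P : Subgroup H)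
    (M : Subgroup P) [hMn : M.Normal] (hMi : M.index = p) (hMc : commutator P ≤ M) (hH : commutator H = ⊤)
    {x : H} (hxc : x ∈ center H) (hxP : x ∈ P) (hidx : ¬ p ∣ P.index) : (⟨x, hxP⟩ : P) ∈ M := by
  classical
  letI iQ : CommGroup (P ⧸ M) := { (inferInstance : Group (P ⧸ M)) with
    mul_comm := fun a b => by
      induction a using QuotientGroup.induction_on with
      | _ a =>
      induction b using QuotientGroup.induction_on with
      | _ b =>
      rw [← QuotientGroup.mk_mul, ← QuotientGroup.mk_mul, QuotientGroup.eq]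
      have := hMc (Cfsg.Agent.Lib.PGrp.comm_mem_commutator b⁻¹ a⁻¹)
      convert this using 1
      rw [commutatorElement_def]
      group }
  let ϕ : P →* P ⧸ M := QuotientGroup.mk' M
  haveI : P.FiniteIndex := ⟨Subgroup.index_ne_zero_of_finite⟩
  have hpowmem : x ^ P.index ∈ P := pow_mem hxP _
  have h1 : ϕ.transfer x = ϕ ⟨x ^ P.index, hpowmem⟩ := transfer_central ϕ x hxc hpowmem
  have h2 : ϕ.transfer x = 1 := by
    have : x ∈ commutator H := by rw [hH]; exact mem_top _
    exact Abelianization.commutator_subset_ker ϕ.transfer this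
  rw [h2] at h1
  have h3 : (⟨x, hxP⟩ : P) ^ P.index ∈ M := by
    have : (⟨x ^ P.index, hpowmem⟩ : P) ∈ M := (QuotientGroup.eq_one_iff _).1 h1.symm
    exact this
  have h4 : (⟨x, hxP⟩ : P) ^ p ∈ M := by
    rw [← hMi]; exact Subgroup.pow_index_mem M _
  have hco : Nat.Coprime P.index p := ((Nat.Prime.coprime_iff_not_dvd Fact.out).2 hidx).symm
  have h5 : ((⟨x, hxP⟩ : P) : P ⧸ M) ^ P.index = 1 := by
    rw [← QuotientGroup.mk_pow]; exact (QuotientGroup.eq_one_iff _).2 h3
  have h6 : ((⟨x, hxP⟩ : P) : P ⧸ M) ^ p = 1 := by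
    rw [← QuotientGroup.mk_pow]; exact (QuotientGroup.eq_one_iff _).2 h4
  have h7 : orderOf ((⟨x, hxP⟩ : P) : P ⧸ M) = 1 :=
    Nat.eq_one_of_dvd_coprimes hco (orderOf_dvd_of_pow_eq_one h5) (orderOf_dvd_of_pow_eq_one h6)
  rw [orderOf_eq_one_iff] at h7
  exact (QuotientGroup.eq_one_iff _).1 h7

/-- The coatoms of a cyclic `p`-group coincide. -/
theorem coatom_unique_of_cyclic {C : Type*} [Group C] [Finite C] {p : ℕ} [Fact p.Prime] (hC : IsPGroup p C) [IsCyclic C]
    {M M' : Subgroup C} (hM : IsCoatom M) (hM' : IsCoatom M') : M = M' := by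
  classical
  obtain ⟨c, hc⟩ := IsCyclic.exists_generator (α := C)
  have hordc : orderOf c = Nat.card C := orderOf_eq_card_of_forall_mem_zpowers hc
  have key : ∀ K : Subgroup C, IsCoatom K → K = zpowers (c ^ p) := by
    intro K hK
    obtain ⟨h1, h2, -⟩ := Cfsg.Agent.Lib.PGrp.coatom_index_of_isPGroup hC hK
    have h3 : zpowers (c ^ p) ≤ K := by
      rw [zpowers_le, ← h2]; exact Subgroup.pow_index_mem K c
    symm
    refine Subgroup.eq_of_le_of_card_ge h3 ?_
    have h4 : Nat.card K * p = Nat.card C := by rw [← h2]; exact K.card_mul_index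
    have hpd : p ∣ orderOf c := by rw [hordc, ← h4]; exact dvd_mul_left _ _
    have h5 : orderOf (c ^ p) = orderOf c / p := orderOf_pow_of_dvd (Fact.out : p.Prime).ne_zero hpd
    rw [Nat.card_zpowers, h5, hordc, ← h4, Nat.mul_div_cancel _ (Fact.out : p.Prime).pos]
  rw [key M hM, key M' hM']

theorem le_frattini_of_cyclic {C : Type*} [Group C] [Finite C] {p : ℕ} [Fact p.Prime] (hC : IsPGroup p C) [IsCyclic C]
    {U : Subgroup C} (hU : U ≠ ⊤) : U ≤ frattini C := by
  rw [Cfsg.Agent.Lib.H1Frat.le_frattini_iff]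
  intro M hM
  obtain h | ⟨M₀, hM₀, hle⟩ := eq_top_or_exists_le_coatom U
  · exact absurd h hU
  · rw [coatom_unique_of_cyclic hC hM hM₀]; exact hle

/-- `R ∩ P ≤ Φ(P)` if `P` is cyclic not contained in `R`. -/
theorem inf_le_frattini_of_cyclic {G : Type*} [Group G] [Finite G] {p : ℕ} [Fact p.Prime] (P : Sylow p G) (R : Subgroup G)
    (hP : IsCyclic P) (hne : ¬ (P : Subgroup G) ≤ R) :
    R ⊓ (P : Subgroup G) ≤ (frattini P).map (P : Subgroup G).subtype := by
  intro x hx
  obtain ⟨hx1, hx2⟩ := mem_inf.1 hx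
  refine ⟨⟨x, hx2⟩, ?_, rfl⟩
  have hU : R.subgroupOf (P : Subgroup G) ≠ ⊤ := by
    intro h
    exact hne (Subgroup.subgroupOf_eq_top.1 h)
  exact le_frattini_of_cyclic P.2 hU hx1

/-- The automorphism lemma for a cyclic Sylow. -/
theorem normalizer_le_centralizer_of_cyclic_of_central {H : Type*} [Group H] [Finite H] {p : ℕ} [Fact p.Prime]
    (P : Sylow p H) (hc : IsCyclic P) (z : H) (hz : z ∈ center H) (hzP : z ∈ (P : Subgroup H)) (hzo : orderOf z = p) :
    normalizer ((P : Subgroup H) : Set H) ≤ centralizer ((P : Subgroup H) : Set H) := by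
  classical
  obtain ⟨c, hc⟩ := IsCyclic.exists_generator (α := (P : Subgroup H))
  have hPc : (P : Subgroup H) = zpowers (c : H) := by
    apply le_antisymm
    · intro x hx
      obtain ⟨k, hk⟩ := hc ⟨x, hx⟩
      refine ⟨k, ?_⟩
      have := congrArg Subtype.val hk
      simpa using this
    · rw [zpowers_le]; exact c.2
  -- Normalizing `P` reduces to the generator
  have hcomm : ∀ g : H, g * (c : H) = (c : H) * g → g ∈ centralizer ((P : Subgroup H) : Set H) := by
    intro g hg
    rw [mem_centralizer_iff]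
    intro x hx
    have hx' : x ∈ zpowers (c : H) := hPc ▸ hx
    obtain ⟨k, rfl⟩ := hx'
    exact ((Commute.zpow_left (show Commute (c : H) g from hg.symm) k))
  obtain ⟨m, hm⟩ := IsPGroup.iff_card.1 P.2
  have hordc : orderOf (c : H) = p ^ m := by
    rw [← hm, Subgroup.orderOf_coe]
    exact orderOf_eq_card_of_forall_mem_zpowers hc
  have hm0 : m ≠ 0 := by
    rintro rfl
    have hcone : orderOf (c : H) = 1 := by simpa using hordc
    rw [orderOf_eq_one_iff] at hcone
    have hz' : z ∈ zpowers (c : H) := hPc ▸ hzP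
    rw [hcone, zpowers_one_eq_bot, mem_bot] at hz'
    rw [hz', orderOf_one] at hzo
    exact (Fact.out : p.Prime).one_lt.ne hzo
  intro g hg
  obtain ⟨a, b, ha, hb, hab, ⟨k, hk⟩, hbc⟩ := Cfsg.Agent.Lib.FGSBasic.exists_p_decomp p g
  have hnorm : ∀ x : H, x ∈ zpowers g → x ∈ normalizer ((P : Subgroup H) : Set H) := by
    intro x hx
    exact (Subgroup.zpowers_le.2 hg) hx
  -- the `p`-part lies in `P`
  have ha1 : a ∈ centralizer ((P : Subgroup H) : Set H) := by
    have ha2 : a ∈ (P : Subgroup H) := by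
      have hpa : IsPGroup p (zpowers a) := by
        apply IsPGroup.of_card (n := k)
        rw [Nat.card_zpowers, hk]
      have hle : zpowers a ≤ normalizer ((P : Subgroup H) : Set H) := by
        rw [zpowers_le]; exact hnorm a ha
      have hsup := IsPGroup.to_sup_of_normal_right' hpa P.2 hle
      have h3 := P.3 hsup le_sup_right
      rw [← h3]
      exact (le_sup_left : zpowers a ≤ _) (mem_zpowers a)
    apply hcomm
    have ha2' : a ∈ zpowers (c : H) := hPc ▸ ha2
    obtain ⟨j, rfl⟩ := ha2'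
    exact (Commute.zpow_left (Commute.refl (c : H)) j)
  -- the `p'`-part
  have hb1 : b ∈ centralizer ((P : Subgroup H) : Set H) := by
    have hbn := hnorm b hb
    have hcP : (c : H) ∈ (P : Subgroup H) := c.2
    have h1 : b * (c : H) * b⁻¹ ∈ zpowers (c : H) := by
      rw [← hPc]
      exact (mem_normalizer_iff.1 hbn (c : H)).1 hcP
    have hcfin : IsOfFinOrder (c : H) := by
      rw [← orderOf_pos_iff]; rw [hordc]; exact pow_pos (Fact.out : p.Prime).pos _
    obtain ⟨k', hk'⟩ := (mem_powers_iff_mem_zpowers.2 h1)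
    simp only at hk'
    have h2 : b * (c : H) = (c : H) ^ k' * b := by
      rw [hk']; group
    have hsemi : ∀ n : ℕ, b * (c : H) ^ n = (c : H) ^ (k' * n) * b := by
      intro n
      have := (show SemiconjBy b (c : H) ((c : H) ^ k') from h2).pow_right n
      rw [pow_mul]
      exact this
    have hsemi2 : ∀ j : ℕ, b ^ j * (c : H) = (c : H) ^ (k' ^ j) * b ^ j := by
      intro j
      induction j with
      | zero => simp
      | succ j ih =>
        rw [pow_succ', mul_assoc, ih, ← mul_assoc, hsemi, mul_assoc, pow_succ' k' j]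
    -- `k' ≡ 1 mod p`
    have hz' : z ∈ zpowers (c : H) := hPc ▸ hzP
    obtain ⟨j, hj⟩ := (mem_powers_iff_mem_zpowers.2 hz')
    simp only at hj
    have h3 : z ^ k' * b = z * b := by
      have h31 : b * z = z * b := ((mem_center_iff.1 hz) b)
      calc z ^ k' * b = (c : H) ^ (k' * j) * b := by rw [← hj, ← pow_mul, mul_comm]
        _ = b * (c : H) ^ j := (hsemi j).symm
        _ = b * z := by rw [hj]
        _ = z * b := h31
    have h4 : z ^ k' = z := mul_right_cancel h3
    have hk'mod : k' ≡ 1 [MOD p] := by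
      rw [← hzo, ← pow_eq_pow_iff_modEq, h4, pow_one]
    have hdv : ((p : ℕ) : ℤ) ∣ (k' : ℤ) - 1 := by
      have := (Nat.modEq_iff_dvd.1 hk'mod.symm)
      simpa using this
    obtain ⟨m₁, rfl⟩ : ∃ m₁, m = m₁ + 1 := Nat.exists_eq_succ_of_ne_zero hm0
    have hdv2 := dvd_sub_pow_of_dvd_sub hdv m₁
    have hmod2 : 1 ≡ k' ^ p ^ m₁ [MOD orderOf (c : H)] := by
      rw [hordc, Nat.modEq_iff_dvd]
      simpa using hdv2
    have h5 : (c : H) ^ (k' ^ p ^ m₁) = c := by
      have := (pow_eq_pow_iff_modEq (x := (c : H))).2 hmod2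
      rw [pow_one] at this
      exact this.symm
    have h6 : b ^ (p ^ m₁) * (c : H) = (c : H) * b ^ (p ^ m₁) := by
      rw [hsemi2, h5]
    have hcop : Nat.Coprime (p ^ m₁) (orderOf b) := Nat.Coprime.pow_left _ hbc.symm
    obtain ⟨e, he⟩ := exists_pow_eq_self_of_coprime hcop
    apply hcomm
    rw [← he]
    exact ((Commute.pow_left (show Commute (b ^ p ^ m₁) (c : H) from h6) e))
  rw [← hab]
  exact mul_mem ha1 hb1

end Cfsg.Agent.Lib.PTate

namespace Cfsg.Agent.Lib.PTate

open Cfsg Subgroup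

/-- In a perfect group, a central subgroup meets a Sylow inside its Frattini subgroup. -/
theorem central_inf_le_frattini {H : Type*} [Group H] [Finite H] (A : Subgroup H) (hc : A ≤ center H)
    (hH : commutator H = ⊤) {p : ℕ} [Fact p.Prime] (P : Sylow p H) :
    A ⊓ (P : Subgroup H) ≤ (frattini P).map (P : Subgroup H).subtype := by
  intro x hx
  obtain ⟨hx1, hx2⟩ := Subgroup.mem_inf.1 hx
  refine ⟨⟨x, hx2⟩, ?_, rfl⟩
  change (⟨x, hx2⟩ : (P : Subgroup H)) ∈ frattini (P : Subgroup H)
  rw [Cfsg.Agent.Lib.H1Frat.mem_frattini]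
  intro M hM
  obtain ⟨hMn, hMi, hMc⟩ := Cfsg.Agent.Lib.PGrp.coatom_index_of_isPGroup P.2 hM
  haveI := hMn
  exact Cfsg.Agent.Lib.PTate.mem_coatom_of_central_of_perfect (P : Subgroup H) M hMi hMc hH (hc hx1) hx2 P.not_dvd_index

end Cfsg.Agent.Lib.PTate
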