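import Cfsg.Agent.Lib.PChain
/-!
Stabiliser chain certificates for permutation groups: the code of an element is the list of images of base points.
-/
set_option autoImplicit false
set_option linter.unusedSimpArgs false
set_option linter.unusedVariables false
set_option linter.style.haveILetI false

namespace Cfsg.Agent.Lib.PermChain
open Cfsg.Agent.Lib.PChain

/-- the condition that two functions are inverse permutations of `[0, N)` -/
noncomputable def permOK (N : ℕ) (f g : ℕ → ℕ) : Bool :=
  allR (fun p => band(Nat.blt (f p) N, band(Nat.blt (g p) N, band(Nat.beq (g (f p)) p, Nat.beq (f (g p)) p)))) 0 N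

theorem permOK_spec {N : ℕ} {f g : ℕ → ℕ} (h : permOK N f g = true) {p : ℕ} (hp : p < N) :
    f p < N ∧ g p < N ∧ g (f p) = p ∧ f (g p) = p := by
  have := allR_spec h p (Nat.zero_le _) hp
  simp only [band_eq, Bool.and_eq_true, Nat.blt_eq, Nat.beq_eq] at this
  exact ⟨this.1, this.2.1, this.2.2.1, this.2.2.2⟩

/-- the permutation given by two functions -/
def mkP (N : ℕ) (f g : ℕ → ℕ) (h : permOK N f g = true) : Equiv.Perm (Fin N) where
  toFun p := ⟨f p, (permOK_spec h p.2).1⟩
  invFun p := ⟨g p, (permOK_spec h p.2).2.1⟩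
  left_inv p := Fin.ext (permOK_spec h p.2).2.2.1
  right_inv p := Fin.ext (permOK_spec h p.2).2.2.2

/-- decoding a packed list, with a mask and a width -/
noncomputable def decL (a w m : ℕ) : ℕ → List ℕ :=
  Nat.rec (motive := fun _ => ℕ → List ℕ) (fun _ => [])
    (fun _ ih n => Nat.land n a :: ih (Nat.shiftRight n w)) m

/-- `List.map`, with a cheap reduction -/
noncomputable def lmap (f : ℕ → ℕ) (l : List ℕ) : List ℕ :=
  List.rec (motive := fun _ => List ℕ) [] (fun a _ ih => f a :: ih) l

theorem lmap_eq (f : ℕ → ℕ) (l : List ℕ) : lmap f l = l.map f := by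
  induction l with
  | nil => rfl
  | cons a l ih =>
    show f a :: lmap f l = _
    rw [ih]
    rfl

/-- `List.getD _ _ 0`, with a cheap reduction -/
noncomputable def lget (j : ℕ) : List ℕ → ℕ :=
  Nat.rec (motive := fun _ => List ℕ → ℕ)
    (fun l => List.rec (motive := fun _ => ℕ) 0 (fun a _ _ => a) l)
    (fun _ ih l => List.rec (motive := fun _ => ℕ) 0 (fun _ s _ => ih s) l) j

theorem lget_eq (j : ℕ) (l : List ℕ) : lget j l = l.getD j 0 := by
  induction j generalizing l with
  | zero =>
    cases l with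
    | nil => rfl
    | cons a l => rfl
  | succ j ih =>
    cases l with
    | nil => rfl
    | cons a l =>
      show lget j l = _
      rw [ih]
      simp

/-- The data of a chain for a permutation group. -/
structure PD where
  N : ℕ
  L : ℕ
  k : ℕ
  F : ℕ
  σ : ℕ → ℕ → ℕ
  inv0 : ℕ → ℕ
  B : List ℕ
  off : ℕ → ℕ
  lt : ℕ → ℕ
  par : ℕ → ℕ
  lab : ℕ → ℕ
  V : ℕ → List ℕ
  idx : ℕ → ℕ → ℕ
  hw : ℕ → List ℕ

/-- action of a letter on points, the identity for letters out of range -/
noncomputable def letter (D : PD) (x p : ℕ) : ℕ := Bool.rec (motive := fun _ => ℕ) p (D.σ x p) (Nat.blt x D.L)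

/-- the inverse letter -/
noncomputable def invW (D : PD) (x : ℕ) : ℕ := Bool.rec (motive := fun _ => ℕ) x (D.inv0 x) (Nat.blt x D.L)

/-- equality of lists of numbers -/
noncomputable def leq (l : List ℕ) : List ℕ → Bool :=
  List.rec (motive := fun _ => List ℕ → Bool)
    (fun t => List.rec (motive := fun _ => Bool) true (fun _ _ _ => false) t)
    (fun a _ ih t => List.rec (motive := fun _ => Bool) false (fun b s _ => band(Nat.beq a b, ih s)) t) l

theorem leq_sound : ∀ a b, leq a b = true → a = b
  | [], [], _ => rfl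
  | a :: s, b :: t, h => by
    have h2 : band(Nat.beq a b, leq s t) = true := h
    rw [band_eq, Bool.and_eq_true, Nat.beq_eq] at h2
    rw [h2.1, leq_sound s t h2.2]
  | [], _ :: _, h => by cases h
  | _ :: _, [], h => by cases h

/-- the action of a letter on a code -/
noncomputable def stepL (D : PD) (t : List ℕ) (x : ℕ) : List ℕ :=
  Bool.rec (motive := fun _ => List ℕ) t (lmap (D.σ x) t) (Nat.blt x D.L)

theorem stepL_eq (D : PD) (t : List ℕ) (x : ℕ) : stepL D t x = t.map (letter D x) := by
  unfold stepL letter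
  cases h : Nat.blt x D.L
  · simp
  · simp [lmap_eq]

/-- the chain data -/
noncomputable def cd (D : PD) : CD (List ℕ) where
  step := stepL D
  nd j t := D.idx j (lget j t)
  par := D.par
  lab := D.lab
  inv := invW D
  V := D.V
  one := D.B
  eqOne t := leq t D.B
  ceq := leq
  off := D.off
  lt := D.lt
  k := D.k
  F := D.F

/-- a letter is fine -/
noncomputable def letterY (D : PD) (x : ℕ) : Bool :=
  band(Nat.blt (D.inv0 x) D.L, band(Nat.beq (D.inv0 (D.inv0 x)) x, permOK D.N (D.σ x) (D.σ (D.inv0 x))))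

/-- the letters are fine -/
def lettersOK (D : PD) : Prop := RangeOK (letterY D) 0 D.L

/-- the walk of a point along a word -/
noncomputable def walk (D : PD) (p : ℕ) (w : List ℕ) : ℕ :=
  List.rec (motive := fun _ => ℕ → ℕ) (fun p => p) (fun x _ ih p => ih (letter D x p)) w p

theorem walk_nil (D : PD) (p : ℕ) : walk D p [] = p := rfl

theorem walk_cons (D : PD) (p x : ℕ) (w : List ℕ) : walk D p (x :: w) = walk D (letter D x p) w := rfl

/-- a letter of the next level is a word in the letters of the level, and fixes the base point -/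
noncomputable def hwY (D : PD) (j y : ℕ) : Bool :=
  and (Nat.beq (letter D y (D.B.getD j 0)) (D.B.getD j 0))
      (and ((D.hw y).all fun z => or (and (Nat.ble (D.lt j) z) (Nat.blt z (D.lt (j + 1))))
        (and (Nat.ble (D.lt j) (invW D z)) (Nat.blt (invW D z) (D.lt (j + 1)))))
      (allR (fun p => Nat.beq (letter D y p) (walk D p (D.hw y))) 0 D.N))

/-- the base points are points -/
def baseOK (D : PD) : Bool := D.B.all fun b => Nat.blt b D.N

/-- the numerical conditions -/
def numOK (D : PD) : Bool :=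
  and (Nat.beq (D.lt D.k) (D.lt (D.k + 1))) (and (Nat.ble (D.off D.k) D.F) (Nat.beq (D.off 0) 0))

/-- the letters as permutations: the word `x y` acts on points by first `x`, then `y` -/
noncomputable def gp (D : PD) (x : ℕ) : Equiv.Perm (Fin D.N) :=
  if h : permOK D.N (letter D x) (letter D (invW D x)) = true then (mkP _ _ _ h)⁻¹ else 1

/-- the image of a point under the inverse of an element -/
def pv {N : ℕ} (g : Equiv.Perm (Fin N)) (b : ℕ) : ℕ := if h : b < N then (g⁻¹ ⟨b, h⟩).val else b

/-- the code of an element -/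
def enc (D : PD) (g : Equiv.Perm (Fin D.N)) : List ℕ := D.B.map (pv g)

section letters
variable {D : PD}

theorem letter_perm (hL : lettersOK D) {x : ℕ} (hx : x < D.L) :
    permOK D.N (letter D x) (letter D (invW D x)) = true := by
  have h1 := hL x (Nat.zero_le _) hx
  simp only [letterY, band_eq, Bool.and_eq_true, Nat.blt_eq, Nat.beq_eq] at h1
  have hb : Nat.blt x D.L = true := by simp [Nat.blt_eq, hx]
  have hb2 : Nat.blt (D.inv0 x) D.L = true := by simp [Nat.blt_eq, h1.1]
  have e1 : letter D x = D.σ x := by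
    funext p
    simp only [letter, hb]
  have e2 : invW D x = D.inv0 x := by simp only [invW, hb]
  have e3 : letter D (D.inv0 x) = D.σ (D.inv0 x) := by
    funext p
    simp only [letter, hb2]
  rw [e1, e2, e3]
  exact h1.2.2

theorem letter_of_ge {x : ℕ} (hx : ¬ x < D.L) (p : ℕ) : letter D x p = p := by
  have hb : Nat.blt x D.L = false := by
    rw [← Bool.not_eq_true, Nat.blt_eq]
    exact hx
  simp only [letter, hb]

theorem invW_of_ge {x : ℕ} (hx : ¬ x < D.L) : invW D x = x := by
  have hb : Nat.blt x D.L = false := by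
    rw [← Bool.not_eq_true, Nat.blt_eq]
    exact hx
  simp only [invW, hb]

theorem invW_lt (hL : lettersOK D) {x : ℕ} (hx : x < D.L) : invW D x < D.L ∧ invW D (invW D x) = x := by
  have h1 := hL x (Nat.zero_le _) hx
  simp only [letterY, band_eq, Bool.and_eq_true, Nat.blt_eq, Nat.beq_eq] at h1
  have hb : Nat.blt x D.L = true := by simp [Nat.blt_eq, hx]
  have hb2 : Nat.blt (D.inv0 x) D.L = true := by simp [Nat.blt_eq, h1.1]
  have e2 : invW D x = D.inv0 x := by simp only [invW, hb]
  have e3 : invW D (D.inv0 x) = D.inv0 (D.inv0 x) := by simp only [invW, hb2]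
  rw [e2, e3]
  exact ⟨h1.1, h1.2.1⟩

theorem gp_inv_apply (hL : lettersOK D) (x : ℕ) (p : Fin D.N) : (((gp D x)⁻¹ p : Fin D.N) : ℕ) = letter D x p := by
  unfold gp
  split_ifs with h
  · simp [mkP]
  · by_cases hx : x < D.L
    · exact absurd (letter_perm hL hx) h
    · rw [letter_of_ge hx]
      simp

theorem letter_lt (hL : lettersOK D) (x : ℕ) {p : ℕ} (hp : p < D.N) : letter D x p < D.N := by
  have := gp_inv_apply hL x ⟨p, hp⟩
  rw [← this]
  exact Fin.is_lt _

theorem letter_invW (hL : lettersOK D) (x : ℕ) {p : ℕ} (hp : p < D.N) : letter D (invW D x) (letter D x p) = p := by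
  by_cases hx : x < D.L
  · exact (permOK_spec (letter_perm hL hx) hp).2.2.1
  · rw [invW_of_ge hx, letter_of_ge hx, letter_of_ge hx]

theorem gp_invW (hL : lettersOK D) (x : ℕ) : gp D (invW D x) = (gp D x)⁻¹ := by
  have h : (gp D (invW D x))⁻¹ = gp D x := by
    ext p
    rw [gp_inv_apply hL]
    have h1 := gp_inv_apply hL x (gp D x p)
    have h2 : (gp D x)⁻¹ (gp D x p) = p := by simp
    rw [h2] at h1
    rw [h1, letter_invW hL x (Fin.is_lt _)]
  rw [← h, inv_inv]

/-- evaluation of a word -/
noncomputable def evW (D : PD) : List ℕ → Equiv.Perm (Fin D.N)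
  | [] => 1
  | x :: w => gp D x * evW D w

theorem evW_inv_apply (hL : lettersOK D) (w : List ℕ) (p : Fin D.N) :
    (((evW D w)⁻¹ p : Fin D.N) : ℕ) = walk D p w := by
  induction w generalizing p with
  | nil => simp [evW, walk_nil]
  | cons x w ih =>
    simp only [evW, walk_cons, mul_inv_rev, Equiv.Perm.coe_mul, Function.comp_apply]
    rw [ih]
    have h1 := gp_inv_apply hL x p
    have h2 : (⟨letter D x p, letter_lt hL x p.2⟩ : Fin D.N) = (gp D x)⁻¹ p := Fin.ext h1.symm
    rw [← h1]

theorem enc_one' : enc D 1 = D.B := by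
  unfold enc
  conv_rhs => rw [← List.map_id D.B]
  apply List.map_congr_left
  intro b _
  simp only [pv, id]
  split_ifs <;> simp

theorem pv_mul (hL : lettersOK D) (g : Equiv.Perm (Fin D.N)) (x : ℕ) {b : ℕ} (hb : b < D.N) :
    pv (g * gp D x) b = letter D x (pv g b) := by
  simp only [pv, dif_pos hb, mul_inv_rev, Equiv.Perm.coe_mul, Function.comp_apply]
  rw [gp_inv_apply hL]

theorem enc_step' (hL : lettersOK D) (hB : baseOK D = true) (g : Equiv.Perm (Fin D.N)) (x : ℕ) :
    enc D (g * gp D x) = (enc D g).map (letter D x) := by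
  unfold enc
  rw [List.map_map]
  apply List.map_congr_left
  intro b hb
  have h1 := (List.all_eq_true.1 hB) b hb
  simp only [Nat.blt_eq] at h1
  exact pv_mul hL g x h1

/-- the subgroup at a level -/
noncomputable abbrev KK (D : PD) (j : ℕ) : Subgroup (Equiv.Perm (Fin D.N)) := K (cd D) (gp D) j

theorem gp_mem_level (hL : lettersOK D) {j z : ℕ}
    (hz : (D.lt j ≤ z ∧ z < D.lt (j + 1)) ∨ (D.lt j ≤ invW D z ∧ invW D z < D.lt (j + 1))) : gp D z ∈ KK D j := by
  rcases hz with hz | hz
  · exact Subgroup.subset_closure ⟨z, hz, rfl⟩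
  · have h1 : gp D (invW D z) ∈ KK D j := Subgroup.subset_closure ⟨_, hz, rfl⟩
    rw [gp_invW hL] at h1
    simpa using h1

theorem evW_mem (hL : lettersOK D) {j : ℕ} {w : List ℕ}
    (hw : w.all (fun z => or (and (Nat.ble (D.lt j) z) (Nat.blt z (D.lt (j + 1))))
        (and (Nat.ble (D.lt j) (invW D z)) (Nat.blt (invW D z) (D.lt (j + 1))))) = true) : evW D w ∈ KK D j := by
  induction w with
  | nil => exact one_mem _
  | cons x w ih =>
    simp only [List.all_cons, Bool.and_eq_true, Bool.or_eq_true, Nat.ble_eq, Nat.blt_eq] at hw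
    exact mul_mem (gp_mem_level hL hw.1) (ih hw.2)

/-- the checks for the letters of the levels -/
def hwAll (D : PD) : Prop := ∀ j, j < D.k → RangeOK (hwY D j) (D.lt (j + 1)) (D.lt (j + 2))

theorem gp_eq_evW (hL : lettersOK D) {j y : ℕ}
    (h : allR (fun p => Nat.beq (letter D y p) (walk D p (D.hw y))) 0 D.N = true) : gp D y = evW D (D.hw y) := by
  have h2 : (gp D y)⁻¹ = (evW D (D.hw y))⁻¹ := by
    ext p
    rw [gp_inv_apply hL, evW_inv_apply hL]
    have := allR_spec h p (Nat.zero_le _) p.2
    simpa using this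
  exact inv_inj.1 h2

theorem hw_spec (hL : lettersOK D) (hH : hwAll D) {j y : ℕ} (hj : j < D.k)
    (hy : D.lt (j + 1) ≤ y) (hy2 : y < D.lt (j + 2)) :
    gp D y ∈ KK D j ∧ letter D y (D.B.getD j 0) = D.B.getD j 0 := by
  have h2 := hH j hj y hy hy2
  simp only [hwY, Bool.and_eq_true, Nat.beq_eq] at h2
  refine ⟨?_, h2.1⟩
  rw [gp_eq_evW hL (j := j) h2.2.2]
  exact evW_mem hL h2.2.1

theorem KK_incl (hL : lettersOK D) (hH : hwAll D) {j : ℕ} (hj : j < D.k) : KK D (j + 1) ≤ KK D j := by
  refine (Subgroup.closure_le _).2 ?_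
  rintro _ ⟨y, ⟨h1, h2⟩, rfl⟩
  exact (hw_spec hL hH hj h1 h2).1

/-- the elements of the next level fix the base point -/
theorem KK_fix (hL : lettersOK D) (hH : hwAll D) {j : ℕ} (hj : j < D.k) (hb : D.B.getD j 0 < D.N) :
    ∀ h ∈ KK D (j + 1), h ⟨_, hb⟩ = ⟨_, hb⟩ := by
  intro h hh
  have hle : KK D (j + 1) ≤ MulAction.stabilizer (Equiv.Perm (Fin D.N)) (⟨_, hb⟩ : Fin D.N) := by
    refine (Subgroup.closure_le _).2 ?_
    rintro _ ⟨y, ⟨h1, h2⟩, rfl⟩
    have h3 := (hw_spec hL hH hj h1 h2).2
    have h4 := gp_inv_apply hL y ⟨_, hb⟩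
    simp only at h4
    rw [h3] at h4
    show (gp D y) _ = _
    have h5 : (gp D y)⁻¹ ⟨_, hb⟩ = ⟨_, hb⟩ := Fin.ext h4
    rw [Equiv.Perm.inv_eq_iff_eq] at h5
    exact h5.symm
  exact hle hh

theorem getD_enc (g : Equiv.Perm (Fin D.N)) (j : ℕ) (hB : baseOK D = true) :
    (enc D g).getD j 0 = if j < D.B.length then pv g (D.B.getD j 0) else 0 := by
  unfold enc
  split_ifs with h
  · simp [List.getD, h]
  · simp [List.getD, h]

/-- the semantic assumptions hold -/
theorem sem (hL : lettersOK D) (hB : baseOK D = true) (hH : hwAll D) (hN : numOK D = true)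
    (hfaith : ∀ g ∈ KK D 0, enc D g = D.B → g = 1) : Sem (cd D) (gp D) (enc D) := by
  simp only [numOK, Bool.and_eq_true, Nat.beq_eq, Nat.ble_eq] at hN
  refine
    { enc_one := enc_one'
      enc_step := fun g x => (enc_step' hL hB g x).trans (stepL_eq D _ x).symm
      gen_inv := gp_invW hL
      ceq_sound := leq_sound
      eqOne_sound := fun g hg h => hfaith g hg (leq_sound _ _ h)
      incl := fun j hj => KK_incl hL hH hj
      nd_inv := ?_
      top := hN.1
      F_big := hN.2.1
      off0 := hN.2.2 }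
  intro j hj h hh g
  show D.idx j (lget j (enc D (h * g))) = D.idx j (lget j (enc D g))
  rw [lget_eq, lget_eq]
  congr 1
  rw [getD_enc _ _ hB, getD_enc _ _ hB]
  split_ifs with hlt
  · have hb : D.B.getD j 0 < D.N := by
      have h1 := (List.all_eq_true.1 hB) (D.B.getD j 0) (by
        simp [List.getD, hlt])
      simpa using h1
    have h2 := KK_fix hL hH hj hb h hh
    simp only [pv, dif_pos hb, mul_inv_rev, Equiv.Perm.coe_mul, Function.comp_apply]
    have h3 : h⁻¹ ⟨_, hb⟩ = ⟨_, hb⟩ := by
      rw [Equiv.Perm.inv_eq_iff_eq]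
      exact h2.symm
    rw [h3]
  · rfl

/-- the chain checks -/
structure Cert (D : PD) : Prop where
  letters : lettersOK D
  base : baseOK D = true
  hw : hwAll D
  num : numOK D = true
  shape : shapeOK (cd D) = true
  levels : ∀ j, j < D.k → RangeOK (levelP (cd D) j) (D.off j) (D.off (j + 1))
  faith : ∀ g ∈ KK D 0, enc D g = D.B → g = 1

theorem Cert.sem (hC : Cert D) : Sem (cd D) (gp D) (enc D) :=
  PermChain.sem hC.letters hC.base hC.hw hC.num hC.faith

theorem Cert.checked (hC : Cert D) : Checked (cd D) := ⟨hC.shape, hC.levels⟩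

/-- the order of a group of the chain -/
theorem Cert.card (hC : Cert D) {r j : ℕ} (h : j + r = D.k) : Finite (KK D j) ∧
    Nat.card (KK D j) = ∏ i ∈ Finset.range r, (D.off (j + i + 1) - D.off (j + i)) :=
  card_chain hC.sem hC.checked r j h

/-- the group is faithful on the points: a simple case -/
theorem faith_of_all (hall : ∀ p, p < D.N → p ∈ D.B) : ∀ g : Equiv.Perm (Fin D.N), enc D g = D.B → g = 1 := by
  intro g hg
  ext p
  have h1 : pv g p = p := by
    have h2 : ∀ (l : List ℕ), (p : ℕ) ∈ l → l.map (pv g) = l → pv g (p : ℕ) = p := by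
      intro l
      induction l with
      | nil => simp
      | cons a l ih =>
        intro h3 h4
        simp only [List.map_cons, List.cons.injEq] at h4
        rcases List.mem_cons.1 h3 with h5 | h5
        · rw [h5]; exact h4.1
        · exact ih h5 h4.2
    exact h2 D.B (hall p p.2) hg
  have h3 : g⁻¹ p = p := by
    simp only [pv, p.2, dif_pos] at h1
    exact Fin.ext h1
  have h4 : g p = p := by
    rw [Equiv.Perm.inv_eq_iff_eq] at h3
    exact h3.symm
  simp [h4]

end letters

section simple
/-- a criterion for simplicity: a faithful primitive action, with the elements of `p`-power order generating and `p` not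
dividing the order of a point stabiliser -/
theorem isSimple_of_coatom {G X : Type*} [Group G] [Finite G] [MulAction G X] [Nontrivial G]
    [FaithfulSMul G X] [MulAction.IsPretransitive G X] (x₀ : X) (hS : IsCoatom (MulAction.stabilizer G x₀))
    (p : ℕ) (hp : p.Prime) (hpS : ¬ p ∣ Nat.card (MulAction.stabilizer G x₀))
    (hgen : Subgroup.closure {g : G | ∃ e : ℕ, g ^ (p ^ e) = 1} = ⊤) : IsSimpleGroup G := by
  classical
  refine ⟨fun N hN => ?_⟩
  by_cases hbot : N = ⊥
  · exact Or.inl hbot
  right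
  let S := MulAction.stabilizer G x₀
  have hnle : ¬ N ≤ S := by
    intro hle
    apply hbot
    rw [eq_bot_iff]
    intro n hn
    rw [Subgroup.mem_bot]
    apply FaithfulSMul.eq_of_smul_eq_smul (α := X)
    intro y
    obtain ⟨g, rfl⟩ := MulAction.exists_smul_eq G x₀ y
    rw [one_smul]
    have h1 : g⁻¹ * n * g ∈ N := by
      have := hN.conj_mem n hn g⁻¹
      simpa using this
    have h2 : (g⁻¹ * n * g) • x₀ = x₀ := hle h1
    calc n • g • x₀ = g • (g⁻¹ * n * g) • x₀ := by simp [mul_smul]
      _ = g • x₀ := by rw [h2]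
  have hsup : S ⊔ N = ⊤ := by
    apply hS.2
    have hlt : S < S ⊔ N := lt_of_le_of_ne le_sup_left (fun h => hnle (by rw [show S = S ⊔ N from h]; exact le_sup_right))
    exact hlt
  -- the quotient has order prime to `p`
  let f : S →* G ⧸ N := (QuotientGroup.mk' N).comp S.subtype
  have hf : Function.Surjective f := by
    intro q
    obtain ⟨g, rfl⟩ := QuotientGroup.mk'_surjective N q
    have hg : g ∈ S ⊔ N := by rw [hsup]; trivial
    rw [Subgroup.mem_sup_of_normal_right] at hg
    obtain ⟨h, hh, n, hn, rfl⟩ := hg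
    refine ⟨⟨h, hh⟩, ?_⟩
    show (QuotientGroup.mk' N) h = _
    have hn1 : (QuotientGroup.mk' N) n = 1 := (QuotientGroup.eq_one_iff n).2 hn
    rw [map_mul, hn1, mul_one]
  have hdvd : Nat.card (G ⧸ N) ∣ Nat.card S := Subgroup.card_dvd_of_surjective f hf
  have hcop : Nat.Coprime p (Nat.card (G ⧸ N)) := by
    rw [Nat.Prime.coprime_iff_not_dvd hp]
    exact fun h => hpS (h.trans hdvd)
  rw [eq_top_iff, ← hgen, Subgroup.closure_le]
  rintro g ⟨e, he⟩
  show g ∈ N
  have h1 : orderOf (g : G ⧸ N) ∣ p ^ e := by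
    apply orderOf_dvd_of_pow_eq_one
    rw [← QuotientGroup.mk_pow, he, QuotientGroup.mk_one]
  have h2 : orderOf (g : G ⧸ N) ∣ Nat.card (G ⧸ N) := orderOf_dvd_natCard _
  have h3 : orderOf (g : G ⧸ N) = 1 := by
    have h4 : Nat.Coprime (p ^ e) (Nat.card (G ⧸ N)) := hcop.pow_left e
    exact Nat.eq_one_of_dvd_coprimes h4 h1 h2
  have h5 : (g : G ⧸ N) = 1 := orderOf_eq_one_iff.1 h3
  exact (QuotientGroup.eq_one_iff g).1 h5

end simple

end Cfsg.Agent.Lib.PermChain
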