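import Cfsg.Agent.Lib.PermChain
import Cfsg.Agent.Lib.BlockCrit
/-!
Permutation chains: faithfulness on a base through a colour refinement on an invariant graph;
transitivity, primitivity and simplicity.
-/
set_option autoImplicit false
set_option linter.unusedSimpArgs false
set_option linter.unusedVariables false
set_option linter.style.haveILetI false

namespace Cfsg.Agent.Lib.PermChain2
open Cfsg.Agent.Lib.PChain Cfsg.Agent.Lib.PermChain

/-- the sum of `f i` for `i < k` -/
def sumA (f : ℕ → ℕ) : ℕ → ℕ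
  | 0 => 0
  | k + 1 => Nat.add (sumA f k) (f k)

theorem sumA_eq (f : ℕ → ℕ) (k : ℕ) : sumA f k = ∑ i ∈ Finset.range k, f i := by
  induction k with
  | zero => rfl
  | succ k ih => rw [Finset.sum_range_succ, ← ih]; rfl

/-- the mask of the values of `f` -/
noncomputable def maskF (f : ℕ → ℕ) (k : ℕ) : ℕ :=
  Nat.rec (motive := fun _ => ℕ) 0 (fun i ih => Nat.lor ih (Nat.shiftLeft 1 (f i))) k

theorem testBit_maskF (f : ℕ → ℕ) (k q : ℕ) :
    (maskF f k).testBit q = true ↔ ∃ i, i < k ∧ f i = q := by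
  induction k with
  | zero =>
    have h : maskF f 0 = 0 := rfl
    simp [h]
  | succ k ih =>
    have h1 : maskF f (k + 1) = maskF f k ||| (1 <<< f k) := rfl
    rw [h1, Nat.testBit_or, Bool.or_eq_true, ih, Nat.one_shiftLeft, Nat.testBit_two_pow]
    simp only [decide_eq_true_eq]
    constructor
    · rintro (⟨i, hi, h⟩ | h)
      · exact ⟨i, by omega, h⟩
      · exact ⟨k, by omega, h⟩
    · rintro ⟨i, hi, h⟩
      by_cases h2 : i = k
      · subst h2
        exact Or.inr h
      · exact Or.inl ⟨i, by omega, h⟩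

/-- the data of a graph, and of a derivation of the points from the base -/
structure GD where
  /-- the valency -/
  kv : ℕ
  /-- the neighbours -/
  adj : ℕ → ℕ → ℕ
  /-- the number of invariant sets -/
  nS : ℕ
  /-- the invariant sets, as masks -/
  st : ℕ → ℕ
  /-- a set of points, of which the neighbours form an invariant set -/
  pts : ℕ → List ℕ
  /-- its derivation from the previous invariant sets -/
  dgs : ℕ → List ℕ
  /-- the derivation of the singletons -/
  der : ℕ → List ℕ

/-- the neighbours, as a mask -/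
noncomputable def row (E : GD) (v : ℕ) : ℕ := maskF (E.adj v) E.kv

/-- a letter preserves the graph -/
noncomputable def presV (D : PD) (E : GD) (x v : ℕ) : Bool :=
  Nat.beq (maskF (fun i => letter D x (E.adj v i)) E.kv) (row E (letter D x v))

/-- the points -/
noncomputable def allOnes (N : ℕ) : ℕ := Nat.sub (Nat.shiftLeft 1 N) 1

/-- an invariant set or its complement -/
noncomputable def sel (N : ℕ) (E : GD) (d : ℕ) : ℕ :=
  Nat.xor (E.st (Nat.shiftRight d 1)) (Nat.mul (Nat.land d 1) (allOnes N))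

/-- the intersection of sets and of complements -/
noncomputable def foldD (N : ℕ) (E : GD) (l : List ℕ) : ℕ :=
  List.rec (motive := fun _ => ℕ) (allOnes N) (fun d _ ih => Nat.land ih (sel N E d)) l

/-- the derivation only uses the previous sets -/
noncomputable def digOK (e : ℕ) (l : List ℕ) : Bool :=
  List.rec (motive := fun _ => Bool) true (fun d _ ih => band(Nat.blt (Nat.shiftRight d 1) e, ih)) l

/-- the mask of a list of points -/
noncomputable def maskL (l : List ℕ) : ℕ :=
  List.rec (motive := fun _ => ℕ) 0 (fun y _ ih => Nat.lor ih (Nat.shiftLeft 1 y)) l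

/-- the neighbours of a list of points -/
noncomputable def orRows (E : GD) (l : List ℕ) : ℕ :=
  List.rec (motive := fun _ => ℕ) 0 (fun y _ ih => Nat.lor ih (row E y)) l

/-- the check of an invariant set -/
noncomputable def setY (D : PD) (E : GD) (e : ℕ) : Bool :=
  Bool.rec (motive := fun _ => Bool)
    (band(digOK e (E.dgs e), band(Nat.beq (foldD D.N E (E.dgs e)) (maskL (E.pts e)), Nat.beq (E.st e) (orRows E (E.pts e)))))
    (Nat.beq (E.st e) (Nat.shiftLeft 1 (lget e D.B)))
    (Nat.blt e D.B.length)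

/-- the check of a point -/
noncomputable def pointY (D : PD) (E : GD) (x : ℕ) : Bool :=
  band(digOK E.nS (E.der x), Nat.beq (foldD D.N E (E.der x)) (Nat.shiftLeft 1 x))

/-- the action on numbers -/
def tn {N : ℕ} (τ : Equiv.Perm (Fin N)) (p : ℕ) : ℕ := if h : p < N then (τ ⟨p, h⟩).val else p

theorem tn_lt {N : ℕ} (τ : Equiv.Perm (Fin N)) {p : ℕ} (h : p < N) : tn τ p < N := by
  simp [tn, h]

theorem tn_mul {N : ℕ} (σ τ : Equiv.Perm (Fin N)) (p : ℕ) : tn (σ * τ) p = tn σ (tn τ p) := by
  by_cases h : p < N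
  · simp [tn, h]
  · simp [tn, h]

theorem tn_one {N : ℕ} (p : ℕ) : tn (1 : Equiv.Perm (Fin N)) p = p := by
  by_cases h : p < N
  · simp [tn, h]
  · simp [tn, h]

theorem tn_inv_tn {N : ℕ} (τ : Equiv.Perm (Fin N)) (p : ℕ) : tn τ⁻¹ (tn τ p) = p := by
  rw [← tn_mul, inv_mul_cancel, tn_one]

theorem tn_tn_inv {N : ℕ} (τ : Equiv.Perm (Fin N)) (p : ℕ) : tn τ (tn τ⁻¹ p) = p := by
  rw [← tn_mul, mul_inv_cancel, tn_one]

theorem tn_inj {N : ℕ} (τ : Equiv.Perm (Fin N)) : Function.Injective (tn τ) :=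
  Function.LeftInverse.injective (tn_inv_tn τ)

/-- the subgroup preserving the graph -/
def presG (N : ℕ) (E : GD) : Subgroup (Equiv.Perm (Fin N)) where
  carrier := {τ | ∀ v, v < N → ∀ q, q < N → (row E v).testBit q = true → (row E (tn τ v)).testBit (tn τ q) = true}
  mul_mem' := by
    intro σ τ hσ hτ v hv q hq h
    rw [tn_mul, tn_mul]
    exact hσ _ (tn_lt τ hv) _ (tn_lt τ hq) (hτ v hv q hq h)
  one_mem' := by
    intro v hv q hq h
    rw [tn_one, tn_one]
    exact h
  inv_mem' := by
    intro τ hτ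
    have hpow : ∀ n : ℕ, τ ^ n ∈ {τ : Equiv.Perm (Fin N) | ∀ v, v < N → ∀ q, q < N → (row E v).testBit q = true → (row E (tn τ v)).testBit (tn τ q) = true} := by
      intro n
      induction n with
      | zero =>
        intro v hv q hq h
        rw [pow_zero, tn_one, tn_one]
        exact h
      | succ n ih =>
        intro v hv q hq h
        rw [pow_succ, tn_mul, tn_mul]
        exact ih _ (tn_lt τ hv) _ (tn_lt τ hq) (hτ v hv q hq h)
    have h1 : τ⁻¹ = τ ^ (orderOf τ - 1) := by
      have h2 : 0 < orderOf τ := orderOf_pos τ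
      rw [inv_eq_iff_mul_eq_one, ← pow_succ']
      rw [show orderOf τ - 1 + 1 = orderOf τ by omega]
      exact pow_orderOf_eq_one τ
    rw [h1]
    exact hpow _

theorem inv_gp_pres {D : PD} {E : GD} (hL : lettersOK D) {x : ℕ} (h : RangeOK (presV D E x) 0 D.N) :
    (gp D x)⁻¹ ∈ presG D.N E := by
  intro v hv q hq hb
  have h1 := h v (Nat.zero_le _) hv
  simp only [presV, Nat.beq_eq] at h1
  have htn : ∀ p, p < D.N → tn (gp D x)⁻¹ p = letter D x p := by
    intro p hp
    simp only [tn, dif_pos hp]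
    exact gp_inv_apply hL x ⟨p, hp⟩
  rw [htn v hv, htn q hq, ← h1]
  obtain ⟨i, hi, rfl⟩ := (testBit_maskF _ _ _).1 hb
  exact (testBit_maskF _ _ _).2 ⟨i, hi, rfl⟩

/-- the checks for the graph -/
structure GCert (D : PD) (E : GD) : Prop where
  pres : ∀ x, D.lt 0 ≤ x → x < D.lt 1 → RangeOK (presV D E x) 0 D.N
  sets : RangeOK (setY D E) 0 E.nS
  points : RangeOK (pointY D E) 0 D.N

theorem KK_le_pres {D : PD} {E : GD} (hL : lettersOK D) (hG : GCert D E) : KK D 0 ≤ presG D.N E := by
  refine (Subgroup.closure_le _).2 ?_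
  rintro _ ⟨x, ⟨h1, h2⟩, rfl⟩
  have h3 := inv_gp_pres hL (hG.pres x h1 h2)
  have h4 := (presG D.N E).inv_mem h3
  simpa using h4

section rigid
variable {D : PD} {E : GD}

/-- the group of the elements preserving the graph and fixing the base -/
def FixB (D : PD) (E : GD) (τ : Equiv.Perm (Fin D.N)) : Prop := τ ∈ presG D.N E ∧ ∀ b ∈ D.B, tn τ b = b

theorem FixB.inv {τ : Equiv.Perm (Fin D.N)} (h : FixB D E τ) : FixB D E τ⁻¹ := by
  refine ⟨inv_mem h.1, fun b hb => ?_⟩
  have := tn_inv_tn τ b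
  rw [h.2 b hb] at this
  exact this

/-- a mask is invariant -/
def InvM (D : PD) (E : GD) (m : ℕ) : Prop :=
  ∀ τ, FixB D E τ → ∀ p, p < D.N → m.testBit (tn τ p) = m.testBit p

theorem InvM.of_forward {m : ℕ}
    (h : ∀ τ, FixB D E τ → ∀ p, p < D.N → m.testBit p = true → m.testBit (tn τ p) = true) : InvM D E m := by
  intro τ hτ p hp
  cases h1 : m.testBit p with
  | true => exact h τ hτ p hp h1
  | false =>
    by_contra h2
    have h3 : m.testBit (tn τ p) = true := by
      cases h4 : m.testBit (tn τ p) with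
      | true => rfl
      | false => exact absurd h4 h2
    have h4 := h τ⁻¹ hτ.inv _ (tn_lt τ hp) h3
    rw [tn_inv_tn, h1] at h4
    cases h4

theorem testBit_allOnes (N p : ℕ) : (allOnes N).testBit p = decide (p < N) := by
  have h : allOnes N = 2 ^ N - 1 := by
    show 1 <<< N - 1 = _
    rw [Nat.one_shiftLeft]
  rw [h, Nat.testBit_two_pow_sub_one]

theorem invM_allOnes : InvM D E (allOnes D.N) := by
  intro τ hτ p hp
  rw [testBit_allOnes, testBit_allOnes]
  simp [hp, tn_lt τ hp]

theorem InvM.land {m n : ℕ} (h1 : InvM D E m) (h2 : InvM D E n) : InvM D E (Nat.land m n) := by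
  intro τ hτ p hp
  show (m &&& n).testBit _ = (m &&& n).testBit _
  rw [Nat.testBit_and, Nat.testBit_and, h1 τ hτ p hp, h2 τ hτ p hp]

theorem InvM.xor {m n : ℕ} (h1 : InvM D E m) (h2 : InvM D E n) : InvM D E (Nat.xor m n) := by
  intro τ hτ p hp
  show (m ^^^ n).testBit _ = (m ^^^ n).testBit _
  rw [Nat.testBit_xor, Nat.testBit_xor, h1 τ hτ p hp, h2 τ hτ p hp]

theorem invM_zero : InvM D E 0 := by
  intro τ hτ p hp
  simp

theorem invM_sel {d : ℕ} (h : InvM D E (E.st (Nat.shiftRight d 1))) : InvM D E (sel D.N E d) := by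
  unfold sel
  refine InvM.xor h ?_
  have h1 : Nat.land d 1 = 0 ∨ Nat.land d 1 = 1 := by
    have : d &&& 1 = d % 2 := Nat.and_one_is_mod d
    show d &&& 1 = 0 ∨ d &&& 1 = 1
    omega
  rcases h1 with h1 | h1
  · rw [h1]
    simpa using invM_zero
  · rw [h1]
    simpa using invM_allOnes

theorem digOK_cons {e d : ℕ} {l : List ℕ} :
    digOK e (d :: l) = true ↔ Nat.shiftRight d 1 < e ∧ digOK e l = true := by
  show band(Nat.blt (Nat.shiftRight d 1) e, digOK e l) = true ↔ _
  rw [band_eq, Bool.and_eq_true, Nat.blt_eq]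

theorem invM_foldD {e : ℕ} (he : ∀ i, i < e → InvM D E (E.st i)) :
    ∀ l : List ℕ, digOK e l = true → InvM D E (foldD D.N E l) := by
  intro l
  induction l with
  | nil => intro _; exact invM_allOnes
  | cons d l ih =>
    intro h
    rw [digOK_cons] at h
    exact InvM.land (ih h.2) (invM_sel (he _ h.1))

theorem foldD_lt (N : ℕ) (E : GD) : ∀ (l : List ℕ) (y : ℕ), (foldD N E l).testBit y = true → y < N := by
  intro l
  induction l with
  | nil =>
    intro y h
    have h1 : (allOnes N).testBit y = true := h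
    rw [testBit_allOnes] at h1
    simpa using h1
  | cons d l ih =>
    intro y h
    have h1 : (Nat.land (foldD N E l) (sel N E d)).testBit y = true := h
    have h2 : (foldD N E l &&& sel N E d).testBit y = true := h1
    rw [Nat.testBit_and, Bool.and_eq_true] at h2
    exact ih y h2.1

theorem testBit_maskL (l : List ℕ) (y : ℕ) : (maskL l).testBit y = true ↔ y ∈ l := by
  induction l with
  | nil =>
    have h : maskL [] = 0 := rfl
    simp [h]
  | cons a l ih =>
    have h1 : maskL (a :: l) = maskL l ||| (1 <<< a) := rfl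
    rw [h1, Nat.testBit_or, Bool.or_eq_true, ih, Nat.one_shiftLeft, Nat.testBit_two_pow]
    simp only [decide_eq_true_eq, List.mem_cons]
    constructor
    · rintro (h | h)
      · exact Or.inr h
      · exact Or.inl h.symm
    · rintro (h | h)
      · exact Or.inr h.symm
      · exact Or.inl h

theorem testBit_orRows (l : List ℕ) (q : ℕ) :
    (orRows E l).testBit q = true ↔ ∃ y ∈ l, (row E y).testBit q = true := by
  induction l with
  | nil =>
    have h : orRows E [] = 0 := rfl
    simp [h]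
  | cons a l ih =>
    have h1 : orRows E (a :: l) = orRows E l ||| row E a := rfl
    rw [h1, Nat.testBit_or, Bool.or_eq_true, ih]
    simp only [List.mem_cons, exists_eq_or_imp]
    exact or_comm

/-- all the invariant sets are invariant -/
theorem invM_st (hG : GCert D E) : ∀ e, e < E.nS → InvM D E (E.st e) := by
  intro e
  induction e using Nat.strong_induction_on with
  | _ e ih =>
    intro he
    have h1 := hG.sets e (Nat.zero_le _) he
    unfold setY at h1
    by_cases hb : e < D.B.length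
    · have h2 : Nat.blt e D.B.length = true := by simp [Nat.blt_eq, hb]
      simp only [h2, Nat.beq_eq] at h1
      rw [h1]
      intro τ hτ p hp
      have hmem : lget e D.B ∈ D.B := by
        rw [lget_eq]
        simp [List.getD, hb]
      have hfix := hτ.2 _ hmem
      have e1 : Nat.shiftLeft 1 (lget e D.B) = 2 ^ (lget e D.B) := Nat.one_shiftLeft _
      rw [e1, Nat.testBit_two_pow, Nat.testBit_two_pow]
      by_cases h3 : lget e D.B = p
      · rw [← h3, hfix]
      · have h4 : lget e D.B ≠ tn τ p := by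
          intro h5
          rw [← hfix] at h5
          exact h3 (tn_inj τ h5)
        simp [h3, h4]
    · have h2 : Nat.blt e D.B.length = false := by
        rw [← Bool.not_eq_true, Nat.blt_eq]
        exact hb
      simp only [h2, band_eq, Bool.and_eq_true, Nat.beq_eq] at h1
      obtain ⟨h3, h4, h5⟩ := h1
      have hC := invM_foldD (fun i hi => ih i hi (by omega)) _ h3
      rw [h5]
      apply InvM.of_forward
      intro τ hτ p hp hbit
      obtain ⟨y, hy, hy2⟩ := (testBit_orRows _ _).1 hbit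
      have hy3 : (foldD D.N E (E.dgs e)).testBit y = true := by
        rw [h4]
        exact (testBit_maskL _ _).2 hy
      have hyN := foldD_lt _ _ _ _ hy3
      have hy4 := hC τ hτ y hyN
      rw [hy3, h4] at hy4
      refine (testBit_orRows _ _).2 ⟨tn τ y, (testBit_maskL _ _).1 hy4, ?_⟩
      exact hτ.1 y hyN p hp hy2

/-- the elements fixing the base fix everything -/
theorem fix_all (hG : GCert D E) {τ : Equiv.Perm (Fin D.N)} (hτ : FixB D E τ) : ∀ x, x < D.N → tn τ x = x := by
  intro x hx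
  have h1 := hG.points x (Nat.zero_le _) hx
  unfold pointY at h1
  rw [band_eq, Bool.and_eq_true, Nat.beq_eq] at h1
  have h2 := invM_foldD (fun i hi => invM_st hG i hi) _ h1.1
  have h3 := h2 τ hτ x hx
  have e1 : Nat.shiftLeft 1 x = 2 ^ x := Nat.one_shiftLeft _
  rw [h1.2, e1, Nat.testBit_two_pow, Nat.testBit_two_pow] at h3
  simp only [decide_true, decide_eq_true_eq] at h3
  exact h3.symm

end rigid

/-- faithfulness on the base from the derivation -/
theorem faith_of_graph {D : PD} {E : GD} (hL : lettersOK D) (hB : baseOK D = true) (hG : GCert D E) :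
    ∀ g ∈ KK D 0, enc D g = D.B → g = 1 := by
  intro g hg he
  have hτ : g⁻¹ ∈ presG D.N E := KK_le_pres hL hG (inv_mem hg)
  have hfix : ∀ b ∈ D.B, tn g⁻¹ b = b := by
    intro b hb
    have h2 : ∀ (l : List ℕ), b ∈ l → l.map (pv g) = l → pv g b = b := by
      intro l
      induction l with
      | nil => simp
      | cons a l ih =>
        intro h3 h4
        simp only [List.map_cons, List.cons.injEq] at h4
        rcases List.mem_cons.1 h3 with h5 | h5
        · rw [h5]; exact h4.1
        · exact ih h5 h4.2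
    exact h2 D.B hb he
  have h2 : ∀ x, x < D.N → tn g⁻¹ x = x := fix_all hG ⟨hτ, hfix⟩
  have h3 : g⁻¹ = 1 := by
    ext p
    have := h2 p p.2
    simpa [tn] using this
  simpa using h3

/-- binary splitting sum -/
noncomputable def sumBB (f : ℕ → ℕ) (d : ℕ) : ℕ → ℕ :=
  Nat.rec (motive := fun _ => ℕ → ℕ) f
    (fun d ih lo => Nat.add (ih lo) (ih (Nat.add lo (Nat.shiftLeft 1 d)))) d

theorem sumBB_eq (f : ℕ → ℕ) (d lo : ℕ) : sumBB f d lo = ∑ i ∈ Finset.Ico lo (lo + 2 ^ d), f i := by
  induction d generalizing lo with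
  | zero =>
    show f lo = _
    simp
  | succ d ih =>
    have h1 : sumBB f (d + 1) lo = sumBB f d lo + sumBB f d (lo + 2 ^ d) := by
      have h : Nat.add lo (Nat.shiftLeft 1 d) = lo + 2 ^ d := by
        show lo + 1 <<< d = _
        rw [Nat.one_shiftLeft]
      show Nat.add (sumBB f d lo) (sumBB f d (Nat.add lo (Nat.shiftLeft 1 d))) = _
      rw [h]
      rfl
    rw [h1, ih, ih, Finset.sum_Ico_consecutive _ (Nat.le_add_right _ _) (Nat.le_add_right _ _)]
    congr 2
    rw [pow_succ]
    omega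

/-- sum on `[0, N)` -/
noncomputable def sumR (f : ℕ → ℕ) (N : ℕ) : ℕ :=
  sumBB (fun x => cond (Nat.blt x N) (f x) 0) (Nat.add (Nat.log2 N) 1) 0

theorem sumR_eq (f : ℕ → ℕ) (N : ℕ) : sumR f N = ∑ i ∈ Finset.range N, f i := by
  unfold sumR
  rw [sumBB_eq]
  have h5 : N < 2 ^ (Nat.log2 N + 1) := by
    rw [Nat.log2_eq_log_two]
    exact Nat.lt_pow_succ_log_self (by norm_num) _
  show ∑ i ∈ Finset.Ico 0 (0 + 2 ^ (Nat.log2 N + 1)), cond (Nat.blt i N) (f i) 0 = _
  rw [zero_add, ← Finset.range_eq_Ico]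
  have h6 : Finset.range N ⊆ Finset.range (2 ^ (Nat.log2 N + 1)) := by
    intro x hx
    simp only [Finset.mem_range] at hx ⊢
    omega
  rw [← Finset.sum_subset h6]
  · apply Finset.sum_congr rfl
    intro x hx
    have : Nat.blt x N = true := by simpa [Nat.blt_eq] using hx
    rw [this]
    rfl
  · intro x _ hx
    have h7 : ¬ x < N := by simpa using hx
    have : Nat.blt x N = false := by
      rw [← Bool.not_eq_true, Nat.blt_eq]
      exact h7
    rw [this]
    rfl

/-- the subset sums, as a bit mask -/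
def reachR (c : ℕ → ℕ) : ℕ → ℕ
  | 0 => 1
  | m + 1 => Nat.lor (reachR c m) (Nat.shiftLeft (reachR c m) (c m))

theorem reach_mem (c : ℕ → ℕ) (m : ℕ) : ∀ S : Finset ℕ, S ⊆ Finset.range m →
    (reachR c m).testBit (∑ t ∈ S, c t) = true := by
  induction m with
  | zero =>
    intro S hS
    have : S = ∅ := by simpa using hS
    subst this
    simp [reachR]
  | succ m ih =>
    intro S hS
    have h1 : reachR c (m + 1) = reachR c m ||| (reachR c m <<< c m) := rfl
    rw [h1, Nat.testBit_or, Bool.or_eq_true]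
    by_cases hm : m ∈ S
    · right
      have h2 : S.erase m ⊆ Finset.range m := by
        intro x hx
        have h3 := Finset.mem_erase.1 hx
        have h4 := Finset.mem_range.1 (hS h3.2)
        have h5 := h3.1
        simp only [Finset.mem_range]
        omega
      have h3 := ih _ h2
      rw [← Finset.add_sum_erase S c hm, add_comm, Nat.testBit_shiftLeft]
      simp [h3]
    · left
      apply ih
      intro x hx
      have h4 := Finset.mem_range.1 (hS hx)
      simp only [Finset.mem_range]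
      have : x ≠ m := fun h => hm (h ▸ hx)
      omega

/-- suborbit data -/
structure SD where
  m : ℕ
  fo : ℕ → ℕ
  fp : ℕ → ℕ
  fl : ℕ → ℕ
  fr : ℕ → ℕ
  rt : ℕ → ℕ
  c : ℕ → ℕ

/-- the forest of the suborbits -/
noncomputable def subOK (D : PD) (S : SD) : Bool :=
  allR (fun p => and (Nat.blt (S.fo p) S.m)
    (cond (Nat.beq (S.fr p) 0) (Nat.beq (S.rt (S.fo p)) p)
      (and (and (Nat.blt (S.fr (S.fp p)) (S.fr p)) (Nat.blt (S.fp p) D.N))
        (and (Nat.beq (S.fo (S.fp p)) (S.fo p))
          (and (and (Nat.ble (D.lt 1) (S.fl p)) (Nat.blt (S.fl p) (D.lt 2)))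
            (Nat.beq (letter D (S.fl p) (S.fp p)) p)))))) 0 D.N

/-- the sizes of the suborbits -/
noncomputable def rootsOK (D : PD) (S : SD) : Bool :=
  allR (fun t => and (Nat.blt (S.rt t) D.N) (and (Nat.beq (S.fo (S.rt t)) t) (and (Nat.ble 1 (S.c t))
    (Nat.beq (sumR (fun x => cond (Nat.beq (S.fo x) t) 1 0) D.N) (S.c t))))) 0 S.m

/-- the trivial suborbit -/
def trivOK (D : PD) (S : SD) : Bool :=
  and (Nat.beq (S.c (S.fo 0)) 1) (Nat.beq (sumA S.c S.m) D.N)

/-- no proper divisor of the degree is a sum of suborbit sizes -/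
noncomputable def divOK (D : PD) (S : SD) : Bool :=
  allR (fun d => or (Nat.ble d 1) (or (bne (Nat.mod D.N d) 0) (not ((reachR S.c S.m).testBit d)))) 0 D.N

/-- transitivity on the points -/
noncomputable def transOK (D : PD) : Bool :=
  allR (fun p => and (and (Nat.ble (D.off 0) (D.idx 0 p)) (Nat.blt (D.idx 0 p) (D.off 1)))
    (Nat.beq (lget 0 (D.V (D.idx 0 p))) p)) 0 D.N

/-- the letters of the first level have order a power of `p` -/
noncomputable def iterL (D : PD) (x q p : ℕ) : ℕ :=
  Nat.rec (motive := fun _ => ℕ → ℕ) (fun p => p) (fun _ ih p => ih (letter D x p)) q p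

/-- the check of the powers -/
noncomputable def powY (D : PD) (q x p : ℕ) : Bool := Nat.beq (iterL D x q p) p

/-- the check of the powers -/
def powOK (D : PD) (q : ℕ) : Prop := ∀ x, D.lt 0 ≤ x → x < D.lt 1 → RangeOK (powY D q x) 0 D.N

section top
variable {D : PD}

theorem enc_getD0 (hC : Cert D) (hb0 : D.B.getD 0 0 = 0) (hlen : 0 < D.B.length) (g : Equiv.Perm (Fin D.N)) :
    (enc D g).getD 0 0 = pv g 0 := by
  rw [getD_enc g 0 hC.base, if_pos hlen, hb0]

theorem moves (hC : Cert D) (hk : 0 < D.k) (hb0 : D.B.getD 0 0 = 0) (hlen : 0 < D.B.length) (hN : 0 < D.N)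
    (htr : transOK D = true) (p : Fin D.N) : ∃ g ∈ KK D 0, g ⟨0, hN⟩ = p := by
  have h1 := allR_spec htr p (Nat.zero_le _) p.2
  simp only [Bool.and_eq_true, Nat.ble_eq, Nat.blt_eq, Nat.beq_eq, lget_eq] at h1
  have hL : InLevel (cd D) 0 (D.idx 0 p) := h1.1
  have h2 := V_eq hC.sem hC.checked hk _ hL
  have h3 : D.V (D.idx 0 p) = enc D (rep (cd D) (gp D) (D.idx 0 p)) := h2
  have h4 := rep_mem hC.sem hC.checked hk _ hL
  refine ⟨(rep (cd D) (gp D) (D.idx 0 p))⁻¹, inv_mem h4, ?_⟩
  have h5 := h1.2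
  rw [h3, enc_getD0 hC hb0 hlen] at h5
  simp only [pv, dif_pos hN] at h5
  exact Fin.ext h5

theorem finite_K0 (hC : Cert D) : Finite (KK D 0) := (hC.card (r := D.k) (j := 0) (by omega)).1

theorem finite_K1 (hC : Cert D) (hk : 0 < D.k) : Finite (KK D 1) := (hC.card (r := D.k - 1) (j := 1) (by omega)).1

/-- transitivity -/
theorem pretrans (hC : Cert D) (hk : 0 < D.k) (hb0 : D.B.getD 0 0 = 0) (hlen : 0 < D.B.length) (hN : 0 < D.N)
    (htr : transOK D = true) : MulAction.IsPretransitive (KK D 0) (Fin D.N) := by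
  constructor
  intro x y
  obtain ⟨g, hg, hgx⟩ := moves hC hk hb0 hlen hN htr x
  obtain ⟨g', hg', hgy⟩ := moves hC hk hb0 hlen hN htr y
  refine ⟨⟨g' * g⁻¹, mul_mem hg' (inv_mem hg)⟩, ?_⟩
  show (g' * g⁻¹) x = y
  rw [← hgx, ← hgy]
  simp

/-- the fixed elements of the first level are in the second -/
theorem mem_K1 (hC : Cert D) (hk : 0 < D.k) (hb0 : D.B.getD 0 0 = 0) (hlen : 0 < D.B.length) (hN : 0 < D.N)
    {g : Equiv.Perm (Fin D.N)} (hg : g ∈ KK D 0) (hfix : g ⟨0, hN⟩ = ⟨0, hN⟩) : g ∈ KK D 1 := by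
  haveI := finite_K1 hC hk
  refine mem_next hC.sem hC.checked hk hg ?_
  show D.idx 0 (lget 0 (enc D g)) = D.off 0
  rw [lget_eq]
  have h1 : g⁻¹ ⟨0, hN⟩ = ⟨0, hN⟩ := by
    rw [Equiv.Perm.inv_eq_iff_eq]
    exact hfix.symm
  have h2 : (enc D g).getD 0 0 = 0 := by
    rw [enc_getD0 hC hb0 hlen]
    simp [pv, hN, h1]
  rw [h2]
  have h0 : InLevel (cd D) 0 (D.off 0) := ⟨le_rfl, off_lt hC.shape hk⟩
  have h3 := nodeOK_spec hC.sem (levelOK_spec (hC.levels 0 hk) h0).1
  have h4 := h3.1
  rcases h3.2 with h5 | h5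
  · have h6 : D.V (D.off 0) = D.B := h5.2.2
    change D.idx 0 (lget 0 (D.V (D.off 0))) = D.off 0 at h4
    rw [h6, lget_eq, hb0] at h4
    exact h4
  · have h7 := h5.1
    have h8 := h5.2.1
    exact absurd h8 (by
      show ¬ D.off 0 ≤ (cd D).par (cd D |>.off 0)
      exact not_le.2 h7)

theorem K1_fix (hC : Cert D) (hk : 0 < D.k) (hb0 : D.B.getD 0 0 = 0) (hN : 0 < D.N)
    {g : Equiv.Perm (Fin D.N)} (hg : g ∈ KK D 1) : g ⟨0, hN⟩ = ⟨0, hN⟩ := by
  have hb : D.B.getD 0 0 < D.N := by rw [hb0]; exact hN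
  have h1 := KK_fix hC.letters hC.hw (j := 0) hk hb g hg
  have h2 : (⟨D.B.getD 0 0, hb⟩ : Fin D.N) = ⟨0, hN⟩ := Fin.ext hb0
  rwa [h2] at h1

/-- the stabiliser of the point zero -/
theorem stab_card (hC : Cert D) (hk : 0 < D.k) (hb0 : D.B.getD 0 0 = 0) (hlen : 0 < D.B.length) (hN : 0 < D.N) :
    Nat.card (MulAction.stabilizer (KK D 0) (⟨0, hN⟩ : Fin D.N)) = Nat.card (KK D 1) := by
  have hle : KK D 1 ≤ KK D 0 := KK_incl hC.letters hC.hw hk
  refine Nat.card_congr ⟨fun g => ⟨g.1.1, mem_K1 hC hk hb0 hlen hN g.1.2 (g.2)⟩,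
    fun g => ⟨⟨g.1, hle g.2⟩, K1_fix hC hk hb0 hN g.2⟩, ?_, ?_⟩
  · intro g
    rfl
  · intro g
    rfl

/-- the suborbit forest reaches all points from the roots -/
theorem reach_of_forest {S : SD} (hC : Cert D) (hS : subOK D S = true) (hN : 0 < D.N) :
    ∀ r p, S.fr p = r → p < D.N → ∃ g ∈ KK D 1, pv g (S.rt (S.fo p)) = p := by
  intro r
  induction r using Nat.strong_induction_on with
  | _ r ih =>
    intro p hr hp
    have h1 := allR_spec hS p (Nat.zero_le _) hp
    simp only [Bool.and_eq_true] at h1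
    by_cases h2 : S.fr p = 0
    · have h3 : Nat.beq (S.fr p) 0 = true := by rw [Nat.beq_eq]; exact h2
      have h4 := h1.2
      rw [h3, cond_true, Nat.beq_eq] at h4
      refine ⟨1, one_mem _, ?_⟩
      rw [h4]
      simp only [pv, dif_pos hp]
      simp
    · have h3 : Nat.beq (S.fr p) 0 = false := by
        rw [← Bool.not_eq_true, Nat.beq_eq]
        exact h2
      have h4 := h1.2
      rw [h3, cond_false] at h4
      simp only [Bool.and_eq_true, Nat.blt_eq, Nat.beq_eq, Nat.ble_eq] at h4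
      obtain ⟨⟨h5, h6⟩, h7, ⟨h8, h9⟩, h10⟩ := h4
      obtain ⟨g, hg, hg2⟩ := ih _ (hr ▸ h5) _ rfl h6
      refine ⟨g * gp D (S.fl p), mul_mem hg (Subgroup.subset_closure ⟨_, ⟨h8, h9⟩, rfl⟩), ?_⟩
      have hroot : S.rt (S.fo p) < D.N := by
        by_contra hcon
        have h11 : pv g (S.rt (S.fo p)) = S.rt (S.fo p) := by simp [pv, hcon]
        rw [h7, h11] at hg2
        omega
      rw [pv_mul hC.letters g _ hroot, ← h7, hg2, h10]

/-- the stabiliser is a maximal subgroup -/
theorem coatom {S : SD} (hC : Cert D) (hk : 0 < D.k) (hb0 : D.B.getD 0 0 = 0) (hlen : 0 < D.B.length) (hN : 0 < D.N)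
    (htr : transOK D = true) (hS : subOK D S = true) (hR : rootsOK D S = true) (hT : trivOK D S = true)
    (hD : divOK D S = true) (hN1 : 1 < D.N) :
    IsCoatom (MulAction.stabilizer (KK D 0) (⟨0, hN⟩ : Fin D.N)) := by
  classical
  haveI := finite_K0 hC
  haveI := pretrans hC hk hb0 hlen hN htr
  simp only [trivOK, Bool.and_eq_true, Nat.beq_eq] at hT
  have hfo : ∀ p : Fin D.N, S.fo p < S.m := by
    intro p
    have h1 := allR_spec hS p (Nat.zero_le _) p.2
    simp only [Bool.and_eq_true, Nat.blt_eq] at h1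
    exact h1.1
  have hrt : ∀ t, t < S.m → S.rt t < D.N ∧ S.fo (S.rt t) = t ∧ 1 ≤ S.c t ∧
      (∑ i ∈ Finset.range D.N, (cond (Nat.beq (S.fo i) t) 1 0)) = S.c t := by
    intro t ht
    have h1 := allR_spec hR t (Nat.zero_le _) ht
    simp only [Bool.and_eq_true, Nat.blt_eq, Nat.beq_eq, Nat.ble_eq] at h1
    rw [sumR_eq] at h1
    exact ⟨h1.1, h1.2.1, h1.2.2.1, h1.2.2.2⟩
  have hcount : ∀ t, t < S.m → ((Finset.univ : Finset (Fin D.N)).filter (fun a : Fin D.N => S.fo (a : ℕ) = t)).card = S.c t := by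
    intro t ht
    rw [← (hrt t ht).2.2.2, Finset.card_filter, ← Fin.sum_univ_eq_sum_range (fun i => cond (Nat.beq (S.fo i) t) 1 0)]
    apply Finset.sum_congr rfl
    intro a _
    by_cases h : S.fo a = t
    · have h2 : Nat.beq (S.fo a) t = true := by rw [Nat.beq_eq]; exact h
      simp [h, h2]
    · have h2 : Nat.beq (S.fo a) t = false := by
        rw [← Bool.not_eq_true, Nat.beq_eq]
        exact h
      simp [h, h2]
  have hsum : ∑ t ∈ Finset.range S.m, S.c t = D.N := by
    rw [← sumA_eq]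
    exact hT.2
  have hf0 : S.fo 0 < S.m := hfo ⟨0, hN⟩
  refine BlockCrit.isCoatom_stabilizer (G := KK D 0) (X := Fin D.N) (ι := ℕ) (⟨0, hN⟩ : Fin D.N) Finset.univ (Finset.mem_univ _)
    (fun _ _ _ => Finset.mem_univ _) (fun a _ => MulAction.exists_smul_eq _ _ a) (fun a => S.fo a) (Finset.range S.m)
    (fun a _ => Finset.mem_range.2 (hfo a)) ?_ ?_ ?_ S.c ?_ ?_ ⟨⟨1, hN1⟩, Finset.mem_univ _, ?_⟩
  · -- the suborbits are orbits
    intro a _ c _ hac
    have hle : KK D 1 ≤ KK D 0 := KK_incl hC.letters hC.hw hk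
    obtain ⟨g, hg, hg2⟩ := reach_of_forest hC hS hN _ a rfl a.2
    obtain ⟨g', hg', hg2'⟩ := reach_of_forest hC hS hN _ c rfl c.2
    have hac' : S.fo (a : ℕ) = S.fo (c : ℕ) := hac
    have hrlt := (hrt _ (hfo a)).1
    have e1 : g⁻¹ ⟨_, hrlt⟩ = a := by
      simp only [pv, dif_pos hrlt] at hg2
      exact Fin.ext hg2
    have e2 : g'⁻¹ ⟨_, hrlt⟩ = c := by
      have hg3 : pv g' (S.rt (S.fo (a : ℕ))) = c := by
        rw [hac']
        exact hg2'
      simp only [pv, dif_pos hrlt] at hg3
      exact Fin.ext hg3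
    have hm : g'⁻¹ * g ∈ KK D 1 := mul_mem (inv_mem hg') hg
    refine ⟨⟨g'⁻¹ * g, hle hm⟩, ?_, ?_⟩
    · exact K1_fix hC hk hb0 hN hm
    · show (g'⁻¹ * g) a = c
      rw [Equiv.Perm.mul_apply, ← e1]
      simp [e2]
  · intro t ht
    have ht' := Finset.mem_range.1 ht
    exact ⟨⟨S.rt t, (hrt t ht').1⟩, Finset.mem_univ _, (hrt t ht').2.1⟩
  · intro a _ h
    have h1 := hcount (S.fo 0) hf0
    have h2 : S.fo (a : ℕ) = S.fo 0 := h
    rw [hT.1] at h1
    rw [Finset.card_eq_one] at h1
    obtain ⟨z, hz⟩ := h1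
    have h3 : a ∈ (Finset.univ : Finset (Fin D.N)).filter (fun a : Fin D.N => S.fo (a : ℕ) = S.fo 0) := by simp [h2]
    have h4 : (⟨0, hN⟩ : Fin D.N) ∈ (Finset.univ : Finset (Fin D.N)).filter (fun a : Fin D.N => S.fo (a : ℕ) = S.fo 0) := by simp
    rw [hz, Finset.mem_singleton] at h3 h4
    rw [h3, h4]
  · intro t ht
    exact hcount t (Finset.mem_range.1 ht)
  · intro U hU h0 hdvd
    rw [Finset.card_univ, Fintype.card_fin] at hdvd
    have hre := reach_mem S.c S.m U hU
    have hd := allR_spec hD (∑ t ∈ U, S.c t)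
    have hpos : 1 ≤ ∑ t ∈ U, S.c t := by
      have h1 := Finset.single_le_sum (f := S.c) (fun _ _ => Nat.zero_le _) h0
      have h2 := (hrt _ hf0).2.2.1
      exact h2.trans h1
    have hle : ∑ t ∈ U, S.c t ≤ D.N := Nat.le_of_dvd (by omega) hdvd
    by_cases h1 : ∑ t ∈ U, S.c t = 1
    · left
      apply Finset.eq_singleton_iff_unique_mem.2 ⟨h0, ?_⟩
      intro t ht
      by_contra hne
      have h2 := Finset.sum_le_sum_of_subset (f := S.c) (show ({S.fo 0, t} : Finset ℕ) ⊆ U by
        intro y hy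
        simp only [Finset.mem_insert, Finset.mem_singleton] at hy
        rcases hy with rfl | rfl
        · exact h0
        · exact ht)
      rw [Finset.sum_pair (Ne.symm hne)] at h2
      have h3 := (hrt _ (Finset.mem_range.1 (hU ht))).2.2.1
      have h4 := (hrt _ hf0).2.2.1
      change 1 ≤ S.c (S.fo ((⟨0, hN⟩ : Fin D.N) : ℕ)) at h4
      omega
    · right
      by_cases h2 : ∑ t ∈ U, S.c t = D.N
      · apply Finset.eq_of_subset_of_card_le hU
        by_contra hcard
        have hss : U ⊂ Finset.range S.m := by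
          refine ⟨hU, fun h => hcard ?_⟩
          exact Finset.card_le_card h
        obtain ⟨t, ht, htU⟩ := Finset.exists_of_ssubset hss
        have h3 := Finset.sum_le_sum_of_subset (f := S.c) (show insert t U ⊆ Finset.range S.m by
          intro y hy
          rcases Finset.mem_insert.1 hy with rfl | hy
          · exact ht
          · exact hU hy)
        rw [Finset.sum_insert htU, hsum, h2] at h3
        have h4 := (hrt _ (Finset.mem_range.1 ht)).2.2.1
        omega
      · exfalso
        have h3 := hd (Nat.zero_le _) (by omega)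
        simp only [Bool.or_eq_true, Nat.ble_eq, bne_iff_ne, Bool.not_eq_true'] at h3
        rcases h3 with h3 | h3 | h3
        · omega
        · exact h3 (Nat.mod_eq_zero_of_dvd hdvd)
        · rw [hre] at h3
          cases h3
  · intro h
    have h1 := congrArg Fin.val h
    simp at h1

theorem pow_one_of_iter (hC : Cert D) {x q : ℕ} (h : ∀ p, p < D.N → iterL D x q p = p) : (gp D x) ^ q = 1 := by
  have h1 : ∀ (q : ℕ) (p : Fin D.N), ((((gp D x)⁻¹) ^ q) p : ℕ) = iterL D x q p := by
    intro q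
    induction q with
    | zero => intro p; simp; rfl
    | succ q ih =>
      intro p
      rw [pow_succ, Equiv.Perm.mul_apply, ih]
      show _ = iterL D x q (letter D x p)
      rw [gp_inv_apply hC.letters]
  have h2 : ((gp D x)⁻¹) ^ q = 1 := by
    ext p
    rw [h1]
    simpa using h p p.2
  have h3 := congrArg (·⁻¹) h2
  simpa using h3

/-- the main theorem: simplicity from the checks -/
theorem simple {S : SD} (hC : Cert D) (hk : 0 < D.k) (hb0 : D.B.getD 0 0 = 0) (hlen : 0 < D.B.length) (hN : 0 < D.N)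
    (htr : transOK D = true) (hS : subOK D S = true) (hR : rootsOK D S = true) (hT : trivOK D S = true)
    (hD : divOK D S = true) (hN1 : 1 < D.N) {p e : ℕ} (hp : p.Prime) (hpow : powOK D (p ^ e))
    (hpS : ¬ p ∣ Nat.card (KK D 1)) : IsSimpleGroup (KK D 0) := by
  classical
  haveI := finite_K0 hC
  haveI := pretrans hC hk hb0 hlen hN htr
  haveI : FaithfulSMul (KK D 0) (Fin D.N) := by
    constructor
    intro a b hab
    apply Subtype.ext
    ext y
    have := hab y
    exact congrArg Fin.val this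
  haveI : Nontrivial (KK D 0) := by
    obtain ⟨g, hg, hg2⟩ := moves hC hk hb0 hlen hN htr ⟨1, hN1⟩
    refine ⟨⟨⟨g, hg⟩, 1, fun h => ?_⟩⟩
    have h1 : g = 1 := congrArg Subtype.val h
    rw [h1] at hg2
    have h3 := congrArg Fin.val hg2
    simp at h3
  refine PermChain.isSimple_of_coatom (⟨0, hN⟩ : Fin D.N) (coatom hC hk hb0 hlen hN htr hS hR hT hD hN1) p hp ?_ ?_
  · rw [stab_card hC hk hb0 hlen hN]
    exact hpS
  · have h1 := Subgroup.closure_closure_coe_preimage (k := gp D '' Set.Ico (D.lt 0) (D.lt 1))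
    rw [eq_top_iff]
    have h2 : (⊤ : Subgroup (KK D 0)) = Subgroup.closure (((↑) : (KK D 0) → Equiv.Perm (Fin D.N)) ⁻¹' (gp D '' Set.Ico (D.lt 0) (D.lt 1))) := h1.symm
    rw [h2]
    apply Subgroup.closure_mono
    rintro ⟨g, hg⟩ ⟨x, ⟨hx1, hx2⟩, hx3⟩
    refine ⟨e, ?_⟩
    apply Subtype.ext
    show g ^ (p ^ e) = 1
    have hx4 : gp D x = g := hx3
    rw [← hx4]
    apply pow_one_of_iter hC
    intro q hq
    have h3 := hpow x hx1 hx2 q (Nat.zero_le _) hq
    simpa [powY] using h3

end top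

end Cfsg.Agent.Lib.PermChain2
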