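import Cfsg.Agent.Lib.PermChain6

/-! Maximality of point stabilisers when all small blocks are excluded by walks. -/

set_option autoImplicit false
set_option linter.unusedSimpArgs false
set_option linter.unusedVariables false
set_option linter.style.haveILetI false

namespace Cfsg.Agent.Lib.PermChain7

open Cfsg.Agent.Lib.PChain Cfsg.Agent.Lib.PermChain Cfsg.Agent.Lib.PermChain2 Cfsg.Agent.Lib.BlockCrit

open Cfsg.Agent.Lib.PermChain6

section blk
variable {G X ι : Type*} [Group G] [MulAction G X] [DecidableEq X] [DecidableEq ι]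

/-- A point stabiliser is maximal when the suborbits (given as fibres of a function `f` on the finite orbit `F`)
have no proper subfamily containing the trivial suborbit whose total size divides the degree. -/
theorem isCoatom_stabilizer_bd [Finite G] (x : X) (F : Finset X) (hxF : x ∈ F) (hinv : ∀ g : G, ∀ a ∈ F, g • a ∈ F)
    (htr : ∀ a ∈ F, ∃ g : G, g • x = a) (f : X → ι) (T : Finset ι) (hT : ∀ a ∈ F, f a ∈ T)
    (hsub : ∀ a ∈ F, ∀ c ∈ F, f a = f c → ∃ h ∈ MulAction.stabilizer G x, h • a = c)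
    (hsurj : ∀ t ∈ T, ∃ a ∈ F, f a = t)
    (hfx : ∀ a ∈ F, f a = f x → a = x)
    (c : ι → ℕ) (hc : ∀ t ∈ T, (F.filter (fun a => f a = t)).card = c t)
    (bd : ℕ)
    (hdiv : ∀ S ⊆ T, f x ∈ S → (∑ t ∈ S, c t) ∣ F.card → S = {f x} ∨ S = T ∨ (∑ t ∈ S, c t) < bd)
    (hE : ∀ t ∈ T, t ≠ f x → c t < bd → ∃ (g : G) (s : X), s ∈ F ∧ f (g • x) = t ∧ f s = t ∧ bd ≤ c (f (g • s)))
    (hnt : ∃ a ∈ F, a ≠ x) : IsCoatom (MulAction.stabilizer G x) := by
  classical
  constructor
  · intro htop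
    obtain ⟨a, ha, hne⟩ := hnt
    obtain ⟨g, rfl⟩ := htr a ha
    have : g ∈ MulAction.stabilizer G x := by rw [htop]; trivial
    exact hne this
  intro K hK
  obtain ⟨hle, hnle⟩ := SetLike.lt_iff_le_and_exists.1 hK
  obtain ⟨k₀, hk₀, hk₀n⟩ := hnle
  -- the block
  let Δ : Finset X := F.filter (fun a => ∃ k ∈ K, k • x = a)
  have hΔmem : ∀ a, a ∈ Δ ↔ a ∈ F ∧ ∃ k ∈ K, k • x = a := by
    intro a; simp [Δ]
  -- block sets
  let S : Finset ι := T.filter (fun t => ∃ a ∈ Δ, f a = t)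
  have hΔS : ∀ a ∈ F, a ∈ Δ ↔ f a ∈ S := by
    intro a ha
    constructor
    · intro h
      exact Finset.mem_filter.2 ⟨hT a ha, a, h, rfl⟩
    · intro h
      obtain ⟨-, b, hb, hfb⟩ := Finset.mem_filter.1 h
      obtain ⟨hbF, k, hk, rfl⟩ := (hΔmem b).1 hb
      obtain ⟨h', hh', hhb⟩ := hsub _ hbF a ha hfb
      refine (hΔmem a).2 ⟨ha, h' * k, K.mul_mem (hle hh') hk, ?_⟩
      rw [mul_smul, hhb]
  have hxΔ : x ∈ Δ := (hΔmem x).2 ⟨hxF, 1, K.one_mem, one_smul _ _⟩
  have hfxS : f x ∈ S := (hΔS x hxF).1 hxΔ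
  have hST : S ⊆ T := Finset.filter_subset _ _
  -- sizes
  have hΔcard : Δ.card = ∑ t ∈ S, c t := by
    have h1 : Δ = F.filter (fun a => f a ∈ S) := by
      apply Finset.ext
      intro a
      constructor
      · intro h
        have haF := ((hΔmem a).1 h).1
        exact Finset.mem_filter.2 ⟨haF, (hΔS a haF).1 h⟩
      · intro h
        obtain ⟨haF, h'⟩ := Finset.mem_filter.1 h
        exact (hΔS a haF).2 h'
    rw [h1, Finset.card_eq_sum_card_fiberwise (f := f) (t := S)]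
    · apply Finset.sum_congr rfl
      intro t ht
      rw [← hc t (hST ht)]
      congr 1
      ext a
      simp only [Finset.mem_filter]
      constructor
      · rintro ⟨⟨h1, h2⟩, h3⟩
        exact ⟨h1, h3⟩
      · rintro ⟨h1, h3⟩
        exact ⟨⟨h1, h3 ▸ ht⟩, h3⟩
    · intro a ha
      have := Finset.mem_filter.1 (Finset.mem_coe.1 ha)
      exact Finset.mem_coe.2 this.2
  -- divisibility, by orbit-stabiliser
  have hdvd : Δ.card ∣ F.card := by
    have h1 := card_eq_mul (⊤ : Subgroup G) x F (fun g _ => hinv g x hxF)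
      (fun y hy => by obtain ⟨g, hg⟩ := htr y hy; exact ⟨g, trivial, hg⟩)
    have h2 := card_eq_mul K x Δ (fun g hg => (hΔmem _).2 ⟨hinv g x hxF, g, hg, rfl⟩)
      (fun y hy => by obtain ⟨-, k, hk, h⟩ := (hΔmem y).1 hy; exact ⟨k, hk, h⟩)
    rw [top_inf_eq] at h1
    rw [inf_eq_right.2 hle] at h2
    have h3 : Nat.card K ∣ Nat.card (⊤ : Subgroup G) := Subgroup.card_dvd_of_le le_top
    rw [h1, h2] at h3
    have hpos : 0 < Nat.card (MulAction.stabilizer G x) := Nat.card_pos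
    exact Nat.dvd_of_mul_dvd_mul_right hpos h3
  have htriv : S = {f x} → False := by
    intro hS
    apply hk₀n
    have h1 : k₀ • x ∈ Δ := (hΔmem _).2 ⟨hinv _ _ hxF, k₀, hk₀, rfl⟩
    have h2 : f (k₀ • x) ∈ S := (hΔS _ (hinv _ _ hxF)).1 h1
    rw [hS, Finset.mem_singleton] at h2
    exact hfx _ (hinv _ _ hxF) h2
  rcases hdiv S hST hfxS (by rw [← hΔcard]; exact hdvd) with hS | hS | hS
  · -- the block is trivial
    exact (htriv hS).elim
  · -- the block is everything
    rw [eq_top_iff]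
    intro g _
    have h1 : g • x ∈ Δ := by
      rw [hΔS _ (hinv _ _ hxF), hS]
      exact hT _ (hinv _ _ hxF)
    obtain ⟨-, k, hk, hkg⟩ := (hΔmem _).1 h1
    have hmem : k⁻¹ * g ∈ MulAction.stabilizer G x := by
      show (k⁻¹ * g) • x = x
      rw [mul_smul, ← hkg, inv_smul_smul]
    have := K.mul_mem hk (hle hmem)
    simpa using this
  · -- a small block
    exfalso
    by_cases hS1 : S = {f x}
    · exact htriv hS1
    obtain ⟨t, htS, htn⟩ : ∃ t ∈ S, t ≠ f x := by
      by_contra hne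
      push Not at hne
      exact hS1 (Finset.eq_singleton_iff_unique_mem.2 ⟨hfxS, hne⟩)
    have hsm : ∀ u ∈ S, c u ≤ ∑ t ∈ S, c t := fun u hu =>
      Finset.single_le_sum (f := c) (fun _ _ => Nat.zero_le _) hu
    obtain ⟨gE, sE, hsE, h1E, h2E, h3E⟩ := hE t (hST htS) htn (lt_of_le_of_lt (hsm t htS) hS)
    have hg1 : gE • x ∈ Δ := by
      rw [hΔS _ (hinv _ _ hxF), h1E]
      exact htS
    obtain ⟨-, k, hk, hkg⟩ := (hΔmem _).1 hg1
    have hmem : k⁻¹ * gE ∈ MulAction.stabilizer G x := by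
      show (k⁻¹ * gE) • x = x
      rw [mul_smul, ← hkg, inv_smul_smul]
    have hgK : gE ∈ K := by
      have := K.mul_mem hk (hle hmem)
      simpa using this
    have hs1 : sE ∈ Δ := by
      rw [hΔS _ hsE, h2E]
      exact htS
    obtain ⟨-, k', hk', hks⟩ := (hΔmem _).1 hs1
    have h5 : gE • sE ∈ Δ := by
      refine (hΔmem _).2 ⟨hinv _ _ hsE, gE * k', K.mul_mem hgK hk', ?_⟩
      rw [mul_smul, hks]
    have h6 : f (gE • sE) ∈ S := (hΔS _ (hinv _ _ hsE)).1 h5
    have h7 := hsm _ h6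
    omega


end blk

section top
variable {D : PD}

/-- the condition on block sizes, above a bound -/
noncomputable def divOKb (D : PD) (S : SD) (bd : ℕ) : Bool :=
  allR (fun d => or (Nat.ble d 1) (or (bne (Nat.mod D.N d) 0) (or (Nat.blt d bd) (not ((reachR S.c S.m).testBit d))))) 0 D.N

/-- the witnesses that a small suborbit drags a large one along -/
noncomputable def exclOK (D : PD) (S : SD) (bd : ℕ) (wE : ℕ → List ℕ) (sE : ℕ → ℕ) : Bool :=
  allR (fun t => or (Nat.ble bd (S.c t)) (or (Nat.beq t (S.fo 0))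
    (and (Nat.blt (sE t) D.N) (and ((wE t).all (fun z => or (and (Nat.ble (D.lt 0) z) (Nat.blt z (D.lt (0 + 1))))
        (and (Nat.ble (D.lt 0) (invW D z)) (Nat.blt (invW D z) (D.lt (0 + 1))))))
      (and (Nat.beq (S.fo (walk D 0 (wE t))) t) (and (Nat.beq (S.fo (sE t)) t)
        (Nat.ble bd (S.c (S.fo (walk D (sE t) (wE t))))))))))) 0 S.m

theorem coatom_bd {S : SD} {bd : ℕ} (hC : Cert D) (hk : 0 < D.k) (hb0 : D.B.getD 0 0 = 0) (hlen : 0 < D.B.length) (hN : 0 < D.N)
    (htr : transOK D = true) (hS : subOK D S = true) (hR : rootsOK D S = true) (hT : trivOK D S = true)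
    (hD : divOKb D S bd = true) (hN1 : 1 < D.N)
    {wE : ℕ → List ℕ} {sE : ℕ → ℕ} (hE : exclOK D S bd wE sE = true) :
    IsCoatom (MulAction.stabilizer (KK D 0) (⟨0, hN⟩ : Fin D.N)) := by
  classical
  haveI := finite_K0 hC
  haveI := pretrans hC hk hb0 hlen hN htr
  simp only [trivOK, Bool.and_eq_true, Nat.beq_eq] at hT
  have hfo : ∀ p : Fin D.N, S.fo p < S.m := by
    intro p
    have h1 := allR_spec hS p (Nat.zero_le _) p.2
    simp only [Bool.and_eq_true, Nat.blt_eq] at h1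
    exact h1.1
  have hrt : ∀ t, t < S.m → S.rt t < D.N ∧ S.fo (S.rt t) = t ∧ 1 ≤ S.c t ∧
      (∑ i ∈ Finset.range D.N, (cond (Nat.beq (S.fo i) t) 1 0)) = S.c t := by
    intro t ht
    have h1 := allR_spec hR t (Nat.zero_le _) ht
    simp only [Bool.and_eq_true, Nat.blt_eq, Nat.beq_eq, Nat.ble_eq] at h1
    rw [sumR_eq] at h1
    exact ⟨h1.1, h1.2.1, h1.2.2.1, h1.2.2.2⟩
  have hcount : ∀ t, t < S.m → ((Finset.univ : Finset (Fin D.N)).filter (fun a : Fin D.N => S.fo (a : ℕ) = t)).card = S.c t := by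
    intro t ht
    rw [← (hrt t ht).2.2.2, Finset.card_filter, ← Fin.sum_univ_eq_sum_range (fun i => cond (Nat.beq (S.fo i) t) 1 0)]
    apply Finset.sum_congr rfl
    intro a _
    by_cases h : S.fo a = t
    · have h2 : Nat.beq (S.fo a) t = true := by rw [Nat.beq_eq]; exact h
      simp [h, h2]
    · have h2 : Nat.beq (S.fo a) t = false := by
        rw [← Bool.not_eq_true, Nat.beq_eq]
        exact h
      simp [h, h2]
  have hsum : ∑ t ∈ Finset.range S.m, S.c t = D.N := by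
    rw [← sumA_eq]
    exact hT.2
  have hf0 : S.fo 0 < S.m := hfo ⟨0, hN⟩
  have hrt' : ∀ t, t < S.m → 1 ≤ S.c t := fun t ht => (hrt t ht).2.2.1
  refine isCoatom_stabilizer_bd (G := KK D 0) (X := Fin D.N) (ι := ℕ) (⟨0, hN⟩ : Fin D.N) Finset.univ (Finset.mem_univ _)
    (fun _ _ _ => Finset.mem_univ _) (fun a _ => MulAction.exists_smul_eq _ _ a) (fun a => S.fo a) (Finset.range S.m)
    (fun a _ => Finset.mem_range.2 (hfo a)) ?_ ?_ ?_ S.c ?_ bd ?_ ?_ ⟨⟨1, hN1⟩, Finset.mem_univ _, ?_⟩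
  · -- the suborbits are orbits
    intro a _ c _ hac
    have hle : KK D 1 ≤ KK D 0 := KK_incl hC.letters hC.hw hk
    obtain ⟨g, hg, hg2⟩ := reach_of_forest hC hS hN _ a rfl a.2
    obtain ⟨g', hg', hg2'⟩ := reach_of_forest hC hS hN _ c rfl c.2
    have hac' : S.fo (a : ℕ) = S.fo (c : ℕ) := hac
    have hrlt := (hrt _ (hfo a)).1
    have e1 : g⁻¹ ⟨_, hrlt⟩ = a := by
      simp only [pv, dif_pos hrlt] at hg2
      exact Fin.ext hg2
    have e2 : g'⁻¹ ⟨_, hrlt⟩ = c := by
      have hg3 : pv g' (S.rt (S.fo (a : ℕ))) = c := by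
        rw [hac']
        exact hg2'
      simp only [pv, dif_pos hrlt] at hg3
      exact Fin.ext hg3
    have hm : g'⁻¹ * g ∈ KK D 1 := mul_mem (inv_mem hg') hg
    refine ⟨⟨g'⁻¹ * g, hle hm⟩, ?_, ?_⟩
    · exact K1_fix hC hk hb0 hN hm
    · show (g'⁻¹ * g) a = c
      rw [Equiv.Perm.mul_apply, ← e1]
      simp [e2]
  · intro t ht
    have ht' := Finset.mem_range.1 ht
    exact ⟨⟨S.rt t, (hrt t ht').1⟩, Finset.mem_univ _, (hrt t ht').2.1⟩
  · intro a _ h
    have h1 := hcount (S.fo 0) hf0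
    have h2 : S.fo (a : ℕ) = S.fo 0 := h
    rw [hT.1] at h1
    rw [Finset.card_eq_one] at h1
    obtain ⟨z, hz⟩ := h1
    have h3 : a ∈ (Finset.univ : Finset (Fin D.N)).filter (fun a : Fin D.N => S.fo (a : ℕ) = S.fo 0) := by simp [h2]
    have h4 : (⟨0, hN⟩ : Fin D.N) ∈ (Finset.univ : Finset (Fin D.N)).filter (fun a : Fin D.N => S.fo (a : ℕ) = S.fo 0) := by simp
    rw [hz, Finset.mem_singleton] at h3 h4
    rw [h3, h4]
  · intro t ht
    exact hcount t (Finset.mem_range.1 ht)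
  · intro U hU h0 hdvd
    rw [Finset.card_univ, Fintype.card_fin] at hdvd
    have hre := reach_mem S.c S.m U hU
    have hd := allR_spec hD (∑ t ∈ U, S.c t)
    by_cases hd0 : ∑ t ∈ U, S.c t < bd
    · right; right
      exact hd0
    suffices hsuff : U = {S.fo ((⟨0, hN⟩ : Fin D.N) : ℕ)} ∨ U = Finset.range S.m from
      hsuff.elim Or.inl (fun h => Or.inr (Or.inl h))
    have hpos : 1 ≤ ∑ t ∈ U, S.c t := by
      have h1 := Finset.single_le_sum (f := S.c) (fun _ _ => Nat.zero_le _) h0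
      have h2 := (hrt _ hf0).2.2.1
      exact h2.trans h1
    have hle : ∑ t ∈ U, S.c t ≤ D.N := Nat.le_of_dvd (by omega) hdvd
    by_cases h1 : ∑ t ∈ U, S.c t = 1
    · left
      apply Finset.eq_singleton_iff_unique_mem.2 ⟨h0, ?_⟩
      intro t ht
      by_contra hne
      have h2 := Finset.sum_le_sum_of_subset (f := S.c) (show ({S.fo 0, t} : Finset ℕ) ⊆ U by
        intro y hy
        simp only [Finset.mem_insert, Finset.mem_singleton] at hy
        rcases hy with rfl | rfl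
        · exact h0
        · exact ht)
      rw [Finset.sum_pair (Ne.symm hne)] at h2
      have h3 := (hrt _ (Finset.mem_range.1 (hU ht))).2.2.1
      have h4 := (hrt _ hf0).2.2.1
      change 1 ≤ S.c (S.fo ((⟨0, hN⟩ : Fin D.N) : ℕ)) at h4
      omega
    · right
      by_cases h2 : ∑ t ∈ U, S.c t = D.N
      · apply Finset.eq_of_subset_of_card_le hU
        by_contra hcard
        have hss : U ⊂ Finset.range S.m := by
          refine ⟨hU, fun h => hcard ?_⟩
          exact Finset.card_le_card h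
        obtain ⟨t, ht, htU⟩ := Finset.exists_of_ssubset hss
        have h3 := Finset.sum_le_sum_of_subset (f := S.c) (show insert t U ⊆ Finset.range S.m by
          intro y hy
          rcases Finset.mem_insert.1 hy with rfl | hy
          · exact ht
          · exact hU hy)
        rw [Finset.sum_insert htU, hsum, h2] at h3
        have h4 := (hrt _ (Finset.mem_range.1 ht)).2.2.1
        omega
      · exfalso
        have h3 := hd (Nat.zero_le _) (by omega)
        simp only [Bool.or_eq_true, Nat.ble_eq, Nat.beq_eq, Nat.blt_eq, bne_iff_ne, Bool.not_eq_true'] at h3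
        rcases h3 with h3 | h3 | h3 | h3
        · omega
        · exact h3 (Nat.mod_eq_zero_of_dvd hdvd)
        · exact hd0 h3
        · rw [hre] at h3
          cases h3
  · -- the excluding witnesses
    intro t ht htn hct
    have ht' := Finset.mem_range.1 ht
    have h1 := allR_spec hE t (Nat.zero_le _) ht'
    simp only [Bool.or_eq_true, Bool.and_eq_true, Nat.ble_eq, Nat.beq_eq, Nat.blt_eq] at h1
    rcases h1 with h1 | h1 | h1
    · omega
    · exact (htn h1).elim
    obtain ⟨hs, hw, h1E, h2E, h3E⟩ := h1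
    refine ⟨⟨(evW D (wE t))⁻¹, inv_mem (evW_mem hC.letters hw)⟩, ⟨sE t, hs⟩, Finset.mem_univ _, ?_, h2E, ?_⟩
    · show S.fo (((evW D (wE t))⁻¹ ⟨0, hN⟩ : Fin D.N) : ℕ) = _
      rw [evW_inv_apply hC.letters]
      exact h1E
    · show bd ≤ S.c (S.fo (((evW D (wE t))⁻¹ ⟨sE t, hs⟩ : Fin D.N) : ℕ))
      rw [evW_inv_apply hC.letters]
      exact h3E
  · intro h
    have h1 := congrArg Fin.val h
    simp at h1


theorem simple_bd {S : SD} {bd : ℕ} (hC : Cert D) (hk : 0 < D.k) (hb0 : D.B.getD 0 0 = 0) (hlen : 0 < D.B.length) (hN : 0 < D.N)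
    (htr : transOK D = true) (hS : subOK D S = true) (hR : rootsOK D S = true) (hT : trivOK D S = true)
    (hD : divOKb D S bd = true) (hN1 : 1 < D.N)
    {wE : ℕ → List ℕ} {sE : ℕ → ℕ} (hE : exclOK D S bd wE sE = true)
    {p e : ℕ} (hp : p.Prime) (hpow : powOK D (p ^ e))
    (hpS : ¬ p ∣ Nat.card (KK D 1)) : IsSimpleGroup (KK D 0) := by
  classical
  haveI := finite_K0 hC
  haveI := pretrans hC hk hb0 hlen hN htr
  haveI : FaithfulSMul (KK D 0) (Fin D.N) := by
    constructor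
    intro a b hab
    apply Subtype.ext
    ext y
    have := hab y
    exact congrArg Fin.val this
  haveI : Nontrivial (KK D 0) := by
    obtain ⟨g, hg, hg2⟩ := moves hC hk hb0 hlen hN htr ⟨1, hN1⟩
    refine ⟨⟨⟨g, hg⟩, 1, fun h => ?_⟩⟩
    have h1 : g = 1 := congrArg Subtype.val h
    rw [h1] at hg2
    have h3 := congrArg Fin.val hg2
    simp at h3
  refine PermChain.isSimple_of_coatom (⟨0, hN⟩ : Fin D.N) (coatom_bd hC hk hb0 hlen hN htr hS hR hT hD hN1 hE) p hp ?_ ?_
  · rw [stab_card hC hk hb0 hlen hN]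
    exact hpS
  · have h1 := Subgroup.closure_closure_coe_preimage (k := gp D '' Set.Ico (D.lt 0) (D.lt 1))
    rw [eq_top_iff]
    have h2 : (⊤ : Subgroup (KK D 0)) = Subgroup.closure (((↑) : (KK D 0) → Equiv.Perm (Fin D.N)) ⁻¹' (gp D '' Set.Ico (D.lt 0) (D.lt 1))) := h1.symm
    rw [h2]
    apply Subgroup.closure_mono
    rintro ⟨g, hg⟩ ⟨x, ⟨hx1, hx2⟩, hx3⟩
    refine ⟨e, ?_⟩
    apply Subtype.ext
    show g ^ (p ^ e) = 1
    have hx4 : gp D x = g := hx3
    rw [← hx4]
    apply pow_one_of_iter hC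
    intro q hq
    have h3 := hpow x hx1 hx2 q (Nat.zero_le _) hq
    simpa [powY] using h3

end top

end Cfsg.Agent.Lib.PermChain7
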