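import Cfsg.Agent.Lib.ChevTw4

/-! Exceptional isogenies from a block decomposition of the adjoint representation. -/

set_option autoImplicit false
set_option linter.unusedVariables false
set_option linter.unusedSectionVars false
set_option linter.unusedFintypeInType false
set_option linter.unusedDecidableInType false

namespace Cfsg.Agent.Lib.ReeA

open Cfsg.Lie Matrix Cfsg.Agent.Lib.ChevEngine Cfsg.Agent.Lib.ChevTab Cfsg.Agent.Lib.ChevMono
  Cfsg.Agent.Lib.ChevRel Cfsg.Agent.Lib.ChevValid Cfsg.Agent.Lib.ChevGL Cfsg.Agent.Lib.ChevGrad Cfsg.Agent.Lib.ChevL2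
  Cfsg.Agent.Lib.ChevU Cfsg.Agent.Lib.ChevU2 Cfsg.Agent.Lib.ChevU3 Cfsg.Agent.Lib.ChevDiag Cfsg.Agent.Lib.ChevV3
  Cfsg.Agent.Lib.ChevH Cfsg.Agent.Lib.ChevN Cfsg.Agent.Lib.ChevN2 Cfsg.Agent.Lib.ChevN3 Cfsg.Agent.Lib.ChevBN Cfsg.Agent.Lib.ChevBN2
  Cfsg.Agent.Lib.ChevSimp2 Cfsg.Agent.Lib.ChevAut3

section blocks

variable {I : Type*} [Fintype I] [DecidableEq I] {m : ℕ} (e1 e2 : Fin m → I)
  {F : Type*} [Field F]

/-- The sum over the two blocks. -/
theorem sum_split (he : Function.Bijective (Sum.elim e1 e2)) (f : I → F) :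
    ∑ k, f k = ∑ k, f (e1 k) + ∑ k, f (e2 k) := by
  have e : ∑ k, f k = ∑ k : Fin m ⊕ Fin m, f (Sum.elim e1 e2 k) :=
    (Equiv.sum_comp (Equiv.ofBijective _ he) f).symm
  rw [e, Fintype.sum_sum_type]
  simp

/-- upper triangular with respect to the blocks: the span of the `e1` is invariant. -/
def Blk (g : Matrix I I F) : Prop := ∀ i j, g (e2 i) (e1 j) = 0

def blA (g : Matrix I I F) : Matrix (Fin m) (Fin m) F := fun i j => g (e1 i) (e1 j)

def blB (g : Matrix I I F) : Matrix (Fin m) (Fin m) F := fun i j => g (e2 i) (e2 j)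

variable {e1 e2}

theorem Blk_mul (he : Function.Bijective (Sum.elim e1 e2)) {g h : Matrix I I F} (hg : Blk e1 e2 g) (hh : Blk e1 e2 h) : Blk e1 e2 (g * h) := by
  intro i j
  rw [Matrix.mul_apply, sum_split e1 e2 he]
  simp [hg i, hh _ j]

theorem blA_mul (he : Function.Bijective (Sum.elim e1 e2)) {g h : Matrix I I F} (hh : Blk e1 e2 h) : blA e1 (g * h) = blA e1 g * blA e1 h := by
  ext i j
  simp only [blA, Matrix.mul_apply]
  rw [sum_split e1 e2 he]
  simp [hh _ j]

theorem blB_mul (he : Function.Bijective (Sum.elim e1 e2)) {g h : Matrix I I F} (hg : Blk e1 e2 g) : blB e2 (g * h) = blB e2 g * blB e2 h := by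
  ext i j
  simp only [blB, Matrix.mul_apply]
  rw [sum_split e1 e2 he]
  simp [hg i]

theorem Blk_one (he : Function.Bijective (Sum.elim e1 e2)) : Blk e1 e2 (1 : Matrix I I F) := by
  intro i j
  rw [Matrix.one_apply_ne]
  intro h
  have : Sum.elim e1 e2 (Sum.inr i) = Sum.elim e1 e2 (Sum.inl j) := h
  exact absurd (he.1 this) (by simp)

theorem blA_one (he : Function.Bijective (Sum.elim e1 e2)) : blA e1 (1 : Matrix I I F) = 1 := by
  ext i j
  simp only [blA]
  by_cases h : i = j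
  · subst h; simp
  · rw [Matrix.one_apply_ne h, Matrix.one_apply_ne]
    intro h2
    have : Sum.elim e1 e2 (Sum.inl i) = Sum.elim e1 e2 (Sum.inl j) := h2
    exact h (Sum.inl.inj (he.1 this))

theorem blB_one (he : Function.Bijective (Sum.elim e1 e2)) : blB e2 (1 : Matrix I I F) = 1 := by
  ext i j
  simp only [blB]
  by_cases h : i = j
  · subst h; simp
  · rw [Matrix.one_apply_ne h, Matrix.one_apply_ne]
    intro h2
    have : Sum.elim e1 e2 (Sum.inr i) = Sum.elim e1 e2 (Sum.inr j) := h2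
    exact h (Sum.inr.inj (he.1 this))

/-- The subgroup of block upper triangular elements (with inverse). -/
def blkS (he : Function.Bijective (Sum.elim e1 e2)) : Subgroup (GL I F) where
  carrier := {g | Blk e1 e2 (g : Matrix I I F) ∧ Blk e1 e2 ((g⁻¹ : GL I F) : Matrix I I F)}
  mul_mem' := by
    rintro a b ⟨h1, h2⟩ ⟨h3, h4⟩
    refine ⟨?_, ?_⟩
    · rw [Units.val_mul]
      exact Blk_mul he h1 h3
    · rw [_root_.mul_inv_rev, Units.val_mul]
      exact Blk_mul he h4 h2
  one_mem' := by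
    refine ⟨?_, ?_⟩
    · rw [Units.val_one]
      exact Blk_one he
    · rw [inv_one, Units.val_one]
      exact Blk_one he
  inv_mem' := by
    rintro a ⟨h1, h2⟩
    refine ⟨h2, ?_⟩
    rw [inv_inv]
    exact h1

theorem blA_mul_inv (he : Function.Bijective (Sum.elim e1 e2)) {g : GL I F} (hg : g ∈ blkS (F := F) he) :
    blA e1 ((g⁻¹ : GL I F) : Matrix I I F) * blA e1 (g : Matrix I I F) = 1 := by
  rw [← blA_mul he hg.1, ← Units.val_mul, inv_mul_cancel, Units.val_one, blA_one he]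

theorem blB_inv_mul (he : Function.Bijective (Sum.elim e1 e2)) {g : GL I F} (hg : g ∈ blkS (F := F) he) :
    blB e2 (g : Matrix I I F) * blB e2 ((g⁻¹ : GL I F) : Matrix I I F) = 1 := by
  rw [← blB_mul he hg.1, ← Units.val_mul, mul_inv_cancel, Units.val_one, blB_one he]

theorem blB_mul_inv (he : Function.Bijective (Sum.elim e1 e2)) {g : GL I F} (hg : g ∈ blkS (F := F) he) :
    blB e2 ((g⁻¹ : GL I F) : Matrix I I F) * blB e2 (g : Matrix I I F) = 1 := by
  rw [← blB_mul he hg.2, ← Units.val_mul, inv_mul_cancel, Units.val_one, blB_one he]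

theorem blA_inv_mul (he : Function.Bijective (Sum.elim e1 e2)) {g : GL I F} (hg : g ∈ blkS (F := F) he) :
    blA e1 (g : Matrix I I F) * blA e1 ((g⁻¹ : GL I F) : Matrix I I F) = 1 := by
  rw [← blA_mul he hg.2, ← Units.val_mul, mul_inv_cancel, Units.val_one, blA_one he]

end blocks

section group

variable {D : ChevalleyDatum} {T : Tb} {F : Type*} [Field F] {m : ℕ} {e1 e2 : Fin m → D.Idx}
variable (V : Valid D T) (he : Function.Bijective (Sum.elim e1 e2))
  (hblk : ∀ r < T.n, ∀ t : F, Blk e1 e2 (D.x F r t))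

include V he hblk

theorem xU_mem_blkS {r : ℕ} (hr : r < T.n) (t : F) : xU V r t ∈ blkS (F := F) he := by
  refine ⟨?_, ?_⟩
  · rw [xU_val]
    exact hblk r hr t
  · rw [xU_inv, xU_val]
    exact hblk r hr _

theorem G_le_blkS : D.group F ≤ blkS (F := F) he := by
  rw [group_eq V, Subgroup.closure_le]
  rintro g ⟨r, t, hr, rfl⟩
  exact xU_mem_blkS V he hblk (by rw [V.hn]; exact hr) t

variable {ρ : ℕ → ℕ} {c : ℕ → F → F}

/-- All blocks `B g` are blocks `A g'`. -/
theorem exists_A (hρ : ∀ r < T.n, ρ r < T.n)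
    (hAB : ∀ r < T.n, ∀ t : F, blB e2 (D.x F r t) = blA e1 (D.x F (ρ r) (c r t))) {g : GL D.Idx F} (hg : g ∈ D.group F) :
    ∃ g' ∈ D.group F, blA e1 (g' : Matrix D.Idx D.Idx F) = blB e2 (g : Matrix D.Idx D.Idx F) := by
  have hS := G_le_blkS V he hblk
  rw [group_eq V] at hg
  induction hg using Subgroup.closure_induction with
  | mem x hx =>
    obtain ⟨r, t, hr, rfl⟩ := hx
    have hr' : r < T.n := by rw [V.hn]; exact hr
    refine ⟨xU V (ρ r) (c r t), xU_mem_group V (by rw [← V.hn]; exact hρ r hr') _, ?_⟩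
    rw [xU_val, xU_val]
    exact (hAB r hr' t).symm
  | one =>
    refine ⟨1, Subgroup.one_mem _, ?_⟩
    rw [Units.val_one, blA_one he, blB_one he]
  | mul a b ha hb h1 h2 =>
    obtain ⟨a', ha', ea⟩ := h1
    obtain ⟨b', hb', eb⟩ := h2
    refine ⟨a' * b', Subgroup.mul_mem _ ha' hb', ?_⟩
    have hA : a ∈ D.group F := by rw [group_eq V]; exact ha
    rw [Units.val_mul, Units.val_mul, blA_mul he (hS hb').1, blB_mul he (hS hA).1, ea, eb]
  | inv a ha h1 =>
    obtain ⟨a', ha', ea⟩ := h1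
    refine ⟨a'⁻¹, Subgroup.inv_mem _ ha', ?_⟩
    have hA : a ∈ D.group F := by rw [group_eq V]; exact ha
    have h2 := blB_inv_mul he (hS hA)
    have h3 := blA_mul_inv he (hS ha')
    rw [← ea] at h2
    calc blA e1 ((a'⁻¹ : GL D.Idx F) : Matrix D.Idx D.Idx F)
        = blA e1 ((a'⁻¹ : GL D.Idx F) : Matrix D.Idx D.Idx F) * (blA e1 (a' : Matrix D.Idx D.Idx F) * blB e2 ((a⁻¹ : GL D.Idx F) : Matrix D.Idx D.Idx F)) := by rw [h2, mul_one]
      _ = blB e2 ((a⁻¹ : GL D.Idx F) : Matrix D.Idx D.Idx F) := by rw [← mul_assoc, h3, one_mul]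

/-- The hom: injectivity of `A` gives a homomorphism with `A ∘ σ = B`. -/
theorem exists_sigma (hρ : ∀ r < T.n, ρ r < T.n)
    (hAB : ∀ r < T.n, ∀ t : F, blB e2 (D.x F r t) = blA e1 (D.x F (ρ r) (c r t)))
    (hinj : ∀ g ∈ D.group F, blA e1 (g : Matrix D.Idx D.Idx F) = 1 → g = 1) :
    ∃ σ : ↥(D.group F) →* ↥(D.group F), ∀ (g : ↥(D.group F)), blA e1 ((σ g : GL D.Idx F) : Matrix D.Idx D.Idx F) = blB e2 ((g : GL D.Idx F) : Matrix D.Idx D.Idx F) := by
  have hS := G_le_blkS V he hblk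
  have hex : ∀ g : ↥(D.group F), ∃ g' : ↥(D.group F), blA e1 ((g' : GL D.Idx F) : Matrix D.Idx D.Idx F) = blB e2 ((g : GL D.Idx F) : Matrix D.Idx D.Idx F) := by
    intro g
    obtain ⟨g', hg', e⟩ := exists_A V he hblk hρ hAB g.2
    exact ⟨⟨g', hg'⟩, e⟩
  choose f hf using hex
  have huniq : ∀ a b : ↥(D.group F), blA e1 ((a : GL D.Idx F) : Matrix D.Idx D.Idx F) = blA e1 ((b : GL D.Idx F) : Matrix D.Idx D.Idx F) → a = b := by
    intro a b hab
    have h1 : blA e1 (((a⁻¹ * b : ↥(D.group F)) : GL D.Idx F) : Matrix D.Idx D.Idx F) = 1 := by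
      show blA e1 (((a : GL D.Idx F)⁻¹ * (b : GL D.Idx F) : GL D.Idx F) : Matrix D.Idx D.Idx F) = 1
      rw [Units.val_mul, blA_mul he (hS b.2).1, ← hab, blA_mul_inv he (hS a.2)]
    have h2 := hinj _ (a⁻¹ * b).2 h1
    have h3 : a⁻¹ * b = 1 := Subtype.ext h2
    exact (inv_mul_eq_one.mp h3)
  refine ⟨MonoidHom.mk' f ?_, hf⟩
  intro a b
  apply huniq
  rw [hf]
  show blB e2 (((a : GL D.Idx F) * (b : GL D.Idx F) : GL D.Idx F) : Matrix D.Idx D.Idx F) = blA e1 (((f a : GL D.Idx F) * (f b : GL D.Idx F) : GL D.Idx F) : Matrix D.Idx D.Idx F)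
  rw [Units.val_mul, Units.val_mul, blB_mul he (hS a.2).1, blA_mul he (hS (f b).2).1, hf, hf]

/-- Injectivity of `A` from simplicity. -/
theorem inj_of_simple (hs : IsSimpleGroup ↥(D.group F)) {g0 : GL D.Idx F} (hg0 : g0 ∈ D.group F)
    (hne : blA e1 (g0 : Matrix D.Idx D.Idx F) ≠ 1) :
    ∀ g ∈ D.group F, blA e1 (g : Matrix D.Idx D.Idx F) = 1 → g = 1 := by
  have hS := G_le_blkS V he hblk
  let f : ↥(D.group F) →* Matrix (Fin m) (Fin m) F :=
    { toFun := fun g => blA e1 ((g : GL D.Idx F) : Matrix D.Idx D.Idx F)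
      map_one' := by
        show blA e1 (((1 : GL D.Idx F) : GL D.Idx F) : Matrix D.Idx D.Idx F) = 1
        rw [Units.val_one, blA_one he]
      map_mul' := by
        intro a b
        show blA e1 (((a : GL D.Idx F) * (b : GL D.Idx F) : GL D.Idx F) : Matrix D.Idx D.Idx F) = _
        rw [Units.val_mul, blA_mul he (hS b.2).1] }
  let K : Subgroup ↥(D.group F) :=
    { carrier := {g | f g = 1}
      mul_mem' := by
        intro a b ha hb
        show f (a * b) = 1
        rw [map_mul, ha, hb, mul_one]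
      one_mem' := map_one f
      inv_mem' := by
        intro a ha
        show blA e1 (((a : GL D.Idx F)⁻¹ : GL D.Idx F) : Matrix D.Idx D.Idx F) = 1
        have h3 := blA_mul_inv he (hS a.2)
        have ha' : blA e1 ((a : GL D.Idx F) : Matrix D.Idx D.Idx F) = 1 := ha
        rwa [ha', mul_one] at h3 }
  have hN : K.Normal := by
    constructor
    intro n hn g
    show f (g * n * g⁻¹) = 1
    have hn' : f n = 1 := hn
    rw [map_mul, map_mul, hn', mul_one, ← map_mul, mul_inv_cancel, map_one]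
  intro g hg h1
  rcases hN.eq_bot_or_eq_top with hK | hK
  · have : (⟨g, hg⟩ : ↥(D.group F)) ∈ K := h1
    rw [hK, Subgroup.mem_bot] at this
    exact congrArg Subtype.val this
  · exfalso
    have : (⟨g0, hg0⟩ : ↥(D.group F)) ∈ K := by rw [hK]; exact Subgroup.mem_top _
    exact hne this

end group

/-! ### table checks -/

section tables

variable (D : ChevalleyDatum)

/-- All the polynomials at a coordinate. -/
def lookup (w : SV) (a : ℕ) : Pl := w.foldr (fun e acc => bif Nat.beq a e.1 then Pl.add e.2 acc else acc) []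

theorem eval_lookup {F : Type*} [Field F] (t u v : F) (w : SV) (i : D.Idx) :
    SV.eval D t u v w i = Pl.eval t u v (lookup w (code D i)) := by
  induction w with
  | nil => simp [lookup]
  | cons e w ih =>
    rw [SV.eval_cons, ih]
    simp only [lookup, List.foldr_cons]
    by_cases h : code D i = e.1
    · have h2 : Nat.beq (code D i) e.1 = true := by simp [h]
      rw [if_pos h, h2]
      simp only [cond_true]
      rw [Pl.eval_add]
    · have h2 : Nat.beq (code D i) e.1 = false := by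
        rw [Bool.eq_false_iff]
        simpa using h
      rw [if_neg h, h2]
      simp

/-- all coefficients divisible -/
def divP (P0 : ℤ) (p : Pl) : Bool := p.all fun x => decide (P0 ∣ x.k)

theorem eval_of_divP {F : Type*} [Field F] {P0 : ℕ} [CharP F P0] (t u v : F) {p : Pl} (h : divP (P0 : ℤ) p = true) : Pl.eval t u v p = 0 := by
  induction p with
  | nil => rfl
  | cons x xs ih =>
    simp only [divP, List.all_cons, Bool.and_eq_true, decide_eq_true_eq] at h
    rw [Pl.eval_cons, ih h.2]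
    have : ((x.k : ℤ) : F) = 0 := (CharP.intCast_eq_zero_iff F P0 x.k).mpr h.1
    simp [Tm.eval, this]

/-- equal modulo -/
def eqP (P0 : ℤ) (p q : Pl) : Bool := divP P0 (Pl.add p (Pl.smul (-1) q))

theorem eval_of_eqP {F : Type*} [Field F] {P0 : ℕ} [CharP F P0] (t u v : F) {p q : Pl} (h : eqP (P0 : ℤ) p q = true) : Pl.eval t u v p = Pl.eval t u v q := by
  have := eval_of_divP t u v h
  rw [Pl.eval_add, Pl.eval_smul] at this
  push_cast at this
  linear_combination this

/-- The variable. -/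
def varT : Pl := [⟨1, 0, 0, 1⟩]

theorem eval_varT {F : Type*} [Field F] (t u v : F) : Pl.eval t u v varT = t := by
  simp [varT, Tm.eval]

theorem eval_pow_varT {F : Type*} [Field F] (t u v : F) (k : ℕ) : Pl.eval t u v (Pl.pow varT k) = t ^ k := by
  rw [Pl.eval_pow, eval_varT]

/-- entries of `x_r(p)` -/
theorem x_entry {F : Type*} [Field F] (t u v : F) {r : ℕ} (hr : r < D.nroots) (p : Pl) (i j : D.Idx) :
    D.x F r (Pl.eval t u v p) i j = Pl.eval t u v (lookup (colX D r p (code D j)) (code D i)) := by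
  have h1 := mulVec_bas_code D (D.x F r (Pl.eval t u v p)) j i
  rw [← h1, x_mulVec_bas D t u v r hr p (code D j), eval_lookup]

variable {m : ℕ} (e1 e2 : Fin m → D.Idx)

/-- The check for the invariant block -/
def chkBlk (P0 : ℤ) : Prop :=
  ∀ r, r < D.nroots → ∀ i j : Fin m, divP P0 (lookup (colX D r varT (code D (e1 j))) (code D (e2 i))) = true

/-- The check for the comparison of the two blocks -/
def chkAB (P0 : ℤ) (ρ k : ℕ → ℕ) : Prop :=
  ∀ r, r < D.nroots → ∀ i j : Fin m,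
    eqP P0 (lookup (colX D r varT (code D (e2 j))) (code D (e2 i))) (lookup (colX D (ρ r) (Pl.pow varT (k r)) (code D (e1 j))) (code D (e1 i))) = true

variable {D e1 e2}

theorem Blk_of_chk {F : Type*} [Field F] {P0 : ℕ} [CharP F P0] (h : chkBlk D e1 e2 (P0 : ℤ)) {r : ℕ} (hr : r < D.nroots) (t : F) :
    Blk e1 e2 (D.x F r t) := by
  intro i j
  have e := x_entry D t t t hr varT (e2 i) (e1 j)
  rw [eval_varT] at e
  rw [e]
  exact eval_of_divP t t t (h r hr i j)

theorem AB_of_chk {F : Type*} [Field F] {P0 : ℕ} [CharP F P0] {ρ k : ℕ → ℕ} (h : chkAB D e1 e2 (P0 : ℤ) ρ k) (hρ : ∀ r, r < D.nroots → ρ r < D.nroots) {r : ℕ} (hr : r < D.nroots) (t : F) :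
    blB e2 (D.x F r t) = blA e1 (D.x F (ρ r) (t ^ k r)) := by
  ext i j
  simp only [blB, blA]
  have e := x_entry D t t t hr varT (e2 i) (e2 j)
  rw [eval_varT] at e
  have e' := x_entry D t t t (hρ r hr) (Pl.pow varT (k r)) (e1 i) (e1 j)
  rw [eval_pow_varT] at e'
  rw [e, e']
  exact eval_of_eqP t t t (h r hr i j)

end tables

end Cfsg.Agent.Lib.ReeA
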