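import Cfsg.Agent.Lib.ReeA
import Cfsg.Agent.Lib.ChevAut
import Cfsg.Agent.Lib.ChevValidG2
import Cfsg.Agent.Lib.ChevV2G2
import Cfsg.Agent.Lib.ChevV3G2
import Cfsg.Agent.Lib.ChevV4G2
import Cfsg.Prelude.Def_LieTwisted

/-! The exceptional isogeny of `G₂` in characteristic 3. -/

set_option autoImplicit false
set_option linter.unusedVariables false
set_option linter.unusedSectionVars false
set_option linter.unusedFintypeInType false
set_option linter.unusedDecidableInType false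

namespace Cfsg.Agent.Lib.ReeB

open Cfsg.Lie Matrix Cfsg.Agent.Lib.ChevEngine Cfsg.Agent.Lib.ChevTab Cfsg.Agent.Lib.ChevMono
  Cfsg.Agent.Lib.ChevRel Cfsg.Agent.Lib.ChevValid Cfsg.Agent.Lib.ChevGL Cfsg.Agent.Lib.ChevGrad Cfsg.Agent.Lib.ChevL2
  Cfsg.Agent.Lib.ChevU Cfsg.Agent.Lib.ChevU2 Cfsg.Agent.Lib.ChevU3 Cfsg.Agent.Lib.ChevDiag Cfsg.Agent.Lib.ChevV3
  Cfsg.Agent.Lib.ChevH Cfsg.Agent.Lib.ChevN Cfsg.Agent.Lib.ChevN2 Cfsg.Agent.Lib.ChevN3 Cfsg.Agent.Lib.ChevBN Cfsg.Agent.Lib.ChevBN2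
  Cfsg.Agent.Lib.ChevSimp2 Cfsg.Agent.Lib.ChevAut3 Cfsg.Agent.Lib.ReeA
  Cfsg.Agent.Lib.ChevTbG2 Cfsg.Agent.Lib.ChevValidG2 Cfsg.Agent.Lib.ChevV2G2 Cfsg.Agent.Lib.ChevV3G2 Cfsg.Agent.Lib.ChevV4G2

/-- coordinates of the invariant block -/
def e1 : Fin 7 → chevG2.Idx :=
  ![Sum.inl ⟨0, by decide⟩, Sum.inr ⟨7, by decide⟩, Sum.inr ⟨8, by decide⟩, Sum.inr ⟨9, by decide⟩, Sum.inr ⟨4, by decide⟩, Sum.inr ⟨3, by decide⟩, Sum.inr ⟨2, by decide⟩]

/-- coordinates of the quotient block -/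
def e2 : Fin 7 → chevG2.Idx :=
  ![Sum.inl ⟨1, by decide⟩, Sum.inr ⟨6, by decide⟩, Sum.inr ⟨10, by decide⟩, Sum.inr ⟨11, by decide⟩, Sum.inr ⟨5, by decide⟩, Sum.inr ⟨1, by decide⟩, Sum.inr ⟨0, by decide⟩]

def rhoG (r : ℕ) : ℕ := [2, 3, 0, 1, 5, 4, 7, 6, 10, 11, 8, 9].getD r 0

def kG (r : ℕ) : ℕ := [1, 1, 3, 3, 3, 1, 1, 3, 3, 3, 1, 1].getD r 1

theorem he : Function.Bijective (Sum.elim e1 e2) := by decide +kernel

theorem chkB : chkBlk chevG2 e1 e2 ((3 : ℕ) : ℤ) := by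
  unfold chkBlk
  decide +kernel

theorem chkC : chkAB chevG2 e1 e2 ((3 : ℕ) : ℤ) rhoG kG := by
  unfold chkAB
  decide +kernel

theorem rho_lt : ∀ r, r < chevG2.nroots → rhoG r < chevG2.nroots := by decide +kernel

theorem n_eq : T.n = chevG2.nroots := valid.hn


section
variable {K : Type*} [Field K] [CharP K 3]

theorem hblk (r : ℕ) (hr : r < T.n) (t : K) : Blk e1 e2 (chevG2.x K r t) :=
  Blk_of_chk (P0 := 3) chkB (by rw [← n_eq]; exact hr) t

theorem minus_one_ne : ∃ a : K, a ≠ 0 ∧ a ≠ 1 := by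
  refine ⟨-1, by simp, ?_⟩
  intro h
  have h2 : (3 : K) = 0 := by exact_mod_cast CharP.cast_eq_zero K 3
  have h3 : (1 : K) + 1 = 0 := by
    nth_rewrite 1 [← h]
    ring
  have h4 : (1 : K) = 0 := by
    have : (1 : K) = 3 - (1 + 1) := by ring
    rw [this, h2, h3]; ring
  exact one_ne_zero h4

theorem simple_G : IsSimpleGroup ↥(chevG2.group K) :=
  (Cfsg.Agent.Lib.ChevSimp2.simple valid valid2 valid3 valid4 (Or.inr minus_one_ne)).1

theorem A_ne : blA e1 ((xU valid 7 (1 : K) : GL chevG2.Idx K) : Matrix chevG2.Idx chevG2.Idx K) ≠ 1 := by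
  intro h
  have h1 := congrFun (congrFun h 0) 4
  simp only [blA, xU_val] at h1
  rw [Matrix.one_apply_ne (by decide)] at h1
  have e := x_entry chevG2 (1 : K) (1 : K) (1 : K) (r := 7) (by decide) varT (e1 0) (e1 4)
  rw [eval_varT] at e
  rw [e] at h1
  have e3 : lookup (colX chevG2 7 varT (code chevG2 (e1 4))) (code chevG2 (e1 0)) = [⟨1, 0, 0, 1⟩] := by
    decide +kernel
  rw [e3] at h1
  simp [Tm.eval] at h1

theorem A_inj0 : ∀ g ∈ chevG2.group K, blA e1 (g : Matrix chevG2.Idx chevG2.Idx K) = 1 → g = 1 :=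
  inj_of_simple valid he (hblk (K := K)) simple_G (xU_mem_group valid (by decide) _) A_ne

/-- The exceptional isogeny. -/
theorem exists_sigma0 : ∃ σ : ↥(chevG2.group K) →* ↥(chevG2.group K), ∀ {r : ℕ} (hr : r < T.n) (t : K),
    ((σ (xG valid hr t) : ↥(chevG2.group K)) : GL chevG2.Idx K) = xU valid (rhoG r) (t ^ kG r) := by
  have hρ : ∀ r < T.n, rhoG r < T.n := fun r hr => by
    rw [n_eq] at hr ⊢
    exact rho_lt r hr
  obtain ⟨σ, hσ⟩ := exists_sigma (c := fun r t => t ^ kG r) valid he (hblk (K := K)) hρ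
    (fun r hr t => AB_of_chk (P0 := 3) chkC rho_lt (by rw [← n_eq]; exact hr) t) A_inj0
  refine ⟨σ, fun {r} hr t => ?_⟩
  have hS := G_le_blkS valid he (hblk (K := K))
  have h1 := hσ (xG valid hr t)
  have hmem : xU valid (rhoG r) (t ^ kG r) ∈ chevG2.group K :=
    xU_mem_group valid (by rw [← n_eq]; exact hρ r hr) _
  have h2 : blB e2 (((xG valid hr t : ↥(chevG2.group K)) : GL chevG2.Idx K) : Matrix chevG2.Idx chevG2.Idx K) =
      blA e1 ((xU valid (rhoG r) (t ^ kG r) : GL chevG2.Idx K) : Matrix chevG2.Idx chevG2.Idx K) :=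
    AB_of_chk (P0 := 3) chkC rho_lt (by rw [← n_eq]; exact hr) t
  rw [h2] at h1
  set a : GL chevG2.Idx K := ((σ (xG valid hr t) : ↥(chevG2.group K)) : GL chevG2.Idx K) with ha
  have haG : a ∈ chevG2.group K := (σ (xG valid hr t)).2
  have h3 : a⁻¹ * xU valid (rhoG r) (t ^ kG r) = 1 := by
    apply A_inj0 _ (Subgroup.mul_mem _ (Subgroup.inv_mem _ haG) hmem)
    rw [Units.val_mul, blA_mul he (hS hmem).1, ← h1, blA_mul_inv he (hS haG)]
  exact (inv_mul_eq_one.mp h3)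

end

section
variable {K : Type*} [Field K]
variable {D : ChevalleyDatum} {T' : Tb} (V : Valid D T')

/-- Entrywise field automorphisms. -/
noncomputable def fld (φ : K ≃+* K) : ↥(D.group K) →* ↥(D.group K) :=
  ((Matrix.GeneralLinearGroup.map (φ : K →+* K)).comp (D.group K).subtype).codRestrict (D.group K) (by
    intro g
    obtain ⟨g, hg⟩ := g
    show Matrix.GeneralLinearGroup.map (φ : K →+* K) g ∈ D.group K
    rw [group_eq V] at hg ⊢
    induction hg using Subgroup.closure_induction with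
    | mem x hx =>
      obtain ⟨r, t, hr, rfl⟩ := hx
      apply Subgroup.subset_closure
      refine ⟨r, φ t, hr, ?_⟩
      apply Units.ext
      show (D.x K r t).map (φ : K →+* K) = D.x K r (φ t)
      simp only [ChevalleyDatum.x, hr, dif_pos]
      exact Cfsg.Agent.Lib.ChevAut.xMat_map (φ : K →+* K) _ _
    | one => simp [Subgroup.one_mem]
    | mul a b _ _ ha hb =>
      rw [map_mul]
      exact Subgroup.mul_mem _ ha hb
    | inv a _ ha =>
      rw [map_inv]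
      exact Subgroup.inv_mem _ ha)

theorem fld_x (φ : K ≃+* K) {r : ℕ} (hr : r < T'.n) (t : K) :
    ((fld V φ (xG V hr t) : ↥(D.group K)) : GL D.Idx K) = xU V r (φ t) := by
  apply Units.ext
  show (D.x K r t).map (φ : K →+* K) = D.x K r (φ t)
  have hr' : r < D.nroots := by rw [← V.hn]; exact hr
  simp only [ChevalleyDatum.x, hr', dif_pos]
  exact Cfsg.Agent.Lib.ChevAut.xMat_map (φ : K →+* K) _ _

end

end Cfsg.Agent.Lib.ReeB
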