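import Cfsg.Agent.Lib.ReeB

/-! `²G₂`: the unipotent group in characteristic 3. -/

set_option autoImplicit false
set_option linter.unusedVariables false
set_option linter.unusedSectionVars false
set_option linter.unusedFintypeInType false
set_option linter.unusedDecidableInType false

namespace Cfsg.Agent.Lib.ReeC

open Cfsg.Lie Matrix Cfsg.Agent.Lib.ChevEngine Cfsg.Agent.Lib.ChevTab Cfsg.Agent.Lib.ChevMono
  Cfsg.Agent.Lib.ChevRel Cfsg.Agent.Lib.ChevValid Cfsg.Agent.Lib.ChevGL Cfsg.Agent.Lib.ChevGrad Cfsg.Agent.Lib.ChevL2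
  Cfsg.Agent.Lib.ChevU Cfsg.Agent.Lib.ChevU2 Cfsg.Agent.Lib.ChevU3 Cfsg.Agent.Lib.ChevDiag Cfsg.Agent.Lib.ChevV3
  Cfsg.Agent.Lib.ChevH Cfsg.Agent.Lib.ChevN Cfsg.Agent.Lib.ChevN2 Cfsg.Agent.Lib.ChevN3 Cfsg.Agent.Lib.ChevBN Cfsg.Agent.Lib.ChevBN2
  Cfsg.Agent.Lib.ChevSimp2 Cfsg.Agent.Lib.ChevAut3 Cfsg.Agent.Lib.ReeA Cfsg.Agent.Lib.ReeB
  Cfsg.Agent.Lib.ChevTbG2 Cfsg.Agent.Lib.ChevValidG2 Cfsg.Agent.Lib.ChevV2G2 Cfsg.Agent.Lib.ChevV3G2 Cfsg.Agent.Lib.ChevV4G2

section check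

variable (D : ChevalleyDatum)

noncomputable def eqSV (P0 : ℤ) (N : ℕ) (v w : SV) : Bool := allBelow N fun i => eqP P0 (lookup v i) (lookup w i)

noncomputable def chkW (P0 : ℤ) (w1 w2 : SWord) : Bool :=
  let N := D.rank + D.nroots
  allBelow N fun a => eqSV P0 N (applyWord D w1 [(a, Pl.const 1)]) (applyWord D w2 [(a, Pl.const 1)])

theorem code_lt (i : D.Idx) : code D i < D.rank + D.nroots := by
  rcases i with i | i
  · have := i.isLt
    simp only [code]
    omega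
  · have := i.isLt
    simp only [code]
    omega

theorem eval_bas {F : Type*} [Field F] (t u v : F) (a : ℕ) : SV.eval D t u v [(a, Pl.const 1)] = bas D a := by
  rw [SV.eval_cons', Pl.eval_const]
  simp

theorem word_eq_of_chk {F : Type*} [Field F] {P0 : ℕ} [CharP F P0] {w1 w2 : SWord} (h : chkW D (P0 : ℤ) w1 w2 = true) (t u v : F) :
    D.wordMat F (SWord.eval t u v w1) = D.wordMat F (SWord.eval t u v w2) := by
  ext i j
  have h1 := (allBelow_iff _ _).1 h (code D j) (code_lt D j)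
  have h2 := (allBelow_iff _ _).1 h1 (code D i) (code_lt D i)
  have h3 := eval_of_eqP t u v h2
  rw [← eval_lookup, ← eval_lookup, ← word_mulVec_eval, ← word_mulVec_eval, eval_bas, mulVec_bas_code, mulVec_bas_code] at h3
  exact h3

end check

/-- monomials in the first two variables -/
def mT (k : ℤ) (a b : ℕ) : Pl := [⟨a, b, 0, k⟩]

section
variable {K : Type*} [Field K] [CharP K 3]

local notation "xr" => xU valid

theorem mT_eval (k : ℤ) (a b : ℕ) (t u v : K) : Pl.eval t u v (mT k a b) = (k : K) * t ^ a * u ^ b := by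
  simp [mT, Tm.eval]

/-- Words of two symbolic root elements commute -/
theorem comm_of_chk {i j : ℕ} (h : chkW chevG2 ((3 : ℕ) : ℤ) [(i, mT 1 1 0), (j, mT 1 0 1)] [(j, mT 1 0 1), (i, mT 1 1 0)] = true) (a b : K) :
    Commute (xr i a) (xr j b) := by
  have h1 := word_eq_of_chk chevG2 h a b 0
  apply Units.ext
  simpa [ChevalleyDatum.wordMat, SWord.eval, mT_eval] using h1

theorem c_7_9 (a b : K) : Commute (xr 7 a) (xr 9 b) := comm_of_chk (by decide +kernel) a b
theorem c_7_10 (a b : K) : Commute (xr 7 a) (xr 10 b) := comm_of_chk (by decide +kernel) a b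
theorem c_7_11 (a b : K) : Commute (xr 7 a) (xr 11 b) := comm_of_chk (by decide +kernel) a b
theorem c_6_8 (a b : K) : Commute (xr 6 a) (xr 8 b) := comm_of_chk (by decide +kernel) a b
theorem c_6_9 (a b : K) : Commute (xr 6 a) (xr 9 b) := comm_of_chk (by decide +kernel) a b
theorem c_6_11 (a b : K) : Commute (xr 6 a) (xr 11 b) := comm_of_chk (by decide +kernel) a b
theorem c_8_9 (a b : K) : Commute (xr 8 a) (xr 9 b) := comm_of_chk (by decide +kernel) a b
theorem c_8_10 (a b : K) : Commute (xr 8 a) (xr 10 b) := comm_of_chk (by decide +kernel) a b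
theorem c_8_11 (a b : K) : Commute (xr 8 a) (xr 11 b) := comm_of_chk (by decide +kernel) a b
theorem c_9_10 (a b : K) : Commute (xr 9 a) (xr 10 b) := comm_of_chk (by decide +kernel) a b
theorem c_9_11 (a b : K) : Commute (xr 9 a) (xr 11 b) := comm_of_chk (by decide +kernel) a b
theorem c_10_11 (a b : K) : Commute (xr 10 a) (xr 11 b) := comm_of_chk (by decide +kernel) a b

theorem R1 (t s : K) : xr 6 t * xr 7 s =
    xr 7 s * (xr 6 t * (xr 8 (t * s) * (xr 9 (t * s ^ 2) * (xr 10 (-(t * s ^ 3)) * xr 11 (-(t ^ 2 * s ^ 3)))))) := by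
  have h1 := word_eq_of_chk (P0 := 3) chevG2 (w1 := [(6, mT 1 1 0), (7, mT 1 0 1)])
    (w2 := [(7, mT 1 0 1), (6, mT 1 1 0), (8, mT 1 1 1), (9, mT 1 1 2), (10, mT (-1) 1 3), (11, mT (-1) 2 3)]) (by decide +kernel) t s 0
  apply Units.ext
  simpa [ChevalleyDatum.wordMat, SWord.eval, mT_eval] using h1

theorem R2 (t s : K) : xr 8 t * xr 7 s = xr 7 s * (xr 8 t * xr 9 (-(t * s))) := by
  have h1 := word_eq_of_chk (P0 := 3) chevG2 (w1 := [(8, mT 1 1 0), (7, mT 1 0 1)])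
    (w2 := [(7, mT 1 0 1), (8, mT 1 1 0), (9, mT (-1) 1 1)]) (by decide +kernel) t s 0
  apply Units.ext
  simpa [ChevalleyDatum.wordMat, SWord.eval, mT_eval] using h1

theorem R3 (t s : K) : xr 10 t * xr 6 s = xr 6 s * (xr 10 t * xr 11 (-(t * s))) := by
  have h1 := word_eq_of_chk (P0 := 3) chevG2 (w1 := [(10, mT 1 1 0), (6, mT 1 0 1)])
    (w2 := [(6, mT 1 0 1), (10, mT 1 1 0), (11, mT (-1) 1 1)]) (by decide +kernel) t s 0
  apply Units.ext
  simpa [ChevalleyDatum.wordMat, SWord.eval, mT_eval] using h1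

/-- The abelian part. -/
noncomputable def WW (c d e f : K) : GL chevG2.Idx K := xr 8 c * (xr 9 d * (xr 10 e * xr 11 f))

theorem WW_mul (c d e f c' d' e' f' : K) : WW c d e f * WW c' d' e' f' = WW (c + c') (d + d') (e + e') (f + f') := by
  unfold WW
  have h1 : Commute (xr 9 d * (xr 10 e * xr 11 f)) (xr 8 c') :=
    ((c_8_9 c' d).mul_right ((c_8_10 c' e).mul_right (c_8_11 c' f))).symm
  have h2 : Commute (xr 10 e * xr 11 f) (xr 9 d') :=
    ((c_9_10 d' e).mul_right (c_9_11 d' f)).symm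
  have h3 : Commute (xr 11 f) (xr 10 e') := (c_10_11 e' f).symm
  rw [h1.mul_mul_mul_comm, h2.mul_mul_mul_comm, h3.mul_mul_mul_comm, xU_mul, xU_mul, xU_mul, xU_mul]

theorem WW_zero : WW (0 : K) 0 0 0 = 1 := by
  simp [WW]

theorem WW_a (c d e f s : K) : WW c d e f * xr 7 s = xr 7 s * WW c (d - c * s) e f := by
  unfold WW
  have h1 : Commute (xr 9 d * (xr 10 e * xr 11 f)) (xr 7 s) :=
    ((c_7_9 s d).mul_right ((c_7_10 s e).mul_right (c_7_11 s f))).symm
  rw [mul_assoc, h1.eq, ← mul_assoc, R2, mul_assoc, mul_assoc]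
  congr 2
  rw [← mul_assoc, xU_mul, sub_eq_add_neg, add_comm]

theorem WW_b (c d e f t : K) : WW c d e f * xr 6 t = xr 6 t * WW c d e (f - e * t) := by
  unfold WW
  have h0 : Commute (xr 8 c) (xr 6 t) := (c_6_8 t c).symm
  have h1 : Commute (xr 9 d) (xr 6 t) := (c_6_9 t d).symm
  have h2 : Commute (xr 11 f) (xr 6 t) := (c_6_11 t f).symm
  calc xr 8 c * (xr 9 d * (xr 10 e * xr 11 f)) * xr 6 t
      = xr 8 c * (xr 9 d * (xr 10 e * (xr 11 f * xr 6 t))) := by simp only [mul_assoc]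
    _ = xr 8 c * (xr 9 d * (xr 10 e * xr 6 t * xr 11 f)) := by rw [h2.eq]; simp only [mul_assoc]
    _ = xr 8 c * (xr 9 d * (xr 6 t * (xr 10 e * (xr 11 (-(e * t)) * xr 11 f)))) := by rw [R3]; simp only [mul_assoc]
    _ = xr 8 c * (xr 9 d * xr 6 t * (xr 10 e * xr 11 (f - e * t))) := by
        rw [xU_mul, neg_add_eq_sub]
        simp only [mul_assoc]
    _ = xr 6 t * (xr 8 c * (xr 9 d * (xr 10 e * xr 11 (f - e * t)))) := by
        rw [h1.eq]
        simp only [← mul_assoc]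
        rw [h0.eq]

/-- A general element of `U`. -/
noncomputable def UU (a b c d e f : K) : GL chevG2.Idx K := xr 7 a * (xr 6 b * WW c d e f)

theorem R1' (t s : K) : xr 6 t * xr 7 s = xr 7 s * (xr 6 t * WW (t * s) (t * s ^ 2) (-(t * s ^ 3)) (-(t ^ 2 * s ^ 3))) := R1 t s

theorem UU_mul (a b c d e f a' b' c' d' e' f' : K) : UU a b c d e f * UU a' b' c' d' e' f' =
    UU (a + a') (b + b') (c + b * a' + c') (d - c * a' + b * a' ^ 2 + d') (e - b * a' ^ 3 + e')
      (f - b ^ 2 * a' ^ 3 - (e - b * a' ^ 3) * b' + f') := by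
  unfold UU
  calc xr 7 a * (xr 6 b * WW c d e f) * (xr 7 a' * (xr 6 b' * WW c' d' e' f'))
      = xr 7 a * (xr 6 b * (WW c d e f * xr 7 a') * (xr 6 b' * WW c' d' e' f')) := by simp only [mul_assoc]
    _ = xr 7 a * ((xr 6 b * xr 7 a') * WW c (d - c * a') e f * (xr 6 b' * WW c' d' e' f')) := by rw [WW_a]; simp only [mul_assoc]
    _ = (xr 7 a * xr 7 a') * (xr 6 b * (WW (b * a') (b * a' ^ 2) (-(b * a' ^ 3)) (-(b ^ 2 * a' ^ 3)) * WW c (d - c * a') e f * xr 6 b') * WW c' d' e' f') := by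
        rw [R1']; simp only [mul_assoc]
    _ = xr 7 (a + a') * (xr 6 b * (xr 6 b' * WW (b * a' + c) (b * a' ^ 2 + (d - c * a')) (-(b * a' ^ 3) + e) (-(b ^ 2 * a' ^ 3) + f - (-(b * a' ^ 3) + e) * b')) * WW c' d' e' f') := by
        rw [WW_mul, WW_b, xU_mul]
    _ = _ := by
        rw [mul_assoc (xr 6 b), mul_assoc (xr 6 b'), ← mul_assoc (xr 6 b), xU_mul, WW_mul]
        congr 3 <;> ring

theorem UU_as_pfr (a b c d e f : K) : UU a b c d e f =
    xr 6 b * (xr 7 a * WW (c - b * a) (d - b * a ^ 2) (e + b * a ^ 3) (f + b ^ 2 * a ^ 3)) := by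
  rw [← mul_assoc, R1', UU, mul_assoc, mul_assoc, WW_mul]
  congr 3 <;> ring

/-- The coordinates as a function -/
def coordF (a b c d e f : K) (r : ℕ) : K :=
  if r = 6 then b else if r = 7 then a else if r = 8 then c else if r = 9 then d else if r = 10 then e else f

theorem UU_eq_pfr (a b c d e f : K) : UU a b c d e f =
    pfr valid (coordF a b (c - b * a) (d - b * a ^ 2) (e + b * a ^ 3) (f + b ^ 2 * a ^ 3)) 6 6 := by
  rw [UU_as_pfr]
  simp only [pfr, coordF, WW]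
  simp [mul_assoc]

theorem UU_inj {a b c d e f a' b' c' d' e' f' : K} (h : UU a b c d e f = UU a' b' c' d' e' f') :
    a = a' ∧ b = b' ∧ c = c' ∧ d = d' ∧ e = e' ∧ f = f' := by
  rw [UU_eq_pfr, UU_eq_pfr] at h
  have h0 := pfr_inj valid valid2 6 6 (by decide +kernel) (by decide) h
  have h6 := h0 6 (by omega) (by omega)
  have h7 := h0 7 (by omega) (by omega)
  have h8 := h0 8 (by omega) (by omega)
  have h9 := h0 9 (by omega) (by omega)
  have h10 := h0 10 (by omega) (by omega)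
  have h11 := h0 11 (by omega) (by omega)
  simp only [coordF] at h6 h7 h8 h9 h10 h11
  norm_num at h6 h7 h8 h9 h10 h11
  subst h6 h7
  refine ⟨rfl, rfl, ?_, ?_, ?_, ?_⟩
  · exact sub_left_injective h8
  · exact sub_left_injective h9
  · exact add_left_injective _ h10
  · exact add_left_injective _ h11

theorem U_eq_UU {g : GL chevG2.Idx K} (hg : g ∈ chevG2.posUnipotent K) : ∃ a b c d e f : K, g = UU a b c d e f := by
  rw [posUnipotent_eq_uge valid valid2] at hg
  obtain ⟨f, rfl⟩ := exists_pfr valid valid2 6 (T.n / 2) (by omega) (by decide +kernel) hg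
  have h6 : T.n / 2 = 6 := by decide +kernel
  rw [h6]
  refine ⟨f 7, f 6, f 8 + f 6 * f 7, f 9 + f 6 * f 7 ^ 2, f 10 - f 6 * f 7 ^ 3, f 11 - f 6 ^ 2 * f 7 ^ 3, ?_⟩
  rw [UU_as_pfr]
  simp only [pfr, WW]
  simp [mul_assoc]

end

end Cfsg.Agent.Lib.ReeC
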