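import Cfsg.Agent.Lib.ReeC

/-! `²G₂`: the twisting automorphism and its fixed points in `U`. -/

set_option autoImplicit false
set_option linter.unusedVariables false
set_option linter.unusedSectionVars false
set_option linter.unusedFintypeInType false
set_option linter.unusedDecidableInType false

namespace Cfsg.Agent.Lib.ReeD

open Cfsg.Lie Matrix Cfsg.Agent.Lib.ChevEngine Cfsg.Agent.Lib.ChevTab Cfsg.Agent.Lib.ChevMono
  Cfsg.Agent.Lib.ChevRel Cfsg.Agent.Lib.ChevValid Cfsg.Agent.Lib.ChevGL Cfsg.Agent.Lib.ChevGrad Cfsg.Agent.Lib.ChevL2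
  Cfsg.Agent.Lib.ChevU Cfsg.Agent.Lib.ChevU2 Cfsg.Agent.Lib.ChevU3 Cfsg.Agent.Lib.ChevDiag Cfsg.Agent.Lib.ChevV3
  Cfsg.Agent.Lib.ChevH Cfsg.Agent.Lib.ChevN Cfsg.Agent.Lib.ChevN2 Cfsg.Agent.Lib.ChevN3 Cfsg.Agent.Lib.ChevBN Cfsg.Agent.Lib.ChevBN2
  Cfsg.Agent.Lib.ChevSimp2 Cfsg.Agent.Lib.ChevAut3 Cfsg.Agent.Lib.ChevTw4 Cfsg.Agent.Lib.ReeA Cfsg.Agent.Lib.ReeB Cfsg.Agent.Lib.ReeC
  Cfsg.Agent.Lib.ChevTbG2 Cfsg.Agent.Lib.ChevValidG2 Cfsg.Agent.Lib.ChevV2G2 Cfsg.Agent.Lib.ChevV3G2 Cfsg.Agent.Lib.ChevV4G2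

def piG (i : ℕ) : ℕ := [1, 0].getD i 0

theorem tT_n : T.n = 12 := by decide +kernel
theorem tT_l : T.l = 2 := by decide +kernel

theorem rho_pos_tbl : ∀ r, r < 12 → 6 ≤ r → 6 ≤ rhoG r := by decide +kernel
theorem rho_neg_tbl : ∀ r, r < 12 → rhoG (T.neg r) = T.neg (rhoG r) := by decide +kernel
theorem rho_sim_tbl : ∀ i, i < 2 → rhoG (T.sim i) = T.sim (piG i) := by decide +kernel
theorem pi_lt_tbl : ∀ i, i < 2 → piG i < 2 := by decide +kernel
theorem k_tbl : ∀ r, r < 12 → (kG r = 1 ∨ kG r = 3) ∧ kG (T.neg r) = kG r := by decide +kernel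
theorem supp_tbl : ∀ r, r < 12 → ∀ i, i < 2 → (C.coef (rhoG r) (piG i) = 0 ↔ C.coef r i = 0) := by decide +kernel

section
variable {K : Type*} [Field K] [CharP K 3] (θ : K ≃+* K)

local notation "xr" => xU valid

noncomputable def sig0 : ↥(chevG2.group K) →* ↥(chevG2.group K) := Classical.choose (exists_sigma0 (K := K))

theorem sig0_x {r : ℕ} (hr : r < T.n) (t : K) :
    ((sig0 (xG valid hr t) : ↥(chevG2.group K)) : GL chevG2.Idx K) = xU valid (rhoG r) (t ^ kG r) :=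
  Classical.choose_spec (exists_sigma0 (K := K)) hr t

/-- The twisting endomorphism. -/
noncomputable def sigma : ↥(chevG2.group K) →* ↥(chevG2.group K) := (fld valid θ).comp sig0

theorem rho_lt' {r : ℕ} (hr : r < T.n) : rhoG r < T.n := by
  rw [n_eq] at hr ⊢
  exact rho_lt r hr

theorem sigma_x {r : ℕ} (hr : r < T.n) (t : K) :
    ((sigma θ (xG valid hr t) : ↥(chevG2.group K)) : GL chevG2.Idx K) = xU valid (rhoG r) (θ (t ^ kG r)) := by
  have h1 : sig0 (xG valid hr t) = xG valid (rho_lt' hr) (t ^ kG r) := Subtype.ext (sig0_x hr t)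
  show ((fld valid θ (sig0 (xG valid hr t)) : ↥(chevG2.group K)) : GL chevG2.Idx K) = _
  rw [h1, fld_x]

/-- The twist as a structure. -/
noncomputable def tw : TwAut valid C K where
  σ := sigma θ
  ρ := rhoG
  π := piG
  c := fun r t => θ (t ^ kG r)
  hσ := fun hr t => sigma_x θ hr t
  ρ_lt := fun h => rho_lt' h
  ρ_pos := by
    intro r h1 h2
    have h3 : T.n / 2 = 6 := by rw [tT_n]
    rw [h3] at h1 ⊢
    rw [tT_n] at h2
    exact rho_pos_tbl r h2 h1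
  ρ_neg := by
    intro r h
    rw [tT_n] at h
    exact rho_neg_tbl r h
  ρ_sim := by
    intro i h
    rw [tT_l] at h
    exact rho_sim_tbl i h
  π_lt := by
    intro i h
    rw [tT_l] at h ⊢
    exact pi_lt_tbl i h
  c_ne := by
    intro r t hr ht
    simp only [ne_eq, map_eq_zero_iff θ θ.injective]
    exact pow_ne_zero _ ht
  c_inv := by
    intro r t hr ht
    rw [tT_n] at hr
    obtain ⟨h1, h2⟩ := k_tbl r hr
    rw [h2]
    rcases h1 with h1 | h1 <;> rw [h1]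
    · simp
    · have : (-t⁻¹) ^ 3 = -(t ^ 3)⁻¹ := by
        field_simp
      rw [this, map_neg, map_inv₀]
  supp := by
    intro r i hr hi
    rw [tT_n] at hr
    rw [tT_l] at hi
    exact supp_tbl r hr i hi

/-- A general element of `U` in the group. -/
noncomputable def xG7 (t : K) : ↥(chevG2.group K) := xG valid (r := 7) (by rw [tT_n]; omega) t

noncomputable def UUG (a b c d e f : K) : ↥(chevG2.group K) :=
  xG valid (r := 7) (by rw [tT_n]; omega) a * (xG valid (r := 6) (by rw [tT_n]; omega) b *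
    (xG valid (r := 8) (by rw [tT_n]; omega) c * (xG valid (r := 9) (by rw [tT_n]; omega) d *
      (xG valid (r := 10) (by rw [tT_n]; omega) e * xG valid (r := 11) (by rw [tT_n]; omega) f))))

theorem UUG_val (a b c d e f : K) : ((UUG a b c d e f : ↥(chevG2.group K)) : GL chevG2.Idx K) = UU a b c d e f := rfl

theorem UU_mem_G (a b c d e f : K) : UU a b c d e f ∈ chevG2.group K := (UUG a b c d e f).2

theorem sigma_UU (a b c d e f : K) :
    ((sigma θ (UUG a b c d e f) : ↥(chevG2.group K)) : GL chevG2.Idx K) =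
      UU (θ b) (θ a ^ 3) (θ a ^ 3 * θ b + θ e) (θ a ^ 3 * θ b ^ 2 + θ f)
        (-(θ a ^ 3 * θ b ^ 3) + θ c ^ 3) (-((θ a ^ 3) ^ 2 * θ b ^ 3) + θ d ^ 3) := by
  unfold UUG
  simp only [map_mul, Subgroup.coe_mul, sigma_x]
  have e7 : rhoG 7 = 6 := by decide
  have e6 : rhoG 6 = 7 := by decide
  have e8 : rhoG 8 = 10 := by decide
  have e9 : rhoG 9 = 11 := by decide
  have e10 : rhoG 10 = 8 := by decide
  have e11 : rhoG 11 = 9 := by decide
  have k7 : kG 7 = 3 := by decide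
  have k6 : kG 6 = 1 := by decide
  have k8 : kG 8 = 3 := by decide
  have k9 : kG 9 = 3 := by decide
  have k10 : kG 10 = 1 := by decide
  have k11 : kG 11 = 1 := by decide
  rw [e7, e6, e8, e9, e10, e11, k7, k6, k8, k9, k10, k11]
  simp only [pow_one, map_pow]
  set T' := θ a ^ 3
  set S := θ b
  set C' := θ c ^ 3
  set D' := θ d ^ 3
  have h1 : xr 10 C' * (xr 11 D' * (xr 8 (θ e) * xr 9 (θ f))) = WW (θ e) (θ f) C' D' := by
    unfold WW
    have c1 : Commute (xr 11 D') (xr 8 (θ e) * xr 9 (θ f)) :=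
      ((c_8_11 (θ e) D').mul_left (c_9_11 (θ f) D')).symm
    have c2 : Commute (xr 10 C') (xr 8 (θ e) * xr 9 (θ f)) :=
      ((c_8_10 (θ e) C').mul_left (c_9_10 (θ f) C')).symm
    rw [c1.eq, ← mul_assoc, c2.eq]
    simp only [mul_assoc]
  rw [h1]
  calc xr 6 T' * (xr 7 S * WW (θ e) (θ f) C' D')
      = (xr 6 T' * xr 7 S) * WW (θ e) (θ f) C' D' := by simp only [mul_assoc]
    _ = xr 7 S * (xr 6 T' * (WW (T' * S) (T' * S ^ 2) (-(T' * S ^ 3)) (-(T' ^ 2 * S ^ 3)) * WW (θ e) (θ f) C' D')) := by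
        rw [R1']; simp only [mul_assoc]
    _ = _ := by
        rw [WW_mul]
        rfl

variable {θ}

/-- The words. -/
noncomputable def wd (θ : K ≃+* K) (t u v : K) : GL chevG2.Idx K :=
  UU (θ t) t (θ t * t + θ u) (θ t ^ 2 * t + θ v) u v

theorem add_cube (a b : K) : (a + b) ^ 3 = a ^ 3 + b ^ 3 := by
  haveI : Fact (Nat.Prime 3) := ⟨Nat.prime_three⟩
  exact add_pow_char a b 3

theorem mem_Fix_UU {a b c d e f : K} : UU a b c d e f ∈ (tw θ).Fix ↔
    UU (θ b) (θ a ^ 3) (θ a ^ 3 * θ b + θ e) (θ a ^ 3 * θ b ^ 2 + θ f)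
        (-(θ a ^ 3 * θ b ^ 3) + θ c ^ 3) (-((θ a ^ 3) ^ 2 * θ b ^ 3) + θ d ^ 3) = UU a b c d e f := by
  rw [TwAut.mem_Fix]
  constructor
  · rintro ⟨h, e1⟩
    rw [← sigma_UU θ]
    exact e1
  · intro h
    refine ⟨UU_mem_G a b c d e f, ?_⟩
    have e1 : (tw θ).sg ⟨UU a b c d e f, UU_mem_G a b c d e f⟩ = ((sigma θ (UUG a b c d e f) : ↥(chevG2.group K)) : GL chevG2.Idx K) := rfl
    rw [e1, sigma_UU, h]

theorem wd_mem_Fix (hθ : ∀ x, θ (θ x) ^ 3 = x) (t u v : K) : wd θ t u v ∈ (tw θ).Fix := by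
  unfold wd
  rw [mem_Fix_UU]
  have h1 := hθ t
  congr 1
  · rw [h1, mul_comm]
  · rw [h1, mul_comm]
  · rw [h1, map_add, map_mul, add_cube, mul_pow, hθ, hθ]
    ring
  · have e1 : θ (θ t ^ 2 * t + θ v) = (θ (θ t)) ^ 2 * θ t + θ (θ v) := by
      simp only [map_add, map_mul, map_pow]
    have e2 : ((θ (θ t)) ^ 2) ^ 3 = t ^ 2 := by
      rw [← pow_mul, mul_comm, pow_mul, h1]
    rw [h1, e1, add_cube, mul_pow, hθ v, e2]
    ring

theorem fix_wd {g : GL chevG2.Idx K} (hg : g ∈ chevG2.posUnipotent K) (hF : g ∈ (tw θ).Fix) : ∃ t u v, g = wd θ t u v := by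
  obtain ⟨a, b, c, d, e, f, rfl⟩ := U_eq_UU hg
  rw [mem_Fix_UU] at hF
  obtain ⟨h1, h2, h3, h4, h5, h6⟩ := UU_inj hF
  refine ⟨b, e, f, ?_⟩
  unfold wd
  subst h1
  rw [h2] at h3 h4
  rw [← h3, ← h4, mul_comm b, mul_comm b]

theorem wd_inj {t u v t' u' v' : K} (h : wd θ t u v = wd θ t' u' v') : t = t' ∧ u = u' ∧ v = v' := by
  obtain ⟨h1, h2, h3, h4, h5, h6⟩ := UU_inj h
  exact ⟨h2, h5, h6⟩

/-- The law in `U¹`. -/
theorem wd_mul (hθ : ∀ x, θ (θ x) ^ 3 = x) (t u v t' u' v' : K) :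
    wd θ t u v * wd θ t' u' v' = wd θ (t + t') (u + u' - t * θ t' ^ 3)
      (v + v' - t ^ 2 * θ t' ^ 3 - (u - t * θ t' ^ 3) * t') := by
  unfold wd
  rw [UU_mul]
  have h3 : (3 : K) = 0 := by exact_mod_cast CharP.cast_eq_zero K 3
  have htt := hθ t'
  congr 1
  · rw [map_add]
  · simp only [map_add, map_sub, map_mul, map_pow, htt]
    ring
  · simp only [map_add, map_sub, map_mul, map_pow, htt]
    linear_combination (-(θ t * θ t' * t') - (θ t * t * θ t') : K) * h3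
  · ring
  · ring

end

end Cfsg.Agent.Lib.ReeD
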