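import Cfsg.Agent.Lib.ReeD

/-! `²G₂`: the negative part, the group generated by the fixed points. -/

set_option autoImplicit false
set_option linter.unusedVariables false
set_option linter.unusedSectionVars false
set_option linter.unusedFintypeInType false
set_option linter.unusedDecidableInType false

namespace Cfsg.Agent.Lib.ReeE

open Cfsg.Lie Matrix Cfsg.Agent.Lib.ChevEngine Cfsg.Agent.Lib.ChevTab Cfsg.Agent.Lib.ChevMono
  Cfsg.Agent.Lib.ChevRel Cfsg.Agent.Lib.ChevValid Cfsg.Agent.Lib.ChevGL Cfsg.Agent.Lib.ChevGrad Cfsg.Agent.Lib.ChevL2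
  Cfsg.Agent.Lib.ChevU Cfsg.Agent.Lib.ChevU2 Cfsg.Agent.Lib.ChevU3 Cfsg.Agent.Lib.ChevDiag Cfsg.Agent.Lib.ChevV3
  Cfsg.Agent.Lib.ChevH Cfsg.Agent.Lib.ChevN Cfsg.Agent.Lib.ChevN2 Cfsg.Agent.Lib.ChevN3 Cfsg.Agent.Lib.ChevBN Cfsg.Agent.Lib.ChevBN2
  Cfsg.Agent.Lib.ChevSimp2 Cfsg.Agent.Lib.ChevAut3 Cfsg.Agent.Lib.ChevTw1 Cfsg.Agent.Lib.ChevTw2 Cfsg.Agent.Lib.ChevTw4 Cfsg.Agent.Lib.ChevPar
  Cfsg.Agent.Lib.ReeA Cfsg.Agent.Lib.ReeB Cfsg.Agent.Lib.ReeC Cfsg.Agent.Lib.ReeD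
  Cfsg.Agent.Lib.ChevTbG2 Cfsg.Agent.Lib.ChevValidG2 Cfsg.Agent.Lib.ChevV2G2 Cfsg.Agent.Lib.ChevV3G2 Cfsg.Agent.Lib.ChevV4G2

/-- The involution on coordinates. -/
def omI : chevG2.Idx ≃ chevG2.Idx := Equiv.sumCongr (Equiv.refl _) Fin.revPerm

theorem omI_symm : omI.symm = omI := by
  ext i
  rcases i with i | i <;> simp [omI]

theorem omI_omI (i : chevG2.Idx) : omI (omI i) = i := by
  rcases i with i | i <;> simp [omI]

theorem tau_tbl : ∀ r, r < 12 → ∀ i j : chevG2.Idx,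
    eqP ((3 : ℕ) : ℤ) (lookup (colX chevG2 r varT (code chevG2 (omI j))) (code chevG2 (omI i)))
      (lookup (colX chevG2 (11 - r) (Pl.smul (-1) varT) (code chevG2 j)) (code chevG2 i)) = true := by
  decide +kernel

theorem neg_tbl : ∀ r, r < 12 → T.neg r = 11 - r := by decide +kernel

section
variable {K : Type*} [Field K] [CharP K 3]

local notation "xr" => xU valid

/-- The automorphism `x_r(t) ↦ x_{-r}(-t)`. -/
noncomputable def tau : GL chevG2.Idx K →* GL chevG2.Idx K := Units.map (Matrix.reindexRingEquiv K omI).toMonoidHom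

theorem tau_val (g : GL chevG2.Idx K) (i j : chevG2.Idx) : ((tau g : GL chevG2.Idx K) : Matrix chevG2.Idx chevG2.Idx K) i j = (g : Matrix chevG2.Idx chevG2.Idx K) (omI i) (omI j) := by
  show (Matrix.reindexRingEquiv K omI (g : Matrix chevG2.Idx chevG2.Idx K)) i j = _
  simp only [Matrix.coe_reindexRingEquiv, Matrix.reindex_apply, Matrix.submatrix_apply, omI_symm]

theorem tau_tau (g : GL chevG2.Idx K) : tau (tau g) = g := by
  apply Units.ext
  ext i j
  rw [tau_val, tau_val, omI_omI, omI_omI]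

theorem tau_x {r : ℕ} (hr : r < 12) (t : K) : tau (xr r t) = xr (11 - r) (-t) := by
  apply Units.ext
  ext i j
  rw [tau_val, xU_val, xU_val]
  have h1 := x_entry chevG2 t t t (r := r) hr varT (omI i) (omI j)
  rw [eval_varT] at h1
  have h2 := x_entry chevG2 t t t (r := 11 - r) (by show 11 - r < 12; omega) (Pl.smul (-1) varT) i j
  have h3 : Pl.eval t t t (Pl.smul (-1) varT) = -t := by
    rw [Pl.eval_smul, eval_varT]
    simp
  rw [h3] at h2
  rw [h1, h2]
  exact eval_of_eqP t t t (tau_tbl r hr i j)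

theorem hom_ext {H : Type*} [Group H] {f1 f2 : ↥(chevG2.group K) →* H}
    (h : ∀ {r : ℕ} (hr : r < T.n) (t : K), f1 (xG valid hr t) = f2 (xG valid hr t)) : f1 = f2 := by
  ext ⟨g, hg⟩
  have hg' := hg
  rw [group_eq valid] at hg'
  induction hg' using Subgroup.closure_induction with
  | mem x hx =>
    obtain ⟨r, t, hr, rfl⟩ := hx
    exact h (by rw [n_eq]; exact hr) t
  | one => exact (map_one f1).trans (map_one f2).symm
  | mul a b ha hb h1 h2 =>
    have e : (⟨a * b, hg⟩ : ↥(chevG2.group K)) = ⟨a, by rw [group_eq valid]; exact ha⟩ * ⟨b, by rw [group_eq valid]; exact hb⟩ := rfl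
    rw [e, map_mul, map_mul, h1, h2]
  | inv a ha h1 =>
    have e : (⟨a⁻¹, hg⟩ : ↥(chevG2.group K)) = (⟨a, by rw [group_eq valid]; exact ha⟩)⁻¹ := rfl
    rw [e, map_inv, map_inv, h1]

theorem tau_mem_G {g : GL chevG2.Idx K} (hg : g ∈ chevG2.group K) : tau g ∈ chevG2.group K := by
  rw [group_eq valid] at hg
  induction hg using Subgroup.closure_induction with
  | mem x hx =>
    obtain ⟨r, t, hr, rfl⟩ := hx
    rw [tau_x hr]
    exact xU_mem_group valid (by show 11 - r < 12; omega) _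
  | one => rw [map_one]; exact Subgroup.one_mem _
  | mul a b _ _ h1 h2 =>
    rw [map_mul]
    exact Subgroup.mul_mem _ h1 h2
  | inv a _ h1 =>
    rw [map_inv]
    exact Subgroup.inv_mem _ h1

noncomputable def tauG : ↥(chevG2.group K) →* ↥(chevG2.group K) :=
  (tau.comp (chevG2.group K).subtype).codRestrict _ (fun g => tau_mem_G g.2)

variable (θ : K ≃+* K)

theorem sigma_tau (g : ↥(chevG2.group K)) : sigma θ (tauG g) = tauG (sigma θ g) := by
  have h := hom_ext (K := K) (f1 := (sigma θ).comp tauG) (f2 := tauG.comp (sigma θ)) (by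
    intro r hr t
    have hr' : r < 12 := by rwa [tT_n] at hr
    apply Subtype.ext
    have h1 : tauG (xG valid hr t) = xG valid (r := 11 - r) (by rw [tT_n]; omega) (-t) := Subtype.ext (tau_x hr' t)
    show ((sigma θ (tauG (xG valid hr t)) : ↥(chevG2.group K)) : GL chevG2.Idx K) = tau ((sigma θ (xG valid hr t) : ↥(chevG2.group K)) : GL chevG2.Idx K)
    rw [h1, sigma_x, sigma_x]
    have h2 : rhoG r < 12 := rho_lt r hr'
    rw [tau_x h2]
    have h3 := rho_neg_tbl r hr'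
    rw [neg_tbl r hr', neg_tbl _ h2] at h3
    rw [h3]
    obtain ⟨h4, h5⟩ := k_tbl r hr'
    rw [neg_tbl r hr'] at h5
    rw [h5]
    congr 1
    rcases h4 with h4 | h4 <;> rw [h4]
    · simp
    · have : (-t) ^ 3 = -(t ^ 3) := by ring
      rw [this, map_neg])
  exact congrFun (congrArg DFunLike.coe h) g

variable {θ}

theorem tau_mem_Fix {g : GL chevG2.Idx K} (hg : g ∈ (tw θ).Fix) : tau g ∈ (tw θ).Fix := by
  rw [TwAut.mem_Fix] at hg ⊢
  obtain ⟨h, e⟩ := hg
  refine ⟨tau_mem_G h, ?_⟩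
  have h1 := sigma_tau θ ⟨g, h⟩
  have e2 : sigma θ ⟨g, h⟩ = ⟨g, h⟩ := Subtype.ext e
  rw [e2] at h1
  exact congrArg Subtype.val h1

theorem pos_iff (r : ℕ) : chevG2.IsPosRoot r ↔ 6 ≤ r ∧ r < 12 := by
  rw [isPos_iff valid valid2]
  have : T.n / 2 = 6 := by rw [tT_n]
  rw [this]
  rfl

theorem neg_iff (r : ℕ) : chevG2.IsNegRoot r ↔ r < 6 := by
  rw [isNeg_iff valid valid2]
  have : T.n / 2 = 6 := by rw [tT_n]
  rw [this]

theorem tau_U {g : GL chevG2.Idx K} (hg : g ∈ chevG2.posUnipotent K) : tau g ∈ chevG2.negUnipotent K := by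
  rw [posUnipotent_eq valid] at hg
  induction hg using Subgroup.closure_induction with
  | mem x hx =>
    obtain ⟨r, t, hr, rfl⟩ := hx
    obtain ⟨h1, h2⟩ := (pos_iff r).1 hr
    rw [tau_x h2, negUnipotent_eq valid]
    exact Subgroup.subset_closure ⟨11 - r, -t, (neg_iff _).2 (by omega), rfl⟩
  | one => rw [map_one]; exact Subgroup.one_mem _
  | mul a b _ _ h1 h2 =>
    rw [map_mul]
    exact Subgroup.mul_mem _ h1 h2
  | inv a _ h1 =>
    rw [map_inv]
    exact Subgroup.inv_mem _ h1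

theorem tau_V {g : GL chevG2.Idx K} (hg : g ∈ chevG2.negUnipotent K) : tau g ∈ chevG2.posUnipotent K := by
  rw [negUnipotent_eq valid] at hg
  induction hg using Subgroup.closure_induction with
  | mem x hx =>
    obtain ⟨r, t, hr, rfl⟩ := hx
    have h1 := (neg_iff r).1 hr
    rw [tau_x (by omega), posUnipotent_eq valid]
    exact Subgroup.subset_closure ⟨11 - r, -t, (pos_iff _).2 (by omega), rfl⟩
  | one => rw [map_one]; exact Subgroup.one_mem _
  | mul a b _ _ h1 h2 =>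
    rw [map_mul]
    exact Subgroup.mul_mem _ h1 h2
  | inv a _ h1 =>
    rw [map_inv]
    exact Subgroup.inv_mem _ h1

/-- The set of all simple roots. -/
def AA : Set ℕ := {0, 1}

theorem inJ_all (r : ℕ) : InJ C T.l AA r := by
  intro i hi hn
  rw [tT_l] at hi
  exfalso
  apply hn
  show i = 0 ∨ i = 1
  omega

theorem stableA : (tw θ).Stable AA := by
  constructor
  · rintro r ⟨h1, h2, -⟩
    exact ⟨(tw θ).ρ_pos h1 h2, (tw θ).ρ_lt h2, inJ_all _⟩
  · rintro r ⟨_, _, h3⟩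
    exact absurd (inJ_all r) h3

theorem XP_eq : XP valid C K AA = chevG2.posUnipotent K := by
  apply le_antisymm (XP_le_U valid valid2 valid3 valid4 AA)
  rw [posUnipotent_eq valid, Subgroup.closure_le]
  rintro g ⟨r, t, hr, rfl⟩
  obtain ⟨h1, h2⟩ := (pos_iff r).1 hr
  refine Subgroup.subset_closure ⟨r, t, ⟨?_, ?_, inJ_all _⟩, rfl⟩
  · rw [tT_n]; exact h1
  · rw [tT_n]; exact h2

theorem XM_eq : XM valid C K AA = chevG2.negUnipotent K := by
  apply le_antisymm (XM_le_V valid valid2 valid3 valid4 AA)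
  rw [negUnipotent_eq valid, Subgroup.closure_le]
  rintro g ⟨r, t, hr, rfl⟩
  have h1 := (neg_iff r).1 hr
  refine Subgroup.subset_closure ⟨11 - r, t, ⟨?_, ?_, inJ_all _⟩, ?_⟩
  · rw [tT_n]; omega
  · rw [tT_n]; omega
  · rw [neg_tbl _ (by omega)]
    congr 1
    omega

theorem xr_mem_U {r : ℕ} (h1 : 6 ≤ r) (h2 : r < 12) (t : K) : xr r t ∈ chevG2.posUnipotent K := by
  rw [posUnipotent_eq valid]
  exact Subgroup.subset_closure ⟨r, t, (pos_iff r).2 ⟨h1, h2⟩, rfl⟩

theorem UU_mem_U (a b c d e f : K) : UU a b c d e f ∈ chevG2.posUnipotent K := by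
  unfold UU WW
  refine Subgroup.mul_mem _ (xr_mem_U (by omega) (by omega) _) (Subgroup.mul_mem _ (xr_mem_U (by omega) (by omega) _) (Subgroup.mul_mem _ (xr_mem_U (by omega) (by omega) _) (Subgroup.mul_mem _ (xr_mem_U (by omega) (by omega) _) (Subgroup.mul_mem _ (xr_mem_U (by omega) (by omega) _) (xr_mem_U (by omega) (by omega) _)))))

theorem wd_mem_U (t u v : K) : wd θ t u v ∈ chevG2.posUnipotent K := UU_mem_U _ _ _ _ _ _

theorem wd_zero : wd θ (0 : K) 0 0 = 1 := by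
  simp [wd, UU, WW]

theorem wd_ne_one {t u v : K} (h : ¬ (t = 0 ∧ u = 0 ∧ v = 0)) : wd θ t u v ≠ 1 := by
  intro e
  rw [← wd_zero (θ := θ)] at e
  exact h (wd_inj e)

/-- A nontrivial fixed element of `V`. -/
theorem exists_Yn (hθ : ∀ x, θ (θ x) ^ 3 = x) : ∃ y ∈ XM valid C K AA, y ∈ (tw θ).Fix ∧ y ≠ 1 := by
  refine ⟨tau (wd θ 0 0 1), ?_, tau_mem_Fix (wd_mem_Fix hθ _ _ _), ?_⟩
  · rw [XM_eq]
    exact tau_U (wd_mem_U _ _ _)
  · intro h
    have h1 : wd θ (0 : K) 0 1 = 1 := by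
      have := congrArg tau h
      rwa [tau_tau, map_one] at this
    exact wd_ne_one (by simp) h1

/-- The fixed point structure. -/
noncomputable def WF (hθ : ∀ x, θ (θ x) ^ 3 = x) : TwFix valid valid2 valid3 K Unit :=
  (tw θ).toFix valid2 valid3 valid4 (fun _ => AA) (fun _ => stableA)
    (by
      rintro _ i (rfl | rfl)
      · rw [tT_l]; omega
      · rw [tT_l]; omega)
    (by
      rintro _ i (rfl | rfl)
      · exact Or.inr (show piG 0 = 1 by decide)
      · exact Or.inl (show piG 1 = 0 by decide))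
    (by
      rintro _ i (rfl | rfl) i' (rfl | rfl)
      · exact ⟨0, rfl⟩
      · exact ⟨1, (by decide : piG 0 = 1)⟩
      · exact ⟨1, (by decide : piG 1 = 0)⟩
      · exact ⟨0, rfl⟩)
    (by
      intro i hi
      refine ⟨(), ?_⟩
      rw [tT_l] at hi
      show i = 0 ∨ i = 1
      omega)
    (by
      intro i j j' _ _
      rfl)
    (fun _ => ⟨0, Or.inl rfl⟩)
    (fun _ => exists_Yn hθ)

variable (hθ : ∀ x, θ (θ x) ^ 3 = x)

theorem mem_Yp {x : GL chevG2.Idx K} {j : Unit} : x ∈ (WF hθ).Yp j ↔ ∃ t u v, x = wd θ t u v := by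
  constructor
  · rintro ⟨h1, h2⟩
    have h3 : x ∈ XP valid C K AA := h1
    rw [XP_eq] at h3
    exact fix_wd h3 h2
  · rintro ⟨t, u, v, rfl⟩
    refine ⟨?_, wd_mem_Fix hθ _ _ _⟩
    show _ ∈ XP valid C K AA
    rw [XP_eq]
    exact wd_mem_U _ _ _

theorem mem_Ym {x : GL chevG2.Idx K} {j : Unit} : x ∈ (WF hθ).Ym j ↔ ∃ t u v, x = tau (wd θ t u v) := by
  constructor
  · rintro ⟨h1, h2⟩
    have h3 : x ∈ XM valid C K AA := h1
    rw [XM_eq] at h3
    obtain ⟨t, u, v, e⟩ := fix_wd (tau_V h3) (tau_mem_Fix h2)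
    refine ⟨t, u, v, ?_⟩
    rw [← e, tau_tau]
  · rintro ⟨t, u, v, rfl⟩
    refine ⟨?_, tau_mem_Fix (wd_mem_Fix hθ _ _ _)⟩
    show _ ∈ XM valid C K AA
    rw [XM_eq]
    exact tau_U (wd_mem_U _ _ _)

theorem word_U (e : ℕ) (hθe : ∀ a, θ a = a ^ e) (t u v : K) : wordU valid (reeWordU e t u v) = wd θ t u v := by
  unfold wd UU WW reeWordU
  simp only [wordU_cons, wordU_nil, mul_one, hθe]
  have h1 : t ^ (e + 1) = t ^ e * t := pow_succ t e
  have h2 : t ^ (2 * e + 1) = (t ^ e) ^ 2 * t := by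
    rw [pow_succ, mul_comm 2 e, pow_mul]
  rw [h1, h2]
  rfl

theorem tau_word (L : List (ℕ × K)) (hL : ∀ e ∈ L, e.1 < 12) :
    tau (wordU valid L) = wordU valid (chevG2.negWord L) := by
  induction L with
  | nil => simp [ChevalleyDatum.negWord]
  | cons e L ih =>
    have h1 := hL e (by simp)
    have h2 : chevG2.negIdx.getD e.1 0 = 11 - e.1 := by
      have : ∀ r, r < 12 → chevG2.negIdx.getD r 0 = 11 - r := by decide +kernel
      exact this _ h1
    simp only [ChevalleyDatum.negWord, List.map_cons, wordU_cons, map_mul] at ih ⊢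
    rw [ih (fun e he => hL e (by simp [he])), tau_x h1, h2]

theorem word_V (e : ℕ) (hθe : ∀ a, θ a = a ^ e) (t u v : K) : wordU valid (reeWordV e t u v) = tau (wd θ t u v) := by
  rw [← word_U (θ := θ) e hθe, tau_word]
  · rfl
  · intro x hx
    simp only [reeWordU, List.mem_cons, List.not_mem_nil, or_false] at hx
    rcases hx with rfl | rfl | rfl | rfl | rfl | rfl <;> norm_num [g2a, g2b, g2ab, g2aab, g2aaab, g2aaabb]

/-- The group generated. -/
theorem G1_eq (e : ℕ) (hθe : ∀ a, θ a = a ^ e) : (WF hθ).G1 = twistedG2 K e := by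
  apply le_antisymm
  · unfold TwFix.G1
    rw [Subgroup.closure_le]
    intro g hg
    obtain ⟨j, h | h⟩ := Set.mem_iUnion.1 hg
    · obtain ⟨t, u, v, rfl⟩ := (mem_Yp hθ).1 h
      rw [← word_U e hθe]
      exact Subgroup.subset_closure ⟨_, ⟨t, u, v, Or.inl rfl⟩, wordU_val valid _⟩
    · obtain ⟨t, u, v, rfl⟩ := (mem_Ym hθ).1 h
      rw [← word_V e hθe]
      exact Subgroup.subset_closure ⟨_, ⟨t, u, v, Or.inr rfl⟩, wordU_val valid _⟩
  · unfold twistedG2 ChevalleyDatum.genSubgroup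
    rw [Subgroup.closure_le]
    rintro g ⟨w, ⟨t, u, v, rfl | rfl⟩, hg⟩
    · have e1 : g = wordU valid (reeWordU e t u v) := Units.ext (hg.trans (wordU_val valid _).symm)
      rw [e1, word_U e hθe]
      exact (WF hθ).Yp_le () ((mem_Yp hθ).2 ⟨t, u, v, rfl⟩)
    · have e1 : g = wordU valid (reeWordV e t u v) := Units.ext (hg.trans (wordU_val valid _).symm)
      rw [e1, word_V e hθe]
      exact (WF hθ).Ym_le () ((mem_Ym hθ).2 ⟨t, u, v, rfl⟩)

end

end Cfsg.Agent.Lib.ReeE
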