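import Cfsg.Agent.Lib.ReeE

/-! `²G₂`: the field automorphism, the (B,N)-pair, `U¹`. -/

set_option autoImplicit false
set_option linter.unusedVariables false
set_option linter.unusedSectionVars false
set_option linter.unusedFintypeInType false
set_option linter.unusedDecidableInType false

namespace Cfsg.Agent.Lib.ReeF

open Cfsg.Lie Matrix Cfsg.Agent.Lib.ChevEngine Cfsg.Agent.Lib.ChevTab Cfsg.Agent.Lib.ChevMono
  Cfsg.Agent.Lib.ChevRel Cfsg.Agent.Lib.ChevValid Cfsg.Agent.Lib.ChevGL Cfsg.Agent.Lib.ChevGrad Cfsg.Agent.Lib.ChevL2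
  Cfsg.Agent.Lib.ChevU Cfsg.Agent.Lib.ChevU2 Cfsg.Agent.Lib.ChevU3 Cfsg.Agent.Lib.ChevDiag Cfsg.Agent.Lib.ChevV3
  Cfsg.Agent.Lib.ChevH Cfsg.Agent.Lib.ChevN Cfsg.Agent.Lib.ChevN2 Cfsg.Agent.Lib.ChevN3 Cfsg.Agent.Lib.ChevBN Cfsg.Agent.Lib.ChevBN2
  Cfsg.Agent.Lib.ChevSimp2 Cfsg.Agent.Lib.ChevAut3 Cfsg.Agent.Lib.ChevTw1 Cfsg.Agent.Lib.ChevTw2 Cfsg.Agent.Lib.ChevTw4 Cfsg.Agent.Lib.ChevPar
  Cfsg.Agent.Lib.ReeA Cfsg.Agent.Lib.ReeB Cfsg.Agent.Lib.ReeC Cfsg.Agent.Lib.ReeD Cfsg.Agent.Lib.ReeE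
  Cfsg.Agent.Lib.ChevTbG2 Cfsg.Agent.Lib.ChevValidG2 Cfsg.Agent.Lib.ChevV2G2 Cfsg.Agent.Lib.ChevV3G2 Cfsg.Agent.Lib.ChevV4G2

section ex
variable {K : Type*} [Field K] [Fintype K] {m : ℕ}

theorem char3 (hK : Fintype.card K = 3 ^ (2 * m + 1)) : CharP K 3 := by
  obtain ⟨p, hp⟩ := CharP.exists K
  obtain ⟨n, hp2, hn⟩ := FiniteField.card K p
  have h1 : p ∣ 3 ^ (2 * m + 1) := by
    rw [← hK, hn]
    exact dvd_pow_self _ (Nat.pos_iff_ne_zero.mp n.2)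
  have h2 : p = 3 := (Nat.prime_dvd_prime_iff_eq hp2 Nat.prime_three).mp (hp2.dvd_of_dvd_pow h1)
  rw [h2] at hp
  exact hp

theorem exists_theta (hK : Fintype.card K = 3 ^ (2 * m + 1)) :
    ∃ θ : K ≃+* K, (∀ a, θ a = a ^ (3 ^ m)) ∧ ∀ x, θ (θ x) ^ 3 = x := by
  haveI : CharP K 3 := char3 hK
  haveI : Fact (Nat.Prime 3) := ⟨Nat.prime_three⟩
  let f : K →+* K := iterateFrobenius K 3 m
  have hf : Function.Bijective f := by
    have h1 : Function.Injective f := RingHom.injective f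
    exact ⟨h1, Finite.injective_iff_surjective.mp h1⟩
  refine ⟨RingEquiv.ofBijective f hf, fun a => ?_, fun x => ?_⟩
  · show f a = _
    exact iterateFrobenius_def 3 m a
  · have e : ∀ a, (RingEquiv.ofBijective f hf) a = a ^ (3 ^ m) := fun a => iterateFrobenius_def 3 m a
    rw [e, e, ← pow_mul, ← pow_mul]
    have : 3 ^ m * (3 ^ m * 3) = Fintype.card K := by
      rw [hK]; ring
    rw [this, FiniteField.pow_card]

end ex

section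
variable {K : Type*} [Field K] [CharP K 3]

local notation "xr" => xU valid

variable {θ : K ≃+* K} (hθ : ∀ x, θ (θ x) ^ 3 = x)

theorem Yp_eq (j : Unit) : (WF hθ).Yp j = chevG2.posUnipotent K ⊓ (WF hθ).G1 := by
  apply le_antisymm
  · intro x hx
    refine ⟨?_, (WF hθ).Yp_le j hx⟩
    obtain ⟨t, u, v, rfl⟩ := (mem_Yp hθ).mp hx
    exact wd_mem_U _ _ _
  · rintro x ⟨h1, h2⟩
    refine ⟨?_, (WF hθ).G1_le_Fix h2⟩
    show x ∈ XP valid C K ((WF hθ).A j)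
    have : (WF hθ).A j = AA := rfl
    rw [this, XP_eq]
    exact h1

theorem mem_U1 {x : GL chevG2.Idx K} : x ∈ chevG2.posUnipotent K ⊓ (WF hθ).G1 ↔ ∃ t u v, x = wd θ t u v := by
  rw [← Yp_eq hθ ()]
  exact mem_Yp hθ

theorem card_U1 [Finite K] : Nat.card ↥(chevG2.posUnipotent K ⊓ (WF hθ).G1) = (Nat.card K) ^ 3 := by
  have h : Function.Bijective (fun p : K × K × K => (⟨wd θ p.1 p.2.1 p.2.2, (mem_U1 hθ).mpr ⟨_, _, _, rfl⟩⟩ : ↥(chevG2.posUnipotent K ⊓ (WF hθ).G1))) := by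
    constructor
    · rintro ⟨a, b, c⟩ ⟨a', b', c'⟩ e
      have e1 : wd θ a b c = wd θ a' b' c' := congrArg Subtype.val e
      obtain ⟨h1, h2, h3⟩ := wd_inj e1
      subst h1 h2 h3
      rfl
    · rintro ⟨x, hx⟩
      obtain ⟨t, u, v, rfl⟩ := (mem_U1 hθ).mp hx
      exact ⟨(t, u, v), rfl⟩
  rw [← Nat.card_congr (Equiv.ofBijective _ h), Nat.card_prod, Nat.card_prod]
  ring

end

end Cfsg.Agent.Lib.ReeF
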