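import Cfsg.Agent.Lib.ReeF
import Cfsg.Agent.Lib.ChevTw20

/-! `²G₂`: diagonal elements. -/

set_option autoImplicit false
set_option linter.unusedVariables false
set_option linter.unusedSectionVars false
set_option linter.unusedFintypeInType false
set_option linter.unusedDecidableInType false

namespace Cfsg.Agent.Lib.ReeG

open Cfsg.Lie Matrix Cfsg.Agent.Lib.ChevEngine Cfsg.Agent.Lib.ChevTab Cfsg.Agent.Lib.ChevMono
  Cfsg.Agent.Lib.ChevRel Cfsg.Agent.Lib.ChevValid Cfsg.Agent.Lib.ChevGL Cfsg.Agent.Lib.ChevGrad Cfsg.Agent.Lib.ChevL2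
  Cfsg.Agent.Lib.ChevU Cfsg.Agent.Lib.ChevU2 Cfsg.Agent.Lib.ChevU3 Cfsg.Agent.Lib.ChevDiag Cfsg.Agent.Lib.ChevV3
  Cfsg.Agent.Lib.ChevH Cfsg.Agent.Lib.ChevN Cfsg.Agent.Lib.ChevN2 Cfsg.Agent.Lib.ChevN3 Cfsg.Agent.Lib.ChevBN Cfsg.Agent.Lib.ChevBN2
  Cfsg.Agent.Lib.ChevSimp2 Cfsg.Agent.Lib.ChevAut3 Cfsg.Agent.Lib.ChevTw1 Cfsg.Agent.Lib.ChevTw2 Cfsg.Agent.Lib.ChevTw4 Cfsg.Agent.Lib.ChevPar
  Cfsg.Agent.Lib.ChevW1 Cfsg.Agent.Lib.ChevTw6 Cfsg.Agent.Lib.ChevW3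
  Cfsg.Agent.Lib.ReeA Cfsg.Agent.Lib.ReeB Cfsg.Agent.Lib.ReeC Cfsg.Agent.Lib.ReeD Cfsg.Agent.Lib.ReeE Cfsg.Agent.Lib.ReeF
  Cfsg.Agent.Lib.ChevTbG2 Cfsg.Agent.Lib.ChevValidG2 Cfsg.Agent.Lib.ChevV2G2 Cfsg.Agent.Lib.ChevV3G2 Cfsg.Agent.Lib.ChevV4G2

theorem sim0 : T.sim 0 = 7 := by decide +kernel
theorem sim1 : T.sim 1 = 6 := by decide +kernel
theorem tl : T.l = 2 := by decide +kernel
theorem ca_tbl : ∀ s, s < 12 → 2 * C.coef s 0 - 3 * C.coef s 1 = T.ca 0 s ∧ - C.coef s 0 + 2 * C.coef s 1 = T.ca 1 s := by decide +kernel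
theorem coef7 : C.coef 7 0 = 1 ∧ C.coef 7 1 = 0 := by decide +kernel
theorem coef6 : C.coef 6 0 = 0 ∧ C.coef 6 1 = 1 := by decide +kernel
theorem coef8 : C.coef 8 0 = 1 ∧ C.coef 8 1 = 1 := by decide +kernel
theorem coef9 : C.coef 9 0 = 2 ∧ C.coef 9 1 = 1 := by decide +kernel
theorem coef10 : C.coef 10 0 = 3 ∧ C.coef 10 1 = 1 := by decide +kernel
theorem coef11 : C.coef 11 0 = 3 ∧ C.coef 11 1 = 2 := by decide +kernel

section
variable {K : Type*} [Field K]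

local notation "xr" => xU valid

/-- the coroot parameters -/
noncomputable def hcc (x y : Kˣ) : ℕ → Kˣ := fun i => if i = 0 then x ^ 2 * y else x ^ 3 * y ^ 2

/-- the general diagonal element: `x` on `a`, `y` on `b`. -/
noncomputable def dd (x y : Kˣ) : GL chevG2.Idx K := dgC chevG2 T C (hcc x y)

theorem dd_mem (x y : Kˣ) : dd x y ∈ chevG2.diagonalSubgroup K := dgC_mem_H valid valid2 valid3 _

theorem zpow_aux {A : Type*} [CommGroup A] (a b : A) (p q : ℤ) :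
    (a ^ 2 * b⁻¹) ^ p * (a ^ (-3 : ℤ) * b ^ 2) ^ q = a ^ (2 * p - 3 * q) * b ^ (- p + 2 * q) := by
  have e1 : (a ^ 2 * b⁻¹) ^ p = a ^ (2 * p) * b ^ (-p) := by
    rw [mul_zpow, ← zpow_natCast a 2, ← _root_.zpow_mul, _root_.inv_zpow, _root_.zpow_neg]
    norm_num
  have e2 : (a ^ (-3 : ℤ) * b ^ 2) ^ q = a ^ (-3 * q) * b ^ (2 * q) := by
    rw [mul_zpow, ← _root_.zpow_mul, ← zpow_natCast b 2, ← _root_.zpow_mul]
    norm_num
  rw [e1, e2, mul_mul_mul_comm, ← _root_.zpow_add, ← _root_.zpow_add]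
  congr 2
  ring

theorem cc_two (c : ℕ → Kˣ) {s : ℕ} (hs : s < 12) : cc T C c s = c 0 ^ T.ca 0 s * c 1 ^ T.ca 1 s := by
  unfold cc
  have hs' : s < T.n := by rw [tT_n]; exact hs
  rw [tl, Finset.prod_range_succ, Finset.prod_range_one, aG_eq valid3 _ hs', aG_eq valid3 _ hs',
    aa_sim valid3 (by rw [tl]; omega), aa_sim valid3 (by rw [tl]; omega)]

theorem chi_dd (x y : Kˣ) {s : ℕ} (hs : s < 12) : cc T C (hcc x y) s = x ^ C.coef s 0 * y ^ C.coef s 1 := by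
  rw [cc_two _ hs]
  obtain ⟨h1, h2⟩ := ca_tbl s hs
  rw [← h1, ← h2]
  simp only [hcc, if_true, one_ne_zero, if_false]
  set p := C.coef s 0
  set q := C.coef s 1
  have e1 : (x ^ 2 * y) ^ (2 * p - 3 * q) = x ^ (4 * p - 6 * q) * y ^ (2 * p - 3 * q) := by
    rw [mul_zpow, ← zpow_natCast x 2, ← _root_.zpow_mul]
    congr 2
    push_cast
    ring
  have e2 : (x ^ 3 * y ^ 2) ^ (-p + 2 * q) = x ^ (-3 * p + 6 * q) * y ^ (-2 * p + 4 * q) := by
    rw [mul_zpow, ← zpow_natCast x 3, ← zpow_natCast y 2, ← _root_.zpow_mul, ← _root_.zpow_mul]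
    congr 2 <;> (push_cast; ring)
  rw [e1, e2, mul_mul_mul_comm, ← _root_.zpow_add, ← _root_.zpow_add]
  congr 2 <;> ring

theorem dd_mul (x y x' y' : Kˣ) : dd x y * dd x' y' = dd (x * x') (y * y') := by
  unfold dd
  rw [dgC_mul]
  unfold dgC
  apply dgU_congr
  intro s hs
  have hs' : s < 12 := hs
  rw [cc_mul, Pi.mul_apply, chi_dd _ _ hs', chi_dd _ _ hs', chi_dd _ _ hs', mul_zpow, mul_zpow]
  exact mul_mul_mul_comm _ _ _ _

theorem dd_one : dd (1 : Kˣ) 1 = 1 := by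
  unfold dd
  rw [← dgC_one (D := chevG2) (T := T) (C := C)]
  unfold dgC
  apply dgU_congr
  intro s hs
  have hs' : s < 12 := hs
  rw [chi_dd _ _ hs', cc_one]
  simp

theorem dd_inv (x y : Kˣ) : (dd x y)⁻¹ = dd x⁻¹ y⁻¹ := by
  rw [inv_eq_of_mul_eq_one_right]
  rw [dd_mul, mul_inv_cancel, mul_inv_cancel, dd_one]

theorem dd_conj (x y : Kˣ) {s : ℕ} (hs : s < 12) (t : K) :
    dd x y * xr s t * (dd x y)⁻¹ = xr s (((x ^ C.coef s 0 * y ^ C.coef s 1 : Kˣ) : K) * t) := by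
  have h1 := conj_dg (F := K) valid (isCh_cc valid valid2 (hcc x y)) (s := s) hs t
  have : dd x y = dgU chevG2 (cc T C (hcc x y)) := rfl
  rw [this, h1, mul_assoc, mul_inv_cancel, mul_one, chi_dd _ _ hs]

theorem xU_inj {s : ℕ} (hs : s < 12) {a b : K} (h : xr s a = xr s b) : a = b := by
  by_contra hc
  have h1 : xr s (a - b) = 1 := by
    have h2 : xr s (a - b) = xr s a * xr s (-b) := by
      rw [xU_mul]
      ring_nf
    rw [h2, h, xU_mul, add_neg_cancel, xU_zero]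
  exact xU_ne_one valid valid2 valid3 valid4 (s := s) (by rw [tT_n]; exact hs) (sub_ne_zero.mpr hc) h1

theorem H_eq_dd {z : GL chevG2.Idx K} (hz : z ∈ chevG2.diagonalSubgroup K) : ∃ x y : Kˣ, z = dd x y := by
  obtain ⟨c, rfl⟩ := (mem_H_iff valid valid2 valid3).1 hz
  refine ⟨c 0 ^ 2 * (c 1)⁻¹, c 0 ^ (-3 : ℤ) * c 1 ^ 2, ?_⟩
  unfold dd dgC
  apply dgU_congr
  intro s hs
  have hs' : s < 12 := hs
  rw [chi_dd _ _ hs', zpow_aux, cc_two _ hs']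
  obtain ⟨h1, h2⟩ := ca_tbl s hs'
  rw [← h1, ← h2]

theorem dd_inj {x y x' y' : Kˣ} (h : dd x y = dd x' y') : x = x' ∧ y = y' := by
  have e7 := dd_conj x y (s := 7) (by norm_num) 1
  have e6 := dd_conj x y (s := 6) (by norm_num) 1
  have e7' := dd_conj x' y' (s := 7) (by norm_num) 1
  have e6' := dd_conj x' y' (s := 6) (by norm_num) 1
  rw [h, e7'] at e7
  rw [h, e6'] at e6
  have h7 := xU_inj (by norm_num) e7
  have h6 := xU_inj (by norm_num) e6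
  rw [coef7.1, coef7.2] at h7
  rw [coef6.1, coef6.2] at h6
  constructor
  · apply Units.ext
    simpa using h7.symm
  · apply Units.ext
    simpa using h6.symm

theorem UU_conj (x y : Kˣ) (a b c d e f : K) :
    dd x y * UU a b c d e f * (dd x y)⁻¹ =
      UU ((x : K) * a) ((y : K) * b) ((x : K) * y * c) ((x : K) ^ 2 * y * d) ((x : K) ^ 3 * y * e) ((x : K) ^ 3 * y ^ 2 * f) := by
  have key : ∀ (g a1 a2 a3 a4 a5 a6 : GL chevG2.Idx K), g * (a1 * (a2 * (a3 * (a4 * (a5 * a6))))) * g⁻¹ =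
      (g * a1 * g⁻¹) * ((g * a2 * g⁻¹) * ((g * a3 * g⁻¹) * ((g * a4 * g⁻¹) * ((g * a5 * g⁻¹) * (g * a6 * g⁻¹))))) := by
    intro g a1 a2 a3 a4 a5 a6
    group
  unfold UU WW
  rw [key, dd_conj x y (by norm_num), dd_conj x y (by norm_num), dd_conj x y (by norm_num), dd_conj x y (by norm_num), dd_conj x y (by norm_num), dd_conj x y (by norm_num)]
  rw [coef7.1, coef7.2, coef6.1, coef6.2, coef8.1, coef8.2, coef9.1, coef9.2, coef10.1, coef10.2, coef11.1, coef11.2]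
  simp

end

section
variable {K : Type*} [Field K] [CharP K 3]

local notation "xr" => xU valid

/-- the unit `θ c` -/
noncomputable def uθ (θ : K ≃+* K) : Kˣ →* Kˣ := Units.map (θ : K →* K)

@[simp] theorem uθ_val (θ : K ≃+* K) (c : Kˣ) : ((uθ θ c : Kˣ) : K) = θ c := rfl

/-- the element of the torus of `²G₂` -/
noncomputable def hh (θ : K ≃+* K) (c : Kˣ) : GL chevG2.Idx K := dd (uθ θ c) c

theorem hh_mul (θ : K ≃+* K) (c c' : Kˣ) : hh θ c * hh θ c' = hh θ (c * c') := by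
  unfold hh
  rw [dd_mul, map_mul]

theorem hh_one (θ : K ≃+* K) : hh θ (1 : Kˣ) = 1 := by
  unfold hh
  rw [map_one, dd_one]

theorem hh_inv (θ : K ≃+* K) (c : Kˣ) : (hh θ c)⁻¹ = hh θ c⁻¹ := by
  unfold hh
  rw [dd_inv, map_inv]

theorem hh_inj (θ : K ≃+* K) {c c' : Kˣ} (h : hh θ c = hh θ c') : c = c' := (dd_inj h).2

theorem hh_mem (θ : K ≃+* K) (c : Kˣ) : hh θ c ∈ chevG2.diagonalSubgroup K := dd_mem _ _

variable {θ : K ≃+* K} (hθ : ∀ x, θ (θ x) ^ 3 = x)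
include hθ

theorem wd_conj (c : Kˣ) (t u v : K) :
    hh θ c * wd θ t u v * (hh θ c)⁻¹ = wd θ ((c : K) * t) ((c : K) * θ c ^ 3 * u) ((c : K) ^ 2 * θ c ^ 3 * v) := by
  unfold hh wd
  rw [UU_conj]
  have h1 := hθ (c : K)
  simp only [uθ_val]
  congr 1
  · rw [map_mul]
  · simp only [map_add, map_mul, map_pow, h1]
    ring
  · simp only [map_add, map_mul, map_pow, h1]
    ring
  · ring
  · ring

end
end Cfsg.Agent.Lib.ReeG
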