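import Cfsg.Agent.Lib.ReeG

/-! `²G₂`: the torus of the group. -/

set_option autoImplicit false
set_option linter.unusedVariables false
set_option linter.unusedSectionVars false
set_option linter.unusedFintypeInType false
set_option linter.unusedDecidableInType false

namespace Cfsg.Agent.Lib.ReeH

open Cfsg.Lie Matrix Cfsg.Agent.Lib.ChevEngine Cfsg.Agent.Lib.ChevTab Cfsg.Agent.Lib.ChevMono
  Cfsg.Agent.Lib.ChevRel Cfsg.Agent.Lib.ChevValid Cfsg.Agent.Lib.ChevGL Cfsg.Agent.Lib.ChevGrad Cfsg.Agent.Lib.ChevL2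
  Cfsg.Agent.Lib.ChevU Cfsg.Agent.Lib.ChevU2 Cfsg.Agent.Lib.ChevU3 Cfsg.Agent.Lib.ChevDiag Cfsg.Agent.Lib.ChevV3
  Cfsg.Agent.Lib.ChevH Cfsg.Agent.Lib.ChevN Cfsg.Agent.Lib.ChevN2 Cfsg.Agent.Lib.ChevN3 Cfsg.Agent.Lib.ChevBN Cfsg.Agent.Lib.ChevBN2
  Cfsg.Agent.Lib.ChevSimp2 Cfsg.Agent.Lib.ChevAut3 Cfsg.Agent.Lib.ChevTw1 Cfsg.Agent.Lib.ChevTw2 Cfsg.Agent.Lib.ChevTw4 Cfsg.Agent.Lib.ChevPar
  Cfsg.Agent.Lib.ChevW1 Cfsg.Agent.Lib.ChevTw6 Cfsg.Agent.Lib.ChevW3 Cfsg.Agent.Lib.ChevTw3 Cfsg.Agent.Lib.ChevTw3.TwFix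
  Cfsg.Agent.Lib.ReeA Cfsg.Agent.Lib.ReeB Cfsg.Agent.Lib.ReeC Cfsg.Agent.Lib.ReeD Cfsg.Agent.Lib.ReeE Cfsg.Agent.Lib.ReeF Cfsg.Agent.Lib.ReeG
  Cfsg.Agent.Lib.ChevTbG2 Cfsg.Agent.Lib.ChevValidG2 Cfsg.Agent.Lib.ChevV2G2 Cfsg.Agent.Lib.ChevV3G2 Cfsg.Agent.Lib.ChevV4G2

def wdZ (t u v : ℤ) : List (ℕ × ℤ) := [(7, t), (6, t), (8, t * t + u), (9, t * t * t + v), (10, u), (11, v)]
def tauZ (L : List (ℕ × ℤ)) : List (ℕ × ℤ) := L.map fun p => (11 - p.1, -p.2)
def cw (L : List (ℕ × ℤ)) : SWord := L.map fun p => (p.1, Pl.const p.2)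

theorem word_tbl : chkW chevG2 ((3 : ℕ) : ℤ)
    (cw (wdZ (-1) (-1) 1 ++ tauZ (wdZ 1 0 0) ++ wdZ 1 1 1 ++ wdZ 0 (-1) 0 ++ tauZ (wdZ 0 (-1) 0) ++ wdZ 0 (-1) 0))
    (cw [(8, -1), (3, 1), (8, -1), (8, -1), (3, 1), (8, -1)]) = true := by
  decide +kernel

section
variable {K : Type*} [Field K] [CharP K 3]

local notation "xr" => xU valid

noncomputable def evZ (L : List (ℕ × ℤ)) : List (ℕ × K) := L.map fun p => (p.1, (p.2 : K))

theorem eval_cw (L : List (ℕ × ℤ)) (t u v : K) : SWord.eval t u v (cw L) = evZ L := by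
  simp [SWord.eval, cw, evZ, Pl.eval_const]

theorem wordU_evZ_append (L L' : List (ℕ × ℤ)) : wordU (F := K) valid (evZ (L ++ L')) = wordU valid (evZ L) * wordU valid (evZ L') := by
  simp only [evZ, List.map_append]
  rw [wordU_append]

variable {θ : K ≃+* K} (hθ : ∀ x, θ (θ x) ^ 3 = x)

theorem wd_int (t u v : ℤ) : wd θ (t : K) (u : K) (v : K) = wordU valid (evZ (wdZ t u v)) := by
  unfold wd UU WW wdZ evZ
  simp only [List.map_cons, List.map_nil, wordU_cons, wordU_nil, mul_one, map_intCast]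
  push_cast
  congr 5
  ring

theorem tau_int (L : List (ℕ × ℤ)) (hL : ∀ e ∈ L, e.1 < 12) : tau (wordU valid (evZ (K := K) L)) = wordU valid (evZ (tauZ L)) := by
  induction L with
  | nil => simp [evZ, tauZ]
  | cons e L ih =>
    have h1 := hL e (by simp)
    simp only [evZ, tauZ, List.map_cons, wordU_cons, map_mul] at ih ⊢
    rw [ih (fun e he => hL e (by simp [he])), tau_x h1]
    push_cast
    rfl

theorem hminus_mem : hU valid 8 (-1 : K) ∈ (WF hθ).G1 := by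
  have h1 := word_eq_of_chk (F := K) (P0 := 3) chevG2 word_tbl 0 0 0
  rw [eval_cw, eval_cw] at h1
  have h2 : wordU (F := K) valid (evZ (wdZ (-1) (-1) 1 ++ tauZ (wdZ 1 0 0) ++ wdZ 1 1 1 ++ wdZ 0 (-1) 0 ++ tauZ (wdZ 0 (-1) 0) ++ wdZ 0 (-1) 0)) =
      wordU valid (evZ [(8, -1), (3, 1), (8, -1), (8, -1), (3, 1), (8, -1)]) :=
    Units.ext (by rw [wordU_val, wordU_val]; exact h1)
  have h3 : hU valid 8 (-1 : K) = wordU valid (evZ [(8, -1), (3, 1), (8, -1), (8, -1), (3, 1), (8, -1)]) := by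
    unfold hU
    congr 1
    have e : chevG2.neg 8 = 3 := by decide +kernel
    simp [evZ, ChevalleyDatum.hWord, ChevalleyDatum.nWord, e]
  rw [h3, ← h2]
  have hU1 : ∀ t u v : ℤ, wordU (F := K) valid (evZ (wdZ t u v)) ∈ (WF hθ).G1 := by
    intro t u v
    rw [← wd_int (θ := θ)]
    exact (WF hθ).Yp_le () ((mem_Yp hθ).mpr ⟨_, _, _, rfl⟩)
  have hV1 : ∀ t u v : ℤ, wordU (F := K) valid (evZ (tauZ (wdZ t u v))) ∈ (WF hθ).G1 := by
    intro t u v
    rw [← tau_int _ (by simp [wdZ]), ← wd_int (θ := θ)]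
    exact (WF hθ).Ym_le () ((mem_Ym hθ).mpr ⟨_, _, _, rfl⟩)
  simp only [wordU_evZ_append]
  exact Subgroup.mul_mem _ (Subgroup.mul_mem _ (Subgroup.mul_mem _ (Subgroup.mul_mem _ (Subgroup.mul_mem _ (hU1 _ _ _) (hV1 _ _ _)) (hU1 _ _ _)) (hU1 _ _ _)) (hV1 _ _ _)) (hU1 _ _ _)

theorem hminus_eq : hU valid 8 (-1 : K) = dd (-1 : Kˣ) (-1) := by
  have h1 := hU_eq_dgC (F := K) valid valid2 valid3 (r := 8) (show 8 < 12 by norm_num) (-1 : Kˣ)
  have h2 : ((-1 : Kˣ) : K) = -1 := by simp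
  rw [h2] at h1
  rw [h1]
  unfold dd dgC
  congr 1
  apply Cfsg.Agent.Lib.ChevHOrd.cc_congr
  intro i hi
  have hi' : i < 2 := by rwa [tl] at hi
  have e0 : T.co 8 0 = 1 := by decide +kernel
  have e1 : T.co 8 1 = 3 := by decide +kernel
  have e2 : ((-1 : Kˣ) ^ (3 : ℕ)) = -1 := by
    rw [pow_succ, pow_two]; simp
  interval_cases i
  · simp [hcc, e0, pow_two]
  · simp [hcc, e1]

theorem top_tbl : ∀ r, r < 12 → wact T [0, 1, 0, 1, 0, 1] r = 11 - r := by decide +kernel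

/-- the top element of `N`. -/
noncomputable def topW (K : Type*) [Field K] : ↥(chevG2.monomialSubgroup K) := nW valid valid2 valid3 K [0, 1, 0, 1, 0, 1]

theorem topW_rho {r : ℕ} (hr : r < 12) : rho0 valid valid2 valid3 (topW K) r = 11 - r := by
  unfold topW
  rw [rho0_nW valid valid2 valid3 valid4 (by
    intro i hi
    rw [tl]
    simp only [List.mem_cons, List.not_mem_nil, or_false] at hi
    omega) (by rw [tT_n]; exact hr)]
  exact top_tbl r hr

theorem half : T.n / 2 = 6 := by rw [tT_n]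

theorem flip_of (m : ↥(chevG2.monomialSubgroup K)) (h : ∀ r, r < 12 → rho0 valid valid2 valid3 m r = 11 - r) :
    Flip valid valid2 valid3 AA m := by
  intro r h1 h2
  rw [half] at h1
  rw [tT_n] at h2
  refine ⟨fun _ => ?_, fun h => absurd (inJ_all r) h⟩
  rw [h r h2, half]
  exact ⟨by omega, inJ_all _⟩

theorem inv_rho (m : ↥(chevG2.monomialSubgroup K)) (h : ∀ r, r < 12 → rho0 valid valid2 valid3 m r = 11 - r) :
    ∀ r, r < 12 → rho0 valid valid2 valid3 m⁻¹ r = 11 - r := by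
  intro r hr
  have h1 := rho0_inv_apply valid valid2 valid3 valid4 m (11 - r)
  rw [h _ (by omega), show 11 - (11 - r) = r by omega] at h1
  exact h1

theorem topW_isW : IsW valid valid2 valid3 AA (topW K) :=
  ⟨flip_of _ fun r hr => topW_rho hr, flip_of _ (inv_rho _ fun r hr => topW_rho hr)⟩

theorem rho_of_isW {m : ↥(chevG2.monomialSubgroup K)} (h : IsW valid valid2 valid3 AA m) {r : ℕ} (hr : r < 12) :
    rho0 valid valid2 valid3 m r = 11 - r := by
  rw [rho0_flip_eq valid valid2 valid3 valid4 h topW_isW, topW_rho hr]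

/-- A flip inverts the torus. -/
theorem top_inv {m : ↥(chevG2.monomialSubgroup K)} (h : IsW valid valid2 valid3 AA m) (x y : Kˣ) :
    (m : GL chevG2.Idx K) * dd x y * (m : GL chevG2.Idx K)⁻¹ = (dd x y)⁻¹ := by
  have hH : (m : GL chevG2.Idx K) * dd x y * (m : GL chevG2.Idx K)⁻¹ ∈ chevG2.diagonalSubgroup K :=
    normalizer_conj_mem (N_le_normalizer_H valid valid2 valid3 m.2) (dd_mem x y)
  obtain ⟨x', y', e⟩ := H_eq_dd hH
  rw [e, dd_inv]
  have key : ∀ s, s < 12 → ((x' ^ C.coef s 0 * y' ^ C.coef s 1 : Kˣ) : K) = ((x ^ C.coef (11 - s) 0 * y ^ C.coef (11 - s) 1 : Kˣ) : K) := by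
    intro s hs
    have hr : 11 - s < T.n := by rw [tT_n]; omega
    obtain ⟨c, hc, hm⟩ := conj_x valid valid2 valid3 valid4 m hr
    have hm1 := hm 1
    rw [rho_of_isW h (show 11 - s < 12 by omega), show 11 - (11 - s) = s by omega] at hm1
    have h1 : dd x' y' * xU valid s (c * 1) * (dd x' y')⁻¹ = (m : GL chevG2.Idx K) * (dd x y * xU valid (11 - s) 1 * (dd x y)⁻¹) * (m : GL chevG2.Idx K)⁻¹ := by
      rw [← hm1, ← e]
      group
    rw [dd_conj _ _ hs, dd_conj _ _ (show 11 - s < 12 by omega), hm] at h1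
    rw [rho_of_isW h (show 11 - s < 12 by omega), show 11 - (11 - s) = s by omega] at h1
    have h2 := xU_inj hs h1
    have hc' : c * 1 ≠ 0 := by simpa using hc
    have h3 : ((x' ^ C.coef s 0 * y' ^ C.coef s 1 : Kˣ) : K) * (c * 1) = ((x ^ C.coef (11 - s) 0 * y ^ C.coef (11 - s) 1 : Kˣ) : K) * (c * 1) := by
      rw [h2]
      ring
    exact mul_right_cancel₀ hc' h3
  have c4 : C.coef 4 0 = -1 ∧ C.coef 4 1 = 0 := by decide +kernel
  have c5 : C.coef 5 0 = 0 ∧ C.coef 5 1 = -1 := by decide +kernel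
  have k7 := key 7 (by norm_num)
  have k6 := key 6 (by norm_num)
  rw [coef7.1, coef7.2, show 11 - 7 = 4 by norm_num, c4.1, c4.2] at k7
  rw [coef6.1, coef6.2, show 11 - 6 = 5 by norm_num, c5.1, c5.2] at k6
  have e1 : x' = x⁻¹ := by
    apply Units.ext
    simpa using k7
  have e2 : y' = y⁻¹ := by
    apply Units.ext
    simpa using k6
  rw [e1, e2]

/-- Conjugation of the negative elements -/
theorem tau_dd (x y : Kˣ) : tau (dd x y) = dd x⁻¹ y⁻¹ := by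
  apply Units.ext
  ext i j
  rw [tau_val]
  unfold dd dgC
  rw [dgU_val, dgU_val]
  rcases i with i | i <;> rcases j with j | j
  · simp [omI, Matrix.diagonal_apply]
  · simp [omI, Matrix.diagonal_apply]
  · simp [omI, Matrix.diagonal_apply]
  · simp only [omI, Equiv.sumCongr_apply, Sum.map_inr, Matrix.diagonal_apply, Sum.inr.injEq, Fin.revPerm_apply, Fin.rev_inj]
    by_cases hij : i = j
    · subst hij
      simp only [if_true, Sum.elim_inr]
      have hi : i.val < 12 := i.isLt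
      have hr : (Fin.rev i).val = 11 - i.val := by
        rw [Fin.val_rev]
        have : chevG2.nroots = 12 := rfl
        omega
      rw [hr, chi_dd _ _ (show 11 - i.val < 12 by omega), chi_dd _ _ hi]
      have h2 := (isCh_cc valid valid2 (hcc x y)).neg i.val (by rw [tT_n]; exact hi)
      rw [neg_tbl _ hi, chi_dd _ _ (show 11 - i.val < 12 by omega), chi_dd _ _ hi] at h2
      rw [h2]
      simp [mul_comm]
    · simp [hij]

section twf
include hθ

theorem hh_conj_G1 (c : Kˣ) {g : GL chevG2.Idx K} (hg : g ∈ (WF hθ).G1) : hh θ c * g * (hh θ c)⁻¹ ∈ (WF hθ).G1 := by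
  refine conj_closure_mem _ ?_ hg
  intro s hs
  obtain ⟨j, h | h⟩ := Set.mem_iUnion.1 hs
  · obtain ⟨t, u, v, rfl⟩ := (mem_Yp hθ).1 h
    rw [wd_conj hθ]
    exact (WF hθ).Yp_le () ((mem_Yp hθ).mpr ⟨_, _, _, rfl⟩)
  · obtain ⟨t, u, v, rfl⟩ := (mem_Ym hθ).1 h
    have e : hh θ c = tau (hh θ c⁻¹) := by
      unfold hh
      rw [tau_dd, map_inv, inv_inv, inv_inv]
    have e2 : hh θ c * tau (wd θ t u v) * (hh θ c)⁻¹ = tau (hh θ c⁻¹ * wd θ t u v * (hh θ c⁻¹)⁻¹) := by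
      rw [map_mul, map_mul, map_inv, ← e]
    rw [e2, wd_conj hθ]
    exact (WF hθ).Ym_le () ((mem_Ym hθ).mpr ⟨_, _, _, rfl⟩)

/-- Squares are in the group. -/
theorem hh_sq_mem (c : Kˣ) : hh θ (c ^ 2) ∈ (WF hθ).G1 := by
  obtain ⟨n, hn, hW⟩ := (WF hθ).exists_nj valid4 ()
  have h1 : hh θ c * n * (hh θ c)⁻¹ ∈ (WF hθ).G1 := hh_conj_G1 hθ c hn
  have h2 := Subgroup.mul_mem _ h1 (Subgroup.inv_mem _ hn)
  have e : hh θ c * n * (hh θ c)⁻¹ * (n : GL chevG2.Idx K)⁻¹ = hh θ c * ((n : GL chevG2.Idx K) * (hh θ c)⁻¹ * (n : GL chevG2.Idx K)⁻¹) := by group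
  rw [e, hh_inv] at h2
  have e3 : (n : GL chevG2.Idx K) * hh θ c⁻¹ * (n : GL chevG2.Idx K)⁻¹ = hh θ c := by
    unfold hh
    rw [top_inv hW, dd_inv, map_inv, inv_inv, inv_inv]
  rw [e3, hh_mul, ← pow_two] at h2
  exact h2

theorem hh_minus_mem : hh θ (-1 : Kˣ) ∈ (WF hθ).G1 := by
  have h1 := hminus_mem (K := K) hθ
  rw [hminus_eq] at h1
  have e : uθ θ (-1 : Kˣ) = -1 := by
    apply Units.ext
    simp
  unfold hh
  rw [e]
  exact h1

/-- An element of `H ∩ G¹` -/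
theorem H1_form {z : GL chevG2.Idx K} (hz : z ∈ chevG2.diagonalSubgroup K) (hG : z ∈ (WF hθ).G1) : ∃ c : Kˣ, z = hh θ c := by
  obtain ⟨x, y, rfl⟩ := H_eq_dd hz
  have h1 : wd θ (1 : K) 0 0 ∈ (WF hθ).G1 := (WF hθ).Yp_le () ((mem_Yp hθ).mpr ⟨_, _, _, rfl⟩)
  have h2 := Subgroup.mul_mem _ (Subgroup.mul_mem _ hG h1) (Subgroup.inv_mem _ hG)
  have h3 : dd x y * wd θ (1 : K) 0 0 * (dd x y)⁻¹ ∈ chevG2.posUnipotent K :=
    normalizer_conj_mem (H_le_normalizer_U valid valid2 valid3 hz) (wd_mem_U _ _ _)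
  obtain ⟨t, u, v, e⟩ := (mem_U1 hθ).mp ⟨h3, h2⟩
  unfold wd at e
  rw [UU_conj] at e
  obtain ⟨e1, e2, -⟩ := UU_inj e
  simp only [map_one, mul_one] at e1 e2
  refine ⟨y, ?_⟩
  have e3 : x = uθ θ y := by
    apply Units.ext
    rw [e1, uθ_val, e2]
  unfold hh
  rw [← e3]

/-- the field has no square root of `-1` -/
theorem units_form [Fintype K] (hK : ∀ x : K, IsSquare (-x) ∨ IsSquare x) (c : Kˣ) : hh θ c ∈ (WF hθ).G1 := by
  rcases hK (c : K) with h | h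
  · obtain ⟨d, hd⟩ := h
    have hd0 : d ≠ 0 := by
      rintro rfl
      simp at hd
    have e : c = -1 * (Units.mk0 d hd0) ^ 2 := by
      apply Units.ext
      have : (c : K) = -(d * d) := by rw [← hd]; ring
      simp [this, pow_two]
    rw [e, ← hh_mul]
    exact Subgroup.mul_mem _ (hh_minus_mem hθ) (hh_sq_mem hθ _)
  · obtain ⟨d, hd⟩ := h
    have hd0 : d ≠ 0 := by
      rintro rfl
      simp at hd
    have e : c = (Units.mk0 d hd0) ^ 2 := by
      apply Units.ext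
      simp [hd, pow_two]
    rw [e]
    exact hh_sq_mem hθ _

/-- The torus of `²G₂`. -/
noncomputable def torusH [Fintype K] (hK : ∀ x : K, IsSquare (-x) ∨ IsSquare x) : Kˣ →* ↥(chevG2.diagonalSubgroup K ⊓ (WF hθ).G1) where
  toFun := fun c => ⟨hh θ c, hh_mem θ c, units_form hθ hK c⟩
  map_one' := Subtype.ext (hh_one θ)
  map_mul' := fun a b => Subtype.ext (hh_mul θ a b).symm

theorem torusH_bij [Fintype K] (hK : ∀ x : K, IsSquare (-x) ∨ IsSquare x) : Function.Bijective (torusH hθ hK) :=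
  ⟨fun a b h => hh_inj θ (congrArg Subtype.val h), by
      rintro ⟨z, hz, hG⟩
      obtain ⟨c, rfl⟩ := H1_form hθ hz hG
      exact ⟨c, rfl⟩⟩

noncomputable def torusE [Fintype K] (hK : ∀ x : K, IsSquare (-x) ∨ IsSquare x) : Kˣ ≃* ↥(chevG2.diagonalSubgroup K ⊓ (WF hθ).G1) :=
  MulEquiv.ofBijective (torusH hθ hK) (torusH_bij hθ hK)

@[simp] theorem torusE_val [Fintype K] (hK : ∀ x : K, IsSquare (-x) ∨ IsSquare x) (c : Kˣ) :
    ((torusE hθ hK c : ↥(chevG2.diagonalSubgroup K ⊓ (WF hθ).G1)) : GL chevG2.Idx K) = hh θ c := rfl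

end twf

end

section fin
variable {K : Type*} [Field K] [Fintype K] {m : ℕ}

/-- every element or its negative is a square -/
theorem sq_form (hK : Fintype.card K = 3 ^ (2 * m + 1)) (x : K) : IsSquare (-x) ∨ IsSquare x := by
  classical
  haveI : CharP K 3 := char3 hK
  have h2 : ringChar K ≠ 2 := by
    rw [ringChar.eq K 3]
    norm_num
  by_cases hx : x = 0
  · right
    rw [hx]
    exact IsSquare.zero
  have h4 : Fintype.card K % 4 = 3 := by
    rw [hK, pow_succ, pow_mul]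
    norm_num [Nat.mul_mod, Nat.pow_mod]
  have h5 : ¬ IsSquare (-1 : K) := by
    rw [FiniteField.isSquare_neg_one_iff]
    simp [h4]
  by_cases h6 : IsSquare x
  · exact Or.inr h6
  · left
    have h7 := quadraticChar_neg_one_iff_not_isSquare.mpr h5
    have h8 := quadraticChar_neg_one_iff_not_isSquare.mpr h6
    rw [← quadraticChar_one_iff_isSquare (neg_ne_zero.mpr hx)]
    have e : -x = -1 * x := by ring
    rw [e, map_mul, h7, h8]
    norm_num

end fin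

end Cfsg.Agent.Lib.ReeH
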