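import Cfsg.Agent.Lib.ReeH

/-! `²G₂`: rank one analysis. -/

set_option autoImplicit false
set_option linter.unusedVariables false
set_option linter.unusedSectionVars false
set_option linter.unusedFintypeInType false
set_option linter.unusedDecidableInType false

namespace Cfsg.Agent.Lib.ReeI

open Cfsg.Lie Matrix Cfsg.Agent.Lib.ChevEngine Cfsg.Agent.Lib.ChevTab Cfsg.Agent.Lib.ChevMono
  Cfsg.Agent.Lib.ChevRel Cfsg.Agent.Lib.ChevValid Cfsg.Agent.Lib.ChevGL Cfsg.Agent.Lib.ChevGrad Cfsg.Agent.Lib.ChevL2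
  Cfsg.Agent.Lib.ChevU Cfsg.Agent.Lib.ChevU2 Cfsg.Agent.Lib.ChevU3 Cfsg.Agent.Lib.ChevDiag Cfsg.Agent.Lib.ChevV3
  Cfsg.Agent.Lib.ChevH Cfsg.Agent.Lib.ChevN Cfsg.Agent.Lib.ChevN2 Cfsg.Agent.Lib.ChevN3 Cfsg.Agent.Lib.ChevBN Cfsg.Agent.Lib.ChevBN2
  Cfsg.Agent.Lib.ChevSimp2 Cfsg.Agent.Lib.ChevAut3 Cfsg.Agent.Lib.ChevTw1 Cfsg.Agent.Lib.ChevTw2 Cfsg.Agent.Lib.ChevTw4 Cfsg.Agent.Lib.ChevPar
  Cfsg.Agent.Lib.ChevW1 Cfsg.Agent.Lib.ChevTw6 Cfsg.Agent.Lib.ChevW3 Cfsg.Agent.Lib.ChevTw3 Cfsg.Agent.Lib.ChevTw3.TwFix Cfsg.Agent.Lib.BNPair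
  Cfsg.Agent.Lib.ChevTw20
  Cfsg.Agent.Lib.ReeA Cfsg.Agent.Lib.ReeB Cfsg.Agent.Lib.ReeC Cfsg.Agent.Lib.ReeD Cfsg.Agent.Lib.ReeE Cfsg.Agent.Lib.ReeF Cfsg.Agent.Lib.ReeG Cfsg.Agent.Lib.ReeH
  Cfsg.Agent.Lib.ChevTbG2 Cfsg.Agent.Lib.ChevValidG2 Cfsg.Agent.Lib.ChevV2G2 Cfsg.Agent.Lib.ChevV3G2 Cfsg.Agent.Lib.ChevV4G2

section
variable {K : Type*} [Field K] [CharP K 3]
variable {θ : K ≃+* K} (hθ : ∀ x, θ (θ x) ^ 3 = x)

set_option quotPrecheck false in
local notation "G1" => (WF hθ).G1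
local notation "GLK" => GL chevG2.Idx K

theorem PJ_all {r : ℕ} : PJ T C AA r ↔ 6 ≤ r ∧ r < 12 := by
  constructor
  · rintro ⟨h1, h2, _⟩
    rw [half] at h1
    rw [tT_n] at h2
    exact ⟨h1, h2⟩
  · rintro ⟨h1, h2⟩
    exact ⟨by rw [half]; exact h1, by rw [tT_n]; exact h2, inJ_all r⟩

include hθ

/-- Elements of `N ∩ G¹`. -/
theorem rho_dich (m : ↥(chevG2.monomialSubgroup K)) (hm : (m : GLK) ∈ G1) :
    ((m : GLK) ∈ chevG2.diagonalSubgroup K ∧ ∀ r, rho0 valid valid2 valid3 m r = r) ∨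
    (IsW valid valid2 valid3 AA m ∧ ∀ r, r < 12 → rho0 valid valid2 valid3 m r = 11 - r) := by
  have hP : (∀ m : ↥(chevG2.monomialSubgroup K), PosOn valid valid2 valid3 AA m → (m : GLK) ∈ chevG2.diagonalSubgroup K) := by
    intro m hpos
    apply H_of_sim_pos valid valid2 valid3 valid4
    intro i hi
    apply hpos
    rw [tl] at hi
    have : T.sim i ∈ [7, 6] := by interval_cases i <;> simp [sim0, sim1]
    rw [PJ_all]
    simp only [List.mem_cons, List.not_mem_nil, or_false] at this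
    omega
  obtain ⟨n, hn, hW⟩ := (WF hθ).exists_nj valid4 ()
  rcases (WF hθ).dichotomy valid4 () m ((WF hθ).G1_le_Fix hm) with h | h
  · left
    have h1 := hP m h
    refine ⟨h1, fun r => ?_⟩
    have := rho0_of_H valid valid2 valid3 h1
    rw [this]
    rfl
  · right
    have h1 : (((m * n : ↥(chevG2.monomialSubgroup K))) : GLK) ∈ chevG2.diagonalSubgroup K :=
      hP _ (posOn_mul_isW valid valid2 valid3 valid4 h hW.1)
    have h2 := rho0_of_H valid valid2 valid3 h1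
    have h3 : ∀ r, r < 12 → rho0 valid valid2 valid3 m r = 11 - r := by
      intro r hr
      have h4 : rho0 valid valid2 valid3 (m * n) (11 - r) = 11 - r := by
        rw [h2]
        rfl
      rw [rho0_mul valid valid2 valid3 valid4, rho_of_isW hW (show 11 - r < 12 by omega), show 11 - (11 - r) = r by omega] at h4
      exact h4
    refine ⟨⟨flip_of _ h3, flip_of _ (inv_rho _ h3)⟩, h3⟩

/-- The Weyl group has two elements. -/
theorem W_cases (w : W ((WF hθ).bn valid4)) : w = 1 ∨ w = xj (WF hθ) valid4 () := by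
  obtain ⟨m, hm, rfl⟩ := wm_surj _ _ w
  rcases rho_dich hθ m hm with ⟨h, _⟩ | ⟨h, h3⟩
  · left
    exact mk_eq_one_iff.mpr (((WF hθ).mem_sof valid4).mpr (H_le_B valid valid2 valid3 h))
  · right
    apply mk_eq_mk_iff.mpr
    refine ((WF hθ).mem_sof valid4).mpr (H_le_B valid valid2 valid3 ?_)
    exact mul_mem_H_of_isW valid valid2 valid3 valid4 h.2 ((WF hθ).nj_isW valid4 ()).1

theorem xj_ne : xj (WF hθ) valid4 () ≠ 1 := Sb_ne_one (xj_mem _ _ ())

theorem InvN_one : InvN (WF hθ) valid4 1 = ∅ := by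
  ext r
  simp only [InvN, map_one, Equiv.Perm.coe_one, id_eq, Finset.mem_filter, Finset.mem_Ico, Finset.notMem_empty, iff_false]
  omega

theorem rho_nj {r : ℕ} (hr : r < 12) : rho0 valid valid2 valid3 ((WF hθ).nj valid4 ()) r = 11 - r :=
  rho_of_isW ((WF hθ).nj_isW valid4 ()) hr

theorem InvN_xj : InvN (WF hθ) valid4 (xj (WF hθ) valid4 ()) = Finset.Ico 6 12 := by
  ext r
  simp only [InvN, Finset.mem_filter, Finset.mem_Ico, half, tT_n, xj, rho1_wm]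
  constructor
  · exact fun h => h.1
  · intro h
    refine ⟨h, ?_⟩
    rw [rho_nj hθ h.2]
    omega

theorem PJs_eq (j : Unit) : PJs T C ((WF hθ).A j) = Finset.Ico 6 12 := by
  ext r
  rw [mem_PJs valid valid2 valid3 valid4, Finset.mem_Ico]
  exact PJ_all

/-- The order of the group. -/
theorem card_G1' [Fintype K] : Nat.card ↥G1 =
    (Fintype.card K) ^ 3 * Nat.card ↥(chevG2.diagonalSubgroup K ⊓ G1) * (1 + (Fintype.card K) ^ 3) := by
  classical
  letI : Fintype (W ((WF hθ).bn valid4)) := Fintype.ofFinite _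
  have hY : ∀ j, Nat.card ↥((WF hθ).Yp j) = (Fintype.card K) ^ 3 := by
    intro j
    rw [Yp_eq hθ, card_U1 hθ, Nat.card_eq_fintype_card]
  have hP : ∀ j, (PJs T C ((WF hθ).A j)).card = 2 * (fun _ => 3) j := by
    intro j
    rw [PJs_eq hθ]
    simp
  have h := card_G1 (WF hθ) valid4 hY hP (by norm_num)
  rw [h, card_U1 hθ, Nat.card_eq_fintype_card]
  congr 1
  rw [Fintype.sum_eq_add 1 (xj (WF hθ) valid4 ()) (xj_ne hθ).symm (fun x hx => absurd (W_cases hθ x) (by tauto)), InvN_one, InvN_xj]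
  simp

end

end Cfsg.Agent.Lib.ReeI
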