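import Cfsg.Agent.Lib.ReeI

/-! `²G₂`: core, perfectness, simplicity. -/

set_option autoImplicit false
set_option linter.unusedVariables false
set_option linter.unusedSectionVars false
set_option linter.unusedFintypeInType false
set_option linter.unusedDecidableInType false

namespace Cfsg.Agent.Lib.ReeJ

open Cfsg.Lie Matrix Cfsg.Agent.Lib.ChevEngine Cfsg.Agent.Lib.ChevTab Cfsg.Agent.Lib.ChevMono
  Cfsg.Agent.Lib.ChevRel Cfsg.Agent.Lib.ChevValid Cfsg.Agent.Lib.ChevGL Cfsg.Agent.Lib.ChevGrad Cfsg.Agent.Lib.ChevL2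
  Cfsg.Agent.Lib.ChevU Cfsg.Agent.Lib.ChevU2 Cfsg.Agent.Lib.ChevU3 Cfsg.Agent.Lib.ChevDiag Cfsg.Agent.Lib.ChevV3
  Cfsg.Agent.Lib.ChevH Cfsg.Agent.Lib.ChevN Cfsg.Agent.Lib.ChevN2 Cfsg.Agent.Lib.ChevN3 Cfsg.Agent.Lib.ChevBN Cfsg.Agent.Lib.ChevBN2
  Cfsg.Agent.Lib.ChevSimp2 Cfsg.Agent.Lib.ChevAut3 Cfsg.Agent.Lib.ChevTw1 Cfsg.Agent.Lib.ChevTw2 Cfsg.Agent.Lib.ChevTw4 Cfsg.Agent.Lib.ChevPar
  Cfsg.Agent.Lib.ChevW1 Cfsg.Agent.Lib.ChevTw6 Cfsg.Agent.Lib.ChevW3 Cfsg.Agent.Lib.ChevTw3 Cfsg.Agent.Lib.ChevTw3.TwFix Cfsg.Agent.Lib.BNPair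
  Cfsg.Agent.Lib.ReeA Cfsg.Agent.Lib.ReeB Cfsg.Agent.Lib.ReeC Cfsg.Agent.Lib.ReeD Cfsg.Agent.Lib.ReeE Cfsg.Agent.Lib.ReeF Cfsg.Agent.Lib.ReeG Cfsg.Agent.Lib.ReeH Cfsg.Agent.Lib.ReeI
  Cfsg.Agent.Lib.ChevTbG2 Cfsg.Agent.Lib.ChevValidG2 Cfsg.Agent.Lib.ChevV2G2 Cfsg.Agent.Lib.ChevV3G2 Cfsg.Agent.Lib.ChevV4G2

open Cfsg.Agent.Lib.ChevTw20 (KK comm_mem_KK conj_mem_KK comm_top_of_le)

section
variable {K : Type*} [Field K] [CharP K 3]
variable {θ : K ≃+* K} (hθ : ∀ x, θ (θ x) ^ 3 = x)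

set_option quotPrecheck false in
local notation "G1" => (WF hθ).G1
local notation "GLK" => GL chevG2.Idx K

include hθ

/-- An element commuting with `wd 1 0 0` and diagonal is trivial. -/
theorem dd_trivial {z : GLK} (hz : z ∈ chevG2.diagonalSubgroup K) (hc : z * wd θ (1 : K) 0 0 = wd θ 1 0 0 * z) : z = 1 := by
  obtain ⟨x, y, rfl⟩ := H_eq_dd hz
  have h1 : dd x y * wd θ (1 : K) 0 0 * (dd x y)⁻¹ = wd θ 1 0 0 := by
    rw [hc]
    group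
  unfold wd at h1
  rw [UU_conj] at h1
  obtain ⟨e1, e2, -⟩ := UU_inj h1
  simp only [map_one, mul_one] at e1 e2
  have e3 : x = 1 := Units.ext e1
  have e4 : y = 1 := Units.ext e2
  rw [e3, e4, dd_one]

theorem core_bot [Finite K] : ((chevG2.borelSubgroup K ⊓ G1).subgroupOf G1).normalCore = ⊥ := by
  set W' := WF hθ with hW'
  set Z := ((chevG2.borelSubgroup K ⊓ W'.G1).subgroupOf W'.G1).normalCore with hZ
  have hZB : ∀ z ∈ Z, ((z : ↥W'.G1) : GLK) ∈ chevG2.borelSubgroup K := by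
    intro z hz
    exact (W'.mem_sof valid4).mp (Subgroup.normalCore_le _ hz)
  obtain ⟨m0, hm0G, htop⟩ := exists_top W' valid4
  have hZH : ∀ z ∈ Z, ((z : ↥W'.G1) : GLK) ∈ chevG2.diagonalSubgroup K := by
    intro z hz
    set g : ↥W'.G1 := ⟨m0, hm0G⟩ with hg
    have h1 : g⁻¹ * z * g⁻¹⁻¹ ∈ Z := (inferInstance : Z.Normal).conj_mem z hz g⁻¹
    have h2 := hZB _ h1
    obtain ⟨u, hu, h, hh, e⟩ := B_form valid valid2 valid3 h2
    have e1 : ((z : ↥W'.G1) : GLK) = (m0 : GLK) * (u * h) * (m0 : GLK)⁻¹ := by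
      rw [← e]
      show _ = (m0 : GLK) * ((m0 : GLK)⁻¹ * (z : GLK) * ((m0 : GLK)⁻¹)⁻¹) * (m0 : GLK)⁻¹
      group
    have h3 : (m0 : GLK) * u * (m0 : GLK)⁻¹ ∈ chevG2.negUnipotent K := top_conj W' valid4 htop hu
    have h4 : (m0 : GLK) * h * (m0 : GLK)⁻¹ ∈ chevG2.diagonalSubgroup K := normalizer_conj_mem (N_le_normalizer_H valid valid2 valid3 m0.2) hh
    have h5 : ((z : ↥W'.G1) : GLK) ∈ chevG2.negUnipotent K ⊔ chevG2.diagonalSubgroup K := by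
      rw [e1]
      have e2 : (m0 : GLK) * (u * h) * (m0 : GLK)⁻¹ = ((m0 : GLK) * u * (m0 : GLK)⁻¹) * ((m0 : GLK) * h * (m0 : GLK)⁻¹) := by group
      rw [e2]
      exact Subgroup.mul_mem _ (Subgroup.mem_sup_left h3) (Subgroup.mem_sup_right h4)
    have h6 : ((z : ↥W'.G1) : GLK) ∈ chevG2.borelSubgroup K ⊓ (chevG2.negUnipotent K ⊔ chevG2.diagonalSubgroup K) := ⟨hZB z hz, h5⟩
    rwa [B_inf_VH valid valid2 valid3] at h6
  rw [eq_bot_iff]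
  intro z hz
  rw [Subgroup.mem_bot]
  apply Subtype.ext
  show ((z : ↥W'.G1) : GLK) = 1
  apply dd_trivial hθ (hZH z hz)
  set y := wd θ (1 : K) 0 0 with hy
  have hyG : y ∈ W'.Yp () := (mem_Yp hθ).mpr ⟨_, _, _, rfl⟩
  have hyG1 : y ∈ W'.G1 := W'.Yp_le () hyG
  have hyU : y ∈ chevG2.posUnipotent K := wd_mem_U _ _ _
  have h1 : (⟨y, hyG1⟩ : ↥W'.G1) * z⁻¹ * (⟨y, hyG1⟩ : ↥W'.G1)⁻¹ ∈ Z := (inferInstance : Z.Normal).conj_mem _ (Subgroup.inv_mem _ hz) _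
  have h2 := hZH _ h1
  have h3 : ((z : ↥W'.G1) : GLK) * (y * ((z : ↥W'.G1) : GLK)⁻¹ * y⁻¹) ∈ chevG2.diagonalSubgroup K :=
    Subgroup.mul_mem _ (hZH z hz) h2
  have h4 : ((z : ↥W'.G1) : GLK) * y * ((z : ↥W'.G1) : GLK)⁻¹ ∈ chevG2.posUnipotent K :=
    normalizer_conj_mem (H_le_normalizer_U valid valid2 valid3 (hZH z hz)) hyU
  have h5 : ((z : ↥W'.G1) : GLK) * y * ((z : ↥W'.G1) : GLK)⁻¹ * y⁻¹ ∈ chevG2.posUnipotent K ⊓ chevG2.diagonalSubgroup K := by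
    refine ⟨Subgroup.mul_mem _ h4 (Subgroup.inv_mem _ hyU), ?_⟩
    have e : ((z : ↥W'.G1) : GLK) * y * ((z : ↥W'.G1) : GLK)⁻¹ * y⁻¹ = ((z : ↥W'.G1) : GLK) * (y * ((z : ↥W'.G1) : GLK)⁻¹ * y⁻¹) := by group
    rw [e]
    exact h3
  rw [U_inf_H valid valid2 valid3, Subgroup.mem_bot] at h5
  have h6 : ((z : ↥W'.G1) : GLK) * y * ((z : ↥W'.G1) : GLK)⁻¹ = y := by
    have := mul_inv_eq_one.mp h5
    exact this
  exact mul_inv_eq_iff_eq_mul.mp h6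

/-- Bruhat decomposition. -/
theorem bruhat {g : GLK} (hg : g ∈ G1) : g ∈ chevG2.borelSubgroup K ∨
    ∃ u ∈ chevG2.posUnipotent K ⊓ G1, ∃ b ∈ chevG2.borelSubgroup K ⊓ G1, g = u * ((WF hθ).nj valid4 () : GLK) * b := by
  obtain ⟨u, hu, m, hm, u', hu', e⟩ := (WF hθ).G1_form valid4 hg
  rcases rho_dich hθ m hm with ⟨h, _⟩ | ⟨h, h3⟩
  · left
    rw [e]
    exact Subgroup.mul_mem _ (Subgroup.mul_mem _ (U_le_B valid valid2 valid3 hu.1) (H_le_B valid valid2 valid3 h)) (U_le_B valid valid2 valid3 hu'.1)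
  · right
    set n := (WF hθ).nj valid4 () with hn
    have h1 := mul_mem_H_of_isW valid valid2 valid3 valid4 ((WF hθ).nj_isW valid4 ()).2 h.1
    have h2 : ((n⁻¹ * m : ↥(chevG2.monomialSubgroup K)) : GLK) ∈ G1 :=
      Subgroup.mul_mem _ (Subgroup.inv_mem _ ((WF hθ).nj_mem valid4 ())) hm
    refine ⟨u, hu, _, ⟨Subgroup.mul_mem _ (H_le_B valid valid2 valid3 h1) (U_le_B valid valid2 valid3 hu'.1), Subgroup.mul_mem _ h2 hu'.2⟩, ?_⟩
    rw [e]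
    show u * m * u' = u * (n : GLK) * ((n : GLK)⁻¹ * m * u')
    group

/-- `n U n⁻¹ ∩ B = 1`. -/
theorem conj_n_B [Finite K] {n : ↥(chevG2.monomialSubgroup K)} (hn : IsW valid valid2 valid3 AA n) {u : GLK} (hu : u ∈ chevG2.posUnipotent K)
    (hB : (n : GLK) * u * (n : GLK)⁻¹ ∈ chevG2.borelSubgroup K) : u = 1 := by
  have h1 := top_conj (WF hθ) valid4 (m0 := n) (fun r h1 h2 => by
    rw [half] at h1 ⊢
    rw [tT_n] at h2
    rw [rho_of_isW hn h2]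
    omega) hu
  have h2 : (n : GLK) * u * (n : GLK)⁻¹ ∈ chevG2.borelSubgroup K ⊓ chevG2.negUnipotent K := ⟨hB, h1⟩
  rw [B_inf_V valid valid2 valid3, Subgroup.mem_bot] at h2
  have e : u = (n : GLK)⁻¹ * ((n : GLK) * u * (n : GLK)⁻¹) * (n : GLK) := by group
  rw [e, h2]
  group

/-- `U¹` is normal in `B¹`. -/
theorem U1_normal {b u : GLK} (hb : b ∈ chevG2.borelSubgroup K ⊓ G1) (hu : u ∈ chevG2.posUnipotent K ⊓ G1) :
    b * u * b⁻¹ ∈ chevG2.posUnipotent K ⊓ G1 := by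
  refine ⟨?_, Subgroup.mul_mem _ (Subgroup.mul_mem _ hb.2 hu.2) (Subgroup.inv_mem _ hb.2)⟩
  obtain ⟨u', hu', h, hh, rfl⟩ := B_form valid valid2 valid3 hb.1
  have h1 := normalizer_conj_mem (H_le_normalizer_U valid valid2 valid3 hh) hu.1
  have e : u' * h * u * (u' * h)⁻¹ = u' * (h * u * h⁻¹) * u'⁻¹ := by group
  rw [e]
  exact Subgroup.mul_mem _ (Subgroup.mul_mem _ hu' h1) (Subgroup.inv_mem _ hu')

theorem exists_u [Fintype K] (h : 4 ≤ Fintype.card K) : ∃ u : Kˣ, u ^ 2 ≠ 1 := by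
  classical
  by_contra hc
  push Not at hc
  have h1 : ∀ u : K, u ∈ ({0, 1, -1} : Finset K) := by
    intro u
    by_cases hu : u = 0
    · simp [hu]
    · have := hc (Units.mk0 u hu)
      have h2 : u ^ 2 = 1 := by
        have := congrArg Units.val this
        simpa using this
      have h3 : u = 1 ∨ u = -1 := mul_self_eq_one_iff.mp (by rw [← sq]; exact h2)
      simp only [Finset.mem_insert, Finset.mem_singleton]
      tauto
  have h3 : Fintype.card K ≤ ({0, 1, -1} : Finset K).card := by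
    rw [← Finset.card_univ]
    exact Finset.card_le_card (fun u _ => h1 u)
  have h4 : ({0, 1, -1} : Finset K).card ≤ 3 := Finset.card_le_three
  omega

theorem e1_ne {c : K} (hc : c ≠ 1) : c ^ 2 * θ c ^ 3 ≠ 1 := by
  intro h
  apply hc
  have h1 : θ c ^ 2 * c = 1 := by
    have := congrArg θ h
    simpa [map_mul, map_pow, hθ c] using this
  have h2 : c ≠ 0 := by
    rintro rfl
    simp at h
  have h3 : θ c ≠ 0 := by
    intro h4
    rw [h4] at h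
    simp at h
  have h4 : c ^ 2 * θ c ^ 3 * (θ c - 1) = 0 := by
    linear_combination (θ c ^ 2 * c + 1) * h1 - h
  have h5 : θ c = 1 := by
    have := (mul_eq_zero.mp h4).resolve_left (mul_ne_zero (pow_ne_zero _ h2) (pow_ne_zero _ h3))
    exact sub_eq_zero.mp this
  rw [h5] at h1
  simpa using h1

theorem e2_ne {c : K} (hc : c ^ 2 ≠ 1) : c * θ c ^ 3 ≠ 1 := by
  intro h
  apply hc
  have h1 : θ c * c = 1 := by
    have := congrArg θ h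
    simpa [map_mul, map_pow, hθ c] using this
  have h2 : θ c ^ 2 = 1 := by
    linear_combination h - θ c ^ 2 * h1
  linear_combination (θ c * c + 1) * h1 - c ^ 2 * h2

theorem wd_add_u (u u' : K) : wd θ 0 u 0 * wd θ 0 u' 0 = wd θ 0 (u + u') 0 := by
  rw [wd_mul hθ]
  simp

theorem wd_add_v (v v' : K) : wd θ 0 0 v * wd θ 0 0 v' = wd θ 0 0 (v + v') := by
  rw [wd_mul hθ]
  simp

theorem wd_split (t u v : K) : wd θ t 0 0 * wd θ 0 u v = wd θ t u v := by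
  rw [wd_mul hθ]
  simp

theorem wd_split2 (u v : K) : wd θ 0 u 0 * wd θ 0 0 v = wd θ 0 u v := by
  rw [wd_mul hθ]
  simp

theorem wd_mem (t u v : K) : wd θ t u v ∈ G1 := (WF hθ).Yp_le () ((mem_Yp hθ).mpr ⟨_, _, _, rfl⟩)

omit hθ in
theorem aux_div {e v : K} (h : e - 1 ≠ 0) : e * (v / (e - 1)) + -(v / (e - 1)) = v := by
  have : e * (v / (e - 1)) + -(v / (e - 1)) = (e - 1) * (v / (e - 1)) := by ring
  rw [this, mul_div_cancel₀ _ h]

theorem conj_v (c : Kˣ) (v : K) : hh θ c * wd θ 0 0 v * (hh θ c)⁻¹ = wd θ 0 0 ((c : K) ^ 2 * θ c ^ 3 * v) := by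
  rw [wd_conj hθ]
  simp only [mul_zero]

theorem conj_u (c : Kˣ) (u : K) : hh θ c * wd θ 0 u 0 * (hh θ c)⁻¹ = wd θ 0 ((c : K) * θ c ^ 3 * u) 0 := by
  rw [wd_conj hθ]
  simp only [mul_zero]

theorem conj_t (c : Kˣ) (t : K) : hh θ c * wd θ t 0 0 * (hh θ c)⁻¹ = wd θ ((c : K) * t) 0 0 := by
  rw [wd_conj hθ]
  simp only [mul_zero]

theorem inv_v (v : K) : (wd θ 0 0 v)⁻¹ = wd θ 0 0 (-v) := by
  rw [inv_eq_iff_mul_eq_one, wd_add_v hθ, add_neg_cancel, wd_zero]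

theorem inv_u (u : K) : (wd θ 0 u 0)⁻¹ = wd θ 0 (-u) 0 := by
  rw [inv_eq_iff_mul_eq_one, wd_add_u hθ, add_neg_cancel, wd_zero]

theorem zv_mem {c : Kˣ} (hc1 : (c : K) ≠ 1) (hG : hh θ c ∈ G1) (v : K) : wd θ 0 0 v ∈ KK G1 := by
  have h1 : (c : K) ^ 2 * θ c ^ 3 - 1 ≠ 0 := sub_ne_zero.mpr (e1_ne hθ hc1)
  have h3 := comm_mem_KK (D := chevG2) (F := K) hG (wd_mem hθ 0 0 (v / ((c : K) ^ 2 * θ c ^ 3 - 1)))
  rw [conj_v hθ, inv_v hθ, wd_add_v hθ, aux_div h1] at h3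
  exact h3

theorem zu_mem {c : Kˣ} (hc2 : (c : K) ^ 2 ≠ 1) (hG : hh θ c ∈ G1) (u : K) : wd θ 0 u 0 ∈ KK G1 := by
  have h1 : (c : K) * θ c ^ 3 - 1 ≠ 0 := sub_ne_zero.mpr (e2_ne hθ hc2)
  have h3 := comm_mem_KK (D := chevG2) (F := K) hG (wd_mem hθ 0 (u / ((c : K) * θ c ^ 3 - 1)) 0)
  rw [conj_u hθ, inv_u hθ, wd_add_u hθ, aux_div h1] at h3
  exact h3

theorem zt_mem {c : Kˣ} (hc1 : (c : K) ≠ 1) (hc2 : (c : K) ^ 2 ≠ 1) (hG : hh θ c ∈ G1) (t : K) : wd θ t 0 0 ∈ KK G1 := by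
  have hcm : (c : K) - 1 ≠ 0 := sub_ne_zero.mpr hc1
  have hzuv : ∀ u v : K, wd θ 0 u v ∈ KK G1 := by
    intro u v
    rw [← wd_split2 hθ]
    exact Subgroup.mul_mem _ (zu_mem hθ hc2 hG u) (zv_mem hθ hc1 hG v)
  have h3 := comm_mem_KK (D := chevG2) (F := K) hG (wd_mem hθ (t / ((c : K) - 1)) 0 0)
  rw [conj_t hθ] at h3
  have h4 : wd θ ((c : K) * (t / ((c : K) - 1))) 0 0 * (wd θ (t / ((c : K) - 1)) 0 0)⁻¹ ∈ chevG2.posUnipotent K ⊓ G1 :=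
    Subgroup.mul_mem _ ((mem_U1 hθ).mpr ⟨_, _, _, rfl⟩) (Subgroup.inv_mem _ ((mem_U1 hθ).mpr ⟨_, _, _, rfl⟩))
  obtain ⟨t1, u1, v1, e5⟩ := (mem_U1 hθ).mp h4
  have e6 : wd θ t1 u1 v1 * wd θ (t / ((c : K) - 1)) 0 0 = wd θ ((c : K) * (t / ((c : K) - 1))) 0 0 := by
    rw [← e5]
    group
  rw [wd_mul hθ] at e6
  have e7 := (wd_inj e6).1
  have e8 : t1 = t := by
    have h5 := aux_div (v := t) hcm
    linear_combination e7 + h5
  rw [e5, e8, ← wd_split hθ] at h3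
  have h5 := Subgroup.mul_mem _ h3 (Subgroup.inv_mem _ (hzuv u1 v1))
  rwa [mul_inv_cancel_right] at h5

/-- The group is perfect as soon as the field has an element with `c² ≠ 1` and the torus is in the group. -/
theorem perfect_of {c : Kˣ} (hc : c ^ 2 ≠ 1) (hG : hh θ c ∈ G1) : commutator ↥G1 = ⊤ := by
  have hc1 : (c : K) ≠ 1 := by
    intro h
    apply hc
    have : c = 1 := Units.ext h
    rw [this, one_pow]
  have hc2 : (c : K) ^ 2 ≠ 1 := by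
    intro h
    apply hc
    apply Units.ext
    simpa using h
  have hY : ∀ t u v : K, wd θ t u v ∈ KK G1 := by
    intro t u v
    rw [← wd_split hθ, ← wd_split2 hθ]
    exact Subgroup.mul_mem _ (zt_mem hθ hc1 hc2 hG t) (Subgroup.mul_mem _ (zu_mem hθ hc2 hG u) (zv_mem hθ hc1 hG v))
  apply comm_top_of_le (D := chevG2) (F := K)
  have hn := (WF hθ).nj_mem valid4 ()
  have hW := (WF hθ).nj_isW valid4 ()
  conv_lhs => rw [Cfsg.Agent.Lib.ChevTw2.TwFix.G1]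
  rw [Subgroup.closure_le]
  intro g hg
  obtain ⟨j, h | h⟩ := Set.mem_iUnion.1 hg
  · obtain ⟨t, u, v, rfl⟩ := (mem_Yp hθ).1 h
    exact hY t u v
  · have h3 := (WF hθ).conj_Ym valid4 hW.1 ((WF hθ).G1_le_Fix hn) h
    obtain ⟨t, u, v, e⟩ := (mem_Yp hθ).1 h3
    have h4 := conj_mem_KK (D := chevG2) (F := K) (hY t u v) (Subgroup.inv_mem _ hn)
    rw [← e] at h4
    have e2 : ((WF hθ).nj valid4 () : GLK)⁻¹ * (((WF hθ).nj valid4 () : GLK) * g * ((WF hθ).nj valid4 () : GLK)⁻¹) * ((WF hθ).nj valid4 () : GLK)⁻¹⁻¹ = g := by group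
    rwa [e2] at h4

theorem irreducible_G1 : ((WF hθ).bn valid4).Irreducible := by
  rintro J hJ ⟨g, hg⟩ ⟨g', hg', hg''⟩
  exfalso
  obtain ⟨j, hj⟩ := hJ hg
  obtain ⟨j', hj'⟩ := hg'
  apply hg''
  have : g' = g := Subtype.ext (by rw [hj, hj'])
  rwa [this]

theorem simple_of [Finite K] (hperf : commutator ↥G1 = ⊤) : IsSimpleGroup ↥G1 ∧ ¬ IsMulCommutative ↥G1 := by
  set W' := WF hθ with hW'
  have hN : Nontrivial ↥W'.G1 := by
    have h1 : wd θ (1 : K) 0 0 ∈ W'.G1 := wd_mem hθ 1 0 0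
    refine ⟨⟨⟨_, h1⟩, 1, ?_⟩⟩
    intro h
    exact wd_ne_one (θ := θ) (t := 1) (u := 0) (v := 0) (by simp) (congrArg Subtype.val h)
  constructor
  · refine Cfsg.Agent.Lib.BNPair2.isSimpleGroup_of_irreducible (P := W'.bn valid4) (irreducible_G1 hθ) ?_ hperf (core_bot hθ)
    have h1 := B_solvable (F := K) valid valid2 valid3
    let f : ↥((W'.bn valid4).B) →* ↥(chevG2.borelSubgroup K) :=
      { toFun := fun x => ⟨(x.1 : GLK), (W'.mem_sof valid4).mp x.2⟩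
        map_one' := rfl
        map_mul' := fun _ _ => rfl }
    refine solvable_of_solvable_injective (f := f) ?_
    intro a b hab
    apply Subtype.ext
    apply Subtype.ext
    have h : ((f a : ↥(chevG2.borelSubgroup K)) : GLK) = f b := congrArg Subtype.val hab
    exact h
  · intro hc
    have hcomm : ∀ a b : ↥W'.G1, a * b = b * a := fun a b => hc.is_comm.comm a b
    have h2 : commutator ↥W'.G1 = ⊥ := by
      rw [eq_bot_iff, commutator_eq_closure, Subgroup.closure_le]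
      rintro _ ⟨a, b, rfl⟩
      simp [commutatorElement_def, hcomm a b]
    rw [h2] at hperf
    exact bot_ne_top hperf

end

end Cfsg.Agent.Lib.ReeJ
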