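import Cfsg.Agent.Lib.ReeJ

/-! `²G₂`: summary over a finite field. -/

set_option autoImplicit false
set_option linter.unusedVariables false
set_option linter.unusedSectionVars false
set_option linter.unusedFintypeInType false
set_option linter.unusedDecidableInType false

namespace Cfsg.Agent.Lib.ReeK

open Cfsg.Lie Matrix Cfsg.Agent.Lib.ChevEngine Cfsg.Agent.Lib.ChevTab Cfsg.Agent.Lib.ChevMono
  Cfsg.Agent.Lib.ChevRel Cfsg.Agent.Lib.ChevValid Cfsg.Agent.Lib.ChevGL Cfsg.Agent.Lib.ChevGrad Cfsg.Agent.Lib.ChevL2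
  Cfsg.Agent.Lib.ChevU Cfsg.Agent.Lib.ChevU2 Cfsg.Agent.Lib.ChevU3 Cfsg.Agent.Lib.ChevDiag Cfsg.Agent.Lib.ChevV3
  Cfsg.Agent.Lib.ChevH Cfsg.Agent.Lib.ChevN Cfsg.Agent.Lib.ChevN2 Cfsg.Agent.Lib.ChevN3 Cfsg.Agent.Lib.ChevBN Cfsg.Agent.Lib.ChevBN2
  Cfsg.Agent.Lib.ChevSimp2 Cfsg.Agent.Lib.ChevAut3 Cfsg.Agent.Lib.ChevTw1 Cfsg.Agent.Lib.ChevTw2 Cfsg.Agent.Lib.ChevTw4 Cfsg.Agent.Lib.ChevPar
  Cfsg.Agent.Lib.ChevW1 Cfsg.Agent.Lib.ChevTw6 Cfsg.Agent.Lib.ChevW3 Cfsg.Agent.Lib.ChevTw3 Cfsg.Agent.Lib.ChevTw3.TwFix Cfsg.Agent.Lib.BNPair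
  Cfsg.Agent.Lib.ReeA Cfsg.Agent.Lib.ReeB Cfsg.Agent.Lib.ReeC Cfsg.Agent.Lib.ReeD Cfsg.Agent.Lib.ReeE Cfsg.Agent.Lib.ReeF Cfsg.Agent.Lib.ReeG Cfsg.Agent.Lib.ReeH Cfsg.Agent.Lib.ReeI Cfsg.Agent.Lib.ReeJ
  Cfsg.Agent.Lib.ChevTbG2 Cfsg.Agent.Lib.ChevValidG2 Cfsg.Agent.Lib.ChevV2G2 Cfsg.Agent.Lib.ChevV3G2 Cfsg.Agent.Lib.ChevV4G2

section
variable {K : Type*} [Field K] [Fintype K] [CharP K 3]
variable {θ : K ≃+* K} (hθ : ∀ x, θ (θ x) ^ 3 = x)

set_option quotPrecheck false in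
local notation "G1" => (WF hθ).G1
local notation "GLK" => GL chevG2.Idx K

variable {m : ℕ} (hK : Fintype.card K = 3 ^ (2 * m + 1))
include hθ hK

theorem torus_mem (c : Kˣ) : hh θ c ∈ G1 := units_form hθ (sq_form hK) c

theorem card_H1 : Nat.card ↥(chevG2.diagonalSubgroup K ⊓ G1) = 3 ^ (2 * m + 1) - 1 := by
  rw [← Nat.card_congr (torusE hθ (sq_form hK)).toEquiv, Cfsg.Agent.Lib.ChevHOrd.card_units_nat, hK]

theorem cyclic_H1 : IsCyclic ↥(chevG2.diagonalSubgroup K ⊓ G1) :=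
  (MulEquiv.isCyclic (torusE hθ (sq_form hK))).mp inferInstance

theorem card_G1_final : Nat.card ↥G1 = (3 ^ (2 * m + 1)) ^ 3 * (3 ^ (2 * m + 1) - 1) * ((3 ^ (2 * m + 1)) ^ 3 + 1) := by
  rw [card_G1' hθ, card_H1 hθ hK, hK, add_comm 1]

theorem perfect_final (hm : 1 ≤ m) : commutator ↥G1 = ⊤ := by
  have h4 : 4 ≤ Fintype.card K := by
    rw [hK]
    calc 4 ≤ 3 ^ 3 := by norm_num
      _ ≤ 3 ^ (2 * m + 1) := Nat.pow_le_pow_right (by norm_num) (by omega)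
  obtain ⟨c, hc⟩ := exists_u (θ := θ) hθ h4
  exact perfect_of hθ hc (torus_mem hθ hK c)

theorem simple_final (hm : 1 ≤ m) : IsSimpleGroup ↥G1 ∧ ¬ IsMulCommutative ↥G1 :=
  simple_of hθ (perfect_final hθ hK hm)

end

section
variable {K : Type*} [Field K] [CharP K 3]
variable {θ : K ≃+* K} (hθ : ∀ x, θ (θ x) ^ 3 = x)

set_option quotPrecheck false in
local notation "G1" => (WF hθ).G1
local notation "GLK" => GL chevG2.Idx K

include hθ

/-- `N¹/H¹` has order two. -/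
theorem weyl_hom : ∃ φ : ↥(chevG2.monomialSubgroup K ⊓ G1) →* Multiplicative (ZMod 2), Function.Surjective φ ∧
      φ.ker = (chevG2.diagonalSubgroup K ⊓ G1).subgroupOf (chevG2.monomialSubgroup K ⊓ G1) := by
  classical
  let toN : ↥(chevG2.monomialSubgroup K ⊓ G1) → ↥(chevG2.monomialSubgroup K) := fun n => ⟨n.1, n.2.1⟩
  have htoN : ∀ a b, toN (a * b) = toN a * toN b := fun a b => rfl
  let f : ↥(chevG2.monomialSubgroup K ⊓ G1) → Multiplicative (ZMod 2) := fun n =>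
    if rho0 valid valid2 valid3 (toN n) 7 = 7 then 1 else Multiplicative.ofAdd 1
  have hdich := fun n : ↥(chevG2.monomialSubgroup K ⊓ G1) => rho_dich hθ (toN n) n.2.2
  have h2 : (Multiplicative.ofAdd (1 : ZMod 2)) * Multiplicative.ofAdd 1 = 1 := by decide
  refine ⟨{ toFun := f, map_one' := ?_, map_mul' := ?_ }, ?_, ?_⟩
  · show (if rho0 valid valid2 valid3 (toN 1) 7 = 7 then _ else _) = _
    have : toN 1 = 1 := rfl
    rw [this, map_one]
    simp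
  · intro a b
    show (if rho0 valid valid2 valid3 (toN (a * b)) 7 = 7 then _ else _) = (if rho0 valid valid2 valid3 (toN a) 7 = 7 then _ else _) * (if rho0 valid valid2 valid3 (toN b) 7 = 7 then _ else _)
    rw [htoN, rho0_mul valid valid2 valid3 valid4]
    have e7 : (11 - 7 : ℕ) = 4 := rfl
    have e4 : (11 - 4 : ℕ) = 7 := rfl
    rcases hdich a with ⟨_, h1⟩ | ⟨_, h1⟩ <;> rcases hdich b with ⟨_, h3⟩ | ⟨_, h3⟩
    · rw [h3, h1]
      simp
    · rw [h3 7 (by norm_num), h1, h1]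
      simp
    · rw [h3, h1 7 (by norm_num)]
      simp
    · rw [h3 7 (by norm_num), e7, h1 4 (by norm_num), h1 7 (by norm_num), e4, e7]
      simp only [if_true, show ¬ (4 : ℕ) = 7 by norm_num, if_false]
      rw [h2]
  · intro y
    obtain ⟨n, hn, hW⟩ := (WF hθ).exists_nj valid4 ()
    have hrho := rho_of_isW hW (r := 7) (by norm_num)
    have hne : f ⟨n, n.2, hn⟩ = Multiplicative.ofAdd 1 := by
      show (if rho0 valid valid2 valid3 n 7 = 7 then _ else _) = _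
      rw [hrho]
      simp
    have hall : ∀ y : Multiplicative (ZMod 2), y = 1 ∨ y = Multiplicative.ofAdd 1 := by decide
    rcases hall y with rfl | rfl
    · exact ⟨1, by
        show (if rho0 valid valid2 valid3 (toN 1) 7 = 7 then _ else _) = _
        have : toN 1 = 1 := rfl
        rw [this, map_one]
        simp⟩
    · exact ⟨_, hne⟩
  · ext n
    rw [MonoidHom.mem_ker, Subgroup.mem_subgroupOf]
    show (if rho0 valid valid2 valid3 (toN n) 7 = 7 then _ else _) = (1 : Multiplicative (ZMod 2)) ↔ _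
    rcases hdich n with ⟨h1, h3⟩ | ⟨h1, h3⟩
    · simp [h3]
      exact ⟨h1, n.2.2⟩
    · rw [h3 7 (by norm_num)]
      simp
      intro h4 _
      have h5 := rho0_of_H valid valid2 valid3 (g := toN n) h4
      have h6 := h3 7 (by norm_num)
      rw [h5] at h6
      simp at h6

end

end Cfsg.Agent.Lib.ReeK
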