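import Cfsg.Agent.Lib.ReeK

/-! `²G₂`: counting in `U¹` and `H¹`, fixed points. -/

set_option autoImplicit false
set_option linter.unusedVariables false
set_option linter.unusedSectionVars false
set_option linter.unusedFintypeInType false
set_option linter.unusedDecidableInType false

namespace Cfsg.Agent.Lib.ReeL

open Cfsg.Lie Matrix Cfsg.Agent.Lib.ChevEngine Cfsg.Agent.Lib.ChevTab Cfsg.Agent.Lib.ChevMono
  Cfsg.Agent.Lib.ChevRel Cfsg.Agent.Lib.ChevValid Cfsg.Agent.Lib.ChevGL Cfsg.Agent.Lib.ChevGrad Cfsg.Agent.Lib.ChevL2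
  Cfsg.Agent.Lib.ChevU Cfsg.Agent.Lib.ChevU2 Cfsg.Agent.Lib.ChevU3 Cfsg.Agent.Lib.ChevDiag Cfsg.Agent.Lib.ChevV3
  Cfsg.Agent.Lib.ChevH Cfsg.Agent.Lib.ChevN Cfsg.Agent.Lib.ChevN2 Cfsg.Agent.Lib.ChevN3 Cfsg.Agent.Lib.ChevBN Cfsg.Agent.Lib.ChevBN2
  Cfsg.Agent.Lib.ChevSimp2 Cfsg.Agent.Lib.ChevAut3 Cfsg.Agent.Lib.ChevTw1 Cfsg.Agent.Lib.ChevTw2 Cfsg.Agent.Lib.ChevTw4 Cfsg.Agent.Lib.ChevPar
  Cfsg.Agent.Lib.ChevW1 Cfsg.Agent.Lib.ChevTw6 Cfsg.Agent.Lib.ChevW3 Cfsg.Agent.Lib.ChevTw3 Cfsg.Agent.Lib.ChevTw3.TwFix Cfsg.Agent.Lib.BNPair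
  Cfsg.Agent.Lib.ReeA Cfsg.Agent.Lib.ReeB Cfsg.Agent.Lib.ReeC Cfsg.Agent.Lib.ReeD Cfsg.Agent.Lib.ReeE Cfsg.Agent.Lib.ReeF Cfsg.Agent.Lib.ReeG Cfsg.Agent.Lib.ReeH Cfsg.Agent.Lib.ReeI Cfsg.Agent.Lib.ReeJ Cfsg.Agent.Lib.ReeK
  Cfsg.Agent.Lib.ChevTbG2 Cfsg.Agent.Lib.ChevValidG2 Cfsg.Agent.Lib.ChevV2G2 Cfsg.Agent.Lib.ChevV3G2 Cfsg.Agent.Lib.ChevV4G2

/-- In a cyclic group of twice odd order half the elements have odd order. -/
theorem card_odd {A : Type*} [CommGroup A] [Finite A] [IsCyclic A] {k : ℕ} (hA : Nat.card A = 2 * k) (hk : Odd k) :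
    Nat.card {x : A // Odd (orderOf x)} = k := by
  have h1 : Nat.card (powMonoidHom (α := A) k).ker = k := by
    rw [IsCyclic.card_powMonoidHom_ker, hA]
    exact Nat.gcd_eq_right (dvd_mul_left k 2)
  rw [← h1]
  apply Nat.card_congr
  refine Equiv.subtypeEquivRight fun x => ?_
  rw [MonoidHom.mem_ker, powMonoidHom_apply]
  constructor
  · intro h
    have h2 : orderOf x ∣ 2 * k := by
      rw [← hA]
      exact orderOf_dvd_natCard x
    have h3 : Nat.Coprime (orderOf x) 2 := by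
      rw [Nat.coprime_comm]
      exact (Nat.coprime_two_left).mpr h
    exact orderOf_dvd_iff_pow_eq_one.mp (h3.dvd_of_dvd_mul_left h2)
  · intro h
    have h2 := orderOf_dvd_of_pow_eq_one h
    exact Odd.of_dvd_nat hk h2

theorem odd_half {m : ℕ} : ∃ k, 3 ^ (2 * m + 1) - 1 = 2 * k ∧ Odd k := by
  induction m with
  | zero => exact ⟨1, by norm_num, odd_one⟩
  | succ m ih =>
    obtain ⟨k, h1, h2⟩ := ih
    have h3 : 1 ≤ 3 ^ (2 * m + 1) := Nat.one_le_pow _ _ (by norm_num)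
    refine ⟨9 * k + 4, ?_, ?_⟩
    · have e : 3 ^ (2 * (m + 1) + 1) = 9 * 3 ^ (2 * m + 1) := by
        rw [show 2 * (m + 1) + 1 = (2 * m + 1) + 2 by ring, pow_add]
        ring
      rw [e]
      omega
    · obtain ⟨j, rfl⟩ := h2
      exact ⟨9 * j + 6, by ring⟩

section
variable {K : Type*} [Field K] [CharP K 3]
variable {θ : K ≃+* K} (hθ : ∀ x, θ (θ x) ^ 3 = x)

set_option quotPrecheck false in
local notation "G1" => (WF hθ).G1
local notation "GLK" => GL chevG2.Idx K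

include hθ

/-- The cube of an element of `U¹`. -/
theorem wd_cube (t u v : K) : (wd θ t u v) ^ 3 = wd θ 0 0 (-(t ^ 2 * θ t ^ 3)) := by
  have h3 : (3 : K) = 0 := by exact_mod_cast CharP.cast_eq_zero K 3
  rw [pow_succ, pow_two, wd_mul hθ, wd_mul hθ]
  have e1 : t + t + t = 0 := by linear_combination t * h3
  have e2 : u + u - t * θ t ^ 3 + u - (t + t) * θ t ^ 3 = 0 := by linear_combination (u - t * θ t ^ 3) * h3
  have e3 : v + v - t ^ 2 * θ t ^ 3 - (u - t * θ t ^ 3) * t + v - (t + t) ^ 2 * θ t ^ 3 - (u + u - t * θ t ^ 3 - (t + t) * θ t ^ 3) * t = -(t ^ 2 * θ t ^ 3) := by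
    linear_combination (v - u * t) * h3
  rw [e1, e2, e3]

theorem wd_cube_one {t u v : K} : (wd θ t u v) ^ 3 = 1 ↔ t = 0 := by
  rw [wd_cube hθ]
  constructor
  · intro h
    have h1 : wd θ (0 : K) 0 (-(t ^ 2 * θ t ^ 3)) = wd θ 0 0 0 := by rw [h, wd_zero]
    have h2 := (wd_inj h1).2.2
    by_contra h0
    have h4 : t ^ 2 * θ t ^ 3 ≠ 0 := mul_ne_zero (pow_ne_zero _ h0) (pow_ne_zero _ (by simpa using h0))
    exact h4 (by simpa using h2)
  · rintro rfl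
    simp [wd_zero]

theorem orderOf_wd {t u v : K} : orderOf (wd θ t u v) = 3 ↔ t = 0 ∧ ¬ (u = 0 ∧ v = 0) := by
  haveI : Fact (Nat.Prime 3) := ⟨Nat.prime_three⟩
  constructor
  · intro h
    have h1 : (wd θ t u v) ^ 3 = 1 := by
      rw [← h]
      exact pow_orderOf_eq_one _
    have h2 := (wd_cube_one hθ).mp h1
    refine ⟨h2, ?_⟩
    rintro ⟨rfl, rfl⟩
    subst h2
    rw [wd_zero, orderOf_one] at h
    omega
  · rintro ⟨rfl, h⟩
    apply orderOf_eq_prime ((wd_cube_one hθ).mpr rfl)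
    apply wd_ne_one
    tauto

/-- The number of elements of order 3. -/
theorem card_order3 [Fintype K] : Nat.card {x : ↥(chevG2.posUnipotent K ⊓ G1) // orderOf x = 3} = (Fintype.card K) ^ 2 - 1 := by
  classical
  have h0 : Nat.card {p : K × K // p ≠ 0} = (Fintype.card K) ^ 2 - 1 := by
    rw [Nat.card_eq_fintype_card, Fintype.card_subtype_compl, Fintype.card_prod]
    simp [pow_two]
  rw [← h0]
  let e : {p : K × K // p ≠ 0} → {x : ↥(chevG2.posUnipotent K ⊓ G1) // orderOf x = 3} := fun p =>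
    ⟨⟨wd θ 0 p.1.1 p.1.2, (mem_U1 hθ).mpr ⟨_, _, _, rfl⟩⟩, by
      rw [Subgroup.orderOf_mk, orderOf_wd hθ]
      refine ⟨rfl, fun h => p.2 (Prod.ext h.1 h.2)⟩⟩
  have he : Function.Bijective e := by
    constructor
    · rintro ⟨⟨a, b⟩, h1⟩ ⟨⟨a', b'⟩, h2⟩ h
      have h3 : wd θ 0 a b = wd θ 0 a' b' := congrArg (fun x => ((x.1 : ↥(chevG2.posUnipotent K ⊓ G1)) : GLK)) h
      obtain ⟨-, h4, h5⟩ := wd_inj h3
      subst h4 h5
      rfl
    · rintro ⟨⟨x, hx⟩, h⟩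
      obtain ⟨t, u, v, rfl⟩ := (mem_U1 hθ).mp hx
      rw [Subgroup.orderOf_mk, orderOf_wd hθ] at h
      obtain ⟨rfl, h1⟩ := h
      exact ⟨⟨(u, v), fun h2 => h1 ⟨congrArg Prod.fst h2, congrArg Prod.snd h2⟩⟩, rfl⟩
  exact (Nat.card_congr (Equiv.ofBijective e he)).symm

end

end Cfsg.Agent.Lib.ReeL
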