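import Cfsg.Agent.Lib.ReeL

/-! `²G₂`: the action on the cosets of `B¹`. -/

set_option autoImplicit false
set_option linter.unusedVariables false
set_option linter.unusedSectionVars false
set_option linter.unusedFintypeInType false
set_option linter.unusedDecidableInType false

namespace Cfsg.Agent.Lib.ReeM

open Cfsg.Lie Matrix Cfsg.Agent.Lib.ChevEngine Cfsg.Agent.Lib.ChevTab Cfsg.Agent.Lib.ChevMono
  Cfsg.Agent.Lib.ChevRel Cfsg.Agent.Lib.ChevValid Cfsg.Agent.Lib.ChevGL Cfsg.Agent.Lib.ChevGrad Cfsg.Agent.Lib.ChevL2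
  Cfsg.Agent.Lib.ChevU Cfsg.Agent.Lib.ChevU2 Cfsg.Agent.Lib.ChevU3 Cfsg.Agent.Lib.ChevDiag Cfsg.Agent.Lib.ChevV3
  Cfsg.Agent.Lib.ChevH Cfsg.Agent.Lib.ChevN Cfsg.Agent.Lib.ChevN2 Cfsg.Agent.Lib.ChevN3 Cfsg.Agent.Lib.ChevBN Cfsg.Agent.Lib.ChevBN2
  Cfsg.Agent.Lib.ChevSimp2 Cfsg.Agent.Lib.ChevAut3 Cfsg.Agent.Lib.ChevTw1 Cfsg.Agent.Lib.ChevTw2 Cfsg.Agent.Lib.ChevTw4 Cfsg.Agent.Lib.ChevPar
  Cfsg.Agent.Lib.ChevW1 Cfsg.Agent.Lib.ChevTw6 Cfsg.Agent.Lib.ChevW3 Cfsg.Agent.Lib.ChevTw3 Cfsg.Agent.Lib.ChevTw3.TwFix Cfsg.Agent.Lib.BNPair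
  Cfsg.Agent.Lib.ReeA Cfsg.Agent.Lib.ReeB Cfsg.Agent.Lib.ReeC Cfsg.Agent.Lib.ReeD Cfsg.Agent.Lib.ReeE Cfsg.Agent.Lib.ReeF Cfsg.Agent.Lib.ReeG Cfsg.Agent.Lib.ReeH Cfsg.Agent.Lib.ReeI Cfsg.Agent.Lib.ReeJ Cfsg.Agent.Lib.ReeK Cfsg.Agent.Lib.ReeL
  Cfsg.Agent.Lib.ChevTbG2 Cfsg.Agent.Lib.ChevValidG2 Cfsg.Agent.Lib.ChevV2G2 Cfsg.Agent.Lib.ChevV3G2 Cfsg.Agent.Lib.ChevV4G2

section
variable {K : Type*} [Field K] [Fintype K] [CharP K 3]
variable {θ : K ≃+* K} (hθ : ∀ x, θ (θ x) ^ 3 = x)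

set_option quotPrecheck false in
local notation "G1" => (WF hθ).G1
local notation "GLK" => GL chevG2.Idx K
set_option quotPrecheck false in
/-- the Borel subgroup as a subgroup of the group -/
local notation "B1" => (chevG2.borelSubgroup K ⊓ (WF hθ).G1).subgroupOf (WF hθ).G1
set_option quotPrecheck false in
/-- the unipotent subgroup as a subgroup of the group -/
local notation "U1" => (chevG2.posUnipotent K ⊓ (WF hθ).G1).subgroupOf (WF hθ).G1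

include hθ

/-- the Weyl element -/
noncomputable def n0 : ↥(WF hθ).G1 := ⟨(WF hθ).nj valid4 (), (WF hθ).nj_mem valid4 ()⟩

theorem mem_B1 {g : ↥G1} : g ∈ B1 ↔ (g : GLK) ∈ chevG2.borelSubgroup K := (WF hθ).mem_sof valid4

theorem mem_U1' {g : ↥G1} : g ∈ U1 ↔ (g : GLK) ∈ chevG2.posUnipotent K := (WF hθ).mem_sof valid4

theorem U1_le_B1 : U1 ≤ B1 := fun g hg => (mem_B1 hθ).mpr (U_le_B valid valid2 valid3 ((mem_U1' hθ).mp hg))

theorem bruhat' (g : ↥G1) : g ∈ B1 ∨ ∃ u ∈ U1, ∃ b ∈ B1, g = u * n0 hθ * b := by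
  rcases bruhat hθ g.2 with h | ⟨u, hu, b, hb, e⟩
  · exact Or.inl ((mem_B1 hθ).mpr h)
  · right
    refine ⟨⟨u, hu.2⟩, (mem_U1' hθ).mpr hu.1, ⟨b, hb.2⟩, (mem_B1 hθ).mpr hb.1, Subtype.ext e⟩

theorem U1_normal' {b u : ↥G1} (hb : b ∈ B1) (hu : u ∈ U1) : b * u * b⁻¹ ∈ U1 := by
  have h1 := U1_normal hθ (b := b) (u := u) ⟨(mem_B1 hθ).mp hb, b.2⟩ ⟨(mem_U1' hθ).mp hu, u.2⟩
  exact (mem_U1' hθ).mpr h1.1

theorem n0_isW : IsW valid valid2 valid3 AA ((WF hθ).nj valid4 ()) := (WF hθ).nj_isW valid4 ()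

/-- `n⁻¹ U n ∩ B = 1`. -/
theorem n0_conj_B {u : ↥G1} (hu : u ∈ U1) (hb : (n0 hθ)⁻¹ * u * n0 hθ ∈ B1) : u = 1 := by
  apply Subtype.ext
  have h1 := (mem_B1 hθ).mp hb
  have h2 := conj_n_B hθ (n := ((WF hθ).nj valid4 ())⁻¹) (IsW.symm valid valid2 valid3 valid4 (n0_isW hθ)) ((mem_U1' hθ).mp hu) (by
    have e : (((WF hθ).nj valid4 ())⁻¹ : ↥(chevG2.monomialSubgroup K)).val * (u : GLK) * (((WF hθ).nj valid4 ())⁻¹ : ↥(chevG2.monomialSubgroup K)).val⁻¹ = (((n0 hθ)⁻¹ * u * n0 hθ : ↥G1) : GLK) := by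
      show ((WF hθ).nj valid4 () : GLK)⁻¹ * (u : GLK) * ((WF hθ).nj valid4 () : GLK)⁻¹⁻¹ = ((WF hθ).nj valid4 () : GLK)⁻¹ * (u : GLK) * ((WF hθ).nj valid4 () : GLK)
      simp
    rw [e]
    exact h1)
  exact h2

theorem n0_not_B : n0 hθ ∉ B1 := by
  intro h
  have h1 : ((WF hθ).nj valid4 () : GLK) ∈ chevG2.borelSubgroup K ⊓ chevG2.monomialSubgroup K := ⟨(mem_B1 hθ).mp h, ((WF hθ).nj valid4 ()).2⟩
  rw [B_inf_N valid valid2 valid3] at h1
  have h2 := rho0_of_H valid valid2 valid3 h1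
  have h3 := rho_nj hθ (r := 7) (by norm_num)
  rw [h2] at h3
  simp at h3

/-- The stabilizer of a coset. -/
theorem mem_stab {a g : ↥G1} : g ∈ MulAction.stabilizer ↥G1 ((a : ↥G1) : ↥G1 ⧸ B1) ↔ a⁻¹ * g * a ∈ B1 := by
  rw [MulAction.mem_stabilizer_iff, MulAction.Quotient.smul_mk, QuotientGroup.eq]
  have e : (g • a)⁻¹ * a = (a⁻¹ * g * a)⁻¹ := by
    rw [smul_eq_mul]
    group
  rw [e, Subgroup.inv_mem_iff]

/-- Moving two points to the standard ones. -/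
theorem two_trans {x y : ↥G1 ⧸ B1} (hxy : x ≠ y) : ∃ g : ↥G1, g • x = ((1 : ↥G1) : ↥G1 ⧸ B1) ∧ g • y = ((n0 hθ : ↥G1) : ↥G1 ⧸ B1) := by
  obtain ⟨a, rfl⟩ := QuotientGroup.mk_surjective x
  obtain ⟨b, rfl⟩ := QuotientGroup.mk_surjective y
  have h1 : a⁻¹ * b ∉ B1 := fun h => hxy (QuotientGroup.eq.mpr h)
  rcases bruhat' hθ (a⁻¹ * b) with h | ⟨u, hu, c, hc, e⟩
  · exact absurd h h1
  · refine ⟨(a * u)⁻¹, ?_, ?_⟩
    · rw [MulAction.Quotient.smul_mk, QuotientGroup.eq]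
      have e2 : ((a * u)⁻¹ • a)⁻¹ * 1 = u := by
        rw [smul_eq_mul]
        group
      rw [e2]
      exact U1_le_B1 hθ hu
    · rw [MulAction.Quotient.smul_mk, QuotientGroup.eq]
      have e2 : ((a * u)⁻¹ • b)⁻¹ * n0 hθ = c⁻¹ := by
        have e3 : b = a * (u * n0 hθ * c) := by
          rw [← e]
          group
        rw [smul_eq_mul, e3]
        group
      rw [e2]
      exact Subgroup.inv_mem _ hc

/-- A third point. -/
theorem third_form {z : ↥G1 ⧸ B1} (h1 : ((1 : ↥G1) : ↥G1 ⧸ B1) ≠ z) : ∃ u ∈ U1, z = ((u * n0 hθ : ↥G1) : ↥G1 ⧸ B1) := by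
  obtain ⟨a, rfl⟩ := QuotientGroup.mk_surjective z
  have h2 : a ∉ B1 := by
    intro h
    apply h1
    rw [QuotientGroup.eq]
    simpa using h
  rcases bruhat' hθ a with h | ⟨u, hu, c, hc, rfl⟩
  · exact absurd h h2
  · refine ⟨u, hu, ?_⟩
    symm
    rw [QuotientGroup.eq]
    have e : (u * n0 hθ)⁻¹ * (u * n0 hθ * c) = c := by group
    rw [e]
    exact hc

/-- The three point stabilizer. -/
theorem stab3_form {t u : ↥G1} (hu : u ∈ U1) (hu1 : u ≠ 1) (h1 : t ∈ B1) (h2 : (n0 hθ)⁻¹ * t * n0 hθ ∈ B1)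
    (h3 : (u * n0 hθ)⁻¹ * t * (u * n0 hθ) ∈ B1) : ∃ c : Kˣ, (t : GLK) = hh θ c ∧ c ^ 2 = 1 := by
  -- `t` is diagonal
  have htH : (t : GLK) ∈ chevG2.diagonalSubgroup K := by
    have h4 := (mem_B1 hθ).mp h2
    obtain ⟨u1, hu1', h, hh', e⟩ := B_form valid valid2 valid3 h4
    have e1 : (t : GLK) = ((WF hθ).nj valid4 () : GLK) * (u1 * h) * ((WF hθ).nj valid4 () : GLK)⁻¹ := by
      rw [← e]
      show _ = ((WF hθ).nj valid4 () : GLK) * (((WF hθ).nj valid4 () : GLK)⁻¹ * (t : GLK) * ((WF hθ).nj valid4 () : GLK)) * ((WF hθ).nj valid4 () : GLK)⁻¹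
      group
    have h5 := top_conj (WF hθ) valid4 (m0 := (WF hθ).nj valid4 ()) (fun r h1 h2 => by
      rw [half] at h1 ⊢
      rw [tT_n] at h2
      rw [rho_nj hθ h2]
      omega) hu1'
    have h6 : ((WF hθ).nj valid4 () : GLK) * h * ((WF hθ).nj valid4 () : GLK)⁻¹ ∈ chevG2.diagonalSubgroup K := normalizer_conj_mem (N_le_normalizer_H valid valid2 valid3 ((WF hθ).nj valid4 ()).2) hh'
    have h7 : (t : GLK) ∈ chevG2.negUnipotent K ⊔ chevG2.diagonalSubgroup K := by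
      rw [e1]
      have e2 : ((WF hθ).nj valid4 () : GLK) * (u1 * h) * ((WF hθ).nj valid4 () : GLK)⁻¹ = (((WF hθ).nj valid4 () : GLK) * u1 * ((WF hθ).nj valid4 () : GLK)⁻¹) * (((WF hθ).nj valid4 () : GLK) * h * ((WF hθ).nj valid4 () : GLK)⁻¹) := by group
      rw [e2]
      exact Subgroup.mul_mem _ (Subgroup.mem_sup_left h5) (Subgroup.mem_sup_right h6)
    have h8 : (t : GLK) ∈ chevG2.borelSubgroup K ⊓ (chevG2.negUnipotent K ⊔ chevG2.diagonalSubgroup K) := ⟨(mem_B1 hθ).mp h1, h7⟩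
    rwa [B_inf_VH valid valid2 valid3] at h8
  obtain ⟨c, hc⟩ := H1_form hθ htH t.2
  refine ⟨c, hc, ?_⟩
  -- the commutator with `u` is trivial
  have hv : u⁻¹ * (t * u * t⁻¹) ∈ U1 := Subgroup.mul_mem _ (Subgroup.inv_mem _ hu) (U1_normal' hθ h1 hu)
  have hv1 : u⁻¹ * (t * u * t⁻¹) = 1 := by
    apply n0_conj_B hθ hv
    have e : (n0 hθ)⁻¹ * (u⁻¹ * (t * u * t⁻¹)) * n0 hθ = ((u * n0 hθ)⁻¹ * t * (u * n0 hθ)) * ((n0 hθ)⁻¹ * t * n0 hθ)⁻¹ := by group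
    rw [e]
    exact Subgroup.mul_mem _ h3 (Subgroup.inv_mem _ h2)
  have hcomm : t * u * t⁻¹ = u := by
    have := mul_eq_one_iff_eq_inv.mp hv1
    exact (inv_injective this).symm
  obtain ⟨t0, u0, v0, e0⟩ := (mem_U1 hθ).mp ⟨(mem_U1' hθ).mp hu, u.2⟩
  have h4 : hh θ c * wd θ t0 u0 v0 * (hh θ c)⁻¹ = wd θ t0 u0 v0 := by
    have := congrArg Subtype.val hcomm
    simp only [Subgroup.coe_mul, Subgroup.coe_inv, hc, e0] at this
    exact this
  rw [wd_conj hθ] at h4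
  obtain ⟨e1, e2, e3⟩ := wd_inj h4
  by_contra hc2
  have hc3 : (c : K) ^ 2 ≠ 1 := by
    intro h
    apply hc2
    apply Units.ext
    simpa using h
  have hc1 : (c : K) ≠ 1 := by
    intro h
    apply hc3
    rw [h, one_pow]
  have ht0 : t0 = 0 := by
    have : ((c : K) - 1) * t0 = 0 := by linear_combination e1
    exact (mul_eq_zero.mp this).resolve_left (sub_ne_zero.mpr hc1)
  have hu0 : u0 = 0 := by
    have : ((c : K) * θ c ^ 3 - 1) * u0 = 0 := by linear_combination e2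
    exact (mul_eq_zero.mp this).resolve_left (sub_ne_zero.mpr (e2_ne hθ hc3))
  have hv0 : v0 = 0 := by
    have : ((c : K) ^ 2 * θ c ^ 3 - 1) * v0 = 0 := by linear_combination e3
    exact (mul_eq_zero.mp this).resolve_left (sub_ne_zero.mpr (e1_ne hθ hc1))
  apply hu1
  apply Subtype.ext
  rw [e0, ht0, hu0, hv0, wd_zero]
  rfl

/-- The triple stabilizer. -/
noncomputable def T3 (x y z : ↥G1 ⧸ B1) : Subgroup ↥G1 :=
  MulAction.stabilizer ↥G1 x ⊓ MulAction.stabilizer ↥G1 y ⊓ MulAction.stabilizer ↥G1 z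

theorem T3_smul (g : ↥G1) (x y z : ↥G1 ⧸ B1) : T3 hθ (g • x) (g • y) (g • z) = (T3 hθ x y z).map (MulAut.conj g).toMonoidHom := by
  unfold T3
  have hinj : Function.Injective (MulAut.conj g).toMonoidHom := (MulAut.conj g).injective
  rw [Subgroup.map_inf _ _ _ hinj, Subgroup.map_inf _ _ _ hinj,
    MulAction.stabilizer_smul_eq_stabilizer_map_conj, MulAction.stabilizer_smul_eq_stabilizer_map_conj, MulAction.stabilizer_smul_eq_stabilizer_map_conj]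

theorem card_T3_smul (g : ↥G1) (x y z : ↥G1 ⧸ B1) : Nat.card (T3 hθ (g • x) (g • y) (g • z)) = Nat.card (T3 hθ x y z) := by
  rw [T3_smul]
  exact Nat.card_congr (Subgroup.equivMapOfInjective _ _ (MulAut.conj g).injective).toEquiv.symm

/-- Standard triples have at most two elements in their stabilizer. -/
theorem T3_std_le {u : ↥G1} (hu : u ∈ U1) (hu1 : u ≠ 1) : Nat.card (T3 hθ ((1 : ↥G1) : ↥G1 ⧸ B1) ((n0 hθ : ↥G1) : ↥G1 ⧸ B1) ((u * n0 hθ : ↥G1) : ↥G1 ⧸ B1)) ≤ 2 := by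
  classical
  have hform : ∀ t ∈ T3 hθ ((1 : ↥G1) : ↥G1 ⧸ B1) ((n0 hθ : ↥G1) : ↥G1 ⧸ B1) ((u * n0 hθ : ↥G1) : ↥G1 ⧸ B1), t = 1 ∨ (t : GLK) = hh θ (-1) := by
    intro t ht
    unfold T3 at ht
    rw [Subgroup.mem_inf, Subgroup.mem_inf, mem_stab hθ, mem_stab hθ, mem_stab hθ] at ht
    obtain ⟨⟨h1, h2⟩, h3⟩ := ht
    have h1' : t ∈ B1 := by simpa using h1
    obtain ⟨c, hc, hc2⟩ := stab3_form hθ hu hu1 h1' h2 h3
    have h4 : c = 1 ∨ c = -1 := by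
      have h5 : (c : K) ^ 2 = 1 := by
        have := congrArg Units.val hc2
        simpa using this
      have h5' : (c : K) * c = 1 := by rw [← sq]; exact h5
      rcases (mul_self_eq_one_iff.mp h5') with h7 | h7
      · exact Or.inl (Units.ext h7)
      · exact Or.inr (Units.ext (by simpa using h7))
    rcases h4 with rfl | rfl
    · left
      apply Subtype.ext
      rw [hc, hh_one]
      rfl
    · exact Or.inr hc
  let f : ↥(T3 hθ ((1 : ↥G1) : ↥G1 ⧸ B1) ((n0 hθ : ↥G1) : ↥G1 ⧸ B1) ((u * n0 hθ : ↥G1) : ↥G1 ⧸ B1)) → Bool := fun t => decide (t = 1)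
  have hf : Function.Injective f := by
    intro a b h
    by_cases ha : a = 1
    · have hb : b = 1 := by
        simpa [f, ha] using h.symm
      rw [ha, hb]
    · have hb : b ≠ 1 := by
        intro hb
        apply ha
        simpa [f, hb] using h
      have ha' : (a : ↥G1) ≠ 1 := fun h2 => ha (Subtype.ext h2)
      have hb' : (b : ↥G1) ≠ 1 := fun h2 => hb (Subtype.ext h2)
      have h1 := (hform a a.2).resolve_left ha'
      have h2 := (hform b b.2).resolve_left hb'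
      apply Subtype.ext
      apply Subtype.ext
      rw [h1, h2]
  have := Nat.card_le_card_of_injective f hf
  simpa using this

theorem T3_le {x y z : ↥G1 ⧸ B1} (hxy : x ≠ y) (hxz : x ≠ z) (hyz : y ≠ z) : Nat.card (T3 hθ x y z) ≤ 2 := by
  obtain ⟨g, h1, h2⟩ := two_trans hθ hxy
  have hz1 : ((1 : ↥G1) : ↥G1 ⧸ B1) ≠ g • z := by
    rw [← h1]
    exact fun h => hxz (smul_left_cancel g h)
  obtain ⟨u, hu, e⟩ := third_form hθ hz1
  have hu1 : u ≠ 1 := by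
    rintro rfl
    apply hyz
    apply smul_left_cancel g
    rw [h2, e, one_mul]
  rw [← card_T3_smul hθ g, h1, h2, e]
  exact T3_std_le hθ hu hu1

/-- The element of order two fixes three points. -/
theorem T3_exists : ∃ x y z : ↥G1 ⧸ B1, x ≠ y ∧ x ≠ z ∧ y ≠ z ∧ Nat.card (T3 hθ x y z) = 2 := by
  classical
  have h2ne : (2 : K) ≠ 0 := by
    intro h
    have h3 : (3 : K) = 0 := by exact_mod_cast CharP.cast_eq_zero K 3
    have : (1 : K) = 0 := by linear_combination h3 - h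
    exact one_ne_zero this
  set u : ↥G1 := ⟨wd θ 0 1 0, wd_mem hθ 0 1 0⟩ with hu
  have huU : u ∈ U1 := (mem_U1' hθ).mpr (wd_mem_U _ _ _)
  have hu1 : u ≠ 1 := by
    intro h
    exact wd_ne_one (θ := θ) (t := 0) (u := 1) (v := 0) (by simp) (congrArg Subtype.val h)
  refine ⟨((1 : ↥G1) : ↥G1 ⧸ B1), ((n0 hθ : ↥G1) : ↥G1 ⧸ B1), ((u * n0 hθ : ↥G1) : ↥G1 ⧸ B1), ?_, ?_, ?_, ?_⟩
  · intro h
    apply n0_not_B hθ
    have := QuotientGroup.eq.mp h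
    simpa using this
  · intro h
    have h3 := QuotientGroup.eq.mp h
    have h4 : u * n0 hθ ∈ B1 := by simpa using h3
    have h5 : n0 hθ = u⁻¹ * (u * n0 hθ) := by group
    apply n0_not_B hθ
    rw [h5]
    exact Subgroup.mul_mem _ (Subgroup.inv_mem _ (U1_le_B1 hθ huU)) h4
  · intro h
    have h3 := QuotientGroup.eq.mp h
    have e : (n0 hθ)⁻¹ * (u * n0 hθ) = (n0 hθ)⁻¹ * u * n0 hθ := by group
    rw [e] at h3
    exact hu1 (n0_conj_B hθ huU h3)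
  · apply le_antisymm (T3_std_le hθ huU hu1)
    -- the element
    have hwG := hh_minus_mem (K := K) hθ
    set w : ↥G1 := ⟨hh θ (-1), hwG⟩ with hw
    have hwB : w ∈ B1 := (mem_B1 hθ).mpr (H_le_B valid valid2 valid3 (hh_mem θ _))
    have hw1 : w ≠ 1 := by
      intro h
      have h1 : hh θ (-1 : Kˣ) = hh θ 1 := by
        rw [hh_one]
        exact congrArg Subtype.val h
      have h3 := hh_inj θ h1
      have h4 := congrArg Units.val h3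
      have h5 : (-1 : K) = 1 := by simpa using h4
      apply h2ne
      linear_combination -h5
    have hn : (n0 hθ)⁻¹ * w * n0 hθ ∈ B1 := by
      have e1 : ((n0 hθ)⁻¹ * w * n0 hθ : ↥G1).val = ((((WF hθ).nj valid4 ())⁻¹ : ↥(chevG2.monomialSubgroup K)) : GLK) * hh θ (-1) * ((((WF hθ).nj valid4 ())⁻¹ : ↥(chevG2.monomialSubgroup K)) : GLK)⁻¹ := by
        show ((WF hθ).nj valid4 () : GLK)⁻¹ * hh θ (-1) * ((WF hθ).nj valid4 () : GLK) = ((WF hθ).nj valid4 () : GLK)⁻¹ * hh θ (-1) * ((WF hθ).nj valid4 () : GLK)⁻¹⁻¹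
        simp
      apply (mem_B1 hθ).mpr
      rw [e1]
      unfold hh
      rw [top_inv (IsW.symm valid valid2 valid3 valid4 (n0_isW hθ))]
      exact H_le_B valid valid2 valid3 (Subgroup.inv_mem _ (dd_mem _ _))
    have hcomm : w * u = u * w := by
      apply Subtype.ext
      show hh θ (-1) * wd θ 0 1 0 = wd θ 0 1 0 * hh θ (-1)
      have h1 := wd_conj (K := K) hθ (-1) 0 1 0
      have e : (((-1 : Kˣ) : K)) * θ ((-1 : Kˣ) : K) ^ 3 * 1 = 1 := by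
        simp
        norm_num [Odd.neg_one_pow]
      rw [e] at h1
      simp only [mul_zero] at h1
      exact mul_inv_eq_iff_eq_mul.mp h1
    have hmem : w ∈ T3 hθ ((1 : ↥G1) : ↥G1 ⧸ B1) ((n0 hθ : ↥G1) : ↥G1 ⧸ B1) ((u * n0 hθ : ↥G1) : ↥G1 ⧸ B1) := by
      unfold T3
      rw [Subgroup.mem_inf, Subgroup.mem_inf, mem_stab hθ, mem_stab hθ, mem_stab hθ]
      refine ⟨⟨by simpa using hwB, hn⟩, ?_⟩
      have e : (u * n0 hθ)⁻¹ * w * (u * n0 hθ) = (n0 hθ)⁻¹ * w * n0 hθ := by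
        calc (u * n0 hθ)⁻¹ * w * (u * n0 hθ) = (n0 hθ)⁻¹ * u⁻¹ * (w * u) * n0 hθ := by group
          _ = (n0 hθ)⁻¹ * u⁻¹ * (u * w) * n0 hθ := by rw [hcomm]
          _ = _ := by group
      rw [e]
      exact hn
    haveI : Nontrivial ↥(T3 hθ ((1 : ↥G1) : ↥G1 ⧸ B1) ((n0 hθ : ↥G1) : ↥G1 ⧸ B1) ((u * n0 hθ : ↥G1) : ↥G1 ⧸ B1)) :=
      ⟨⟨⟨w, hmem⟩, 1, fun h => hw1 (congrArg Subtype.val h)⟩⟩
    exact Finite.one_lt_card

end

end Cfsg.Agent.Lib.ReeM
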