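import Cfsg.Agent.Lib.ReeM

/-! `²G₂`: Sylow 3-subgroups, odd elements of the torus. -/

set_option autoImplicit false
set_option linter.unusedVariables false
set_option linter.unusedSectionVars false
set_option linter.unusedFintypeInType false
set_option linter.unusedDecidableInType false

namespace Cfsg.Agent.Lib.ReeN

open Cfsg.Lie Matrix Cfsg.Agent.Lib.ChevEngine Cfsg.Agent.Lib.ChevTab Cfsg.Agent.Lib.ChevMono
  Cfsg.Agent.Lib.ChevRel Cfsg.Agent.Lib.ChevValid Cfsg.Agent.Lib.ChevGL Cfsg.Agent.Lib.ChevGrad Cfsg.Agent.Lib.ChevL2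
  Cfsg.Agent.Lib.ChevU Cfsg.Agent.Lib.ChevU2 Cfsg.Agent.Lib.ChevU3 Cfsg.Agent.Lib.ChevDiag Cfsg.Agent.Lib.ChevV3
  Cfsg.Agent.Lib.ChevH Cfsg.Agent.Lib.ChevN Cfsg.Agent.Lib.ChevN2 Cfsg.Agent.Lib.ChevN3 Cfsg.Agent.Lib.ChevBN Cfsg.Agent.Lib.ChevBN2
  Cfsg.Agent.Lib.ChevSimp2 Cfsg.Agent.Lib.ChevAut3 Cfsg.Agent.Lib.ChevTw1 Cfsg.Agent.Lib.ChevTw2 Cfsg.Agent.Lib.ChevTw4 Cfsg.Agent.Lib.ChevPar
  Cfsg.Agent.Lib.ChevW1 Cfsg.Agent.Lib.ChevTw6 Cfsg.Agent.Lib.ChevW3 Cfsg.Agent.Lib.ChevTw3 Cfsg.Agent.Lib.ChevTw3.TwFix Cfsg.Agent.Lib.BNPair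
  Cfsg.Agent.Lib.ReeA Cfsg.Agent.Lib.ReeB Cfsg.Agent.Lib.ReeC Cfsg.Agent.Lib.ReeD Cfsg.Agent.Lib.ReeE Cfsg.Agent.Lib.ReeF Cfsg.Agent.Lib.ReeG Cfsg.Agent.Lib.ReeH Cfsg.Agent.Lib.ReeI Cfsg.Agent.Lib.ReeJ Cfsg.Agent.Lib.ReeK Cfsg.Agent.Lib.ReeL Cfsg.Agent.Lib.ReeM
  Cfsg.Agent.Lib.ChevTbG2 Cfsg.Agent.Lib.ChevValidG2 Cfsg.Agent.Lib.ChevV2G2 Cfsg.Agent.Lib.ChevV3G2 Cfsg.Agent.Lib.ChevV4G2

section
variable {K : Type*} [Field K] [Fintype K] [CharP K 3]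
variable {θ : K ≃+* K} (hθ : ∀ x, θ (θ x) ^ 3 = x)

set_option quotPrecheck false in
local notation "G1" => (WF hθ).G1
local notation "GLK" => GL chevG2.Idx K
set_option quotPrecheck false in
local notation "B1" => (chevG2.borelSubgroup K ⊓ (WF hθ).G1).subgroupOf (WF hθ).G1
set_option quotPrecheck false in
local notation "U1" => (chevG2.posUnipotent K ⊓ (WF hθ).G1).subgroupOf (WF hθ).G1

variable {m : ℕ} (hK : Fintype.card K = 3 ^ (2 * m + 1))
include hθ hK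

theorem card_U1' : Nat.card ↥U1 = 3 ^ (3 * (2 * m + 1)) := by
  have e1 : Nat.card ↥(chevG2.posUnipotent K ⊓ G1) = Nat.card ↥U1 :=
    Nat.card_congr (Subgroup.subgroupOfEquivOfLe inf_le_right).toEquiv.symm
  rw [← e1, card_U1 hθ, Nat.card_eq_fintype_card, hK, ← pow_mul, mul_comm]

theorem not_dvd_index : ¬ 3 ∣ Subgroup.index U1 := by
  have h1 := Subgroup.card_mul_index U1
  rw [card_U1' hθ hK, card_G1_final hθ hK, ← pow_mul, mul_comm (2 * m + 1) 3, mul_assoc] at h1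
  have hpos : 0 < 3 ^ (3 * (2 * m + 1)) := by positivity
  have h2 := Nat.eq_of_mul_eq_mul_left hpos h1
  rw [h2]
  obtain ⟨r, hr⟩ : ∃ r, 3 ^ (2 * m + 1) = 3 * r := ⟨3 ^ (2 * m), by rw [pow_succ]; ring⟩
  have hr1 : 1 ≤ r := by
    by_contra hc
    have : r = 0 := by omega
    rw [this] at hr
    have : 0 < 3 ^ (2 * m + 1) := by positivity
    omega
  rw [hr]
  intro h
  rcases (Nat.Prime.dvd_mul Nat.prime_three).mp h with h3 | h3
  · omega
  · obtain ⟨w, hw⟩ : ∃ w, 3 ^ (3 * (2 * m + 1)) = 3 * w := ⟨3 ^ (6 * m + 2), by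
      rw [show 3 * (2 * m + 1) = (6 * m + 2) + 1 by ring, pow_succ]; ring⟩
    rw [hw] at h3
    omega

/-- Distinct Sylow `3`-subgroups intersect trivially. -/
theorem sylow_TI (P Q : Sylow 3 ↥G1) (hPQ : P ≠ Q) : (P : Subgroup ↥G1) ⊓ (Q : Subgroup ↥G1) = ⊥ := by
  haveI : Fact (Nat.Prime 3) := ⟨Nat.prime_three⟩
  have hp : IsPGroup 3 ↥U1 := IsPGroup.of_card (card_U1' hθ hK)
  set S : Sylow 3 ↥G1 := hp.toSylow (not_dvd_index hθ hK) with hS
  have hScoe : (S : Subgroup ↥G1) = U1 := rfl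
  obtain ⟨a, rfl⟩ := MulAction.exists_smul_eq ↥G1 S P
  obtain ⟨b, rfl⟩ := MulAction.exists_smul_eq ↥G1 S Q
  rw [eq_bot_iff]
  intro x hx
  rw [Subgroup.mem_bot]
  by_contra hx1
  obtain ⟨h1, h2⟩ := hx
  have hmem : ∀ (c : ↥G1) (x : ↥G1), x ∈ ((c • S : Sylow 3 ↥G1) : Subgroup ↥G1) → c⁻¹ * x * c ∈ U1 := by
    intro c x hx
    rw [Sylow.coe_subgroup_smul, Subgroup.mem_pointwise_smul_iff_inv_smul_mem] at hx
    have e : (MulAut.conj c)⁻¹ • x = c⁻¹ * x * c := by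
      rw [MulAut.smul_def, MulAut.conj_inv_apply]
    rwa [e] at hx
  have hy := hmem a x h1
  have hz := hmem b x h2
  set y := a⁻¹ * x * a with hydef
  set g := a⁻¹ * b with hg
  have hy1 : y ≠ 1 := by
    intro h
    apply hx1
    have : x = a * y * a⁻¹ := by rw [hydef]; group
    rw [this, h]
    group
  have hzy : b⁻¹ * x * b = g⁻¹ * y * g := by
    rw [hydef, hg]
    group
  rcases bruhat' hθ g with h | ⟨u, hu, c, hc, e⟩
  · apply hPQ
    have h3 : g • S = S := by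
      rw [Sylow.smul_eq_iff_mem_normalizer]
      refine Subgroup.mem_normalizer_iff.mpr ?_
      intro w
      constructor
      · intro hw
        exact U1_normal' hθ h hw
      · intro hw
        have h4 := U1_normal' hθ (Subgroup.inv_mem _ h) hw
        have e2 : g⁻¹ * (g * w * g⁻¹) * g⁻¹⁻¹ = w := by group
        rwa [e2] at h4
    have h5 : b = a * g := by rw [hg]; group
    rw [h5, mul_smul, h3]
  · apply hy1
    rw [hzy, e] at hz
    have h3 : u⁻¹ * y * u ∈ U1 := Subgroup.mul_mem _ (Subgroup.mul_mem _ (Subgroup.inv_mem _ hu) hy) hu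
    have h4 := n0_conj_B hθ h3 (by
      have h5 := U1_normal' hθ hc hz
      have e2 : c * ((u * n0 hθ * c)⁻¹ * y * (u * n0 hθ * c)) * c⁻¹ = (n0 hθ)⁻¹ * (u⁻¹ * y * u) * n0 hθ := by group
      rw [e2] at h5
      exact U1_le_B1 hθ h5)
    have e3 : y = u * (u⁻¹ * y * u) * u⁻¹ := by group
    rw [e3, h4]
    group

/-- The elements of odd order of the torus. -/
theorem odd_part : 2 * Nat.card {h : ↥(chevG2.diagonalSubgroup K ⊓ G1) // Odd (orderOf h)} = 3 ^ (2 * m + 1) - 1 := by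
  obtain ⟨k, hk, hk2⟩ := odd_half (m := m)
  have h1 : Nat.card {h : ↥(chevG2.diagonalSubgroup K ⊓ G1) // Odd (orderOf h)} = Nat.card {c : Kˣ // Odd (orderOf c)} := by
    apply Nat.card_congr
    refine (Equiv.subtypeEquiv (torusE hθ (sq_form hK)).toEquiv ?_).symm
    intro a
    show Odd (orderOf a) ↔ Odd (orderOf (torusE hθ (sq_form hK) a))
    rw [MulEquiv.orderOf_eq]
  rw [h1, card_odd (k := k) (by rw [Cfsg.Agent.Lib.ChevHOrd.card_units_nat, hK, hk]) hk2, hk]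

theorem odd_fix {h : GLK} (hh' : h ∈ chevG2.diagonalSubgroup K ⊓ G1) (h1 : h ≠ 1) (ho : Odd (orderOf h)) :
    (chevG2.posUnipotent K ⊓ G1) ⊓ Subgroup.centralizer {h} = ⊥ := by
  obtain ⟨c, rfl⟩ := H1_form hθ hh'.1 hh'.2
  have hord : orderOf c = orderOf (hh θ c) := by
    have e : hh θ c = ((torusE hθ (sq_form hK) c : ↥(chevG2.diagonalSubgroup K ⊓ G1)) : GLK) := rfl
    rw [e, Subgroup.orderOf_coe, MulEquiv.orderOf_eq]
  have hc1 : (c : K) ≠ 1 := by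
    intro h2
    apply h1
    have : c = 1 := Units.ext h2
    rw [this, hh_one]
  have hc3 : (c : K) ^ 2 ≠ 1 := by
    intro h2
    have h3 : c ^ 2 = 1 := by
      apply Units.ext
      simpa using h2
    have h4 := orderOf_dvd_of_pow_eq_one h3
    rw [hord] at h4
    have h5 : orderOf (hh θ c) = 1 := by
      have := (Nat.dvd_prime Nat.prime_two).mp h4
      rcases this with h6 | h6
      · exact h6
      · rw [h6] at ho
        exact absurd ho (by decide)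
    rw [orderOf_eq_one_iff] at h5
    exact h1 h5
  rw [eq_bot_iff]
  rintro x ⟨⟨hxU, hxG⟩, hxC⟩
  rw [Subgroup.mem_bot]
  obtain ⟨t0, u0, v0, rfl⟩ := (mem_U1 hθ).mp ⟨hxU, hxG⟩
  have h4 : hh θ c * wd θ t0 u0 v0 * (hh θ c)⁻¹ = wd θ t0 u0 v0 := by
    have hxC' : wd θ t0 u0 v0 ∈ Subgroup.centralizer {hh θ c} := hxC
    rw [Subgroup.mem_centralizer_singleton_iff] at hxC'
    rw [← hxC']
    group
  rw [wd_conj hθ] at h4
  obtain ⟨e1, e2, e3⟩ := wd_inj h4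
  have ht0 : t0 = 0 := by
    have : ((c : K) - 1) * t0 = 0 := by linear_combination e1
    exact (mul_eq_zero.mp this).resolve_left (sub_ne_zero.mpr hc1)
  have hu0 : u0 = 0 := by
    have : ((c : K) * θ c ^ 3 - 1) * u0 = 0 := by linear_combination e2
    exact (mul_eq_zero.mp this).resolve_left (sub_ne_zero.mpr (e2_ne hθ hc3))
  have hv0 : v0 = 0 := by
    have : ((c : K) ^ 2 * θ c ^ 3 - 1) * v0 = 0 := by linear_combination e3
    exact (mul_eq_zero.mp this).resolve_left (sub_ne_zero.mpr (e1_ne hθ hc1))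
  rw [ht0, hu0, hv0, wd_zero]

end

end Cfsg.Agent.Lib.ReeN
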