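import Cfsg.Agent.Lib.UnitBasic
import Cfsg.Prelude.Def_ClassicalGeometry

set_option autoImplicit false

namespace Cfsg.Agent.Lib.SUBasic

open Matrix Cfsg Cfsg.Agent.Lib.HermStd Cfsg.Agent.Lib.HermForm Cfsg.Agent.Lib.HermCount Cfsg.Agent.Lib.HermBasic Cfsg.Agent.Lib.FormVec Cfsg.Agent.Lib.UnitBasic

variable {F : Type*} [Field F] [Fintype F] {q : ℕ}

theorem card_units (hF : Fintype.card F = q ^ 2) : Nat.card Fˣ = q ^ 2 - 1 := by
  classical
  rw [Nat.card_eq_fintype_card, Fintype.card_units, hF]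

/-- The group of norm one elements. -/
def NN (F : Type*) [Field F] (q : ℕ) : Subgroup Fˣ := (powMonoidHom (q + 1) : Fˣ →* Fˣ).ker

theorem mem_NN {x : Fˣ} : x ∈ NN F q ↔ (x : F) ^ (q + 1) = 1 := by
  unfold NN
  rw [MonoidHom.mem_ker]
  show x ^ (q + 1) = 1 ↔ _
  rw [Units.ext_iff, Units.val_pow_eq_pow_val, Units.val_one]

theorem card_NN (hF : Fintype.card F = q ^ 2) : Nat.card (NN F q) = q + 1 := by
  unfold NN
  rw [IsCyclic.card_powMonoidHom_ker, card_units hF]
  have hq := one_lt_q hF
  apply Nat.gcd_eq_right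
  refine ⟨q - 1, ?_⟩
  obtain ⟨r, rfl⟩ : ∃ r, q = r + 1 := ⟨q - 1, by omega⟩
  simp only [Nat.add_sub_cancel]
  have : (r + 1) ^ 2 = (r + 1 + 1) * r + 1 := by ring
  omega

/-- The matrix equation of a unitary matrix. -/
theorem transpose_mul_conj (hF : Fintype.card F = q ^ 2) {n : ℕ} {g : GL (Fin n) F} (hg : g ∈ GU n F q) :
    (g : Matrix (Fin n) (Fin n) F)ᵀ * (g : Matrix (Fin n) (Fin n) F).map (sig hF) = 1 := by
  classical
  ext i j
  have h1 := hg (Pi.single i 1) (Pi.single j 1)
  simp only [Units.coeHom_apply, Matrix.mulVec_single_one] at h1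
  rw [hf_single_left] at h1
  rw [Matrix.mul_apply, Matrix.one_apply]
  have h2 : (Pi.single j (1 : F) : Fin n → F) i ^ q = if i = j then 1 else 0 := by
    by_cases hij : i = j
    · subst hij
      simp
    · rw [Pi.single_eq_of_ne hij, if_neg hij]
      exact zero_pow (by have := one_lt_q hF; omega)
  rw [← h2, ← h1]
  simp only [hermForm, Matrix.col_apply, Matrix.transpose_apply, Matrix.map_apply, sig_apply]

/-- The determinant of a unitary matrix has norm one. -/
theorem det_pow (hF : Fintype.card F = q ^ 2) {n : ℕ} {g : GL (Fin n) F} (hg : g ∈ GU n F q) :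
    (g : Matrix (Fin n) (Fin n) F).det ^ (q + 1) = 1 := by
  have h1 := congrArg Matrix.det (transpose_mul_conj hF hg)
  rw [Matrix.det_mul, Matrix.det_transpose, Matrix.det_one] at h1
  have h2 : ((g : Matrix (Fin n) (Fin n) F).map (sig hF)).det = sig hF (g : Matrix (Fin n) (Fin n) F).det := by
    exact ((sig hF).map_det _).symm
  rw [h2, sig_apply] at h1
  rw [pow_succ']
  exact h1

/-- The determinant on `GU`. -/
noncomputable def DD (hF : Fintype.card F = q ^ 2) (n : ℕ) : GU n F q →* NN F q where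
  toFun g := ⟨Matrix.GeneralLinearGroup.det g.1, by
    rw [mem_NN]
    exact det_pow hF g.2⟩
  map_one' := by
    apply Subtype.ext
    exact map_one _
  map_mul' a b := by
    apply Subtype.ext
    exact map_mul _ _ _

theorem DD_surj (hF : Fintype.card F = q ^ 2) (n : ℕ) (hn : 1 ≤ n) : Function.Surjective (DD hF n) := by
  classical
  rintro ⟨x, hx⟩
  rw [mem_NN] at hx
  let i₀ : Fin n := ⟨0, hn⟩
  let d : Fin n → F := Function.update (fun _ => 1) i₀ (x : F)
  have hd : ∀ i, d i * d i ^ q = 1 := by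
    intro i
    by_cases h : i = i₀
    · subst h
      simp only [d, Function.update_self]
      rw [← pow_succ']
      exact hx
    · simp [d, Function.update_of_ne h]
  have hd0 : ∀ i, d i ≠ 0 := by
    intro i h0
    have := hd i
    rw [h0, zero_mul] at this
    exact zero_ne_one this
  let D : GL (Fin n) F := ⟨Matrix.diagonal d, Matrix.diagonal (fun i => (d i)⁻¹), by
    rw [Matrix.diagonal_mul_diagonal, ← Matrix.diagonal_one]
    congr 1
    funext i
    exact mul_inv_cancel₀ (hd0 i), by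
    rw [Matrix.diagonal_mul_diagonal, ← Matrix.diagonal_one]
    congr 1
    funext i
    exact inv_mul_cancel₀ (hd0 i)⟩
  have hD : D ∈ GU n F q := by
    rw [mem_GU_iff]
    intro u v
    show hermForm n F q (Matrix.diagonal d *ᵥ u) (Matrix.diagonal d *ᵥ v) = _
    simp only [hermForm, Matrix.mulVec_diagonal]
    refine Finset.sum_congr rfl fun i _ => ?_
    rw [mul_pow]
    calc d i * u i * (d i ^ q * v i ^ q) = (d i * d i ^ q) * (u i * v i ^ q) := by ring
      _ = _ := by rw [hd, one_mul]
  refine ⟨⟨D, hD⟩, ?_⟩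
  apply Subtype.ext
  apply Units.ext
  show (Matrix.diagonal d).det = x
  rw [Matrix.det_diagonal]
  simp only [d]
  rw [Finset.prod_update_of_mem (Finset.mem_univ _)]
  simp

/-- `SU` is the kernel of the determinant on `GU`. -/
noncomputable def kerEquiv (hF : Fintype.card F = q ^ 2) (n : ℕ) : (DD hF n).ker ≃ SU n F q where
  toFun g := ⟨⟨((g.1.1 : GL (Fin n) F) : Matrix (Fin n) (Fin n) F), by
      have h1 := congrArg (fun y : NN F q => ((y : Fˣ) : F)) (MonoidHom.mem_ker.1 g.2)
      exact h1⟩, fun u v => g.1.2 u v⟩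
  invFun s := ⟨⟨Matrix.SpecialLinearGroup.toGL s.1, fun u v => s.2 u v⟩, by
      rw [MonoidHom.mem_ker]
      apply Subtype.ext
      apply Units.ext
      exact s.1.2⟩
  left_inv g := by
    apply Subtype.ext
    apply Subtype.ext
    apply Units.ext
    rfl
  right_inv s := by
    apply Subtype.ext
    apply Subtype.ext
    rfl

/-- `|GU_n| = (q+1) |SU_n|`. -/
theorem card_GU_eq (hF : Fintype.card F = q ^ 2) (n : ℕ) (hn : 1 ≤ n) :
    Nat.card (GU n F q) = (q + 1) * Nat.card (SU n F q) := by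
  have h1 := Subgroup.card_eq_card_quotient_mul_card_subgroup (DD hF n).ker
  rw [Nat.card_congr (QuotientGroup.quotientKerEquivOfSurjective _ (DD_surj hF n hn)).toEquiv, card_NN hF] at h1
  rw [h1, Nat.card_congr (kerEquiv hF n)]

end Cfsg.Agent.Lib.SUBasic
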