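import Cfsg.Agent.Lib.SUBasic
import Cfsg.Agent.Lib.TvGL

set_option autoImplicit false

namespace Cfsg.Agent.Lib.SUCenter

open Matrix Cfsg Cfsg.Agent.Lib.HermStd Cfsg.Agent.Lib.HermForm Cfsg.Agent.Lib.HermCount Cfsg.Agent.Lib.HermBasic Cfsg.Agent.Lib.UnitBasic Cfsg.Agent.Lib.SUBasic

variable {F : Type*} [Field F] [Fintype F] {q n : ℕ}

local notation "h" => hermForm n F q

/-- A non-zero element of trace zero. -/
theorem exists_t (hF : Fintype.card F = q ^ 2) : ∃ t : F, t ≠ 0 ∧ t ^ q = -t := by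
  have hne := sig_ne hF
  obtain ⟨θ, hθ⟩ : ∃ θ : F, sig hF θ ≠ θ := by
    by_contra hcon
    push Not at hcon
    exact hne (RingHom.ext hcon)
  refine ⟨θ - sig hF θ, sub_ne_zero.2 (Ne.symm hθ), ?_⟩
  rw [← sig_apply hF, map_sub, sig_sig]
  ring

theorem ut_mulVec (v x : Fin n → F) (c : F) :
    unitaryTransvection n q v c *ᵥ x = x + (c * h x v) • v := by
  unfold unitaryTransvection
  have e : (fun j => v j ^ q) ⬝ᵥ x = h x v := by
    simp only [dotProduct, hermForm]
    exact Finset.sum_congr rfl fun j _ => mul_comm (v j ^ q) (x j)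
  rw [Matrix.add_mulVec, Matrix.one_mulVec, Matrix.smul_mulVec, Matrix.vecMulVec_mulVec, e]
  congr 1
  ext i
  simp only [Pi.smul_apply, smul_eq_mul, MulOpposite.smul_eq_mul_unop, MulOpposite.unop_op]
  ring

theorem ut_isom (hF : Fintype.card F = q ^ 2) {v : Fin n → F} (hv : h v v = 0) {c : F} (hc : c ^ q = -c) (x y : Fin n → F) :
    h (unitaryTransvection n q v c *ᵥ x) (unitaryTransvection n q v c *ᵥ y) = h x y := by
  rw [ut_mulVec, ut_mulVec, hf_add_left, hf_add_right hF, hf_add_right hF, hf_smul_left, hf_smul_left, hf_smul_right hF, hf_smul_right hF, hv,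
    hf_conj hF y v, mul_pow, hc]
  ring

theorem ut_det {v : Fin n → F} (hv : h v v = 0) (c : F) : (unitaryTransvection n q v c).det = 1 := by
  have h0 : (fun j => v j ^ q) ⬝ᵥ (c • v) = 0 := by
    rw [dotProduct_smul, smul_eq_mul]
    have : (fun j => v j ^ q) ⬝ᵥ v = h v v := by
      simp only [dotProduct, hermForm]
      exact Finset.sum_congr rfl fun j _ => mul_comm _ _
    rw [this, hv, mul_zero]
  have h1 := Cfsg.Agent.Lib.TvGL.tv_det (c • v) (fun j => v j ^ q) h0
  rw [Cfsg.Agent.Lib.TvGL.tv_val] at h1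
  have e : (1 : Matrix (Fin n) (Fin n) F) + vecMulVec (c • v) (fun j => v j ^ q) = unitaryTransvection n q v c := by
    unfold unitaryTransvection
    congr 1
    ext i j
    simp [vecMulVec_apply, mul_assoc]
  rwa [e] at h1

/-- The unitary transvection as an element of `SU`. -/
def UT (hF : Fintype.card F = q ^ 2) {v : Fin n → F} (hv : h v v = 0) {c : F} (hc : c ^ q = -c) : SU n F q :=
  ⟨⟨unitaryTransvection n q v c, ut_det hv c⟩, fun x y => ut_isom hF hv hc x y⟩

theorem UT_val (hF : Fintype.card F = q ^ 2) {v : Fin n → F} (hv : h v v = 0) {c : F} (hc : c ^ q = -c) :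
    ((UT hF hv hc).1 : Matrix (Fin n) (Fin n) F) = unitaryTransvection n q v c := rfl

/-- Elements of the centre have isotropic vectors as eigenvectors. -/
theorem eigen (hF : Fintype.card F = q ^ 2) {g : SU n F q} (hg : g ∈ Subgroup.center (SU n F q)) {v : Fin n → F} (hv0 : v ≠ 0) (hv : h v v = 0) :
    ∃ l : F, (g.1 : Matrix (Fin n) (Fin n) F) *ᵥ v = l • v := by
  obtain ⟨t, ht0, ht⟩ := exists_t hF
  obtain ⟨x, hx⟩ := hf_nondeg_left hF hv0
  have hc := (Subgroup.mem_center_iff.1 hg) (UT hF hv ht)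
  have h1 : ((UT hF hv ht * g : SU n F q).1 : Matrix (Fin n) (Fin n) F) *ᵥ x = ((g * UT hF hv ht : SU n F q).1 : Matrix (Fin n) (Fin n) F) *ᵥ x := by
    rw [hc]
  have e1 : ((UT hF hv ht * g : SU n F q).1 : Matrix (Fin n) (Fin n) F) = unitaryTransvection n q v t * (g.1 : Matrix (Fin n) (Fin n) F) := rfl
  have e2 : ((g * UT hF hv ht : SU n F q).1 : Matrix (Fin n) (Fin n) F) = (g.1 : Matrix (Fin n) (Fin n) F) * unitaryTransvection n q v t := rfl
  rw [e1, e2, ← Matrix.mulVec_mulVec, ← Matrix.mulVec_mulVec, ut_mulVec, ut_mulVec, Matrix.mulVec_add, Matrix.mulVec_smul] at h1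
  have h2 := add_left_cancel h1
  refine ⟨(h ((g.1 : Matrix (Fin n) (Fin n) F) *ᵥ x) v) / h x v, ?_⟩
  have h3 : (t * h x v) • ((g.1 : Matrix (Fin n) (Fin n) F) *ᵥ v) = (t * h ((g.1 : Matrix (Fin n) (Fin n) F) *ᵥ x) v) • v := h2.symm
  have h4 := congrArg (fun y => (t * h x v)⁻¹ • y) h3
  simp only [smul_smul] at h4
  rw [inv_mul_cancel₀ (mul_ne_zero ht0 hx), one_smul] at h4
  rw [h4]
  congr 1
  field_simp

theorem herm_add_self (hF : Fintype.card F = q ^ 2) (v w : Fin n → F) (s : F) (hv : h v v = 0) (hw : h w w = 0) :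
    h (v + s • w) (v + s • w) = s * h w v + s ^ q * h v w := by
  rw [hf_add_left, hf_add_right hF, hf_add_right hF, hf_smul_left, hf_smul_left, hf_smul_right hF, hf_smul_right hF, hv, hw]
  ring

theorem exists_isotropic_comb (hF : Fintype.card F = q ^ 2) (v w : Fin n → F) (hv : h v v = 0) (hw : h w w = 0) :
    ∃ s : F, s ≠ 0 ∧ h (v + s • w) (v + s • w) = 0 := by
  obtain ⟨t, ht0, ht⟩ := exists_t hF
  by_cases ha : h v w = 0
  · refine ⟨1, one_ne_zero, ?_⟩
    rw [herm_add_self hF v w 1 hv hw, hf_conj hF v w, ha]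
    have hq := one_lt_q hF
    rw [zero_pow (by omega)]
    ring
  · refine ⟨h v w * t, mul_ne_zero ha ht0, ?_⟩
    rw [herm_add_self hF v w _ hv hw, hf_conj hF v w, mul_pow, ht]
    ring

/-- Isotropic vectors of a pair of coordinates. -/
theorem exists_pair_iso (hF : Fintype.card F = q ^ 2) : ∃ a b : F, a ≠ 0 ∧ b ≠ 0 ∧ a ≠ b ∧ a * a ^ q = -1 ∧ b * b ^ q = -1 := by
  have hq := one_lt_q hF
  have hm1 : sig hF (-1 : F) = -1 := by
    rw [map_neg, map_one]
  obtain ⟨a, ha0, ha⟩ := norm_surj (sig hF) (sig_ne hF) (sig_sig hF) (-1 : F) hm1 (neg_ne_zero.2 one_ne_zero)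
  rw [sig_apply] at ha
  have hc : 1 < Nat.card (NN F q) := by
    rw [card_NN hF]
    omega
  haveI : Nontrivial (NN F q) := Finite.one_lt_card_iff_nontrivial.1 hc
  obtain ⟨⟨ε, hε⟩, hε1⟩ := exists_ne (1 : NN F q)
  rw [mem_NN] at hε
  have hε1' : (ε : F) ≠ 1 := by
    intro h1
    apply hε1
    apply Subtype.ext
    exact Units.ext h1
  refine ⟨a, a * ε, ha0, mul_ne_zero ha0 ε.ne_zero, ?_, ha, ?_⟩
  · intro h1
    apply hε1'
    exact (mul_left_cancel₀ ha0 (by rw [mul_one]; exact h1)).symm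
  · rw [mul_pow]
    calc a * (ε : F) * (a ^ q * (ε : F) ^ q) = (a * a ^ q) * ((ε : F) * (ε : F) ^ q) := by ring
      _ = -1 := by
        rw [← pow_succ' (ε : F) q, hε, ha, mul_one]

theorem iso_single (hF : Fintype.card F = q ^ 2) {i j : Fin n} (hij : i ≠ j) {a : F} (ha : a * a ^ q = -1) :
    h ((Pi.single i 1 : Fin n → F) + a • Pi.single j 1) ((Pi.single i 1 : Fin n → F) + a • Pi.single j 1) = 0 := by
  classical
  have hq := one_lt_q hF
  have h00 : h (Pi.single i 1) (Pi.single i 1) = 1 := by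
    rw [hf_single_left]
    simp
  have h11 : h (Pi.single j 1) (Pi.single j 1) = 1 := by
    rw [hf_single_left]
    simp
  have h01 : h (Pi.single i 1) (Pi.single j 1) = 0 := by
    rw [hf_single_left, Pi.single_eq_of_ne hij]
    exact zero_pow (by omega)
  have h10 : h (Pi.single j 1) (Pi.single i 1) = 0 := by
    rw [hf_single_left, Pi.single_eq_of_ne hij.symm]
    exact zero_pow (by omega)
  rw [hf_add_left, hf_add_right hF, hf_add_right hF, hf_smul_left, hf_smul_left, hf_smul_right hF, hf_smul_right hF, h00, h11, h01, h10]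
  linear_combination ha

/-- The centre of `SU` consists of scalars. -/
theorem center_scalar (hF : Fintype.card F = q ^ 2) (hn : 2 ≤ n) {g : SU n F q} (hg : g ∈ Subgroup.center (SU n F q)) :
    ∃ l : F, (g.1 : Matrix (Fin n) (Fin n) F) = l • 1 := by
  classical
  obtain ⟨a, b, ha0, hb0, hab, ha, hb⟩ := exists_pair_iso hF
  let i₀ : Fin n := ⟨0, by omega⟩
  let i₁ : Fin n := ⟨1, by omega⟩
  have h01 : i₀ ≠ i₁ := by
    intro h1
    have := congrArg Fin.val h1
    simp [i₀, i₁] at this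
  have hsingle_ne : ∀ {i j : Fin n}, i ≠ j → ∀ c : F, (Pi.single i 1 : Fin n → F) + c • Pi.single j 1 ≠ 0 := by
    intro i j hij c h1
    have := congrFun h1 i
    simp [Pi.single_apply, hij] at this
  let v₀ : Fin n → F := (Pi.single i₀ 1 : Fin n → F) + a • Pi.single i₁ 1
  have hv₀0 : v₀ ≠ 0 := hsingle_ne h01 a
  have hv₀ : h v₀ v₀ = 0 := iso_single hF h01 ha
  obtain ⟨l, hl⟩ := eigen hF hg hv₀0 hv₀
  -- every isotropic vector has eigenvalue l
  have hall : ∀ v : Fin n → F, h v v = 0 → (g.1 : Matrix (Fin n) (Fin n) F) *ᵥ v = l • v := by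
    intro v hv
    by_cases hv0 : v = 0
    · subst hv0
      simp
    by_cases hdep : v ∈ Submodule.span F {v₀}
    · obtain ⟨s, rfl⟩ := Submodule.mem_span_singleton.1 hdep
      rw [Matrix.mulVec_smul, hl, smul_comm]
    · obtain ⟨m, hm⟩ := eigen hF hg hv0 hv
      obtain ⟨s, hs0, hs⟩ := exists_isotropic_comb hF v₀ v hv₀ hv
      by_cases hz : v₀ + s • v = 0
      · exfalso
        apply hdep
        have : v = (-s⁻¹) • v₀ := by
          have h3 : s • v = (-1 : F) • v₀ := by
            rw [neg_smul, one_smul]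
            exact eq_neg_of_add_eq_zero_right hz
          calc v = s⁻¹ • (s • v) := by rw [smul_smul, inv_mul_cancel₀ hs0, one_smul]
            _ = _ := by rw [h3, smul_smul]; congr 1; ring
        rw [this]
        exact Submodule.smul_mem _ _ (Submodule.mem_span_singleton_self v₀)
      obtain ⟨r, hr⟩ := eigen hF hg hz hs
      rw [Matrix.mulVec_add, Matrix.mulVec_smul, hl, hm] at hr
      -- compare using independence
      have h5 : (l - r) • v₀ + (s * (m - r)) • v = 0 := by
        have : (l - r) • v₀ + (s * (m - r)) • v = (l • v₀ + s • m • v) - r • (v₀ + s • v) := by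
          simp only [smul_add, smul_smul, sub_smul, mul_sub]
          rw [mul_comm s m, mul_comm s r, mul_comm r s]
          abel_nf
        rw [this, hr, sub_self]
      have h6 : s * (m - r) = 0 := by
        by_contra h7
        apply hdep
        have : v = (-(s * (m - r))⁻¹ * (l - r)) • v₀ := by
          have h8 : (s * (m - r)) • v = (-(l - r)) • v₀ := by
            rw [neg_smul]
            exact eq_neg_of_add_eq_zero_right h5
          calc v = (s * (m - r))⁻¹ • ((s * (m - r)) • v) := by rw [smul_smul, inv_mul_cancel₀ h7, one_smul]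
            _ = _ := by rw [h8, smul_smul]; congr 1; ring
        rw [this]
        exact Submodule.smul_mem _ _ (Submodule.mem_span_singleton_self v₀)
      rw [h6, zero_smul, add_zero] at h5
      have h9 : l = r := sub_eq_zero.1 ((smul_eq_zero.1 h5).resolve_right hv₀0)
      have h10 : m = r := sub_eq_zero.1 ((mul_eq_zero.1 h6).resolve_left hs0)
      rw [hm, h10, h9]
  -- every basis vector has eigenvalue l
  have hbasis : ∀ j : Fin n, (g.1 : Matrix (Fin n) (Fin n) F) *ᵥ (Pi.single j 1) = l • (Pi.single j 1 : Fin n → F) := by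
    intro j
    obtain ⟨i, hij⟩ : ∃ i, i ≠ j := by
      by_cases hj : j = i₀
      · exact ⟨i₁, by rw [hj]; exact h01.symm⟩
      · exact ⟨i₀, fun e => hj e.symm⟩
    have h1 := hall _ (iso_single hF hij ha)
    have h2 := hall _ (iso_single hF hij hb)
    rw [Matrix.mulVec_add, Matrix.mulVec_smul, smul_add, smul_comm] at h1 h2
    have h3 : (a - b) • ((g.1 : Matrix (Fin n) (Fin n) F) *ᵥ (Pi.single j 1) - l • (Pi.single j 1 : Fin n → F)) = 0 := by
      have h4 := sub_eq_zero.2 h1
      have h5 := sub_eq_zero.2 h2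
      have h6 := sub_eq_zero.2 (h4.trans h5.symm)
      rw [← h6]
      simp only [smul_sub, sub_smul]
      abel
    have h7 := (smul_eq_zero.1 h3).resolve_left (sub_ne_zero.2 hab)
    exact sub_eq_zero.1 h7
  refine ⟨l, ?_⟩
  ext i j
  have h1 := congrFun (hbasis j) i
  rw [Matrix.mulVec_single_one] at h1
  simp only [Matrix.col_apply, Pi.smul_apply, smul_eq_mul, Matrix.smul_apply, Matrix.one_apply, Pi.single_apply] at h1 ⊢
  exact h1

theorem scal_det (x : F) (hx : x ^ n = 1) : ((x • 1 : Matrix (Fin n) (Fin n) F)).det = 1 := by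
  rw [Matrix.det_smul, Matrix.det_one, mul_one, Fintype.card_fin, hx]

theorem scal_isom (hF : Fintype.card F = q ^ 2) (x : F) (hx : x ^ (q + 1) = 1) (u v : Fin n → F) :
    h ((x • 1 : Matrix (Fin n) (Fin n) F) *ᵥ u) ((x • 1 : Matrix (Fin n) (Fin n) F) *ᵥ v) = h u v := by
  rw [Matrix.smul_mulVec, Matrix.smul_mulVec, Matrix.one_mulVec, Matrix.one_mulVec, hf_smul_left, hf_smul_right hF, ← mul_assoc, ← pow_succ', hx, one_mul]

/-- The scalar matrix as an element of `SU`. -/
def scal (hF : Fintype.card F = q ^ 2) (x : F) (hn : x ^ n = 1) (hq : x ^ (q + 1) = 1) : SU n F q :=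
  ⟨⟨x • 1, scal_det x hn⟩, fun u v => scal_isom hF x hq u v⟩

theorem scal_mem_center (hF : Fintype.card F = q ^ 2) (x : F) (hn : x ^ n = 1) (hq : x ^ (q + 1) = 1) :
    scal hF x hn hq ∈ Subgroup.center (SU n F q) := by
  rw [Subgroup.mem_center_iff]
  intro g
  apply Subtype.ext
  apply Subtype.ext
  show (g.1 : Matrix (Fin n) (Fin n) F) * (x • 1) = (x • 1) * (g.1 : Matrix (Fin n) (Fin n) F)
  rw [Matrix.mul_smul, Matrix.smul_mul, mul_one, one_mul]

/-- The order of the centre. -/
theorem card_center (hF : Fintype.card F = q ^ 2) (hn : 2 ≤ n) :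
    Nat.card (Subgroup.center (SU n F q)) = Nat.gcd n (q + 1) := by
  classical
  have hq := one_lt_q hF
  set d := Nat.gcd n (q + 1) with hd
  have hdn : d ∣ n := Nat.gcd_dvd_left _ _
  have hdq : d ∣ q + 1 := Nat.gcd_dvd_right _ _
  have hq2 : q + 1 ∣ q ^ 2 - 1 := by
    refine ⟨q - 1, ?_⟩
    obtain ⟨r, rfl⟩ : ∃ r, q = r + 1 := ⟨q - 1, by omega⟩
    simp only [Nat.add_sub_cancel]
    have : (r + 1) ^ 2 = (r + 1 + 1) * r + 1 := by ring
    omega
  have hcard : Nat.card (powMonoidHom d : Fˣ →* Fˣ).ker = d := by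
    rw [IsCyclic.card_powMonoidHom_ker, card_units hF]
    exact Nat.gcd_eq_right (hdq.trans hq2)
  rw [← hcard]
  symm
  apply Nat.card_congr
  have hker : ∀ x : (powMonoidHom d : Fˣ →* Fˣ).ker, ((x.1 : F) ^ n = 1 ∧ (x.1 : F) ^ (q + 1) = 1) := by
    rintro ⟨x, hx⟩
    have hx' : (x : F) ^ d = 1 := by
      have := congrArg Units.val (MonoidHom.mem_ker.1 hx)
      simpa using this
    obtain ⟨a, ha⟩ := hdn
    obtain ⟨b, hb⟩ := hdq
    constructor
    · show (x : F) ^ n = 1
      rw [ha, pow_mul, hx', one_pow]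
    · show (x : F) ^ (q + 1) = 1
      rw [hb, pow_mul, hx', one_pow]
  refine Equiv.ofBijective (fun x => ⟨scal hF (x.1 : F) (hker x).1 (hker x).2, scal_mem_center hF _ _ _⟩) ⟨?_, ?_⟩
  · intro x y hxy
    have h1 : ((x.1 : F) • 1 : Matrix (Fin n) (Fin n) F) = (y.1 : F) • 1 :=
      congrArg (fun z : Subgroup.center (SU n F q) => ((z.1.1 : Matrix.SpecialLinearGroup (Fin n) F) : Matrix (Fin n) (Fin n) F)) hxy
    have h2 := congrFun (congrFun h1 ⟨0, by omega⟩) ⟨0, by omega⟩
    simp at h2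
    apply Subtype.ext
    exact Units.ext h2
  · rintro ⟨g, hg⟩
    obtain ⟨l, hl⟩ := center_scalar hF hn hg
    have hdet : l ^ n = 1 := by
      have h1 := g.1.2
      rw [hl, Matrix.det_smul, Matrix.det_one, mul_one, Fintype.card_fin] at h1
      exact h1
    have hnorm : l ^ (q + 1) = 1 := by
      have h1 := g.2 (Pi.single ⟨0, by omega⟩ 1) (Pi.single ⟨0, by omega⟩ 1)
      have e : (slToMat n F) g.1 = (g.1 : Matrix (Fin n) (Fin n) F) := rfl
      rw [e, hl, Matrix.smul_mulVec, Matrix.one_mulVec, hf_smul_left, hf_smul_right hF, hf_single_left] at h1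
      simp only [Pi.single_eq_same, one_pow, mul_one] at h1
      rw [pow_succ']
      exact h1
    have hl0 : l ≠ 0 := by
      rintro rfl
      rw [zero_pow (by omega)] at hdet
      exact zero_ne_one hdet
    have hm : Units.mk0 l hl0 ∈ (powMonoidHom d : Fˣ →* Fˣ).ker := by
      rw [MonoidHom.mem_ker]
      apply Units.ext
      show l ^ d = 1
      exact pow_gcd_eq_one.2 ⟨hdet, hnorm⟩
    refine ⟨⟨Units.mk0 l hl0, hm⟩, ?_⟩
    apply Subtype.ext
    apply Subtype.ext
    apply Subtype.ext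
    exact hl.symm

end Cfsg.Agent.Lib.SUCenter
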