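import Cfsg.Agent.Lib.Invol
import Cfsg.Agent.Lib.PNilp
import Cfsg.Prelude.Def_Involutions

set_option autoImplicit false

/-! Groups acting so that every involution fixes exactly one point (Bender's setting). -/

namespace Cfsg.Agent.Lib.StrongEmb

open Cfsg.Agent.Lib.Invol

section basic

variable {G Ω : Type*} [Group G] [MulAction G Ω]

/-- Every involution fixes exactly one point. -/
structure FixOne (G Ω : Type*) [Group G] [MulAction G Ω] : Prop where
  exists_fix : ∀ t : G, orderOf t = 2 → ∃ x : Ω, t • x = x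
  fix_unique : ∀ (t : G) (x y : Ω), orderOf t = 2 → t • x = x → t • y = y → x = y

theorem FixOne.comm_fix (h : FixOne G Ω) {t c : G} {x : Ω} (ht : orderOf t = 2) (htx : t • x = x)
    (hc : c * t = t * c) : c • x = x :=
  h.fix_unique t (c • x) x ht (by rw [← mul_smul, ← hc, mul_smul, htx]) htx

theorem FixOne.odd_mul (h : FixOne G Ω) [Finite G] {u v : G} {x y : Ω} (hu : orderOf u = 2)
    (hv : orderOf v = 2) (hux : u • x = x) (hvy : v • y = y) (hxy : x ≠ y) : Odd (orderOf (u * v)) := by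
  by_contra hne
  have heven := Nat.not_odd_iff_even.mp hne
  set z := (u * v) ^ (orderOf (u * v) / 2) with hzdef
  have hz : orderOf z = 2 := orderOf_half' heven
  have h1 : z • x = x := h.comm_fix hu hux (half_commute_left hu hv heven).eq
  have h2 : z • y = y := h.comm_fix hv hvy (half_commute_right hu hv heven).eq
  exact hxy (h.fix_unique z x y hz h1 h2)

theorem exists_invol_conj [Finite G] {x y : G} (hx : orderOf x = 2) (hy : orderOf y = 2)
    (hodd : Odd (orderOf (x * y))) : ∃ i : G, orderOf i = 2 ∧ i * x * i⁻¹ = y := by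
  obtain ⟨m, hm⟩ := hodd
  have hconj : ∀ k : ℤ, x * (x * y) ^ k * x⁻¹ = ((x * y) ^ k)⁻¹ := fun k => by
    rw [conj_zpow_inv hx hy, zpow_neg]
  have hd : (x * y) ^ (m : ℤ) * x * ((x * y) ^ (m : ℤ))⁻¹ = y := by
    rw [zpow_conj hx hy]
    conv_rhs => rw [y_eq_zpow_x hx hy]
    congr 1
    rw [zpow_eq_zpow_iff_modEq, hm]
    rw [Int.modEq_iff_dvd]
    push_cast
    exact ⟨-1, by ring⟩
  refine ⟨(x * y) ^ (m : ℤ) * x, ?_, ?_⟩
  · apply orderOf_two_of
    · have h1 := hconj (m : ℤ)
      have h2 : x * (x * y) ^ (m : ℤ) * x = ((x * y) ^ (m : ℤ))⁻¹ := by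
        rw [← h1, inv_eq_self hx]
      rw [sq, mul_assoc, ← mul_assoc x, h2]
      group
    · intro h1
      have h2 : x = ((x * y) ^ (m : ℤ))⁻¹ := eq_inv_of_mul_eq_one_right h1
      have h3 : x ∈ Subgroup.zpowers (x * y) := by
        have h5 : ((x * y) ^ (m : ℤ))⁻¹ ∈ Subgroup.zpowers (x * y) :=
          Subgroup.inv_mem _ (Subgroup.zpow_mem_zpowers _ _)
        rwa [← h2] at h5
      have h4 : orderOf x ∣ orderOf (x * y) := orderOf_dvd_of_mem_zpowers h3
      rw [hx, hm] at h4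
      omega
  · rw [mul_inv_rev, inv_eq_self hx]
    calc (x * y) ^ (m : ℤ) * x * x * (x * ((x * y) ^ (m : ℤ))⁻¹)
        = (x * y) ^ (m : ℤ) * (x * x) * x * ((x * y) ^ (m : ℤ))⁻¹ := by group
      _ = (x * y) ^ (m : ℤ) * x * ((x * y) ^ (m : ℤ))⁻¹ := by
          rw [mul_self_eq_one hx, mul_one]
      _ = y := hd

theorem FixOne.exists_swap (h : FixOne G Ω) [Finite G] {u v : G} {x y : Ω} (hu : orderOf u = 2)
    (hv : orderOf v = 2) (hux : u • x = x) (hvy : v • y = y) (hxy : x ≠ y) :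
    ∃ i : G, orderOf i = 2 ∧ i * u * i⁻¹ = v ∧ i • x = y := by
  obtain ⟨i, hi, hc⟩ := exists_invol_conj hu hv (h.odd_mul hu hv hux hvy hxy)
  refine ⟨i, hi, hc, h.fix_unique v _ _ hv ?_ hvy⟩
  rw [← hc, ← mul_smul]
  simp [mul_smul, hux]

/-- `i` swaps. -/
theorem swap_of {i : G} {x y : Ω} (hi : orderOf i = 2) (h : i • x = y) : i • y = x := by
  rw [← h, ← mul_smul, mul_self_eq_one hi, one_smul]

/-! Counting -/

theorem card_I_conj [Finite G] (g : G) (x : Ω) :
    Nat.card {t : G // orderOf t = 2 ∧ t • (g • x) = g • x} =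
      Nat.card {t : G // orderOf t = 2 ∧ t • x = x} := by
  apply Nat.card_congr
  refine Equiv.subtypeEquiv (MulAut.conj g).symm.toEquiv ?_
  intro t
  simp only [MulEquiv.toEquiv_eq_coe, MulEquiv.coe_toEquiv, MulAut.conj_symm_apply]
  have h0 : orderOf (g⁻¹ * t * g) = orderOf t := by
    have := orderOf_conj' g⁻¹ t
    rwa [inv_inv] at this
  rw [h0]
  apply and_congr_right
  intro _
  constructor
  · intro h
    simp [mul_smul, h]
  · intro h
    have h1 : t • g • x = g • ((g⁻¹ * t * g) • x) := by simp [mul_smul]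
    rw [h1, h]

theorem card_I_eq [Finite G] [MulAction.IsPretransitive G Ω] (x y : Ω) :
    Nat.card {t : G // orderOf t = 2 ∧ t • x = x} = Nat.card {t : G // orderOf t = 2 ∧ t • y = y} := by
  obtain ⟨g, rfl⟩ := MulAction.exists_smul_eq G x y
  exact (card_I_conj g x).symm

theorem FixOne.card_I_le_J (h : FixOne G Ω) [Finite G] {x y : Ω} (hxy : x ≠ y) {u : G}
    (hu : orderOf u = 2) (hux : u • x = x) :
    Nat.card {t : G // orderOf t = 2 ∧ t • y = y} ≤ Nat.card {i : G // orderOf i = 2 ∧ i • x = y} := by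
  classical
  let f : {i : G // orderOf i = 2 ∧ i • x = y} → {t : G // orderOf t = 2 ∧ t • y = y} := fun i =>
    ⟨i.1 * u * i.1⁻¹, by
      refine ⟨?_, ?_⟩
      · rw [orderOf_conj' ]; exact hu
      · have h2 : i.1⁻¹ • y = x := by
          rw [inv_smul_eq_iff]; exact i.2.2.symm
        rw [mul_smul, mul_smul, h2, hux, i.2.2]⟩
  apply Nat.card_le_card_of_surjective f
  rintro ⟨v, hv, hvy⟩
  obtain ⟨i, hi, hc, hix⟩ := h.exists_swap hu hv hux hvy hxy
  exact ⟨⟨i, hi, hix⟩, Subtype.ext hc⟩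

theorem FixOne.card_J (h : FixOne G Ω) [Finite G] [Finite Ω] [MulAction.IsPretransitive G Ω]
    {x y : Ω} (hxy : x ≠ y) (hne : ∃ t : G, orderOf t = 2) :
    Nat.card {i : G // orderOf i = 2 ∧ i • x = y} = Nat.card {t : G // orderOf t = 2 ∧ t • y = y} := by
  classical
  haveI := Fintype.ofFinite G
  haveI := Fintype.ofFinite Ω
  -- some involution fixing each point
  have hex : ∀ z : Ω, ∃ u : G, orderOf u = 2 ∧ u • z = z := by
    intro z
    obtain ⟨t, ht⟩ := hne
    obtain ⟨w, hw⟩ := h.exists_fix t ht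
    obtain ⟨g, rfl⟩ := MulAction.exists_smul_eq G w z
    refine ⟨g * t * g⁻¹, ?_, ?_⟩
    · rw [orderOf_conj']; exact ht
    · simp [mul_smul, hw]
  let S : Finset G := Finset.univ.filter (fun t => orderOf t = 2 ∧ t • x ≠ x)
  have hfp : ∀ t : G, ∃ z : Ω, orderOf t = 2 → t • z = z := by
    intro t
    by_cases ht : orderOf t = 2
    · obtain ⟨z, hz⟩ := h.exists_fix t ht
      exact ⟨z, fun _ => hz⟩
    · exact ⟨x, fun h => absurd h ht⟩
  choose fp hfpp using hfp
  have h1 : S.card = ∑ z ∈ Finset.univ.erase x, (S.filter (fun t => t • x = z)).card := by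
    apply Finset.card_eq_sum_card_fiberwise
    intro t ht
    have ht' := (Finset.mem_filter.mp ht).2
    simp only [Finset.coe_erase, Finset.coe_univ]
    exact ⟨Set.mem_univ _, ht'.2⟩
  have h2 : S.card = ∑ z ∈ Finset.univ.erase x, (S.filter (fun t => fp t = z)).card := by
    apply Finset.card_eq_sum_card_fiberwise
    intro t ht
    have ht' := (Finset.mem_filter.mp ht).2
    simp only [Finset.coe_erase, Finset.coe_univ]
    refine ⟨Set.mem_univ _, ?_⟩
    intro hc
    apply ht'.2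
    have := hfpp t ht'.1
    rwa [show fp t = x from hc] at this
  have hJ : ∀ z ∈ Finset.univ.erase x, (S.filter (fun t => t • x = z)).card =
      Nat.card {i : G // orderOf i = 2 ∧ i • x = z} := by
    intro z hz
    rw [Nat.card_eq_fintype_card, Fintype.card_subtype]
    congr 1
    ext t
    simp only [S, Finset.mem_filter, Finset.mem_univ, true_and]
    constructor
    · rintro ⟨⟨h3, _⟩, h4⟩
      exact ⟨h3, h4⟩
    · rintro ⟨h3, h4⟩
      refine ⟨⟨h3, ?_⟩, h4⟩
      rw [h4]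
      exact (Finset.mem_erase.mp hz).1
  have hI : ∀ z ∈ Finset.univ.erase x, (S.filter (fun t => fp t = z)).card =
      Nat.card {i : G // orderOf i = 2 ∧ i • z = z} := by
    intro z hz
    rw [Nat.card_eq_fintype_card, Fintype.card_subtype]
    congr 1
    ext t
    simp only [S, Finset.mem_filter, Finset.mem_univ, true_and]
    constructor
    · rintro ⟨⟨h3, _⟩, h4⟩
      refine ⟨h3, ?_⟩
      have := hfpp t h3
      rwa [h4] at this
    · rintro ⟨h3, h4⟩
      refine ⟨⟨h3, ?_⟩, h.fix_unique t _ _ h3 (hfpp t h3) h4⟩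
      intro hc
      exact (Finset.mem_erase.mp hz).1 (h.fix_unique t _ _ h3 h4 hc)
  have hle : ∀ z ∈ Finset.univ.erase x, (S.filter (fun t => fp t = z)).card ≤
      (S.filter (fun t => t • x = z)).card := by
    intro z hz
    rw [hI z hz, hJ z hz]
    obtain ⟨u, hu, hux⟩ := hex x
    exact h.card_I_le_J (Finset.mem_erase.mp hz).1.symm hu hux
  have hsum : ∑ z ∈ Finset.univ.erase x, (S.filter (fun t => fp t = z)).card =
      ∑ z ∈ Finset.univ.erase x, (S.filter (fun t => t • x = z)).card := by rw [← h1, ← h2]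
  have hy : y ∈ Finset.univ.erase x := Finset.mem_erase.mpr ⟨hxy.symm, Finset.mem_univ _⟩
  have := (Finset.sum_eq_sum_iff_of_le hle).mp hsum y hy
  rw [← hI y hy, ← hJ y hy, this]

end basic

section embedded

variable {G : Type*} [Group G] [Finite G] {H : Subgroup G}

theorem smul_mk_eq_iff (t g : G) :
    t • (QuotientGroup.mk g : G ⧸ H) = QuotientGroup.mk g ↔ g⁻¹ * t * g ∈ H := by
  rw [MulAction.Quotient.smul_mk, QuotientGroup.eq, ← inv_mem_iff]
  simp [mul_assoc]

theorem mem_map_conj_iff (g s : G) : s ∈ H.map (MulAut.conj g).toMonoidHom ↔ g⁻¹ * s * g ∈ H := by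
  constructor
  · rintro ⟨h, hh, rfl⟩
    simpa [mul_assoc] using hh
  · intro hs
    exact ⟨g⁻¹ * s * g, hs, by simp [mul_assoc]⟩

theorem not_invol_of_odd {K : Subgroup G} (hK : Odd (Nat.card K)) (t : G) (ht : t ∈ K) :
    orderOf t ≠ 2 := by
  intro h2
  have h7 : orderOf (⟨t, ht⟩ : K) = 2 := by rw [Subgroup.orderOf_mk]; exact h2
  have h8 : 2 ∣ Nat.card K := h7 ▸ orderOf_dvd_natCard _
  exact (Nat.not_even_iff_odd.mpr hK) (even_iff_two_dvd.mpr h8)

theorem exists_invol_of_embedded (hH : Cfsg.IsStronglyEmbedded H) : ∃ t ∈ H, orderOf t = 2 := by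
  obtain ⟨_, heven, _⟩ := hH
  obtain ⟨t, ht⟩ := exists_prime_orderOf_dvd_card' 2 (even_iff_two_dvd.mp heven)
  exact ⟨t, t.2, by rw [← Subgroup.orderOf_coe] at ht; exact ht⟩

theorem odd_index (hH : Cfsg.IsStronglyEmbedded H) : Odd H.index := by
  haveI : Fact (Nat.Prime 2) := ⟨Nat.prime_two⟩
  obtain ⟨t, htH, ht⟩ := exists_invol_of_embedded hH
  obtain ⟨_, heven, hodd⟩ := hH
  obtain ⟨P⟩ : Nonempty (Sylow 2 H) := inferInstance
  set Q : Subgroup G := (P : Subgroup H).map H.subtype with hQ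
  have hQH : Q ≤ H := by
    rintro _ ⟨x, _, rfl⟩
    exact x.2
  have hQ2 : IsPGroup 2 Q := P.isPGroup'.map H.subtype
  have hQcard : Even (Nat.card Q) := by
    have h1 : Nat.card Q = Nat.card P :=
      Nat.card_congr (Subgroup.equivMapOfInjective _ _ Subtype.coe_injective).symm.toEquiv
    rw [h1]
    rw [even_iff_two_dvd]
    have h2 := Sylow.card_eq_multiplicity P
    rw [h2]
    have h3 : 2 ∣ Nat.card H := even_iff_two_dvd.mp heven
    have h4 : (Nat.card H).factorization 2 ≠ 0 := by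
      have : (Nat.card H) ≠ 0 := Nat.card_pos.ne'
      have h5 := (Nat.Prime.dvd_iff_one_le_factorization Nat.prime_two this).mp h3
      omega
    exact dvd_pow_self 2 h4
  by_contra hne
  rw [Nat.not_odd_iff_even] at hne
  obtain ⟨S, hS⟩ := hQ2.exists_le_sylow
  have hlt : Q < S := by
    refine lt_of_le_of_ne hS ?_
    intro heq
    -- Q is Sylow in G, so the index of H is odd
    have h1 : Q.index = (S : Subgroup G).index := by rw [heq]
    have h2 : ¬ 2 ∣ (S : Subgroup G).index := S.not_dvd_index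
    have h3 : H.index ∣ Q.index := Subgroup.index_dvd_of_le hQH
    rw [h1] at h3
    exact h2 (hne.two_dvd.trans h3)
  have h1 := Cfsg.Agent.Lib.PNilp.lt_inf_normalizer (p := 2) (S : Subgroup G) Q S.isPGroup' hlt
  obtain ⟨g, hg, hgQ⟩ := SetLike.exists_of_lt h1
  have hgS := hg.1
  have hgN := hg.2
  have hgH : g ∉ H := by
    intro hgH
    apply hgQ
    -- g normalizes P inside H
    have h2 : (⟨g, hgH⟩ : H) ∈ Subgroup.normalizer ((P : Subgroup H) : Set H) := by
      rw [Subgroup.mem_normalizer_iff]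
      intro x
      have h3 := Subgroup.mem_normalizer_iff.mp hgN (x : G)
      constructor
      · intro hx
        have h4 : (x : G) ∈ Q := ⟨x, hx, rfl⟩
        obtain ⟨y, hy, hye⟩ := h3.mp h4
        have : y = (⟨g, hgH⟩ : H) * x * (⟨g, hgH⟩ : H)⁻¹ := Subtype.ext hye
        rwa [← this]
      · intro hx
        have h4 : (((⟨g, hgH⟩ : H) * x * (⟨g, hgH⟩ : H)⁻¹ : H) : G) ∈ (P : Subgroup H).map H.subtype :=
          ⟨_, hx, rfl⟩
        have h5 := h3.mpr h4
        obtain ⟨y, hy, hye⟩ := h5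
        have : y = x := Subtype.ext hye
        rwa [← this]
    have h3 : IsPGroup 2 (Subgroup.zpowers (⟨g, hgH⟩ : H)) := by
      have h4 : IsPGroup 2 (Subgroup.zpowers g) :=
        IsPGroup.to_le (S.isPGroup') (Subgroup.zpowers_le.mpr hgS)
      rw [IsPGroup.iff_card] at h4 ⊢
      rw [Nat.card_zpowers] at h4 ⊢
      rwa [Subgroup.orderOf_mk]
    have h4 := h3.inf_normalizer_sylow P
    have h5 : (⟨g, hgH⟩ : H) ∈ Subgroup.zpowers (⟨g, hgH⟩ : H) ⊓ Subgroup.normalizer (P : Set H) :=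
      ⟨Subgroup.mem_zpowers _, h2⟩
    rw [h4] at h5
    exact ⟨_, h5.2, rfl⟩
  have hQle : Q ≤ H ⊓ H.map (MulAut.conj g).toMonoidHom := by
    intro x hx
    refine ⟨hQH hx, (mem_map_conj_iff g x).mpr ?_⟩
    apply hQH
    have h3 := Subgroup.mem_normalizer_iff.mp hgN
    have h4 := (h3 (g⁻¹ * x * g)).mpr (by simpa [mul_assoc] using hx)
    exact h4
  have h3 := Subgroup.card_dvd_of_le hQle
  have h4 := hodd g hgH
  rw [Nat.odd_iff] at h4
  obtain ⟨k, hk⟩ := even_iff_two_dvd.mp hQcard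
  obtain ⟨c, hc⟩ := h3
  rw [hk] at hc
  have : Nat.card ↥(H ⊓ H.map (MulAut.conj g).toMonoidHom) % 2 = 0 := by
    rw [hc, mul_assoc, Nat.mul_mod_right]
  omega

theorem fixOne_of_embedded (hH : Cfsg.IsStronglyEmbedded H) : FixOne G (G ⧸ H) := by
  have hodd := odd_index hH
  haveI : Fact (Nat.Prime 2) := ⟨Nat.prime_two⟩
  refine ⟨?_, ?_⟩
  · intro t ht
    have h1 : IsPGroup 2 (Subgroup.zpowers t) := by
      rw [IsPGroup.iff_card]
      exact ⟨1, by rw [Nat.card_zpowers, ht, pow_one]⟩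
    have h2 : ¬ 2 ∣ Nat.card (G ⧸ H) := by
      change ¬ 2 ∣ H.index
      rw [← even_iff_two_dvd, Nat.not_even_iff_odd]
      exact hodd
    obtain ⟨x, hx⟩ := h1.nonempty_fixed_point_of_prime_not_dvd_card (G ⧸ H) h2
    exact ⟨x, hx ⟨t, Subgroup.mem_zpowers _⟩⟩
  · intro t x y ht hx hy
    by_contra hne
    induction x using QuotientGroup.induction_on with
    | H a =>
      induction y using QuotientGroup.induction_on with
      | H b =>
        rw [smul_mk_eq_iff] at hx hy
        have hgH : a⁻¹ * b ∉ H := by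
          intro hab
          exact hne (QuotientGroup.eq.mpr hab)
        have h1 := hH.2.2 (a⁻¹ * b) hgH
        apply not_invol_of_odd h1 (a⁻¹ * t * a)
        · refine ⟨hx, (mem_map_conj_iff _ _).mpr ?_⟩
          have : (a⁻¹ * b)⁻¹ * (a⁻¹ * t * a) * (a⁻¹ * b) = b⁻¹ * t * b := by group
          rwa [this]
        · have := orderOf_conj' a⁻¹ t
          rwa [inv_inv, ht] at this

end embedded

end Cfsg.Agent.Lib.StrongEmb
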