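import Mathlib
import Cfsg.Agent.S4341
import Cfsg.Agent.Lib.H1Cop
import Cfsg.Agent.Lib.ExtraIdx

/-! Prime power parts of Sylow numbers. -/

namespace Cfsg.Agent.Lib.SylNum

open Subgroup
open scoped commutatorElement

/-- A nontrivial solvable group has a nontrivial normal subgroup of prime power order. -/
theorem exists_normal_pgroup {G : Type*} [Group G] [Finite G] (hG : Group.IsSolvable G) (hne : Nontrivial G) :
    ∃ (q : ℕ) (K : Subgroup G), q.Prime ∧ K.Normal ∧ K ≠ ⊥ ∧ IsPGroup q K := by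
  classical
  obtain ⟨n, hn⟩ := (isSolvable_def G).mp hG
  have hex : ∃ n, derivedSeries G n = ⊥ := ⟨n, hn⟩
  set m := Nat.find hex with hm
  have hm1 : derivedSeries G m = ⊥ := Nat.find_spec hex
  have hm0 : m ≠ 0 := by
    intro h
    rw [h] at hm1
    simp only [derivedSeries_zero] at hm1
    exact top_ne_bot hm1
  obtain ⟨k, hk⟩ := Nat.exists_eq_succ_of_ne_zero hm0
  have hA : derivedSeries G k ≠ ⊥ := Nat.find_min hex (m := k) (by omega)
  set A := derivedSeries G k with hAdef
  have hAn : A.Normal := derivedSeries_normal G k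
  have hcomm : ∀ x ∈ A, ∀ y ∈ A, x * y = y * x := by
    intro x hx y hy
    have h1 : ⁅x, y⁆ ∈ derivedSeries G (k + 1) := by
      rw [derivedSeries_succ]
      exact Subgroup.commutator_mem_commutator hx hy
    rw [← Nat.succ_eq_add_one, ← hk, hm1, Subgroup.mem_bot] at h1
    exact commutatorElement_eq_one_iff_mul_comm.mp h1
  obtain ⟨a, ha⟩ := (Subgroup.ne_bot_iff_exists_ne_one).mp hA
  have hc1 : Nat.card A ≠ 1 := by
    intro h
    haveI := (Nat.card_eq_one_iff_unique.mp h).1
    exact ha (Subsingleton.elim _ _)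
  obtain ⟨q, hq, hqd⟩ := Nat.exists_prime_and_dvd hc1
  haveI : Fact q.Prime := ⟨hq⟩
  obtain ⟨x, hx⟩ := exists_prime_orderOf_dvd_card' q hqd
  let K : Subgroup G :=
    { carrier := {y | y ∈ A ∧ y ^ q = 1}
      mul_mem' := by
        rintro u v ⟨hu, hu1⟩ ⟨hv, hv1⟩
        refine ⟨A.mul_mem hu hv, ?_⟩
        have : Commute u v := hcomm u hu v hv
        rw [this.mul_pow, hu1, hv1, one_mul]
      one_mem' := ⟨A.one_mem, one_pow _⟩
      inv_mem' := by
        rintro u ⟨hu, hu1⟩
        exact ⟨A.inv_mem hu, by rw [inv_pow, hu1, inv_one]⟩ }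
  refine ⟨q, K, hq, ?_, ?_, ?_⟩
  · constructor
    rintro u ⟨hu, hu1⟩ g
    refine ⟨hAn.conj_mem u hu g, ?_⟩
    rw [conj_pow, hu1]
    simp
  · intro hbot
    have h1 : (x : G) ∈ K := ⟨x.2, by
      have := pow_orderOf_eq_one x
      rw [hx] at this
      have h2 := congrArg Subtype.val this
      simpa using h2⟩
    rw [hbot, Subgroup.mem_bot] at h1
    have hord : orderOf x = 1 := by
      rw [← Subgroup.orderOf_coe, h1, orderOf_one]
    rw [hord] at hx
    exact hq.one_lt.ne hx
  · rintro ⟨u, hu⟩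
    exact ⟨1, Subtype.ext (by simpa using hu.2)⟩

/-- A `q`-group has only one Sylow `p`-subgroup. -/
theorem card_sylow_of_pgroup {K : Type*} [Group K] [Finite K] (p q : ℕ) [Fact p.Prime] [Fact q.Prime]
    (hK : IsPGroup q K) : Nat.card (Sylow p K) = 1 := by
  haveI : Group.IsNilpotent K := hK.isNilpotent
  obtain ⟨P⟩ : Nonempty (Sylow p K) := inferInstance
  haveI hn : (P : Subgroup K).Normal := Sylow.normal_of_normalizerCondition normalizerCondition_of_isNilpotent P
  rw [P.card_eq_index_normalizer]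
  have : normalizer ((P : Subgroup K) : Set K) = ⊤ := Subgroup.normalizer_eq_top_iff.mpr hn
  show (normalizer ((P : Subgroup K) : Set K)).index = 1
  rw [this, Subgroup.index_top]

/-- `n_p(N / (P ∩ K))` divides `#K`. -/
theorem card_sylow_sub_dvd {G : Type*} [Group G] [Finite G] (p : ℕ) [Fact p.Prime] (K : Subgroup G) [K.Normal]
    (P : Sylow p G) (N : Subgroup G)
    (hN : N = ((P : Subgroup G) ⊔ K) ⊓ Subgroup.normalizer (((P : Subgroup G) ⊓ K : Subgroup G) : Set G))
    [hn : (((P : Subgroup G) ⊓ K).subgroupOf N).Normal] :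
    Nat.card (Sylow p (N ⧸ ((P : Subgroup G) ⊓ K).subgroupOf N)) ∣ Nat.card K := by
  have hPnorm : (P : Subgroup G) ≤ normalizer ((P : Subgroup G) : Set G) := Subgroup.le_normalizer
  have hPNQ : (P : Subgroup G) ≤ normalizer (((P : Subgroup G) ⊓ K : Subgroup G) : Set G) := fun x hx =>
    Cfsg.Agent.S4341.norm_inf (P : Subgroup G) K x (hPnorm hx)
  have hPN : (P : Subgroup G) ≤ N := by
    rw [hN]
    exact le_inf le_sup_left hPNQ
  have hU : ((P : Subgroup G) ⊓ K).subgroupOf N ≤ ((P.subtype hPN : Sylow p N) : Subgroup N) := by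
    intro x hx
    exact (Subgroup.mem_subgroupOf.mp hx).1
  have hc3 : Nat.card (Sylow p (N ⧸ ((P : Subgroup G) ⊓ K).subgroupOf N)) =
      (normalizer ((P : Subgroup G) : Set G)).relIndex N := by
    rw [Cfsg.Agent.S4341.card_sylow_quot' p (P.subtype hPN) (((P : Subgroup G) ⊓ K).subgroupOf N) hU]
    show _ = ((normalizer ((P : Subgroup G) : Set G)).subgroupOf N).index
    rw [Subgroup.subgroupOf_normalizer_eq hPN]
    rfl
  rw [hc3]
  have h1 : (normalizer ((P : Subgroup G) : Set G)).relIndex N ∣ (P : Subgroup G).relIndex N :=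
    Subgroup.relIndex_dvd_of_le_left _ hPnorm
  have hNle : N ≤ (P : Subgroup G) ⊔ K := by
    rw [hN]; exact inf_le_left
  have h2 : (P : Subgroup G).relIndex N ∣ (P : Subgroup G).relIndex ((P : Subgroup G) ⊔ K) := by
    rw [← Subgroup.relIndex_mul_relIndex (P : Subgroup G) N _ hPN hNle]
    exact dvd_mul_right _ _
  have h3 : (P : Subgroup G).relIndex ((P : Subgroup G) ⊔ K) = (P : Subgroup G).relIndex K := by
    rw [sup_comm]
    exact (Cfsg.Agent.Lib.FGSBasic.relIndex_eq_relIndex_sup K (P : Subgroup G)).symm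
  rw [h3] at h2
  exact h1.trans (h2.trans (Subgroup.relIndex_dvd_card _ _))

/-- **Lemma A**: prime power parts of the Sylow number of `K P`, with `K` a normal `p'`-subgroup. -/
theorem part_of_split {G : Type*} [Group G] [Finite G] (p q : ℕ) [Fact p.Prime] (hq : q.Prime)
    (P : Sylow p G) (K : Subgroup G) [hKn : K.Normal] (hK : ¬ p ∣ Nat.card K)
    (hsup : (P : Subgroup G) ⊔ K = ⊤) :
    q ^ (Nat.card (Sylow p G)).factorization q ≡ 1 [MOD p] := by
  classical
  haveI : Fact q.Prime := ⟨hq⟩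
  have hp : p.Prime := Fact.out
  by_cases hqp : q = p
  · subst hqp
    have : (Nat.card (Sylow q G)).factorization q = 0 :=
      Nat.factorization_eq_zero_of_not_dvd (not_dvd_card_sylow q G)
    rw [this, pow_zero]
  have hcoprimePK : (Nat.card (P : Subgroup G)).Coprime (Nat.card K) := by
    obtain ⟨e, he⟩ := IsPGroup.iff_card.mp P.isPGroup'
    rw [he]
    exact Nat.Coprime.pow_left _ ((Nat.Prime.coprime_iff_not_dvd hp).mpr hK)
  have hinf : (P : Subgroup G) ⊓ K = ⊥ := by
    apply Subgroup.inf_eq_bot_of_coprime hcoprimePK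
  have hnormK : (P : Subgroup G) ≤ normalizer (K : Set G) := by
    rw [Subgroup.normalizer_eq_top_iff.mpr hKn]
    exact le_top
  have hfact : ∀ g : G, ∃ a ∈ K, ∃ b ∈ normalizer ((P : Subgroup G) : Set G), g = a * b := by
    intro g
    have hg : g ∈ K ⊔ (P : Subgroup G) := by rw [sup_comm, hsup]; trivial
    rw [← SetLike.mem_coe, Subgroup.normal_mul, Set.mem_mul] at hg
    obtain ⟨k, hk, u, hu, rfl⟩ := hg
    exact ⟨k, hk, u, Subgroup.le_normalizer hu, rfl⟩
  have hn : Nat.card (Sylow p G) = (normalizer ((P : Subgroup G) : Set G)).relIndex K := by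
    rw [Cfsg.Agent.Lib.FGSBasic.relIndex_eq_index_of_factorization K _ hfact]
    exact P.card_eq_index_normalizer
  set C : Subgroup G := normalizer ((P : Subgroup G) : Set G) ⊓ K with hC
  have hn' : Nat.card (Sylow p G) = C.relIndex K := by
    rw [hn, hC, Subgroup.inf_relIndex_right]
  -- elements of `C` centralize `P`
  have hCc : ∀ x ∈ C, ∀ y ∈ (P : Subgroup G), x * y = y * x := by
    rintro x ⟨hx1, hx2⟩ y hy
    have h1 : x * y * x⁻¹ * y⁻¹ ∈ (P : Subgroup G) := by
      have := (Subgroup.mem_normalizer_iff.mp hx1 y).mp hy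
      exact (P : Subgroup G).mul_mem this ((P : Subgroup G).inv_mem hy)
    have h2 : x * y * x⁻¹ * y⁻¹ ∈ K := by
      have h3 := hKn.conj_mem _ (K.inv_mem hx2) y
      have h4 := K.mul_mem hx2 h3
      have e : x * (y * x⁻¹ * y⁻¹) = x * y * x⁻¹ * y⁻¹ := by group
      rwa [e] at h4
    have h3 : x * y * x⁻¹ * y⁻¹ ∈ (P : Subgroup G) ⊓ K := ⟨h1, h2⟩
    rw [hinf, Subgroup.mem_bot] at h3
    have h4 : x * y * x⁻¹ = y := by
      rwa [mul_inv_eq_one] at h3
    rwa [mul_inv_eq_iff_eq_mul] at h4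
  obtain ⟨R, hR⟩ := Cfsg.Agent.Lib.H1Cop.exists_isSylowIn q C
  have hRC : R ≤ C := hR.1
  have hRK : R ≤ K := hRC.trans inf_le_right
  have hPR : (P : Subgroup G) ≤ normalizer (R : Set G) := by
    intro y hy
    rw [Subgroup.mem_normalizer_iff]
    intro r
    have hcomm : ∀ r ∈ R, y * r * y⁻¹ = r := by
      intro r hr
      rw [(hCc r (hRC hr) y hy).symm]
      simp
    constructor
    · intro hr
      rwa [hcomm r hr]
    · intro hr
      have := hcomm _ hr
      have h5 : r = y * r * y⁻¹ := by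
        have e := congrArg (fun t => y⁻¹ * t * y) this
        have e1 : y⁻¹ * (y * (y * r * y⁻¹) * y⁻¹) * y = y * r * y⁻¹ := by group
        have e2 : y⁻¹ * (y * r * y⁻¹) * y = r := by group
        simp only [e1, e2] at e
        exact e.symm
      rwa [h5]
  have hPsolv : Group.IsSolvable (P : Subgroup G) := by
    haveI : Group.IsNilpotent (P : Subgroup G) := P.isPGroup'.isNilpotent
    infer_instance
  obtain ⟨U, hU, hRU, hPU⟩ := Cfsg.Agent.Lib.H1Cop.exists_invariant_sylow_containing hnormK hcoprimePK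
    (Or.inl hPsolv) q hRK hR.2.1 hPR
  have hconj : ∀ x ∈ (P : Subgroup G), ∀ u ∈ U, x * u * x⁻¹ ∈ U := fun x hx u hu =>
    (Subgroup.mem_normalizer_iff.mp (hPU hx) u).mp hu
  letI act : MulAction (P : Subgroup G) U :=
    { smul := fun x u => ⟨(x : G) * u * (x : G)⁻¹, hconj x x.2 u u.2⟩
      one_smul := fun u => by
        apply Subtype.ext
        show ((1 : (P : Subgroup G)) : G) * u * ((1 : (P : Subgroup G)) : G)⁻¹ = u
        simp
      mul_smul := fun x y u => by
        apply Subtype.ext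
        show ((x * y : (P : Subgroup G)) : G) * u * ((x * y : (P : Subgroup G)) : G)⁻¹ =
          (x : G) * ((y : G) * u * (y : G)⁻¹) * (x : G)⁻¹
        simp only [Subgroup.coe_mul]
        group }
  have hsm : ∀ (x : (P : Subgroup G)) (u : U), ((x • u : U) : G) = (x : G) * u * (x : G)⁻¹ := fun _ _ => rfl
  have hmod := P.isPGroup'.card_modEq_card_fixedPoints (α := U)
  -- `U ⊓ C = R`
  have hT : U ⊓ C ≤ R := by
    have h1 : R ≤ U ⊓ C := le_inf hRU hRC
    have h2 : IsPGroup q (U ⊓ C : Subgroup G) := hU.2.1.to_le inf_le_left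
    have h3 : R.relIndex (U ⊓ C) ∣ R.relIndex C := by
      rw [← Subgroup.relIndex_mul_relIndex R (U ⊓ C) C h1 inf_le_right]
      exact dvd_mul_right _ _
    obtain ⟨t, ht⟩ := IsPGroup.iff_card.mp h2
    have h4 : R.relIndex (U ⊓ C) ∣ q ^ t := by
      rw [← ht]
      exact Subgroup.relIndex_dvd_card _ _
    obtain ⟨i, -, hi⟩ := (Nat.dvd_prime_pow hq).mp h4
    have hi0 : i = 0 := by
      by_contra hne
      apply hR.2.2
      apply Dvd.dvd.trans _ h3
      rw [hi]
      exact dvd_pow_self q hne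
    rw [hi0, pow_zero] at hi
    exact Subgroup.relIndex_eq_one.mp hi
  have hfix : Nat.card (MulAction.fixedPoints (P : Subgroup G) U) = Nat.card R := by
    apply Nat.card_congr
    refine
      { toFun := fun u => ⟨u.1.1, hT ⟨u.1.2, ?_, ?_⟩⟩
        invFun := fun r => ⟨⟨r.1, hRU r.2⟩, ?_⟩
        left_inv := fun u => rfl
        right_inv := fun r => rfl }
    · -- `u` normalizes `P`
      have hfx := u.2
      show (u.1 : G) ∈ normalizer ((P : Subgroup G) : Set G)
      rw [Subgroup.mem_normalizer_iff]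
      intro y
      have hcm : ∀ y ∈ (P : Subgroup G), (u.1 : G) * y = y * u.1 := by
        intro y hy
        have h6 := hfx ⟨y, hy⟩
        have h7 := congrArg (Subtype.val) h6
        rw [hsm] at h7
        simp only at h7
        rw [mul_inv_eq_iff_eq_mul] at h7
        exact h7.symm
      constructor
      · intro hy
        rw [hcm y hy]
        simpa using hy
      · intro hy
        have h8 : (u.1 : G) * y * (u.1 : G)⁻¹ ∈ (P : Subgroup G) := hy
        have h9 := hcm _ h8
        have e : y = (u.1 : G)⁻¹ * ((u.1 : G) * y * (u.1 : G)⁻¹) * (u.1 : G) := by group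
        have h10 : (u.1 : G)⁻¹ * ((u.1 : G) * y * (u.1 : G)⁻¹) * (u.1 : G) = (u.1 : G) * y * (u.1 : G)⁻¹ := by
          rw [mul_assoc, ← h9]
          simp
        rw [e, h10]
        exact h8
    · exact hU.1 u.1.2
    · intro x
      apply Subtype.ext
      rw [hsm]
      show (x : G) * (r : G) * (x : G)⁻¹ = r
      rw [(hCc r (hRC r.2) x x.2).symm]
      simp
  rw [hfix] at hmod
  obtain ⟨a, ha⟩ := IsPGroup.iff_card.mp hU.2.1
  obtain ⟨b, hb⟩ := IsPGroup.iff_card.mp hR.2.1
  rw [ha, hb] at hmod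
  have hba : b ≤ a := by
    have h1 : Nat.card R ∣ Nat.card U := Subgroup.card_dvd_of_le hRU
    rw [ha, hb] at h1
    exact (Nat.pow_dvd_pow_iff_le_right hq.one_lt).mp h1
  have hCK : C ≤ K := inf_le_right
  have e1 : Nat.card U * U.relIndex K = Nat.card K := by
    have := Cfsg.Agent.Lib.ExtraIdx.card_inf_mul_relIndex U K
    rwa [inf_of_le_left hU.1] at this
  have e2 : Nat.card C * C.relIndex K = Nat.card K := by
    have := Cfsg.Agent.Lib.ExtraIdx.card_inf_mul_relIndex C K
    rwa [inf_of_le_left hCK] at this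
  have e3 : Nat.card R * R.relIndex C = Nat.card C := by
    have := Cfsg.Agent.Lib.ExtraIdx.card_inf_mul_relIndex R C
    rwa [inf_of_le_left hRC] at this
  set x := U.relIndex K with hx
  set y := R.relIndex C with hy
  set n := C.relIndex K with hnn
  have hxq : ¬ q ∣ x := hU.2.2
  have hyq : ¬ q ∣ y := hR.2.2
  have hx0 : x ≠ 0 := fun h => hxq (h ▸ dvd_zero q)
  have hy0 : y ≠ 0 := fun h => hyq (h ▸ dvd_zero q)
  have hn0 : n ≠ 0 := by
    intro h
    rw [h, mul_zero] at e2
    have : Nat.card K ≠ 0 := Nat.card_pos.ne'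
    exact this e2.symm
  have e4 : q ^ (a - b) * x = n * y := by
    have h1 : q ^ b * (q ^ (a - b) * x) = q ^ b * (n * y) := by
      rw [← mul_assoc, ← pow_add, Nat.add_sub_cancel' hba, ← ha, e1, ← e2, ← e3, hb]
      ring
    exact Nat.eq_of_mul_eq_mul_left (pow_pos hq.pos b) h1
  have hv : n.factorization q = a - b := by
    have h1 : (q ^ (a - b) * x).factorization q = (n * y).factorization q := by rw [e4]
    rw [Nat.factorization_mul (pow_ne_zero _ hq.ne_zero) hx0, Nat.factorization_mul hn0 hy0,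
      Finsupp.add_apply, Finsupp.add_apply, Nat.factorization_eq_zero_of_not_dvd hxq,
      Nat.factorization_eq_zero_of_not_dvd hyq, Nat.Prime.factorization_pow hq] at h1
    simp at h1
    omega
  rw [hn', hv]
  have hcopb : Nat.gcd p (q ^ b) = 1 := by
    apply Nat.Coprime.pow_right
    exact (Nat.coprime_primes hp hq).mpr (Ne.symm hqp)
  apply Nat.ModEq.cancel_left_of_coprime hcopb
  rw [mul_one, ← pow_add, Nat.add_sub_cancel' hba]
  exact hmod

/-- The arithmetic of prime parts in a product. -/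
theorem part_mul {a b ℓ p : ℕ} (ha : a ≠ 0) (hb : b ≠ 0)
    (h1 : ℓ ^ a.factorization ℓ ≡ 1 [MOD p]) (h2 : ℓ ^ b.factorization ℓ ≡ 1 [MOD p]) :
    ℓ ^ (a * b).factorization ℓ ≡ 1 [MOD p] := by
  rw [Nat.factorization_mul ha hb, Finsupp.add_apply, pow_add]
  simpa using h1.mul h2

end Cfsg.Agent.Lib.SylNum
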