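import Cfsg.Prelude.Def_LieExceptional
import Mathlib

/-! The Suzuki groups: explicit matrices. -/

set_option autoImplicit false
set_option linter.unusedVariables false
set_option linter.unusedSectionVars false
set_option linter.unusedFintypeInType false
set_option linter.unusedDecidableInType false

namespace Cfsg.Agent.Lib.SzA

open scoped LinearAlgebra.Projectivization Pointwise
open Matrix Cfsg

abbrev SL4 (F : Type*) [Field F] := Matrix.SpecialLinearGroup (Fin 4) F

variable {F : Type*} [Field F] [CharP F 2] (θ : F ≃+* F)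

/-- The third coordinate of the ovoid. -/
def zz (x y : F) : F := x * y + x ^ 2 * θ x + θ y

theorem two_zero : (2 : F) = 0 := CharTwo.two_eq_zero

variable {θ}

theorem sq_inj {x y : F} (h : x ^ 2 = y ^ 2) : x = y := by
  have h2 : (x + y) ^ 2 = 0 := by
    have : (x + y) ^ 2 = x ^ 2 + y ^ 2 := by grind
    rw [this, h]
    grind
  have := pow_eq_zero_iff (two_ne_zero) |>.mp h2
  grind

theorem zz_zero_zero : zz θ (0 : F) 0 = 0 := by simp [zz]

theorem zz_ne_zero (hθ : ∀ x : F, θ (θ x) = x ^ 2) {x y : F} (h : ¬ (x = 0 ∧ y = 0)) : zz θ x y ≠ 0 := by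
  intro hz
  unfold zz at hz
  by_cases hx : x = 0
  · subst hx
    have : y ≠ 0 := fun e => h ⟨rfl, e⟩
    simp at hz
    exact this hz
  · have hθx : θ x ≠ 0 := by simpa using hx
    set t := y / (x * θ x) with ht
    have hy : y = x * θ x * t := by
      rw [ht]
      field_simp
    have hθy : θ y = θ x * x ^ 2 * θ t := by
      rw [hy, map_mul, map_mul, hθ]
    have e : x ^ 2 * θ x * (t + 1 + θ t) = 0 := by
      rw [hθy] at hz
      rw [hy] at hz
      linear_combination hz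
    have h1 : t + 1 + θ t = 0 := by
      have : x ^ 2 * θ x ≠ 0 := by positivity
      exact (mul_eq_zero.mp e).resolve_left this
    have h2 : θ t = t + 1 := by grind
    have h3 : t ^ 2 = t := by
      have := hθ t
      rw [h2, map_add, map_one, h2] at this
      grind
    have h4 : t = 0 ∨ t = 1 := by
      have : t * (t - 1) = 0 := by grind
      rcases mul_eq_zero.mp this with h | h
      · exact Or.inl h
      · exact Or.inr (by grind)
    rcases h4 with h4 | h4
    · rw [h4] at h2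
      simp at h2
    · rw [h4] at h2
      simp at h2

variable (θ)

/-- The unipotent matrices. -/
def Tm (a b : F) : Matrix (Fin 4) (Fin 4) F :=
  !![1, a, b + a * θ a, zz θ a b; 0, 1, θ a, b; 0, 0, 1, a; 0, 0, 0, 1]

/-- The diagonal matrices. -/
def Dm (a : F) : Matrix (Fin 4) (Fin 4) F :=
  !![a * θ.symm a, 0, 0, 0; 0, θ.symm a, 0, 0; 0, 0, (θ.symm a)⁻¹, 0; 0, 0, 0, (a * θ.symm a)⁻¹]

/-- The swap. -/
def Wm : Matrix (Fin 4) (Fin 4) F := !![0, 0, 0, 1; 0, 0, 1, 0; 0, 1, 0, 0; 1, 0, 0, 0]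

variable {θ}

theorem Tm_mul (hθ : ∀ x : F, θ (θ x) = x ^ 2) (a b c d : F) :
    Tm θ a b * Tm θ c d = Tm θ (a + c) (b + d + θ a * c) := by
  have h := hθ a
  ext i j
  fin_cases i <;> fin_cases j <;> simp [Tm, Matrix.mul_apply, Fin.sum_univ_four, zz, map_add, map_mul, h] <;> grind

theorem Tm_one : Tm θ (0 : F) 0 = 1 := by
  ext i j
  fin_cases i <;> fin_cases j <;> simp [Tm, zz]

theorem det_Tm (a b : F) : (Tm θ a b).det = 1 := by
  rw [Tm, Matrix.det_succ_row_zero]
  simp [Fin.sum_univ_four, Matrix.det_fin_three, Fin.succAbove]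

theorem det_Dm {a : F} (ha : a ≠ 0) : (Dm θ a).det = 1 := by
  have h1 : θ.symm a ≠ 0 := by simpa using ha
  rw [Dm, Matrix.det_succ_row_zero]
  simp [Fin.sum_univ_four, Matrix.det_fin_three, Fin.succAbove]
  field_simp

theorem det_Wm : (Wm : Matrix (Fin 4) (Fin 4) F).det = 1 := by
  rw [Wm, Matrix.det_succ_row_zero]
  simp [Fin.sum_univ_four, Matrix.det_fin_three, Fin.succAbove]
  norm_num


variable (θ)

/-- The vector of a point of the ovoid. -/
def vv (x y : F) : Fin 4 → F := ![zz θ x y, y, x, 1]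

theorem vv_ne (x y : F) : vv θ x y ≠ 0 := by
  intro h
  have := congrFun h 3
  simp [vv] at this

/-- The finite points of the ovoid. -/
def pt (x y : F) : ℙ F (Fin 4 → F) := Projectivization.mk F (vv θ x y) (vv_ne θ x y)

variable (F) in
/-- The vector of the point at infinity. -/
def e0 : Fin 4 → F := ![1, 0, 0, 0]

theorem e0_ne : e0 F ≠ 0 := by
  intro h
  have := congrFun h 0
  simp [e0] at this

variable (F) in
/-- The point at infinity. -/
def pinf : ℙ F (Fin 4 → F) := Projectivization.mk F (e0 F) e0_ne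

/-- The ovoid. -/
def ov : Set (ℙ F (Fin 4 → F)) := {p | p = pinf F ∨ ∃ x y, p = pt θ x y}

variable {θ}

theorem pt_ne_inf (x y : F) : pt θ x y ≠ pinf F := by
  intro h
  rw [pt, pinf, Projectivization.mk_eq_mk_iff'] at h
  obtain ⟨c, hc⟩ := h
  have := congrFun hc 3
  simp [e0, vv] at this

theorem pt_inj {x y x' y' : F} (h : pt θ x y = pt θ x' y') : x = x' ∧ y = y' := by
  rw [pt, pt, Projectivization.mk_eq_mk_iff'] at h
  obtain ⟨c, hc⟩ := h
  have h3 := congrFun hc 3
  have h2 := congrFun hc 2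
  have h1 := congrFun hc 1
  simp [vv] at h1 h2 h3
  subst h3
  simp at h1 h2
  exact ⟨h2.symm, h1.symm⟩

theorem mk_eq_pt {v : Fin 4 → F} (hv : v ≠ 0) {c x y : F} (h : v = c • vv θ x y) : Projectivization.mk F v hv = pt θ x y := by
  rw [pt, Projectivization.mk_eq_mk_iff']
  exact ⟨c, h.symm⟩

theorem mk_eq_inf {v : Fin 4 → F} (hv : v ≠ 0) {c : F} (h : v = c • e0 F) : Projectivization.mk F v hv = pinf F := by
  rw [pinf, Projectivization.mk_eq_mk_iff']
  exact ⟨c, h.symm⟩

theorem smul_eq_mulVec (g : SL4 F) (v : Fin 4 → F) : g • v = (g.1).mulVec v := rfl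

theorem smul_pt_def (g : SL4 F) (x y : F) : g • pt θ x y = Projectivization.mk F ((g.1).mulVec (vv θ x y))
    (by rw [← smul_eq_mulVec]; exact (smul_ne_zero_iff_ne g).mpr (vv_ne θ x y)) := by
  rw [pt, Projectivization.smul_mk]
  rfl

theorem smul_inf_def (g : SL4 F) : g • pinf F = Projectivization.mk F ((g.1).mulVec (e0 F))
    (by rw [← smul_eq_mulVec]; exact (smul_ne_zero_iff_ne g).mpr e0_ne) := by
  rw [pinf, Projectivization.smul_mk]
  rfl

variable (θ)

/-- The unipotent elements. -/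
def T (a b : F) : SL4 F := ⟨Tm θ a b, det_Tm a b⟩

/-- The diagonal elements. -/
def D {a : F} (ha : a ≠ 0) : SL4 F := ⟨Dm θ a, det_Dm ha⟩

variable (F) in
/-- The swap. -/
def W : SL4 F := ⟨Wm, det_Wm⟩

variable {θ}

theorem T_mul (hθ : ∀ x : F, θ (θ x) = x ^ 2) (a b c d : F) : T θ a b * T θ c d = T θ (a + c) (b + d + θ a * c) :=
  Subtype.ext (Tm_mul hθ a b c d)

theorem T_one : T θ (0 : F) 0 = 1 := Subtype.ext Tm_one

theorem W_mul_self : W F * W F = 1 := by
  apply Subtype.ext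
  show Wm * Wm = 1
  ext i j
  fin_cases i <;> fin_cases j <;> simp [Wm, Matrix.mul_apply, Fin.sum_univ_four]

theorem W_inv : (W F)⁻¹ = W F := inv_eq_of_mul_eq_one_left W_mul_self

theorem T_inv (hθ : ∀ x : F, θ (θ x) = x ^ 2) (a b : F) : (T θ a b)⁻¹ = T θ a (b + a * θ a) := by
  apply inv_eq_of_mul_eq_one_right
  rw [T_mul hθ, ← T_one (θ := θ)]
  congr 1
  · grind
  · grind

theorem D_mul {a b : F} (ha : a ≠ 0) (hb : b ≠ 0) : D θ ha * D θ hb = D θ (mul_ne_zero ha hb) := by
  have h1 : θ.symm a ≠ 0 := by simpa using ha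
  have h2 : θ.symm b ≠ 0 := by simpa using hb
  apply Subtype.ext
  show Dm θ a * Dm θ b = Dm θ (a * b)
  ext i j
  fin_cases i <;> fin_cases j <;> simp [Dm, Matrix.mul_apply, Fin.sum_univ_four, map_mul] <;> field_simp

theorem D_one : D θ (one_ne_zero : (1 : F) ≠ 0) = 1 := by
  apply Subtype.ext
  show Dm θ 1 = 1
  ext i j
  fin_cases i <;> fin_cases j <;> simp [Dm]

theorem D_inv {a : F} (ha : a ≠ 0) : (D θ ha)⁻¹ = D θ (inv_ne_zero ha) := by
  apply inv_eq_of_mul_eq_one_right
  rw [D_mul, ← D_one (θ := θ)]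
  congr 1
  field_simp

/-- `T` acting on the ovoid. -/
theorem T_smul_pt (hθ : ∀ x : F, θ (θ x) = x ^ 2) (a b x y : F) : T θ a b • pt θ x y = pt θ (x + a) (y + b + θ a * x) := by
  rw [smul_pt_def]
  apply mk_eq_pt (c := 1)
  have h := hθ a
  ext i
  fin_cases i <;> simp [T, Tm, vv, Matrix.mulVec, dotProduct, Fin.sum_univ_four, zz, map_add, map_mul, h] <;> grind

theorem T_smul_inf (a b : F) : T θ a b • pinf F = pinf F := by
  rw [smul_inf_def]
  apply mk_eq_inf (c := 1)
  ext i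
  fin_cases i <;> simp [T, Tm, e0, Matrix.mulVec, dotProduct, Fin.sum_univ_four]

theorem D_smul_pt (hθ : ∀ x : F, θ (θ x) = x ^ 2) {a : F} (ha : a ≠ 0) (x y : F) : D θ ha • pt θ x y = pt θ (a * x) (a * θ a * y) := by
  rw [smul_pt_def]
  have h1 : θ.symm a ≠ 0 := by simpa using ha
  have h2 : θ a = θ.symm a ^ 2 := by
    have := hθ (θ.symm a)
    simpa using this
  have h3 : θ (θ a) = a ^ 2 := hθ a
  apply mk_eq_pt (c := (a * θ.symm a)⁻¹)
  ext i
  fin_cases i <;> simp [D, Dm, vv, Matrix.mulVec, dotProduct, Fin.sum_univ_four, zz, map_add, map_mul, h3]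
  · rw [h2]; field_simp
  · rw [h2]; field_simp
  · field_simp

theorem D_smul_inf {a : F} (ha : a ≠ 0) : D θ ha • pinf F = pinf F := by
  rw [smul_inf_def]
  apply mk_eq_inf (c := a * θ.symm a)
  ext i
  fin_cases i <;> simp [D, Dm, e0, Matrix.mulVec, dotProduct, Fin.sum_univ_four]

theorem W_smul_inf : W F • pinf F = pt θ 0 0 := by
  rw [smul_inf_def]
  apply mk_eq_pt (c := 1)
  ext i
  fin_cases i <;> simp [W, Wm, e0, vv, Matrix.mulVec, dotProduct, Fin.sum_univ_four, zz]

theorem W_smul_zero : W F • pt θ (0 : F) 0 = pinf F := by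
  rw [smul_pt_def]
  apply mk_eq_inf (c := 1)
  ext i
  fin_cases i <;> simp [W, Wm, e0, vv, Matrix.mulVec, dotProduct, Fin.sum_univ_four, zz]

/-- The key identity for the swap. -/
theorem zz_swap (hθ : ∀ x : F, θ (θ x) = x ^ 2) {x y : F} (h : ¬ (x = 0 ∧ y = 0)) :
    zz θ (y / zz θ x y) (x / zz θ x y) = 1 / zz θ x y := by
  have hz := zz_ne_zero hθ h
  set z := zz θ x y with hzdef
  have hθz : θ z ≠ 0 := by simpa using hz
  have e : θ z = θ x * θ y + x ^ 2 * (θ x) ^ 2 + y ^ 2 := by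
    rw [hzdef, zz, map_add, map_add, map_mul, map_mul, map_pow, hθ, hθ]
    ring
  have e2 : z = x * y + x ^ 2 * θ x + θ y := rfl
  unfold zz
  rw [map_div₀, map_div₀]
  field_simp
  rw [e, e2]
  grind

theorem W_smul_pt (hθ : ∀ x : F, θ (θ x) = x ^ 2) {x y : F} (h : ¬ (x = 0 ∧ y = 0)) :
    W F • pt θ x y = pt θ (y / zz θ x y) (x / zz θ x y) := by
  rw [smul_pt_def]
  have hz := zz_ne_zero hθ h
  apply mk_eq_pt (c := zz θ x y)
  ext i
  fin_cases i <;> simp [W, Wm, vv, Matrix.mulVec, dotProduct, Fin.sum_univ_four]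
  · rw [zz_swap hθ h]
    field_simp
  · field_simp
  · field_simp

end Cfsg.Agent.Lib.SzA
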