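import Cfsg.Agent.Lib.SzA

/-! The Suzuki groups: the stabiliser of the ovoid. -/

set_option autoImplicit false
set_option linter.unusedVariables false
set_option linter.unusedSectionVars false
set_option linter.unusedFintypeInType false
set_option linter.unusedDecidableInType false

namespace Cfsg.Agent.Lib.SzB

open scoped LinearAlgebra.Projectivization Pointwise
open Matrix Cfsg Cfsg.Agent.Lib.SzA

variable {F : Type*} [Field F] [CharP F 2] {θ : F ≃+* F}

theorem mem_stab {S : Set (ℙ F (Fin 4 → F))} {g : SL4 F} (h1 : ∀ p ∈ S, g • p ∈ S) (h2 : ∀ p ∈ S, g⁻¹ • p ∈ S) :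
    g ∈ MulAction.stabilizer (SL4 F) S := by
  rw [MulAction.mem_stabilizer_iff]
  ext p
  rw [Set.mem_smul_set]
  constructor
  · rintro ⟨q, hq, rfl⟩
    exact h1 q hq
  · intro hp
    exact ⟨g⁻¹ • p, h2 p hp, by simp⟩

theorem smul_mem_of_mem {S : Set (ℙ F (Fin 4 → F))} {g : SL4 F} (hg : g ∈ MulAction.stabilizer (SL4 F) S) {p : ℙ F (Fin 4 → F)} (hp : p ∈ S) : g • p ∈ S := by
  rw [MulAction.mem_stabilizer_iff] at hg
  rw [← hg]
  exact Set.smul_mem_smul_set hp

theorem inf_mem : pinf F ∈ ov θ := Or.inl rfl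
theorem pt_mem (x y : F) : pt θ x y ∈ ov θ := Or.inr ⟨x, y, rfl⟩

variable (θ) in
/-- The group. -/
abbrev GG := MulAction.stabilizer (SL4 F) (ov θ)

theorem T_map (hθ : ∀ x : F, θ (θ x) = x ^ 2) (a b : F) : ∀ p ∈ ov θ, T θ a b • p ∈ ov θ := by
  rintro p (rfl | ⟨x, y, rfl⟩)
  · rw [T_smul_inf]; exact inf_mem
  · rw [T_smul_pt hθ]; exact pt_mem _ _

theorem T_mem (hθ : ∀ x : F, θ (θ x) = x ^ 2) (a b : F) : T θ a b ∈ GG θ := by
  refine mem_stab (T_map hθ a b) ?_
  rw [T_inv hθ]
  exact T_map hθ _ _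

theorem D_map (hθ : ∀ x : F, θ (θ x) = x ^ 2) {a : F} (ha : a ≠ 0) : ∀ p ∈ ov θ, D θ ha • p ∈ ov θ := by
  rintro p (rfl | ⟨x, y, rfl⟩)
  · rw [D_smul_inf]; exact inf_mem
  · rw [D_smul_pt hθ]; exact pt_mem _ _

theorem D_mem (hθ : ∀ x : F, θ (θ x) = x ^ 2) {a : F} (ha : a ≠ 0) : D θ ha ∈ GG θ := by
  refine mem_stab (D_map hθ ha) ?_
  rw [D_inv]
  exact D_map hθ _

theorem W_map (hθ : ∀ x : F, θ (θ x) = x ^ 2) : ∀ p ∈ ov θ, W F • p ∈ ov θ := by
  rintro p (rfl | ⟨x, y, rfl⟩)
  · rw [W_smul_inf]; exact pt_mem _ _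
  · by_cases h : x = 0 ∧ y = 0
    · obtain ⟨rfl, rfl⟩ := h
      rw [W_smul_zero]; exact inf_mem
    · rw [W_smul_pt hθ h]; exact pt_mem _ _

theorem W_mem (hθ : ∀ x : F, θ (θ x) = x ^ 2) : W F ∈ GG θ := by
  refine mem_stab (W_map hθ) ?_
  rw [W_inv]
  exact W_map hθ

/-- Coefficients of a sparse polynomial vanishing on the field. -/
theorem poly_coeffs [Fintype F] {σ : ℕ} (hσ3 : 3 ≤ σ) (hlt : σ + 2 < Fintype.card F) {c1 c2 cs cs2 : F}
    (h : ∀ x : F, c1 * x + c2 * x ^ 2 + cs * x ^ σ + cs2 * x ^ (σ + 2) = 0) :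
    c1 = 0 ∧ c2 = 0 ∧ cs = 0 ∧ cs2 = 0 := by
  classical
  open Polynomial in
  set p : F[X] := C c1 * X + C c2 * X ^ 2 + C cs * X ^ σ + C cs2 * X ^ (σ + 2) with hp
  have hdeg : p.natDegree ≤ σ + 2 := by
    rw [hp]
    compute_degree
  have h0 : p = 0 := by
    apply Polynomial.eq_zero_of_natDegree_lt_card_of_eval_eq_zero' p Finset.univ
    · intro x _
      simp [hp, h x]
    · rw [Finset.card_univ]
      omega
  have e1 := congrArg (fun q => Polynomial.coeff q 1) h0
  have e2 := congrArg (fun q => Polynomial.coeff q 2) h0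
  have e3 := congrArg (fun q => Polynomial.coeff q σ) h0
  have e4 := congrArg (fun q => Polynomial.coeff q (σ + 2)) h0
  have n1 : σ ≠ 1 := by omega
  have n2 : σ ≠ 2 := by omega
  have n3 : 1 ≠ σ := by omega
  have n4 : 2 ≠ σ := by omega
  have n5 : σ + 2 ≠ 1 := by omega
  have n6 : σ + 2 ≠ 2 := by omega
  have n7 : 1 ≠ σ + 2 := by omega
  have n8 : 2 ≠ σ + 2 := by omega
  have n9 : σ ≠ σ + 2 := by omega
  have n10 : σ + 2 ≠ σ := by omega
  have n11 : σ ≠ 0 := by omega
  simp [hp, Polynomial.coeff_X, Polynomial.coeff_X_pow, Polynomial.coeff_C, n1, n2, n3, n4, n5, n6, n7, n8, n9, n10, n11] at e1 e2 e3 e4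
  exact ⟨e1, e2, e3, e4⟩

/-- The main computation: the stabiliser of two points is the diagonal group. -/
theorem eq_D_of_fix [Fintype F] (hθ : ∀ x : F, θ (θ x) = x ^ 2) {σ : ℕ} (hσ : ∀ x : F, θ x = x ^ σ) (hσ3 : 3 ≤ σ)
    (hlt : σ + 2 < Fintype.card F) {g : SL4 F} (hg : g ∈ GG θ) (h1 : g • pinf F = pinf F) (h2 : g • pt θ 0 0 = pt θ 0 0) :
    ∃ (a : F) (ha : a ≠ 0), g = D θ ha := by
  set M := g.1 with hM
  -- the first column
  rw [smul_inf_def, pinf, Projectivization.mk_eq_mk_iff'] at h1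
  obtain ⟨c, hc⟩ := h1
  have c0 := congrFun hc 0
  have c1 := congrFun hc 1
  have c2 := congrFun hc 2
  have c3 := congrFun hc 3
  simp [e0, Matrix.mulVec, dotProduct, Fin.sum_univ_four, ← hM] at c0 c1 c2 c3
  -- the last column
  rw [smul_pt_def, pt, Projectivization.mk_eq_mk_iff'] at h2
  obtain ⟨d, hd⟩ := h2
  have d0 := congrFun hd 0
  have d1 := congrFun hd 1
  have d2 := congrFun hd 2
  have d3 := congrFun hd 3
  simp [vv, zz, Matrix.mulVec, dotProduct, Fin.sum_univ_four, ← hM] at d0 d1 d2 d3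
  -- the action on a general vector
  have hact : ∀ x y : F, ∀ i, (g.1).mulVec (vv θ x y) i = M i 0 * zz θ x y + M i 1 * y + M i 2 * x + M i 3 := by
    intro x y i
    simp [vv, Matrix.mulVec, dotProduct, Fin.sum_univ_four, ← hM]
  have hinf : g • pinf F = pinf F := by
    rw [smul_inf_def, pinf, Projectivization.mk_eq_mk_iff']
    exact ⟨c, hc⟩
  -- image points
  have himg : ∀ x y : F, ∃ (c : F) (x' y' : F), (g.1).mulVec (vv θ x y) = c • vv θ x' y' := by
    intro x y
    have hm := smul_mem_of_mem hg (pt_mem (θ := θ) x y)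
    rcases hm with hm | ⟨x', y', hm⟩
    · exfalso
      rw [← hinf] at hm
      have := smul_left_cancel g hm
      exact pt_ne_inf x y this
    · rw [smul_pt_def, pt, Projectivization.mk_eq_mk_iff'] at hm
      obtain ⟨c', hc'⟩ := hm
      exact ⟨c', x', y', hc'.symm⟩
  have hd0 : M 3 3 ≠ 0 := by
    intro h
    have : (g.1).det = 0 := by
      apply Matrix.det_eq_zero_of_column_eq_zero 3
      intro i
      fin_cases i
      · exact d0.symm
      · exact d1.symm
      · exact d2.symm
      · exact h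
    rw [g.2] at this
    exact one_ne_zero this
  have hw : ∀ x y : F, M 3 1 * y + M 3 2 * x + M 3 3 ≠ 0 := by
    intro x y hw0
    obtain ⟨c', x', y', he⟩ := himg x y
    have e3 := congrFun he 3
    rw [hact, ← c3] at e3
    rw [zero_mul, zero_add, hw0] at e3
    simp [vv] at e3
    have hc0 : c' = 0 := e3.symm
    rw [hc0, zero_smul] at he
    have hne : (g.1).mulVec (vv θ x y) ≠ 0 := by
      rw [← SzA.smul_eq_mulVec]
      exact (smul_ne_zero_iff_ne g).mpr (vv_ne θ x y)
    exact hne he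
  have h32 : M 3 2 = 0 := by
    by_contra hne
    apply hw (M 3 3 / M 3 2) 0
    field_simp
    grind
  have h31 : M 3 1 = 0 := by
    by_contra hne
    apply hw 0 (M 3 3 / M 3 1)
    field_simp
    grind
  -- normalised entries
  set dd := M 3 3 with hdd
  set A := M 2 2 / dd with hA
  set B := M 2 1 / dd with hB
  set E := M 1 2 / dd with hE
  set H := M 1 1 / dd with hH
  set C := M 0 0 / dd with hC
  set P := M 0 1 / dd with hP
  set Q := M 0 2 / dd with hQ
  have hform : ∀ x y : F, C * zz θ x y + P * y + Q * x = zz θ (A * x + B * y) (E * x + H * y) := by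
    intro x y
    obtain ⟨c', x', y', he⟩ := himg x y
    have e0' := congrFun he 0
    have e1' := congrFun he 1
    have e2' := congrFun he 2
    have e3' := congrFun he 3
    rw [hact] at e0' e1' e2' e3'
    rw [← c3, h31, h32] at e3'
    rw [← d0] at e0'
    rw [← c1, ← d1] at e1'
    rw [← c2, ← d2] at e2'
    simp [vv] at e0' e1' e2' e3'
    have hc' : c' = dd := e3'.symm
    rw [hc'] at e0' e1' e2'
    have hx' : x' = A * x + B * y := by
      rw [hA, hB]
      field_simp
      linear_combination -e2'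
    have hy' : y' = E * x + H * y := by
      rw [hE, hH]
      field_simp
      linear_combination -e1'
    rw [← hx', ← hy', hC, hP, hQ]
    field_simp
    linear_combination e0'
  -- first specialisation
  have hzx : ∀ x : F, zz θ x 0 = x ^ (σ + 2) := by
    intro x
    simp only [zz, map_zero, add_zero, mul_zero]
    rw [hσ x]
    ring
  have hzy : ∀ y : F, zz θ 0 y = y ^ σ := by
    intro y
    simp only [zz, map_zero, zero_add, zero_mul, ne_eq, OfNat.ofNat_ne_zero, not_false_eq_true, zero_pow, mul_zero]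
    rw [hσ y]
  have key1 := poly_coeffs (F := F) hσ3 hlt (c1 := Q) (c2 := -(A * E)) (cs := -(θ E)) (cs2 := C - A ^ 2 * θ A) (by
    intro x
    have := hform x 0
    rw [hzx] at this
    simp only [mul_zero, add_zero, zz, hσ] at this
    have e : (A * x) ^ 2 * (A * x) ^ σ = A ^ 2 * A ^ σ * x ^ (σ + 2) := by ring
    rw [hσ A]
    rw [e] at this
    rw [hσ E] 
    have e2 : (E * x) ^ σ = E ^ σ * x ^ σ := by ring
    rw [e2] at this
    linear_combination this)
  obtain ⟨hQ0, hAE, hθE, hC1⟩ := key1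
  have hE0 : E = 0 := by
    have : θ E = 0 := by simpa using hθE
    simpa using this
  have key2 := poly_coeffs (F := F) hσ3 hlt (c1 := P) (c2 := -(B * H)) (cs := C - θ H) (cs2 := -(B ^ 2 * θ B)) (by
    intro y
    have := hform 0 y
    rw [hzy] at this
    simp only [mul_zero, zero_add, add_zero, zz, hσ] at this
    have e : (B * y) ^ 2 * (B * y) ^ σ = B ^ 2 * B ^ σ * y ^ (σ + 2) := by ring
    rw [hσ B, hσ H]
    rw [e] at this
    have e2 : (H * y) ^ σ = H ^ σ * y ^ σ := by ring
    rw [e2] at this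
    linear_combination this)
  obtain ⟨hP0, hBH, hC2, hB1⟩ := key2
  have hB0 : B = 0 := by
    have h3 : B ^ 2 * θ B = 0 := by simpa using hB1
    rcases mul_eq_zero.mp h3 with h4 | h4
    · exact pow_eq_zero_iff (two_ne_zero) |>.mp h4
    · simpa using h4
  have hC3 : C = A * H := by
    have := hform 1 1
    simp only [hE0, hB0, zero_mul, zero_add, add_zero, mul_one, one_mul, hQ0, hP0] at this
    have e1 : zz θ (1 : F) 1 = 1 := by
      simp [zz]
      grind
    have e2 : zz θ A H = A * H + A ^ 2 * θ A + θ H := rfl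
    rw [e1, e2] at this
    have h5 : C = A ^ 2 * θ A := by grind
    have h6 : C = θ H := by grind
    grind
  -- the matrix is diagonal
  have m12 : M 1 2 = 0 := (div_eq_zero_iff.mp hE0).resolve_right hd0
  have m21 : M 2 1 = 0 := (div_eq_zero_iff.mp hB0).resolve_right hd0
  have m01 : M 0 1 = 0 := (div_eq_zero_iff.mp hP0).resolve_right hd0
  have m02 : M 0 2 = 0 := (div_eq_zero_iff.mp hQ0).resolve_right hd0
  have m00 : M 0 0 = dd * C := by rw [hC]; field_simp
  have m11 : M 1 1 = dd * H := by rw [hH]; field_simp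
  have m22 : M 2 2 = dd * A := by rw [hA]; field_simp
  have hMd : M = !![dd * C, 0, 0, 0; 0, dd * H, 0, 0; 0, 0, dd * A, 0; 0, 0, 0, dd] := by
    ext i j
    fin_cases i <;> fin_cases j <;> simp
    · exact m00
    · exact m01
    · exact m02
    · exact d0.symm
    · exact c1.symm
    · exact m11
    · exact m12
    · exact d1.symm
    · exact c2.symm
    · exact m21
    · exact m22
    · exact d2.symm
    · exact c3.symm
    · exact h31
    · exact h32
    · rfl
  have hdet : dd * C * (dd * H) * (dd * A) * dd = 1 := by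
    have := g.2
    rw [← hM, hMd, Matrix.det_succ_row_zero] at this
    simp [Fin.sum_univ_four, Matrix.det_fin_three, Fin.succAbove] at this
    linear_combination this
  have hA0 : A ≠ 0 := by
    intro h
    rw [h] at hdet
    simp at hdet
  have hH1 : H = A * θ A := by
    have h5 : C = A ^ 2 * θ A := by grind
    have : A * H = A * (A * θ A) := by rw [← hC3, h5]; ring
    exact mul_left_cancel₀ hA0 this
  have hC4 : C = A ^ 2 * θ A := by grind
  set τ := θ.symm A with hτ
  have hτ0 : τ ≠ 0 := by simpa [hτ] using hA0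
  have hθA : θ A = τ ^ 2 := by
    have := hθ τ
    simpa [hτ] using this
  have hd1 : dd * (A * τ) = 1 := by
    apply sq_inj
    apply sq_inj
    rw [one_pow, one_pow]
    rw [hC4, hH1, hθA] at hdet
    linear_combination hdet
  refine ⟨A, hA0, ?_⟩
  apply Subtype.ext
  show M = Dm θ A
  have hdi : dd = (A * τ)⁻¹ := by
    field_simp
    linear_combination hd1
  rw [hMd, Dm, hC4, hH1, hθA, hdi, ← hτ]
  ext i j
  fin_cases i <;> fin_cases j <;> simp <;> field_simp

end Cfsg.Agent.Lib.SzB
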