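import Cfsg.Agent.Lib.SzB

/-! The Suzuki groups: normal forms, orders. -/

set_option autoImplicit false
set_option linter.unusedVariables false
set_option linter.unusedSectionVars false
set_option linter.unusedFintypeInType false
set_option linter.unusedDecidableInType false

namespace Cfsg.Agent.Lib.SzC

open scoped LinearAlgebra.Projectivization Pointwise
open Matrix Cfsg Cfsg.Agent.Lib.SzA Cfsg.Agent.Lib.SzB

section field
variable {F : Type*} [Field F] [Fintype F]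

theorem char2_of_card {m : ℕ} (hF : Fintype.card F = 2 ^ (2 * m + 1)) : CharP F 2 := by
  obtain ⟨p', hchar⟩ := CharP.exists F
  obtain ⟨n, hp2, hn⟩ := FiniteField.card F p'
  have h1 : p' ∣ Fintype.card F := by
    rw [hn]
    exact dvd_pow_self _ (Nat.pos_iff_ne_zero.mp n.2)
  rw [hF] at h1
  have : p' = 2 := (Nat.prime_dvd_prime_iff_eq hp2 Nat.prime_two).mp (hp2.dvd_of_dvd_pow h1)
  subst this
  exact hchar

variable [CharP F 2]

/-- The field automorphism `x ↦ x ^ 2 ^ (m + 1)`. -/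
theorem exists_theta (m : ℕ) : ∃ θ : F ≃+* F, ∀ x, θ x = x ^ (2 ^ (m + 1)) := by
  haveI : Fact (Nat.Prime 2) := ⟨Nat.prime_two⟩
  let f : F →+* F := iterateFrobenius F 2 (m + 1)
  have hf : Function.Bijective f := by
    have h1 : Function.Injective f := RingHom.injective f
    exact ⟨h1, Finite.injective_iff_surjective.mp h1⟩
  refine ⟨RingEquiv.ofBijective f hf, fun a => ?_⟩
  show f a = _
  exact iterateFrobenius_def 2 (m + 1) a

theorem theta_sq {m : ℕ} (hF : Fintype.card F = 2 ^ (2 * m + 1)) {θ : F ≃+* F} (h : ∀ x, θ x = x ^ (2 ^ (m + 1))) (x : F) :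
    θ (θ x) = x ^ 2 := by
  rw [h, h, ← pow_mul]
  have e : 2 ^ (m + 1) * 2 ^ (m + 1) = 2 ^ (2 * m + 1) * 2 := by ring
  rw [e, pow_mul, ← hF, FiniteField.pow_card]

theorem sigma_lt {m : ℕ} (hm : 1 ≤ m) : 2 ^ (m + 1) + 2 < 2 ^ (2 * m + 1) := by
  obtain ⟨k, rfl⟩ : ∃ k, m = k + 1 := ⟨m - 1, by omega⟩
  have e : 2 ^ (2 * (k + 1) + 1) = 2 ^ (k + 2) * 2 ^ (k + 1) := by ring
  have h1 : 2 ≤ 2 ^ (k + 1) := by
    calc 2 = 2 ^ 1 := rfl
      _ ≤ 2 ^ (k + 1) := Nat.pow_le_pow_right (by norm_num) (by omega)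
  have h2 : 4 ≤ 2 ^ (k + 2) := by
    calc 4 = 2 ^ 2 := rfl
      _ ≤ 2 ^ (k + 2) := Nat.pow_le_pow_right (by norm_num) (by omega)
  rw [e]
  show 2 ^ (k + 1 + 1) + 2 < _
  have e3 : 2 ^ (k + 1 + 1) = 2 ^ (k + 2) := rfl
  rw [e3]
  rcases Nat.lt_or_ge 2 (2 ^ (k + 1)) with h3 | h3
  · nlinarith
  · have h4 : 2 ^ (k + 1) = 2 := le_antisymm h3 h1
    have h5 : 2 ^ (k + 2) = 4 := by
      rw [pow_succ, h4]
      norm_num
    rw [h4, h5]
    norm_num

theorem sigma_ge {m : ℕ} (hm : 1 ≤ m) : 3 ≤ 2 ^ (m + 1) := by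
  calc 3 ≤ 2 ^ 2 := by norm_num
    _ ≤ 2 ^ (m + 1) := Nat.pow_le_pow_right (by norm_num) (by omega)

theorem ovoid_eq {m : ℕ} {θ : F ≃+* F} (h : ∀ x, θ x = x ^ (2 ^ (m + 1))) : suzukiOvoid F m = ov θ := by
  ext p
  constructor
  · rintro ⟨v, hv, rfl, hv2 | ⟨x, y, hv2⟩⟩
    · left
      subst hv2
      rfl
    · right
      refine ⟨x, y, ?_⟩
      rw [pt, Projectivization.mk_eq_mk_iff']
      refine ⟨1, ?_⟩
      rw [one_smul, hv2]
      ext i
      fin_cases i <;> simp [vv, zz, h]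
      ring
  · rintro (rfl | ⟨x, y, rfl⟩)
    · exact ⟨![1, 0, 0, 0], by simp, rfl, Or.inl rfl⟩
    · refine ⟨vv θ x y, vv_ne θ x y, rfl, Or.inr ⟨x, y, ?_⟩⟩
      ext i
      fin_cases i <;> simp [vv, zz, h]
      ring

end field

variable {F : Type*} [Field F] [Fintype F] [CharP F 2] {θ : F ≃+* F}

/-- The hypotheses on `θ`. -/
structure Good (θ : F ≃+* F) (σ : ℕ) : Prop where
  hθ : ∀ x : F, θ (θ x) = x ^ 2
  hσ : ∀ x : F, θ x = x ^ σ
  hσ3 : 3 ≤ σ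
  hlt : σ + 2 < Fintype.card F

variable {σ : ℕ} (H : Good θ σ)
include H

theorem T_pt_zero (a b : F) : T θ a b • pt θ 0 0 = pt θ a b := by
  rw [T_smul_pt H.hθ]
  congr 1 <;> simp

theorem normal_inf {g : SL4 F} (hg : g ∈ GG θ) (h1 : g • pinf F = pinf F) :
    ∃ (a b c : F) (hc : c ≠ 0), g = T θ a b * D θ hc := by
  have hm := smul_mem_of_mem hg (pt_mem (θ := θ) (0 : F) 0)
  rcases hm with hm | ⟨a, b, hm⟩
  · exfalso
    rw [← h1] at hm
    exact pt_ne_inf _ _ (smul_left_cancel g hm)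
  · have h2 : (T θ a b)⁻¹ * g ∈ GG θ := Subgroup.mul_mem _ (Subgroup.inv_mem _ (T_mem H.hθ a b)) hg
    obtain ⟨c, hc, e⟩ := eq_D_of_fix H.hθ H.hσ H.hσ3 H.hlt h2
      (by rw [mul_smul, h1, inv_smul_eq_iff, T_smul_inf])
      (by rw [mul_smul, hm, inv_smul_eq_iff, T_pt_zero H])
    refine ⟨a, b, c, hc, ?_⟩
    rw [← e, mul_inv_cancel_left]

theorem G_form {g : SL4 F} (hg : g ∈ GG θ) :
    (∃ (a b c : F) (hc : c ≠ 0), g = T θ a b * D θ hc) ∨
      ∃ (a b a' b' c : F) (hc : c ≠ 0), g = T θ a b * W F * T θ a' b' * D θ hc := by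
  have hm := smul_mem_of_mem hg (inf_mem (θ := θ))
  rcases hm with hm | ⟨a, b, hm⟩
  · exact Or.inl (normal_inf H hg hm)
  · right
    have h2 : (T θ a b * W F)⁻¹ * g ∈ GG θ :=
      Subgroup.mul_mem _ (Subgroup.inv_mem _ (Subgroup.mul_mem _ (T_mem H.hθ a b) (W_mem H.hθ))) hg
    obtain ⟨a', b', c, hc, e⟩ := normal_inf H h2 (by
      rw [mul_smul, hm, inv_smul_eq_iff, mul_smul, W_smul_inf, T_pt_zero H])
    refine ⟨a, b, a', b', c, hc, ?_⟩
    rw [mul_assoc _ (T θ a' b'), ← e, mul_inv_cancel_left]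

/-- The subgroup of `SL4` generated by the explicit elements contains `G`. -/
theorem G_le_closure_of {K : Subgroup (SL4 F)} (h1 : ∀ a b, T θ a b ∈ K) (h2 : W F ∈ K) (h3 : ∀ c (hc : c ≠ 0), D θ hc ∈ K) :
    GG θ ≤ K := by
  intro g hg
  rcases G_form H hg with ⟨a, b, c, hc, rfl⟩ | ⟨a, b, a', b', c, hc, rfl⟩
  · exact K.mul_mem (h1 _ _) (h3 _ _)
  · exact K.mul_mem (K.mul_mem (K.mul_mem (h1 _ _) h2) (h1 _ _)) (h3 _ _)

/-- Conjugation of `T` by `D`. -/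
theorem D_conj_T {c : F} (hc : c ≠ 0) (a b : F) : D θ hc * T θ a b * (D θ hc)⁻¹ = T θ (c * a) (c * θ c * b) := by
  have h1 : θ.symm c ≠ 0 := by simpa using hc
  have h2 : θ c = θ.symm c ^ 2 := by
    have := H.hθ (θ.symm c)
    simpa using this
  have h3 : θ (θ c) = c ^ 2 := H.hθ c
  rw [D_inv]
  apply Subtype.ext
  show Dm θ c * Tm θ a b * Dm θ c⁻¹ = Tm θ (c * a) (c * θ c * b)
  ext i j
  fin_cases i <;> fin_cases j <;>
    simp [Dm, Tm, zz, Matrix.mul_apply, Fin.sum_univ_four, map_mul, h3] <;> (try rw [h2]) <;> field_simp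

end Cfsg.Agent.Lib.SzC
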