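import Cfsg.Agent.Lib.SzC

/-! The Suzuki groups: perfectness and simplicity. -/

set_option autoImplicit false
set_option linter.unusedVariables false
set_option linter.unusedSectionVars false
set_option linter.unusedFintypeInType false
set_option linter.unusedDecidableInType false

namespace Cfsg.Agent.Lib.SzD

open scoped LinearAlgebra.Projectivization Pointwise
open Matrix Cfsg Cfsg.Agent.Lib.SzA Cfsg.Agent.Lib.SzB Cfsg.Agent.Lib.SzC

/-- A general simplicity criterion. -/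
theorem simple_of_coatom {G X : Type*} [Group G] [Nontrivial G] [MulAction G X] [FaithfulSMul G X] [MulAction.IsPretransitive G X]
    (x : X) (hmax : IsCoatom (MulAction.stabilizer G x)) (hsolv : Group.IsSolvable (MulAction.stabilizer G x))
    (hperf : commutator G = ⊤) : IsSimpleGroup G := by
  refine ⟨?_⟩
  intro K hK
  by_cases hbot : K = ⊥
  · exact Or.inl hbot
  right
  have hne : ¬ K ≤ MulAction.stabilizer G x := by
    intro hle
    apply hbot
    rw [eq_bot_iff]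
    intro k hk
    rw [Subgroup.mem_bot]
    apply FaithfulSMul.eq_of_smul_eq_smul (α := X)
    intro y
    obtain ⟨g, rfl⟩ := MulAction.exists_smul_eq G x y
    have h1 : g⁻¹ * k * g ∈ K := by
      have := hK.conj_mem k hk g⁻¹
      simpa using this
    have h2 := hle h1
    rw [MulAction.mem_stabilizer_iff, mul_smul, mul_smul, inv_smul_eq_iff] at h2
    rw [h2, one_smul]
  have hsup : MulAction.stabilizer G x ⊔ K = ⊤ := hmax.2 _ (lt_of_le_of_ne le_sup_left (fun e => hne (by rw [e]; exact le_sup_right)))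
  -- the quotient is solvable
  have hs : Group.IsSolvable (G ⧸ K) := by
    let f : ↥(MulAction.stabilizer G x) →* G ⧸ K := (QuotientGroup.mk' K).comp (MulAction.stabilizer G x).subtype
    refine Group.isSolvable_of_surjective (f := f) ?_
    intro q
    obtain ⟨g, rfl⟩ := QuotientGroup.mk'_surjective K q
    have hg : g ∈ MulAction.stabilizer G x ⊔ K := by rw [hsup]; trivial
    obtain ⟨s, hs, k, hk, rfl⟩ := Subgroup.mem_sup_of_normal_right.mp hg
    refine ⟨⟨s, hs⟩, ?_⟩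
    show (QuotientGroup.mk' K) s = (QuotientGroup.mk' K) (s * k)
    have h1 : QuotientGroup.mk' K k = 1 := (QuotientGroup.eq_one_iff k).mpr hk
    rw [map_mul, h1, mul_one]
  have hall : ∀ n, derivedSeries G n = ⊤ := by
    intro n
    induction n with
    | zero => exact derivedSeries_zero G
    | succ n ih =>
      rw [derivedSeries_succ, ih]
      exact hperf
  obtain ⟨n, hn⟩ := hs.1
  have h1 := map_derivedSeries_eq (QuotientGroup.mk'_surjective K) n
  rw [hn, hall, Subgroup.map_top_of_surjective _ (QuotientGroup.mk'_surjective K)] at h1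
  have : MonoidHom.ker (QuotientGroup.mk' K) = ⊤ := by
    rw [MonoidHom.ker_eq_top_iff]
    ext g
    have : (QuotientGroup.mk' K) g ∈ (⊥ : Subgroup (G ⧸ K)) := by
      rw [← h1]
      exact Subgroup.mem_top _
    simpa using this
  rwa [QuotientGroup.ker_mk'] at this


variable {F : Type*} [Field F] [Fintype F] [CharP F 2] {θ : F ≃+* F} {σ : ℕ} (H : Good θ σ)
include H

theorem card_F_ge : 5 < Fintype.card F := by
  have := H.hσ3
  have := H.hlt
  omega

theorem exists_alpha : ∃ α : F, α ≠ 0 ∧ α ≠ 1 := by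
  classical
  by_contra hc
  push Not at hc
  have h1 : ∀ u : F, u ∈ ({0, 1} : Finset F) := by
    intro u
    by_cases hu : u = 0
    · simp [hu]
    · simp [hc u hu]
  have h2 : Fintype.card F ≤ ({0, 1} : Finset F).card := by
    rw [← Finset.card_univ]
    exact Finset.card_le_card (fun u _ => h1 u)
  have h3 : ({0, 1} : Finset F).card ≤ 2 := Finset.card_le_two
  have := card_F_ge H
  omega

theorem theta_ne_zero {c : F} (hc : c ≠ 0) : θ c ≠ 0 := by simpa using hc

/-- `c θ(c) = 1` forces `c = 1`. -/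
theorem eq_one_of_theta {c : F} (h : c * θ c = 1) : c = 1 := by
  have h1 := congrArg θ h
  rw [map_mul, H.hθ, map_one] at h1
  have h2 : c * (c * θ c) = 1 := by
    rw [← h1]
    ring
  rwa [h, mul_one] at h2

/-- Every element of the unipotent group is a commutator. -/
theorem T_is_comm (u v : F) : ∃ (c : F) (hc : c ≠ 0) (a b : F), T θ u v = D θ hc * T θ a b * (D θ hc)⁻¹ * (T θ a b)⁻¹ := by
  obtain ⟨α, h0, h1⟩ := exists_alpha H
  have h2 : 1 + α ≠ 0 := by
    intro e
    apply h1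
    grind
  have h3 : 1 + α * θ α ≠ 0 := by
    intro e
    apply h1
    apply eq_one_of_theta H
    grind
  set a := u / (1 + α) with ha
  set b := (v + a * θ a * (1 + θ α)) / (1 + α * θ α) with hb
  refine ⟨α, h0, a, b, ?_⟩
  rw [D_conj_T H, T_inv H.hθ, T_mul H.hθ]
  have e1 : a * (1 + α) = u := by
    rw [ha]
    field_simp
  have e2 : b * (1 + α * θ α) = v + a * θ a * (1 + θ α) := by
    rw [hb]
    exact div_mul_cancel₀ _ h3
  congr 1
  · grind
  · rw [map_mul]
    grind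

/-- The key relation in rank one. -/
theorem n_eq {a : F} (ha : a ≠ 0) :
    T θ 0 (a * θ a)⁻¹ * W F * T θ a 0 * W F * T θ a⁻¹ (a * θ a)⁻¹ = W F * D θ (pow_ne_zero 2 ha) := by
  have hθa : θ a ≠ 0 := theta_ne_zero H ha
  have hs : θ.symm (a ^ 2) = θ a := by
    rw [← H.hθ a]
    simp
  have hθθ : θ (θ a) = a ^ 2 := H.hθ a
  apply Subtype.ext
  show Tm θ 0 (a * θ a)⁻¹ * Wm * Tm θ a 0 * Wm * Tm θ a⁻¹ (a * θ a)⁻¹ = Wm * Dm θ (a ^ 2)
  ext i j
  fin_cases i <;> fin_cases j <;>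
    simp [Tm, Dm, Wm, zz, Matrix.mul_apply, Fin.sum_univ_four, map_mul, map_inv₀, hθθ, hs] <;> (try field_simp) <;> (try grind)


omit H in
theorem D_congr {a b : F} (ha : a ≠ 0) (hb : b ≠ 0) (e : a = b) : D θ ha = D θ hb := by
  subst e
  rfl

/-- The commutator subgroup of `G`, inside `SL4`. -/
noncomputable def KK (θ : F ≃+* F) : Subgroup (SL4 F) := (commutator ↥(GG θ)).map (GG θ).subtype

omit H in
theorem comm_mem_KK {a b : SL4 F} (ha : a ∈ GG θ) (hb : b ∈ GG θ) : a * b * a⁻¹ * b⁻¹ ∈ KK θ := by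
  refine ⟨(⟨a, ha⟩ : ↥(GG θ)) * (⟨b, hb⟩ : ↥(GG θ)) * (⟨a, ha⟩ : ↥(GG θ))⁻¹ * (⟨b, hb⟩ : ↥(GG θ))⁻¹, ?_, rfl⟩
  exact Subgroup.commutator_mem_commutator (Subgroup.mem_top _) (Subgroup.mem_top _)

omit H in
theorem conj_mem_KK {x g : SL4 F} (hx : x ∈ KK θ) (hg : g ∈ GG θ) : g * x * g⁻¹ ∈ KK θ := by
  obtain ⟨y, hy, hxy⟩ := hx
  refine ⟨(⟨g, hg⟩ : ↥(GG θ)) * y * (⟨g, hg⟩ : ↥(GG θ))⁻¹, ?_, ?_⟩
  · exact (inferInstance : (commutator ↥(GG θ)).Normal).conj_mem y hy _
  · rw [← hxy]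
    rfl

theorem T_mem_KK (u v : F) : T θ u v ∈ KK θ := by
  obtain ⟨c, hc, a, b, e⟩ := T_is_comm H u v
  rw [e]
  exact comm_mem_KK (D_mem H.hθ hc) (T_mem H.hθ a b)

theorem WTW_mem_KK (u v : F) : W F * T θ u v * W F ∈ KK θ := by
  have := conj_mem_KK (T_mem_KK H u v) (W_mem (θ := θ) H.hθ)
  rwa [W_inv] at this

theorem n_mem_KK {a : F} (ha : a ≠ 0) : W F * D θ (pow_ne_zero 2 ha) ∈ KK θ := by
  rw [← n_eq H ha, mul_assoc (T θ 0 (a * θ a)⁻¹), mul_assoc (T θ 0 (a * θ a)⁻¹)]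
  refine Subgroup.mul_mem _ (Subgroup.mul_mem _ (T_mem_KK H _ _) ?_) (T_mem_KK H _ _)
  exact WTW_mem_KK H _ _

theorem W_mem_KK : W F ∈ KK θ := by
  have h := n_mem_KK H (θ := θ) (one_ne_zero : (1 : F) ≠ 0)
  have e : D θ (pow_ne_zero 2 (one_ne_zero : (1 : F) ≠ 0)) = 1 := by
    rw [← D_one (θ := θ)]
    congr 1
    simp
  rwa [e, mul_one] at h

theorem D_mem_KK {c : F} (hc : c ≠ 0) : D θ hc ∈ KK θ := by
  set a := θ.symm (θ.symm c) with ha
  have ha0 : a ≠ 0 := by simpa [ha] using hc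
  have e : a ^ 2 = c := by
    rw [← H.hθ a, ha]
    simp
  have h := n_mem_KK H (θ := θ) ha0
  have h2 : W F * (W F * D θ (pow_ne_zero 2 ha0)) ∈ KK θ := Subgroup.mul_mem _ (W_mem_KK H) h
  rw [← mul_assoc, W_mul_self, one_mul] at h2
  have e2 : D θ (pow_ne_zero 2 ha0) = D θ hc := D_congr _ _ e
  rwa [e2] at h2

/-- `G` is perfect. -/
theorem perfect : commutator ↥(GG θ) = ⊤ := by
  rw [eq_top_iff]
  intro g _
  have h1 : GG θ ≤ KK θ := G_le_closure_of H (T_mem_KK H) (W_mem_KK H) (fun c hc => D_mem_KK H hc)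
  obtain ⟨y, hy, hxy⟩ := h1 g.2
  have : y = g := Subtype.ext hxy
  rwa [← this]

end Cfsg.Agent.Lib.SzD
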