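import Cfsg.Agent.Lib.SzD

/-! The Suzuki groups: the action on the ovoid, orders. -/

set_option autoImplicit false
set_option linter.unusedVariables false
set_option linter.unusedSectionVars false
set_option linter.unusedFintypeInType false
set_option linter.unusedDecidableInType false

namespace Cfsg.Agent.Lib.SzE

open scoped LinearAlgebra.Projectivization Pointwise
open Matrix Cfsg Cfsg.Agent.Lib.SzA Cfsg.Agent.Lib.SzB Cfsg.Agent.Lib.SzC Cfsg.Agent.Lib.SzD

variable {F : Type*} [Field F] [Fintype F] [CharP F 2] {θ : F ≃+* F} {σ : ℕ}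

/-- The base points on the ovoid. -/
def p0 (θ : F ≃+* F) : ↥(ov θ) := ⟨pinf F, inf_mem⟩

def p1 (θ : F ≃+* F) : ↥(ov θ) := ⟨pt θ 0 0, pt_mem 0 0⟩

theorem coe_smul (g : ↥(GG θ)) (x : ↥(ov θ)) : ((g • x : ↥(ov θ)) : ℙ F (Fin 4 → F)) = (g : SL4 F) • (x : ℙ F (Fin 4 → F)) := rfl

variable (H : Good θ σ)
include H

/-- Elements of `G`. -/
def tG (a b : F) : ↥(GG θ) := ⟨T θ a b, T_mem H.hθ a b⟩

def wG : ↥(GG θ) := ⟨W F, W_mem H.hθ⟩

def dG {c : F} (hc : c ≠ 0) : ↥(GG θ) := ⟨D θ hc, D_mem H.hθ hc⟩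

theorem exists_move (x : ↥(ov θ)) : ∃ g : ↥(GG θ), g • p0 θ = x := by
  obtain ⟨x, rfl | ⟨a, b, rfl⟩⟩ := x
  · exact ⟨1, one_smul _ _⟩
  · refine ⟨tG H a b * wG H, Subtype.ext ?_⟩
    show (T θ a b * W F) • pinf F = pt θ a b
    rw [mul_smul, W_smul_inf, T_pt_zero H]

theorem two_trans {x y : ↥(ov θ)} (hxy : x ≠ y) : ∃ g : ↥(GG θ), g • p0 θ = x ∧ g • p1 θ = y := by
  obtain ⟨g, rfl⟩ := exists_move H x
  have hy : g⁻¹ • y ≠ p0 θ := by
    intro e
    apply hxy
    rw [← e, smul_inv_smul]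
  have hy2 : ((g⁻¹ • y : ↥(ov θ)) : ℙ F (Fin 4 → F)) ∈ ov θ := (g⁻¹ • y).2
  rcases hy2 with h | ⟨u, v, h⟩
  · exfalso
    apply hy
    exact Subtype.ext h
  · refine ⟨g * tG H u v, ?_, ?_⟩
    · rw [mul_smul]
      congr 1
      apply Subtype.ext
      exact T_smul_inf u v
    · rw [mul_smul]
      have e : tG H u v • p1 θ = g⁻¹ • y := by
        apply Subtype.ext
        rw [h]
        exact T_pt_zero H u v
      rw [e, smul_inv_smul]

theorem three_fix_base {g : SL4 F} (hg : g ∈ GG θ) (h1 : g • pinf F = pinf F) (h2 : g • pt θ 0 0 = pt θ 0 0) {x y : F}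
    (hxy : ¬ (x = 0 ∧ y = 0)) (h3 : g • pt θ x y = pt θ x y) : g = 1 := by
  obtain ⟨c, hc, rfl⟩ := eq_D_of_fix H.hθ H.hσ H.hσ3 H.hlt hg h1 h2
  rw [D_smul_pt H.hθ] at h3
  obtain ⟨e1, e2⟩ := pt_inj h3
  have hc1 : c = 1 := by
    by_cases hx : x = 0
    · have hy : y ≠ 0 := fun e => hxy ⟨hx, e⟩
      apply eq_one_of_theta H
      exact mul_right_cancel₀ hy (by rw [e2, one_mul])
    · exact mul_right_cancel₀ hx (by rw [e1, one_mul])
  subst hc1
  exact D_one

/-- An element of `G` fixing three points is trivial. -/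
theorem three_fix {g : ↥(GG θ)} {a b c : ↥(ov θ)} (hab : a ≠ b) (hbc : b ≠ c) (hac : a ≠ c) (ha : g • a = a) (hb : g • b = b) (hc : g • c = c) : g = 1 := by
  obtain ⟨h, rfl, rfl⟩ := two_trans H hab
  have e1 : (h⁻¹ * g * h) • p0 θ = p0 θ := by
    rw [mul_smul, mul_smul, ha, inv_smul_smul]
  have e2 : (h⁻¹ * g * h) • p1 θ = p1 θ := by
    rw [mul_smul, mul_smul, hb, inv_smul_smul]
  have e3 : (h⁻¹ * g * h) • (h⁻¹ • c) = h⁻¹ • c := by
    rw [mul_smul, mul_smul, smul_inv_smul, hc]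
  have hc2 : ((h⁻¹ • c : ↥(ov θ)) : ℙ F (Fin 4 → F)) ∈ ov θ := (h⁻¹ • c).2
  rcases hc2 with h4 | ⟨x, y, h4⟩
  · exfalso
    apply hac
    have : h⁻¹ • c = p0 θ := Subtype.ext h4
    rw [← this, smul_inv_smul]
  · have hxy : ¬ (x = 0 ∧ y = 0) := by
      rintro ⟨rfl, rfl⟩
      apply hbc
      have : h⁻¹ • c = p1 θ := Subtype.ext h4
      rw [← this, smul_inv_smul]
    have e5 := three_fix_base H (h⁻¹ * g * h).2 (congrArg Subtype.val e1) (congrArg Subtype.val e2) hxy (by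
      have e7 := congrArg Subtype.val e3
      rw [coe_smul, h4] at e7
      exact e7)
    have e6 : h⁻¹ * g * h = 1 := Subtype.ext e5
    have : g = h * (h⁻¹ * g * h) * h⁻¹ := by group
    rw [this, e6]
    group

omit H in
theorem p0_ne_p1 : p0 θ ≠ p1 θ := by
  intro h
  have := congrArg Subtype.val h
  exact pt_ne_inf _ _ this.symm

def p2 (θ : F ≃+* F) : ↥(ov θ) := ⟨pt θ 1 0, pt_mem 1 0⟩

omit H in
theorem p1_ne_p2 : p1 θ ≠ p2 θ := by
  intro h
  have := pt_inj (congrArg Subtype.val h)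
  exact zero_ne_one this.1

omit H in
theorem p0_ne_p2 : p0 θ ≠ p2 θ := by
  intro h
  have := congrArg Subtype.val h
  exact pt_ne_inf _ _ this.symm

/-- The action is faithful. -/
theorem faithful : FaithfulSMul ↥(GG θ) ↥(ov θ) := by
  constructor
  intro g g' h
  have h1 : g'⁻¹ * g = 1 := by
    refine three_fix H p0_ne_p1 p1_ne_p2 p0_ne_p2 ?_ ?_ ?_ <;> rw [mul_smul, inv_smul_eq_iff] <;> exact h _
  rw [inv_mul_eq_one] at h1
  exact h1.symm

theorem pretrans : MulAction.IsPretransitive ↥(GG θ) ↥(ov θ) := by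
  constructor
  intro x y
  obtain ⟨g, rfl⟩ := exists_move H x
  obtain ⟨g', rfl⟩ := exists_move H y
  exact ⟨g' * g⁻¹, by simp [mul_smul]⟩

omit H in
theorem stab_eq : MulAction.stabilizer ↥(GG θ) (p0 θ) = MulAction.stabilizer ↥(GG θ) (pinf F) := by
  ext g
  simp only [MulAction.mem_stabilizer_iff]
  constructor
  · intro h
    exact congrArg Subtype.val h
  · intro h
    exact Subtype.ext h

theorem mem_B_iff {g : ↥(GG θ)} : g ∈ MulAction.stabilizer ↥(GG θ) (p0 θ) ↔ ∃ (a b c : F) (hc : c ≠ 0), g = tG H a b * dG H hc := by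
  rw [stab_eq, MulAction.mem_stabilizer_iff]
  constructor
  · intro h
    obtain ⟨a, b, c, hc, e⟩ := normal_inf H g.2 h
    exact ⟨a, b, c, hc, Subtype.ext e⟩
  · rintro ⟨a, b, c, hc, rfl⟩
    show (T θ a b * D θ hc) • pinf F = pinf F
    rw [mul_smul, D_smul_inf, T_smul_inf]

theorem W_not_mem_B : wG H ∉ MulAction.stabilizer ↥(GG θ) (p0 θ) := by
  intro h
  rw [stab_eq, MulAction.mem_stabilizer_iff] at h
  have h2 : W F • pinf F = pinf F := h
  rw [W_smul_inf (θ := θ)] at h2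
  exact pt_ne_inf _ _ h2

/-- The point stabiliser is maximal. -/
theorem coatom : IsCoatom (MulAction.stabilizer ↥(GG θ) (p0 θ)) := by
  constructor
  · intro h
    apply W_not_mem_B H
    rw [h]
    trivial
  · intro K hK
    obtain ⟨g, hgK, hgB⟩ := SetLike.exists_of_lt hK
    have hT : ∀ a b, tG H a b ∈ K := fun a b => hK.le ((mem_B_iff H).mpr ⟨a, b, 1, one_ne_zero, by
      apply Subtype.ext
      show T θ a b = T θ a b * D θ one_ne_zero
      rw [D_one, mul_one]⟩)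
    have hD : ∀ (c : F) (hc : c ≠ 0), dG H hc ∈ K := fun c hc => hK.le ((mem_B_iff H).mpr ⟨0, 0, c, hc, by
      apply Subtype.ext
      show D θ hc = T θ 0 0 * D θ hc
      rw [T_one, one_mul]⟩)
    have hW : wG H ∈ K := by
      rcases G_form H g.2 with ⟨a, b, c, hc, e⟩ | ⟨a, b, a', b', c, hc, e⟩
      · exfalso
        apply hgB
        rw [mem_B_iff H]
        exact ⟨a, b, c, hc, Subtype.ext e⟩
      · have e2 : g = tG H a b * wG H * tG H a' b' * dG H hc := Subtype.ext e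
        have e3 : wG H = (tG H a b)⁻¹ * g * (dG H hc)⁻¹ * (tG H a' b')⁻¹ := by
          rw [e2]
          group
        rw [e3]
        exact K.mul_mem (K.mul_mem (K.mul_mem (K.inv_mem (hT _ _)) hgK) (K.inv_mem (hD _ _))) (K.inv_mem (hT _ _))
    rw [eq_top_iff]
    intro x _
    rcases G_form H x.2 with ⟨a, b, c, hc, e⟩ | ⟨a, b, a', b', c, hc, e⟩
    · have e2 : x = tG H a b * dG H hc := Subtype.ext e
      rw [e2]
      exact K.mul_mem (hT _ _) (hD _ _)
    · have e2 : x = tG H a b * wG H * tG H a' b' * dG H hc := Subtype.ext e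
      rw [e2]
      exact K.mul_mem (K.mul_mem (K.mul_mem (hT _ _) hW) (hT _ _)) (hD _ _)

/-- `G` has an involution `W`, so it is nontrivial. -/
theorem nontrivial_G : Nontrivial ↥(GG θ) := by
  refine ⟨⟨wG H, 1, ?_⟩⟩
  intro e
  apply W_not_mem_B H
  rw [e]
  exact Subgroup.one_mem _

end Cfsg.Agent.Lib.SzE
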