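import Cfsg.Agent.Lib.SzE

/-! The Suzuki groups: simplicity and orders. -/

set_option autoImplicit false
set_option linter.unusedVariables false
set_option linter.unusedSectionVars false
set_option linter.unusedFintypeInType false
set_option linter.unusedDecidableInType false

namespace Cfsg.Agent.Lib.SzF

open scoped LinearAlgebra.Projectivization Pointwise
open Matrix Cfsg Cfsg.Agent.Lib.SzA Cfsg.Agent.Lib.SzB Cfsg.Agent.Lib.SzC Cfsg.Agent.Lib.SzD Cfsg.Agent.Lib.SzE

/-- The number of points of an affine-graph type set. -/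
theorem card_graph {F : Type*} [Field F] [Fintype F] (f : F → F → F) (v0 : Fin 4 → F) (h0 : v0 3 = 0) (hv0 : v0 ≠ 0)
    (v : F → F → Fin 4 → F) (hv : ∀ x y, v x y = ![f x y, y, x, 1]) (hne : ∀ x y, v x y ≠ 0) :
    Nat.card {p : ℙ F (Fin 4 → F) // p = Projectivization.mk F v0 hv0 ∨ ∃ x y, p = Projectivization.mk F (v x y) (hne x y)} = Fintype.card F ^ 2 + 1 := by
  classical
  let g : Option (F × F) → {p : ℙ F (Fin 4 → F) // p = Projectivization.mk F v0 hv0 ∨ ∃ x y, p = Projectivization.mk F (v x y) (hne x y)} := fun o =>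
    match o with
    | none => ⟨_, Or.inl rfl⟩
    | some c => ⟨_, Or.inr ⟨c.1, c.2, rfl⟩⟩
  have hg : Function.Bijective g := by
    constructor
    · rintro (_ | ⟨x, y⟩) (_ | ⟨x', y'⟩) h
      · rfl
      · exfalso
        have h1 := congrArg Subtype.val h
        have h2 : Projectivization.mk F v0 hv0 = Projectivization.mk F (v x' y') (hne x' y') := h1
        rw [Projectivization.mk_eq_mk_iff'] at h2
        obtain ⟨c, hc⟩ := h2
        have := congrFun hc 3
        simp [hv, h0] at this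
        rw [this, zero_smul] at hc
        exact hv0 hc.symm
      · exfalso
        have h1 := congrArg Subtype.val h
        have h2 : Projectivization.mk F (v x y) (hne x y) = Projectivization.mk F v0 hv0 := h1
        rw [Projectivization.mk_eq_mk_iff'] at h2
        obtain ⟨c, hc⟩ := h2
        have := congrFun hc 3
        simp [hv, h0] at this
      · have h1 := congrArg Subtype.val h
        have h2 : Projectivization.mk F (v x y) (hne x y) = Projectivization.mk F (v x' y') (hne x' y') := h1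
        rw [Projectivization.mk_eq_mk_iff'] at h2
        obtain ⟨c, hc⟩ := h2
        have h3 := congrFun hc 3
        have h4 := congrFun hc 2
        have h5 := congrFun hc 1
        simp [hv] at h3 h4 h5
        subst h3
        simp at h4 h5
        rw [h4, h5]
    · rintro ⟨p, rfl | ⟨x, y, rfl⟩⟩
      · exact ⟨none, rfl⟩
      · exact ⟨some (x, y), rfl⟩
  rw [← Nat.card_eq_of_bijective g hg]
  rw [Nat.card_eq_fintype_card]
  simp [Fintype.card_option, Fintype.card_prod, sq]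

variable {F : Type*} [Field F] [Fintype F] [CharP F 2] {θ : F ≃+* F} {σ : ℕ}

theorem card_ov : Nat.card ↥(ov θ) = Fintype.card F ^ 2 + 1 :=
  card_graph (zz θ) (e0 F) (by simp [e0]) e0_ne (vv θ) (fun _ _ => rfl) (vv_ne θ)

variable (H : Good θ σ)
include H

/-- The Sylow group. -/
def UU : Subgroup ↥(GG θ) where
  carrier := {g | ∃ a b, g = tG H a b}
  mul_mem' := by
    rintro _ _ ⟨a, b, rfl⟩ ⟨c, d, rfl⟩
    exact ⟨_, _, Subtype.ext (T_mul H.hθ a b c d)⟩
  one_mem' := ⟨0, 0, Subtype.ext T_one.symm⟩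
  inv_mem' := by
    rintro _ ⟨a, b, rfl⟩
    exact ⟨_, _, Subtype.ext (T_inv H.hθ a b)⟩

omit H in
theorem T_inj {a b c d : F} (h : T θ a b = T θ c d) : a = c ∧ b = d := by
  have h1 := congrArg (fun g : SL4 F => g.1 0 1) h
  have h2 := congrArg (fun g : SL4 F => g.1 1 3) h
  simpa [T, Tm] using And.intro h1 h2

theorem card_UU : Nat.card ↥(UU H) = Fintype.card F ^ 2 := by
  let g : F × F → ↥(UU H) := fun c => ⟨tG H c.1 c.2, c.1, c.2, rfl⟩
  have hg : Function.Bijective g := by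
    constructor
    · rintro ⟨a, b⟩ ⟨c, d⟩ h
      have h1 : T θ a b = T θ c d := congrArg (fun x : ↥(UU H) => ((x : ↥(GG θ)) : SL4 F)) h
      obtain ⟨rfl, rfl⟩ := T_inj h1
      rfl
    · rintro ⟨x, a, b, rfl⟩
      exact ⟨(a, b), rfl⟩
  rw [← Nat.card_eq_of_bijective g hg, Nat.card_eq_fintype_card]
  simp [Fintype.card_prod, sq]

theorem t_sq (a b : F) : T θ a b * T θ a b = T θ 0 (a * θ a) := by
  rw [T_mul H.hθ]
  congr 1
  · grind
  · grind

theorem t_four (a b : F) : T θ a b ^ 4 = 1 := by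
  have e : T θ a b ^ 4 = (T θ a b * T θ a b) * (T θ a b * T θ a b) := by
    rw [pow_succ, pow_succ, pow_two]
    group
  rw [e, t_sq H, T_mul H.hθ, ← T_one (θ := θ)]
  congr 1
  · grind
  · simp
    grind

theorem UU_pgroup : IsPGroup 2 ↥(UU H) := by
  rintro ⟨_, a, b, rfl⟩
  refine ⟨2, ?_⟩
  apply Subtype.ext
  apply Subtype.ext
  exact t_four H a b

/-- The point stabiliser. -/
abbrev BB (θ : F ≃+* F) : Subgroup ↥(GG θ) := MulAction.stabilizer ↥(GG θ) (p0 θ)

/-- Moving `D` past `T`. -/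
theorem d_t {c : F} (hc : c ≠ 0) (a b : F) : dG H hc * tG H a b = tG H (c * a) (c * θ c * b) * dG H hc := by
  apply Subtype.ext
  show D θ hc * T θ a b = T θ (c * a) (c * θ c * b) * D θ hc
  rw [← D_conj_T H hc a b]
  group

theorem tG_mul (a b c d : F) : tG H a b * tG H c d = tG H (a + c) (b + d + θ a * c) :=
  Subtype.ext (T_mul H.hθ a b c d)

theorem dG_mul {a b : F} (ha : a ≠ 0) (hb : b ≠ 0) : dG H ha * dG H hb = dG H (mul_ne_zero ha hb) :=
  Subtype.ext (D_mul ha hb)

theorem BB_mul (a b c d a' b' : F) (hc : c ≠ 0) (hc' : d ≠ 0) :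
    (tG H a b * dG H hc) * (tG H a' b' * dG H hc') = tG H (a + c * a') (b + c * θ c * b' + θ a * (c * a')) * dG H (mul_ne_zero hc hc') := by
  rw [mul_assoc, ← mul_assoc (dG H hc), d_t H, mul_assoc, dG_mul H, ← mul_assoc, tG_mul H]

omit H in
theorem entry_TD (a b c : F) (hc : c ≠ 0) : (T θ a b * D θ hc).1 2 2 = (θ.symm c)⁻¹ := by
  show (Tm θ a b * Dm θ c) 2 2 = _
  simp [Tm, Dm, Matrix.mul_apply, Fin.sum_univ_four]

theorem BB_entry_ne {g : ↥(GG θ)} (hg : g ∈ BB θ) : (g : SL4 F).1 2 2 ≠ 0 := by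
  obtain ⟨a, b, c, hc, rfl⟩ := (mem_B_iff H).mp hg
  have : ((tG H a b * dG H hc : ↥(GG θ)) : SL4 F) = T θ a b * D θ hc := rfl
  rw [this, entry_TD]
  have h1 : θ.symm c ≠ 0 := by simpa using hc
  exact inv_ne_zero h1

/-- The character of the point stabiliser. -/
noncomputable def chiB : ↥(BB θ) →* Fˣ where
  toFun g := Units.mk0 (((g : ↥(GG θ)) : SL4 F).1 2 2) (BB_entry_ne H g.2)
  map_one' := by
    apply Units.ext
    show ((1 : SL4 F).1 2 2) = 1
    simp
  map_mul' := by
    rintro ⟨g, hg⟩ ⟨g', hg'⟩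
    apply Units.ext
    obtain ⟨a, b, c, hc, rfl⟩ := (mem_B_iff H).mp hg
    obtain ⟨a', b', c', hc', rfl⟩ := (mem_B_iff H).mp hg'
    show (((tG H a b * dG H hc) * (tG H a' b' * dG H hc') : ↥(GG θ)) : SL4 F).1 2 2 = ((tG H a b * dG H hc : ↥(GG θ)) : SL4 F).1 2 2 * ((tG H a' b' * dG H hc' : ↥(GG θ)) : SL4 F).1 2 2
    rw [BB_mul H]
    have e1 : ((tG H a b * dG H hc : ↥(GG θ)) : SL4 F) = T θ a b * D θ hc := rfl
    have e2 : ((tG H a' b' * dG H hc' : ↥(GG θ)) : SL4 F) = T θ a' b' * D θ hc' := rfl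
    have e3 : ∀ u v, ((tG H u v * dG H (mul_ne_zero hc hc') : ↥(GG θ)) : SL4 F) = T θ u v * D θ (mul_ne_zero hc hc') := fun _ _ => rfl
    rw [e1, e2, e3, entry_TD, entry_TD, entry_TD, map_mul, mul_inv]

theorem BB_solvable : Group.IsSolvable ↥(BB θ) := by
  haveI : Fact (Nat.Prime 2) := ⟨Nat.prime_two⟩
  let A : Subgroup ↥(BB θ) := (UU H).subgroupOf (BB θ)
  have hA : IsPGroup 2 ↥A := by
    intro x
    obtain ⟨k, hk⟩ := UU_pgroup H ⟨(x : ↥(BB θ)), x.2⟩
    refine ⟨k, ?_⟩
    apply Subtype.ext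
    apply Subtype.ext
    exact congrArg (fun y : ↥(UU H) => (y : ↥(GG θ))) hk
  haveI : Group.IsNilpotent ↥A := hA.isNilpotent
  refine solvable_of_ker_le_range A.subtype (chiB H) ?_
  rintro ⟨g, hg⟩ hk
  have h1 : chiB H ⟨g, hg⟩ = 1 := hk
  have h2 := congrArg Units.val h1
  obtain ⟨a, b, c, hc, rfl⟩ := (mem_B_iff H).mp hg
  have h3 : ((tG H a b * dG H hc : ↥(GG θ)) : SL4 F).1 2 2 = 1 := h2
  have e1 : ((tG H a b * dG H hc : ↥(GG θ)) : SL4 F) = T θ a b * D θ hc := rfl
  rw [e1, entry_TD] at h3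
  have h4 : θ.symm c = 1 := by
    have := inv_eq_one.mp h3
    exact this
  have h5 : c = 1 := by
    have := congrArg θ h4
    simpa using this
  subst h5
  refine ⟨⟨⟨_, hg⟩, ?_⟩, rfl⟩
  refine ⟨a, b, ?_⟩
  apply Subtype.ext
  show T θ a b * D θ hc = T θ a b
  have : D θ hc = 1 := D_one
  rw [this, mul_one]

/-- `G` is simple. -/
theorem simple : IsSimpleGroup ↥(GG θ) := by
  haveI := nontrivial_G H
  haveI := faithful H
  haveI := pretrans H
  exact simple_of_coatom (p0 θ) (coatom H) (BB_solvable H) (perfect H)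

/-- Parametrisation of `B`. -/
theorem card_BB : Nat.card ↥(BB θ) = Fintype.card F ^ 2 * (Fintype.card F - 1) := by
  classical
  let g : (F × F) × Fˣ → ↥(BB θ) := fun c => ⟨tG H c.1.1 c.1.2 * dG H c.2.ne_zero, (mem_B_iff H).mpr ⟨_, _, _, _, rfl⟩⟩
  have hg : Function.Bijective g := by
    constructor
    · rintro ⟨⟨a, b⟩, c⟩ ⟨⟨a', b'⟩, c'⟩ h
      have h1 : T θ a b * D θ c.ne_zero = T θ a' b' * D θ c'.ne_zero := congrArg (fun x : ↥(BB θ) => ((x : ↥(GG θ)) : SL4 F)) h
      have h2 := congrArg (fun u : SL4 F => u • pt θ (0 : F) 0) h1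
      simp only [mul_smul, D_smul_pt H.hθ, mul_zero, T_pt_zero H] at h2
      obtain ⟨rfl, rfl⟩ := pt_inj h2
      have h3 := mul_left_cancel h1
      have h4 := congrArg (fun u : SL4 F => u.1 2 2) h3
      have h5 : (θ.symm (c : F))⁻¹ = (θ.symm (c' : F))⁻¹ := by
        simpa [D, Dm] using h4
      have h6 : (c : F) = c' := by
        have := inv_injective h5
        simpa using this
      have h7 : c = c' := Units.ext h6
      subst h7
      rfl
    · rintro ⟨x, hx⟩
      obtain ⟨a, b, c, hc, rfl⟩ := (mem_B_iff H).mp hx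
      exact ⟨((a, b), Units.mk0 c hc), rfl⟩
  rw [← Nat.card_eq_of_bijective g hg, Nat.card_eq_fintype_card]
  simp [Fintype.card_prod, Fintype.card_units, sq]

theorem card_G : Nat.card ↥(GG θ) = (Fintype.card F ^ 2 + 1) * (Fintype.card F ^ 2 * (Fintype.card F - 1)) := by
  haveI := pretrans H
  have h1 := Subgroup.card_mul_index (BB θ)
  rw [card_BB H, MulAction.index_stabilizer_of_transitive, card_ov] at h1
  rw [← h1]
  ring

end Cfsg.Agent.Lib.SzF
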