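import Cfsg.Agent.Lib.SzF

/-! The Suzuki groups: the statements in the form of the ovoid stabiliser. -/

set_option autoImplicit false
set_option linter.unusedVariables false
set_option linter.unusedSectionVars false
set_option linter.unusedFintypeInType false
set_option linter.unusedDecidableInType false

namespace Cfsg.Agent.Lib.SzG

open scoped LinearAlgebra.Projectivization Pointwise
open Matrix Cfsg Cfsg.Agent.Lib.SzA Cfsg.Agent.Lib.SzB Cfsg.Agent.Lib.SzC Cfsg.Agent.Lib.SzD Cfsg.Agent.Lib.SzE Cfsg.Agent.Lib.SzF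

/-- The set-up. -/
theorem setup {F : Type*} [Field F] [Fintype F] {m : ℕ} (hm : 1 ≤ m) (hF : Fintype.card F = 2 ^ (2 * m + 1)) :
    ∃ (_ : CharP F 2) (θ : F ≃+* F), Good θ (2 ^ (m + 1)) ∧ suzukiOvoid F m = ov θ ∧ (∀ x, θ x = x ^ (2 ^ (m + 1))) := by
  haveI := char2_of_card hF
  obtain ⟨θ, h⟩ := exists_theta (F := F) m
  refine ⟨inferInstance, θ, ⟨theta_sq hF h, h, sigma_ge hm, ?_⟩, ovoid_eq h, h⟩
  rw [hF]
  exact sigma_lt hm

theorem ovoid_card {F : Type*} [Field F] [Fintype F] (m : ℕ) : Nat.card (suzukiOvoid F m) = Fintype.card F ^ 2 + 1 := by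
  set f : F → F → F := fun x y => x * y + x ^ (2 ^ (m + 1) + 2) + y ^ (2 ^ (m + 1)) with hf
  have hne : ∀ x y : F, (![f x y, y, x, 1] : Fin 4 → F) ≠ 0 := by
    intro x y h
    have := congrFun h 3
    simp at this
  have h0 : (![1, 0, 0, 0] : Fin 4 → F) ≠ 0 := by
    intro h
    have := congrFun h 0
    simp at this
  have h1 := card_graph f ![1, 0, 0, 0] (by simp) h0 (fun x y => ![f x y, y, x, 1]) (fun _ _ => rfl) hne
  rw [← h1]
  apply Nat.card_congr
  apply Equiv.setCongr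
  ext p
  constructor
  · rintro ⟨v, hv, rfl, rfl | ⟨x, y, rfl⟩⟩
    · exact Or.inl rfl
    · exact Or.inr ⟨x, y, rfl⟩
  · rintro (rfl | ⟨x, y, rfl⟩)
    · exact ⟨_, h0, rfl, Or.inl rfl⟩
    · exact ⟨_, hne x y, rfl, Or.inr ⟨x, y, rfl⟩⟩

variable {F : Type*} [Field F] [Fintype F] {m : ℕ}

theorem thm_card (hm : 1 ≤ m) (hF : Fintype.card F = 2 ^ (2 * m + 1)) :
    Nat.card (Cfsg.Sz F m) = (2 ^ (2 * m + 1)) ^ 2 * ((2 ^ (2 * m + 1)) ^ 2 + 1) * (2 ^ (2 * m + 1) - 1) := by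
  obtain ⟨_, θ, H, hov, h⟩ := setup hm hF
  show Nat.card ↥(MulAction.stabilizer (SL4 F) (suzukiOvoid F m)) = _
  rw [hov, card_G H, hF]
  ring

theorem thm_simple (hm : 1 ≤ m) (hF : Fintype.card F = 2 ^ (2 * m + 1)) : IsSimpleGroup (Cfsg.Sz F m) := by
  obtain ⟨_, θ, H, hov, h⟩ := setup hm hF
  show IsSimpleGroup ↥(MulAction.stabilizer (SL4 F) (suzukiOvoid F m))
  rw [hov]
  exact simple H

theorem pz_eq {θ : F ≃+* F} [CharP F 2] : suzukiPointZero F = pt θ 0 0 := by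
  rw [suzukiPointZero, pt, Projectivization.mk_eq_mk_iff']
  refine ⟨1, ?_⟩
  ext i
  fin_cases i <;> simp [vv, zz]

theorem thm_stab (hm : 1 ≤ m) (hF : Fintype.card F = 2 ^ (2 * m + 1)) :
    Nat.card (MulAction.stabilizer (Cfsg.Sz F m) (suzukiPointInfinity F)) = (2 ^ (2 * m + 1)) ^ 2 * (2 ^ (2 * m + 1) - 1) := by
  obtain ⟨_, θ, H, hov, h⟩ := setup hm hF
  show Nat.card ↥(MulAction.stabilizer ↥(MulAction.stabilizer (SL4 F) (suzukiOvoid F m)) (pinf F)) = _
  rw [hov, ← stab_eq, card_BB H, hF]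

section
variable [CharP F 2] {θ : F ≃+* F} {σ : ℕ} (H : Good θ σ)
include H

theorem fix_pt_zero {c : F} (hc : c ≠ 0) : D θ hc • pt θ (0 : F) 0 = pt θ 0 0 := by
  rw [D_smul_pt H.hθ]
  simp

/-- The two-point stabiliser. -/
noncomputable def dHom : Fˣ →* ↥(MulAction.stabilizer ↥(GG θ) (pinf F) ⊓ MulAction.stabilizer ↥(GG θ) (pt θ (0 : F) 0)) where
  toFun c := ⟨dG H c.ne_zero, D_smul_inf c.ne_zero, fix_pt_zero H c.ne_zero⟩
  map_one' := by
    apply Subtype.ext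
    apply Subtype.ext
    exact D_one
  map_mul' c c' := by
    apply Subtype.ext
    apply Subtype.ext
    exact (D_mul c.ne_zero c'.ne_zero).symm

theorem dHom_bij : Function.Bijective (dHom H) := by
  constructor
  · intro c c' e
    have h4 := congrArg (fun u : ↥(MulAction.stabilizer ↥(GG θ) (pinf F) ⊓ MulAction.stabilizer ↥(GG θ) (pt θ (0 : F) 0)) => ((u : ↥(GG θ)) : SL4 F).1 2 2) e
    have h5 : (θ.symm (c : F))⁻¹ = (θ.symm (c' : F))⁻¹ := by
      simpa [dHom, dG, D, Dm] using h4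
    have h6 : (c : F) = c' := by
      have := inv_injective h5
      simpa using this
    exact Units.ext h6
  · rintro ⟨g, h1, h2⟩
    obtain ⟨a, ha, e⟩ := eq_D_of_fix H.hθ H.hσ H.hσ3 H.hlt g.2 h1 h2
    refine ⟨Units.mk0 a ha, ?_⟩
    apply Subtype.ext
    apply Subtype.ext
    exact e.symm

end

theorem thm_two_stab (hm : 1 ≤ m) (hF : Fintype.card F = 2 ^ (2 * m + 1)) :
    Nonempty (↥(MulAction.stabilizer (Cfsg.Sz F m) (Cfsg.suzukiPointInfinity F) ⊓
        MulAction.stabilizer (Cfsg.Sz F m) (Cfsg.suzukiPointZero F)) ≃* Fˣ) := by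
  obtain ⟨_, θ, H, hov, h⟩ := setup hm hF
  rw [pz_eq (θ := θ)]
  show Nonempty (↥(MulAction.stabilizer ↥(MulAction.stabilizer (SL4 F) (suzukiOvoid F m)) (pinf F) ⊓
    MulAction.stabilizer ↥(MulAction.stabilizer (SL4 F) (suzukiOvoid F m)) (pt θ (0 : F) 0)) ≃* Fˣ)
  rw [hov]
  exact ⟨(MulEquiv.ofBijective (dHom H) (dHom_bij H)).symm⟩

theorem thm_zassenhaus (hm : 1 ≤ m) (hF : Fintype.card F = 2 ^ (2 * m + 1)) :
    Cfsg.IsZassenhausGroup (Cfsg.Sz F m) (Cfsg.suzukiOvoid F m) := by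
  obtain ⟨_, θ, H, hov, h⟩ := setup hm hF
  show Cfsg.IsZassenhausGroup ↥(MulAction.stabilizer (SL4 F) (suzukiOvoid F m)) ↥(suzukiOvoid F m)
  rw [hov]
  refine ⟨faithful H, ?_, ?_, ?_, ?_⟩
  · rw [MulAction.is_two_pretransitive_iff]
    intro a b c d hab hcd
    obtain ⟨g1, rfl, rfl⟩ := two_trans H hab
    obtain ⟨g2, rfl, rfl⟩ := two_trans H hcd
    exact ⟨g2 * g1⁻¹, by simp [mul_smul], by simp [mul_smul]⟩
  · intro g a b c hab hbc hac ha hb hc
    exact three_fix H hab hbc hac ha hb hc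
  · obtain ⟨α, h0, h1⟩ := exists_alpha H
    refine ⟨dG H h0, ?_, p0 θ, p1 θ, p0_ne_p1, Subtype.ext (D_smul_inf h0), Subtype.ext (fix_pt_zero H h0)⟩
    intro e
    have e2 : D θ h0 = D θ (one_ne_zero : (1 : F) ≠ 0) := by
      rw [D_one]
      exact congrArg Subtype.val e
    have h4 := congrArg (fun u : SL4 F => u.1 2 2) e2
    have h5 : (θ.symm α)⁻¹ = (θ.symm 1)⁻¹ := by
      simpa [D, Dm] using h4
    have h6 : α = 1 := by
      have := inv_injective h5
      simpa using this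
    exact h1 h6
  · intro N hN hP
    haveI := simple H
    rcases hN.eq_bot_or_eq_top with rfl | rfl
    · exfalso
      obtain ⟨g, hg⟩ := hP.exists_smul_eq (p0 θ) (p1 θ)
      have : g = 1 := Subtype.ext (Subgroup.mem_bot.mp g.2)
      rw [this, one_smul] at hg
      exact p0_ne_p1 hg
    · obtain ⟨α, h0, h1⟩ := exists_alpha H
      refine ⟨p0 θ, ?_⟩
      intro e
      have hmem : (⟨dG H h0, trivial⟩ : ↥(⊤ : Subgroup ↥(GG θ))) ∈ MulAction.stabilizer ↥(⊤ : Subgroup ↥(GG θ)) (p0 θ) :=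
        Subtype.ext (D_smul_inf h0)
      rw [e, Subgroup.mem_bot] at hmem
      have e2 : D θ h0 = D θ (one_ne_zero : (1 : F) ≠ 0) := by
        rw [D_one]
        exact congrArg (fun x : ↥(⊤ : Subgroup ↥(GG θ)) => ((x : ↥(GG θ)) : SL4 F)) hmem
      have h4 := congrArg (fun u : SL4 F => u.1 2 2) e2
      have h5 : (θ.symm α)⁻¹ = (θ.symm 1)⁻¹ := by
        simpa [D, Dm] using h4
      have h6 : α = 1 := by
        have := inv_injective h5
        simpa using this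
      exact h1 h6

end Cfsg.Agent.Lib.SzG
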