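import Cfsg.Agent.Lib.SzG

/-! The Suzuki groups: the alternating form, independence, the Sylow 2-subgroup. -/

set_option autoImplicit false
set_option linter.unusedVariables false
set_option linter.unusedSectionVars false
set_option linter.unusedFintypeInType false
set_option linter.unusedDecidableInType false

namespace Cfsg.Agent.Lib.SzH

open scoped LinearAlgebra.Projectivization Pointwise
open Matrix Cfsg Cfsg.Agent.Lib.SzA Cfsg.Agent.Lib.SzB Cfsg.Agent.Lib.SzC Cfsg.Agent.Lib.SzD Cfsg.Agent.Lib.SzE Cfsg.Agent.Lib.SzF Cfsg.Agent.Lib.SzG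

variable {F : Type*} [Field F] [Fintype F] [CharP F 2] {θ : F ≃+* F} {σ : ℕ}

/-- Preserving the form. -/
def PF (g : SL4 F) : Prop := (g : Matrix (Fin 4) (Fin 4) F).transpose * suzukiForm F * (g : Matrix (Fin 4) (Fin 4) F) = suzukiForm F

theorem PF_mul {g h : SL4 F} (hg : PF g) (hh : PF h) : PF (g * h) := by
  unfold PF at *
  have e : ((g * h : SL4 F) : Matrix (Fin 4) (Fin 4) F) = g.1 * h.1 := rfl
  rw [e, Matrix.transpose_mul]
  calc h.1.transpose * g.1.transpose * suzukiForm F * (g.1 * h.1) = h.1.transpose * (g.1.transpose * suzukiForm F * g.1) * h.1 := by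
        simp only [Matrix.mul_assoc]
    _ = _ := by rw [hg, hh]

theorem PF_T (hθ : ∀ x : F, θ (θ x) = x ^ 2) (a b : F) : PF (T θ a b) := by
  unfold PF
  show (Tm θ a b).transpose * suzukiForm F * Tm θ a b = suzukiForm F
  have h := hθ a
  ext i j
  fin_cases i <;> fin_cases j <;> simp [Tm, suzukiForm, zz, Matrix.mul_apply, Fin.sum_univ_four, map_add, map_mul, h] <;> grind

theorem PF_D {c : F} (hc : c ≠ 0) : PF (D θ hc) := by
  unfold PF
  show (Dm θ c).transpose * suzukiForm F * Dm θ c = suzukiForm F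
  have h1 : θ.symm c ≠ 0 := by simpa using hc
  ext i j
  fin_cases i <;> fin_cases j <;> simp [Dm, suzukiForm, Matrix.mul_apply, Fin.sum_univ_four] <;> field_simp

theorem PF_W : PF (W F) := by
  unfold PF
  show (Wm : Matrix (Fin 4) (Fin 4) F).transpose * suzukiForm F * Wm = suzukiForm F
  ext i j
  fin_cases i <;> fin_cases j <;> simp [Wm, suzukiForm, Matrix.mul_apply, Fin.sum_univ_four]

theorem PF_of_mem (H : Good θ σ) {g : SL4 F} (hg : g ∈ GG θ) : PF g := by
  rcases G_form H hg with ⟨a, b, c, hc, rfl⟩ | ⟨a, b, a', b', c, hc, rfl⟩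
  · exact PF_mul (PF_T H.hθ _ _) (PF_D hc)
  · exact PF_mul (PF_mul (PF_mul (PF_T H.hθ _ _) PF_W) (PF_T H.hθ _ _)) (PF_D hc)

/-- Three distinct points are independent. -/
theorem indep (H : Good θ σ) (p : Fin 3 ↪ ↥(ov θ)) :
    Projectivization.Independent (fun i => (p i : ℙ F (Fin 4 → F))) := by
  have h01 : p 0 ≠ p 1 := fun e => by simpa using p.injective e
  have h02 : p 0 ≠ p 2 := fun e => by simpa using p.injective e
  have h12 : p 1 ≠ p 2 := fun e => by simpa using p.injective e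
  obtain ⟨g, hg0, hg1⟩ := two_trans H h01
  have hc2 : ((g⁻¹ • p 2 : ↥(ov θ)) : ℙ F (Fin 4 → F)) ∈ ov θ := (g⁻¹ • p 2).2
  rcases hc2 with h4 | ⟨x, y, h4⟩
  · exfalso
    apply h02
    have : g⁻¹ • p 2 = p0 θ := Subtype.ext h4
    rw [← hg0, ← this, smul_inv_smul]
  have hxy : ¬ (x = 0 ∧ y = 0) := by
    rintro ⟨rfl, rfl⟩
    apply h12
    have : g⁻¹ • p 2 = p1 θ := Subtype.ext h4
    rw [← hg1, ← this, smul_inv_smul]
  have hp2 : (p 2 : ℙ F (Fin 4 → F)) = (g : SL4 F) • pt θ x y := by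
    rw [← h4]
    show _ = ((g • (g⁻¹ • p 2) : ↥(ov θ)) : ℙ F (Fin 4 → F))
    rw [smul_inv_smul]
  have hp0 : (p 0 : ℙ F (Fin 4 → F)) = (g : SL4 F) • pinf F := by
    rw [← hg0]
    rfl
  have hp1 : (p 1 : ℙ F (Fin 4 → F)) = (g : SL4 F) • pt θ 0 0 := by
    rw [← hg1]
    rfl
  let v : Fin 3 → (Fin 4 → F) := ![e0 F, vv θ 0 0, vv θ x y]
  have hv : LinearIndependent F v := by
    rw [Fintype.linearIndependent_iff]
    intro c hc i
    have c0 := congrFun hc 0
    have c1 := congrFun hc 1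
    have c2 := congrFun hc 2
    have c3 := congrFun hc 3
    simp [Fin.sum_univ_three, v, e0, vv, zz] at c0 c1 c2 c3
    have h2 : c 2 = 0 := by
      by_contra hne
      apply hxy
      constructor
      · exact c2.resolve_left hne
      · exact c1.resolve_left hne
    rw [h2] at c0 c3
    simp at c0 c3
    fin_cases i
    · exact c0
    · exact c3
    · exact h2
  have hv' : LinearIndependent F (fun i => (g : SL4 F) • v i) := by
    have h1 := hv.map' (DistribMulAction.toLinearEquiv F (Fin 4 → F) (g : SL4 F)).toLinearMap (LinearEquiv.ker _)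
    exact h1
  have hne : ∀ i, (g : SL4 F) • v i ≠ 0 := fun i => hv'.ne_zero i
  have key := Projectivization.Independent.mk _ hne hv'
  convert key using 1
  funext i
  fin_cases i
  · show (p 0 : ℙ F (Fin 4 → F)) = _
    rw [hp0, pinf, Projectivization.smul_mk]
    rfl
  · show (p 1 : ℙ F (Fin 4 → F)) = _
    rw [hp1, pt, Projectivization.smul_mk]
    rfl
  · show (p 2 : ℙ F (Fin 4 → F)) = _
    rw [hp2, pt, Projectivization.smul_mk]
    rfl

variable {m : ℕ}

theorem thm_form (hm : 1 ≤ m) (hF : Fintype.card F = 2 ^ (2 * m + 1)) {g : Matrix.SpecialLinearGroup (Fin 4) F}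
    (hg : g ∈ Cfsg.Sz F m) :
    (g : Matrix (Fin 4) (Fin 4) F).transpose * Cfsg.suzukiForm F * (g : Matrix (Fin 4) (Fin 4) F) = Cfsg.suzukiForm F := by
  obtain ⟨_, θ, H, hov, h⟩ := setup hm hF
  have hg' : g ∈ GG θ := by
    have : g ∈ MulAction.stabilizer (SL4 F) (suzukiOvoid F m) := hg
    rwa [hov] at this
  exact PF_of_mem H hg'

theorem thm_indep (hm : 1 ≤ m) (hF : Fintype.card F = 2 ^ (2 * m + 1)) (p : Fin 3 ↪ Cfsg.suzukiOvoid F m) :
    Projectivization.Independent (fun i => (p i : Projectivization F (Fin 4 → F))) := by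
  obtain ⟨_, θ, H, hov, h⟩ := setup hm hF
  revert p
  rw [hov]
  intro p
  exact indep H p

end Cfsg.Agent.Lib.SzH
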