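import Cfsg.Agent.Lib.SzH

/-! The Suzuki groups: the Sylow 2-subgroup. -/

set_option autoImplicit false
set_option linter.unusedVariables false
set_option linter.unusedSectionVars false
set_option linter.unusedFintypeInType false
set_option linter.unusedDecidableInType false

namespace Cfsg.Agent.Lib.SzI

open scoped LinearAlgebra.Projectivization Pointwise
open Matrix Cfsg Cfsg.Agent.Lib.SzA Cfsg.Agent.Lib.SzB Cfsg.Agent.Lib.SzC Cfsg.Agent.Lib.SzD Cfsg.Agent.Lib.SzE Cfsg.Agent.Lib.SzF Cfsg.Agent.Lib.SzG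

variable {F : Type*} [Field F] [Fintype F] [CharP F 2] {θ : F ≃+* F} {σ : ℕ} (H : Good θ σ)
include H

/-- Elements of the Sylow group. -/
def uG (a b : F) : ↥(UU H) := ⟨tG H a b, a, b, rfl⟩

theorem uG_surj (x : ↥(UU H)) : ∃ a b, x = uG H a b := by
  obtain ⟨_, a, b, rfl⟩ := x
  exact ⟨a, b, rfl⟩

theorem uG_mul (a b c d : F) : uG H a b * uG H c d = uG H (a + c) (b + d + θ a * c) :=
  Subtype.ext (tG_mul H a b c d)

theorem uG_inj {a b c d : F} (h : uG H a b = uG H c d) : a = c ∧ b = d :=
  T_inj (congrArg (fun x : ↥(UU H) => ((x : ↥(GG θ)) : SL4 F)) h)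

theorem uG_one : uG H (0 : F) 0 = 1 := Subtype.ext (Subtype.ext T_one)

theorem uG_inv (a b : F) : (uG H a b)⁻¹ = uG H a (b + a * θ a) := Subtype.ext (Subtype.ext (T_inv H.hθ a b))

theorem comm_val (a b c d : F) : uG H a b * uG H c d * (uG H a b)⁻¹ * (uG H c d)⁻¹ = uG H 0 (θ a * c + θ c * a) := by
  rw [uG_inv, uG_inv, uG_mul, uG_mul, uG_mul]
  congr 1
  · grind
  · simp only [map_add]
    grind

theorem center_iff (a b : F) : uG H a b ∈ Subgroup.center ↥(UU H) ↔ a = 0 := by
  constructor
  · intro h
    by_contra ha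
    obtain ⟨α, h0, h1⟩ := exists_alpha H
    have h2 := (Subgroup.mem_center_iff.mp h) (uG H (α * a) 0)
    rw [uG_mul, uG_mul] at h2
    obtain ⟨_, h3⟩ := uG_inj H h2
    have hθa : θ a ≠ 0 := theta_ne_zero H ha
    have h4 : θ α = α := by
      rw [map_mul] at h3
      have h5 : θ α * θ a * a = α * a * θ a := by grind
      have h6 : θ α * (θ a * a) = α * (θ a * a) := by
        linear_combination h5
      exact mul_right_cancel₀ (mul_ne_zero hθa ha) h6
    have h5 : α ^ 2 = α := by
      rw [← H.hθ α, h4, h4]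
    apply h1
    have h6 : α * (α - 1) = 0 := by
      linear_combination h5
    rcases mul_eq_zero.mp h6 with h7 | h7
    · exact absurd h7 h0
    · exact sub_eq_zero.mp h7
  · rintro rfl
    rw [Subgroup.mem_center_iff]
    intro x
    obtain ⟨c, d, rfl⟩ := uG_surj H x
    rw [uG_mul, uG_mul]
    congr 1
    · grind
    · simp
      ring

theorem gamma_surj : Function.Surjective (fun a : F => a * θ a) := by
  apply Finite.injective_iff_surjective.mp
  intro a a' h
  simp only at h
  by_cases ha' : a' = 0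
  · subst ha'
    simp at h
    exact h
  · have hθ' : θ a' ≠ 0 := theta_ne_zero H ha'
    have h1 : (a / a') * θ (a / a') = 1 := by
      rw [map_div₀]
      field_simp
      linear_combination h
    have h2 := eq_one_of_theta H h1
    field_simp at h2
    exact h2

theorem comm_eq_center : commutator ↥(UU H) = Subgroup.center ↥(UU H) := by
  apply le_antisymm
  · rw [commutator_def, Subgroup.commutator_le]
    intro x _ y _
    obtain ⟨a, b, rfl⟩ := uG_surj H x
    obtain ⟨c, d, rfl⟩ := uG_surj H y
    rw [commutatorElement_def, comm_val]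
    exact (center_iff H _ _).mpr rfl
  · intro x hx
    obtain ⟨a, b, rfl⟩ := uG_surj H x
    obtain rfl := (center_iff H _ _).mp hx
    obtain ⟨α, h0, h1⟩ := exists_alpha H
    have hμ : α + θ α ≠ 0 := by
      intro e
      have h4 : θ α = α := by grind
      have h5 : α ^ 2 = α := by
        rw [← H.hθ α, h4, h4]
      apply h1
      have h6 : α * (α - 1) = 0 := by
        linear_combination h5
      rcases mul_eq_zero.mp h6 with h7 | h7
      · exact absurd h7 h0
      · exact sub_eq_zero.mp h7
    obtain ⟨c, hc⟩ := gamma_surj H (b / (α + θ α))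
    simp only at hc
    have e : uG H 0 b = uG H c 0 * uG H (α * c) 0 * (uG H c 0)⁻¹ * (uG H (α * c) 0)⁻¹ := by
      rw [comm_val]
      congr 1
      rw [map_mul]
      have h5 : c * θ c * (α + θ α) = b := by
        rw [hc]
        field_simp
      rw [← h5]
      ring
    rw [e]
    exact Subgroup.commutator_mem_commutator (Subgroup.mem_top _) (Subgroup.mem_top _)

theorem card_center : Nat.card ↥(Subgroup.center ↥(UU H)) = Fintype.card F := by
  let g : F → ↥(Subgroup.center ↥(UU H)) := fun b => ⟨uG H 0 b, (center_iff H _ _).mpr rfl⟩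
  have hg : Function.Bijective g := by
    constructor
    · intro b b' h
      exact (uG_inj H (congrArg Subtype.val h)).2
    · rintro ⟨x, hx⟩
      obtain ⟨a, b, rfl⟩ := uG_surj H x
      obtain rfl := (center_iff H _ _).mp hx
      exact ⟨b, rfl⟩
  rw [← Nat.card_eq_of_bijective g hg, Nat.card_eq_fintype_card]

theorem exponent_UU : Monoid.exponent ↥(UU H) = 4 := by
  have h4 : ∀ x : ↥(UU H), x ^ 4 = 1 := by
    intro x
    obtain ⟨_, a, b, rfl⟩ := x
    apply Subtype.ext
    apply Subtype.ext
    exact t_four H a b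
  have hd : Monoid.exponent ↥(UU H) ∣ 2 ^ 2 := Monoid.exponent_dvd_of_forall_pow_eq_one h4
  obtain ⟨k, hk, e⟩ := (Nat.dvd_prime_pow Nat.prime_two).mp hd
  have hk2 : k = 2 := by
    by_contra hne
    have hk1 : k ≤ 1 := by omega
    have h2 : uG H (1 : F) 0 ^ 2 = 1 := by
      have hd2 : Monoid.exponent ↥(UU H) ∣ 2 := by
        rw [e]
        exact Nat.pow_dvd_pow 2 hk1
      obtain ⟨c, hc⟩ := hd2
      rw [hc, pow_mul, Monoid.pow_exponent_eq_one, one_pow]
    rw [sq, uG_mul, ← uG_one H] at h2
    obtain ⟨_, h3⟩ := uG_inj H h2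
    simp at h3
  rw [e, hk2]
  norm_num

/-- `U` is a Sylow subgroup. -/
theorem index_UU : (UU H).index = (Fintype.card F ^ 2 + 1) * (Fintype.card F - 1) := by
  have h1 := Subgroup.card_mul_index (UU H)
  rw [card_UU, card_G H] at h1
  have hq : 0 < Fintype.card F ^ 2 := pow_pos Fintype.card_pos 2
  apply Nat.eq_of_mul_eq_mul_left hq
  rw [h1]
  ring

omit H in
theorem two_dvd_card : 2 ∣ Fintype.card F := by
  have := (CharP.cast_eq_zero_iff F 2 (Fintype.card F)).mp (FiniteField.cast_card_eq_zero F)
  exact this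

theorem not_two_dvd_index : ¬ 2 ∣ (UU H).index := by
  rw [index_UU H]
  intro h
  have h2 := two_dvd_card (F := F)
  have h5 := card_F_ge H
  rcases (Nat.Prime.dvd_mul Nat.prime_two).mp h with h3 | h3
  · have h4 : 2 ∣ Fintype.card F ^ 2 := dvd_pow h2 two_ne_zero
    omega
  · omega

/-- The Sylow subgroup `U`. -/
noncomputable def sylowU : Sylow 2 ↥(GG θ) :=
  haveI : Fact (Nat.Prime 2) := ⟨Nat.prime_two⟩
  (UU_pgroup H).toSylow (not_two_dvd_index H)

theorem sylowU_coe : ((sylowU H : Sylow 2 ↥(GG θ)) : Subgroup ↥(GG θ)) = UU H := rfl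

/-- Any Sylow subgroup is isomorphic to `U`. -/
noncomputable def sylowEquiv (P : Sylow 2 ↥(GG θ)) : ↥(P : Subgroup ↥(GG θ)) ≃* ↥(UU H) :=
  haveI : Fact (Nat.Prime 2) := ⟨Nat.prime_two⟩
  P.equiv (sylowU H)

omit H in
theorem center_comm_transfer {A B : Type*} [Group A] [Group B] (e : A ≃* B) (h : commutator B = Subgroup.center B) :
    Subgroup.center A = commutator A := by
  have hc : (commutator A).map e.toMonoidHom = commutator B := by
    rw [commutator_def, Subgroup.map_commutator, commutator_def]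
    have : (⊤ : Subgroup A).map e.toMonoidHom = ⊤ := Subgroup.map_top_of_surjective _ e.surjective
    rw [this]
  ext x
  constructor
  · intro hx
    have h1 : e x ∈ Subgroup.center B := by
      rw [Subgroup.mem_center_iff]
      intro y
      obtain ⟨y', rfl⟩ := e.surjective y
      rw [← map_mul, ← map_mul, (Subgroup.mem_center_iff.mp hx) y']
    rw [← h, ← hc] at h1
    obtain ⟨z, hz, hzx⟩ := h1
    have : z = x := e.injective hzx
    rwa [← this]
  · intro hx
    have h1 : e x ∈ commutator B := by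
      rw [← hc]
      exact ⟨x, hx, rfl⟩
    rw [h] at h1
    rw [Subgroup.mem_center_iff]
    intro y
    apply e.injective
    rw [map_mul, map_mul]
    exact (Subgroup.mem_center_iff.mp h1) (e y)

theorem sylow_facts (P : Sylow 2 ↥(GG θ)) :
    Nat.card P = Fintype.card F ^ 2 ∧ Monoid.exponent P = 4 ∧
      Subgroup.center P = commutator P ∧ Nat.card (Subgroup.center P) = Fintype.card F := by
  have e := sylowEquiv H P
  refine ⟨?_, ?_, ?_, ?_⟩
  · rw [Nat.card_congr e.toEquiv, card_UU]
  · rw [Monoid.exponent_eq_of_mulEquiv e, exponent_UU H]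
  · exact center_comm_transfer e (comm_eq_center H)
  · rw [← card_center H]
    exact Nat.card_congr (Subgroup.centerCongr e).toEquiv

end Cfsg.Agent.Lib.SzI
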