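import Cfsg.Agent.Lib.SzI

/-! The Suzuki groups: fixed points and centralisers. -/

set_option autoImplicit false
set_option linter.unusedVariables false
set_option linter.unusedSectionVars false
set_option linter.unusedFintypeInType false
set_option linter.unusedDecidableInType false

namespace Cfsg.Agent.Lib.SzJ

open scoped LinearAlgebra.Projectivization Pointwise
open Matrix Cfsg Cfsg.Agent.Lib.SzA Cfsg.Agent.Lib.SzB Cfsg.Agent.Lib.SzC Cfsg.Agent.Lib.SzD Cfsg.Agent.Lib.SzE Cfsg.Agent.Lib.SzF Cfsg.Agent.Lib.SzG Cfsg.Agent.Lib.SzI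

variable {F : Type*} [Field F] [Fintype F] [CharP F 2] {θ : F ≃+* F} {σ : ℕ} (H : Good θ σ)
include H

omit H in
theorem D_inj {c c' : F} (hc : c ≠ 0) (hc' : c' ≠ 0) (h : D θ hc = D θ hc') : c = c' := by
  have h4 := congrArg (fun u : SL4 F => u.1 2 2) h
  have h5 : (θ.symm c)⁻¹ = (θ.symm c')⁻¹ := by
    simpa [D, Dm] using h4
  have := inv_injective h5
  simpa using this

omit H in
theorem W_D_W {c : F} (hc : c ≠ 0) : W F * D θ hc * W F = D θ (inv_ne_zero hc) := by
  apply Subtype.ext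
  show Wm * Dm θ c * Wm = Dm θ c⁻¹
  have h1 : θ.symm c ≠ 0 := by simpa using hc
  ext i j
  fin_cases i <;> fin_cases j <;> simp [Wm, Dm, Matrix.mul_apply, Fin.sum_univ_four] <;> ring

theorem X_cases (x : ↥(ov θ)) : x = p0 θ ∨ ∃ a b, (x : ℙ F (Fin 4 → F)) = pt θ a b := by
  obtain ⟨x, hx⟩ := x
  rcases hx with h | ⟨a, b, h⟩
  · left
    exact Subtype.ext h
  · right
    exact ⟨a, b, h⟩

theorem T_fix {a b x y : F} (h : T θ a b • pt θ x y = pt θ x y) : a = 0 ∧ b = 0 := by
  rw [T_smul_pt H.hθ] at h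
  obtain ⟨h1, h2⟩ := pt_inj h
  have ha : a = 0 := by grind
  subst ha
  simp at h2
  exact ⟨rfl, by grind⟩

theorem D_fix {c x y : F} (hc : c ≠ 0) (hc1 : c ≠ 1) (h : D θ hc • pt θ x y = pt θ x y) : x = 0 ∧ y = 0 := by
  rw [D_smul_pt H.hθ] at h
  obtain ⟨h1, h2⟩ := pt_inj h
  constructor
  · by_contra hx
    exact hc1 (mul_right_cancel₀ hx (by rw [h1, one_mul]))
  · by_contra hy
    exact hc1 (eq_one_of_theta H (mul_right_cancel₀ hy (by rw [h2, one_mul])))

/-- An element of `B` with nontrivial torus part has a second fixed point. -/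
theorem second_fix (a b : F) {c : F} (hc : c ≠ 0) (hc1 : c ≠ 1) :
    ∃ x y, (T θ a b * D θ hc) • pt θ x y = pt θ x y := by
  have h1 : 1 + c ≠ 0 := by
    intro e
    apply hc1
    grind
  have h2 : 1 + c * θ c ≠ 0 := by
    intro e
    apply hc1
    apply eq_one_of_theta H
    grind
  set x := a / (1 + c) with hx
  set y := (b + θ a * (c * x)) / (1 + c * θ c) with hy
  refine ⟨x, y, ?_⟩
  rw [mul_smul, D_smul_pt H.hθ, T_smul_pt H.hθ]
  have e1 : x * (1 + c) = a := by
    rw [hx]
    exact div_mul_cancel₀ _ h1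
  have e2 : y * (1 + c * θ c) = b + θ a * (c * x) := by
    rw [hy]
    exact div_mul_cancel₀ _ h2
  congr 1
  · grind
  · grind

/-- The fixed-point classification. -/
theorem trichotomy (g : ↥(GG θ)) (hg : g ≠ 1) :
    (∃ (h : ↥(GG θ)) (a b : F), ¬ (a = 0 ∧ b = 0) ∧ g = h * tG H a b * h⁻¹) ∨
    (∃ (h : ↥(GG θ)) (c : F) (hc : c ≠ 0), c ≠ 1 ∧ g = h * dG H hc * h⁻¹) ∨
    (∀ x : ↥(ov θ), g • x ≠ x) := by
  by_cases hfix : ∀ x : ↥(ov θ), g • x ≠ x
  · exact Or.inr (Or.inr hfix)
  push Not at hfix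
  obtain ⟨x, hx⟩ := hfix
  obtain ⟨h, rfl⟩ := exists_move H x
  have hB : h⁻¹ * g * h ∈ BB θ := by
    rw [MulAction.mem_stabilizer_iff, mul_smul, mul_smul, hx, inv_smul_smul]
  obtain ⟨a, b, c, hc, e⟩ := (mem_B_iff H).mp hB
  have hg' : g = h * (tG H a b * dG H hc) * h⁻¹ := by
    rw [← e]
    group
  by_cases hc1 : c = 1
  · subst hc1
    left
    have e2 : tG H a b * dG H hc = tG H a b := by
      apply Subtype.ext
      show T θ a b * D θ hc = T θ a b
      rw [show D θ hc = 1 from D_one, mul_one]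
    rw [e2] at hg'
    refine ⟨h, a, b, ?_, hg'⟩
    rintro ⟨rfl, rfl⟩
    apply hg
    rw [hg']
    have : tG H (0 : F) 0 = 1 := Subtype.ext T_one
    rw [this]
    group
  · right
    left
    obtain ⟨x, y, e3⟩ := second_fix H a b hc hc1
    set u := tG H x y with hu
    have hfix0 : (u⁻¹ * (tG H a b * dG H hc) * u) • pinf F = pinf F := by
      show ((T θ x y)⁻¹ * (T θ a b * D θ hc) * T θ x y) • pinf F = pinf F
      rw [mul_smul, mul_smul, T_smul_inf, mul_smul, D_smul_inf, T_smul_inf, inv_smul_eq_iff, T_smul_inf]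
    have hfix1 : (u⁻¹ * (tG H a b * dG H hc) * u) • pt θ (0 : F) 0 = pt θ 0 0 := by
      show ((T θ x y)⁻¹ * (T θ a b * D θ hc) * T θ x y) • pt θ (0 : F) 0 = pt θ 0 0
      rw [mul_smul, mul_smul, T_pt_zero H, e3, inv_smul_eq_iff, T_pt_zero H]
    obtain ⟨c', hc', e4⟩ := eq_D_of_fix H.hθ H.hσ H.hσ3 H.hlt (u⁻¹ * (tG H a b * dG H hc) * u).2 hfix0 hfix1
    have e5 : u⁻¹ * (tG H a b * dG H hc) * u = dG H hc' := Subtype.ext e4
    have e6 : tG H a b * dG H hc = u * dG H hc' * u⁻¹ := by
      rw [← e5]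
      group
    refine ⟨h * u, c', hc', ?_, ?_⟩
    · rintro rfl
      apply hg
      have : dG H hc' = 1 := Subtype.ext D_one
      rw [hg', e6, this]
      group
    · rw [hg', e6]
      group

/-- The centraliser of a unipotent element lies in `U`. -/
theorem cent_U {a b : F} (hab : ¬ (a = 0 ∧ b = 0)) {y : ↥(GG θ)} (hy : y * tG H a b = tG H a b * y) : y ∈ UU H := by
  have h0 : ∀ z : ↥(ov θ), tG H a b • z = z → z = p0 θ := by
    intro z hz
    rcases X_cases H z with rfl | ⟨x', y', h⟩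
    · rfl
    · exfalso
      have := congrArg Subtype.val hz
      rw [coe_smul, h] at this
      exact hab (T_fix H this)
  have h1 : y • p0 θ = p0 θ := by
    apply h0
    rw [← mul_smul, ← hy, mul_smul]
    congr 1
    exact Subtype.ext (T_smul_inf a b)
  have hB : y ∈ BB θ := h1
  obtain ⟨a', b', c', hc', rfl⟩ := (mem_B_iff H).mp hB
  by_cases hc1 : c' = 1
  · subst hc1
    refine ⟨a', b', ?_⟩
    apply Subtype.ext
    show T θ a' b' * D θ hc' = T θ a' b'
    rw [show D θ hc' = 1 from D_one, mul_one]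
  · exfalso
    obtain ⟨x, y, e3⟩ := second_fix H a' b' hc' hc1
    set yy := tG H a' b' * dG H hc' with hyy
    set z2 : ↥(ov θ) := ⟨pt θ x y, pt_mem x y⟩ with hz2
    have hfz : yy • z2 = z2 := Subtype.ext e3
    have hz0 : z2 ≠ p0 θ := by
      intro e
      exact pt_ne_inf _ _ (congrArg Subtype.val e)
    have ht : tG H a b • z2 ≠ z2 := fun e => hz0 (h0 _ e)
    have ht0 : tG H a b • z2 ≠ p0 θ := by
      intro e
      apply hz0
      have e2 : tG H a b • p0 θ = p0 θ := Subtype.ext (T_smul_inf a b)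
      rw [← e2] at e
      exact smul_left_cancel _ e
    have hfix3 : yy • (tG H a b • z2) = tG H a b • z2 := by
      rw [← mul_smul, hy, mul_smul, hfz]
    have hone : yy = 1 := three_fix H (Ne.symm hz0) (Ne.symm ht) (Ne.symm ht0) h1 hfz hfix3
    have hchi : c' = 1 := by
      have h2 : T θ a' b' * D θ hc' = 1 := congrArg Subtype.val hone
      have h3 := entry_TD (θ := θ) a' b' c' hc'
      rw [h2] at h3
      have h4 : θ.symm c' = 1 := by
        have h5 : (1 : SL4 F).1 2 2 = 1 := by simp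
        rw [h5] at h3
        exact inv_eq_one.mp h3.symm
      have := congrArg θ h4
      simpa using this
    exact hc1 hchi

/-- The centraliser of a nontrivial diagonal element consists of diagonal elements. -/
theorem cent_D {c : F} (hc : c ≠ 0) (hc1 : c ≠ 1) {y : ↥(GG θ)} (hy : y * dG H hc = dG H hc * y) : ∃ (c' : F) (hc' : c' ≠ 0), y = dG H hc' := by
  have h0 : ∀ z : ↥(ov θ), dG H hc • z = z → z = p0 θ ∨ z = p1 θ := by
    intro z hz
    rcases X_cases H z with rfl | ⟨x', y', h⟩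
    · exact Or.inl rfl
    · right
      have := congrArg Subtype.val hz
      rw [coe_smul, h] at this
      obtain ⟨rfl, rfl⟩ := D_fix H hc hc1 this
      exact Subtype.ext h
  have f0 : dG H hc • p0 θ = p0 θ := Subtype.ext (D_smul_inf hc)
  have f1 : dG H hc • p1 θ = p1 θ := Subtype.ext (fix_pt_zero H hc)
  have h1 : y • p0 θ = p0 θ ∨ y • p0 θ = p1 θ := by
    apply h0
    rw [← mul_smul, ← hy, mul_smul, f0]
  have h2 : y • p1 θ = p0 θ ∨ y • p1 θ = p1 θ := by
    apply h0
    rw [← mul_smul, ← hy, mul_smul, f1]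
  rcases h1 with h1 | h1
  · rcases h2 with h2 | h2
    · exfalso
      exact p0_ne_p1 (smul_left_cancel _ (h2.trans h1.symm)).symm
    · obtain ⟨c', hc', e⟩ := eq_D_of_fix H.hθ H.hσ H.hσ3 H.hlt y.2 (congrArg Subtype.val h1) (congrArg Subtype.val h2)
      exact ⟨c', hc', Subtype.ext e⟩
  · rcases h2 with h2 | h2
    · exfalso
      have w0 : wG H • p0 θ = p1 θ := Subtype.ext W_smul_inf
      have w1 : wG H • p1 θ = p0 θ := Subtype.ext W_smul_zero
      have e0 : (wG H * y) • p0 θ = p0 θ := by rw [mul_smul, h1, w1]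
      have e1 : (wG H * y) • p1 θ = p1 θ := by rw [mul_smul, h2, w0]
      obtain ⟨c', hc', e⟩ := eq_D_of_fix H.hθ H.hσ H.hσ3 H.hlt (wG H * y).2 (congrArg Subtype.val e0) (congrArg Subtype.val e1)
      have e2 : W F * y.1 = D θ hc' := e
      have e3 : y.1 = W F * D θ hc' := by
        rw [← e2, ← mul_assoc, W_mul_self, one_mul]
      have e4 : y.1 * D θ hc = D θ hc * y.1 := congrArg Subtype.val hy
      rw [e3] at e4
      have e5 : D θ hc' * D θ hc = D θ hc * D θ hc' := by
        rw [D_mul, D_mul]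
        exact D_congr _ _ (mul_comm _ _)
      have e6 : W F * D θ hc * W F = D θ hc := by
        have : W F * D θ hc = D θ hc * W F := by
          have e7 : W F * (D θ hc' * D θ hc) = D θ hc * (W F * D θ hc') := by
            rw [← mul_assoc]
            exact e4
          rw [e5, ← mul_assoc, ← mul_assoc] at e7
          exact mul_right_cancel e7
        rw [this, mul_assoc, W_mul_self, mul_one]
      rw [W_D_W] at e6
      have e7 := D_inj _ _ e6
      apply hc1
      have h8 : c ^ 2 = 1 := by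
        field_simp at e7
        exact e7.symm
      exact sq_inj (by rw [h8, one_pow])
    · exfalso
      exact p0_ne_p1 (smul_left_cancel _ (h2.trans h1.symm)).symm

end Cfsg.Agent.Lib.SzJ
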