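import Mathlib

/-! Linear elements of prime order with irreducible action in dimension four. -/

set_option autoImplicit false
set_option linter.unusedVariables false
set_option linter.unusedSectionVars false
set_option linter.unusedFintypeInType false
set_option linter.unusedDecidableInType false

namespace Cfsg.Agent.Lib.SzK

open Matrix

/-- Counting modulo `p` for a permutation whose `p`-th power is trivial. -/
theorem perm_modeq {α : Type*} [Finite α] {p : ℕ} [Fact p.Prime] (f : Equiv.Perm α) (hf : f ^ p = 1) :
    Nat.card α ≡ Nat.card {x // f x = x} [MOD p] := by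
  have hG : IsPGroup p ↥(Subgroup.zpowers f) := by
    rintro ⟨_, k, rfl⟩
    refine ⟨1, ?_⟩
    apply Subtype.ext
    show ((f ^ k) ^ p ^ 1 : Equiv.Perm α) = 1
    rw [pow_one, ← zpow_natCast, zpow_comm, zpow_natCast, hf, _root_.one_zpow]
  have h := hG.card_modEq_card_fixedPoints α
  have e : Nat.card (MulAction.fixedPoints ↥(Subgroup.zpowers f) α) = Nat.card {x // f x = x} := by
    apply Nat.card_congr
    apply Equiv.subtypeEquivRight
    intro x
    constructor
    · intro hx
      exact hx ⟨f, Subgroup.mem_zpowers f⟩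
    · rintro hx ⟨_, k, rfl⟩
      show (f ^ k) x = x
      have hk : ∀ k : ℤ, (f ^ k) x = x := by
        intro k
        exact (Equiv.Perm.zpow_apply_eq_self_of_apply_eq_self hx k)
      exact hk k
  rwa [e] at h

section arith
variable {q p : ℕ}

theorem pow_eq_one_of_mod {p : ℕ} [Fact p.Prime] {q : ℕ} (hdvd : p ∣ q ^ 2 + 1) (h2 : 2 ∣ q) {d : ℕ} (hd : d ≤ 4)
    (h : (q : ZMod p) ^ d = 1) : d = 0 ∨ d = 4 := by
  have hQ : (q : ZMod p) ^ 2 = -1 := by
    have := (ZMod.natCast_eq_zero_iff (q ^ 2 + 1) p).mpr hdvd
    push_cast at this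
    linear_combination this
  have hp2 : (2 : ZMod p) ≠ 0 := by
    intro e
    have h3 : (2 : ℕ) ∣ p := by
      have h4 : ((2 : ℕ) : ZMod p) = 0 := by exact_mod_cast e
      have := (ZMod.natCast_eq_zero_iff 2 p).mp h4
      have hp := (Fact.out : p.Prime)
      have h6 : p = 2 := (Nat.prime_dvd_prime_iff_eq hp Nat.prime_two).mp this
      rw [h6]
    have h5 : 2 ∣ q ^ 2 + 1 := h3.trans hdvd
    have h6 : 2 ∣ q ^ 2 := dvd_pow h2 two_ne_zero
    omega
  interval_cases d
  · exact Or.inl rfl
  · exfalso
    rw [pow_one] at h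
    rw [h] at hQ
    apply hp2
    linear_combination hQ
  · exfalso
    rw [h] at hQ
    apply hp2
    linear_combination hQ
  · exfalso
    have h1 : (q : ZMod p) = -1 := by
      have e3 : (q : ZMod p) ^ 3 = (q : ZMod p) ^ 2 * q := by ring
      rw [e3, hQ] at h
      linear_combination -h
    rw [h1] at hQ
    apply hp2
    linear_combination hQ
  · exact Or.inr rfl

end arith

variable {F : Type*} [Field F] [Fintype F]

/-- A linear map of order `p` on `F^4`, `p ∣ q² + 1`, acts irreducibly. -/
theorem irr_submodule {p : ℕ} [Fact p.Prime] {A : Matrix (Fin 4) (Fin 4) F} (hA : A ^ p = 1) (hne : A ≠ 1)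
    (hdvd : p ∣ Fintype.card F ^ 2 + 1) (h2 : 2 ∣ Fintype.card F) (W : Submodule F (Fin 4 → F))
    (hW : ∀ v ∈ W, A.mulVec v ∈ W) : W = ⊥ ∨ W = ⊤ := by
  classical
  -- `A` acts as a permutation on each invariant subspace.
  have hpow : ∀ (k : ℕ) (v : Fin 4 → F), (A ^ k).mulVec v = (A.mulVec)^[k] v := by
    intro k v
    induction k generalizing v with
    | zero => simp
    | succ k ih =>
      rw [pow_succ, ← Matrix.mulVec_mulVec, ih, Function.iterate_succ_apply]
  have hp0 : 0 < p := (Fact.out : p.Prime).pos
  have key : ∀ W : Submodule F (Fin 4 → F), (∀ v ∈ W, A.mulVec v ∈ W) →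
      Nat.card W ≡ Nat.card {v : W // A.mulVec v.1 = v.1} [MOD p] := by
    intro W hW
    let g : W → W := fun v => ⟨A.mulVec v.1, hW v.1 v.2⟩
    have hg : ∀ (k : ℕ) (v : W), ((g^[k]) v).1 = (A ^ k).mulVec v.1 := by
      intro k v
      induction k with
      | zero => simp
      | succ k ih =>
        rw [Function.iterate_succ_apply', pow_succ']
        show A.mulVec ((g^[k]) v).1 = _
        rw [ih, Matrix.mulVec_mulVec]
    have hg1 : Function.Bijective g := by
      have : Function.Injective g := by
        intro v v' h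
        have h1 : g^[p - 1] (g v) = g^[p - 1] (g v') := by rw [h]
        rw [← Function.iterate_succ_apply, ← Function.iterate_succ_apply, Nat.succ_eq_add_one, Nat.sub_add_cancel hp0] at h1
        apply Subtype.ext
        have h3 := congrArg Subtype.val h1
        rw [hg, hg, hA] at h3
        simpa using h3
      exact ⟨this, Finite.injective_iff_surjective.mp this⟩
    let f : Equiv.Perm W := Equiv.ofBijective g hg1
    have hf : f ^ p = 1 := by
      ext1 v
      apply Subtype.ext
      have h1 : ((f ^ p) v : W) = g^[p] v := by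
        have : ∀ k : ℕ, ((f ^ k) v : W) = g^[k] v := by
          intro k
          induction k with
          | zero => rfl
          | succ k ih =>
            rw [pow_succ', Equiv.Perm.mul_apply, ih, Function.iterate_succ_apply']
            rfl
        exact this p
      rw [h1, hg, hA]
      simp
    have h5 := perm_modeq f hf
    have e5 : Nat.card {x // f x = x} = Nat.card {v : W // A.mulVec v.1 = v.1} :=
      Nat.card_congr (Equiv.subtypeEquivRight (fun v => ⟨fun h => congrArg Subtype.val h, fun h => Subtype.ext h⟩))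
    rw [e5] at h5
    exact h5
  -- the fixed vectors
  set V0 : Submodule F (Fin 4 → F) := LinearMap.ker (Matrix.mulVecLin A - LinearMap.id) with hV0
  have mem_V0 : ∀ v, v ∈ V0 ↔ A.mulVec v = v := by
    intro v
    simp [hV0, sub_eq_zero]
  have hcard : ∀ W : Submodule F (Fin 4 → F), Nat.card W = Fintype.card F ^ Module.finrank F W := by
    intro W
    rw [Nat.card_eq_fintype_card]
    exact Module.card_eq_pow_finrank
  have hrank : ∀ W : Submodule F (Fin 4 → F), Module.finrank F W ≤ 4 := by
    intro W
    have := Submodule.finrank_le W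
    simpa using this
  have hV0bot : V0 = ⊥ := by
    have h1 := key ⊤ (fun _ _ => trivial)
    have e1 : Nat.card {v : (⊤ : Submodule F (Fin 4 → F)) // A.mulVec v.1 = v.1} = Nat.card V0 := by
      apply Nat.card_congr
      exact { toFun := fun v => ⟨v.1.1, (mem_V0 _).mpr v.2⟩
              invFun := fun v => ⟨⟨v.1, trivial⟩, (mem_V0 _).mp v.2⟩
              left_inv := fun _ => rfl
              right_inv := fun _ => rfl }
    rw [e1, hcard, hcard, finrank_top] at h1
    have hd : Module.finrank F (Fin 4 → F) = 4 := by simp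
    rw [hd] at h1
    have h3 : ((Fintype.card F : ℕ) : ZMod p) ^ 4 = ((Fintype.card F : ℕ) : ZMod p) ^ Module.finrank F V0 := by
      have := (ZMod.natCast_eq_natCast_iff _ _ _).mpr h1
      push_cast at this
      exact this
    have hQ4 : ((Fintype.card F : ℕ) : ZMod p) ^ 4 = 1 := by
      have hQ : ((Fintype.card F : ℕ) : ZMod p) ^ 2 = -1 := by
        have := (ZMod.natCast_eq_zero_iff (Fintype.card F ^ 2 + 1) p).mpr hdvd
        push_cast at this
        linear_combination this
      have e : ((Fintype.card F : ℕ) : ZMod p) ^ 4 = (((Fintype.card F : ℕ) : ZMod p) ^ 2) ^ 2 := by ring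
      rw [e, hQ]
      ring
    rw [hQ4] at h3
    rcases pow_eq_one_of_mod hdvd h2 (hrank V0) h3.symm with h4 | h4
    · exact Submodule.finrank_eq_zero.mp h4
    · exfalso
      apply hne
      have h5 : V0 = ⊤ := by
        apply Submodule.eq_top_of_finrank_eq
        rw [h4]
        simp
      ext i j
      have h6 : (Pi.single j 1 : Fin 4 → F) ∈ V0 := by rw [h5]; trivial
      have h7 := congrFun ((mem_V0 _).mp h6) i
      simpa [Matrix.mulVec_single, Matrix.one_apply, Pi.single_apply, eq_comm] using h7
  -- now an arbitrary invariant subspace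
  have h1 := key W hW
  have e1 : Nat.card {v : W // A.mulVec v.1 = v.1} = 1 := by
    rw [Nat.card_eq_one_iff_unique]
    constructor
    · constructor
      rintro ⟨v, hv⟩ ⟨v', hv'⟩
      have h3 : v.1 ∈ V0 := (mem_V0 _).mpr hv
      have h4 : v'.1 ∈ V0 := (mem_V0 _).mpr hv'
      rw [hV0bot, Submodule.mem_bot] at h3 h4
      apply Subtype.ext
      apply Subtype.ext
      rw [h3, h4]
    · exact ⟨⟨0, by simp⟩⟩
  rw [e1, hcard] at h1
  have h3 : ((Fintype.card F : ℕ) : ZMod p) ^ Module.finrank F W = 1 := by
    have := (ZMod.natCast_eq_natCast_iff _ _ _).mpr h1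
    push_cast at this
    exact this
  rcases pow_eq_one_of_mod hdvd h2 (hrank W) h3 with h4 | h4
  · left
    exact Submodule.finrank_eq_zero.mp h4
  · right
    apply Submodule.eq_top_of_finrank_eq
    rw [h4]
    simp

/-- The centraliser of such a matrix is a domain. -/
theorem injective_of_comm {p : ℕ} [Fact p.Prime] {A : Matrix (Fin 4) (Fin 4) F} (hA : A ^ p = 1) (hne : A ≠ 1)
    (hdvd : p ∣ Fintype.card F ^ 2 + 1) (h2 : 2 ∣ Fintype.card F) {y : Matrix (Fin 4) (Fin 4) F} (hy : y * A = A * y) (hy0 : y ≠ 0) :
    Function.Injective y.mulVec := by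
  have h1 := irr_submodule hA hne hdvd h2 (LinearMap.ker (Matrix.mulVecLin y)) (by
    intro v hv
    rw [LinearMap.mem_ker, Matrix.mulVecLin_apply] at hv ⊢
    rw [Matrix.mulVec_mulVec, hy, ← Matrix.mulVec_mulVec, hv, Matrix.mulVec_zero])
  rcases h1 with h1 | h1
  · have := LinearMap.ker_eq_bot.mp h1
    exact this
  · exfalso
    apply hy0
    ext i j
    have h3 : (Pi.single j 1 : Fin 4 → F) ∈ LinearMap.ker (Matrix.mulVecLin y) := by rw [h1]; trivial
    rw [LinearMap.mem_ker, Matrix.mulVecLin_apply, Matrix.mulVec_single] at h3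
    have h4 := congrFun h3 i
    simpa using h4

/-- Finite groups in the centraliser are cyclic. -/
theorem cyclic_of_comm {p : ℕ} [Fact p.Prime] {A : Matrix (Fin 4) (Fin 4) F} (hA : A ^ p = 1) (hne : A ≠ 1)
    (hdvd : p ∣ Fintype.card F ^ 2 + 1) (h2 : 2 ∣ Fintype.card F) {C : Type*} [Group C] [Finite C]
    (f : C →* Matrix (Fin 4) (Fin 4) F) (hf : Function.Injective f) (hc : ∀ x, f x * A = A * f x) : IsCyclic C := by
  classical
  let R : Subalgebra F (Matrix (Fin 4) (Fin 4) F) := Subalgebra.centralizer F {A}
  have memR : ∀ y, y * A = A * y → y ∈ R := by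
    intro y hy
    rw [Subalgebra.mem_centralizer_iff]
    intro g hg
    rw [Set.mem_singleton_iff] at hg
    subst hg
    exact hy.symm
  have memR' : ∀ y ∈ R, y * A = A * y := by
    intro y hy
    rw [Subalgebra.mem_centralizer_iff] at hy
    exact (hy A (Set.mem_singleton A)).symm
  haveI : NoZeroDivisors R := by
    constructor
    intro a b hab
    by_contra hcon
    push Not at hcon
    have ha : (a : Matrix (Fin 4) (Fin 4) F) ≠ 0 := fun e => hcon.1 (Subtype.ext e)
    have hb : (b : Matrix (Fin 4) (Fin 4) F) ≠ 0 := fun e => hcon.2 (Subtype.ext e)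
    have hi := injective_of_comm hA hne hdvd h2 (memR' _ a.2) ha
    apply hb
    have hab' : (a : Matrix (Fin 4) (Fin 4) F) * b = 0 := congrArg Subtype.val hab
    ext i j
    have h3 : (a : Matrix (Fin 4) (Fin 4) F).mulVec ((b : Matrix (Fin 4) (Fin 4) F).mulVec (Pi.single j 1)) = (a : Matrix (Fin 4) (Fin 4) F).mulVec 0 := by
      rw [Matrix.mulVec_mulVec, hab', Matrix.zero_mulVec, Matrix.mulVec_zero]
    have h4 := hi h3
    have h5 := congrFun h4 i
    rw [Matrix.mulVec_single] at h5
    simpa using h5
  haveI : IsDomain R := NoZeroDivisors.to_isDomain R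
  have hfield : IsField R := Finite.isDomain_to_isField R
  letI fld : Field R := hfield.toField
  let f' : C →* R :=
    { toFun := fun x => ⟨f x, memR _ (hc x)⟩
      map_one' := Subtype.ext (map_one f)
      map_mul' := fun x y => Subtype.ext (map_mul f x y) }
  exact isCyclic_of_subgroup_isDomain f' (fun x y h => hf (congrArg Subtype.val h))

end Cfsg.Agent.Lib.SzK
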