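import Cfsg.Agent.Lib.SzJ
import Cfsg.Agent.Lib.SzK

/-! The Suzuki groups: Sylow subgroups and centralisers. -/

set_option autoImplicit false
set_option linter.unusedVariables false
set_option linter.unusedSectionVars false
set_option linter.unusedFintypeInType false
set_option linter.unusedDecidableInType false

namespace Cfsg.Agent.Lib.SzL

open scoped LinearAlgebra.Projectivization Pointwise
open Matrix Cfsg Cfsg.Agent.Lib.SzA Cfsg.Agent.Lib.SzB Cfsg.Agent.Lib.SzC Cfsg.Agent.Lib.SzD Cfsg.Agent.Lib.SzE Cfsg.Agent.Lib.SzF Cfsg.Agent.Lib.SzG Cfsg.Agent.Lib.SzI Cfsg.Agent.Lib.SzJ Cfsg.Agent.Lib.SzK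

variable {F : Type*} [Field F] [Fintype F] [CharP F 2] {θ : F ≃+* F} {σ : ℕ}

/-- The matrix representation of `G`. -/
def toMat (θ : F ≃+* F) : ↥(GG θ) →* Matrix (Fin 4) (Fin 4) F where
  toFun g := ((g : SL4 F)).1
  map_one' := rfl
  map_mul' _ _ := rfl

theorem toMat_inj : Function.Injective (toMat θ) := by
  intro x y h
  exact Subtype.ext (Subtype.ext h)

variable (H : Good θ σ)
include H

/-- Centralisers of elements of order `p ∣ q² + 1` are cyclic. -/
theorem cyclic_of_cent {p : ℕ} [Fact p.Prime] {g0 : ↥(GG θ)} (h1 : g0 ^ p = 1) (h2 : g0 ≠ 1) (hd : p ∣ Fintype.card F ^ 2 + 1)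
    {C : Type*} [Group C] [Finite C] (f : C →* ↥(GG θ)) (hf : Function.Injective f) (hc : ∀ x, f x * g0 = g0 * f x) : IsCyclic C := by
  refine cyclic_of_comm (A := toMat θ g0) ?_ ?_ hd two_dvd_card ((toMat θ).comp f) ?_ ?_
  · rw [← map_pow, h1, map_one]
  · intro e
    apply h2
    apply toMat_inj
    rw [e, map_one]
  · intro x y h
    exact hf (toMat_inj h)
  · intro x
    show toMat θ (f x) * toMat θ g0 = toMat θ g0 * toMat θ (f x)
    rw [← map_mul, ← map_mul, hc]

theorem chiB_ker {g : ↥(GG θ)} (hg : g ∈ BB θ) (h1 : chiB H ⟨g, hg⟩ = 1) : g ∈ UU H := by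
  have h2 := congrArg Units.val h1
  obtain ⟨a, b, c, hc, rfl⟩ := (mem_B_iff H).mp hg
  have h3 : ((tG H a b * dG H hc : ↥(GG θ)) : SL4 F).1 2 2 = 1 := h2
  have e1 : ((tG H a b * dG H hc : ↥(GG θ)) : SL4 F) = T θ a b * D θ hc := rfl
  rw [e1, entry_TD] at h3
  have h4 : θ.symm c = 1 := inv_eq_one.mp h3
  have h5 : c = 1 := by
    have := congrArg θ h4
    simpa using this
  subst h5
  refine ⟨a, b, ?_⟩
  apply Subtype.ext
  show T θ a b * D θ hc = T θ a b
  rw [show D θ hc = 1 from D_one, mul_one]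

theorem UU_pow_four {u : ↥(GG θ)} (hu : u ∈ UU H) : u ^ 4 = 1 := by
  obtain ⟨a, b, rfl⟩ := hu
  apply Subtype.ext
  exact t_four H a b

/-- Sylow `p`-subgroups for odd `p` are cyclic. -/
theorem sylow_odd_cyclic {p : ℕ} [Fact p.Prime] (hp : p ≠ 2) (P : Sylow p ↥(GG θ)) : IsCyclic ↥(P : Subgroup ↥(GG θ)) := by
  have hP := P.isPGroup'
  by_cases hd : p ∣ Fintype.card F ^ 2 + 1
  · by_cases hn : Nontrivial ↥(P : Subgroup ↥(GG θ))
    · haveI := hn
      haveI : Nontrivial ↥(Subgroup.center ↥(P : Subgroup ↥(GG θ))) := hP.center_nontrivial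
      obtain ⟨⟨z, hz⟩, hz1⟩ := exists_ne (1 : ↥(Subgroup.center ↥(P : Subgroup ↥(GG θ))))
      obtain ⟨k, hk⟩ := (IsPGroup.iff_orderOf.mp hP) z
      have hz2 : z ≠ 1 := fun e => hz1 (Subtype.ext e)
      have hk0 : k ≠ 0 := by
        rintro rfl
        rw [pow_zero] at hk
        exact hz2 (orderOf_eq_one_iff.mp hk)
      obtain ⟨k', rfl⟩ : ∃ k', k = k' + 1 := ⟨k - 1, by omega⟩
      set y := z ^ (p ^ k') with hy
      have hyp : y ^ p = 1 := by
        rw [hy, ← pow_mul, ← pow_succ, ← hk, pow_orderOf_eq_one]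
      have hy1 : y ≠ 1 := by
        intro e
        have h3 := orderOf_dvd_of_pow_eq_one e
        rw [hk] at h3
        have h4 := Nat.le_of_dvd (pow_pos (Fact.out : p.Prime).pos _) h3
        have h5 : p ^ k' < p ^ (k' + 1) := Nat.pow_lt_pow_right (Fact.out : p.Prime).one_lt (by omega)
        omega
      have hyc : ∀ x : ↥(P : Subgroup ↥(GG θ)), x * y = y * x := by
        intro x
        have := Subgroup.mem_center_iff.mp hz x
        exact (Commute.pow_right this _)
      refine cyclic_of_cent H (g0 := (y : ↥(GG θ))) ?_ ?_ hd (P : Subgroup ↥(GG θ)).subtype Subtype.val_injective ?_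
      · exact congrArg Subtype.val hyp
      · exact fun e => hy1 (Subtype.ext e)
      · intro x
        exact congrArg Subtype.val (hyc x)
    · rw [not_nontrivial_iff_subsingleton] at hn
      exact isCyclic_of_subsingleton
  · -- a fixed point
    have hcard : ¬ p ∣ Nat.card ↥(ov θ) := by
      rw [card_ov]
      exact hd
    obtain ⟨x, hx⟩ := hP.nonempty_fixed_point_of_prime_not_dvd_card ↥(ov θ) hcard
    obtain ⟨h, rfl⟩ := exists_move H x
    have hB : ∀ y : ↥(P : Subgroup ↥(GG θ)), h⁻¹ * y.1 * h ∈ BB θ := by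
      intro y
      have := hx y
      rw [MulAction.mem_stabilizer_iff, mul_smul, mul_smul]
      have h3 : y.1 • h • p0 θ = h • p0 θ := this
      rw [h3, inv_smul_smul]
    let f : ↥(P : Subgroup ↥(GG θ)) →* Fˣ :=
      { toFun := fun y => chiB H ⟨h⁻¹ * y.1 * h, hB y⟩
        map_one' := by
          have : (⟨h⁻¹ * (1 : ↥(P : Subgroup ↥(GG θ))).1 * h, hB 1⟩ : ↥(BB θ)) = 1 := by
            apply Subtype.ext
            simp
          rw [this, map_one]
        map_mul' := by
          intro y y'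
          rw [← map_mul]
          congr 1
          apply Subtype.ext
          show h⁻¹ * (y.1 * y'.1) * h = (h⁻¹ * y.1 * h) * (h⁻¹ * y'.1 * h)
          group }
    have hf : Function.Injective f := by
      rw [injective_iff_map_eq_one]
      intro y hy
      have h3 := chiB_ker H (hB y) hy
      have h4 := UU_pow_four H h3
      have h5 : y.1 ^ 4 = 1 := by
        have e : (h⁻¹ * y.1 * h) ^ 4 = h⁻¹ * y.1 ^ 4 * h := by
          have := conj_pow (a := h⁻¹) (b := y.1) (i := 4)
          simpa using this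
        rw [e] at h4
        have : y.1 ^ 4 = h * (h⁻¹ * y.1 ^ 4 * h) * h⁻¹ := by group
        rw [this, h4]
        group
      obtain ⟨k, hk⟩ := (IsPGroup.iff_orderOf.mp hP) y
      have h6 : orderOf y.1 = orderOf y := Subgroup.orderOf_coe y
      have h7 : orderOf y ∣ 4 := by
        rw [← h6]
        exact orderOf_dvd_of_pow_eq_one h5
      rw [hk] at h7
      have h8 : Nat.Coprime (p ^ k) 4 := by
        apply Nat.Coprime.pow_left
        have e4 : (4 : ℕ) = 2 ^ 2 := rfl
        rw [e4]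
        apply Nat.Coprime.pow_right
        exact (Nat.coprime_primes (Fact.out : p.Prime) Nat.prime_two).mpr hp
      have h9 : p ^ k = 1 := Nat.Coprime.eq_one_of_dvd h8 h7
      rw [← hk] at h9
      exact orderOf_eq_one_iff.mp h9
    exact isCyclic_of_subgroup_isDomain ((Units.coeHom F).comp f) (fun y y' e => hf (Units.ext e))

omit H in
theorem nilp_of_comm {C : Type*} [Group C] (h : ∀ x y : C, x * y = y * x) : Group.IsNilpotent C := by
  letI : CommGroup C := { (inferInstance : Group C) with mul_comm := h }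
  exact inferInstance

omit H in
theorem nilp_of_pow_four {C : Type*} [Group C] [Finite C] (h : ∀ x : C, x ^ 4 = 1) : Group.IsNilpotent C := by
  haveI : Fact (Nat.Prime 2) := ⟨Nat.prime_two⟩
  have hP : IsPGroup 2 C := fun x => ⟨2, h x⟩
  exact hP.isNilpotent

/-- A fixed point transfers from a centralising element. -/
theorem fix_of_comm_fix {g g0 : ↥(GG θ)} (hg0 : g0 ≠ 1) (hc : g * g0 = g0 * g) (hfix : ∃ x : ↥(ov θ), g0 • x = x) : ∃ x : ↥(ov θ), g • x = x := by
  rcases trichotomy H g0 hg0 with ⟨h, a, b, hab, e⟩ | ⟨h, c, hc0, hc1, e⟩ | hN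
  · refine ⟨h • p0 θ, ?_⟩
    have h1 : (h⁻¹ * g * h) * tG H a b = tG H a b * (h⁻¹ * g * h) := by
      have e2 : tG H a b = h⁻¹ * g0 * h := by rw [e]; group
      rw [e2]
      have : (h⁻¹ * g * h) * (h⁻¹ * g0 * h) = h⁻¹ * (g * g0) * h := by group
      rw [this, hc]
      group
    obtain ⟨a', b', e3⟩ := cent_U H hab h1
    have e4 : g = h * tG H a' b' * h⁻¹ := by
      rw [← e3]
      group
    rw [e4, mul_smul, mul_smul, inv_smul_smul]
    congr 1
    exact Subtype.ext (T_smul_inf a' b')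
  · refine ⟨h • p0 θ, ?_⟩
    have h1 : (h⁻¹ * g * h) * dG H hc0 = dG H hc0 * (h⁻¹ * g * h) := by
      have e2 : dG H hc0 = h⁻¹ * g0 * h := by rw [e]; group
      rw [e2]
      have : (h⁻¹ * g * h) * (h⁻¹ * g0 * h) = h⁻¹ * (g * g0) * h := by group
      rw [this, hc]
      group
    obtain ⟨c', hc', e3⟩ := cent_D H hc0 hc1 h1
    have e4 : g = h * dG H hc' * h⁻¹ := by
      rw [← e3]
      group
    rw [e4, mul_smul, mul_smul, inv_smul_smul]
    congr 1
    exact Subtype.ext (D_smul_inf hc')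
  · exfalso
    obtain ⟨x, hx⟩ := hfix
    exact hN x hx

/-- `G` is a CN-group. -/
theorem cn : IsCNGroup ↥(GG θ) := by
  intro g hg
  rcases trichotomy H g hg with ⟨h, a, b, hab, e⟩ | ⟨h, c, hc0, hc1, e⟩ | hN
  · apply nilp_of_pow_four
    rintro ⟨y, hy⟩
    apply Subtype.ext
    have hy2 : y * g = g * y := by
      have := Subgroup.mem_centralizer_iff.mp hy g (Set.mem_singleton g)
      exact this.symm
    have h1 : (h⁻¹ * y * h) * tG H a b = tG H a b * (h⁻¹ * y * h) := by
      have e2 : tG H a b = h⁻¹ * g * h := by rw [e]; group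
      rw [e2]
      have : (h⁻¹ * y * h) * (h⁻¹ * g * h) = h⁻¹ * (y * g) * h := by group
      rw [this, hy2]
      group
    have h2 := UU_pow_four H (cent_U H hab h1)
    have e3 : (h⁻¹ * y * h) ^ 4 = h⁻¹ * y ^ 4 * h := by
      have := conj_pow (a := h⁻¹) (b := y) (i := 4)
      simpa using this
    rw [e3] at h2
    have e4 : y ^ 4 = h * (h⁻¹ * y ^ 4 * h) * h⁻¹ := by group
    rw [Subgroup.coe_pow, e4, h2]
    simp
  · apply nilp_of_comm
    have key : ∀ y ∈ Subgroup.centralizer ({g} : Set ↥(GG θ)), ∃ (c' : F) (hc' : c' ≠ 0), h⁻¹ * y * h = dG H hc' := by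
      intro y hy
      have hy2 : y * g = g * y := by
        have := Subgroup.mem_centralizer_iff.mp hy g (Set.mem_singleton g)
        exact this.symm
      apply cent_D H hc0 hc1
      have e2 : dG H hc0 = h⁻¹ * g * h := by rw [e]; group
      rw [e2]
      have : (h⁻¹ * y * h) * (h⁻¹ * g * h) = h⁻¹ * (y * g) * h := by group
      rw [this, hy2]
      group
    rintro ⟨y, hy⟩ ⟨y', hy'⟩
    apply Subtype.ext
    show y * y' = y' * y
    obtain ⟨c1, h1, e1⟩ := key y hy
    obtain ⟨c2, h2, e2⟩ := key y' hy'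
    have e3 : y = h * dG H h1 * h⁻¹ := by rw [← e1]; group
    have e4 : y' = h * dG H h2 * h⁻¹ := by rw [← e2]; group
    have e5 : dG H h1 * dG H h2 = dG H h2 * dG H h1 := by
      rw [dG_mul H, dG_mul H]
      apply Subtype.ext
      exact D_congr (mul_ne_zero h1 h2) (mul_ne_zero h2 h1) (mul_comm _ _)
    rw [e3, e4]
    have : h * dG H h1 * h⁻¹ * (h * dG H h2 * h⁻¹) = h * (dG H h1 * dG H h2) * h⁻¹ := by group
    rw [this, e5]
    group
  · -- no fixed points
    classical
    set n := orderOf g with hn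
    have hn0 : n ≠ 0 := (orderOf_pos g).ne'
    have hn1 : n ≠ 1 := fun e => hg (orderOf_eq_one_iff.mp e)
    set p := n.minFac with hp
    haveI : Fact p.Prime := ⟨Nat.minFac_prime hn1⟩
    have hpn : p ∣ n := Nat.minFac_dvd n
    set g0 := g ^ (n / p) with hg0
    have hg0p : g0 ^ p = 1 := by
      rw [hg0, ← pow_mul, Nat.div_mul_cancel hpn, hn, pow_orderOf_eq_one]
    have hg01 : g0 ≠ 1 := by
      intro e
      have h1 := orderOf_dvd_of_pow_eq_one e
      rw [← hn] at h1
      have h2 := Nat.le_of_dvd (Nat.div_pos (Nat.le_of_dvd (Nat.pos_of_ne_zero hn0) hpn) (Fact.out : p.Prime).pos) h1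
      have h3 : n / p < n := Nat.div_lt_self (Nat.pos_of_ne_zero hn0) (Fact.out : p.Prime).one_lt
      omega
    have hcomm : g * g0 = g0 * g := (Commute.pow_right (Commute.refl g) _)
    have hnofix : ∀ x : ↥(ov θ), g0 • x ≠ x := by
      intro x hx
      obtain ⟨x', hx'⟩ := fix_of_comm_fix H hg01 hcomm ⟨x, hx⟩
      exact hN x' hx'
    -- `p` divides the number of points
    have hdvd : p ∣ Fintype.card F ^ 2 + 1 := by
      have hP : IsPGroup p ↥(Subgroup.zpowers g0) := by
        rintro ⟨_, k, rfl⟩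
        refine ⟨1, ?_⟩
        apply Subtype.ext
        show (g0 ^ k) ^ p ^ 1 = 1
        rw [pow_one, ← zpow_natCast, zpow_comm, zpow_natCast, hg0p, _root_.one_zpow]
      by_contra hnd
      have hcard : ¬ p ∣ Nat.card ↥(ov θ) := by
        rw [card_ov]
        exact hnd
      obtain ⟨x, hx⟩ := hP.nonempty_fixed_point_of_prime_not_dvd_card ↥(ov θ) hcard
      exact hnofix x (hx ⟨g0, Subgroup.mem_zpowers g0⟩)
    haveI : IsCyclic ↥(Subgroup.centralizer ({g} : Set ↥(GG θ))) := by
      refine cyclic_of_cent H hg0p hg01 hdvd (Subgroup.centralizer ({g} : Set ↥(GG θ))).subtype Subtype.val_injective ?_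
      rintro ⟨y, hy⟩
      have hy2 : g * y = y * g := Subgroup.mem_centralizer_iff.mp hy g (Set.mem_singleton g)
      exact (Commute.pow_left hy2 _).symm
    apply nilp_of_comm
    exact fun a b => IsCyclic.commutative.is_comm.comm a b

end Cfsg.Agent.Lib.SzL
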