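import Cfsg.Agent.Lib.SzL

/-! The Suzuki groups: real elements, maximal subgroups. -/

set_option autoImplicit false
set_option linter.unusedVariables false
set_option linter.unusedSectionVars false
set_option linter.unusedFintypeInType false
set_option linter.unusedDecidableInType false

namespace Cfsg.Agent.Lib.SzM

open scoped LinearAlgebra.Projectivization Pointwise
open Matrix Cfsg Cfsg.Agent.Lib.SzA Cfsg.Agent.Lib.SzB Cfsg.Agent.Lib.SzC Cfsg.Agent.Lib.SzD Cfsg.Agent.Lib.SzE Cfsg.Agent.Lib.SzF Cfsg.Agent.Lib.SzG Cfsg.Agent.Lib.SzI Cfsg.Agent.Lib.SzJ Cfsg.Agent.Lib.SzK Cfsg.Agent.Lib.SzL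

variable {F : Type*} [Field F] [Fintype F] [CharP F 2] {θ : F ≃+* F} {σ : ℕ}

theorem Sz_eq {m : ℕ} (h : suzukiOvoid F m = ov θ) : Cfsg.Sz F m = GG θ := by
  show MulAction.stabilizer (SL4 F) (suzukiOvoid F m) = MulAction.stabilizer (SL4 F) (ov θ)
  rw [h]

variable (H : Good θ σ)
include H

/-- `t^θ = t + 1` has no solution. -/
theorem no_sol (t : F) : θ t ≠ t + 1 := by
  intro h2
  have h3 : t ^ 2 = t := by
    have := H.hθ t
    rw [h2, map_add, map_one, h2] at this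
    grind
  have h4 : t = 0 ∨ t = 1 := by
    have : t * (t - 1) = 0 := by grind
    rcases mul_eq_zero.mp this with h | h
    · exact Or.inl h
    · exact Or.inr (by grind)
  rcases h4 with h4 | h4
  · rw [h4] at h2
    simp at h2
  · rw [h4] at h2
    simp at h2

/-- Every Sylow 2-subgroup is a conjugate of `U`. -/
theorem sylow_conj (P : Sylow 2 ↥(GG θ)) : ∃ h : ↥(GG θ), ∀ x, x ∈ (P : Subgroup ↥(GG θ)) ↔ h⁻¹ * x * h ∈ UU H := by
  haveI : Fact (Nat.Prime 2) := ⟨Nat.prime_two⟩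
  obtain ⟨h, rfl⟩ := MulAction.exists_smul_eq ↥(GG θ) (sylowU H) P
  refine ⟨h, fun x => ?_⟩
  rw [Sylow.coe_subgroup_smul, Subgroup.mem_pointwise_smul_iff_inv_smul_mem]
  have e : (MulAut.conj h)⁻¹ • x = h⁻¹ * x * h := by
    simp [MulAut.smul_def, MulAut.conj_inv_apply]
  change (MulAut.conj h)⁻¹ • x ∈ UU H ↔ _
  rw [e]

end Cfsg.Agent.Lib.SzM
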