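import Cfsg.Agent.Lib.SzM

/-! The Suzuki groups: real elements, maximal subgroups. -/

set_option autoImplicit false
set_option linter.unusedVariables false
set_option linter.unusedSectionVars false
set_option linter.unusedFintypeInType false
set_option linter.unusedDecidableInType false

namespace Cfsg.Agent.Lib.SzN

open scoped LinearAlgebra.Projectivization Pointwise
open Matrix Cfsg Cfsg.Agent.Lib.SzA Cfsg.Agent.Lib.SzB Cfsg.Agent.Lib.SzC Cfsg.Agent.Lib.SzD Cfsg.Agent.Lib.SzE Cfsg.Agent.Lib.SzF Cfsg.Agent.Lib.SzG Cfsg.Agent.Lib.SzI Cfsg.Agent.Lib.SzJ Cfsg.Agent.Lib.SzM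

variable {F : Type*} [Field F] [Fintype F] [CharP F 2] {θ : F ≃+* F} {σ : ℕ}

variable (H : Good θ σ)
include H

/-- A nontrivial element of `U` fixes only the base point. -/
theorem U_fix {a b : F} (hab : ¬ (a = 0 ∧ b = 0)) {z : ↥(ov θ)} (hz : tG H a b • z = z) : z = p0 θ := by
  rcases X_cases H z with h | ⟨x, y, h⟩
  · exact h
  · exfalso
    apply hab
    apply T_fix H (x := x) (y := y)
    have := congrArg (fun w : ↥(ov θ) => (w : ℙ F (Fin 4 → F))) hz
    rw [coe_smul, h] at this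
    exact this

theorem tG_inv (a b : F) : (tG H a b)⁻¹ = tG H a (b + a * θ a) := by
  apply Subtype.ext
  exact T_inv H.hθ a b

theorem tG_inj {a b c d : F} (h : tG H a b = tG H c d) : a = c ∧ b = d :=
  T_inj (congrArg Subtype.val h)

theorem tG_mem_B (a b : F) : tG H a b ∈ BB θ := (mem_B_iff H).2 ⟨a, b, 1, one_ne_zero, by
  have : dG H (one_ne_zero : (1 : F) ≠ 0) = 1 := Subtype.ext D_one
  rw [this, mul_one]⟩

theorem dG_mem_B {c : F} (hc : c ≠ 0) : dG H hc ∈ BB θ := (mem_B_iff H).2 ⟨0, 0, c, hc, by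
  have : tG H (0 : F) 0 = 1 := Subtype.ext T_one
  rw [this, one_mul]⟩

theorem U_le_B : UU H ≤ BB θ := by
  rintro _ ⟨a, b, rfl⟩
  exact tG_mem_B H a b

theorem dG_inv {c : F} (hc : c ≠ 0) : (dG H hc)⁻¹ = dG H (inv_ne_zero hc) := by
  apply Subtype.ext
  exact D_inv hc

/-- `B` normalises `U`. -/
theorem B_conj_U {x : ↥(GG θ)} (hx : x ∈ BB θ) {u : ↥(GG θ)} (hu : u ∈ UU H) : x * u * x⁻¹ ∈ UU H := by
  obtain ⟨a, b, c, hc, rfl⟩ := (mem_B_iff H).1 hx
  obtain ⟨a', b', rfl⟩ := hu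
  have e : tG H a b * dG H hc * tG H a' b' * (tG H a b * dG H hc)⁻¹ = tG H a b * tG H (c * a') (c * θ c * b') * (tG H a b)⁻¹ := by
    rw [_root_.mul_inv_rev, mul_assoc (tG H a b), d_t H]
    group
  rw [e]
  exact (UU H).mul_mem ((UU H).mul_mem ⟨_, _, rfl⟩ ⟨_, _, rfl⟩) ((UU H).inv_mem ⟨_, _, rfl⟩)

/-- A real element of `U` is an involution. -/
theorem real_U {a b : F} (hab : ¬ (a = 0 ∧ b = 0)) {x : ↥(GG θ)} (hx : x * tG H a b * x⁻¹ = (tG H a b)⁻¹) : a = 0 := by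
  have hfix : tG H a (b + a * θ a) • (x • p0 θ) = x • p0 θ := by
    rw [← tG_inv H, ← hx, mul_smul, mul_smul, inv_smul_smul]
    congr 1
    exact (tG_mem_B H a b)
  have hab' : ¬ (a = 0 ∧ b + a * θ a = 0) := by
    rintro ⟨h1, h2⟩
    apply hab
    refine ⟨h1, ?_⟩
    rw [h1] at h2
    simpa using h2
  have hB : x ∈ BB θ := U_fix H hab' hfix
  obtain ⟨a', b', c, hc, rfl⟩ := (mem_B_iff H).1 hB
  have e1 : (tG H a' b' * dG H hc) * tG H a b = (tG H a b)⁻¹ * (tG H a' b' * dG H hc) := by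
    rw [← hx]; group
  rw [mul_assoc, d_t H, ← mul_assoc, ← mul_assoc, tG_inv H, tG_mul H, tG_mul H] at e1
  have e2 := tG_inj H (mul_right_cancel e1)
  obtain ⟨e3, e4⟩ := e2
  by_contra ha
  have hc1 : c = 1 := by
    have : c * a = a := by grind
    exact mul_right_cancel₀ ha (by rw [this, one_mul])
  subst hc1
  apply no_sol H (a' / a)
  have hθa : θ a ≠ 0 := theta_ne_zero H ha
  simp only [map_one, mul_one, one_mul] at e4
  rw [map_div₀]
  field_simp
  grind

theorem real_iff (P : Sylow 2 ↥(GG θ)) {g : ↥(GG θ)} (hg : g ∈ (P : Subgroup ↥(GG θ))) (h1 : g ≠ 1) :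
    IsConj g g⁻¹ ↔ orderOf g = 2 := by
  haveI : Fact (Nat.Prime 2) := ⟨Nat.prime_two⟩
  constructor
  · intro hc
    obtain ⟨h, hh⟩ := sylow_conj H P
    obtain ⟨a, b, hu⟩ := (hh g).1 hg
    obtain ⟨x, hx⟩ := isConj_iff.1 hc
    have hg' : g = h * tG H a b * h⁻¹ := by rw [← hu]; group
    have hab : ¬ (a = 0 ∧ b = 0) := by
      rintro ⟨rfl, rfl⟩
      apply h1
      have : tG H (0 : F) 0 = 1 := Subtype.ext T_one
      rw [hg', this]; group
    have hx' : (h⁻¹ * x * h) * tG H a b * (h⁻¹ * x * h)⁻¹ = (tG H a b)⁻¹ := by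
      have : (tG H a b)⁻¹ = h⁻¹ * g⁻¹ * h := by rw [hg']; group
      rw [this, ← hx, hg']; group
    have ha := real_U H hab hx'
    subst ha
    apply orderOf_eq_prime _ h1
    rw [hg']
    have e2 : tG H (0 : F) b * tG H 0 b = 1 := by
      apply Subtype.ext
      have := t_sq H (0 : F) b
      show T θ 0 b * T θ 0 b = 1
      rw [this]
      simp [T_one]
    rw [pow_two]
    have : h * tG H (0 : F) b * h⁻¹ * (h * tG H 0 b * h⁻¹) = h * (tG H (0 : F) b * tG H 0 b) * h⁻¹ := by group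
    rw [this, e2]
    group
  · intro ho
    have : g⁻¹ = g := by
      rw [inv_eq_iff_mul_eq_one, ← pow_two, ← ho, pow_orderOf_eq_one]
    rw [this]

end Cfsg.Agent.Lib.SzN
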