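import Cfsg.Agent.Lib.SzN

/-! The Suzuki groups: real elements, maximal subgroups. -/

set_option autoImplicit false
set_option linter.unusedVariables false
set_option linter.unusedSectionVars false
set_option linter.unusedFintypeInType false
set_option linter.unusedDecidableInType false

namespace Cfsg.Agent.Lib.SzO

open scoped LinearAlgebra.Projectivization Pointwise
open Matrix Cfsg Cfsg.Agent.Lib.SzA Cfsg.Agent.Lib.SzB Cfsg.Agent.Lib.SzC Cfsg.Agent.Lib.SzD Cfsg.Agent.Lib.SzE Cfsg.Agent.Lib.SzF Cfsg.Agent.Lib.SzG Cfsg.Agent.Lib.SzI Cfsg.Agent.Lib.SzJ Cfsg.Agent.Lib.SzM Cfsg.Agent.Lib.SzN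

/-- Transport of normalisers along an inner automorphism. -/
theorem normalizer_conj {G : Type*} [Group G] (U P : Subgroup G) (h : G) (hP : ∀ x, x ∈ P ↔ h⁻¹ * x * h ∈ U) :
    Subgroup.normalizer (P : Set G) = (MulAut.conj h).mapSubgroup (Subgroup.normalizer (U : Set G)) := by
  ext x
  show _ ↔ x ∈ (Subgroup.normalizer (U : Set G)).map (MulAut.conj h).toMonoidHom
  rw [Subgroup.mem_map_equiv, Subgroup.mem_normalizer_iff, Subgroup.mem_normalizer_iff]
  have e : (MulAut.conj h).symm x = h⁻¹ * x * h := by simp [MulAut.conj_symm_apply]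
  rw [e]
  constructor
  · intro H k
    have h1 := H (h * k * h⁻¹)
    have e1 : h⁻¹ * (h * k * h⁻¹) * h = k := by group
    have e2 : h⁻¹ * (x * (h * k * h⁻¹) * x⁻¹) * h = h⁻¹ * x * h * k * (h⁻¹ * x * h)⁻¹ := by group
    rw [hP, hP, e1, e2] at h1
    exact h1
  · intro H k
    have h1 := H (h⁻¹ * k * h)
    have e2 : h⁻¹ * (x * k * x⁻¹) * h = h⁻¹ * x * h * (h⁻¹ * k * h) * (h⁻¹ * x * h)⁻¹ := by group
    rw [hP, hP, e2]
    exact h1

theorem P_eq_map {G : Type*} [Group G] (U P : Subgroup G) (h : G) (hP : ∀ x, x ∈ P ↔ h⁻¹ * x * h ∈ U) :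
    P = (MulAut.conj h).mapSubgroup U := by
  ext x
  show _ ↔ x ∈ U.map (MulAut.conj h).toMonoidHom
  rw [Subgroup.mem_map_equiv, hP]
  have e : (MulAut.conj h).symm x = h⁻¹ * x * h := by simp [MulAut.conj_symm_apply]
  rw [e]

variable {F : Type*} [Field F] [Fintype F] [CharP F 2] {θ : F ≃+* F} {σ : ℕ}

variable (H : Good θ σ)
include H

theorem wG_sq : wG H * wG H = 1 := Subtype.ext W_mul_self

theorem normalizer_U : Subgroup.normalizer ((UU H : Subgroup ↥(GG θ)) : Set ↥(GG θ)) = BB θ := by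
  apply le_antisymm
  · intro x hx
    rw [Subgroup.mem_normalizer_iff] at hx
    have hab : ¬ ((0 : F) = 0 ∧ (1 : F) = 0) := by simp
    have h1 : tG H 0 1 • (x • p0 θ) = x • p0 θ := by
      have h2 : x⁻¹ * tG H 0 1 * x ∈ UU H := by
        have := (hx (x⁻¹ * tG H 0 1 * x)).2 (by
          have e : x * (x⁻¹ * tG H 0 1 * x) * x⁻¹ = tG H 0 1 := by group
          rw [e]
          exact ⟨_, _, rfl⟩)
        exact this
      have h3 : (x⁻¹ * tG H 0 1 * x) • p0 θ = p0 θ := U_le_B H h2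
      calc tG H 0 1 • (x • p0 θ) = (tG H 0 1 * x) • p0 θ := (mul_smul _ _ _).symm
        _ = x • ((x⁻¹ * tG H 0 1 * x) • p0 θ) := by rw [← mul_smul]; congr 1; group
        _ = x • p0 θ := by rw [h3]
    exact U_fix H hab h1
  · intro x hx
    rw [Subgroup.mem_normalizer_iff]
    intro k
    constructor
    · exact fun hk => B_conj_U H hx hk
    · intro hk
      have := B_conj_U H ((BB θ).inv_mem hx) hk
      have e : x⁻¹ * (x * k * x⁻¹) * x⁻¹⁻¹ = k := by group
      rwa [e] at this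

/-- A subgroup containing `U` and not contained in `B` is everything. -/
theorem top_of_not_le {K : Subgroup ↥(GG θ)} (hU : UU H ≤ K) (hK : ¬ K ≤ BB θ) : K = ⊤ := by
  have hT : ∀ a b, tG H a b ∈ K := fun a b => hU ⟨a, b, rfl⟩
  obtain ⟨g, hgK, hg⟩ := Set.not_subset.1 hK
  have hg' : g • p0 θ ≠ p0 θ := hg
  obtain ⟨a, b, hab⟩ : ∃ a b, ((g • p0 θ : ↥(ov θ)) : ℙ F (Fin 4 → F)) = pt θ a b := by
    rcases X_cases H (g • p0 θ) with h | h
    · exact absurd h hg'
    · exact h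
  -- `g₁` moves the base point to `p1`.
  have h1 : ((tG H a b)⁻¹ * g) • p0 θ = p1 θ := by
    rw [mul_smul]
    apply Subtype.ext
    rw [coe_smul, hab]
    show (tG H a b)⁻¹.1 • pt θ a b = pt θ 0 0
    rw [← T_pt_zero H a b, ← mul_smul]
    have : ((tG H a b)⁻¹).1 * T θ a b = 1 := by
      have e : (tG H a b)⁻¹ * tG H a b = 1 := by group
      exact congrArg Subtype.val e
    rw [this, one_smul]
  set g1 := (tG H a b)⁻¹ * g with hg1
  have hg1K : g1 ∈ K := K.mul_mem (K.inv_mem (hT a b)) hgK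
  have hx : wG H * g1 ∈ BB θ := by
    show (wG H * g1) • p0 θ = p0 θ
    rw [mul_smul, h1]
    apply Subtype.ext
    exact W_smul_zero
  set x := wG H * g1 with hxdef
  have hg1x : g1 = wG H * x := by
    rw [hxdef, ← mul_assoc, wG_sq H, one_mul]
  have hW : ∀ u ∈ UU H, wG H * u * wG H ∈ K := by
    intro u hu
    have hu' : x⁻¹ * u * x ∈ UU H := by
      have := B_conj_U H ((BB θ).inv_mem hx) hu
      rwa [inv_inv] at this
    have e2 : (wG H)⁻¹ = wG H := inv_eq_of_mul_eq_one_left (wG_sq H)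
    have key : ∀ (w x u : ↥(GG θ)), w⁻¹ = w → w * u * w = (w * x) * (x⁻¹ * u * x) * (w * x)⁻¹ := by
      intro w x u hw
      rw [_root_.mul_inv_rev, hw]
      group
    rw [key _ x u e2, ← hg1x]
    exact K.mul_mem (K.mul_mem hg1K (hU hu')) (K.inv_mem hg1K)
  have hWD : ∀ {a : F} (ha : a ≠ 0), wG H * dG H (pow_ne_zero 2 ha) ∈ K := by
    intro a ha
    have e : wG H * dG H (pow_ne_zero 2 ha) = tG H 0 (a * θ a)⁻¹ * (wG H * tG H a 0 * wG H) * tG H a⁻¹ (a * θ a)⁻¹ := by
      apply Subtype.ext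
      show W F * D θ (pow_ne_zero 2 ha) = T θ 0 (a * θ a)⁻¹ * (W F * T θ a 0 * W F) * T θ a⁻¹ (a * θ a)⁻¹
      rw [← n_eq H ha]
      group
    rw [e]
    exact K.mul_mem (K.mul_mem (hT _ _) (hW _ ⟨_, _, rfl⟩)) (hT _ _)
  have hD1 : dG H (pow_ne_zero 2 (one_ne_zero : (1 : F) ≠ 0)) = 1 := by
    apply Subtype.ext
    show D θ (pow_ne_zero 2 (one_ne_zero : (1 : F) ≠ 0)) = 1
    rw [← D_one (θ := θ)]
    exact D_congr _ _ (by simp)
  have hWK : wG H ∈ K := by
    have := hWD (one_ne_zero : (1 : F) ≠ 0)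
    rwa [hD1, mul_one] at this
  have hDK : ∀ {c : F} (hc : c ≠ 0), dG H hc ∈ K := by
    intro c hc
    -- every element is a square
    let y := θ.symm (θ.symm c)
    have hy : y ^ 2 = c := by
      have := H.hθ y
      rw [← this]
      simp [y]
    have hy0 : y ≠ 0 := by
      intro e
      rw [e] at hy
      apply hc
      rw [← hy]
      simp
    have e : dG H hc = (wG H)⁻¹ * (wG H * dG H (pow_ne_zero 2 hy0)) := by
      rw [inv_mul_cancel_left]
      apply Subtype.ext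
      exact D_congr hc (pow_ne_zero 2 hy0) hy.symm
    rw [e]
    exact K.mul_mem (K.inv_mem hWK) (hWD hy0)
  apply eq_top_iff.2
  intro g _
  rcases G_form H g.2 with ⟨a, b, c, hc, e⟩ | ⟨a, b, a', b', c, hc, e⟩
  · have : g = tG H a b * dG H hc := Subtype.ext e
    rw [this]
    exact K.mul_mem (hT _ _) (hDK _)
  · have : g = tG H a b * wG H * tG H a' b' * dG H hc := Subtype.ext e
    rw [this]
    exact K.mul_mem (K.mul_mem (K.mul_mem (hT _ _) hWK) (hT _ _)) (hDK _)

theorem unique_max_U {M : Subgroup ↥(GG θ)} (hM : IsCoatom M) (hU : UU H ≤ M) : M = BB θ := by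
  by_cases hle : M ≤ BB θ
  · exact (hM.le_iff.1 hle).resolve_left (coatom H).1 |>.symm
  · exact absurd (top_of_not_le H hU hle) hM.1

theorem thm_max (P : Sylow 2 ↥(GG θ)) :
    IsCoatom (Subgroup.normalizer ((P : Subgroup ↥(GG θ)) : Set ↥(GG θ))) ∧
    ∀ M : Subgroup ↥(GG θ), IsCoatom M → (P : Subgroup ↥(GG θ)) ≤ M → M = Subgroup.normalizer ((P : Subgroup ↥(GG θ)) : Set ↥(GG θ)) := by
  obtain ⟨h, hh⟩ := sylow_conj H P
  have e1 := normalizer_conj (UU H) (P : Subgroup ↥(GG θ)) h hh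
  have e2 := P_eq_map (UU H) (P : Subgroup ↥(GG θ)) h hh
  rw [e1, normalizer_U H]
  constructor
  · rw [OrderIso.isCoatom_iff]
    exact coatom H
  · intro M hM hP
    have e3 : M = (MulAut.conj h).mapSubgroup ((MulAut.conj h).mapSubgroup.symm M) := (OrderIso.apply_symm_apply _ _).symm
    rw [e3]
    congr 1
    apply unique_max_U H
    · rw [← OrderIso.isCoatom_iff (MulAut.conj h).mapSubgroup, ← e3]
      exact hM
    · rw [OrderIso.le_symm_apply, ← e2]
      exact hP

end Cfsg.Agent.Lib.SzO
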