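import Mathlib

set_option autoImplicit false

namespace Cfsg.Agent.Lib.TICount

variable {F V : Type*} [Field F] [Fintype F] [AddCommGroup V] [Module F V] [Finite V]

/-- Totally isotropic subspaces of a function of two variables. -/
def TI (g : V → V → F) (W : Submodule F V) : Prop := ∀ u ∈ W, ∀ w ∈ W, g u w = 0

/-- Spans of two isotropic orthogonal vectors are totally isotropic. -/
def HSpan (g : V → V → F) : Prop :=
  ∀ v w, g v v = 0 → g v w = 0 → g w v = 0 → g w w = 0 → TI g (Submodule.span F {v, w})

/-- The lines on a point. -/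
def Lines (g : V → V → F) (v : V) : Type _ :=
  {W : Submodule F V // Module.finrank F W = 2 ∧ v ∈ W ∧ TI g W}

/-- The collinear points. -/
def Coll (g : V → V → F) (v : V) : Type _ :=
  {w : V // g v w = 0 ∧ g w v = 0 ∧ g w w = 0 ∧ w ∉ Submodule.span F {v}}

/-- All lines. -/
def All (g : V → V → F) : Type _ := {W : Submodule F V // Module.finrank F W = 2 ∧ TI g W}

omit [Fintype F] [Finite V] in
theorem finrank_pair [FiniteDimensional F V] {v w : V} (hv : v ≠ 0) (hw : w ∉ Submodule.span F {v}) :
    Module.finrank F (Submodule.span F {v, w}) = 2 := by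
  have hli : LinearIndependent F ![v, w] := by
    rw [LinearIndependent.pair_iff]
    intro s t hst
    have ht : t = 0 := by
      by_contra h0
      apply hw
      have : w = (-(t⁻¹ * s)) • v := by
        have h1 : t • w = (-s) • v := by
          rw [neg_smul]
          exact eq_neg_of_add_eq_zero_right hst
        calc w = t⁻¹ • (t • w) := by rw [smul_smul, inv_mul_cancel₀ h0, one_smul]
          _ = _ := by rw [h1, smul_smul]; congr 1; ring
      rw [this]
      exact Submodule.smul_mem _ _ (Submodule.mem_span_singleton_self v)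
    subst ht
    rw [zero_smul, add_zero] at hst
    exact ⟨(smul_eq_zero.1 hst).resolve_right hv, rfl⟩
  have h1 := finrank_span_eq_card hli
  have e : Set.range ![v, w] = {v, w} := by
    ext x
    simp [Fin.exists_fin_two, eq_comm]
    exact or_comm
  rw [e] at h1
  simpa using h1

omit [Finite V] in
theorem card_sub [Finite V] (W : Submodule F V) : Nat.card W = Fintype.card F ^ Module.finrank F W := by
  classical
  haveI := Fintype.ofFinite W
  rw [Nat.card_eq_fintype_card, Module.card_eq_pow_finrank (K := F) (V := W)]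

theorem card_diff {S W : Submodule F V} (h : S ≤ W) : Nat.card {w : V // w ∈ W ∧ w ∉ S} + Nat.card S = Nat.card W := by
  classical
  haveI : Fintype V := Fintype.ofFinite V
  simp only [Nat.card_eq_fintype_card]
  rw [Fintype.card_subtype, Fintype.card_subtype (· ∈ W ) , Fintype.card_subtype (· ∈ S)]
  rw [← Finset.card_union_of_disjoint]
  · congr 1
    ext x
    simp only [Finset.mem_union, Finset.mem_filter, Finset.mem_univ, true_and]
    constructor
    · rintro (h1 | h1)
      · exact h1.1
      · exact h h1
    · intro h1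
      by_cases h2 : x ∈ S
      · exact Or.inr h2
      · exact Or.inl ⟨h1, h2⟩
  · rw [Finset.disjoint_left]
    intro x hx hx'
    simp only [Finset.mem_filter, Finset.mem_univ, true_and] at hx hx'
    exact hx.2 hx'

omit [Fintype F] [Finite V] in
theorem TI_mem_span [FiniteDimensional F V] {W : Submodule F V} (hW : Module.finrank F W = 2) {v w : V}
    (hvW : v ∈ W) (hwW : w ∈ W) (hv : v ≠ 0) (hw : w ∉ Submodule.span F {v}) : W = Submodule.span F {v, w} := by
  symm
  apply Submodule.eq_of_le_of_finrank_eq
  · rw [Submodule.span_le]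
    intro x hx
    rcases hx with rfl | rfl
    · exact hvW
    · exact hwW
  · rw [finrank_pair hv hw, hW]

/-- First double count. -/
theorem card_lines_mul (g : V → V → F) (hS : HSpan g) {v : V} (hv : v ≠ 0) (hvv : g v v = 0) :
    Nat.card (Lines g v) * (Fintype.card F ^ 2 - Fintype.card F) = Nat.card (Coll g v) := by
  classical
  haveI : FiniteDimensional F V := Module.Finite.of_finite
  haveI : Finite (Submodule F V) := by
    exact Finite.of_injective (fun W : Submodule F V => (W : Set V)) SetLike.coe_injective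
  haveI : Finite (Lines g v) := by
    unfold Lines
    infer_instance
  haveI : Fintype (Lines g v) := Fintype.ofFinite _
  have hspan1 : Module.finrank F (Submodule.span F {v}) = 1 := finrank_span_singleton hv
  let E : (Σ W : Lines g v, {w : V // w ∈ W.1 ∧ w ∉ Submodule.span F {v}}) ≃ Coll g v :=
    { toFun := fun x => ⟨x.2.1, by
        obtain ⟨⟨W, hW, hvW, hTI⟩, w, hw, hwS⟩ := x
        exact ⟨hTI _ hvW _ hw, hTI _ hw _ hvW, hTI _ hw _ hw, hwS⟩⟩
      invFun := fun w => ⟨⟨Submodule.span F {v, w.1}, finrank_pair hv w.2.2.2.2,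
          Submodule.subset_span (by simp), hS _ _ hvv w.2.1 w.2.2.1 w.2.2.2.1⟩,
          w.1, Submodule.subset_span (by simp), w.2.2.2.2⟩
      left_inv := by
        rintro ⟨⟨W, hW, hvW, hTI⟩, w, hw, hwS⟩
        have e : Submodule.span F {v, w} = W := (TI_mem_span hW hvW hw hv hwS).symm
        subst e
        rfl
      right_inv := fun w => rfl }
  rw [← Nat.card_congr E, Nat.card_sigma]
  have hc : ∀ W : Lines g v, Nat.card {w : V // w ∈ W.1 ∧ w ∉ Submodule.span F {v}} = Fintype.card F ^ 2 - Fintype.card F := by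
    rintro ⟨W, hW, hvW, hTI⟩
    have h1 : Submodule.span F {v} ≤ W := by
      rw [Submodule.span_le]
      simpa using hvW
    have h2 := card_diff h1
    rw [card_sub, card_sub, hspan1, hW, pow_one] at h2
    simp only
    omega
  simp only [hc]
  rw [Finset.sum_const, Finset.card_univ, smul_eq_mul, Nat.card_eq_fintype_card]

/-- Second double count. -/
theorem card_all_mul (g : V → V → F) (L : ℕ) (hL : ∀ v : V, v ≠ 0 → g v v = 0 → Nat.card (Lines g v) = L) :
    Nat.card (All g) * (Fintype.card F ^ 2 - 1) = Nat.card {v : V // v ≠ 0 ∧ g v v = 0} * L := by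
  classical
  haveI : FiniteDimensional F V := Module.Finite.of_finite
  haveI : Finite (Submodule F V) := by
    exact Finite.of_injective (fun W : Submodule F V => (W : Set V)) SetLike.coe_injective
  haveI : Finite (All g) := by
    unfold All
    infer_instance
  haveI : Fintype (All g) := Fintype.ofFinite _
  haveI : Fintype {v : V // v ≠ 0 ∧ g v v = 0} := Fintype.ofFinite _
  haveI hL' : ∀ v, Finite (Lines g v) := by
    intro v
    unfold Lines
    infer_instance
  let E : (Σ W : All g, {w : V // w ∈ W.1 ∧ w ≠ 0}) ≃ Σ v : {v : V // v ≠ 0 ∧ g v v = 0}, Lines g v.1 :=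
    { toFun := fun x => ⟨⟨x.2.1, x.2.2.2, x.1.2.2 _ x.2.2.1 _ x.2.2.1⟩, ⟨x.1.1, x.1.2.1, x.2.2.1, x.1.2.2⟩⟩
      invFun := fun x => ⟨⟨x.2.1, x.2.2.1, x.2.2.2.2⟩, x.1.1, x.2.2.2.1, x.1.2.1⟩
      left_inv := fun x => rfl
      right_inv := fun x => rfl }
  have hc : ∀ W : All g, Nat.card {w : V // w ∈ W.1 ∧ w ≠ 0} = Fintype.card F ^ 2 - 1 := by
    rintro ⟨W, hW, hTI⟩
    have h2 := card_diff (S := ⊥) (W := W) bot_le
    rw [card_sub, card_sub, finrank_bot, hW, pow_zero] at h2
    have e : Nat.card {w : V // w ∈ W ∧ w ≠ 0} = Nat.card {w : V // w ∈ W ∧ w ∉ (⊥ : Submodule F V)} := by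
      apply Nat.card_congr
      apply Equiv.subtypeEquivRight
      intro x
      simp
    simp only
    rw [e]
    omega
  have h1 := Nat.card_congr E
  rw [Nat.card_sigma, Nat.card_sigma] at h1
  simp only [hc] at h1
  rw [Finset.sum_const, Finset.card_univ, smul_eq_mul, ← Nat.card_eq_fintype_card] at h1
  rw [h1]
  have h3 : ∀ x : {v : V // v ≠ 0 ∧ g v v = 0}, Nat.card (Lines g x.1) = L := fun x => hL x.1 x.2.1 x.2.2
  simp only [h3]
  rw [Finset.sum_const, Finset.card_univ, smul_eq_mul, Nat.card_eq_fintype_card]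

end Cfsg.Agent.Lib.TICount
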