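import Cfsg.Agent.Lib.HermBasic
import Cfsg.Agent.Lib.HermCount
import Cfsg.Agent.Lib.HermForm
import Cfsg.Agent.Lib.FormVec
import Cfsg.Agent.Lib.SympOrder
import Cfsg.Prelude.Def_LieClassical

set_option autoImplicit false

namespace Cfsg.Agent.Lib.UnitBasic

open Matrix Cfsg Cfsg.Agent.Lib.HermStd Cfsg.Agent.Lib.HermForm Cfsg.Agent.Lib.HermCount Cfsg.Agent.Lib.HermBasic Cfsg.Agent.Lib.FormVec

variable {F : Type*} [Field F] [Fintype F] {q : ℕ}

/-- The form as a sesquilinear map. -/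
noncomputable def Bh (hF : Fintype.card F = q ^ 2) (n : ℕ) : (Fin n → F) →ₛₗ[sig hF] (Fin n → F) →ₗ[F] F :=
  LinearMap.mk₂'ₛₗ (sig hF) (RingHom.id F) (fun u v => hermForm n F q v u)
    (fun u u' v => hf_add_right hF v u u')
    (fun c u v => by
      show hermForm n F q v (c • u) = sig hF c * hermForm n F q v u
      rw [hf_smul_right hF, sig_apply])
    (fun u v v' => hf_add_left v v' u)
    (fun c u v => hf_smul_left c v u)

@[simp] theorem Bh_apply (hF : Fintype.card F = q ^ 2) {n : ℕ} (u v : Fin n → F) :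
    Bh hF n u v = hermForm n F q v u := rfl

theorem Bh_symm (hF : Fintype.card F = q ^ 2) (n : ℕ) : (Bh hF n).IsSymm := by
  refine ⟨fun x y => ?_⟩
  show sig hF (hermForm n F q y x) = hermForm n F q x y
  rw [sig_apply, ← hf_conj hF]

theorem Bh_nondeg (hF : Fintype.card F = q ^ 2) (n : ℕ) : (Bh hF n).Nondegenerate := by
  constructor
  · intro x hx
    by_contra h0
    obtain ⟨y, hy⟩ := hf_nondeg_left hF h0
    exact hy (hx y)
  · intro y hy
    by_contra h0
    obtain ⟨x, hx⟩ := hf_nondeg_right hF h0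
    exact hx (hy x)

theorem mem_GU_iff {n : ℕ} (g : GL (Fin n) F) : g ∈ GU n F q ↔
    ∀ u v, hermForm n F q ((g : Matrix (Fin n) (Fin n) F) *ᵥ u) ((g : Matrix (Fin n) (Fin n) F) *ᵥ v) = hermForm n F q u v := Iff.rfl

/-- Witt's lemma in vector form. -/
theorem witt {n : ℕ} (hF : Fintype.card F = q ^ 2) (X : Submodule F (Fin n → F)) (φ : X →ₗ[F] (Fin n → F))
    (hinj : Function.Injective φ) (hφ : ∀ x x' : X, hermForm n F q (φ x) (φ x') = hermForm n F q (x : Fin n → F) x') :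
    ∃ g : GL (Fin n) F, g ∈ GU n F q ∧ ∀ x : X, (g : Matrix (Fin n) (Fin n) F) *ᵥ (x : Fin n → F) = φ x := by
  obtain ⟨E, hE1, hE2⟩ := witt_herm (sig_ne hF) (sig_sig hF) (Bh_symm hF n) (Bh_nondeg hF n) X φ hinj
    (fun x x' => hφ x' x)
  refine ⟨glOf E, ?_, ?_⟩
  · rw [mem_GU_iff]
    intro u v
    rw [glOf_mulVec, glOf_mulVec]
    exact hE1 v u
  · intro x
    rw [glOf_mulVec]
    exact hE2 x

/-- Transitivity of `GU` on vectors of given norm. -/
theorem exists_isom {n : ℕ} (hF : Fintype.card F = q ^ 2) {u v : Fin n → F} (h : hermForm n F q u u = hermForm n F q v v)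
    (hu : u ≠ 0) (hv : v ≠ 0) : ∃ g : GL (Fin n) F, g ∈ GU n F q ∧ (g : Matrix (Fin n) (Fin n) F) *ᵥ u = v := by
  let e := LinearEquiv.toSpanNonzeroSingleton F (Fin n → F) u hu
  let φ : (Submodule.span F {u} : Submodule F (Fin n → F)) →ₗ[F] (Fin n → F) :=
    (LinearMap.toSpanSingleton F (Fin n → F) v).comp e.symm.toLinearMap
  have hφu : ∀ x, φ (e x) = x • v := by
    intro x
    show (LinearMap.toSpanSingleton F (Fin n → F) v) (e.symm (e x)) = x • v
    rw [LinearEquiv.symm_apply_apply]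
    rfl
  have hinj : Function.Injective φ := by
    intro x y hxy
    obtain ⟨a, rfl⟩ := e.surjective x
    obtain ⟨b, rfl⟩ := e.surjective y
    rw [hφu, hφu] at hxy
    have : a = b := smul_left_injective F hv hxy
    rw [this]
  have he : ∀ a : F, ((e a : (Submodule.span F {u} : Submodule F (Fin n → F))) : Fin n → F) = a • u := fun a => rfl
  have hφ : ∀ x x', hermForm n F q (φ x) (φ x') = hermForm n F q ((x : (Submodule.span F {u} : Submodule F (Fin n → F))) : Fin n → F) x' := by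
    intro x x'
    obtain ⟨a, rfl⟩ := e.surjective x
    obtain ⟨b, rfl⟩ := e.surjective x'
    rw [hφu, hφu, he, he, hf_smul_left, hf_smul_left, hf_smul_right hF, hf_smul_right hF, h]
  obtain ⟨g, hg1, hg2⟩ := witt hF _ φ hinj hφ
  refine ⟨g, hg1, ?_⟩
  have h1 := hg2 (e 1)
  rw [hφu, one_smul, he, one_smul] at h1
  exact h1

/-! ### The block embedding -/

/-- The block matrix `1 ⊕ a`. -/
def M1 {n : ℕ} (a : Matrix (Fin n) (Fin n) F) : Matrix (Fin (n + 1)) (Fin (n + 1)) F :=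
  Matrix.of fun i j => Fin.cases (Fin.cases 1 (fun _ => 0) j) (fun i' => Fin.cases 0 (fun j' => a i' j') j) i

@[simp] theorem M1_zero_zero {n : ℕ} (a : Matrix (Fin n) (Fin n) F) : M1 a 0 0 = 1 := rfl
@[simp] theorem M1_zero_succ {n : ℕ} (a : Matrix (Fin n) (Fin n) F) (j : Fin n) : M1 a 0 j.succ = 0 := rfl
@[simp] theorem M1_succ_zero {n : ℕ} (a : Matrix (Fin n) (Fin n) F) (i : Fin n) : M1 a i.succ 0 = 0 := rfl
@[simp] theorem M1_succ_succ {n : ℕ} (a : Matrix (Fin n) (Fin n) F) (i j : Fin n) : M1 a i.succ j.succ = a i j := rfl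

theorem M1_mul {n : ℕ} (a b : Matrix (Fin n) (Fin n) F) : M1 a * M1 b = M1 (a * b) := by
  ext i j
  refine Fin.cases ?_ (fun i' => ?_) i <;> refine Fin.cases ?_ (fun j' => ?_) j <;>
    simp [Matrix.mul_apply, Fin.sum_univ_succ]

theorem M1_one {n : ℕ} : M1 (1 : Matrix (Fin n) (Fin n) F) = 1 := by
  ext i j
  refine Fin.cases ?_ (fun i' => ?_) i <;> refine Fin.cases ?_ (fun j' => ?_) j <;>
    simp [Matrix.one_apply, Fin.succ_ne_zero, (Fin.succ_ne_zero _).symm]

theorem M1_mulVec {n : ℕ} (a : Matrix (Fin n) (Fin n) F) (v : Fin (n + 1) → F) :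
    M1 a *ᵥ v = Fin.cons (v 0) (a *ᵥ (Fin.tail v)) := by
  ext i
  refine Fin.cases ?_ (fun i' => ?_) i
  · simp [Matrix.mulVec, dotProduct, Fin.sum_univ_succ]
  · simp [Matrix.mulVec, dotProduct, Fin.sum_univ_succ, Fin.tail]

/-- The block element of `GL`. -/
def GM {n : ℕ} (g : GL (Fin n) F) : GL (Fin (n + 1)) F where
  val := M1 (g : Matrix (Fin n) (Fin n) F)
  inv := M1 ((g⁻¹ : GL (Fin n) F) : Matrix (Fin n) (Fin n) F)
  val_inv := by
    rw [M1_mul, ← Units.val_mul, mul_inv_cancel, Units.val_one, M1_one]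
  inv_val := by
    rw [M1_mul, ← Units.val_mul, inv_mul_cancel, Units.val_one, M1_one]

theorem GM_mem {n : ℕ} {g : GL (Fin n) F} (hg : g ∈ GU n F q) : GM g ∈ GU (n + 1) F q := by
  rw [mem_GU_iff] at hg ⊢
  intro u v
  show hermForm (n + 1) F q (M1 (g : Matrix (Fin n) (Fin n) F) *ᵥ u) (M1 (g : Matrix (Fin n) (Fin n) F) *ᵥ v) = _
  rw [M1_mulVec, M1_mulVec]
  simp only [hermForm, Fin.sum_univ_succ, Fin.cons_zero, Fin.cons_succ]
  congr 1
  exact hg _ _

/-- The first unit vector. -/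
def e0 (n : ℕ) : Fin (n + 1) → F := Pi.single 0 1

theorem herm_e0 {n : ℕ} : hermForm (n + 1) F q (e0 n) (e0 n) = 1 := by
  classical
  simp [hermForm, e0, Pi.single_apply, Fin.sum_univ_succ, Fin.succ_ne_zero]

theorem e0_ne {n : ℕ} : (e0 n : Fin (n + 1) → F) ≠ 0 := by
  intro h
  have := congrFun h 0
  simp [e0] at this

theorem herm_right_e0 (hF : Fintype.card F = q ^ 2) {n : ℕ} (x : Fin (n + 1) → F) : hermForm (n + 1) F q x (e0 n) = x 0 := by
  unfold e0
  rw [hf_single_right hF]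

/-- The stabiliser of the first unit vector. -/
def Stab (n : ℕ) (F : Type*) [Field F] (q : ℕ) : Subgroup ↥(GU (n + 1) F q) where
  carrier := {g | ((g : GL (Fin (n + 1)) F) : Matrix (Fin (n + 1)) (Fin (n + 1)) F) *ᵥ (Pi.single 0 1) = Pi.single 0 1}
  one_mem' := by
    show ((1 : GL (Fin (n + 1)) F) : Matrix (Fin (n + 1)) (Fin (n + 1)) F) *ᵥ _ = _
    rw [Units.val_one, Matrix.one_mulVec]
  mul_mem' := by
    intro a b ha hb
    show ((a : GL (Fin (n + 1)) F) * (b : GL (Fin (n + 1)) F)).1 *ᵥ _ = _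
    rw [Units.val_mul, ← Matrix.mulVec_mulVec]
    have ha' : ((a : GL (Fin (n + 1)) F) : Matrix (Fin (n + 1)) (Fin (n + 1)) F) *ᵥ (Pi.single 0 1) = Pi.single 0 1 := ha
    have hb' : ((b : GL (Fin (n + 1)) F) : Matrix (Fin (n + 1)) (Fin (n + 1)) F) *ᵥ (Pi.single 0 1) = Pi.single 0 1 := hb
    rw [hb', ha']
  inv_mem' := by
    intro a ha
    have ha' : ((a : GL (Fin (n + 1)) F) : Matrix (Fin (n + 1)) (Fin (n + 1)) F) *ᵥ (Pi.single 0 1) = Pi.single 0 1 := ha
    show (((a : GL (Fin (n + 1)) F)⁻¹ : GL (Fin (n + 1)) F) : Matrix (Fin (n + 1)) (Fin (n + 1)) F) *ᵥ _ = _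
    conv_lhs => rw [← ha']
    rw [Matrix.mulVec_mulVec, ← Units.val_mul, inv_mul_cancel, Units.val_one, Matrix.one_mulVec]

theorem M1_mem_stab {n : ℕ} (g : GL (Fin n) F) : M1 (g : Matrix (Fin n) (Fin n) F) *ᵥ (Pi.single 0 1) = Pi.single 0 1 := by
  rw [M1_mulVec]
  ext i
  refine Fin.cases ?_ (fun i' => ?_) i
  · simp
  · have : Fin.tail (Pi.single 0 1 : Fin (n + 1) → F) = 0 := by
      funext x
      simp [Fin.tail, Fin.succ_ne_zero]
    simp [this, Fin.succ_ne_zero]

/-- The stabiliser is a copy of `GU_n`. -/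
theorem card_stab (hF : Fintype.card F = q ^ 2) (n : ℕ) : Nat.card (Stab n F q) = Nat.card (GU n F q) := by
  symm
  apply Nat.card_congr
  refine Equiv.ofBijective (fun g : GU n F q => (⟨⟨GM g.1, GM_mem g.2⟩, M1_mem_stab g.1⟩ : Stab n F q)) ⟨?_, ?_⟩
  · intro a b hab
    have h1 : M1 ((a.1 : GL (Fin n) F) : Matrix (Fin n) (Fin n) F) = M1 ((b.1 : GL (Fin n) F) : Matrix (Fin n) (Fin n) F) :=
      congrArg (fun y : Stab n F q => (((y.1 : GL (Fin (n + 1)) F)) : Matrix (Fin (n + 1)) (Fin (n + 1)) F)) hab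
    apply Subtype.ext
    apply Units.ext
    ext i j
    exact congrFun (congrFun h1 i.succ) j.succ
  · rintro ⟨⟨g, hg⟩, hs⟩
    have hs' : (g : Matrix (Fin (n + 1)) (Fin (n + 1)) F) *ᵥ (Pi.single 0 1) = Pi.single 0 1 := hs
    have hsinv : ((g⁻¹ : GL (Fin (n + 1)) F) : Matrix (Fin (n + 1)) (Fin (n + 1)) F) *ᵥ (Pi.single 0 1) = Pi.single 0 1 := by
      conv_lhs => rw [← hs']
      rw [Matrix.mulVec_mulVec, ← Units.val_mul, inv_mul_cancel, Units.val_one, Matrix.one_mulVec]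
    have hcol : ∀ {y : GL (Fin (n + 1)) F}, (y : Matrix (Fin (n + 1)) (Fin (n + 1)) F) *ᵥ (Pi.single 0 1) = Pi.single 0 1 →
        ∀ i : Fin n, (y : Matrix (Fin (n + 1)) (Fin (n + 1)) F) i.succ 0 = 0 := by
      intro y hy i
      have h1 := congrFun hy i.succ
      rw [Matrix.mulVec_single_one] at h1
      simpa [Fin.succ_ne_zero] using h1
    have hrow : ∀ {y : GL (Fin (n + 1)) F}, y ∈ GU (n + 1) F q → (y : Matrix (Fin (n + 1)) (Fin (n + 1)) F) *ᵥ (Pi.single 0 1) = Pi.single 0 1 →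
        ∀ j : Fin n, (y : Matrix (Fin (n + 1)) (Fin (n + 1)) F) 0 j.succ = 0 := by
      intro y hy hy' j
      have h1 := hy (Pi.single j.succ 1) (Pi.single 0 1)
      simp only [Units.coeHom_apply] at h1
      rw [hy'] at h1
      have h2 := hf_single_right hF (n := n + 1) 0 ((y : Matrix (Fin (n + 1)) (Fin (n + 1)) F) *ᵥ (Pi.single j.succ 1))
      rw [h1, Matrix.mulVec_single_one, hf_single_right hF] at h2
      simpa [Fin.succ_ne_zero] using h2.symm
    have hg0 : (g : Matrix (Fin (n + 1)) (Fin (n + 1)) F) 0 0 = 1 := by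
      have h1 := congrFun hs' 0
      rw [Matrix.mulVec_single_one] at h1
      simpa using h1
    have hginv := (GU (n + 1) F q).inv_mem hg
    let a : Matrix (Fin n) (Fin n) F := fun i j => (g : Matrix (Fin (n + 1)) (Fin (n + 1)) F) i.succ j.succ
    let b : Matrix (Fin n) (Fin n) F := fun i j => ((g⁻¹ : GL (Fin (n + 1)) F) : Matrix (Fin (n + 1)) (Fin (n + 1)) F) i.succ j.succ
    have hab : a * b = 1 := by
      ext i j
      have h1 : ((g : Matrix (Fin (n + 1)) (Fin (n + 1)) F) * ((g⁻¹ : GL (Fin (n + 1)) F) : Matrix (Fin (n + 1)) (Fin (n + 1)) F)) i.succ j.succ = (1 : Matrix (Fin (n + 1)) (Fin (n + 1)) F) i.succ j.succ := by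
        rw [← Units.val_mul, mul_inv_cancel, Units.val_one]
      rw [Matrix.mul_apply, Fin.sum_univ_succ, hcol hs' i, zero_mul, zero_add] at h1
      rw [Matrix.mul_apply]
      simp only [Matrix.one_apply, Fin.succ_inj] at h1 ⊢
      exact h1
    have hba : b * a = 1 := by
      ext i j
      have h1 : (((g⁻¹ : GL (Fin (n + 1)) F) : Matrix (Fin (n + 1)) (Fin (n + 1)) F) * (g : Matrix (Fin (n + 1)) (Fin (n + 1)) F)) i.succ j.succ = (1 : Matrix (Fin (n + 1)) (Fin (n + 1)) F) i.succ j.succ := by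
        rw [← Units.val_mul, inv_mul_cancel, Units.val_one]
      rw [Matrix.mul_apply, Fin.sum_univ_succ, hcol hsinv i, zero_mul, zero_add] at h1
      rw [Matrix.mul_apply]
      simp only [Matrix.one_apply, Fin.succ_inj] at h1 ⊢
      exact h1
    let g' : GL (Fin n) F := ⟨a, b, hab, hba⟩
    have hM : M1 a = (g : Matrix (Fin (n + 1)) (Fin (n + 1)) F) := by
      ext i j
      refine Fin.cases ?_ (fun i' => ?_) i <;> refine Fin.cases ?_ (fun j' => ?_) j
      · simp [hg0]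
      · simp [hrow hg hs']
      · simp [hcol hs']
      · rfl
    have hg' : g' ∈ GU n F q := by
      rw [mem_GU_iff]
      intro u v
      have h1 := hg (Fin.cons 0 u) (Fin.cons 0 v)
      simp only [Units.coeHom_apply] at h1
      rw [← hM, M1_mulVec, M1_mulVec] at h1
      simp only [hermForm, Fin.sum_univ_succ, Fin.cons_zero, Fin.cons_succ, Fin.tail_cons, zero_mul, zero_add] at h1
      exact h1
    refine ⟨⟨g', hg'⟩, ?_⟩
    apply Subtype.ext
    apply Subtype.ext
    apply Units.ext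
    exact hM

/-- Recursion for the order. -/
theorem card_GU_succ (hF : Fintype.card F = q ^ 2) (n : ℕ) :
    Nat.card (GU (n + 1) F q) = (if Even (n + 1) then q ^ n * (q ^ (n + 1) - 1) else q ^ n * (q ^ (n + 1) + 1)) * Nat.card (GU n F q) := by
  classical
  let φ : GU (n + 1) F q → {v : Fin (n + 1) → F // hermForm (n + 1) F q v v = 1} := fun g =>
    ⟨((g : GL (Fin (n + 1)) F) : Matrix (Fin (n + 1)) (Fin (n + 1)) F) *ᵥ (e0 n), by
      have := g.2 (e0 n) (e0 n)
      simp only [Units.coeHom_apply] at this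
      rw [this]
      exact herm_e0⟩
  have hφ : Function.Surjective φ := by
    rintro ⟨v, hv⟩
    have hv0 : v ≠ 0 := by
      rintro rfl
      have : hermForm (n + 1) F q (0 : Fin (n + 1) → F) 0 = 0 := by simp [hermForm]
      rw [this] at hv
      exact zero_ne_one hv
    obtain ⟨g, hg, hgv⟩ := exists_isom hF (u := e0 n) (v := v) (by rw [herm_e0, hv]) e0_ne hv0
    exact ⟨⟨g, hg⟩, Subtype.ext hgv⟩
  have hfib : ∀ a b, φ a = φ b ↔ a⁻¹ * b ∈ Stab n F q := by
    intro a b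
    constructor
    · intro h
      have h1 : ((a : GL (Fin (n + 1)) F) : Matrix (Fin (n + 1)) (Fin (n + 1)) F) *ᵥ (e0 n) = ((b : GL (Fin (n + 1)) F) : Matrix (Fin (n + 1)) (Fin (n + 1)) F) *ᵥ (e0 n) :=
        congrArg Subtype.val h
      show (((a : GL (Fin (n + 1)) F)⁻¹ * (b : GL (Fin (n + 1)) F) : GL (Fin (n + 1)) F) : Matrix (Fin (n + 1)) (Fin (n + 1)) F) *ᵥ _ = _
      rw [Units.val_mul, ← Matrix.mulVec_mulVec]
      show _ *ᵥ (((b : GL (Fin (n + 1)) F) : Matrix (Fin (n + 1)) (Fin (n + 1)) F) *ᵥ (e0 n)) = e0 n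
      rw [← h1, Matrix.mulVec_mulVec, ← Units.val_mul, inv_mul_cancel]
      simp
    · intro h
      have h1 : (((a : GL (Fin (n + 1)) F)⁻¹ * (b : GL (Fin (n + 1)) F) : GL (Fin (n + 1)) F) : Matrix (Fin (n + 1)) (Fin (n + 1)) F) *ᵥ (e0 n) = e0 n := h
      apply Subtype.ext
      show ((a : GL (Fin (n + 1)) F) : Matrix (Fin (n + 1)) (Fin (n + 1)) F) *ᵥ (e0 n) = ((b : GL (Fin (n + 1)) F) : Matrix (Fin (n + 1)) (Fin (n + 1)) F) *ᵥ (e0 n)
      conv_lhs => rw [← h1]
      rw [Matrix.mulVec_mulVec, ← Units.val_mul, mul_inv_cancel_left]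
  have h := Cfsg.Agent.Lib.SympOrder.card_eq_of_fiber (Stab n F q) φ hφ hfib
  rw [h, card_stab hF, card_norm_one hF (n + 1), Nat.add_sub_cancel]

theorem tri_succ (n : ℕ) : (n + 1) * (n + 1 - 1) / 2 = n * (n - 1) / 2 + n := by
  rcases n with _ | m
  · rfl
  · obtain ⟨k, hk⟩ := Nat.even_mul_pred_self (m + 1)
    have h1 : (m + 1) * (m + 1 - 1) / 2 = k := by
      rw [hk]
      omega
    have h2 : (m + 1 + 1) * (m + 1 + 1 - 1) = (m + 1) * (m + 1 - 1) + 2 * (m + 1) := by
      simp only [Nat.add_sub_cancel]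
      ring
    rw [h1, h2, hk]
    omega

/-- The order of `GU`. -/
theorem card_GU (hF : Fintype.card F = q ^ 2) (n : ℕ) :
    Nat.card (GU n F q) = q ^ (n * (n - 1) / 2) * ∏ i ∈ Finset.range n, (if Even i then q ^ (i + 1) + 1 else q ^ (i + 1) - 1) := by
  induction n with
  | zero =>
    simp only [Finset.range_zero, Finset.prod_empty, mul_one]
    have : Subsingleton (GU 0 F q) := by
      constructor
      intro a b
      apply Subtype.ext
      apply Units.ext
      ext i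
      exact i.elim0
    rw [Nat.card_unique]
    rfl
  | succ n ih =>
    rw [card_GU_succ hF, ih, tri_succ, Finset.prod_range_succ, pow_add]
    by_cases h : Even n
    · have h1 : ¬ Even (n + 1) := by
        rw [Nat.even_add_one]
        exact not_not.2 h
      rw [if_neg h1, if_pos h]
      ring
    · have h1 : Even (n + 1) := by
        rw [Nat.even_add_one]
        exact h
      rw [if_pos h1, if_neg h]
      ring

end Cfsg.Agent.Lib.UnitBasic
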