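import Cfsg.Agent.Lib.SUCenter
import Cfsg.Agent.Lib.TICount

set_option autoImplicit false

namespace Cfsg.Agent.Lib.UnitCount

open Matrix Cfsg Cfsg.Agent.Lib.HermStd Cfsg.Agent.Lib.HermForm Cfsg.Agent.Lib.HermCount Cfsg.Agent.Lib.HermBasic Cfsg.Agent.Lib.UnitBasic Cfsg.Agent.Lib.SUBasic Cfsg.Agent.Lib.SUCenter Cfsg.Agent.Lib.TICount

variable {F : Type*} [Field F] [Fintype F] {q n : ℕ}

theorem hspan (hF : Fintype.card F = q ^ 2) : HSpan (hermForm n F q) := by
  intro v w hvv hvw hwv hww x hx y hy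
  obtain ⟨a, b, rfl⟩ := Submodule.mem_span_pair.1 hx
  obtain ⟨c, d, rfl⟩ := Submodule.mem_span_pair.1 hy
  simp only [hf_add_left, hf_add_right hF, hf_smul_left, hf_smul_right hF, hvv, hvw, hwv, hww]
  ring

/-- The isotropic vector `(1, a, 0, ...)`. -/
def vv (a : F) (m : ℕ) : Fin (m + 2) → F := Fin.cons 1 (Fin.cons a 0)

theorem herm_cons (m : ℕ) (x y : F) (u v : Fin m → F) :
    hermForm (m + 1) F q (Fin.cons x u) (Fin.cons y v) = x * y ^ q + hermForm m F q u v := by
  simp [hermForm, Fin.sum_univ_succ]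

theorem herm_zero (m : ℕ) (u : Fin m → F) (hq : q ≠ 0) : hermForm m F q u 0 = 0 := by
  simp [hermForm, zero_pow hq]

theorem eq_cons2 (m : ℕ) (w : Fin (m + 2) → F) : w = Fin.cons (w 0) (Fin.cons (w 1) (Fin.tail (Fin.tail w))) := by
  funext i
  refine Fin.cases ?_ (fun i' => ?_) i
  · simp
  · refine Fin.cases ?_ (fun i'' => ?_) i'
    · simp
    · simp [Fin.tail]

theorem herm_vv_right (hF : Fintype.card F = q ^ 2) (a : F) (m : ℕ) (w : Fin (m + 2) → F) :
    hermForm (m + 2) F q w (vv a m) = w 0 + w 1 * a ^ q := by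
  have hq := one_lt_q hF
  conv_lhs => rw [eq_cons2 m w, vv, herm_cons, herm_cons, herm_zero _ _ (by omega)]
  simp

theorem herm_vv_self (hF : Fintype.card F = q ^ 2) {a : F} (ha : a * a ^ q = -1) (m : ℕ) :
    hermForm (m + 2) F q (vv a m) (vv a m) = 0 := by
  rw [herm_vv_right hF]
  simp [vv]
  linear_combination ha

theorem vv_ne (a : F) (m : ℕ) : vv a m ≠ 0 := by
  intro h
  have := congrFun h 0
  simp [vv] at this

/-- The isotropic vectors of a `vv`-perp: a product. -/
theorem card_S0 (hF : Fintype.card F = q ^ 2) {a : F} (ha : a * a ^ q = -1) (m : ℕ) :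
    Nat.card {w : Fin (m + 2) → F // hermForm (m + 2) F q w (vv a m) = 0 ∧ hermForm (m + 2) F q w w = 0} =
      q ^ 2 * Nat.card {v : Fin m → F // hermForm m F q v v = 0} := by
  classical
  have hq := one_lt_q hF
  have hn : ∀ s : F, (-(s * a ^ q)) * (-(s * a ^ q)) ^ q + s * s ^ q = 0 := by
    intro s
    have h1 : (a ^ q) ^ q = a := by
      rw [← pow_mul, ← sq, ← hF, FiniteField.pow_card]
    have h2 : (-(s * a ^ q)) ^ q = - (s ^ q * a) := by
      rw [← sig_apply hF, map_neg, map_mul, sig_apply, sig_apply, h1]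
    rw [h2]
    linear_combination (s * s ^ q) * ha
  have hself : ∀ (m : ℕ) (x y : F) (v : Fin m → F), hermForm (m + 2) F q (Fin.cons x (Fin.cons y v)) (Fin.cons x (Fin.cons y v)) =
      x * x ^ q + (y * y ^ q + hermForm m F q v v) := by
    intro m x y v
    rw [herm_cons, herm_cons]
  let E : {w : Fin (m + 2) → F // hermForm (m + 2) F q w (vv a m) = 0 ∧ hermForm (m + 2) F q w w = 0} ≃
      F × {v : Fin m → F // hermForm m F q v v = 0} :=
    { toFun := fun w => (w.1 1, ⟨Fin.tail (Fin.tail w.1), by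
        have h1 := w.2.1
        have h2 := w.2.2
        rw [herm_vv_right hF] at h1
        have h3 : w.1 0 = -(w.1 1 * a ^ q) := by linear_combination h1
        rw [eq_cons2 m w.1, hself, h3] at h2
        have h5 := hn (w.1 1)
        linear_combination h2 - h5⟩)
      invFun := fun x => ⟨Fin.cons (-(x.1 * a ^ q)) (Fin.cons x.1 x.2.1), by
        constructor
        · rw [herm_vv_right hF]
          simp
        · rw [hself, x.2.2]
          have h5 := hn x.1
          linear_combination h5⟩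
      left_inv := by
        rintro ⟨w, h1, h2⟩
        apply Subtype.ext
        rw [herm_vv_right hF] at h1
        have h3 : w 0 = -(w 1 * a ^ q) := by linear_combination h1
        show (Fin.cons (-(w 1 * a ^ q)) (Fin.cons (w 1) (Fin.tail (Fin.tail w))) : Fin (m + 2) → F) = w
        rw [← h3]
        exact (eq_cons2 m w).symm
      right_inv := by
        rintro ⟨s, v, hv⟩
        apply Prod.ext
        · rfl
        · apply Subtype.ext
          rfl }
  rw [Nat.card_congr E, Nat.card_prod, Nat.card_eq_fintype_card, hF]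

/-- Number of collinear points of `vv`. -/
theorem card_coll_vv (hF : Fintype.card F = q ^ 2) {a : F} (ha : a * a ^ q = -1) (m : ℕ) :
    Nat.card (Coll (hermForm (m + 2) F q) (vv a m)) + q ^ 2 =
      q ^ 2 * Nat.card {v : Fin m → F // hermForm m F q v v = 0} := by
  classical
  rw [← card_S0 hF ha m]
  have hv0 := vv_ne a m
  have hself := herm_vv_self hF ha m
  let S := {w : Fin (m + 2) → F // hermForm (m + 2) F q w (vv a m) = 0 ∧ hermForm (m + 2) F q w w = 0}
  let P : S → Prop := fun x => x.1 ∉ Submodule.span F {vv a m}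
  have e1 : Nat.card {x : S // P x} = Nat.card (Coll (hermForm (m + 2) F q) (vv a m)) := by
    apply Nat.card_congr
    exact { toFun := fun x => ⟨x.1.1, by
              rw [hf_conj hF]
              rw [x.1.2.1]
              rw [zero_pow (by have := one_lt_q hF; omega)], x.1.2.1, x.1.2.2, x.2⟩
            invFun := fun x => ⟨⟨x.1, x.2.2.1, x.2.2.2.1⟩, x.2.2.2.2⟩
            left_inv := fun x => rfl
            right_inv := fun x => rfl }
  have e2 : Nat.card {x : S // ¬ P x} = q ^ 2 := by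
    have : Nat.card {x : S // ¬ P x} = Nat.card (Submodule.span F {vv a m}) := by
      apply Nat.card_congr
      exact { toFun := fun x => ⟨x.1.1, not_not.1 x.2⟩
              invFun := fun x => ⟨⟨x.1, by
                  obtain ⟨k, hk⟩ := Submodule.mem_span_singleton.1 x.2
                  rw [← hk, hf_smul_left, hself]
                  simp, by
                  obtain ⟨k, hk⟩ := Submodule.mem_span_singleton.1 x.2
                  rw [← hk, hf_smul_left, hf_smul_right hF, hself]
                  simp⟩, not_not.2 x.2⟩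
              left_inv := fun x => rfl
              right_inv := fun x => rfl }
    rw [this, card_sub, finrank_span_singleton hv0, pow_one, hF]
  have e3 := Nat.card_congr (Equiv.sumCompl P)
  rw [Nat.card_sum, e1, e2] at e3
  exact e3

theorem card_lines_vv (hF : Fintype.card F = q ^ 2) {a : F} (ha : a * a ^ q = -1) (m : ℕ) :
    Nat.card (Lines (hermForm (m + 2) F q) (vv a m)) * (q ^ 2 - 1) + 1 =
      Nat.card {v : Fin m → F // hermForm m F q v v = 0} := by
  have hq := one_lt_q hF
  have h1 := card_lines_mul (hermForm (m + 2) F q) (hspan hF) (vv_ne a m) (herm_vv_self hF ha m)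
  have h2 := card_coll_vv hF ha m
  rw [← h1, hF] at h2
  have hq2 : 0 < q ^ 2 := by positivity
  have h3 : (q ^ 2) ^ 2 - q ^ 2 = q ^ 2 * (q ^ 2 - 1) := by
    rw [Nat.mul_sub, mul_one, sq (q ^ 2)]
  rw [h3] at h2
  apply Nat.eq_of_mul_eq_mul_left hq2
  rw [← h2]
  ring

/-- The bijection of vectors given by a matrix. -/
def mv {m : ℕ} (g : GL (Fin m) F) : (Fin m → F) ≃ (Fin m → F) where
  toFun x := (g : Matrix (Fin m) (Fin m) F) *ᵥ x
  invFun x := ((g⁻¹ : GL (Fin m) F) : Matrix (Fin m) (Fin m) F) *ᵥ x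
  left_inv x := by
    simp only
    rw [Matrix.mulVec_mulVec, ← Units.val_mul, inv_mul_cancel, Units.val_one, Matrix.one_mulVec]
  right_inv x := by
    simp only
    rw [Matrix.mulVec_mulVec, ← Units.val_mul, mul_inv_cancel, Units.val_one, Matrix.one_mulVec]

/-- Transport of collinear points. -/
theorem coll_transport {m : ℕ} {v v' : Fin m → F} {g : GL (Fin m) F} (hg : g ∈ GU m F q)
    (hgv : (g : Matrix (Fin m) (Fin m) F) *ᵥ v = v') :
    Nat.card (Coll (hermForm m F q) v) = Nat.card (Coll (hermForm m F q) v') := by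
  apply Nat.card_congr
  unfold Coll
  refine Equiv.subtypeEquiv (mv g) ?_
  intro w
  have hg' := (mem_GU_iff g).1 hg
  show _ ↔ hermForm m F q v' ((g : Matrix (Fin m) (Fin m) F) *ᵥ w) = 0 ∧ hermForm m F q ((g : Matrix (Fin m) (Fin m) F) *ᵥ w) v' = 0 ∧
    hermForm m F q ((g : Matrix (Fin m) (Fin m) F) *ᵥ w) ((g : Matrix (Fin m) (Fin m) F) *ᵥ w) = 0 ∧ (g : Matrix (Fin m) (Fin m) F) *ᵥ w ∉ Submodule.span F {v'}
  rw [← hgv, hg', hg', hg']
  have hspan : (g : Matrix (Fin m) (Fin m) F) *ᵥ w ∈ Submodule.span F {(g : Matrix (Fin m) (Fin m) F) *ᵥ v} ↔ w ∈ Submodule.span F {v} := by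
    rw [Submodule.mem_span_singleton, Submodule.mem_span_singleton]
    constructor
    · rintro ⟨k, hk⟩
      refine ⟨k, ?_⟩
      apply (mv g).injective
      show (g : Matrix (Fin m) (Fin m) F) *ᵥ (k • v) = (g : Matrix (Fin m) (Fin m) F) *ᵥ w
      rw [Matrix.mulVec_smul, hk]
    · rintro ⟨k, hk⟩
      refine ⟨k, ?_⟩
      rw [← hk, Matrix.mulVec_smul]
  rw [hspan]

/-- The number of lines on a point. -/
theorem card_lines (hF : Fintype.card F = q ^ 2) {a : F} (ha : a * a ^ q = -1) (m : ℕ) {v : Fin (m + 2) → F} (hv0 : v ≠ 0)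
    (hv : hermForm (m + 2) F q v v = 0) :
    Nat.card (Lines (hermForm (m + 2) F q) v) = Nat.card (Lines (hermForm (m + 2) F q) (vv a m)) := by
  have hq := one_lt_q hF
  obtain ⟨g, hg, hgv⟩ := exists_isom hF (u := v) (v := vv a m) (by rw [hv, herm_vv_self hF ha]) hv0 (vv_ne a m)
  have h1 := card_lines_mul (hermForm (m + 2) F q) (hspan hF) hv0 hv
  have h2 := card_lines_mul (hermForm (m + 2) F q) (hspan hF) (vv_ne a m) (herm_vv_self hF ha m)
  rw [coll_transport hg hgv, ← h2, hF] at h1
  have hpos : 0 < (q ^ 2) ^ 2 - q ^ 2 := by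
    have h3 : (q ^ 2) ^ 2 = q ^ 2 * q ^ 2 := sq _
    have h5 : 2 * 2 ≤ q ^ 2 := by nlinarith
    have h6 : 2 * q ^ 2 ≤ q ^ 2 * q ^ 2 := Nat.mul_le_mul_right _ (by omega)
    omega
  exact Nat.eq_of_mul_eq_mul_right hpos h1

/-- Existence of `a` with norm `-1`. -/
theorem exists_a (hF : Fintype.card F = q ^ 2) : ∃ a : F, a * a ^ q = -1 := by
  obtain ⟨a, b, -, -, -, ha, -⟩ := exists_pair_iso hF
  exact ⟨a, ha⟩

/-- The final count for the number of totally isotropic lines. -/
theorem card_all (hF : Fintype.card F = q ^ 2) (m : ℕ) :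
    Nat.card (All (hermForm (m + 2) F q)) * (q ^ 4 - 1) * (q ^ 2 - 1) =
      (Nat.card {v : Fin (m + 2) → F // hermForm (m + 2) F q v v = 0} - 1) *
      (Nat.card {v : Fin m → F // hermForm m F q v v = 0} - 1) := by
  classical
  obtain ⟨a, ha⟩ := exists_a hF
  have h1 := card_all_mul (hermForm (m + 2) F q) (Nat.card (Lines (hermForm (m + 2) F q) (vv a m)))
    (fun v hv0 hv => card_lines hF ha m hv0 hv)
  have h2 := card_lines_vv hF ha m
  rw [hF] at h1
  have e1 : (q ^ 2) ^ 2 - 1 = q ^ 4 - 1 := by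
    rw [← pow_mul]
  rw [e1] at h1
  rw [h1]
  have h3 : Nat.card {v : Fin (m + 2) → F // v ≠ 0 ∧ hermForm (m + 2) F q v v = 0} = Nat.card {v : Fin (m + 2) → F // hermForm (m + 2) F q v v = 0} - 1 := by
    have h5 := Nat.card_congr (Equiv.sumCompl (fun x : {v : Fin (m + 2) → F // hermForm (m + 2) F q v v = 0} => x.1 ≠ 0))
    rw [Nat.card_sum] at h5
    have h6 : Nat.card {x : {v : Fin (m + 2) → F // hermForm (m + 2) F q v v = 0} // ¬ x.1 ≠ 0} = 1 := by
      rw [Nat.card_eq_one_iff_unique]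
      refine ⟨⟨?_⟩, ⟨⟨0, by simp [hermForm, zero_pow (show q ≠ 0 by have := one_lt_q hF; omega)]⟩, by simp⟩⟩
      rintro ⟨⟨x, hx⟩, hx0⟩ ⟨⟨y, hy⟩, hy0⟩
      simp only [ne_eq, not_not] at hx0 hy0
      subst hx0
      subst hy0
      rfl
    have h7 : Nat.card {x : {v : Fin (m + 2) → F // hermForm (m + 2) F q v v = 0} // x.1 ≠ 0} = Nat.card {v : Fin (m + 2) → F // v ≠ 0 ∧ hermForm (m + 2) F q v v = 0} := by
      apply Nat.card_congr
      exact { toFun := fun x => ⟨x.1.1, x.2, x.1.2⟩
              invFun := fun x => ⟨⟨x.1, x.2.2⟩, x.2.1⟩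
              left_inv := fun x => rfl
              right_inv := fun x => rfl }
    rw [h6, h7] at h5
    omega
  rw [h3]
  have h5 : Nat.card {v : Fin m → F // hermForm m F q v v = 0} - 1 = Nat.card (Lines (hermForm (m + 2) F q) (vv a m)) * (q ^ 2 - 1) := by
    rw [← h2]
    rfl
  rw [h5]
  ring

end Cfsg.Agent.Lib.UnitCount
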